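import Groth.Agent.Lib.RootCh58

/-!
# Facets of a root system over an ordered field: structure relative to an adjacent chamber

(helper58.)
-/

set_option autoImplicit false
open RootD RootPairing

namespace Groth.Agent.Lib.RootCh58

open Groth.Agent.Lib.RootDWeyl Groth.Agent.S2953 Groth.Agent.Lib.RootDWord
open Groth.Agent.Lib.RootDZ58 Groth.Agent.Lib.RootDDom58

section Transport

variable {ι R M N : Type*} [Field R] [CharZero R]
  [AddCommGroup M] [Module R M] [AddCommGroup N] [Module R N] [Finite ι]
  (P : RootPairing ι R M N) [P.IsCrystallographic] [P.IsRootSystem] [P.IsReduced]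

/-- Transport of a base along an automorphism of the root system. -/
theorem exists_base_image (b : P.Base) (g : P.Aut) :
    ∃ b' : P.Base, (b'.support : Set ι) = (fun i : ι => g • i) '' (b.support : Set ι) := by
  have hli : LinearIndepOn R P.root ((fun i : ι => g • i) '' (b.support : Set ι)) := by
    apply LinearIndepOn.image_of_comp
    have h1 := b.linearIndepOn_root.map_injOn (RootPairing.Equiv.weightHom P g).toLinearMap
      ((RootPairing.Equiv.weightHom P g).injective.injOn)
    refine h1.congr ?_
    intro i _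
    simp only [Function.comp_apply]
    exact (RootPairing.Equiv.root_indexEquiv_eq_smul P i g).symm
  have hcl : ∀ x : M, x ∈ AddSubmonoid.closure (P.root '' (b.support : Set ι)) →
      g • x ∈ AddSubmonoid.closure (P.root '' ((fun i : ι => g • i) '' (b.support : Set ι))) := by
    intro x hx
    induction hx using AddSubmonoid.closure_induction with
    | mem y hy =>
      obtain ⟨i, hi, rfl⟩ := hy
      apply AddSubmonoid.subset_closure
      exact ⟨g • i, ⟨i, hi, rfl⟩, RootPairing.Equiv.root_indexEquiv_eq_smul P i g⟩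
    | zero => rw [smul_zero]; exact zero_mem _
    | add y z _ _ hy hz => rw [smul_add]; exact add_mem hy hz
  have hsp : ∀ k, P.root k ∈ AddSubmonoid.closure (P.root ''
      ((fun i : ι => g • i) '' (b.support : Set ι))) ∨
      -P.root k ∈ AddSubmonoid.closure (P.root '' ((fun i : ι => g • i) '' (b.support : Set ι))) := by
    intro k
    have hk : P.root k = g • P.root (g⁻¹ • k) := by
      have := RootPairing.Equiv.root_indexEquiv_eq_smul P (g⁻¹ • k) g
      rw [← this]
      congr 1
      exact (smul_inv_smul g k).symm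
    rcases b.root_mem_or_neg_mem (g⁻¹ • k) with h | h
    · left; rw [hk]; exact hcl _ h
    · right; rw [hk, ← smul_neg]; exact hcl _ h
  refine ⟨Base.mk' P _ hli hsp, ?_⟩
  simp [Base.mk']

omit [Field R] [CharZero R] [Finite ι] [P.IsCrystallographic] [P.IsRootSystem] [P.IsReduced] in
/-- Words act on indices in the same way for a pairing and its dual. -/
theorem wprod_flip_smul_idx {R' : Type*} [CommRing R'] [Module R' M] [Module R' N]
    (Q : RootPairing ι R' M N) (l : List ι) (i : ι) :
    wprod Q.flip l • i = wprod Q l • i := by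
  induction l with
  | nil => simp
  | cons a l ih =>
    rw [wprod_cons, wprod_cons, mul_smul, mul_smul, ih, smul_idx, smul_idx]
    rfl

end Transport

variable {ι R M N : Type*} [Field R] [LinearOrder R] [IsStrictOrderedRing R]
  [AddCommGroup M] [Module R M] [AddCommGroup N] [Module R N] [Finite ι]
  (P : RootPairing ι R M N) [P.IsCrystallographic] [P.IsRootSystem] [P.IsReduced]

/-- Every vector lies in the closed chamber of some base. -/
theorem exists_base_mem_closedChamber (ξ : M) : ∃ b : P.Base, ξ ∈ RootCh.closedChamber b := by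
  obtain ⟨b₀⟩ := P.nonempty_base
  have hΔ := isSimpleSys_base P b₀
  have hS₀ := isPosSys_posOf (Zf P) hΔ
  obtain ⟨h, hh, hdom⟩ := exists_weyl_dominant (Zf P) hS₀ (pairHom P ξ)
  obtain ⟨l, -, rfl⟩ := exists_list_of_mem (Zf P) hΔ h hh
  obtain ⟨b, hb⟩ := exists_base_image P b₀ (wprod P l)
  refine ⟨b, fun j hj => ?_⟩
  have hj' : j ∈ (b.support : Set ι) := hj
  rw [hb] at hj'
  obtain ⟨i, hi, rfl⟩ := hj'
  have h1 : wprod P l • i = wprod (Zf P) l • i := by
    rw [wprod_smul_idx, wprod_flip_smul_idx]
  simp only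
  rw [h1, ← pairHom_root, root_smul]
  exact hdom i (subset_posOf (Zf P) _ hi)

omit [P.IsRootSystem] [P.IsReduced] in
/-- Expansion of the pairing with a coroot in terms of the pairings with the simple coroots, with
integer coefficients all of the same sign. -/
theorem exists_coroot'_eq_sum (b : P.Base) (i : ι) :
    ∃ f : ι → ℤ, (0 < f ∨ f < 0) ∧
      ∀ ξ : M, P.coroot' i ξ = ∑ j ∈ b.support, (f j : R) * P.coroot' j ξ := by
  obtain ⟨f, -, hf, hsum⟩ := b.flip.exists_root_eq_sum_int i
  refine ⟨f, hf, fun ξ => ?_⟩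
  have h1 : P.coroot i = ∑ j ∈ b.support, f j • P.coroot j := hsum
  show P.toLinearMap ξ (P.coroot i) = _
  rw [h1, map_sum]
  apply Finset.sum_congr rfl
  intro j _
  rw [map_zsmul, zsmul_eq_mul]
  rfl

omit [P.IsRootSystem] [P.IsReduced] in
/-- If `ξ'` vanishes on every simple coroot on which `ξ` vanishes (both in the closed chamber of
`b`) then `ξ'` lies in the closure of the facet of `ξ`. -/
theorem sgnVec_eq_zero_or_of_closedChamber {b : P.Base} {ξ ξ' : M}
    (hξ : ξ ∈ RootCh.closedChamber b) (hξ' : ξ' ∈ RootCh.closedChamber b)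
    (h : ∀ k ∈ b.support, P.coroot' k ξ = 0 → P.coroot' k ξ' = 0) (i : ι) :
    RootCh.sgnVec P ξ' i = 0 ∨ RootCh.sgnVec P ξ' i = RootCh.sgnVec P ξ i := by
  obtain ⟨f, hf, hsum⟩ := exists_coroot'_eq_sum P b i
  unfold RootCh.sgnVec
  rw [hsum ξ, hsum ξ']
  rcases hf with hf | hf
  · -- all coefficients non-negative
    have hf0 : ∀ k, 0 ≤ f k := fun k => (Pi.lt_def.mp hf).1 k
    have hterm' : ∀ k ∈ b.support, 0 ≤ (f k : R) * P.coroot' k ξ' :=
      fun k hk => mul_nonneg (Int.cast_nonneg (hf0 k)) (hξ' k hk)
    have hterm : ∀ k ∈ b.support, 0 ≤ (f k : R) * P.coroot' k ξ :=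
      fun k hk => mul_nonneg (Int.cast_nonneg (hf0 k)) (hξ k hk)
    rcases (Finset.sum_nonneg hterm').lt_or_eq with hpos | hzero
    · right
      obtain ⟨k, hk, hkpos⟩ : ∃ k ∈ b.support, 0 < (f k : R) * P.coroot' k ξ' := by
        by_contra hcon
        push Not at hcon
        have : ∑ j ∈ b.support, (f j : R) * P.coroot' j ξ' ≤ 0 :=
          Finset.sum_nonpos hcon
        exact absurd hpos (not_lt.mpr this)
      have hfk : 0 < (f k : R) := by
        rcases (Int.cast_nonneg (R := R) (hf0 k)).lt_or_eq with h1 | h1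
        · exact h1
        · rw [← h1, zero_mul] at hkpos; exact absurd hkpos (lt_irrefl _)
      have hck' : 0 < P.coroot' k ξ' := by
        rcases (hξ' k hk).lt_or_eq with h1 | h1
        · exact h1
        · rw [← h1, mul_zero] at hkpos; exact absurd hkpos (lt_irrefl _)
      have hck : 0 < P.coroot' k ξ := by
        rcases (hξ k hk).lt_or_eq with h1 | h1
        · exact h1
        · exact absurd (h k hk h1.symm) hck'.ne'
      have hpos2 : 0 < ∑ j ∈ b.support, (f j : R) * P.coroot' j ξ :=
        lt_of_lt_of_le (mul_pos hfk hck) (Finset.single_le_sum hterm hk)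
      rw [sign_pos hpos, sign_pos hpos2]
    · left
      rw [← hzero, sign_zero]
  · -- all coefficients non-positive
    have hf0 : ∀ k, f k ≤ 0 := fun k => (Pi.lt_def.mp hf).1 k
    have hterm' : ∀ k ∈ b.support, (f k : R) * P.coroot' k ξ' ≤ 0 :=
      fun k hk => mul_nonpos_of_nonpos_of_nonneg (Int.cast_nonpos.mpr (hf0 k)) (hξ' k hk)
    have hterm : ∀ k ∈ b.support, (f k : R) * P.coroot' k ξ ≤ 0 :=
      fun k hk => mul_nonpos_of_nonpos_of_nonneg (Int.cast_nonpos.mpr (hf0 k)) (hξ k hk)
    rcases (Finset.sum_nonpos hterm').lt_or_eq with hneg | hzero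
    · right
      obtain ⟨k, hk, hkneg⟩ : ∃ k ∈ b.support, (f k : R) * P.coroot' k ξ' < 0 := by
        by_contra hcon
        push Not at hcon
        have : 0 ≤ ∑ j ∈ b.support, (f j : R) * P.coroot' j ξ' :=
          Finset.sum_nonneg hcon
        exact absurd hneg (not_lt.mpr this)
      have hfk : (f k : R) < 0 := by
        rcases (Int.cast_nonpos (R := R).mpr (hf0 k)).lt_or_eq with h1 | h1
        · exact h1
        · rw [h1, zero_mul] at hkneg; exact absurd hkneg (lt_irrefl _)
      have hck' : 0 < P.coroot' k ξ' := by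
        rcases (hξ' k hk).lt_or_eq with h1 | h1
        · exact h1
        · rw [← h1, mul_zero] at hkneg; exact absurd hkneg (lt_irrefl _)
      have hck : 0 < P.coroot' k ξ := by
        rcases (hξ k hk).lt_or_eq with h1 | h1
        · exact h1
        · exact absurd (h k hk h1.symm) hck'.ne'
      have hneg2 : ∑ j ∈ b.support, (f j : R) * P.coroot' j ξ < 0 := by
        have h1 : ∑ j ∈ b.support, (f j : R) * P.coroot' j ξ ≤ (f k : R) * P.coroot' k ξ := by
          have := Finset.single_le_sum (f := fun j => -((f j : R) * P.coroot' j ξ))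
            (fun j hj => neg_nonneg.mpr (hterm j hj)) hk
          simp only [Finset.sum_neg_distrib] at this
          linarith
        exact lt_of_le_of_lt h1 (mul_neg_of_neg_of_pos hfk hck)
      rw [sign_neg hneg, sign_neg hneg2]
    · left
      rw [hzero, sign_zero]

omit [P.IsRootSystem] [P.IsReduced] in
/-- Two vectors of the closed chamber of `b` vanishing on the same simple coroots lie in the same
facet. -/
theorem sgnVec_eq_of_closedChamber {b : P.Base} {ξ ξ' : M}
    (hξ : ξ ∈ RootCh.closedChamber b) (hξ' : ξ' ∈ RootCh.closedChamber b)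
    (h : ∀ k ∈ b.support, P.coroot' k ξ = 0 ↔ P.coroot' k ξ' = 0) :
    RootCh.sgnVec P ξ' = RootCh.sgnVec P ξ := by
  funext i
  rcases sgnVec_eq_zero_or_of_closedChamber P hξ hξ' (fun k hk => (h k hk).mp) i with h1 | h1
  · rcases sgnVec_eq_zero_or_of_closedChamber P hξ' hξ (fun k hk => (h k hk).mpr) i with h2 | h2
    · rw [h1, h2]
    · rw [h2]
  · exact h1

omit [P.IsRootSystem] [P.IsReduced] [P.IsCrystallographic] [Finite ι] in
/-- A vector in the closure of the facet of a vector `ξ` of the closed chamber of `b` lies in that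
closed chamber and vanishes on the simple coroots on which `ξ` vanishes. -/
theorem mem_closedChamber_of_sgnVec {b : P.Base} {ξ ξ' : M}
    (hξ : ξ ∈ RootCh.closedChamber b)
    (h : ∀ i, RootCh.sgnVec P ξ' i = 0 ∨ RootCh.sgnVec P ξ' i = RootCh.sgnVec P ξ i) :
    ξ' ∈ RootCh.closedChamber b ∧
      ∀ k ∈ b.support, P.coroot' k ξ = 0 → P.coroot' k ξ' = 0 := by
  constructor
  · intro k hk
    have h0 : 0 ≤ RootCh.sgnVec P ξ k := sign_nonneg_iff.mpr (hξ k hk)
    rcases h k with h1 | h1
    · exact (sign_eq_zero_iff.mp h1).ge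
    · rw [← h1] at h0
      exact sign_nonneg_iff.mp h0
  · intro k hk hk0
    have h0 : RootCh.sgnVec P ξ k = 0 := by
      unfold RootCh.sgnVec; rw [hk0, sign_zero]
    rcases h k with h1 | h1
    · exact sign_eq_zero_iff.mp h1
    · rw [h0] at h1
      exact sign_eq_zero_iff.mp h1

omit [LinearOrder R] [IsStrictOrderedRing R] [Finite ι] [P.IsCrystallographic] [P.IsReduced] in
open Classical in
theorem coroot'_fundWeight (b : P.Base) (j k : b.support) :
    P.coroot' j (RootCh.fundWeight b k) = if j = k then 1 else 0 := by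
  split_ifs with h
  · subst h; exact RootCh.coroot'_fundWeight_self b j
  · exact RootCh.coroot'_fundWeight_of_ne b k j h

omit [LinearOrder R] [IsStrictOrderedRing R] [Finite ι] [P.IsCrystallographic] [P.IsReduced] in
theorem coroot'_sum_fundWeight (b : P.Base) (c : b.support → R) (j : b.support) :
    P.coroot' j (∑ k : b.support, c k • RootCh.fundWeight b k) = c j := by
  classical
  rw [map_sum]
  simp only [map_smul, coroot'_fundWeight, smul_eq_mul, mul_ite, mul_one, mul_zero]
  rw [Finset.sum_ite_eq]
  simp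

omit [LinearOrder R] [IsStrictOrderedRing R] [Finite ι] [P.IsCrystallographic] [P.IsReduced] in
/-- Expansion of a vector in the fundamental weights of a base. -/
theorem eq_sum_fundWeight (b : P.Base) (ξ : M) :
    ξ = ∑ k : b.support, P.coroot' k ξ • RootCh.fundWeight b k := by
  rw [← sub_eq_zero]
  apply eq_zero_of_simple_coroot'_eq_zero P b
  intro j hj
  rw [map_sub]
  have := coroot'_sum_fundWeight P b (fun k => P.coroot' k ξ) ⟨j, hj⟩
  simp only at this
  rw [this, sub_self]

omit [LinearOrder R] [IsStrictOrderedRing R] [Finite ι] [P.IsCrystallographic] [P.IsReduced] in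
/-- The fundamental weights of a base are linearly independent. -/
theorem linearIndependent_fundWeight (b : P.Base) :
    LinearIndependent R (RootCh.fundWeight b) := by
  rw [Fintype.linearIndependent_iff]
  intro c hc j
  have := coroot'_sum_fundWeight P b c j
  rw [hc, map_zero] at this
  exact this.symm

omit [LinearOrder R] [IsStrictOrderedRing R] [Finite ι] [P.IsCrystallographic] [P.IsReduced] in
theorem fundWeight_injective (b : P.Base) : Function.Injective (RootCh.fundWeight b) :=
  (linearIndependent_fundWeight P b).injective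

/-- The corners of a facet, relative to an adjacent chamber. -/
theorem corners_eq (F : RootCh.Facet P) {ξ : M} (hξ : RootCh.sgnVec P ξ = F.sgn) {b : P.Base}
    (hb : ξ ∈ RootCh.closedChamber b) :
    F.corners = {m | ∃ k : b.support, P.coroot' k ξ ≠ 0 ∧ RootCh.fundWeight b k = m} := by
  ext m
  constructor
  · rintro ⟨hm, hcl⟩
    have hcl' : ∀ i, RootCh.sgnVec P m i = 0 ∨ RootCh.sgnVec P m i = RootCh.sgnVec P ξ i := by
      intro i; rw [hξ]; exact hcl i
    obtain ⟨hmb, hJ⟩ := mem_closedChamber_of_sgnVec P hb hcl'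
    have : m ∈ RootCh.baseCorners b := ⟨hm, hmb⟩
    rw [baseCorners_eq] at this
    obtain ⟨k, rfl⟩ := this
    refine ⟨k, fun hk => ?_, rfl⟩
    have := hJ k k.2 hk
    rw [RootCh.coroot'_fundWeight_self] at this
    exact one_ne_zero this
  · rintro ⟨k, hk, rfl⟩
    refine ⟨⟨b, k, rfl⟩, fun i => ?_⟩
    rw [← hξ]
    apply sgnVec_eq_zero_or_of_closedChamber P hb (fundWeight_mem_closedChamber P b k)
    intro j hj hj0
    have hne : (⟨j, hj⟩ : b.support) ≠ k := by
      rintro rfl
      exact hk hj0
    exact RootCh.coroot'_fundWeight_of_ne b k ⟨j, hj⟩ hne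

omit [P.IsRootSystem] [P.IsReduced] in
/-- The vectors of a facet, relative to an adjacent chamber. -/
theorem mem_carrier_iff (F : RootCh.Facet P) {ξ : M} (hξ : RootCh.sgnVec P ξ = F.sgn) {b : P.Base}
    (hb : ξ ∈ RootCh.closedChamber b) (ξ' : M) :
    ξ' ∈ F.carrier ↔ ξ' ∈ RootCh.closedChamber b ∧
      ∀ k ∈ b.support, (P.coroot' k ξ' = 0 ↔ P.coroot' k ξ = 0) := by
  constructor
  · intro h
    have h' : RootCh.sgnVec P ξ' = RootCh.sgnVec P ξ := by rw [hξ]; exact h
    obtain ⟨h1, h2⟩ := mem_closedChamber_of_sgnVec P hb (ξ' := ξ')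
      (fun i => Or.inr (by rw [h']))
    obtain ⟨-, h3⟩ := mem_closedChamber_of_sgnVec P h1 (ξ' := ξ)
      (fun i => Or.inr (by rw [h']))
    exact ⟨h1, fun k hk => ⟨h3 k hk, h2 k hk⟩⟩
  · rintro ⟨h1, h2⟩
    show RootCh.sgnVec P ξ' = F.sgn
    rw [← hξ]
    exact sgnVec_eq_of_closedChamber P hb h1 (fun k hk => (h2 k hk).symm)

end Groth.Agent.Lib.RootCh58
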