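import Groth.Prelude.Def_RootCh2
import Groth.Agent.Lib.RootCh58b
import Groth.Agent.Lib.ConvexMin23

/-!
# Adjacent chambers and complementary convex solids (helper23)

On top of helper58's `Lib/RootCh58`, `Lib/RootCh58b`:
* positivity of roots for a base tested on a regular element (`isPos_iff_root'_pos`);
* the base `s_i b` obtained from a base by a reflection (`exists_reflBase`), its positive roots,
  fundamental weights, common corners with `b`;
* for a complementary convex solid `d`: `toLinearMap_eq_of_mem_closedChamber` (the support function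
  `ξ ↦ ⟪ξ, d b⟫`, `ξ ∈ closedChamber b`, is well defined) and `concave`
  (`⟪ξ, d b'⟫ ≤ ⟪ξ, d b⟫` for `ξ ∈ closedChamber b'`).
-/

set_option autoImplicit false
set_option linter.unusedSectionVars false
open RootPairing

namespace Groth.Agent.Lib.RootCh23

open Groth.Agent.Lib.RootCh58

variable {ι R M N : Type*} [Field R] [LinearOrder R] [IsStrictOrderedRing R]
  [AddCommGroup M] [Module R M] [AddCommGroup N] [Module R N] [Finite ι]
  (P : RootPairing ι R M N)

/-! ### Positivity tested on regular elements -/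

omit [LinearOrder R] [IsStrictOrderedRing R] [Finite ι] in
theorem root'_eq_sum (b : P.Base) (j : ι) {f : ι → ℤ}
    (hsum : P.root j = ∑ k ∈ b.support, f k • P.root k) (x : N) :
    P.root' j x = ∑ k ∈ b.support, (f k : R) * P.root' k x := by
  show P.toLinearMap (P.root j) x = _
  rw [hsum, map_sum, LinearMap.sum_apply]
  refine Finset.sum_congr rfl fun k _ => ?_
  rw [map_zsmul, LinearMap.smul_apply, zsmul_eq_mul]

omit [Finite ι] in
theorem isPos_iff_root'_pos (b : P.Base) {x : N} (hx : ∀ k ∈ b.support, 0 < P.root' k x) (j : ι) :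
    b.IsPos j ↔ 0 < P.root' j x := by
  obtain ⟨f, hfs, hf, hsum⟩ := b.exists_root_eq_sum_int j
  rw [RootPairing.Base.isPos_iff, RootPairing.Base.height_eq_sum hsum, root'_eq_sum P b j hsum x]
  rcases hf with hf | hf
  · obtain ⟨hle, k₀, hk₀⟩ := Pi.lt_def.mp hf
    have hk₀s : k₀ ∈ b.support := hfs (by
      simp only [Function.mem_support]; exact (ne_of_gt hk₀))
    have h1 : 0 < ∑ k ∈ b.support, f k :=
      Finset.sum_pos' (fun k _ => hle k) ⟨k₀, hk₀s, hk₀⟩
    have h2 : 0 < ∑ k ∈ b.support, (f k : R) * P.root' k x := by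
      apply Finset.sum_pos'
      · intro k hk
        exact mul_nonneg (by exact_mod_cast hle k) (hx k hk).le
      · exact ⟨k₀, hk₀s, mul_pos (by exact_mod_cast hk₀) (hx k₀ hk₀s)⟩
    simp [h1, h2]
  · obtain ⟨hle, k₀, hk₀⟩ := Pi.lt_def.mp hf
    have hk₀s : k₀ ∈ b.support := hfs (by
      simp only [Function.mem_support]; exact (ne_of_lt hk₀))
    have h1 : ∑ k ∈ b.support, f k < 0 :=
      Finset.sum_neg' (fun k _ => hle k) ⟨k₀, hk₀s, hk₀⟩
    have h2 : ∑ k ∈ b.support, (f k : R) * P.root' k x < 0 := by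
      apply Finset.sum_neg'
      · intro k hk
        exact mul_nonpos_of_nonpos_of_nonneg (by exact_mod_cast hle k) (hx k hk).le
      · exact ⟨k₀, hk₀s, mul_neg_of_neg_of_pos (by exact_mod_cast hk₀) (hx k₀ hk₀s)⟩
    constructor
    · intro h; exact absurd h (not_lt.mpr h1.le)
    · intro h; exact absurd h (not_lt.mpr h2.le)

omit [Finite ι] in
theorem root'_nonneg_of_isPos (b : P.Base) {x : N} (hx : ∀ k ∈ b.support, 0 ≤ P.root' k x) {j : ι}
    (hj : b.IsPos j) : 0 ≤ P.root' j x := by
  obtain ⟨f, hfs, hf, hsum⟩ := b.exists_root_eq_sum_int j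
  rw [RootPairing.Base.isPos_iff, RootPairing.Base.height_eq_sum hsum] at hj
  rw [root'_eq_sum P b j hsum x]
  rcases hf with hf | hf
  · obtain ⟨hle, -⟩ := Pi.lt_def.mp hf
    exact Finset.sum_nonneg fun k hk => mul_nonneg (by exact_mod_cast hle k) (hx k hk)
  · obtain ⟨hle, -⟩ := Pi.lt_def.mp hf
    have : ∑ k ∈ b.support, f k ≤ 0 := Finset.sum_nonpos fun k _ => hle k
    omega

/-- A root which is not positive for `b` pairs non-positively with the dual closed chamber. -/
theorem root'_nonpos_of_not_isPos (b : P.Base) {x : N} (hx : ∀ k ∈ b.support, 0 ≤ P.root' k x)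
    {j : ι} (hj : ¬ b.IsPos j) : P.root' j x ≤ 0 := by
  let _ := P.indexNeg
  have h1 : b.IsPos (-j) := (RootPairing.Base.IsPos.neg_iff_not b j).mpr hj
  have h2 := root'_nonneg_of_isPos P b hx h1
  have h3 : P.root' (-j) x = - P.root' j x := by
    show P.toLinearMap (P.root (P.reflectionPerm j j)) x = - P.toLinearMap (P.root j) x
    rw [P.root_reflectionPerm, P.reflection_apply_self, map_neg, LinearMap.neg_apply]
  rw [h3] at h2
  linarith


/-! ### The base obtained by a reflection -/

section Refl

variable [P.IsCrystallographic] [P.IsRootSystem] [P.IsReduced]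

/-- The base `s_i b`. -/
theorem exists_reflBase (b : P.Base) (i : ι) :
    ∃ b₁ : P.Base, ∀ k, k ∈ b₁.support ↔ P.reflectionPerm i k ∈ b.support := by
  obtain ⟨b₁, hb₁⟩ := exists_base_image P b (RootPairing.Equiv.reflection P i)
  refine ⟨b₁, fun k => ?_⟩
  have : k ∈ (b₁.support : Set ι) ↔ k ∈ (fun j : ι => RootPairing.Equiv.reflection P i • j) ''
      (b.support : Set ι) := by rw [hb₁]
  rw [Finset.mem_coe] at this
  rw [this]
  constructor
  · rintro ⟨j, hj, rfl⟩
    show P.reflectionPerm i (P.reflectionPerm i j) ∈ b.support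
    rw [P.reflectionPerm_self]
    exact hj
  · intro hk
    exact ⟨P.reflectionPerm i k, hk, P.reflectionPerm_self i k⟩

/-- `b₁ = s_i b` as a relation between bases. -/
def IsRefl (b b₁ : P.Base) (i : ι) : Prop :=
  ∀ k, k ∈ b₁.support ↔ P.reflectionPerm i k ∈ b.support

variable {P}

omit [Finite ι] [P.IsCrystallographic] [P.IsRootSystem] [P.IsReduced] in
theorem IsRefl.symm {b b₁ : P.Base} {i : ι} (h : IsRefl P b b₁ i) : IsRefl P b₁ b i := by
  intro k
  rw [h, P.reflectionPerm_self]

omit [Finite ι] [P.IsCrystallographic] [P.IsRootSystem] [P.IsReduced] in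
theorem IsRefl.mem {b b₁ : P.Base} {i : ι} (h : IsRefl P b b₁ i) {k : ι} (hk : k ∈ b.support) :
    P.reflectionPerm i k ∈ b₁.support := by
  rw [h, P.reflectionPerm_self]
  exact hk

omit [Finite ι] [P.IsCrystallographic] [P.IsRootSystem] [P.IsReduced] in
theorem IsRefl.flip {b b₁ : P.Base} {i : ι} (h : IsRefl P b b₁ i) :
    IsRefl P.flip b.flip b₁.flip i := h

omit [Finite ι] [P.IsCrystallographic] [P.IsRootSystem] [P.IsReduced] in
theorem root'_coreflection (i j : ι) (x : N) :
    P.root' j (P.coreflection i x) = P.root' (P.reflectionPerm i j) x :=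
  P.flip.coroot'_reflection (i := i) (j := j) x

/-- A regular element of the dual chamber. -/
theorem exists_regular (b : P.Base) : ∃ x : N, ∀ k ∈ b.support, P.root' k x = 1 := by
  refine ⟨∑ k : b.support, (1 : R) • RootCh.fundCoweight b k, fun k hk => ?_⟩
  exact coroot'_sum_fundWeight P.flip b.flip (fun _ => (1 : R)) ⟨k, hk⟩

/-- Positive roots of `s_i b`. -/
theorem IsRefl.isPos_iff {b b₁ : P.Base} {i : ι} (h : IsRefl P b b₁ i) (j : ι) :
    b₁.IsPos j ↔ b.IsPos (P.reflectionPerm i j) := by
  obtain ⟨x, hx⟩ := exists_regular b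
  have hx1 : ∀ k ∈ b₁.support, 0 < P.root' k (P.coreflection i x) := by
    intro k hk
    rw [root'_coreflection, hx _ ((h k).mp hk)]
    exact one_pos
  rw [isPos_iff_root'_pos P b₁ hx1, isPos_iff_root'_pos P b (fun k hk => by rw [hx k hk]; exact one_pos),
    root'_coreflection]

/-- Exactly one root is positive for `b` and not for `s_i b` (`i` simple for `b`). -/
theorem IsRefl.isPos_and_not_isPos_iff {b b₁ : P.Base} {i : ι} (h : IsRefl P b b₁ i)
    (hi : i ∈ b.support) (j : ι) : (b.IsPos j ∧ ¬ b₁.IsPos j) ↔ j = i := by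
  rw [h.isPos_iff]
  constructor
  · rintro ⟨h1, h2⟩
    by_contra hne
    exact h2 (h1.reflectionPerm hi hne)
  · rintro rfl
    refine ⟨RootPairing.Base.isPos_of_mem_support hi, ?_⟩
    let _ := P.indexNeg
    intro hneg
    exact ((RootPairing.Base.IsPos.neg_iff_not b j).mp hneg) (RootPairing.Base.isPos_of_mem_support hi)


/-- Fundamental weights of `s_i b`. -/
theorem IsRefl.fundWeight_eq {b b₁ : P.Base} {i : ι} (h : IsRefl P b b₁ i) (k : b.support) :
    RootCh.fundWeight b₁ ⟨P.reflectionPerm i k, h.mem k.2⟩ =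
      P.reflection i (RootCh.fundWeight b k) := by
  symm
  rw [eq_fundWeight_iff]
  constructor
  · show P.coroot' (P.reflectionPerm i k) (P.reflection i (RootCh.fundWeight b k)) = 1
    rw [P.coroot'_reflection, P.reflectionPerm_self]
    exact RootCh.coroot'_fundWeight_self b k
  · intro j hj
    rw [P.coroot'_reflection]
    exact RootCh.coroot'_fundWeight_of_ne b k ⟨P.reflectionPerm i j, (h j).mp j.2⟩ (by
      intro heq
      apply hj
      apply Subtype.ext
      have := congrArg Subtype.val heq
      simp only at this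
      show (j : ι) = P.reflectionPerm i k
      rw [← this, P.reflectionPerm_self])

theorem reflection_fundWeight_of_ne (b : P.Base) {i : ι} (hi : i ∈ b.support) (k : b.support)
    (hk : k ≠ ⟨i, hi⟩) : P.reflection i (RootCh.fundWeight b k) = RootCh.fundWeight b k := by
  rw [P.reflection_apply]
  have := RootCh.coroot'_fundWeight_of_ne b k ⟨i, hi⟩ (fun h => hk h.symm)
  simp only at this
  rw [this, zero_smul, sub_zero]

/-- The common corners of `b` and `s_i b`. -/
theorem IsRefl.baseCorners_inter {b b₁ : P.Base} {i : ι} (h : IsRefl P b b₁ i)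
    (hi : i ∈ b.support) :
    RootCh.baseCorners b ∩ RootCh.baseCorners b₁ =
      RootCh.fundWeight b '' {k | k ≠ ⟨i, hi⟩} := by
  rw [baseCorners_eq, baseCorners_eq]
  ext w
  constructor
  · rintro ⟨⟨k, rfl⟩, ⟨k₁, hk₁⟩⟩
    refine ⟨k, ?_, rfl⟩
    rintro rfl
    -- `k₁ = s_i k'`
    have hk' : P.reflectionPerm i k₁ ∈ b.support := (h k₁).mp k₁.2
    have hk₁' : k₁ = ⟨P.reflectionPerm i (⟨P.reflectionPerm i k₁, hk'⟩ : b.support),
        h.mem hk'⟩ := by
      apply Subtype.ext
      simp only
      rw [P.reflectionPerm_self]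
    rw [hk₁', h.fundWeight_eq] at hk₁
    by_cases hki : (⟨P.reflectionPerm i k₁, hk'⟩ : b.support) = ⟨i, hi⟩
    · rw [hki] at hk₁
      have h1 := congrArg (P.coroot' i) hk₁
      rw [P.coroot'_reflection] at h1
      have h2 := RootCh.coroot'_fundWeight_self b ⟨i, hi⟩
      simp only at h2
      have h3 : P.coroot' (P.reflectionPerm i i) (RootCh.fundWeight b ⟨i, hi⟩) = -1 := by
        show P.toLinearMap _ (P.coroot (P.reflectionPerm i i)) = -1
        rw [P.coroot_reflectionPerm, P.coreflection_apply_self, map_neg]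
        exact congrArg Neg.neg h2
      rw [h2, h3] at h1
      linarith
    · rw [reflection_fundWeight_of_ne b hi _ hki] at hk₁
      have := fundWeight_injective P b hk₁
      exact hki this
  · rintro ⟨k, hk, rfl⟩
    refine ⟨⟨k, rfl⟩, ⟨⟨P.reflectionPerm i k, h.mem k.2⟩, ?_⟩⟩
    rw [h.fundWeight_eq, reflection_fundWeight_of_ne b hi k hk]

theorem IsRefl.ncard_baseCorners_inter {b b₁ : P.Base} {i : ι} (h : IsRefl P b b₁ i)
    (hi : i ∈ b.support) :
    (RootCh.baseCorners b ∩ RootCh.baseCorners b₁).ncard + 1 = b.support.card := by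
  rw [h.baseCorners_inter hi, Set.ncard_image_of_injective _ (fundWeight_injective P b)]
  have : {k : b.support | k ≠ ⟨i, hi⟩} = Set.univ \ {⟨i, hi⟩} := by
    ext k; simp
  rw [this, Set.ncard_sdiff_singleton_add_one (Set.mem_univ _) Set.finite_univ, Set.ncard_univ,
    Nat.card_eq_fintype_card, Fintype.card_coe]

omit [LinearOrder R] [IsStrictOrderedRing R] [Finite ι] [P.IsCrystallographic] [P.IsReduced] in
/-- Pairing with a fundamental weight is a coordinate in the basis of simple coroots. -/
theorem toLinearMap_fundWeight (b : P.Base) (k : b.support) (y : N) :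
    P.toLinearMap (RootCh.fundWeight b k) y = b.toCoweightBasis.repr y k := by
  have h : P.toLinearMap (P.toPerfPair.symm (b.toCoweightBasis.coord k)) =
      b.toCoweightBasis.coord k :=
    P.toLinearMap.apply_symm_toPerfPair_self _
  rw [RootCh.fundWeight, h, Module.Basis.coord_apply]

omit [LinearOrder R] [IsStrictOrderedRing R] [Finite ι] [P.IsCrystallographic] [P.IsReduced] in
theorem eq_sum_coroot (b : P.Base) (y : N) :
    y = ∑ k : b.support, P.toLinearMap (RootCh.fundWeight b k) y • P.coroot k := by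
  conv_lhs => rw [← b.toCoweightBasis.sum_repr y]
  refine Finset.sum_congr rfl fun k _ => ?_
  rw [toLinearMap_fundWeight, b.toCoweightBasis_apply]

omit [LinearOrder R] [IsStrictOrderedRing R] [Finite ι] [P.IsCrystallographic] [P.IsReduced] in
theorem toLinearMap_eq_sum (b : P.Base) (ξ : M) (y : N) :
    P.toLinearMap ξ y =
      ∑ k : b.support, P.toLinearMap (RootCh.fundWeight b k) y * P.coroot' k ξ := by
  conv_lhs => rw [eq_sum_coroot b y]
  rw [map_sum]
  refine Finset.sum_congr rfl fun k _ => ?_
  rw [map_smul, smul_eq_mul]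
  rfl

/-- Across a wall the value of `d` changes by a non-positive multiple of the coroot. -/
theorem IsRefl.exists_sub_eq {d : P.Base → N} (hd : RootCh.IsCCS d) {b b₁ : P.Base} {i : ι}
    (h : IsRefl P b b₁ i) (hi : i ∈ b.support) :
    ∃ c : R, c ≤ 0 ∧ ∀ ξ : M, P.toLinearMap ξ (d b) - P.toLinearMap ξ (d b₁) = c * P.coroot' i ξ := by
  set y : N := d b - d b₁ with hy
  have h0 : ∀ k : b.support, k ≠ ⟨i, hi⟩ → P.toLinearMap (RootCh.fundWeight b k) y = 0 := by
    intro k hk
    have hmem : RootCh.fundWeight b k ∈ RootCh.baseCorners b ∩ RootCh.baseCorners b₁ := by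
      rw [h.baseCorners_inter hi]
      exact ⟨k, hk, rfl⟩
    rw [hy, map_sub, hd.corner_eq b b₁ _ hmem.1 hmem.2, sub_self]
  have hexp : ∀ ξ : M, P.toLinearMap ξ y =
      P.toLinearMap (RootCh.fundWeight b ⟨i, hi⟩) y * P.coroot' i ξ := by
    intro ξ
    rw [toLinearMap_eq_sum b ξ y]
    rw [Finset.sum_eq_single (⟨i, hi⟩ : b.support)]
    · intro k _ hk
      rw [h0 k hk, zero_mul]
    · intro hne
      exact absurd (Finset.mem_univ _) hne
  refine ⟨P.toLinearMap (RootCh.fundWeight b ⟨i, hi⟩) y, ?_, fun ξ => ?_⟩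
  · have hw := hd.wall_le b b₁ i (h.ncard_baseCorners_inter hi) (h.isPos_and_not_isPos_iff hi)
    have h1 := hexp (P.root i)
    have h2 : P.coroot' i (P.root i) = 2 := P.root_coroot_two i
    rw [h2] at h1
    have h3 : P.toLinearMap (P.root i) y = P.root' i (d b) - P.root' i (d b₁) := by
      rw [hy, map_sub]
    rw [h3] at h1
    linarith
  · rw [← map_sub]
    exact hexp ξ


/-- (B1) makes the support function `ξ ↦ ⟪ξ, d b⟫`, `ξ ∈ closedChamber b`, well defined. -/
theorem toLinearMap_eq_of_mem_closedChamber {d : P.Base → N} (hd : RootCh.IsCCS d)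
    {b b' : P.Base} {ξ : M} (hb : ξ ∈ RootCh.closedChamber b) (hb' : ξ ∈ RootCh.closedChamber b') :
    P.toLinearMap ξ (d b) = P.toLinearMap ξ (d b') := by
  have hc := corners_eq P (RootCh.Facet.ofVec P ξ) rfl hb
  have hc' := corners_eq P (RootCh.Facet.ofVec P ξ) rfl hb'
  have hexp : ∀ y : N, P.toLinearMap ξ y =
      ∑ k : b.support, P.coroot' k ξ * P.toLinearMap (RootCh.fundWeight b k) y := by
    intro y
    conv_lhs => rw [eq_sum_fundWeight P b ξ]
    rw [map_sum, LinearMap.sum_apply]
    refine Finset.sum_congr rfl fun k _ => ?_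
    rw [map_smul, LinearMap.smul_apply, smul_eq_mul]
  rw [hexp, hexp]
  refine Finset.sum_congr rfl fun k _ => ?_
  by_cases hk : P.coroot' k ξ = 0
  · rw [hk, zero_mul, zero_mul]
  · congr 1
    have hmem : RootCh.fundWeight b k ∈ (RootCh.Facet.ofVec P ξ).corners := by
      rw [hc]; exact ⟨k, hk, rfl⟩
    rw [hc'] at hmem
    obtain ⟨k', -, hk'⟩ := hmem
    apply hd.corner_eq b b'
    · rw [baseCorners_eq]; exact ⟨k, rfl⟩
    · rw [baseCorners_eq]; exact ⟨k', hk'⟩

/-- Concavity of the support function of a complementary convex solid: the value `d b'` minimises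
`⟪ξ, d b⟫` over all chambers `b`, for `ξ` in the closed chamber of `b'`. -/
theorem concave {d : P.Base → N} (hd : RootCh.IsCCS d) (b b' : P.Base) {ξ : M}
    (hξ : ξ ∈ RootCh.closedChamber b') :
    P.toLinearMap ξ (d b') ≤ P.toLinearMap ξ (d b) := by
  obtain ⟨ξ', hξ'⟩ := exists_regular (P := P.flip) b'.flip
  have hreg : ∀ k ∈ b'.flip.support, 0 < P.flip.root' k ξ' := fun k hk => by
    rw [hξ' k hk]; exact one_pos
  have hnegneg : ∀ j : ι, P.coroot' (P.reflectionPerm j j) ξ' = - P.coroot' j ξ' := by
    intro j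
    show P.toLinearMap ξ' (P.coroot (P.reflectionPerm j j)) = - P.toLinearMap ξ' (P.coroot j)
    rw [P.coroot_reflectionPerm, P.coreflection_apply_self, map_neg]
  suffices H : ∀ n : ℕ, ∀ c : P.Base,
      ({j : ι | c.flip.IsPos j ∧ P.coroot' j ξ' < 0} : Set ι).ncard = n →
      P.toLinearMap ξ (d b') ≤ P.toLinearMap ξ (d c) from H _ b rfl
  intro n
  induction n using Nat.strong_induction_on with
  | _ n ih =>
    intro c hn
    by_cases hex : ∃ i ∈ c.support, P.coroot' i ξ' < 0
    · obtain ⟨i, hi, hineg⟩ := hex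
      obtain ⟨c₁, hc₁⟩ := exists_reflBase P c i
      have hrefl : IsRefl P c c₁ i := hc₁
      have hposi : c.flip.IsPos i := RootPairing.Base.isPos_of_mem_support (b := c.flip) hi
      have hsub : ({j : ι | c₁.flip.IsPos j ∧ P.coroot' j ξ' < 0} : Set ι) ⊂
          {j : ι | c.flip.IsPos j ∧ P.coroot' j ξ' < 0} := by
        rw [Set.ssubset_iff_of_subset]
        · refine ⟨i, ⟨hposi, hineg⟩, ?_⟩
          rintro ⟨h1, -⟩
          exact ((hrefl.flip.isPos_and_not_isPos_iff (b := c.flip) hi i).mpr rfl).2 h1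
        · rintro j ⟨h1, h2⟩
          refine ⟨?_, h2⟩
          rw [hrefl.flip.isPos_iff] at h1
          have hne : P.reflectionPerm i j ≠ i := by
            intro heq
            have : j = P.reflectionPerm i i := by
              have h5 := P.reflectionPerm_self i j
              rw [heq] at h5
              exact h5.symm
            rw [this, hnegneg] at h2
            linarith
          have := h1.reflectionPerm (b := c.flip) hi hne
          have h3 : P.flip.reflectionPerm i (P.flip.reflectionPerm i j) = j :=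
            P.reflectionPerm_self i j
          rw [h3] at this
          exact this
      have hlt := Set.ncard_lt_ncard hsub (Set.toFinite _)
      rw [hn] at hlt
      have h1 := ih _ hlt c₁ rfl
      obtain ⟨e, he, hstep⟩ := hrefl.exists_sub_eq hd hi
      have h2 := hstep ξ
      have hnotpos : ¬ b'.flip.IsPos i := by
        rw [isPos_iff_root'_pos P.flip b'.flip hreg]
        exact not_lt.mpr hineg.le
      have h3 : P.coroot' i ξ ≤ 0 :=
        root'_nonpos_of_not_isPos P.flip b'.flip (fun k hk => hξ k hk) hnotpos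
      have h4 : 0 ≤ e * P.coroot' i ξ := mul_nonneg_of_nonpos_of_nonpos he h3
      linarith
    · push Not at hex
      have hmem : ξ ∈ RootCh.closedChamber c := by
        intro i hi
        have hpos : b'.flip.IsPos i := by
          by_contra hnot
          let _ := P.flip.indexNeg
          have h1 : b'.flip.IsPos (-i) := (RootPairing.Base.IsPos.neg_iff_not b'.flip i).mpr hnot
          rw [isPos_iff_root'_pos P.flip b'.flip hreg] at h1
          have h2 : P.flip.root' (-i) ξ' = - P.coroot' i ξ' := hnegneg i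
          rw [h2] at h1
          have := hex i hi
          linarith
        exact root'_nonneg_of_isPos P.flip b'.flip (fun k hk => hξ k hk) hpos
      exact (toLinearMap_eq_of_mem_closedChamber hd hmem hξ).ge

end Refl

end Groth.Agent.Lib.RootCh23
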