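import Groth.Agent.Lib.RootCh23a
import Mathlib.LinearAlgebra.RootSystem.Finite.Nondegenerate

/-!
# Dual solids of a complementary convex solid as intersections of half-spaces (helper23)

* `finite_base` : a finite root system has finitely many bases;
* `exists_perturb` : for `η` in a facet `F` and any `ξ`, `η + ε ξ` lies in the closed chamber of a
  chamber adjacent to `F` for some `ε > 0`;
* `corootForm_*` : the canonical form on `N` is symmetric positive definite and invariant;
* `exists_separating` : strict separation of a point from the convex hull of finitely many points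
  of `N` by a vector of `M`;
* `dualSolid_eq` : S14238.
-/

set_option autoImplicit false
set_option linter.unusedSectionVars false
set_option linter.style.haveILetI false
open RootPairing

namespace Groth.Agent.Lib.RootCh23

open Groth.Agent.Lib.RootCh58

variable {ι R M N : Type*} [Field R] [LinearOrder R] [IsStrictOrderedRing R]
  [AddCommGroup M] [Module R M] [AddCommGroup N] [Module R N] [Finite ι]
  (P : RootPairing ι R M N)

theorem base_ext {b b' : P.Base} (h : b.support = b'.support) : b = b' := by
  cases b; cases b'; simp only at h; subst h; rfl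

instance finite_base : Finite P.Base :=
  Finite.of_injective (fun b : P.Base => b.support) (fun _ _ h => base_ext P h)

theorem exists_pos_forall_mul_lt {κ : Type*} (s : Finset κ) (a c : κ → R)
    (ha : ∀ j ∈ s, 0 < a j) : ∃ ε : R, 0 < ε ∧ ∀ j ∈ s, ε * |c j| < a j := by
  classical
  induction s using Finset.induction_on with
  | empty => exact ⟨1, one_pos, by simp⟩
  | insert j s hj ih =>
    obtain ⟨ε', hε', h'⟩ := ih (fun k hk => ha k (Finset.mem_insert_of_mem hk))
    have haj := ha j (Finset.mem_insert_self j s)
    have hden : 0 < |c j| + 1 := by positivity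
    refine ⟨min ε' (a j / (|c j| + 1)), lt_min hε' (div_pos haj hden), ?_⟩
    intro k hk
    rcases Finset.mem_insert.mp hk with rfl | hk
    · have h1 : min ε' (a k / (|c k| + 1)) ≤ a k / (|c k| + 1) := min_le_right _ _
      have h2 : a k / (|c k| + 1) * |c k| < a k := by
        rw [div_mul_eq_mul_div, div_lt_iff₀ hden]
        nlinarith [abs_nonneg (c k)]
      calc min ε' (a k / (|c k| + 1)) * |c k| ≤ a k / (|c k| + 1) * |c k| :=
            mul_le_mul_of_nonneg_right h1 (abs_nonneg _)
        _ < a k := h2
    · calc min ε' (a j / (|c j| + 1)) * |c k| ≤ ε' * |c k| :=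
            mul_le_mul_of_nonneg_right (min_le_left _ _) (abs_nonneg _)
        _ < a k := h' k hk

section RS

variable [P.IsCrystallographic] [P.IsRootSystem] [P.IsReduced]

/-- Moving a little from a point of a facet in any direction one stays in the closed chamber of
a chamber adjacent to the facet. -/
theorem exists_perturb (F : RootCh.Facet P) {η : M} (hη : η ∈ F.carrier) (ξ : M) :
    ∃ ε : R, 0 < ε ∧ ∃ b ∈ F.cham, η + ε • ξ ∈ RootCh.closedChamber b ∧
      η ∈ RootCh.closedChamber b := by
  classical
  cases nonempty_fintype ι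
  obtain ⟨ε, hε, hlt⟩ := exists_pos_forall_mul_lt
    ((Finset.univ : Finset ι).filter (fun j => P.coroot' j η ≠ 0))
    (fun j => |P.coroot' j η|) (fun j => P.coroot' j ξ)
    (fun j hj => abs_pos.mpr (Finset.mem_filter.mp hj).2)
  obtain ⟨b, hb⟩ := exists_base_mem_closedChamber P (η + ε • ξ)
  have hηb : η ∈ RootCh.closedChamber b := by
    intro k hk
    by_contra hneg
    push Not at hneg
    have h1 := hlt k (Finset.mem_filter.mpr ⟨Finset.mem_univ _, hneg.ne⟩)
    have h2 := hb k hk
    rw [map_add, map_smul, smul_eq_mul] at h2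
    rw [abs_of_neg hneg] at h1
    have h3 : ε * P.coroot' k ξ ≤ ε * |P.coroot' k ξ| :=
      mul_le_mul_of_nonneg_left (le_abs_self _) hε.le
    linarith
  refine ⟨ε, hε, b, ?_, hb, hηb⟩
  intro η' hη' k hk
  have h1 : RootCh.sgnVec P η' k = RootCh.sgnVec P η k := by
    have e1 : RootCh.sgnVec P η' = F.sgn := hη'
    have e2 : RootCh.sgnVec P η = F.sgn := hη
    rw [e1, e2]
  unfold RootCh.sgnVec at h1
  have h2 : 0 ≤ SignType.sign (P.coroot' k η) := sign_nonneg_iff.mpr (hηb k hk)
  rw [← h1] at h2
  exact sign_nonneg_iff.mp h2

theorem cham_nonempty (F : RootCh.Facet P) : F.cham.Nonempty := by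
  obtain ⟨η, hη⟩ := F.exists_sgnVec_eq
  obtain ⟨ε, -, b, hb, -, -⟩ := exists_perturb P F (η := η) hη 0
  exact ⟨b, hb⟩

/-- A chamber adjacent to a facet contains the closure of the facet. -/
theorem closure_subset_of_mem_cham {F : RootCh.Facet P} {b : P.Base} (hb : b ∈ F.cham) :
    F.closure ⊆ RootCh.closedChamber b := by
  obtain ⟨η, hη⟩ := F.exists_sgnVec_eq
  have hηb : η ∈ RootCh.closedChamber b := hb hη
  intro m hm
  refine (mem_closedChamber_of_sgnVec P hηb (ξ' := m) ?_).1
  intro i
  rw [hη]
  exact hm i

theorem corners_subset_baseCorners {F : RootCh.Facet P} {b : P.Base} (hb : b ∈ F.cham) :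
    F.corners ⊆ RootCh.baseCorners b :=
  fun _ hm => ⟨hm.1, closure_subset_of_mem_cham P hb hm.2⟩


/-! ### The canonical form on `N` and separation -/

/-- The canonical form on `N` (Mathlib's `CorootForm`, for an arbitrary `Fintype` structure). -/
noncomputable def cform : LinearMap.BilinForm R N :=
  letI := Fintype.ofFinite ι
  P.CorootForm

theorem cform_symm (y z : N) : cform P y z = cform P z y := by
  letI := Fintype.ofFinite ι
  show P.CorootForm y z = P.CorootForm z y
  rw [P.corootForm_apply_apply, P.corootForm_apply_apply]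
  exact Finset.sum_congr rfl fun i _ => mul_comm _ _

theorem cform_pos {y : N} (hy : y ≠ 0) : 0 < cform P y y := by
  letI := Fintype.ofFinite ι
  have h := P.flip.rootForm_pos_of_ne_zero (x := y) (by
    show y ∈ P.flip.rootSpan R
    have : P.flip.rootSpan R = ⊤ := IsRootSystem.span_root_eq_top (P := P.flip)
    rw [this]; trivial) hy
  exact h

theorem cform_coreflection (i : ι) (y z : N) :
    cform P (P.coreflection i y) (P.coreflection i z) = cform P y z := by
  letI := Fintype.ofFinite ι
  exact P.flip.rootForm_reflection_reflection_apply i y z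

omit [P.IsCrystallographic] [P.IsReduced] [LinearOrder R] [IsStrictOrderedRing R] [Finite ι] in
/-- Every linear functional on `N` is pairing with a vector of `M`. -/
theorem exists_toLinearMap_eq (f : Module.Dual R N) : ∃ ξ : M, P.toLinearMap ξ = f :=
  ⟨P.toPerfPair.symm f, P.toLinearMap.apply_symm_toPerfPair_self f⟩

/-- Strict separation of a point from a finitely generated convex hull by a vector of `M`. -/
theorem exists_separating {S : Set N} (hS : S.Finite) {x : N} (hx : x ∉ convexHull R S) :
    ∃ ξ : M, ∀ s ∈ S, P.toLinearMap ξ x < P.toLinearMap ξ s := by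
  have hx' : x ∉ convexHull R ((hS.toFinset : Finset N) : Set N) := by
    rwa [Set.Finite.coe_toFinset]
  obtain ⟨z, hz⟩ := ConvexMin23.exists_separating (cform P) (cform_symm P)
    (fun y hy => cform_pos P hy) hS.toFinset x hx'
  obtain ⟨ξ, hξ⟩ := exists_toLinearMap_eq P (cform P z)
  refine ⟨ξ, fun s hs => ?_⟩
  rw [hξ]
  exact hz s (hS.mem_toFinset.mpr hs)

/-! ### The dual solid as an intersection of half-spaces -/

variable {P}

/-- The `d`-values of all chambers lie in every closed half-space. -/
theorem d_mem_halfClosed {d : P.Base → N} (hd : RootCh.IsCCS d) (b : P.Base) (m : M) :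
    d b ∈ RootCh.halfClosed d m := by
  intro b' hm
  exact concave hd b b' hm.2

theorem d_mem_hyper {d : P.Base → N} (hd : RootCh.IsCCS d) {b : P.Base} {m : M}
    (hm : m ∈ RootCh.baseCorners b) : d b ∈ RootCh.hyper d m := by
  intro b' hm'
  exact hd.corner_eq b b' m hm hm'

omit [P.IsCrystallographic] [P.IsReduced] [Finite ι] in
theorem convex_hyper (d : P.Base → N) (m : M) : Convex R (RootCh.hyper d m) := by
  intro x hx y hy a c _ _ hac b hb
  rw [map_add, map_smul, map_smul, hx b hb, hy b hb, smul_eq_mul, smul_eq_mul, ← add_mul, hac,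
    one_mul]

omit [P.IsCrystallographic] [P.IsReduced] [Finite ι] in
theorem convex_halfClosed (d : P.Base → N) (m : M) : Convex R (RootCh.halfClosed d m) := by
  intro x hx y hy a c ha hc hac b hb
  rw [map_add, map_smul, map_smul, smul_eq_mul, smul_eq_mul]
  have h1 := hx b hb
  have h2 := hy b hb
  calc P.toLinearMap m (d b) = a * P.toLinearMap m (d b) + c * P.toLinearMap m (d b) := by
        rw [← add_mul, hac, one_mul]
    _ ≤ _ := add_le_add (mul_le_mul_of_nonneg_left h1 ha) (mul_le_mul_of_nonneg_left h2 hc)

/-- S14238: the dual solid of a facet is the intersection of the hyperplanes of its corners with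
the closed half-spaces of the corners of the adjacent chambers. -/
theorem dualSolid_eq {d : P.Base → N} (hd : RootCh.IsCCS d) (F : RootCh.Facet P) :
    RootCh.dualSolid d F =
      (⋂ m ∈ F.corners, RootCh.hyper d m) ∩ ⋂ m ∈ F.corners', RootCh.halfClosed d m := by
  apply Set.Subset.antisymm
  · apply convexHull_min
    · rintro _ ⟨b, hb, rfl⟩
      refine ⟨?_, ?_⟩
      · simp only [Set.mem_iInter]
        intro m hm
        exact d_mem_hyper hd (corners_subset_baseCorners P hb hm)
      · simp only [Set.mem_iInter]
        intro m _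
        exact d_mem_halfClosed hd b m
    · apply Convex.inter
      · exact convex_iInter₂ fun m _ => convex_hyper d m
      · exact convex_iInter₂ fun m _ => convex_halfClosed d m
  · rintro x ⟨hx1, hx2⟩
    simp only [Set.mem_iInter] at hx1 hx2
    by_contra hx
    obtain ⟨ξ, hξ⟩ := exists_separating P (Set.toFinite (d '' F.cham)) hx
    obtain ⟨η, hη⟩ := F.exists_sgnVec_eq
    obtain ⟨ε, hε, b, hb, hζb, hηb⟩ := exists_perturb P F (η := η) hη ξ
    have hlt := hξ (d b) ⟨b, hb, rfl⟩
    -- expansion in fundamental weights of `b`
    have hexp : ∀ (ζ : M) (y : N), P.toLinearMap ζ y =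
        ∑ k : b.support, P.coroot' k ζ * P.toLinearMap (RootCh.fundWeight b k) y := by
      intro ζ y
      conv_lhs => rw [eq_sum_fundWeight P b ζ]
      rw [map_sum, LinearMap.sum_apply]
      refine Finset.sum_congr rfl fun k _ => ?_
      rw [map_smul, LinearMap.smul_apply, smul_eq_mul]
    have hcorner : ∀ k : b.support, RootCh.fundWeight b k ∈ RootCh.baseCorners b := by
      intro k; rw [baseCorners_eq]; exact ⟨k, rfl⟩
    -- on `η` the two values agree
    have h1 : P.toLinearMap η x = P.toLinearMap η (d b) := by
      rw [hexp η x, hexp η (d b)]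
      refine Finset.sum_congr rfl fun k _ => ?_
      by_cases hk : P.coroot' k η = 0
      · rw [hk, zero_mul, zero_mul]
      · congr 1
        have hmem : RootCh.fundWeight b k ∈ F.corners := by
          rw [corners_eq P F hη hηb]; exact ⟨k, hk, rfl⟩
        exact hx1 _ hmem b (hcorner k)
    -- on `η + ε ξ` the value at `x` is at least the value at `d b`
    have h2 : P.toLinearMap (η + ε • ξ) (d b) ≤ P.toLinearMap (η + ε • ξ) x := by
      rw [hexp _ x, hexp _ (d b)]
      refine Finset.sum_le_sum fun k _ => ?_
      apply mul_le_mul_of_nonneg_left _ (hζb k k.2)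
      have hmem : RootCh.fundWeight b k ∈ F.corners' := by
        simp only [RootCh.Facet.corners', Set.mem_iUnion]
        exact ⟨b, hb, hcorner k⟩
      exact hx2 _ hmem b (hcorner k)
    simp only [map_add, LinearMap.add_apply, map_smul, LinearMap.smul_apply, smul_eq_mul] at h2
    rw [h1] at h2
    have h3 : ε * P.toLinearMap ξ (d b) ≤ ε * P.toLinearMap ξ x := by linarith
    have h4 := le_of_mul_le_mul_left h3 hε
    linarith

end RS

end Groth.Agent.Lib.RootCh23
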