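import Groth.Agent.Lib.RootCh23b

/-!
# The solid of a complementary convex solid and semistability (helper23)

* `origin_cham`, `origin_corners`, `solid_eq_dualSolid_origin`, `solid_eq` (the solid is the
  intersection of the closed half-spaces of all corners of all chambers);
* `forall_corner_nonpos_iff_isSemistable` : S14241.
-/

set_option autoImplicit false
set_option linter.unusedSectionVars false
open RootPairing

namespace Groth.Agent.Lib.RootCh23

open Groth.Agent.Lib.RootCh58

variable {ι R M N : Type*} [Field R] [LinearOrder R] [IsStrictOrderedRing R]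
  [AddCommGroup M] [Module R M] [AddCommGroup N] [Module R N] [Finite ι]
  {P : RootPairing ι R M N} [P.IsCrystallographic] [P.IsRootSystem] [P.IsReduced]

theorem origin_sgn (i : ι) : (RootCh.Facet.origin P).sgn i = 0 := by
  show SignType.sign (P.coroot' i 0) = 0
  rw [map_zero, sign_zero]

theorem origin_cham : (RootCh.Facet.origin P).cham = Set.univ := by
  ext b
  simp only [Set.mem_univ, iff_true]
  intro ξ hξ k _
  have h1 : RootCh.sgnVec P ξ k = (RootCh.Facet.origin P).sgn k := congrFun hξ k
  rw [origin_sgn] at h1
  have : P.coroot' k ξ = 0 := sign_eq_zero_iff.mp h1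
  rw [this]

theorem origin_corners : (RootCh.Facet.origin P).corners = ∅ := by
  ext m
  simp only [Set.mem_empty_iff_false, iff_false]
  rintro ⟨⟨b, i, rfl⟩, hcl⟩
  have h1 := hcl i
  rw [origin_sgn, or_self] at h1
  have h2 : P.coroot' i (RootCh.fundWeight b i) = 0 := sign_eq_zero_iff.mp h1
  rw [RootCh.coroot'_fundWeight_self] at h2
  exact one_ne_zero h2

theorem origin_corners' : (RootCh.Facet.origin P).corners' = ⋃ b : P.Base, RootCh.baseCorners b := by
  simp [RootCh.Facet.corners', origin_cham]

theorem solid_eq_dualSolid_origin (d : P.Base → N) :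
    RootCh.solid d = RootCh.dualSolid d (RootCh.Facet.origin P) := by
  rw [RootCh.solid, RootCh.dualSolid, origin_cham, Set.image_univ]

/-- The solid is the intersection of the closed half-spaces of the corners of all chambers. -/
theorem solid_eq {d : P.Base → N} (hd : RootCh.IsCCS d) :
    RootCh.solid d = ⋂ (b : P.Base) (m ∈ RootCh.baseCorners b), RootCh.halfClosed d m := by
  rw [solid_eq_dualSolid_origin, dualSolid_eq hd, origin_corners, origin_corners']
  ext x
  simp only [Set.mem_iInter, Set.mem_iUnion, Set.mem_inter_iff, Set.mem_empty_iff_false,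
    IsEmpty.forall_iff, implies_true, true_and]
  constructor
  · intro h b m hm
    exact h m ⟨b, hm⟩
  · rintro h m ⟨b, hm⟩
    exact h b m hm

/-- S14241. -/
theorem forall_corner_nonpos_iff_isSemistable {d : P.Base → N} (hd : RootCh.IsCCS d) :
    (∀ (b : P.Base), ∀ m ∈ RootCh.baseCorners b, P.toLinearMap m (d b) ≤ 0) ↔
      RootCh.IsSemistable d := by
  rw [RootCh.IsSemistable, solid_eq hd]
  simp only [Set.mem_iInter]
  constructor
  · intro h b m hm b' hm'
    rw [map_zero]
    exact h b' m hm'
  · intro h b m hm
    have := h b m hm b hm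
    rwa [map_zero] at this

end Groth.Agent.Lib.RootCh23
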