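import Groth.Agent.Lib.RootDWeyl

/-!
Closed sets of roots containing a system of positive roots (parabolic sets), root-only sense, for a
root datum over the integers.  (helper58.)
-/

set_option autoImplicit false
open RootD

namespace Groth.Agent.Lib.RootDParab

open Groth.Agent.Lib.RootDBasic Groth.Agent.Lib.RootDForm Groth.Agent.Lib.RootDSimple
  Groth.Agent.Lib.RootDWeyl

variable {ι M N : Type*} [AddCommGroup M] [AddCommGroup N] (P : RootPairing ι ℤ M N)

/-- The opposite of the opposite of a root is the root itself. -/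
theorem reflectionPerm_neg_neg (k : ι) :
    P.reflectionPerm (P.reflectionPerm k k) (P.reflectionPerm k k) = k := by
  apply P.root.injective
  rw [root_reflectionPerm_self, root_reflectionPerm_self, neg_neg]

/-- If the opposites of the roots of `T` lie in `T'`, the opposite of a non-negative combination of
`T` is a non-negative combination of `T'`. -/
theorem neg_mem_natSpan {T T' : Set ι} (hT : ∀ i ∈ T, P.reflectionPerm i i ∈ T') {x : M}
    (hx : x ∈ natSpan P T) : -x ∈ natSpan P T' := by
  unfold natSpan at hx
  induction hx using AddSubmonoid.closure_induction with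
  | mem y hy =>
    obtain ⟨i, hi, rfl⟩ := hy
    rw [← root_reflectionPerm_self]
    exact root_mem_natSpan P (hT i hi)
  | zero => rw [neg_zero]; exact zero_mem _
  | add y z _ _ hy hz => rw [neg_add]; exact add_mem hy hz

variable [Finite ι]

/-- Key induction for parabolic sets: a positive root whose opposite lies in the closed set `P' ⊇ S`
is a non-negative combination of the simple roots whose opposites lie in `P'`. -/
theorem root_mem_natSpan_of_neg_mem {Δ : Set ι} {P' : Set ι}
    (hcl : IsClosedSub P P') (hSP : posOf P Δ ⊆ P') (n : ℕ) :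
    ∀ (c : ι →₀ ℕ), (↑c.support : Set ι) ⊆ Δ → c.degree = n → ∀ γ : ι, P.root γ = comb P c →
      P.reflectionPerm γ γ ∈ P' →
      P.root γ ∈ natSpan P {i : ι | i ∈ Δ ∧ P.reflectionPerm i i ∈ P'} := by
  induction n with
  | zero =>
    intro c hc hdeg γ hγ hneg
    exfalso
    have hc0 : c = 0 := (Finsupp.degree_eq_zero_iff c).mp hdeg
    rw [hc0, comb_zero] at hγ
    exact P.ne_zero γ hγ
  | succ n ih =>
    intro c hc hdeg γ hγ hneg
    by_cases hγΔ : γ ∈ Δ
    · exact root_mem_natSpan P ⟨hγΔ, hneg⟩
    · obtain ⟨i, hiΔ, hci, -, l, hl, hγl⟩ := exists_simple_sub_comb P hγΔ c hc hγ.symm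
      have h1 : c - Finsupp.single i 1 + Finsupp.single i 1 = c :=
        Finsupp.sub_add_single_one_cancel (by omega)
      have hdeg' : (c - Finsupp.single i 1).degree = n := by
        have := congrArg Finsupp.degree h1
        rw [map_add, Finsupp.degree_single, hdeg] at this
        omega
      have hlpos : l ∈ posOf P Δ := by
        show P.root l ∈ natSpan P Δ
        rw [hl]
        exact (mem_natSpan_iff P Δ _).mpr ⟨_, support_tsub_subset hc _, rfl⟩
      have hnegi : P.reflectionPerm i i ∈ P' := by
        refine hcl hneg (hSP hlpos) ?_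
        rw [root_reflectionPerm_self, root_reflectionPerm_self, hγl]
        abel
      have hnegl : P.reflectionPerm l l ∈ P' := by
        refine hcl hneg (hSP (subset_posOf P Δ hiΔ)) ?_
        rw [root_reflectionPerm_self, root_reflectionPerm_self, hγl]
        abel
      rw [hγl]
      exact add_mem (ih _ (support_tsub_subset hc _) hdeg' l hl hnegl)
        (root_mem_natSpan P ⟨hiΔ, hnegi⟩)

/-- Let `Δ` be a simple system with positive roots `S` and let `P' ⊇ S` be a closed set of roots; with
`Δ'` the set of simple roots whose opposite lies in `P'`, the set `P'` is the union of `S` and of the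
roots that are non-positive integer combinations of `Δ'`. -/
theorem parabolic_eq {Δ : Set ι} (hΔ : IsSimpleSys P Δ) {P' : Set ι} (hcl : IsClosedSub P P')
    (hSP : posOf P Δ ⊆ P') :
    P' = posOf P Δ ∪
      {k : ι | -P.root k ∈ natSpan P {i : ι | i ∈ Δ ∧ P.reflectionPerm i i ∈ P'}} := by
  apply subset_antisymm
  · intro k hk
    rcases (isPosSys_posOf P hΔ).cover k with h | h
    · exact Or.inl h
    · right
      obtain ⟨c, hc, hck⟩ := (mem_natSpan_iff P Δ _).mp h
      have := root_mem_natSpan_of_neg_mem P hcl hSP _ c hc rfl _ hck.symm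
        (by rw [reflectionPerm_neg_neg]; exact hk)
      rwa [root_reflectionPerm_self] at this
  · rintro k (hk | hk)
    · exact hSP hk
    · apply mem_of_root_mem_natSpan P hcl
      have := neg_mem_natSpan P (T' := P') (fun i hi => hi.2) hk
      rwa [neg_neg] at this

/-- A closed set of roots containing each root or its opposite is, for a suitable system of simple
roots `Δ` and a subset `Δ' ⊆ Δ`, the set of roots lying in `ℕΔ ∪ (-ℕΔ')`. -/
theorem exists_parabolic_eq {P' : Set ι} (hP2 : ∀ i : ι, i ∈ P' ∨ P.reflectionPerm i i ∈ P')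
    (hcl : IsClosedSub P P') :
    ∃ Δ Δ' : Set ι, IsSimpleSys P Δ ∧ Δ' ⊆ Δ ∧
      P' = posOf P Δ ∪ {k : ι | -P.root k ∈ natSpan P Δ'} := by
  obtain ⟨S₀, hS₀⟩ := exists_isPosSys P
  obtain ⟨g, -, hg⟩ := exists_weyl_image_subset P hS₀ hP2 hcl
  obtain ⟨Δ, hΔ, -, hSΔ⟩ := exists_simple_of_isPosSys P (isPosSys_image P g hS₀)
  rw [hSΔ] at hg
  exact ⟨Δ, {i : ι | i ∈ Δ ∧ P.reflectionPerm i i ∈ P'}, hΔ, fun i hi => hi.1,
    parabolic_eq P hΔ hcl hg⟩

end Groth.Agent.Lib.RootDParab
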