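import Groth.Agent.Lib.RootCh58c
import Groth.Agent.Lib.RootDParab

/-!
# Facets and parabolic sets of roots

(helper58.)
-/

set_option autoImplicit false
open RootD RootPairing

namespace Groth.Agent.Lib.RootCh58

open Groth.Agent.Lib.RootDWeyl Groth.Agent.S2953 Groth.Agent.Lib.RootDWord
open Groth.Agent.Lib.RootDZ58 Groth.Agent.Lib.RootDDom58

section Form

variable {ι R M N : Type*} [Field R] [LinearOrder R] [IsStrictOrderedRing R]
  [AddCommGroup M] [Module R M] [AddCommGroup N] [Module R N] [Fintype ι]
  (P : RootPairing ι R M N)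

theorem rootForm_root_self_pos (i : ι) : 0 < P.RootForm (P.root i) (P.root i) :=
  P.rootForm_pos_of_ne_zero (Submodule.subset_span ⟨i, rfl⟩) (P.ne_zero i)

/-- `B(α, α) ⟨ξ, α^∨⟩ = 2 B(ξ, α)`. -/
theorem rootForm_self_mul_coroot' (i : ι) (ξ : M) :
    P.RootForm (P.root i) (P.root i) * P.coroot' i ξ = 2 * P.RootForm ξ (P.root i) := by
  have h := congrArg (P.toLinearMap ξ) (P.rootForm_self_smul_coroot i)
  rw [map_smul, map_nsmul, toLinearMap_apply_apply_Polarization, smul_eq_mul, nsmul_eq_mul] at h
  have h2 : P.RootForm ξ (P.root i) = P.RootForm (P.root i) ξ := P.rootForm_symmetric.eq ξ (P.root i)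
  rw [h2]
  exact_mod_cast h

/-- The sign of the pairing with a coroot is the sign of the scalar product with the root. -/
theorem sign_coroot' (i : ι) (ξ : M) :
    SignType.sign (P.coroot' i ξ) = SignType.sign (P.RootForm ξ (P.root i)) := by
  have h := rootForm_self_mul_coroot' P i ξ
  have h1 := congrArg SignType.sign h
  rw [sign_mul, sign_mul, sign_pos (rootForm_root_self_pos P i), one_mul,
    sign_pos (by norm_num : (0 : R) < 2), one_mul] at h1
  exact h1

theorem coroot'_nonneg_iff (i : ι) (ξ : M) :
    0 ≤ P.coroot' i ξ ↔ 0 ≤ P.RootForm ξ (P.root i) := by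
  rw [← sign_nonneg_iff, sign_coroot', sign_nonneg_iff]

theorem coroot'_eq_zero_iff (i : ι) (ξ : M) :
    P.coroot' i ξ = 0 ↔ P.RootForm ξ (P.root i) = 0 := by
  rw [← sign_eq_zero_iff, ← sign_eq_zero_iff (a := P.RootForm ξ (P.root i)), sign_coroot']

end Form


section Order

variable {ι R M N : Type*} [CommRing R] [LinearOrder R] [IsStrictOrderedRing R]
  [AddCommGroup M] [Module R M] [AddCommGroup N] [Module R N]
  (P : RootPairing ι R M N)

/-- The sign of a facet on the opposite of a root. -/
theorem sgn_reflectionPerm_self (F : RootCh.Facet P) (i : ι) :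
    F.sgn (P.reflectionPerm i i) = -F.sgn i := by
  obtain ⟨ξ, hξ⟩ := F.exists_sgnVec_eq
  rw [← hξ]
  show SignType.sign (P.coroot' (P.reflectionPerm i i) ξ) = -SignType.sign (P.coroot' i ξ)
  rw [← Left.sign_neg]
  congr 1
  show P.toLinearMap ξ (P.coroot (P.reflectionPerm i i)) = -P.toLinearMap ξ (P.coroot i)
  rw [P.coroot_reflectionPerm, P.coreflection_apply_self, map_neg]

theorem le_iff_parab_subset (F G : RootCh.Facet P) : F ≤ G ↔ F.parab ⊆ G.parab := by
  rw [RootCh.Facet.le_def]
  constructor
  · intro h i hi hG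
    rcases h i with h0 | h1
    · rw [h0] at hG; exact absurd hG (by decide)
    · exact hi (h1 ▸ hG)
  · intro h i
    have hneg := sgn_reflectionPerm_self P G i
    have hnegF := sgn_reflectionPerm_self P F i
    have h1 : F.sgn i ≠ -1 → G.sgn i ≠ -1 := fun hi => h hi
    have h2 : F.sgn (P.reflectionPerm i i) ≠ -1 → G.sgn (P.reflectionPerm i i) ≠ -1 :=
      fun hi => h hi
    rw [hneg, hnegF] at h2
    revert h1 h2
    generalize F.sgn i = a
    generalize G.sgn i = c
    revert a c
    decide

theorem parab_injective {F G : RootCh.Facet P} (h : F.parab = G.parab) : F = G :=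
  le_antisymm ((le_iff_parab_subset P F G).2 h.le) ((le_iff_parab_subset P G F).2 h.ge)

end Order


section Parab

variable {ι R M N : Type*} [Field R] [LinearOrder R] [IsStrictOrderedRing R]
  [AddCommGroup M] [Module R M] [AddCommGroup N] [Module R N]
  (P : RootPairing ι R M N)

/-- Membership in the parabolic set of a facet through the invariant form. -/
theorem mem_parab_iff [Fintype ι] (F : RootCh.Facet P) {ξ : M} (hξ : RootCh.sgnVec P ξ = F.sgn)
    (i : ι) : i ∈ F.parab ↔ 0 ≤ P.RootForm ξ (P.root i) := by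
  show F.sgn i ≠ -1 ↔ _
  rw [← hξ]
  show SignType.sign (P.coroot' i ξ) ≠ -1 ↔ _
  rw [sign_coroot', ← sign_nonneg_iff]
  generalize SignType.sign ((P.RootForm ξ) (P.root i)) = a
  revert a
  decide

theorem isParabolicSubset_parab [Finite ι] (F : RootCh.Facet P) :
    RootCh.IsParabolicSubset P F.parab := by
  cases nonempty_fintype ι
  obtain ⟨ξ, hξ⟩ := F.exists_sgnVec_eq
  constructor
  · intro i j k hi hj hk
    rw [mem_parab_iff P F hξ] at hi hj ⊢
    rw [hk, map_add]
    exact add_nonneg hi hj
  · intro i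
    by_cases h : F.sgn i = -1
    · right
      show F.sgn _ ≠ -1
      rw [sgn_reflectionPerm_self, h]
      decide
    · left; exact h

variable [Fintype ι]

/-- The invariant form against a dominant vector is non-negative on non-negative combinations of
simple roots, and vanishes only on combinations of the simple roots orthogonal to the vector. -/
theorem rootForm_nonneg_of_mem_closure {b : P.Base} {ξ : M} (hb : ξ ∈ RootCh.closedChamber b)
    {x : M} (hx : x ∈ AddSubmonoid.closure (P.root '' (b.support : Set ι))) :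
    0 ≤ P.RootForm ξ x ∧ (P.RootForm ξ x ≤ 0 → x ∈ AddSubmonoid.closure
      (P.root '' {j : ι | j ∈ b.support ∧ P.coroot' j ξ = 0})) := by
  induction hx using AddSubmonoid.closure_induction with
  | mem y hy =>
    obtain ⟨j, hj, rfl⟩ := hy
    have h0 : 0 ≤ P.RootForm ξ (P.root j) := (coroot'_nonneg_iff P j ξ).1 (hb j hj)
    refine ⟨h0, fun h => AddSubmonoid.subset_closure ⟨j, ⟨hj, ?_⟩, rfl⟩⟩
    rw [coroot'_eq_zero_iff]
    exact le_antisymm h h0
  | zero => exact ⟨by rw [map_zero], fun _ => zero_mem _⟩
  | add y z _ _ hy hz =>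
    rw [map_add]
    refine ⟨add_nonneg hy.1 hz.1, fun h => add_mem (hy.2 ?_) (hz.2 ?_)⟩
    · linarith [hy.1, hz.1]
    · linarith [hy.1, hz.1]

theorem rootForm_eq_zero_of_mem_closure {ξ : M} {J : Set ι} (hJ : ∀ j ∈ J, P.coroot' j ξ = 0)
    {x : M} (hx : x ∈ AddSubmonoid.closure (P.root '' J)) : P.RootForm ξ x = 0 := by
  induction hx using AddSubmonoid.closure_induction with
  | mem y hy =>
    obtain ⟨j, hj, rfl⟩ := hy
    rw [← coroot'_eq_zero_iff]
    exact hJ j hj
  | zero => rw [map_zero]
  | add y z _ _ hy hz => rw [map_add, hy, hz, add_zero]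

/-- The parabolic set of the facet of a dominant vector. -/
theorem mem_parab_iff_of_closedChamber (F : RootCh.Facet P) {ξ : M}
    (hξ : RootCh.sgnVec P ξ = F.sgn) {b : P.Base} (hb : ξ ∈ RootCh.closedChamber b) (i : ι) :
    i ∈ F.parab ↔ (P.root i ∈ AddSubmonoid.closure (P.root '' (b.support : Set ι)) ∨
      -P.root i ∈ AddSubmonoid.closure (P.root '' {j : ι | j ∈ b.support ∧ P.coroot' j ξ = 0})) := by
  rw [mem_parab_iff P F hξ]
  constructor
  · intro h
    rcases b.root_mem_or_neg_mem i with h1 | h1
    · exact Or.inl h1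
    · right
      apply (rootForm_nonneg_of_mem_closure P hb h1).2
      rw [map_neg]
      linarith
  · rintro (h | h)
    · exact (rootForm_nonneg_of_mem_closure P hb h).1
    · have := rootForm_eq_zero_of_mem_closure P (ξ := ξ) (fun j hj => hj.2) h
      rw [map_neg] at this
      linarith

end Parab


section Exists

variable {ι R M N : Type*} [Field R] [LinearOrder R] [IsStrictOrderedRing R]
  [AddCommGroup M] [Module R M] [AddCommGroup N] [Module R N] [Finite ι]
  (P : RootPairing ι R M N) [P.IsCrystallographic] [P.IsRootSystem] [P.IsReduced]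

/-- A simple system of the integral root datum is the support of a base. -/
theorem exists_base_of_isSimpleSys_Z {Δ : Set ι} (hΔ : IsSimpleSys (Z P) Δ) :
    ∃ b : P.Base, (b.support : Set ι) = Δ := by
  obtain ⟨b₀⟩ := P.nonempty_base
  obtain ⟨g, hg, himg⟩ := exists_weyl_image_simple_eq (Z P) (isSimpleSys_Z_of_base P b₀) hΔ
  obtain ⟨l, -, rfl⟩ := Groth.Agent.Lib.RootDWord.exists_list_of_mem (Z P)
    (isSimpleSys_Z_of_base P b₀) g hg
  obtain ⟨b, hb⟩ := exists_base_image P b₀ (wprod P l)
  refine ⟨b, ?_⟩
  rw [hb, ← himg]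
  ext k
  simp only [Set.mem_image, wprod_smul_idx]

/-- Every parabolic set of roots is the parabolic set of a facet. -/
theorem exists_parab_eq (S : Set ι) (hS : RootCh.IsParabolicSubset P S) :
    ∃ F : RootCh.Facet P, F.parab = S := by
  classical
  cases nonempty_fintype ι
  have hcl : IsClosedSub (Z P) S := by
    intro i j k hi hj hk
    apply hS.1 i j k hi hj
    have := congrArg Subtype.val hk
    exact this
  have hcov : ∀ i, i ∈ S ∨ (Z P).reflectionPerm i i ∈ S := hS.2
  obtain ⟨Δ, Δ', hΔ, hΔ', hSeq⟩ := Groth.Agent.Lib.RootDParab.exists_parabolic_eq (Z P) hcov hcl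
  obtain ⟨b, hbΔ⟩ := exists_base_of_isSimpleSys_Z P hΔ
  set c : b.support → R := fun k => if (k : ι) ∈ Δ' then 0 else 1 with hc
  set ξ : M := ∑ k : b.support, c k • RootCh.fundWeight b k with hξ
  have hcor : ∀ j (hj : j ∈ b.support), P.coroot' j ξ = if j ∈ Δ' then 0 else 1 := by
    intro j hj
    have := coroot'_sum_fundWeight P b c ⟨j, hj⟩
    simp only [hc] at this
    exact this
  have hb : ξ ∈ RootCh.closedChamber b := by
    intro j hj
    rw [hcor j hj]
    split_ifs
    · exact le_rfl
    · exact zero_le_one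
  have hJ : {j : ι | j ∈ b.support ∧ P.coroot' j ξ = 0} = Δ' := by
    ext j
    constructor
    · rintro ⟨hj, h0⟩
      rw [hcor j hj] at h0
      by_contra hjn
      rw [if_neg hjn] at h0
      exact one_ne_zero h0
    · intro hj
      have hj' : j ∈ b.support := by
        have : j ∈ (b.support : Set ι) := by rw [hbΔ]; exact hΔ' hj
        exact this
      exact ⟨hj', by rw [hcor j hj', if_pos hj]⟩
  refine ⟨RootCh.Facet.ofVec P ξ, ?_⟩
  ext i
  rw [mem_parab_iff_of_closedChamber P _ rfl hb, hJ, hSeq, hbΔ]
  simp only [Set.mem_union, Set.mem_ofPred_eq, posOf]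
  rw [mem_natSpan_Z_iff, mem_natSpan_Z_iff]
  rfl

end Exists


section SumParab

variable {ι R M N : Type*} [Field R] [LinearOrder R] [IsStrictOrderedRing R]
  [AddCommGroup M] [Module R M] [AddCommGroup N] [Module R N] [Fintype ι]
  (P : RootPairing ι R M N) [P.IsCrystallographic] [P.IsRootSystem] [P.IsReduced]

omit [P.IsRootSystem] [P.IsReduced] in
/-- The sum of the positive roots pairs positively with every simple coroot. -/
theorem coroot'_sum_pos_pos (b : P.Base) [DecidablePred fun k : ι =>
      P.root k ∈ AddSubmonoid.closure (P.root '' (b.support : Set ι))]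
    {j : ι} (hj : j ∈ b.support) :
    0 < P.coroot' j (∑ k ∈ Finset.univ.filter
      (fun k : ι => P.root k ∈ AddSubmonoid.closure (P.root '' (b.support : Set ι))), P.root k) := by
  classical
  have h := coroot'_rho_pos (Z P) (isSimpleSys_Z_of_base P b) (a := j) hj
  unfold rho at h
  rw [map_sum] at h ⊢
  simp only [root_coroot'_eq_pairing, Z_pairing] at h ⊢
  have hset : (Finset.univ.filter (fun k : ι => k ∈ posOf (Z P) (b.support : Set ι))) =
      Finset.univ.filter
        (fun k : ι => P.root k ∈ AddSubmonoid.closure (P.root '' (b.support : Set ι))) := by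
    ext k
    simp only [Finset.mem_filter, Finset.mem_univ, true_and, posOf, Set.mem_ofPred_eq]
    rw [mem_natSpan_Z_iff]
    rfl
  rw [hset] at h
  have h2 : ∑ k ∈ Finset.univ.filter
      (fun k : ι => P.root k ∈ AddSubmonoid.closure (P.root '' (b.support : Set ι))),
      P.pairing k j = ((∑ k ∈ Finset.univ.filter
      (fun k : ι => P.root k ∈ AddSubmonoid.closure (P.root '' (b.support : Set ι))),
      P.pairingIn ℤ k j : ℤ) : R) := by
    rw [Int.cast_sum]
    apply Finset.sum_congr rfl
    intro k _
    rw [← P.algebraMap_pairingIn ℤ]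
    rfl
  rw [h2]
  exact_mod_cast h


omit [P.IsRootSystem] [P.IsReduced] in
/-- A non-negative combination of simple roots other than `j` pairs non-positively with the simple
coroot of `j`. -/
theorem coroot'_nonpos_of_mem_closure (b : P.Base) {j : ι} (hj : j ∈ b.support) {J : Set ι}
    (hJ : ∀ l ∈ J, l ∈ b.support ∧ l ≠ j) {x : M}
    (hx : x ∈ AddSubmonoid.closure (P.root '' J)) : ∃ n : ℤ, n ≤ 0 ∧ P.coroot' j x = (n : R) := by
  induction hx using AddSubmonoid.closure_induction with
  | mem y hy =>
    obtain ⟨l, hl, rfl⟩ := hy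
    refine ⟨P.pairingIn ℤ l j, b.pairingIn_le_zero_of_ne (hJ l hl).2 (hJ l hl).1 hj, ?_⟩
    rw [root_coroot'_eq_pairing, ← P.algebraMap_pairingIn ℤ]
    rfl
  | zero => exact ⟨0, le_rfl, by simp⟩
  | add y z _ _ hy hz =>
    obtain ⟨n, hn, hy⟩ := hy
    obtain ⟨m, hm, hz⟩ := hz
    exact ⟨n + m, by omega, by rw [map_add, hy, hz]; push_cast; rfl⟩

/-- The sum of the roots of the parabolic set of a facet lies in the facet. -/
theorem sum_parab_mem_carrier (F : RootCh.Facet P) (s : Finset ι) (hs : ∀ i, i ∈ s ↔ i ∈ F.parab) :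
    (∑ i ∈ s, P.root i) ∈ F.carrier := by
  classical
  obtain ⟨ξ, b, hξ, hb⟩ := exists_adapted P F
  set σ : M := ∑ i ∈ s, P.root i with hσ
  -- Claim A
  have hA : ∀ j ∈ b.support, P.coroot' j ξ = 0 → P.coroot' j σ = 0 := by
    intro j hj h0
    have hrefl : P.reflection j ξ = ξ := by
      rw [P.reflection_apply, h0, zero_smul, sub_zero]
    have hperm : ∀ i, P.reflectionPerm j i ∈ s ↔ i ∈ s := by
      intro i
      rw [hs, hs]
      show F.sgn _ ≠ -1 ↔ F.sgn _ ≠ -1
      rw [← hξ]
      show SignType.sign (P.coroot' (P.reflectionPerm j i) ξ) ≠ -1 ↔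
        SignType.sign (P.coroot' i ξ) ≠ -1
      rw [← P.coroot'_reflection, hrefl]
    have hσ' : P.reflection j σ = σ := by
      rw [hσ, map_sum]
      simp only [← P.root_reflectionPerm]
      refine Finset.sum_equiv (P.reflectionPerm j) ?_ (fun _ _ => rfl)
      intro i
      rw [← hperm (P.reflectionPerm j i), P.reflectionPerm_self]
    rw [P.reflection_apply, sub_eq_self, smul_eq_zero] at hσ'
    exact hσ'.resolve_right (P.ne_zero j)
  -- Claim B
  have hB : ∀ j ∈ b.support, P.coroot' j ξ ≠ 0 → 0 < P.coroot' j σ := by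
    intro j hj hne
    have hsplit := Finset.sum_filter_add_sum_filter_not s
      (fun k : ι => P.root k ∈ AddSubmonoid.closure (P.root '' (b.support : Set ι))) P.root
    have hfil : s.filter
        (fun k : ι => P.root k ∈ AddSubmonoid.closure (P.root '' (b.support : Set ι))) =
        Finset.univ.filter
        (fun k : ι => P.root k ∈ AddSubmonoid.closure (P.root '' (b.support : Set ι))) := by
      ext k
      simp only [Finset.mem_filter, Finset.mem_univ, true_and, and_iff_right_iff_imp]
      intro hk
      rw [hs, mem_parab_iff_of_closedChamber P F hξ hb]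
      exact Or.inl hk
    rw [hfil] at hsplit
    rw [hσ, ← hsplit, map_add]
    refine add_pos_of_pos_of_nonneg (coroot'_sum_pos_pos P b hj) ?_
    rw [map_sum]
    refine Finset.sum_nonneg fun k hk => ?_
    rw [Finset.mem_filter, hs, mem_parab_iff_of_closedChamber P F hξ hb] at hk
    obtain ⟨hk1, hk2⟩ := hk
    have hk3 := hk1.resolve_left hk2
    obtain ⟨n, hn, hnk⟩ := coroot'_nonpos_of_mem_closure P b hj
      (J := {l : ι | l ∈ b.support ∧ P.coroot' l ξ = 0})
      (fun l hl => ⟨hl.1, fun h => hne (h ▸ hl.2)⟩) hk3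
    rw [map_neg] at hnk
    have : P.coroot' j (P.root k) = ((-n : ℤ) : R) := by
      rw [Int.cast_neg, ← hnk, neg_neg]
    rw [this]
    exact_mod_cast (by omega : 0 ≤ -n)
  rw [mem_carrier_iff P F hξ hb]
  constructor
  · intro j hj
    by_cases h0 : P.coroot' j ξ = 0
    · rw [hA j hj h0]
    · exact (hB j hj h0).le
  · intro j hj
    constructor
    · intro h
      by_contra h0
      exact (hB j hj h0).ne' h
    · exact hA j hj

end SumParab


section Corr

variable {ι R M N : Type*} [Field R] [LinearOrder R] [IsStrictOrderedRing R]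
  [AddCommGroup M] [Module R M] [AddCommGroup N] [Module R N] [Fintype ι]
  (P : RootPairing ι R M N) [P.IsCrystallographic] [P.IsRootSystem]

/-- The fundamental coweight through the polarization of the fundamental weight. -/
theorem fundCoweight_eq (b : P.Base) (k : b.support) :
    RootCh.fundCoweight b k =
      (2 / P.RootForm (P.root k) (P.root k)) • P.Polarization (RootCh.fundWeight b k) := by
  symm
  have hk := rootForm_root_self_pos P k
  apply (eq_fundWeight_iff P.flip b.flip k _).2
  have key : ∀ j : b.support, P.flip.coroot' (j : ι)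
      ((2 / P.RootForm (P.root k) (P.root k)) • P.Polarization (RootCh.fundWeight b k)) =
      (2 / P.RootForm (P.root k) (P.root k)) *
        (P.RootForm (P.root j) (P.root j) / 2 * P.coroot' j (RootCh.fundWeight b k)) := by
    intro j
    rw [map_smul, smul_eq_mul]
    congr 1
    have h1 : P.flip.coroot' (j : ι) (P.Polarization (RootCh.fundWeight b k)) =
        P.RootForm (RootCh.fundWeight b k) (P.root j) :=
      P.toLinearMap_apply_apply_Polarization _ _
    rw [h1]
    have h2 := rootForm_self_mul_coroot' P j (RootCh.fundWeight b k)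
    linarith
  constructor
  · rw [key k, RootCh.coroot'_fundWeight_self]
    field_simp
  · intro j hj
    rw [key j, RootCh.coroot'_fundWeight_of_ne b k j hj]
    simp

/-- The fundamental coweight has the same signs against the roots as the fundamental weight
against the coroots. -/
theorem sign_root'_fundCoweight (b : P.Base) (k : b.support) (i : ι) :
    SignType.sign (P.root' i (RootCh.fundCoweight b k)) =
      SignType.sign (P.coroot' i (RootCh.fundWeight b k)) := by
  have hk := rootForm_root_self_pos P k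
  rw [sign_coroot', fundCoweight_eq, map_smul, smul_eq_mul, sign_mul,
    sign_pos (div_pos (by norm_num) hk), one_mul]
  congr 1
  exact P.toLinearMap_apply_apply_Polarization _ _

theorem cosgnVec_fundCoweight (b : P.Base) (k : b.support) :
    RootCh.cosgnVec P (RootCh.fundCoweight b k) = RootCh.sgnVec P (RootCh.fundWeight b k) := by
  ext i
  exact sign_root'_fundCoweight P b k i

end Corr


section Corr2

variable {ι R M N : Type*} [Field R] [LinearOrder R] [IsStrictOrderedRing R]
  [AddCommGroup M] [Module R M] [AddCommGroup N] [Module R N] [Finite ι]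
  (P : RootPairing ι R M N) [P.IsCrystallographic] [P.IsRootSystem]

/-- The corners of the dual facet are the fundamental coweights corresponding to the corners. -/
theorem dualCorners_eq (F : RootCh.Facet P) :
    F.dualCorners = {y : N | ∃ m ∈ F.corners, RootCh.Corr P m y} := by
  cases nonempty_fintype ι
  ext y
  constructor
  · rintro ⟨⟨b', k, rfl⟩, hcl⟩
    obtain ⟨b, hb⟩ : ∃ b : P.Base, b = b'.flip := ⟨_, rfl⟩
    obtain ⟨k', hk'⟩ : ∃ k' : b.support, (k' : ι) = k := ⟨⟨k.1, by rw [hb]; exact k.2⟩, rfl⟩
    have hy : RootCh.fundWeight (P := P.flip) b' k = RootCh.fundCoweight b k' := by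
      subst hb
      obtain ⟨k1, k2⟩ := k
      obtain ⟨k'1, k'2⟩ := k'
      simp only at hk'
      subst hk'
      rfl
    rw [hy] at hcl ⊢
    refine ⟨RootCh.fundWeight b k', ⟨⟨b, k', rfl⟩, ?_⟩, ⟨b, k', rfl, rfl⟩⟩
    intro i
    have := hcl i
    rw [← cosgnVec_fundCoweight]
    exact this
  · rintro ⟨m, ⟨hm, hcl⟩, b, k, rfl, rfl⟩
    refine ⟨⟨b.flip, k, rfl⟩, fun i => ?_⟩
    rw [cosgnVec_fundCoweight]
    exact hcl i

omit [Finite ι] [P.IsCrystallographic] [P.IsRootSystem] in
theorem cosgnVec_reflectionPerm_self (y : N) (i : ι) :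
    RootCh.cosgnVec P y (P.reflectionPerm i i) = -RootCh.cosgnVec P y i := by
  show SignType.sign (P.root' (P.reflectionPerm i i) y) = -SignType.sign (P.root' i y)
  rw [← Left.sign_neg]
  congr 1
  show P.toLinearMap (P.root (P.reflectionPerm i i)) y = -P.toLinearMap (P.root i) y
  rw [P.root_reflectionPerm, P.reflection_apply_self, map_neg, LinearMap.neg_apply]

/-- The corners of a facet in terms of its parabolic set of roots. -/
theorem corners_eq_of_parab (F : RootCh.Facet P) :
    F.corners = {m : M | m ∈ RootCh.fundWeights P ∧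
      ∀ y : N, RootCh.Corr P m y → ∀ i ∈ F.parab, 0 ≤ P.root' i y} := by
  cases nonempty_fintype ι
  ext m
  constructor
  · intro hm
    refine ⟨hm.1, fun y hy i hi => ?_⟩
    have hy' : y ∈ F.dualCorners := by
      rw [dualCorners_eq]
      exact ⟨m, hm, hy⟩
    have h1 := hy'.2 i
    have h2 : F.sgn i ≠ -1 := hi
    rw [← sign_nonneg_iff]
    change SignType.sign (P.root' i y) = 0 ∨ SignType.sign (P.root' i y) = F.sgn i at h1
    revert h1 h2
    generalize SignType.sign (P.root' i y) = s
    generalize F.sgn i = a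
    revert s a
    decide
  · rintro ⟨⟨b, k, rfl⟩, h⟩
    refine ⟨⟨b, k, rfl⟩, fun i => ?_⟩
    have hy := h (RootCh.fundCoweight b k) ⟨b, k, rfl, rfl⟩
    rw [← cosgnVec_fundCoweight]
    have h1 : F.sgn i ≠ -1 → 0 ≤ RootCh.cosgnVec P (RootCh.fundCoweight b k) i := by
      intro hi
      have := hy i hi
      rw [← sign_nonneg_iff] at this
      exact this
    have h2 : F.sgn (P.reflectionPerm i i) ≠ -1 →
        0 ≤ RootCh.cosgnVec P (RootCh.fundCoweight b k) (P.reflectionPerm i i) := by
      intro hi
      have := hy _ hi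
      rw [← sign_nonneg_iff] at this
      exact this
    rw [sgn_reflectionPerm_self, cosgnVec_reflectionPerm_self] at h2
    revert h1 h2
    generalize RootCh.cosgnVec P (RootCh.fundCoweight b k) i = s
    generalize F.sgn i = a
    revert s a
    decide

/-- A facet is determined by its corners. -/
theorem eq_of_corners_eq [P.IsReduced] {F G : RootCh.Facet P} (h : G.corners = F.corners) :
    G = F := by
  have hc : G.carrier = F.carrier := by
    rw [carrier_eq_pos_combinations P G, carrier_eq_pos_combinations P F, h]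
  obtain ⟨ξ, hξ⟩ := G.exists_sgnVec_eq
  have h1 : ξ ∈ G.carrier := hξ
  rw [hc] at h1
  have h2 : RootCh.sgnVec P ξ = F.sgn := h1
  exact RootCh.Facet.ext (hξ.symm.trans h2)

theorem exists_unique_facet_of_parabolic [P.IsReduced] (S : Set ι)
    (hS : RootCh.IsParabolicSubset P S) :
    ∃ F : RootCh.Facet P,
      (F.corners = {m : M | m ∈ RootCh.fundWeights P ∧
          ∀ y : N, RootCh.Corr P m y → ∀ i ∈ S, 0 ≤ P.root' i y} ∧ F.parab = S) ∧
      ∀ G : RootCh.Facet P,
        G.corners = {m : M | m ∈ RootCh.fundWeights P ∧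
          ∀ y : N, RootCh.Corr P m y → ∀ i ∈ S, 0 ≤ P.root' i y} → G = F := by
  obtain ⟨F, rfl⟩ := exists_parab_eq P S hS
  refine ⟨F, ⟨corners_eq_of_parab P F, rfl⟩, fun G hG => ?_⟩
  apply eq_of_corners_eq P
  rw [hG, ← corners_eq_of_parab P F]

end Corr2

end Groth.Agent.Lib.RootCh58
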