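import Groth.Agent.Lib.RootCh23c
import Groth.Agent.Lib.RootCh58d

/-!
# Degrees of facets for a complementary convex solid (helper23)

* `zeta F` : the sum of the roots of the parabolic set of `F`; `zeta_mem_carrier`; `deg_eq`;
* `mem_cham_of_mem` : a chamber whose closure contains one point of a facet is adjacent to it;
* `deg_eq_deg` : S14249;
* `forall_deg_nonpos_iff_isSemistable` : S14239; `forall_deg_nonpos_of_dim_one_iff` : S14240.
-/

set_option autoImplicit false
set_option linter.unusedSectionVars false
open RootPairing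

namespace Groth.Agent.Lib.RootCh23

open Groth.Agent.Lib.RootCh58

variable {ι R M N : Type*} [Field R] [LinearOrder R] [IsStrictOrderedRing R]
  [AddCommGroup M] [Module R M] [AddCommGroup N] [Module R N] [Finite ι]
  {P : RootPairing ι R M N} [P.IsCrystallographic] [P.IsRootSystem] [P.IsReduced]

/-- The sum of the roots of the parabolic set of a facet. -/
noncomputable def zeta (F : RootCh.Facet P) : M :=
  ∑ i ∈ (Set.toFinite F.parab).toFinset, P.root i

theorem zeta_mem_carrier (F : RootCh.Facet P) : zeta F ∈ F.carrier := by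
  cases nonempty_fintype ι
  exact sum_parab_mem_carrier P F _ (fun i => by simp)

omit [P.IsCrystallographic] [P.IsReduced] in
theorem deg_eq (d : P.Base → N) (F : RootCh.Facet P) (b : P.Base) :
    F.deg d b = P.toLinearMap (zeta F) (d b) := by
  rw [RootCh.Facet.deg, zeta, map_sum, LinearMap.sum_apply]

omit [P.IsCrystallographic] [P.IsRootSystem] [P.IsReduced] [Finite ι] in
/-- A chamber whose closure contains one point of a facet is adjacent to the facet. -/
theorem mem_cham_of_mem {F : RootCh.Facet P} {η : M} (hη : η ∈ F.carrier) {b : P.Base}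
    (hηb : η ∈ RootCh.closedChamber b) : b ∈ F.cham := by
  intro η' hη' k hk
  have h1 : RootCh.sgnVec P η' k = RootCh.sgnVec P η k := by
    have e1 : RootCh.sgnVec P η' = F.sgn := hη'
    have e2 : RootCh.sgnVec P η = F.sgn := hη
    rw [e1, e2]
  unfold RootCh.sgnVec at h1
  have h2 : 0 ≤ SignType.sign (P.coroot' k η) := sign_nonneg_iff.mpr (hηb k hk)
  rw [← h1] at h2
  exact sign_nonneg_iff.mp h2

/-- S14249: the degree of a facet does not depend on the adjacent chamber. -/
theorem deg_eq_deg {d : P.Base → N} (hd : RootCh.IsCCS d) (F : RootCh.Facet P) {b b' : P.Base}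
    (hb : b ∈ F.cham) (hb' : b' ∈ F.cham) : F.deg d b = F.deg d b' := by
  rw [deg_eq, deg_eq]
  exact toLinearMap_eq_of_mem_closedChamber hd (hb (zeta_mem_carrier F)) (hb' (zeta_mem_carrier F))

omit [P.IsCrystallographic] [P.IsReduced] [LinearOrder R] [IsStrictOrderedRing R] [Finite ι] in
theorem toLinearMap_eq_sum_fundWeight (b : P.Base) (ζ : M) (y : N) :
    P.toLinearMap ζ y =
      ∑ k : b.support, P.coroot' k ζ * P.toLinearMap (RootCh.fundWeight b k) y := by
  conv_lhs => rw [eq_sum_fundWeight P b ζ]
  rw [map_sum, LinearMap.sum_apply]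
  refine Finset.sum_congr rfl fun k _ => ?_
  rw [map_smul, LinearMap.smul_apply, smul_eq_mul]

theorem fundWeight_mem_baseCorners (b : P.Base) (k : b.support) :
    RootCh.fundWeight b k ∈ RootCh.baseCorners b := by
  rw [baseCorners_eq]; exact ⟨k, rfl⟩

/-- Semistability gives non-positive degrees. -/
theorem deg_nonpos_of_isSemistable {d : P.Base → N} (hd : RootCh.IsCCS d)
    (hss : RootCh.IsSemistable d) (F : RootCh.Facet P) {b : P.Base} (hb : b ∈ F.cham) :
    F.deg d b ≤ 0 := by
  have hc := (forall_corner_nonpos_iff_isSemistable hd).mpr hss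
  rw [deg_eq, toLinearMap_eq_sum_fundWeight b]
  apply Finset.sum_nonpos
  intro k _
  apply mul_nonpos_of_nonneg_of_nonpos
  · exact hb (zeta_mem_carrier F) k k.2
  · exact hc b _ (fundWeight_mem_baseCorners b k)

/-- The facet of a fundamental weight. -/
theorem ofVec_fundWeight_cham (b : P.Base) (k : b.support) :
    b ∈ (RootCh.Facet.ofVec P (RootCh.fundWeight b k)).cham :=
  mem_cham_of_mem (F := RootCh.Facet.ofVec P (RootCh.fundWeight b k)) rfl
    (fundWeight_mem_closedChamber P b k)

theorem ofVec_fundWeight_corners (b : P.Base) (k : b.support) :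
    (RootCh.Facet.ofVec P (RootCh.fundWeight b k)).corners = {RootCh.fundWeight b k} := by
  rw [corners_ofVec P (fundWeight_mem_closedChamber P b k)]
  ext m
  simp only [Set.mem_ofPred_eq, Set.mem_singleton_iff]
  constructor
  · rintro ⟨j, hj, rfl⟩
    rw [coroot'_fundWeight] at hj
    by_cases hjk : j = k
    · rw [hjk]
    · rw [if_neg hjk] at hj; exact absurd rfl hj
  · rintro rfl
    exact ⟨k, by rw [RootCh.coroot'_fundWeight_self]; exact one_ne_zero, rfl⟩

theorem ofVec_fundWeight_dim (b : P.Base) (k : b.support) :
    (RootCh.Facet.ofVec P (RootCh.fundWeight b k)).dim = 1 := by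
  rw [RootCh.Facet.dim, span_carrier_eq, ofVec_fundWeight_corners]
  apply finrank_span_singleton
  intro h0
  have := RootCh.coroot'_fundWeight_self b k
  rw [h0, map_zero] at this
  exact zero_ne_one this

/-- The degree of the facet of a fundamental weight is a positive multiple of the pairing. -/
theorem exists_deg_ofVec_fundWeight (d : P.Base → N) (b : P.Base) (k : b.support) :
    ∃ c : R, 0 < c ∧ (RootCh.Facet.ofVec P (RootCh.fundWeight b k)).deg d b =
      c * P.toLinearMap (RootCh.fundWeight b k) (d b) := by
  set F := RootCh.Facet.ofVec P (RootCh.fundWeight b k) with hF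
  have hz := zeta_mem_carrier F
  have hsgn : ∀ j : b.support, SignType.sign (P.coroot' j (zeta F)) =
      SignType.sign (P.coroot' j (RootCh.fundWeight b k)) := fun j => congrFun hz j
  refine ⟨P.coroot' k (zeta F), ?_, ?_⟩
  · have := hsgn k
    rw [RootCh.coroot'_fundWeight_self, sign_one] at this
    exact sign_eq_one_iff.mp this
  · rw [deg_eq, toLinearMap_eq_sum_fundWeight b]
    rw [Finset.sum_eq_single k]
    · intro j _ hj
      have := hsgn j
      rw [RootCh.coroot'_fundWeight_of_ne b k j hj, sign_zero] at this
      rw [sign_eq_zero_iff.mp this, zero_mul]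
    · intro h; exact absurd (Finset.mem_univ _) h

/-- S14240 (and S14239): non-positivity of the degrees of the one-dimensional facets already
gives semistability. -/
theorem isSemistable_of_forall_deg_nonpos {d : P.Base → N} (hd : RootCh.IsCCS d)
    (h : ∀ (F : RootCh.Facet P) (b : P.Base), F.dim = 1 → b ∈ F.cham → F.deg d b ≤ 0) :
    RootCh.IsSemistable d := by
  rw [← forall_corner_nonpos_iff_isSemistable hd]
  intro b m hm
  rw [baseCorners_eq] at hm
  obtain ⟨k, rfl⟩ := hm
  obtain ⟨c, hc, hdeg⟩ := exists_deg_ofVec_fundWeight d b k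
  have := h _ b (ofVec_fundWeight_dim b k) (ofVec_fundWeight_cham b k)
  rw [hdeg] at this
  by_contra hpos
  push Not at hpos
  have := mul_pos hc hpos
  linarith

end Groth.Agent.Lib.RootCh23
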