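import Groth.Agent.Lib.RootCh23d

/-!
# The special facet has the largest degree (helper23)

* `le_of_mem_solid` : `⟪ξ, d c⟫ ≤ ⟪ξ, y⟫` for `ξ ∈ closedChamber c`, `y` in the solid;
* `eq_of_mem_dualSolid` : `⟪ξ, y⟫ = ⟪ξ, d b⟫` for `ξ ∈ F`, `y ∈ F(F)`, `b` adjacent to `F`;
* `isGreatest_of_isSpecial` : S14248.
-/

set_option autoImplicit false
set_option linter.unusedSectionVars false
open RootPairing

namespace Groth.Agent.Lib.RootCh23

open Groth.Agent.Lib.RootCh58

variable {ι R M N : Type*} [Field R] [LinearOrder R] [IsStrictOrderedRing R]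
  [AddCommGroup M] [Module R M] [AddCommGroup N] [Module R N] [Finite ι]
  {P : RootPairing ι R M N} [P.IsCrystallographic] [P.IsRootSystem] [P.IsReduced]

theorem le_of_mem_solid {d : P.Base → N} (hd : RootCh.IsCCS d) {c : P.Base} {ξ : M}
    (hξ : ξ ∈ RootCh.closedChamber c) {y : N} (hy : y ∈ RootCh.solid d) :
    P.toLinearMap ξ (d c) ≤ P.toLinearMap ξ y := by
  have hconv : Convex R {y : N | P.toLinearMap ξ (d c) ≤ P.toLinearMap ξ y} := by
    intro x hx z hz a e ha he hae
    simp only [Set.mem_ofPred_eq, map_add, map_smul, smul_eq_mul] at hx hz ⊢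
    calc P.toLinearMap ξ (d c) = a * P.toLinearMap ξ (d c) + e * P.toLinearMap ξ (d c) := by
          rw [← add_mul, hae, one_mul]
      _ ≤ _ := add_le_add (mul_le_mul_of_nonneg_left hx ha) (mul_le_mul_of_nonneg_left hz he)
  have hsub : Set.range d ⊆ {y : N | P.toLinearMap ξ (d c) ≤ P.toLinearMap ξ y} := by
    rintro _ ⟨b, rfl⟩
    exact concave hd b c hξ
  exact convexHull_min hsub hconv hy

omit [P.IsCrystallographic] [P.IsRootSystem] [P.IsReduced] [Finite ι] in
theorem dualSolid_subset_solid (d : P.Base → N) (F : RootCh.Facet P) :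
    RootCh.dualSolid d F ⊆ RootCh.solid d :=
  convexHull_mono (Set.image_subset_range _ _)

theorem eq_of_mem_dualSolid {d : P.Base → N} (hd : RootCh.IsCCS d) {F : RootCh.Facet P} {ξ : M}
    (hξ : ξ ∈ F.carrier) {y : N} (hy : y ∈ RootCh.dualSolid d F) {b : P.Base} (hb : b ∈ F.cham) :
    P.toLinearMap ξ y = P.toLinearMap ξ (d b) := by
  have hconv : Convex R {y : N | P.toLinearMap ξ y = P.toLinearMap ξ (d b)} := by
    intro x hx z hz a e _ _ hae
    simp only [Set.mem_ofPred_eq, map_add, map_smul, smul_eq_mul] at hx hz ⊢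
    rw [hx, hz, ← add_mul, hae, one_mul]
  have hsub : d '' F.cham ⊆ {y : N | P.toLinearMap ξ y = P.toLinearMap ξ (d b)} := by
    rintro _ ⟨b', hb', rfl⟩
    exact toLinearMap_eq_of_mem_closedChamber hd (hb' hξ) (hb hξ)
  exact convexHull_min hsub hconv hy

omit [P.IsCrystallographic] [P.IsReduced] in
theorem toLinearMap_zeta (G : RootCh.Facet P) (y : N) :
    P.toLinearMap (zeta G) y = ∑ i ∈ (Set.toFinite G.parab).toFinset, P.root' i y := by
  rw [zeta, map_sum, LinearMap.sum_apply]

omit [P.IsCrystallographic] [P.IsRootSystem] [P.IsReduced] [Finite ι] in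
theorem mem_parab_iff_of_mem_dualCarrier {F : RootCh.Facet P} {y : N} (hy : y ∈ F.dualCarrier)
    (i : ι) : i ∈ F.parab ↔ 0 ≤ P.root' i y := by
  have h1 : SignType.sign (P.root' i y) = F.sgn i := congrFun hy i
  show F.sgn i ≠ -1 ↔ _
  rw [← h1, ← sign_nonneg_iff]
  generalize SignType.sign (P.root' i y) = s
  cases s <;> decide

/-- S14248: a special facet has the largest degree, and lies in the closure of every facet
of that degree. -/
theorem isGreatest_of_isSpecial {d : P.Base → N} (hd : RootCh.IsCCS d) {F : RootCh.Facet P}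
    {b : P.Base} (hb : b ∈ F.cham) (hF : RootCh.IsSpecial d F) :
    (∀ (G : RootCh.Facet P) (c : P.Base), c ∈ G.cham → G.deg d c ≤ F.deg d b) ∧
      ∀ (G : RootCh.Facet P) (c : P.Base), c ∈ G.cham → G.deg d c = F.deg d b → G ≤ F := by
  classical
  obtain ⟨y₀, hy₀c, hy₀s⟩ := hF
  have hF1 : F.deg d b = ∑ i ∈ (Set.toFinite F.parab).toFinset, P.root' i y₀ := by
    rw [deg_eq, ← toLinearMap_zeta]
    exact (eq_of_mem_dualSolid hd (zeta_mem_carrier F) hy₀s hb).symm
  have hG1 : ∀ (G : RootCh.Facet P) (c : P.Base), c ∈ G.cham →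
      G.deg d c ≤ ∑ i ∈ (Set.toFinite G.parab).toFinset, P.root' i y₀ := by
    intro G c hc
    rw [deg_eq, ← toLinearMap_zeta]
    exact le_of_mem_solid hd (hc (zeta_mem_carrier G)) (dualSolid_subset_solid d F hy₀s)
  have hsplit : ∀ G : RootCh.Facet P,
      ∑ i ∈ (Set.toFinite G.parab).toFinset, P.root' i y₀ =
        ∑ i ∈ (Set.toFinite G.parab).toFinset ∩ (Set.toFinite F.parab).toFinset, P.root' i y₀ +
        ∑ i ∈ (Set.toFinite G.parab).toFinset \ (Set.toFinite F.parab).toFinset, P.root' i y₀ :=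
    fun G => (Finset.sum_inter_add_sum_sdiff _ _ _).symm
  have hneg : ∀ G : RootCh.Facet P,
      ∀ i ∈ (Set.toFinite G.parab).toFinset \ (Set.toFinite F.parab).toFinset,
        P.root' i y₀ < 0 := by
    intro G i hi
    rw [Finset.mem_sdiff, Set.Finite.mem_toFinset, Set.Finite.mem_toFinset,
      mem_parab_iff_of_mem_dualCarrier hy₀c] at hi
    exact not_le.mp hi.2
  have hinter : ∀ G : RootCh.Facet P,
      ∑ i ∈ (Set.toFinite G.parab).toFinset ∩ (Set.toFinite F.parab).toFinset, P.root' i y₀ ≤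
        ∑ i ∈ (Set.toFinite F.parab).toFinset, P.root' i y₀ := by
    intro G
    apply Finset.sum_le_sum_of_subset_of_nonneg Finset.inter_subset_right
    intro i hi _
    rw [Set.Finite.mem_toFinset, mem_parab_iff_of_mem_dualCarrier hy₀c] at hi
    exact hi
  refine ⟨fun G c hc => ?_, fun G c hc heq => ?_⟩
  · have h1 := hG1 G c hc
    have h2 : ∑ i ∈ (Set.toFinite G.parab).toFinset \ (Set.toFinite F.parab).toFinset,
        P.root' i y₀ ≤ 0 := Finset.sum_nonpos fun i hi => (hneg G i hi).le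
    rw [hsplit G] at h1
    rw [hF1]
    linarith [hinter G]
  · rw [le_iff_parab_subset]
    intro i hi
    by_contra hiF
    have hmem : i ∈ (Set.toFinite G.parab).toFinset \ (Set.toFinite F.parab).toFinset := by
      rw [Finset.mem_sdiff, Set.Finite.mem_toFinset, Set.Finite.mem_toFinset]
      exact ⟨hi, hiF⟩
    have h2 : ∑ i ∈ (Set.toFinite G.parab).toFinset \ (Set.toFinite F.parab).toFinset,
        P.root' i y₀ < 0 :=
      Finset.sum_neg' (fun j hj => (hneg G j hj).le) ⟨i, hmem, hneg G i hmem⟩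
    have h1 := hG1 G c hc
    rw [hsplit G] at h1
    rw [hF1] at heq
    linarith [hinter G]

end Groth.Agent.Lib.RootCh23
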