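import Groth.Agent.Lib.RootCh23e

/-!
# Existence and uniqueness of the special facet (helper23)

For an invariant scalar product `B` on `N` (symmetric, positive definite, invariant under the
coreflections):
* `exists_rep` : `B y = ⟪ξ, ·⟫` for a vector `ξ` of `M` with `sgnVec ξ = cosgnVec y`;
* `isSpecial_of_isMin` : the facet of the point of the solid closest to the origin is special;
* `lt_of_isSpecial` : the point of `F̌ ∩ F(F)` of a special facet is the closest point;
* `exists_isSpecial`, `isSpecial_unique` : S14246; `isSpecial_of_maximal` : S14247;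
* `yLocus_eq` : for a special facet `yLocus d F = {y₀}`; S14244, S14245, S14251.
-/

set_option autoImplicit false
set_option linter.unusedSectionVars false
open RootPairing

namespace Groth.Agent.Lib.RootCh23

open Groth.Agent.Lib.RootCh58

variable {ι R M N : Type*} [Field R] [LinearOrder R] [IsStrictOrderedRing R]
  [AddCommGroup M] [Module R M] [AddCommGroup N] [Module R N] [Finite ι]
  {P : RootPairing ι R M N} [P.IsCrystallographic] [P.IsRootSystem] [P.IsReduced]

section Form

variable (B : LinearMap.BilinForm R N) (hBs : ∀ y z : N, B y z = B z y)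
  (hBp : ∀ y : N, y ≠ 0 → 0 < B y y)
  (hBi : ∀ (i : ι) (y z : N), B (P.coreflection i y) (P.coreflection i z) = B y z)

include hBi in
omit [P.IsCrystallographic] [P.IsRootSystem] [P.IsReduced] [Finite ι] [LinearOrder R]
  [IsStrictOrderedRing R] in
theorem root'_mul_form (i : ι) (z : N) :
    P.root' i z * B (P.coroot i) (P.coroot i) = 2 * B (P.coroot i) z := by
  have h := hBi i (P.coroot i) z
  rw [P.coreflection_apply_self, P.coreflection_apply, map_neg, LinearMap.neg_apply, map_sub,
    map_smul, smul_eq_mul] at h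
  linear_combination h

include hBs hBp hBi in
/-- The vector of `M` representing `B y` has the signs of `y`. -/
theorem exists_rep (y : N) :
    ∃ ξ : M, P.toLinearMap ξ = B y ∧ RootCh.sgnVec P ξ = RootCh.cosgnVec P y := by
  obtain ⟨ξ, hξ⟩ := exists_toLinearMap_eq P (B y)
  refine ⟨ξ, hξ, ?_⟩
  funext i
  show SignType.sign (P.toLinearMap ξ (P.coroot i)) = SignType.sign (P.root' i y)
  rw [hξ, hBs y (P.coroot i)]
  have h1 := root'_mul_form B hBi i y
  have hpos : 0 < B (P.coroot i) (P.coroot i) := hBp _ (P.flip.ne_zero i)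
  have h2 := congrArg SignType.sign h1
  rw [sign_mul, sign_mul, sign_pos hpos, mul_one, sign_pos (by norm_num : (0 : R) < 2),
    one_mul] at h2
  exact h2.symm

/-- The linear map `N → M` representing `B`. -/
noncomputable def repMap : N →ₗ[R] M := P.toPerfPair.symm.toLinearMap.comp B

omit [P.IsCrystallographic] [P.IsReduced] [Finite ι] [LinearOrder R] [IsStrictOrderedRing R] in
theorem toLinearMap_repMap (y : N) : P.toLinearMap (repMap (P := P) B y) = B y :=
  P.toLinearMap.apply_symm_toPerfPair_self (B y)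

include hBs hBp hBi in
theorem sgnVec_repMap (y : N) :
    RootCh.sgnVec P (repMap (P := P) B y) = RootCh.cosgnVec P y := by
  obtain ⟨ξ, hξ, hs⟩ := exists_rep B hBs hBp hBi y
  have : repMap (P := P) B y = ξ := by
    apply P.toPerfPair.injective
    show P.toLinearMap _ = P.toLinearMap ξ
    rw [toLinearMap_repMap, hξ]
  rw [this, hs]

theorem solid_subset_halfClosed' {d : P.Base → N}
    (h : ∀ b : P.Base, ∀ m : M, d b ∈ RootCh.halfClosed d m) (m : M) :
    RootCh.solid d ⊆ RootCh.halfClosed d m := by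
  apply convexHull_min
  · rintro _ ⟨b, rfl⟩
    exact h b m
  · intro x hx y hy a c ha hc hac b hb
    rw [map_add, map_smul, map_smul, smul_eq_mul, smul_eq_mul]
    have h1 := hx b hb
    have h2 := hy b hb
    calc P.toLinearMap m (d b) = a * P.toLinearMap m (d b) + c * P.toLinearMap m (d b) := by
          rw [← add_mul, hac, one_mul]
      _ ≤ _ := add_le_add (mul_le_mul_of_nonneg_left h1 ha) (mul_le_mul_of_nonneg_left h2 hc)

theorem solid_subset_halfClosed {d : P.Base → N} (hd : RootCh.IsCCS d) (m : M) :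
    RootCh.solid d ⊆ RootCh.halfClosed d m :=
  solid_subset_halfClosed' (fun b m => d_mem_halfClosed hd b m) m

include hBs hBp hBi in
/-- S14245, first half: the facet whose dual facet contains the point of the solid closest to the
origin is special. -/
theorem mem_dualSolid_of_isMin {d : P.Base → N} (hd : RootCh.IsCCS d) {y₀ : N}
    (hy₀ : y₀ ∈ RootCh.solid d) (hmin : ∀ y ∈ RootCh.solid d, B y₀ y₀ ≤ B y y)
    {F : RootCh.Facet P} (hF : y₀ ∈ F.dualCarrier) : y₀ ∈ RootCh.dualSolid d F := by
  obtain ⟨ξ, hξ, hs⟩ := exists_rep B hBs hBp hBi y₀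
  have hξF : ξ ∈ F.carrier := hs.trans hF
  obtain ⟨b₀, hb₀⟩ := cham_nonempty P F
  have hvar := ConvexMin23.inner_nonneg_of_isMin B hBs hBp (convex_convexHull R _) hy₀ hmin
  have hle : P.toLinearMap ξ y₀ ≤ P.toLinearMap ξ (d b₀) := by
    have := hvar (d b₀) (subset_convexHull R _ ⟨b₀, rfl⟩)
    rw [hξ]
    rw [map_sub] at this
    linarith
  have hhalf : ∀ k : b₀.support,
      P.toLinearMap (RootCh.fundWeight b₀ k) (d b₀) ≤ P.toLinearMap (RootCh.fundWeight b₀ k) y₀ :=
    fun k => solid_subset_halfClosed hd _ hy₀ b₀ (fundWeight_mem_baseCorners b₀ k)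
  rw [toLinearMap_eq_sum_fundWeight b₀ ξ y₀, toLinearMap_eq_sum_fundWeight b₀ ξ (d b₀)] at hle
  have hterm : ∀ k : b₀.support, 0 ≤ P.coroot' k ξ *
      (P.toLinearMap (RootCh.fundWeight b₀ k) y₀ - P.toLinearMap (RootCh.fundWeight b₀ k) (d b₀)) :=
    fun k => mul_nonneg (hb₀ hξF k k.2) (sub_nonneg.mpr (hhalf k))
  have hsum : ∑ k : b₀.support, P.coroot' k ξ *
      (P.toLinearMap (RootCh.fundWeight b₀ k) y₀ -
        P.toLinearMap (RootCh.fundWeight b₀ k) (d b₀)) = 0 := by
    apply le_antisymm _ (Finset.sum_nonneg fun k _ => hterm k)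
    simp only [mul_sub, Finset.sum_sub_distrib]
    linarith
  have hzero := (Finset.sum_eq_zero_iff_of_nonneg (fun k _ => hterm k)).mp hsum
  rw [dualSolid_eq hd]
  refine ⟨?_, ?_⟩
  · simp only [Set.mem_iInter]
    intro m hm b hmb
    have hm' := hm
    rw [corners_eq P F hξF (hb₀ hξF)] at hm'
    obtain ⟨k, hk, rfl⟩ := hm'
    have h1 := hzero k (Finset.mem_univ _)
    rcases mul_eq_zero.mp h1 with h2 | h2
    · exact absurd h2 hk
    · rw [sub_eq_zero.mp h2]
      exact hd.corner_eq b₀ b _ (fundWeight_mem_baseCorners b₀ k) hmb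
  · simp only [Set.mem_iInter]
    intro m _
    exact solid_subset_halfClosed hd m hy₀

include hBs hBp hBi in
/-- S14244, core: the point of `F̌ ∩ F(F)` of a special facet is the point of the solid closest to
the origin. -/
theorem lt_of_mem_dualSolid {d : P.Base → N} (hd : RootCh.IsCCS d) {F : RootCh.Facet P} {y₀ : N}
    (hy₀c : y₀ ∈ F.dualCarrier) (hy₀s : y₀ ∈ RootCh.dualSolid d F) {y : N}
    (hy : y ∈ RootCh.solid d) (hne : y ≠ y₀) : B y₀ y₀ < B y y := by
  obtain ⟨ξ, hξ, hs⟩ := exists_rep B hBs hBp hBi y₀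
  have hξF : ξ ∈ F.carrier := hs.trans hy₀c
  obtain ⟨b₀, hb₀⟩ := cham_nonempty P F
  have h1 := le_of_mem_solid hd (hb₀ hξF) hy
  have h2 := eq_of_mem_dualSolid hd hξF hy₀s hb₀
  rw [← h2, hξ] at h1
  have h3 := ConvexMin23.expand B hBs y₀ (y - y₀) 1
  rw [one_smul, add_sub_cancel] at h3
  have h4 : 0 < B (y - y₀) (y - y₀) := hBp _ (sub_ne_zero.mpr hne)
  rw [h3, map_sub]
  linarith

end Form

section Special

variable {d : P.Base → N}

/-- Existence of a special facet. -/
theorem exists_isSpecial (hd : RootCh.IsCCS d) : ∃ F : RootCh.Facet P, RootCh.IsSpecial d F := by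
  classical
  obtain ⟨b₀⟩ := P.nonempty_base
  have hfin : (Set.range d).Finite := Set.finite_range d
  obtain ⟨y₀, hy₀, hmin⟩ := ConvexMin23.exists_isMin (cform P) (cform_symm P)
    (fun y hy => cform_pos P hy) hfin.toFinset ⟨d b₀, hfin.mem_toFinset.mpr ⟨b₀, rfl⟩⟩
  rw [Set.Finite.coe_toFinset] at hy₀ hmin
  obtain ⟨ξ, -, hs⟩ := exists_rep (cform P) (cform_symm P) (fun y hy => cform_pos P hy)
    (cform_coreflection P) y₀
  refine ⟨⟨RootCh.cosgnVec P y₀, ξ, hs⟩, y₀, rfl, ?_⟩
  exact mem_dualSolid_of_isMin (cform P) (cform_symm P) (fun y hy => cform_pos P hy)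
    (cform_coreflection P) hd hy₀ hmin rfl

/-- Uniqueness of the special facet. -/
theorem isSpecial_unique (hd : RootCh.IsCCS d) {F₁ F₂ : RootCh.Facet P}
    (h₁ : RootCh.IsSpecial d F₁) (h₂ : RootCh.IsSpecial d F₂) : F₁ = F₂ := by
  obtain ⟨y₁, hy₁c, hy₁s⟩ := h₁
  obtain ⟨y₂, hy₂c, hy₂s⟩ := h₂
  have key : y₁ = y₂ := by
    by_contra hne
    have h1 := lt_of_mem_dualSolid (cform P) (cform_symm P) (fun y hy => cform_pos P hy)
      (cform_coreflection P) hd hy₁c hy₁s (dualSolid_subset_solid d F₂ hy₂s) (Ne.symm hne)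
    have h2 := lt_of_mem_dualSolid (cform P) (cform_symm P) (fun y hy => cform_pos P hy)
      (cform_coreflection P) hd hy₂c hy₂s (dualSolid_subset_solid d F₁ hy₁s) hne
    exact lt_asymm h1 h2
  subst key
  apply RootCh.Facet.ext
  have e1 : RootCh.cosgnVec P y₁ = F₁.sgn := hy₁c
  have e2 : RootCh.cosgnVec P y₁ = F₂.sgn := hy₂c
  rw [← e1, ← e2]

/-- S14247. -/
theorem isSpecial_of_maximal (hd : RootCh.IsCCS d) {F : RootCh.Facet P} {b : P.Base}
    (hb : b ∈ F.cham)
    (hmax : ∀ (G : RootCh.Facet P) (c : P.Base), c ∈ G.cham → G.deg d c ≤ F.deg d b)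
    (hmaxl : ∀ (G : RootCh.Facet P) (c : P.Base), c ∈ G.cham → G.deg d c = F.deg d b →
      F ≤ G → G = F) : RootCh.IsSpecial d F := by
  obtain ⟨F₀, hF₀⟩ := exists_isSpecial hd
  obtain ⟨b₀, hb₀⟩ := cham_nonempty P F₀
  obtain ⟨h1, h2⟩ := isGreatest_of_isSpecial hd hb₀ hF₀
  have heq : F₀.deg d b₀ = F.deg d b := le_antisymm (hmax F₀ b₀ hb₀) (h1 F b hb)
  have hle : F ≤ F₀ := h2 F b hb heq.symm
  rw [← hmaxl F₀ b₀ hb₀ heq hle]
  exact hF₀

/-- For a special facet, `yLocus d F` is the point of `F̌ ∩ F(F)`. -/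
theorem yLocus_eq (hd : RootCh.IsCCS d) {F : RootCh.Facet P} {y₀ : N}
    (hy₀c : y₀ ∈ F.dualCarrier) (hy₀s : y₀ ∈ RootCh.dualSolid d F) :
    RootCh.yLocus d F = {y₀} := by
  obtain ⟨b₀, hb₀⟩ := cham_nonempty P F
  have hy₀h : y₀ ∈ ⋂ m ∈ F.corners, RootCh.hyper d m := by
    rw [dualSolid_eq hd] at hy₀s
    exact hy₀s.1
  ext y
  simp only [Set.mem_singleton_iff]
  constructor
  · rintro ⟨hyh, hysp⟩
    simp only [Set.mem_iInter] at hyh hy₀h
    -- `v = y - y₀`
    have hv : y - y₀ ∈ Submodule.span R F.dualCarrier :=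
      Submodule.sub_mem _ hysp (Submodule.subset_span hy₀c)
    have hcorner : ∀ m ∈ F.corners, P.toLinearMap m (y - y₀) = 0 := by
      intro m hm
      have hmb := corners_subset_baseCorners P hb₀ hm
      rw [map_sub, hyh m hm b₀ hmb, hy₀h m hm b₀ hmb, sub_self]
    have hrep : repMap (P := P) (cform P) (y - y₀) ∈ Submodule.span R F.corners := by
      rw [← span_carrier_eq]
      have hle : Submodule.span R F.dualCarrier ≤
          (Submodule.span R F.carrier).comap (repMap (P := P) (cform P)) := by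
        rw [Submodule.span_le]
        intro x hx
        apply Submodule.subset_span
        show RootCh.sgnVec P _ = F.sgn
        rw [sgnVec_repMap (cform P) (cform_symm P) (fun y hy => cform_pos P hy)
          (cform_coreflection P)]
        exact hx
      exact hle hv
    have hzero : cform P (y - y₀) (y - y₀) = 0 := by
      rw [← toLinearMap_repMap (P := P) (cform P) (y - y₀)]
      have : ∀ ζ ∈ Submodule.span R F.corners, P.toLinearMap ζ (y - y₀) = 0 := by
        intro ζ hζ
        induction hζ using Submodule.span_induction with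
        | mem m hm => exact hcorner m hm
        | zero => simp
        | add a c _ _ ha hc => rw [map_add, LinearMap.add_apply, ha, hc, add_zero]
        | smul r a _ ha => rw [map_smul, LinearMap.smul_apply, ha, smul_zero]
      exact this _ hrep
    by_contra hne
    have := cform_pos P (sub_ne_zero.mpr hne)
    rw [hzero] at this
    exact lt_irrefl _ this
  · rintro rfl
    exact ⟨hy₀h, Submodule.subset_span hy₀c⟩

end Special

end Groth.Agent.Lib.RootCh23
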