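import Groth.Agent.Lib.RootCh58d
import Groth.Prelude.Def_RootCh2

/-!
# Elementary sets of roots of a facet

(helper58.)
-/

set_option autoImplicit false
open RootD RootPairing

namespace Groth.Agent.Lib.RootCh58

variable {ι R M N : Type*} [Field R] [LinearOrder R] [IsStrictOrderedRing R]
  [AddCommGroup M] [Module R M] [AddCommGroup N] [Module R N] [Finite ι]
  (P : RootPairing ι R M N) [P.IsCrystallographic] [P.IsRootSystem] [P.IsReduced]

omit [P.IsReduced] in
/-- A root vanishing on the facet pairs to zero with the coweights corresponding to the corners. -/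
theorem root'_eq_zero_of_corr (F : RootCh.Facet P) {j : ι} (hj : F.sgn j = 0) {w : M}
    (hw : w ∈ F.corners) {x : N} (hx : RootCh.Corr P w x) : P.root' j x = 0 := by
  cases nonempty_fintype ι
  obtain ⟨b, k, rfl, rfl⟩ := hx
  have h1 := hw.2 j
  rw [hj, or_self] at h1
  rw [← sign_eq_zero_iff]
  have := congrFun (cosgnVec_fundCoweight P b k) j
  exact this.trans h1

/-- The sum of the roots of an elementary set of a facet lies in the span of its corners. -/
theorem sum_Psi_mem_span (F : RootCh.Facet P) (m : M) (hm : m ∈ F.corners) (s : Finset ι)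
    (hs : ∀ i, i ∈ s ↔ i ∈ F.Psi m) :
    (∑ i ∈ s, P.root i) ∈ Submodule.span R F.corners := by
  classical
  obtain ⟨ξ, b, hξ, hb⟩ := exists_adapted P F
  set σ : M := ∑ i ∈ s, P.root i with hσ
  have hA : ∀ j ∈ b.support, P.coroot' j ξ = 0 → P.coroot' j σ = 0 := by
    intro j hj h0
    have hFj : F.sgn j = 0 := by
      rw [← hξ]
      show SignType.sign (P.coroot' j ξ) = 0
      rw [h0, sign_zero]
    have hroot' : ∀ (i : ι) (x : N), P.root' j x = 0 →
        P.root' (P.reflectionPerm j i) x = P.root' i x := by
      intro i x hx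
      show P.toLinearMap (P.root (P.reflectionPerm j i)) x = P.toLinearMap (P.root i) x
      rw [P.root_reflectionPerm, P.reflection_apply, map_sub, map_smul, LinearMap.sub_apply,
        LinearMap.smul_apply]
      have : P.toLinearMap (P.root j) x = 0 := hx
      rw [this, smul_zero, sub_zero]
    have hperm1 : ∀ i, i ∈ F.Psi m → P.reflectionPerm j i ∈ F.Psi m := by
      rintro i ⟨h1, h2⟩
      refine ⟨fun x hx => ?_, fun w' hw' hne x hx => ?_⟩
      · rw [hroot' i x (root'_eq_zero_of_corr P F hFj hm hx)]
        exact h1 x hx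
      · rw [hroot' i x (root'_eq_zero_of_corr P F hFj hw' hx)]
        exact h2 w' hw' hne x hx
    have hperm : ∀ i, P.reflectionPerm j i ∈ s ↔ i ∈ s := by
      intro i
      rw [hs, hs]
      refine ⟨fun h => ?_, hperm1 i⟩
      have := hperm1 _ h
      rwa [P.reflectionPerm_self] at this
    have hσ' : P.reflection j σ = σ := by
      rw [hσ, map_sum]
      simp only [← P.root_reflectionPerm]
      refine Finset.sum_equiv (P.reflectionPerm j) ?_ (fun _ _ => rfl)
      intro i
      rw [← hperm (P.reflectionPerm j i), P.reflectionPerm_self]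
    rw [P.reflection_apply, sub_eq_self, smul_eq_zero] at hσ'
    exact hσ'.resolve_right (P.ne_zero j)
  rw [eq_sum_fundWeight P b σ]
  refine Submodule.sum_mem _ fun k _ => ?_
  by_cases hk : P.coroot' k ξ = 0
  · rw [hA k k.2 hk, zero_smul]
    exact Submodule.zero_mem _
  · refine Submodule.smul_mem _ _ (Submodule.subset_span ?_)
    exact (fundWeight_mem_corners_iff P F hξ hb k).2 hk

end Groth.Agent.Lib.RootCh58
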