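import Groth.Agent.Lib.RootCh23f
import Groth.Agent.Lib.RootCh58e

/-!
# Numerical invariants and special facets (helper23)

* `corr_unique` : the fundamental coweight corresponding to a fundamental weight is unique;
* `mem_Psi_iff`, `root'_eq_of_mem_Psi`, `numInv_eq` : the elementary sets of roots and the
  numerical invariants relative to an adjacent chamber;
* `numInv_pos_and_meets_iff_isSpecial` : S14243.
-/

set_option autoImplicit false
set_option linter.unusedSectionVars false
open RootPairing

namespace Groth.Agent.Lib.RootCh23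

open Groth.Agent.Lib.RootCh58

variable {ι R M N : Type*} [Field R] [LinearOrder R] [IsStrictOrderedRing R]
  [AddCommGroup M] [Module R M] [AddCommGroup N] [Module R N] [Finite ι]
  {P : RootPairing ι R M N} [P.IsCrystallographic] [P.IsRootSystem] [P.IsReduced]

/-- The pairing of a root with a fundamental coweight is an integer. -/
theorem exists_int_root'_fundCoweight (b : P.Base) (k : b.support) (j : ι) :
    ∃ n : ℤ, P.root' j (RootCh.fundCoweight b k) = n := by
  obtain ⟨f, -, -, hsum⟩ := b.exists_root_eq_sum_int j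
  refine ⟨f k, ?_⟩
  rw [root'_eq_sum P b j hsum, Finset.sum_eq_single (k : ι)]
  · rw [RootCh.root'_fundCoweight_self, mul_one]
  · intro l hl hne
    rw [RootCh.root'_fundCoweight_of_ne b k ⟨l, hl⟩ (fun h => hne (congrArg Subtype.val h)),
      mul_zero]
  · intro h; exact absurd k.2 h

/-- The relation `Corr` is functional. -/
theorem corr_unique {m : M} {x x' : N} (hx : RootCh.Corr P m x) (hx' : RootCh.Corr P m x') :
    x = x' := by
  cases nonempty_fintype ι
  obtain ⟨b, k, hm, rfl⟩ := hx
  obtain ⟨b', k', hm', rfl⟩ := hx'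
  have e := fundCoweight_eq P b k
  have e' := fundCoweight_eq P b' k'
  rw [hm] at e
  rw [hm'] at e'
  have ht : 0 < 2 / P.RootForm (P.root k) (P.root k) :=
    div_pos (by norm_num) (rootForm_root_self_pos P k)
  have ht' : 0 < 2 / P.RootForm (P.root k') (P.root k') :=
    div_pos (by norm_num) (rootForm_root_self_pos P k')
  set t := 2 / P.RootForm (P.root k) (P.root k) with htdef
  set t' := 2 / P.RootForm (P.root k') (P.root k') with ht'def
  -- `t' ≤ t`
  have key : ∀ (s s' : R) (hs : 0 < s) (hs' : 0 < s') (r : R) (n : ℤ), s' * r = 1 → s * r = n →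
      s' ≤ s := by
    intro s s' hs hs' r n h1 hn
    have hr : 0 < r := by
      by_contra hr
      push Not at hr
      have := mul_nonpos_of_nonneg_of_nonpos hs'.le hr
      linarith
    have hnpos : (0 : R) < n := by rw [← hn]; exact mul_pos hs hr
    have hn1 : (1 : ℤ) ≤ n := by exact_mod_cast hnpos
    have hn1' : (1 : R) ≤ n := by exact_mod_cast hn1
    have : s' * r ≤ s * r := by rw [h1, hn]; exact hn1'
    exact le_of_mul_le_mul_right this hr
  have h1 : t' * P.root' k' (P.Polarization m) = 1 := by
    have := RootCh.root'_fundCoweight_self b' k'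
    rw [e', map_smul, smul_eq_mul] at this
    exact this
  obtain ⟨n, hn⟩ := exists_int_root'_fundCoweight b k (k' : ι)
  rw [e, map_smul, smul_eq_mul] at hn
  have h2 : t * P.root' k (P.Polarization m) = 1 := by
    have := RootCh.root'_fundCoweight_self b k
    rw [e, map_smul, smul_eq_mul] at this
    exact this
  obtain ⟨n', hn'⟩ := exists_int_root'_fundCoweight b' k' (k : ι)
  rw [e', map_smul, smul_eq_mul] at hn'
  have hle := key t t' ht ht' _ n h1 hn
  have hle' := key t' t ht' ht _ n' h2 hn'
  rw [e, e', le_antisymm hle' hle]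

omit [P.IsCrystallographic] [P.IsReduced] [LinearOrder R] [IsStrictOrderedRing R] [Finite ι] in
/-- Expansion of a root pairing in the fundamental coweights of a base. -/
theorem root'_eq_sum_fundCoweight (b : P.Base) (i : ι) (y : N) :
    P.root' i y = ∑ k : b.support, P.root' k y * P.root' i (RootCh.fundCoweight b k) :=
  toLinearMap_eq_sum_fundWeight (P := P.flip) b.flip y (P.root i)

section Psi

variable (F : RootCh.Facet P) {η : M} (hη : η ∈ F.carrier) {b : P.Base}
  (hb : η ∈ RootCh.closedChamber b)

include hη hb in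
/-- The elementary set of roots of a corner, relative to an adjacent chamber. -/
theorem mem_Psi_iff (k₀ : b.support) (i : ι) :
    i ∈ F.Psi (RootCh.fundWeight b k₀) ↔ P.root' i (RootCh.fundCoweight b k₀) = 1 ∧
      ∀ k : b.support, P.coroot' k η ≠ 0 → k ≠ k₀ → P.root' i (RootCh.fundCoweight b k) = 0 := by
  have hc := corners_eq P F hη hb
  constructor
  · rintro ⟨h1, h2⟩
    refine ⟨h1 _ ⟨b, k₀, rfl, rfl⟩, fun k hk hne => ?_⟩
    refine h2 (RootCh.fundWeight b k) ?_ ?_ _ ⟨b, k, rfl, rfl⟩
    · rw [hc]; exact ⟨k, hk, rfl⟩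
    · exact fun h => hne (fundWeight_injective P b h)
  · rintro ⟨h1, h2⟩
    refine ⟨fun x hx => ?_, fun w' hw' hne x hx => ?_⟩
    · rw [corr_unique hx ⟨b, k₀, rfl, rfl⟩]; exact h1
    · rw [hc] at hw'
      obtain ⟨k, hk, rfl⟩ := hw'
      rw [corr_unique hx ⟨b, k, rfl, rfl⟩]
      exact h2 k hk (fun h => hne (by rw [h]))

include hη hb in
theorem mem_Psi_self (k₀ : b.support) : (k₀ : ι) ∈ F.Psi (RootCh.fundWeight b k₀) := by
  rw [mem_Psi_iff F hη hb]
  exact ⟨RootCh.root'_fundCoweight_self b k₀,
    fun k _ hne => RootCh.root'_fundCoweight_of_ne b k k₀ (fun h => hne h.symm)⟩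

include hη hb in
/-- On vectors of the span of the dual facet the roots of `Ψ(F, m)` all take the same value. -/
theorem root'_eq_of_mem_Psi (k₀ : b.support) {i : ι} (hi : i ∈ F.Psi (RootCh.fundWeight b k₀))
    {y : N} (hy : ∀ k : b.support, P.coroot' k η = 0 → P.root' k y = 0) :
    P.root' i y = P.root' k₀ y := by
  rw [mem_Psi_iff F hη hb] at hi
  rw [root'_eq_sum_fundCoweight b i y, Finset.sum_eq_single k₀]
  · rw [hi.1, mul_one]
  · intro k _ hne
    by_cases hk : P.coroot' k η = 0
    · rw [hy k hk, zero_mul]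
    · rw [hi.2 k hk hne, mul_zero]
  · intro h; exact absurd (Finset.mem_univ _) h

end Psi

/-- The numerical invariant computed on any point of the hyperplanes of the corners. -/
theorem numInv_eq {d : P.Base → N} (F : RootCh.Facet P) {m : M} (hm : m ∈ F.corners)
    {b : P.Base} (hb : b ∈ F.cham) {y : N} (hy : y ∈ ⋂ m' ∈ F.corners, RootCh.hyper d m') :
    F.numInv d m b = ∑ i ∈ (Set.toFinite (F.Psi m)).toFinset, P.root' i y := by
  simp only [Set.mem_iInter] at hy
  have hσ := sum_Psi_mem_span P F m hm (Set.toFinite (F.Psi m)).toFinset (fun i => by simp)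
  have h1 : F.numInv d m b =
      P.toLinearMap (∑ i ∈ (Set.toFinite (F.Psi m)).toFinset, P.root i) (d b) := by
    rw [RootCh.Facet.numInv, map_sum, LinearMap.sum_apply]
  have h2 : ∑ i ∈ (Set.toFinite (F.Psi m)).toFinset, P.root' i y =
      P.toLinearMap (∑ i ∈ (Set.toFinite (F.Psi m)).toFinset, P.root i) y := by
    rw [map_sum, LinearMap.sum_apply]
  rw [h1, h2]
  have : ∀ ζ ∈ Submodule.span R F.corners, P.toLinearMap ζ (d b) = P.toLinearMap ζ y := by
    intro ζ hζ
    induction hζ using Submodule.span_induction with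
    | mem m' hm' => exact (hy m' hm' b (corners_subset_baseCorners P hb hm')).symm
    | zero => simp
    | add a c _ _ ha hc => rw [map_add, LinearMap.add_apply, LinearMap.add_apply, ha, hc]
    | smul r a _ ha => rw [map_smul, LinearMap.smul_apply, LinearMap.smul_apply, ha]
  exact this _ hσ

/-- S14243. -/
theorem numInv_pos_and_meets_iff_isSpecial {d : P.Base → N} (hd : RootCh.IsCCS d)
    (F : RootCh.Facet P) :
    ((∀ m ∈ F.corners, ∀ b ∈ F.cham, 0 < F.numInv d m b) ∧
        (RootCh.dualSolid d F ∩ (Submodule.span R F.dualCarrier : Set N)).Nonempty) ↔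
      RootCh.IsSpecial d F := by
  cases nonempty_fintype ι
  obtain ⟨η, hη⟩ := F.exists_sgnVec_eq
  have hηF : η ∈ F.carrier := hη
  -- signs on the dual facet
  have hsign : ∀ y' ∈ F.dualCarrier, ∀ i : ι,
      SignType.sign (P.root' i y') = SignType.sign (P.coroot' i η) := by
    intro y' hy' i
    have h1 : SignType.sign (P.root' i y') = F.sgn i := congrFun hy' i
    have h2 : SignType.sign (P.coroot' i η) = F.sgn i := congrFun hη i
    rw [h1, h2]
  constructor
  · rintro ⟨hS1, y, hys, hysp⟩
    obtain ⟨b, hb⟩ := cham_nonempty P F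
    have hηb := hb hηF
    have hyh : y ∈ ⋂ m' ∈ F.corners, RootCh.hyper d m' := by
      rw [dualSolid_eq hd] at hys; exact hys.1
    -- vanishing
    have hvan : ∀ k : b.support, P.coroot' k η = 0 → P.root' k y = 0 := by
      intro k hk
      have hle : Submodule.span R F.dualCarrier ≤ LinearMap.ker (P.root' k) := by
        rw [Submodule.span_le]
        intro y' hy'
        have := hsign y' hy' k
        rw [hk, sign_zero] at this
        exact sign_eq_zero_iff.mp this
      exact hle hysp
    -- positivity
    have hpos : ∀ k₀ : b.support, P.coroot' k₀ η ≠ 0 → 0 < P.root' k₀ y := by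
      intro k₀ hk₀
      have hm : RootCh.fundWeight b k₀ ∈ F.corners := by
        rw [corners_eq P F hη hηb]; exact ⟨k₀, hk₀, rfl⟩
      have h1 := hS1 _ hm b hb
      rw [numInv_eq F hm hb hyh] at h1
      rw [Finset.sum_congr rfl (fun i hi => root'_eq_of_mem_Psi F hηF hηb k₀
        ((Set.Finite.mem_toFinset _).mp hi) hvan), Finset.sum_const, nsmul_eq_mul] at h1
      by_contra hneg
      push Not at hneg
      have := mul_nonpos_of_nonneg_of_nonpos
        (Nat.cast_nonneg (α := R) (Set.toFinite (F.Psi (RootCh.fundWeight b k₀))).toFinset.card) hneg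
      linarith
    -- `y` lies in the dual facet
    refine ⟨y, ?_, hys⟩
    have hy'sgn : RootCh.cosgnVec P (P.Polarization η) = F.sgn := by
      funext i
      show SignType.sign (P.root' i (P.Polarization η)) = F.sgn i
      rw [← hη]
      show _ = SignType.sign (P.coroot' i η)
      rw [sign_coroot']
      congr 1
      exact P.toLinearMap_apply_apply_Polarization _ _
    have hy'mem : P.Polarization η ∈ F.dualCarrier := hy'sgn
    have := sgnVec_eq_of_closedChamber P.flip (b := b.flip) (ξ := P.Polarization η) (ξ' := y)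
      (fun k hk => by
        show 0 ≤ P.root' k (P.Polarization η)
        rw [← sign_nonneg_iff, hsign _ hy'mem k, sign_nonneg_iff]
        exact hηb k hk)
      (fun k hk => by
        show 0 ≤ P.root' k y
        by_cases h0 : P.coroot' k η = 0
        · rw [hvan ⟨k, hk⟩ h0]
        · exact (hpos ⟨k, hk⟩ h0).le)
      (fun k hk => by
        show P.root' k (P.Polarization η) = 0 ↔ P.root' k y = 0
        rw [← sign_eq_zero_iff, hsign _ hy'mem k, sign_eq_zero_iff]
        constructor
        · intro h0; exact hvan ⟨k, hk⟩ h0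
        · intro h0
          by_contra hne
          exact (hpos ⟨k, hk⟩ hne).ne' h0)
    show RootCh.cosgnVec P y = F.sgn
    rw [← hy'sgn]
    exact this
  · rintro ⟨y₀, hc, hs⟩
    refine ⟨fun m hm b hb => ?_, ⟨y₀, hs, Submodule.subset_span hc⟩⟩
    have hηb := hb hηF
    have hyh : y₀ ∈ ⋂ m' ∈ F.corners, RootCh.hyper d m' := by
      rw [dualSolid_eq hd] at hs; exact hs.1
    have hm' := hm
    rw [corners_eq P F hη hηb] at hm'
    obtain ⟨k₀, hk₀, rfl⟩ := hm'
    have hvan : ∀ k : b.support, P.coroot' k η = 0 → P.root' k y₀ = 0 := by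
      intro k hk
      have := hsign y₀ hc k
      rw [hk, sign_zero] at this
      exact sign_eq_zero_iff.mp this
    rw [numInv_eq F hm hb hyh, Finset.sum_congr rfl (fun i hi => root'_eq_of_mem_Psi F hηF hηb k₀
      ((Set.Finite.mem_toFinset _).mp hi) hvan), Finset.sum_const, nsmul_eq_mul]
    apply mul_pos
    · have : 0 < (Set.toFinite (F.Psi (RootCh.fundWeight b k₀))).toFinset.card :=
        Finset.card_pos.mpr ⟨k₀, (Set.Finite.mem_toFinset _).mpr (mem_Psi_self F hηF hηb k₀)⟩
      exact_mod_cast this
    · have h1 := hsign y₀ hc k₀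
      have h2 : 0 < P.coroot' k₀ η := lt_of_le_of_ne (hηb k₀ k₀.2) (Ne.symm hk₀)
      rw [sign_pos h2] at h1
      exact sign_eq_one_iff.mp h1

end Groth.Agent.Lib.RootCh23
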