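import Mathlib.LinearAlgebra.RootSystem.Defs
import Mathlib.LinearAlgebra.RootSystem.Basic
import Mathlib.LinearAlgebra.Finsupp.LinearCombination
import Mathlib.LinearAlgebra.LinearIndependent.Defs
import Groth.Prelude.Def_W4sga3xxiRoot

set_option autoImplicit false

namespace Groth.Agent.Lib.RootDBasic

open RootD

variable {ι M N : Type*} [AddCommGroup M] [AddCommGroup N] (P : RootPairing ι ℤ M N)

/-- natural-number combination of roots -/
noncomputable def comb (c : ι →₀ ℕ) : M := c.sum fun i n => n • P.root i

theorem comb_zero : comb P 0 = 0 := by simp [comb]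

theorem comb_add (c c' : ι →₀ ℕ) : comb P (c + c') = comb P c + comb P c' := by
  unfold comb
  rw [Finsupp.sum_add_index']
  · intro i; simp
  · intro i m n; rw [add_smul]

theorem comb_single (i : ι) (n : ℕ) : comb P (Finsupp.single i n) = n • P.root i := by
  simp [comb]

theorem mem_natSpan_iff (S : Set ι) (x : M) :
    x ∈ natSpan P S ↔ ∃ c : ι →₀ ℕ, (↑c.support : Set ι) ⊆ S ∧ comb P c = x := by
  constructor
  · intro hx
    unfold natSpan at hx
    induction hx using AddSubmonoid.closure_induction with
    | mem y hy =>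
      obtain ⟨i, hi, rfl⟩ := hy
      refine ⟨Finsupp.single i 1, ?_, by simp [comb_single]⟩
      intro j hj
      have := Finsupp.support_single_subset hj
      simp only [Finset.mem_singleton] at this
      rw [this]; exact hi
    | zero => exact ⟨0, by simp, comb_zero P⟩
    | add y z _ _ hy hz =>
      obtain ⟨c, hc, rfl⟩ := hy
      obtain ⟨c', hc', rfl⟩ := hz
      refine ⟨c + c', ?_, comb_add P c c'⟩
      classical
      intro j hj
      rcases Finset.mem_union.mp (Finsupp.support_add hj) with h | h
      · exact hc h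
      · exact hc' h
  · rintro ⟨c, hc, rfl⟩
    unfold comb Finsupp.sum
    apply AddSubmonoid.sum_mem
    intro i hi
    apply AddSubmonoid.nsmul_mem
    exact AddSubmonoid.subset_closure ⟨i, hc hi, rfl⟩

/-- integer version of a natural combination -/
noncomputable def toInt (c : ι →₀ ℕ) : ι →₀ ℤ := c.mapRange (fun n : ℕ => (n : ℤ)) rfl

theorem toInt_apply (c : ι →₀ ℕ) (i : ι) : toInt c i = (c i : ℤ) := by simp [toInt]

theorem support_toInt (c : ι →₀ ℕ) : (toInt c).support = c.support := by
  ext i
  simp [toInt_apply]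

theorem linearCombination_toInt (c : ι →₀ ℕ) :
    Finsupp.linearCombination ℤ P.root (toInt c) = comb P c := by
  rw [Finsupp.linearCombination_apply, toInt, Finsupp.sum_mapRange_index]
  · unfold comb
    apply Finsupp.sum_congr
    intro i _
    simp
  · intro i; simp

theorem toInt_mem_supported (c : ι →₀ ℕ) (Δ : Set ι) (hc : (↑c.support : Set ι) ⊆ Δ) :
    toInt c ∈ Finsupp.supported ℤ ℤ Δ := by
  rw [Finsupp.mem_supported, support_toInt]
  exact hc

theorem toInt_injective : Function.Injective (toInt (ι := ι)) := by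
  intro c c' h
  ext i
  have := DFunLike.congr_fun h i
  rw [toInt_apply, toInt_apply] at this
  exact_mod_cast this

/-- uniqueness of natural coefficients over a linearly independent set -/
theorem comb_injOn {Δ : Set ι} (hli : LinearIndepOn ℤ P.root Δ) (c c' : ι →₀ ℕ)
    (hc : (↑c.support : Set ι) ⊆ Δ) (hc' : (↑c'.support : Set ι) ⊆ Δ)
    (h : comb P c = comb P c') : c = c' := by
  apply toInt_injective
  apply linearIndepOn_iffₛ.mp hli _ (toInt_mem_supported c Δ hc) _ (toInt_mem_supported c' Δ hc')
  rw [linearCombination_toInt, linearCombination_toInt, h]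

theorem eq_zero_of_mem_of_neg_mem {Δ : Set ι} (hli : LinearIndepOn ℤ P.root Δ) (x : M)
    (hx : x ∈ natSpan P Δ) (hx' : -x ∈ natSpan P Δ) : x = 0 := by
  obtain ⟨c, hc, rfl⟩ := (mem_natSpan_iff P Δ x).mp hx
  obtain ⟨c', hc', h⟩ := (mem_natSpan_iff P Δ _).mp hx'
  have hsum : comb P (c + c') = comb P 0 := by
    rw [comb_add, h, comb_zero]; simp
  have h0 : c + c' = 0 := by
    classical
    apply comb_injOn P hli _ _ _ (by simp) hsum
    intro j hj
    rcases Finset.mem_union.mp (Finsupp.support_add hj) with h | h
    · exact hc h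
    · exact hc' h
  have : c = 0 := by
    ext i
    have := DFunLike.congr_fun h0 i
    simp only [Finsupp.coe_add, Pi.add_apply, Finsupp.coe_zero, Pi.zero_apply] at this
    simp; omega
  rw [this, comb_zero]

theorem root_ne_zero (i : ι) : P.root i ≠ 0 := P.ne_zero i

theorem nsmul_root_ne_zero (i : ι) (n : ℕ) (hn : 0 < n) : n • P.root i ≠ 0 := by
  intro h
  have h2 := P.root_coroot_two i
  have h3 : P.toLinearMap (n • P.root i) (P.coroot i) = 0 := by rw [h]; simp
  rw [map_nsmul, LinearMap.smul_apply, h2] at h3
  simp at h3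
  omega

theorem root_reflectionPerm_self (i : ι) : P.root (P.reflectionPerm i i) = -P.root i := by
  rw [P.root_reflectionPerm, P.reflection_apply_self]

theorem natSpan_mono {S T : Set ι} (h : S ⊆ T) : natSpan P S ≤ natSpan P T :=
  AddSubmonoid.closure_mono (Set.image_mono h)

theorem root_mem_natSpan {S : Set ι} {i : ι} (hi : i ∈ S) : P.root i ∈ natSpan P S :=
  AddSubmonoid.subset_closure ⟨i, hi, rfl⟩

theorem natSpan_posOf (Δ : Set ι) : natSpan P (posOf P Δ) = natSpan P Δ := by
  apply le_antisymm
  · unfold natSpan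
    rw [AddSubmonoid.closure_le]
    rintro _ ⟨k, hk, rfl⟩
    exact hk
  · apply natSpan_mono
    intro i hi
    exact root_mem_natSpan P hi

end Groth.Agent.Lib.RootDBasic
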