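import Mathlib.LinearAlgebra.RootSystem.Finite.Lemmas
import Mathlib.LinearAlgebra.RootSystem.Finite.Nondegenerate
import Groth.Agent.Lib.RootDBasic

set_option autoImplicit false

namespace Groth.Agent.Lib.RootDForm

open RootD Groth.Agent.Lib.RootDBasic

variable {ι M N : Type*} [AddCommGroup M] [AddCommGroup N] (P : RootPairing ι ℤ M N)

theorem pairingIn_int (i j : ι) : P.pairingIn ℤ i j = P.pairing i j := by
  have := P.algebraMap_pairingIn ℤ i j
  simpa using this

section fintype

variable [Fintype ι]

theorem rootForm_root_self_pos (j : ι) : 0 < P.RootForm (P.root j) (P.root j) := by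
  apply P.rootForm_pos_of_ne_zero
  · exact Submodule.subset_span ⟨j, rfl⟩
  · exact P.ne_zero j

theorem two_mul_rootForm (i j : ι) :
    2 * P.RootForm (P.root i) (P.root j) = P.pairing i j * P.RootForm (P.root j) (P.root j) := by
  exact (P.posRootForm ℤ).two_mul_apply_root_root i j

theorem rootForm_pos_iff (i j : ι) :
    0 < P.RootForm (P.root i) (P.root j) ↔ 0 < P.pairing i j := by
  have h1 := two_mul_rootForm P i j
  have h2 := rootForm_root_self_pos P j
  constructor
  · intro h
    by_contra hcon
    push Not at hcon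
    have : P.pairing i j * P.RootForm (P.root j) (P.root j) ≤ 0 :=
      mul_nonpos_of_nonpos_of_nonneg hcon h2.le
    omega
  · intro h
    have : 0 < P.pairing i j * P.RootForm (P.root j) (P.root j) := mul_pos h h2
    omega

theorem rootForm_nonpos_iff (i j : ι) :
    P.RootForm (P.root i) (P.root j) ≤ 0 ↔ P.pairing i j ≤ 0 := by
  rw [← not_lt, ← not_lt, rootForm_pos_iff]

end fintype

variable [Finite ι]

/-- If a root is a natural combination of roots, it pairs positively with one of them. -/
theorem exists_pairing_pos {κ : Type*} (s : Finset κ) (a : κ → ι) (m : κ → ℕ) (k : ι)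
    (hk : P.root k = ∑ i ∈ s, m i • P.root (a i)) :
    ∃ i ∈ s, 0 < m i ∧ 0 < P.pairing k (a i) := by
  cases nonempty_fintype ι
  have h1 := rootForm_root_self_pos P k
  have h2 : P.RootForm (P.root k) (P.root k) =
      ∑ i ∈ s, (m i : ℤ) * P.RootForm (P.root k) (P.root (a i)) := by
    rw [congrArg (P.RootForm (P.root k)) hk, map_sum]
    apply Finset.sum_congr rfl
    intro i _
    rw [map_nsmul, nsmul_eq_mul]
  rw [h2] at h1
  obtain ⟨i, hi, hpos⟩ := Finset.exists_lt_of_sum_lt (f := fun _ => (0 : ℤ)) (by simpa using h1)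
  refine ⟨i, hi, ?_, ?_⟩
  · by_contra h
    have : m i = 0 := by omega
    simp [this] at hpos
  · rw [← rootForm_pos_iff]
    by_contra h
    push Not at h
    have : (m i : ℤ) * P.RootForm (P.root k) (P.root (a i)) ≤ 0 :=
      mul_nonpos_of_nonneg_of_nonpos (by positivity) h
    omega

theorem exists_root_sub (i j : ι) (h : 0 < P.pairing i j) (hij : i ≠ j) :
    ∃ l, P.root l = P.root i - P.root j := by
  have h' : 0 < P.pairingIn ℤ i j := by rwa [pairingIn_int]
  obtain ⟨l, hl⟩ := P.root_sub_root_mem_of_pairingIn_pos h' hij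
  exact ⟨l, hl⟩

end Groth.Agent.Lib.RootDForm
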