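import Groth.Agent.Lib.RootDConj
import Groth.Agent.S5452
import Groth.Agent.S5450

/-!
Sub root data on a reflection-stable set of roots of a root datum over the integers (same weight
and coweight lattices, fewer roots), so that the theory of positive/simple systems applies to
subsystems; sets of roots cut out by a subspace; extension of simple systems of such subsystems.
(helper58.)
-/

set_option autoImplicit false
open RootD

namespace Groth.Agent.Lib.RootDSub58

open Groth.Agent.Lib.RootDBasic Groth.Agent.Lib.RootDForm Groth.Agent.Lib.RootDSimple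
  Groth.Agent.Lib.RootDWeyl Groth.Agent.Lib.RootDConj

variable {ι M N : Type*} [AddCommGroup M] [AddCommGroup N] (P : RootPairing ι ℤ M N)

/-- A set of roots stable under the reflections in its elements. -/
def IsReflStable (T : Set ι) : Prop := ∀ i ∈ T, ∀ j ∈ T, P.reflectionPerm i j ∈ T

/-- The root datum with the same lattices whose roots are those of a reflection-stable set. -/
def sub (T : Set ι) (hT : IsReflStable P T) : RootPairing T ℤ M N where
  toLinearMap := P.toLinearMap
  root := (Function.Embedding.subtype _).trans P.root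
  coroot := (Function.Embedding.subtype _).trans P.coroot
  root_coroot_two i := P.root_coroot_two i
  reflectionPerm i := (P.reflectionPerm i).subtypeEquiv (fun j =>
    ⟨fun hj => hT i i.2 j hj, fun hj => by
      have := hT i i.2 _ hj
      rwa [P.reflectionPerm_self] at this⟩)
  reflectionPerm_root i j := P.reflectionPerm_root i j
  reflectionPerm_coroot i j := P.reflectionPerm_coroot i j

section sub

variable {T : Set ι} (hT : IsReflStable P T)

@[simp] theorem sub_root (i : T) : (sub P T hT).root i = P.root i := rfl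

@[simp] theorem sub_coroot (i : T) : (sub P T hT).coroot i = P.coroot i := rfl

@[simp] theorem sub_reflectionPerm (i j : T) :
    ((sub P T hT).reflectionPerm i j : ι) = P.reflectionPerm i j := rfl

@[simp] theorem sub_pairing (i j : T) : (sub P T hT).pairing i j = P.pairing i j := rfl

theorem sub_root_image (A : Set T) :
    (sub P T hT).root '' A = P.root '' (Subtype.val '' A) := by
  rw [Set.image_image]
  rfl

theorem natSpan_sub (A : Set T) :
    natSpan (sub P T hT) A = natSpan P (Subtype.val '' A) := by
  unfold natSpan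
  rw [sub_root_image]

theorem isIndiv_sub {i : T} (h : IsIndiv P i) : IsIndiv (sub P T hT) i :=
  fun j => h j

/-- A simple system of the sub root datum, seen in the ambient datum. -/
theorem isSimpleSys_sub_iff (A : Set T) :
    IsSimpleSys (sub P T hT) A ↔ LinearIndepOn ℤ P.root (Subtype.val '' A) ∧
      ∀ k ∈ T, P.root k ∈ natSpan P (Subtype.val '' A) ∨
        -P.root k ∈ natSpan P (Subtype.val '' A) := by
  constructor
  · intro h
    refine ⟨?_, ?_⟩
    · have h1 : LinearIndepOn ℤ (P.root ∘ Subtype.val) A := h.linInd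
      exact h1.image_of_comp _ _
    · intro k hk
      have := h.mem_or_neg_mem ⟨k, hk⟩
      rwa [natSpan_sub] at this
  · rintro ⟨h1, h2⟩
    refine ⟨?_, ?_⟩
    · exact h1.comp_of_image Subtype.val_injective.injOn
    · intro k
      rw [natSpan_sub]
      exact h2 k k.2

end sub

/-! ### Sets of roots cut out by a subspace -/

/-- `T` is the trace on the roots of a subspace: every root with a positive multiple in the span of
`T` lies in `T`. -/
def IsSat (T : Set ι) : Prop :=
  ∀ k : ι, (∃ n : ℕ, 0 < n ∧ n • P.root k ∈ Submodule.span ℤ (P.root '' T)) → k ∈ T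

theorem isReflStable_of_isSat {T : Set ι} (hT : IsSat P T) : IsReflStable P T := by
  intro i hi j hj
  apply hT
  refine ⟨1, one_pos, ?_⟩
  rw [one_smul, root_reflectionPerm']
  exact sub_mem (Submodule.subset_span ⟨j, hj, rfl⟩)
    (Submodule.smul_mem _ _ (Submodule.subset_span ⟨i, hi, rfl⟩))

/-- Elements of the group generated by the reflections in `T` move roots by elements of the
span of `T`. -/
theorem root_smul_sub_mem_span {T : Set ι} {g : P.Aut}
    (hg : g ∈ Subgroup.closure ((fun i : ι => RootPairing.Equiv.reflection P i) '' T)) (k : ι) :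
    P.root (g • k) - P.root k ∈ Submodule.span ℤ (P.root '' T) := by
  revert k
  refine weylSub_induction P (pred := fun g => ∀ k : ι,
    P.root (g • k) - P.root k ∈ Submodule.span ℤ (P.root '' T)) ?_ ?_ ?_ hg
  · intro i hi k
    rw [reflection_smul_idx, root_reflectionPerm', sub_sub_cancel_left]
    exact neg_mem (Submodule.smul_mem _ _ (Submodule.subset_span ⟨i, hi, rfl⟩))
  · intro k
    rw [one_smul, sub_self]
    exact zero_mem _
  · intro x y hx hy k
    have : P.root ((x * y) • k) - P.root k =
        (P.root (x • (y • k)) - P.root (y • k)) + (P.root (y • k) - P.root k) := by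
      rw [mul_smul]; abel
    rw [this]
    exact add_mem (hx _) (hy _)

section ordered

variable [Finite ι]

theorem finite_weylGroup : Finite P.weylGroup :=
  Finite.of_injective _ (Groth.Agent.S5452.result P)

omit [Finite ι] in
theorem weylSub_le (T : Set ι) :
    Subgroup.closure ((fun i : ι => RootPairing.Equiv.reflection P i) '' T) ≤ P.weylGroup :=
  Subgroup.closure_mono (Set.image_subset_range _ _)

theorem finite_weylSub (T : Set ι) :
    Finite (Subgroup.closure ((fun i : ι => RootPairing.Equiv.reflection P i) '' T)) := by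
  have := finite_weylGroup P
  exact Finite.of_injective _ (Subgroup.inclusion_injective (weylSub_le P T))

/-- A `Fintype` structure on the group generated by the reflections in `T`. -/
@[instance_reducible] noncomputable def fintypeWeylSub (T : Set ι) :
    Fintype (Subgroup.closure ((fun i : ι => RootPairing.Equiv.reflection P i) '' T)) :=
  @Fintype.ofFinite _ (finite_weylSub P T)

/-- The sum of the transforms of a root under the group generated by the reflections in `T`. -/
noncomputable def orbitSum (T : Set ι) (k : ι) : M :=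
  letI := fintypeWeylSub P T
  ∑ h : Subgroup.closure ((fun i : ι => RootPairing.Equiv.reflection P i) '' T),
    P.root ((h : P.Aut) • k)

theorem smul_orbitSum {T : Set ι} {g : P.Aut}
    (hg : g ∈ Subgroup.closure ((fun i : ι => RootPairing.Equiv.reflection P i) '' T)) (k : ι) :
    g • orbitSum P T k = orbitSum P T k := by
  unfold orbitSum
  letI := fintypeWeylSub P T
  rw [Finset.smul_sum]
  refine Fintype.sum_equiv (Equiv.mulLeft ⟨g, hg⟩) _ _ ?_
  intro h
  rw [← root_smul, ← mul_smul]
  rfl

theorem orbitSum_mem_rootSpan (T : Set ι) (k : ι) : orbitSum P T k ∈ P.rootSpan ℤ := by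
  unfold orbitSum
  exact Submodule.sum_mem _ fun h _ => Submodule.subset_span ⟨_, rfl⟩

theorem card_smul_sub_orbitSum_mem (T : Set ι) (k : ι) :
    ∃ n : ℕ, 0 < n ∧ n • P.root k - orbitSum P T k ∈ Submodule.span ℤ (P.root '' T) := by
  letI := fintypeWeylSub P T
  refine ⟨Fintype.card (Subgroup.closure ((fun i : ι => RootPairing.Equiv.reflection P i) '' T)),
    Fintype.card_pos, ?_⟩
  have h1 : Fintype.card (Subgroup.closure
      ((fun i : ι => RootPairing.Equiv.reflection P i) '' T)) • P.root k - orbitSum P T k =
      -∑ h : Subgroup.closure ((fun i : ι => RootPairing.Equiv.reflection P i) '' T),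
        (P.root ((h : P.Aut) • k) - P.root k) := by
    unfold orbitSum
    rw [Finset.sum_sub_distrib, Finset.sum_const, Finset.card_univ]
    abel
  rw [h1]
  exact neg_mem (Submodule.sum_mem _ fun h _ => root_smul_sub_mem_span P h.2 k)

variable [Fintype ι]

theorem rootForm_root_orbitSum {T : Set ι} {t : ι} (ht : t ∈ T) (k : ι) :
    P.RootForm (P.root t) (orbitSum P T k) = 0 := by
  have hmem : RootPairing.Equiv.reflection P t ∈
      Subgroup.closure ((fun i : ι => RootPairing.Equiv.reflection P i) '' T) :=
    Subgroup.subset_closure ⟨t, ht, rfl⟩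
  have h1 := P.rootForm_reflection_reflection_apply t (P.root t) (orbitSum P T k)
  have h2 : P.reflection t (orbitSum P T k) = orbitSum P T k := smul_orbitSum P hmem k
  rw [h2, P.reflection_apply_self, map_neg, LinearMap.neg_apply] at h1
  omega

theorem rootForm_orbitSum_of_mem_span {T : Set ι} {l : M}
    (hl : l ∈ Submodule.span ℤ (P.root '' T)) (k : ι) :
    P.RootForm l (orbitSum P T k) = 0 := by
  have hle : Submodule.span ℤ (P.root '' T) ≤ LinearMap.ker (P.RootForm.flip (orbitSum P T k)) := by
    rw [Submodule.span_le]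
    rintro _ ⟨t, ht, rfl⟩
    exact rootForm_root_orbitSum P ht k
  exact hle hl

/-- For a set of roots cut out by a subspace there is a homomorphism to a linearly ordered group
vanishing exactly on the roots of this set. -/
theorem exists_orderedHom_ker {T : Set ι} (hT : IsSat P T) :
    ∃ (r : ℕ) (ψ : M →+ Lex (Fin r → ℤ)), ∀ k : ι, ψ (P.root k) = 0 ↔ k ∈ T := by
  obtain ⟨r, ⟨e⟩⟩ := Finite.exists_equiv_fin ι
  let ψ : M →+ Lex (Fin r → ℤ) :=
    (toLexAddEquiv (Fin r → ℤ)).toAddMonoidHom.comp
      (AddMonoidHom.pi fun a => (P.RootForm.flip (orbitSum P T (e.symm a))).toAddMonoidHom)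
  have hψ : ∀ x : M, ψ x = 0 ↔ ∀ j : ι, P.RootForm x (orbitSum P T j) = 0 := by
    intro x
    constructor
    · intro h j
      have h' : (fun a : Fin r => P.RootForm x (orbitSum P T (e.symm a))) = 0 := h
      have := congrFun h' (e j)
      simpa using this
    · intro h
      have h' : (fun a : Fin r => P.RootForm x (orbitSum P T (e.symm a))) = 0 :=
        funext fun a => by simpa using h (e.symm a)
      exact h'
  refine ⟨r, ψ, fun k => ?_⟩
  rw [hψ]
  constructor
  · intro h
    obtain ⟨n, hn, hl⟩ := card_smul_sub_orbitSum_mem P T k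
    have h1 : P.RootForm (orbitSum P T k) (orbitSum P T k) = 0 := by
      have h4 : P.RootForm (n • P.root k - (n • P.root k - orbitSum P T k))
          (orbitSum P T k) = 0 := by
        rw [map_sub, LinearMap.sub_apply, rootForm_orbitSum_of_mem_span P hl, map_nsmul,
          LinearMap.smul_apply, h k]
        simp
      have h2 : n • P.root k - (n • P.root k - orbitSum P T k) = orbitSum P T k := by abel
      rwa [h2] at h4
    have h3 : orbitSum P T k = 0 :=
      P.eq_zero_of_mem_rootSpan_of_rootForm_self_eq_zero (orbitSum_mem_rootSpan P T k) h1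
    rw [h3, sub_zero] at hl
    exact hT k ⟨n, hn, hl⟩
  · intro hk j
    exact rootForm_root_orbitSum P hk j

end ordered

/-! ### Extending simple systems of subsystems -/

section extend

variable [Finite ι]

/-- The positive system attached to an ordered homomorphism vanishing exactly on `T` and a simple
system `Δ'` of `T`: roots on which the homomorphism is positive, and roots of `T` that are
non-negative combinations of `Δ'`. -/
theorem isPosSys_union {G : Type*} [AddCommGroup G] [LinearOrder G] [IsOrderedAddMonoid G]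
    (ψ : M →+ G) {T : Set ι} (hψ : ∀ k : ι, ψ (P.root k) = 0 ↔ k ∈ T) {Δ' : Set ι}
    (hli : LinearIndepOn ℤ P.root Δ')
    (hgen : ∀ k ∈ T, P.root k ∈ natSpan P Δ' ∨ -P.root k ∈ natSpan P Δ') :
    IsPosSys P ({k : ι | 0 < ψ (P.root k)} ∪ {k : ι | k ∈ T ∧ P.root k ∈ natSpan P Δ'}) := by
  have hneg : ∀ k : ι, ψ (P.root (P.reflectionPerm k k)) = -ψ (P.root k) := by
    intro k
    rw [root_reflectionPerm_self, map_neg]
  have hnonneg : ∀ k : ι, k ∈ ({k : ι | 0 < ψ (P.root k)} ∪
      {k : ι | k ∈ T ∧ P.root k ∈ natSpan P Δ'}) → 0 ≤ ψ (P.root k) := by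
    rintro k (hk | hk)
    · exact le_of_lt hk
    · exact le_of_eq ((hψ k).mpr hk.1).symm
  rw [Groth.Agent.S5456.result]
  refine ⟨?_, ?_, ?_⟩
  · rintro k (hk | hk) (hk' | hk')
    · have h1 : 0 < ψ (P.root k) := hk
      have h2 : 0 < ψ (P.root (P.reflectionPerm k k)) := hk'
      rw [hneg, neg_pos] at h2
      exact lt_asymm h1 h2
    · have h1 : 0 < ψ (P.root k) := hk
      have h2 := (hψ _).mpr hk'.1
      rw [hneg, neg_eq_zero] at h2
      exact h1.ne' h2
    · have h1 := (hψ _).mpr hk.1
      have h2 : 0 < ψ (P.root (P.reflectionPerm k k)) := hk'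
      rw [hneg, h1, neg_zero] at h2
      exact lt_irrefl _ h2
    · have h1 := hk'.2
      rw [root_reflectionPerm_self] at h1
      exact P.ne_zero k (eq_zero_of_mem_of_neg_mem P hli _ hk.2 h1)
  · intro k
    rcases lt_trichotomy (ψ (P.root k)) 0 with h | h | h
    · right; left
      show 0 < ψ (P.root (P.reflectionPerm k k))
      rw [hneg, neg_pos]
      exact h
    · have hkT : k ∈ T := (hψ k).mp h
      rcases hgen k hkT with h1 | h1
      · left; right
        exact ⟨hkT, h1⟩
      · right; right
        refine ⟨(hψ _).mp (by rw [hneg, h, neg_zero]), ?_⟩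
        rw [root_reflectionPerm_self]
        exact h1
    · left; left
      exact h
  · intro i j k hi hj hk
    have hsum : ψ (P.root k) = ψ (P.root i) + ψ (P.root j) := by rw [hk, map_add]
    rcases hi with hi | hi
    · left
      show 0 < ψ (P.root k)
      rw [hsum]
      exact add_pos_of_pos_of_nonneg hi (hnonneg j hj)
    · rcases hj with hj | hj
      · left
        show 0 < ψ (P.root k)
        rw [hsum]
        exact add_pos_of_nonneg_of_pos (hnonneg i (Or.inr hi)) hj
      · right
        refine ⟨(hψ k).mp ?_, ?_⟩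
        · rw [hsum, (hψ i).mpr hi.1, (hψ j).mpr hj.1, add_zero]
        · rw [hk]
          exact add_mem hi.2 hj.2

/-- If `T` is the trace of a subspace on the roots, every system of simple roots `Δ'` of the
roots `T` is contained in a system of simple roots `Δ` of the whole datum, and `T` is the set of
roots in the span of `Δ'`. -/
theorem exists_simpleSys_extending {T : Set ι} (hT : IsSat P T) {Δ' : Set ι} (hΔ'T : Δ' ⊆ T)
    (hli : LinearIndepOn ℤ P.root Δ')
    (hgen : ∀ k ∈ T, P.root k ∈ natSpan P Δ' ∨ -P.root k ∈ natSpan P Δ') :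
    ∃ Δ : Set ι, IsSimpleSys P Δ ∧ Δ' ⊆ Δ ∧ T = inSpan P Δ' := by
  classical
  have : Fintype ι := Fintype.ofFinite ι
  obtain ⟨r, ψ, hψ⟩ := exists_orderedHom_ker P hT
  have hS₁ := isPosSys_union P ψ hψ hli hgen
  obtain ⟨Δ, hΔ, hΔS, hSΔ⟩ := exists_simple_of_isPosSys P hS₁
  refine ⟨Δ, hΔ, ?_, ?_⟩
  · intro b hb
    have hbS : b ∈ posOf P Δ := by
      rw [← hSΔ]
      exact Or.inr ⟨hΔ'T hb, root_mem_natSpan P hb⟩
    rw [Groth.Agent.S5450.result P Δ hΔ b hbS]
    rintro ⟨i, j, hi, hj, hsum⟩
    rw [← hSΔ] at hi hj
    have hψb : ψ (P.root b) = 0 := (hψ b).mpr (hΔ'T hb)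
    have hnonneg : ∀ k : ι, k ∈ ({k : ι | 0 < ψ (P.root k)} ∪
        {k : ι | k ∈ T ∧ P.root k ∈ natSpan P Δ'}) → 0 ≤ ψ (P.root k) := by
      rintro k (hk | hk)
      · exact le_of_lt hk
      · exact le_of_eq ((hψ k).mpr hk.1).symm
    have hsum' : ψ (P.root i) + ψ (P.root j) = 0 := by rw [← map_add, ← hsum, hψb]
    have hi0 : ψ (P.root i) = 0 := by
      have h1 := hnonneg i hi
      have h2 := hnonneg j hj
      exact le_antisymm (by
        have : ψ (P.root i) = -ψ (P.root j) := eq_neg_of_add_eq_zero_left hsum'
        rw [this]; exact neg_nonpos.mpr h2) h1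
    have hj0 : ψ (P.root j) = 0 := by rw [hi0, zero_add] at hsum'; exact hsum'
    have hi' : P.root i ∈ natSpan P Δ' := by
      rcases hi with h | h
      · exact absurd hi0 (ne_of_gt h)
      · exact h.2
    have hj' : P.root j ∈ natSpan P Δ' := by
      rcases hj with h | h
      · exact absurd hj0 (ne_of_gt h)
      · exact h.2
    obtain ⟨ci, hci, hci'⟩ := (mem_natSpan_iff P Δ' _).mp hi'
    obtain ⟨cj, hcj, hcj'⟩ := (mem_natSpan_iff P Δ' _).mp hj'
    have hcomb : comb P (ci + cj) = comb P (Finsupp.single b 1) := by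
      rw [comb_add, hci', hcj', comb_single, one_smul, hsum]
    have heq := comb_injOn P hli _ _ (support_add_subset hci hcj)
      (support_single_subset hb 1) hcomb
    have hdeg := congrArg Finsupp.degree heq
    rw [map_add, Finsupp.degree_single] at hdeg
    have hci0 : ci.degree ≠ 0 := by
      intro h0
      rw [Finsupp.degree_eq_zero_iff] at h0
      rw [h0, comb_zero] at hci'
      exact P.ne_zero i hci'.symm
    have hcj0 : cj.degree ≠ 0 := by
      intro h0
      rw [Finsupp.degree_eq_zero_iff] at h0
      rw [h0, comb_zero] at hcj'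
      exact P.ne_zero j hcj'.symm
    omega
  · ext k
    constructor
    · intro hk
      show P.root k ∈ Submodule.span ℤ (P.root '' Δ')
      rcases hgen k hk with h | h
      · exact natSpan_le_span P Δ' h
      · have := natSpan_le_span P Δ' h
        rwa [neg_mem_iff] at this
    · intro hk
      apply hT
      refine ⟨1, one_pos, ?_⟩
      rw [one_smul]
      exact Submodule.span_mono (Set.image_mono hΔ'T) hk

omit [Finite ι] in
/-- If a positive multiple of a non-negative combination of the linearly independent family `Δ`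
lies in the span of `Δ' ⊆ Δ`, the combination only involves `Δ'`. -/
theorem support_subset_of_nsmul_mem_span {Δ Δ' : Set ι} (hli : LinearIndepOn ℤ P.root Δ)
    (hsub : Δ' ⊆ Δ) {c : ι →₀ ℕ} (hc : (↑c.support : Set ι) ⊆ Δ) {n : ℕ} (hn : 0 < n)
    (h : n • comb P c ∈ Submodule.span ℤ (P.root '' Δ')) : (↑c.support : Set ι) ⊆ Δ' := by
  obtain ⟨d, hd, hd'⟩ := (Finsupp.mem_span_image_iff_linearCombination ℤ).mp h
  have h1 : Finsupp.linearCombination ℤ P.root ((n : ℤ) • toInt c) =
      Finsupp.linearCombination ℤ P.root d := by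
    rw [map_smul, linearCombination_toInt, hd', natCast_zsmul]
  have h2 : (n : ℤ) • toInt c = d := by
    apply linearIndepOn_iffₛ.mp hli _ _ _ _ h1
    · exact Submodule.smul_mem _ _ (toInt_mem_supported c Δ hc)
    · exact Finsupp.supported_mono hsub hd
  intro j hj
  by_contra hjΔ'
  have h3 : d j = 0 := by
    by_contra h0
    exact hjΔ' ((Finsupp.mem_supported _ _).mp hd (Finsupp.mem_support_iff.mpr h0))
  have h4 := DFunLike.congr_fun h2 j
  rw [Finsupp.smul_apply, toInt_apply, h3, smul_eq_mul] at h4
  have h5 : c j ≠ 0 := Finsupp.mem_support_iff.mp hj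
  have h6 : (n : ℤ) ≠ 0 := by exact_mod_cast hn.ne'
  rcases mul_eq_zero.mp h4 with h7 | h7
  · exact h6 h7
  · exact h5 (by exact_mod_cast h7)

omit [Finite ι] in
/-- For `Δ' ⊆ Δ` (a simple system), a root with a positive multiple in the span of `Δ'` lies in
the span of `Δ'`, and is up to sign a non-negative combination of `Δ'`. -/
theorem mem_natSpan_of_nsmul_mem_span {Δ Δ' : Set ι} (hΔ : IsSimpleSys P Δ) (hsub : Δ' ⊆ Δ)
    {k : ι} {n : ℕ} (hn : 0 < n) (h : n • P.root k ∈ Submodule.span ℤ (P.root '' Δ')) :
    P.root k ∈ natSpan P Δ' ∨ -P.root k ∈ natSpan P Δ' := by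
  rcases hΔ.mem_or_neg_mem k with h1 | h1
  · left
    obtain ⟨c, hc, hck⟩ := (mem_natSpan_iff P Δ _).mp h1
    rw [← hck] at h ⊢
    exact (mem_natSpan_iff P Δ' _).mpr
      ⟨c, support_subset_of_nsmul_mem_span P hΔ.linInd hsub hc hn h, rfl⟩
  · right
    obtain ⟨c, hc, hck⟩ := (mem_natSpan_iff P Δ _).mp h1
    have h' : n • comb P c ∈ Submodule.span ℤ (P.root '' Δ') := by
      rw [hck, smul_neg]
      exact neg_mem h
    rw [← hck]
    exact (mem_natSpan_iff P Δ' _).mpr
      ⟨c, support_subset_of_nsmul_mem_span P hΔ.linInd hsub hc hn h', rfl⟩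

omit [Finite ι] in
/-- The set of roots in the span of a part of a simple system is the trace of a subspace. -/
theorem isSat_inSpan {Δ Δ' : Set ι} (hΔ : IsSimpleSys P Δ) (hsub : Δ' ⊆ Δ) :
    IsSat P (inSpan P Δ') := by
  rintro k ⟨n, hn, h⟩
  have hle : Submodule.span ℤ (P.root '' inSpan P Δ') ≤ Submodule.span ℤ (P.root '' Δ') := by
    rw [Submodule.span_le]
    rintro _ ⟨j, hj, rfl⟩
    exact hj
  show P.root k ∈ Submodule.span ℤ (P.root '' Δ')
  rcases mem_natSpan_of_nsmul_mem_span P hΔ hsub hn (hle h) with h1 | h1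
  · exact natSpan_le_span P Δ' h1
  · have := natSpan_le_span P Δ' h1
    rwa [neg_mem_iff] at this

/-- A set of roots is the trace of a subspace if and only if it is the set of roots in the span
of a subset of some system of simple roots. -/
theorem isSat_iff (R' : Set ι) :
    IsSat P R' ↔ ∃ Δ Δ' : Set ι, IsSimpleSys P Δ ∧ Δ' ⊆ Δ ∧ R' = inSpan P Δ' := by
  constructor
  · intro hsat
    have hT := isReflStable_of_isSat P hsat
    obtain ⟨A, hA⟩ := exists_isSimpleSys (sub P R' hT)
    obtain ⟨hli, hgen⟩ := (isSimpleSys_sub_iff P hT A).mp hA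
    obtain ⟨Δ, hΔ, hsub, hR'⟩ := exists_simpleSys_extending P hsat
      (by rintro _ ⟨a, -, rfl⟩; exact a.2) hli hgen
    exact ⟨Δ, _, hΔ, hsub, hR'⟩
  · rintro ⟨Δ, Δ', hΔ, hsub, rfl⟩
    exact isSat_inSpan P hΔ hsub

end extend

end Groth.Agent.Lib.RootDSub58
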