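import Groth.Agent.Lib.RootDWord
import Groth.Agent.Lib.RootDSub58

/-!
Dominant additive maps on the weight lattice of a root datum over the integers with values in a
totally ordered group: the dominant maps form a fundamental domain for the Weyl group.
(helper58.)
-/

set_option autoImplicit false
open RootD RootPairing

namespace Groth.Agent.Lib.RootDDom58

open Groth.Agent.Lib.RootDBasic Groth.Agent.Lib.RootDForm Groth.Agent.Lib.RootDSimple
open Groth.Agent.Lib.RootDWeyl Groth.Agent.S2953 Groth.Agent.Lib.RootDWord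

variable {ι M N : Type*} [AddCommGroup M] [AddCommGroup N] (P : RootPairing ι ℤ M N)
variable {Γ : Type*} [AddCommGroup Γ] [LinearOrder Γ] [IsOrderedAddMonoid Γ]

/-- The positive system attached to an additive map `f` and a tie-breaking positive system `S`:
roots on which `f` is positive, and roots of `S` on which `f` vanishes. -/
def posSysOf (S : Set ι) (f : M →+ Γ) : Set ι :=
  {i | 0 < f (P.root i) ∨ (f (P.root i) = 0 ∧ i ∈ S)}

omit [LinearOrder Γ] [IsOrderedAddMonoid Γ] in
theorem map_root_neg (f : M →+ Γ) (i : ι) :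
    f (P.root (P.reflectionPerm i i)) = - f (P.root i) := by
  rw [root_reflectionPerm_self, map_neg]

theorem natSpan_posSysOf {S : Set ι} (f : M →+ Γ) {x : M} (hx : x ∈ natSpan P (posSysOf P S f)) :
    0 ≤ f x ∧ (f x = 0 → x ∈ natSpan P S) := by
  unfold natSpan at hx
  induction hx using AddSubmonoid.closure_induction with
  | mem y hy =>
    obtain ⟨i, hi, rfl⟩ := hy
    rcases hi with hi | ⟨hi, hiS⟩
    · exact ⟨hi.le, fun h => absurd h hi.ne'⟩
    · exact ⟨hi.ge, fun _ => AddSubmonoid.subset_closure ⟨i, hiS, rfl⟩⟩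
  | zero => exact ⟨by simp, fun _ => zero_mem _⟩
  | add y z _ _ hy hz =>
    refine ⟨by rw [map_add]; exact add_nonneg hy.1 hz.1, fun h => ?_⟩
    rw [map_add] at h
    have h1 : f y = 0 := by
      rcases hy.1.lt_or_eq with h' | h'
      · exfalso
        have := add_pos_of_pos_of_nonneg h' hz.1
        exact this.ne' h
      · exact h'.symm
    have h2 : f z = 0 := by rwa [h1, zero_add] at h
    exact add_mem (hy.2 h1) (hz.2 h2)

theorem isPosSys_posSysOf {S : Set ι} (hS : IsPosSys P S) (f : M →+ Γ) :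
    IsPosSys P (posSysOf P S f) := by
  refine ⟨?_, ?_, ?_⟩
  · intro i hi hi'
    rcases hi with hi | ⟨hi, hiS⟩
    · rcases hi' with h | ⟨h, -⟩
      · rw [map_root_neg] at h
        exact absurd (neg_pos.mp h) (not_lt.mpr hi.le)
      · rw [map_root_neg, neg_eq_zero] at h
        exact hi.ne' h
    · rcases hi' with h | ⟨-, h⟩
      · rw [map_root_neg, hi, neg_zero] at h
        exact lt_irrefl _ h
      · exact hS.disjoint hiS h
  · intro i
    rcases lt_trichotomy (f (P.root i)) 0 with h | h | h
    · right; left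
      rw [map_root_neg]
      exact neg_pos.mpr h
    · rcases hS.cover i with hi | hi
      · left; right; exact ⟨h, hi⟩
      · right; right
        exact ⟨by rw [map_root_neg, h, neg_zero], hi⟩
    · left; left; exact h
  · intro k n hn hk
    obtain ⟨h1, h2⟩ := natSpan_posSysOf P f hk
    rw [map_nsmul] at h1 h2
    have hk0 : 0 ≤ f (P.root k) := by
      by_contra hlt
      have := nsmul_neg (not_le.mp hlt) hn.ne'
      exact absurd h1 (not_le.mpr this)
    rcases hk0.lt_or_eq with h | h
    · left; exact h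
    · right
      refine ⟨h.symm, hS.sat n hn (h2 ?_)⟩
      rw [← h, smul_zero]

variable [Finite ι]

/-- Every additive map is conjugate under the Weyl group to a dominant one. -/
theorem exists_weyl_dominant {S : Set ι} (hS : IsPosSys P S) (f : M →+ Γ) :
    ∃ g : P.Aut, g ∈ P.weylGroup ∧ ∀ i ∈ S, 0 ≤ f (g • P.root i) := by
  obtain ⟨g, hg, himg⟩ := exists_weyl_image_eq P hS (isPosSys_posSysOf P hS f)
  refine ⟨g, hg, fun i hi => ?_⟩
  have : g • i ∈ posSysOf P S f := by rw [← himg]; exact ⟨i, hi, rfl⟩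
  rw [← root_smul]
  rcases this with h | ⟨h, -⟩
  · exact h.le
  · exact h.ge

/-- invariance along words: if `f` and `f ∘ w` are dominant then `f ∘ w = f`. -/
theorem map_wprod_smul_of_dominant {Δ : Set ι} (hΔ : IsSimpleSys P Δ) (f : M →+ Γ)
    (hf : ∀ i ∈ posOf P Δ, 0 ≤ f (P.root i)) (n : ℕ) :
    ∀ l : List ι, l.length = n → (∀ c ∈ l, c ∈ Δ) →
      (∀ i ∈ posOf P Δ, 0 ≤ f (wprod P l • P.root i)) → ∀ x : M, f (wprod P l • x) = f x := by
  induction n using Nat.strong_induction_on with
  | _ n ih =>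
    intro l hlen hl hdom x
    rcases List.eq_nil_or_concat l with rfl | ⟨m, a, rfl⟩
    · simp
    · simp only [List.concat_eq_append] at hlen hl hdom ⊢
      have ha : a ∈ Δ := hl a (by simp)
      have hm : ∀ c ∈ m, c ∈ Δ := fun c hc => hl c (by simp [hc])
      have hw : wprod P (m ++ [a]) = wprod P m * Equiv.reflection P a := by
        rw [wprod_append, wprod_cons, wprod_nil, mul_one]
      by_cases hβ : wprod P m • a ∈ posOf P Δ
      · have h1 : 0 ≤ f (wprod P m • P.root a) := by
          rw [← root_smul]; exact hf _ hβ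
        have h2 : 0 ≤ f (wprod P (m ++ [a]) • P.root a) := hdom a (subset_posOf P Δ ha)
        have h3 : wprod P (m ++ [a]) • P.root a = - (wprod P m • P.root a) := by
          rw [hw, mul_smul, Equiv.reflection_smul, reflection_apply_self, smul_neg]
        rw [h3, map_neg, neg_nonneg] at h2
        have h0 : f (wprod P m • P.root a) = 0 := le_antisymm h2 h1
        have hstep : ∀ y : M, f (wprod P (m ++ [a]) • y) = f (wprod P m • y) := by
          intro y
          rw [hw, mul_smul, Equiv.reflection_smul, reflection_apply, smul_sub, map_sub,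
            smul_comm, map_zsmul, h0, smul_zero, sub_zero]
        rw [hstep]
        refine ih m.length ?_ m rfl hm ?_ x
        · rw [← hlen]; simp
        · intro i hi
          rw [← hstep]; exact hdom i hi
      · obtain ⟨m', hm', hlen', hprod⟩ := deletion P hΔ m hm a ha hβ
        have heq : wprod P (m ++ [a]) = wprod P m' := by rw [hw, hprod]
        rw [heq]
        refine ih m'.length ?_ m' rfl hm' ?_ x
        · rw [← hlen, List.length_append, ← hlen']; simp
        · intro i hi
          rw [← heq]; exact hdom i hi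

/-- If `f` and `f ∘ w` are both dominant (`w` in the Weyl group) then `f ∘ w = f`. -/
theorem map_smul_of_dominant {S : Set ι} (hS : IsPosSys P S) (f : M →+ Γ)
    (hf : ∀ i ∈ S, 0 ≤ f (P.root i)) (g : P.Aut) (hg : g ∈ P.weylGroup)
    (hfg : ∀ i ∈ S, 0 ≤ f (g • P.root i)) (x : M) : f (g • x) = f x := by
  obtain ⟨Δ, hΔ, -, rfl⟩ := exists_simple_of_isPosSys P hS
  obtain ⟨l, hl, rfl⟩ := exists_list_of_mem P hΔ g hg
  exact map_wprod_smul_of_dominant P hΔ f hf l.length l rfl hl hfg x

/-! ### A regular dominant weight -/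

section Regular

omit [Finite ι]
variable [Fintype ι]

/-- `2 B(x, α) = ⟨x, α^∨⟩ B(α, α)` for the canonical invariant form. -/
theorem two_mul_rootForm_apply_root (x : M) (j : ι) :
    2 * P.RootForm x (P.root j) = P.coroot' j x * P.RootForm (P.root j) (P.root j) := by
  have h := P.rootForm_reflection_reflection_apply j x (P.root j)
  rw [reflection_apply_self, reflection_apply, map_neg, LinearMap.map_sub₂, LinearMap.map_smul₂,
    smul_eq_mul] at h
  linarith

/-- The sum of the roots of a set of indices. -/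
noncomputable def rho (S : Set ι) : M := by
  classical exact ∑ i ∈ Finset.univ.filter (· ∈ S), P.root i

/-- `⟨2ρ, a^∨⟩ > 0` for a simple root `a`. -/
theorem coroot'_rho_pos {Δ : Set ι} (hΔ : IsSimpleSys P Δ) {a : ι} (ha : a ∈ Δ) :
    0 < P.coroot' a (rho P (posOf P Δ)) := by
  classical
  have hS := isPosSys_posOf P hΔ
  unfold rho
  rw [map_sum]
  simp only [root_coroot'_eq_pairing]
  rw [← Finset.sum_filter_add_sum_filter_not _ (fun β => P.reflectionPerm a β ∈ posOf P Δ)]
  have hU : ∑ β ∈ (Finset.univ.filter (· ∈ posOf P Δ)).filter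
      (fun β => P.reflectionPerm a β ∈ posOf P Δ), P.pairing β a = 0 := by
    refine Finset.sum_involution (fun β _ => P.reflectionPerm a β) ?_ ?_ ?_ ?_
    · intro β _
      have := root_reflectionPerm' P a β
      have h2 : P.pairing (P.reflectionPerm a β) a = P.pairing β a - P.pairing β a * 2 := by
        rw [← root_coroot'_eq_pairing, this, map_sub, map_zsmul, root_coroot'_eq_pairing,
          root_coroot'_eq_pairing, pairing_same, smul_eq_mul]
      rw [h2]; ring
    · intro β _ hne heq
      apply hne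
      have h2 : P.pairing (P.reflectionPerm a β) a = P.pairing β a - P.pairing β a * 2 := by
        rw [← root_coroot'_eq_pairing, root_reflectionPerm' P a β, map_sub, map_zsmul,
          root_coroot'_eq_pairing, root_coroot'_eq_pairing, pairing_same, smul_eq_mul]
      rw [heq] at h2
      linarith
    · intro β hβ
      simp only [Finset.mem_filter, Finset.mem_univ, true_and] at hβ ⊢
      refine ⟨hβ.2, ?_⟩
      rw [P.reflectionPerm_self]; exact hβ.1
    · intro β _
      exact P.reflectionPerm_self a β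
  rw [hU, zero_add]
  apply Finset.sum_pos
  · intro β hβ
    simp only [Finset.mem_filter, Finset.mem_univ, true_and] at hβ
    by_contra hle
    apply hβ.2
    have hle' : P.pairing β a ≤ 0 := not_lt.mp hle
    show P.root (P.reflectionPerm a β) ∈ natSpan P Δ
    rw [root_reflectionPerm' P a β]
    have : P.root β - P.pairing β a • P.root a =
        P.root β + (-P.pairing β a).toNat • P.root a := by
      rw [← natCast_zsmul, Int.toNat_of_nonneg (by omega), neg_smul, sub_eq_add_neg]
    rw [this]
    exact add_mem hβ.1 (nsmul_mem (root_mem_natSpan P ha) _)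
  · refine ⟨a, ?_⟩
    simp only [Finset.mem_filter, Finset.mem_univ, true_and]
    exact ⟨subset_posOf P Δ ha, hS.disjoint (subset_posOf P Δ ha)⟩

/-- An element pairing positively with the simple coroots has positive inner product with every
nonzero non-negative combination of simple roots. -/
theorem rootForm_pos_of_mem_natSpan {Δ : Set ι} {x : M} (hx : ∀ a ∈ Δ, 0 < P.coroot' a x) {y : M}
    (hy : y ∈ natSpan P Δ) : 0 ≤ P.RootForm x y ∧ (P.RootForm x y = 0 → y = 0) := by
  unfold natSpan at hy
  induction hy using AddSubmonoid.closure_induction with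
  | mem y hy =>
    obtain ⟨a, ha, rfl⟩ := hy
    have h1 := two_mul_rootForm_apply_root P x a
    have h2 := rootForm_root_self_pos P a
    have h3 : 0 < P.RootForm x (P.root a) := by
      have := mul_pos (hx a ha) h2
      linarith
    exact ⟨h3.le, fun h => absurd h h3.ne'⟩
  | zero => exact ⟨by simp, fun _ => rfl⟩
  | add y z _ _ hy hz =>
    rw [map_add]
    refine ⟨add_nonneg hy.1 hz.1, fun h => ?_⟩
    have h1 : P.RootForm x y = 0 := by linarith [hy.1, hz.1]
    have h2 : P.RootForm x z = 0 := by linarith [hy.1, hz.1]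
    rw [hy.2 h1, hz.2 h2, add_zero]

theorem pos_of_simple_pos {Δ : Set ι} {x : M} (hx : ∀ a ∈ Δ, 0 < P.coroot' a x) {i : ι}
    (hi : i ∈ posOf P Δ) : 0 < P.RootForm x (P.root i) ∧ 0 < P.coroot' i x := by
  obtain ⟨h1, h2⟩ := rootForm_pos_of_mem_natSpan P hx hi
  have h3 : 0 < P.RootForm x (P.root i) :=
    lt_of_le_of_ne h1 (fun h => P.ne_zero i (h2 h.symm))
  refine ⟨h3, ?_⟩
  have h4 := two_mul_rootForm_apply_root P x i
  have h5 := rootForm_root_self_pos P i
  by_contra hle
  have : P.coroot' i x * P.RootForm (P.root i) (P.root i) ≤ 0 :=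
    mul_nonpos_of_nonpos_of_nonneg (not_lt.mp hle) h5.le
  linarith

/-- There is a weight which is strictly positive against all positive coroots, and has positive
inner product with all positive roots. -/
theorem exists_regular {S : Set ι} (hS : IsPosSys P S) :
    ∃ x : M, ∀ i ∈ S, 0 < P.RootForm x (P.root i) ∧ 0 < P.coroot' i x := by
  have : Finite ι := Finite.of_fintype ι
  obtain ⟨Δ, hΔ, -, rfl⟩ := exists_simple_of_isPosSys P hS
  exact ⟨rho P (posOf P Δ), fun i hi =>
    pos_of_simple_pos P (fun a ha => coroot'_rho_pos P hΔ ha) hi⟩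

/-! ### Strong dominance -/

/-- For dominant `f`, `f - f ∘ w` is a non-negative combination of positive coroots. -/
theorem exists_coeff_wprod {Δ : Set ι} (hΔ : IsSimpleSys P Δ) (f : M →+ Γ)
    (hf : ∀ i ∈ posOf P Δ, 0 ≤ f (P.root i)) (n : ℕ) :
    ∀ l : List ι, l.length = n → (∀ c ∈ l, c ∈ Δ) →
      ∃ c : ι → Γ, (∀ i, 0 ≤ c i) ∧ (∀ i, i ∉ posOf P Δ → c i = 0) ∧
        ∀ x : M, f x - f (wprod P l • x) = ∑ i, (P.coroot' i x) • c i := by
  classical
  have : Finite ι := Finite.of_fintype ι
  induction n using Nat.strong_induction_on with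
  | _ n ih =>
    intro l hlen hl
    rcases List.eq_nil_or_concat l with rfl | ⟨m, a, rfl⟩
    · exact ⟨0, fun _ => le_rfl, fun _ _ => rfl, fun x => by simp⟩
    · simp only [List.concat_eq_append] at hlen hl ⊢
      have ha : a ∈ Δ := hl a (by simp)
      have hm : ∀ c ∈ m, c ∈ Δ := fun c hc => hl c (by simp [hc])
      have hw : wprod P (m ++ [a]) = wprod P m * Equiv.reflection P a := by
        rw [wprod_append, wprod_cons, wprod_nil, mul_one]
      by_cases hβ : wprod P m • a ∈ posOf P Δ
      · obtain ⟨c, hc0, hcS, hc⟩ := ih m.length (by rw [← hlen]; simp) m rfl hm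
        set v : Γ := f (wprod P m • P.root a) with hv
        have hv0 : 0 ≤ v := by
          rw [hv, ← root_smul]; exact hf _ hβ
        refine ⟨c + Pi.single a v, ?_, ?_, ?_⟩
        · intro i
          rw [Pi.add_apply]
          refine add_nonneg (hc0 i) ?_
          by_cases hia : i = a
          · subst hia; rw [Pi.single_eq_same]; exact hv0
          · rw [Pi.single_eq_of_ne hia]
        · intro i hi
          have hia : i ≠ a := fun h => hi (h ▸ subset_posOf P Δ ha)
          rw [Pi.add_apply, hcS i hi, Pi.single_eq_of_ne hia, add_zero]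
        · intro x
          have h1 : f (wprod P (m ++ [a]) • x) =
              f (wprod P m • x) - (P.coroot' a x) • v := by
            rw [hw, mul_smul, Equiv.reflection_smul, reflection_apply, smul_sub, map_sub,
              smul_comm, map_zsmul]
          rw [h1]
          simp only [Pi.add_apply, smul_add, Finset.sum_add_distrib]
          rw [← hc x]
          have h2 : ∑ i, (P.coroot' i x) • (Pi.single a v : ι → Γ) i = (P.coroot' a x) • v := by
            rw [Finset.sum_eq_single a]
            · rw [Pi.single_eq_same]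
            · intro b _ hb
              rw [Pi.single_eq_of_ne hb, smul_zero]
            · intro h; exact absurd (Finset.mem_univ a) h
          rw [h2]
          abel
      · obtain ⟨m', hm', hlen', hprod⟩ := deletion P hΔ m hm a ha hβ
        have heq : wprod P (m ++ [a]) = wprod P m' := by rw [hw, hprod]
        rw [heq]
        exact ih m'.length (by rw [← hlen, List.length_append, ← hlen']; simp) m' rfl hm'

theorem exists_coeff {S : Set ι} (hS : IsPosSys P S) (f : M →+ Γ)
    (hf : ∀ i ∈ S, 0 ≤ f (P.root i)) (g : P.Aut) (hg : g ∈ P.weylGroup) :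
    ∃ c : ι → Γ, (∀ i, 0 ≤ c i) ∧ (∀ i, i ∉ S → c i = 0) ∧
      ∀ x : M, f x - f (g • x) = ∑ i, (P.coroot' i x) • c i := by
  have : Finite ι := Finite.of_fintype ι
  obtain ⟨Δ, hΔ, -, rfl⟩ := exists_simple_of_isPosSys P hS
  obtain ⟨l, hl, rfl⟩ := exists_list_of_mem P hΔ g hg
  exact exists_coeff_wprod P hΔ f hf l.length l rfl hl

/-- Weak dominance: a dominant map decreases along the Weyl orbit of a dominant weight. -/
theorem map_smul_le {S : Set ι} (hS : IsPosSys P S) (f : M →+ Γ)
    (hf : ∀ i ∈ S, 0 ≤ f (P.root i)) (g : P.Aut) (hg : g ∈ P.weylGroup) (x : M)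
    (hx : ∀ i ∈ S, 0 ≤ P.coroot' i x) : f (g • x) ≤ f x := by
  obtain ⟨c, hc0, hcS, hc⟩ := exists_coeff P hS f hf g hg
  rw [← sub_nonneg, hc x]
  apply Finset.sum_nonneg
  intro i _
  by_cases hi : i ∈ S
  · exact zsmul_nonneg (hc0 i) (hx i hi)
  · rw [hcS i hi, smul_zero]

omit [LinearOrder Γ] [IsOrderedAddMonoid Γ] [Fintype ι] in
/-- the value of `f` on a reflected vector -/
theorem map_reflection_smul (f : M →+ Γ) (i : ι) (x : M) :
    f (Equiv.reflection P i • x) = f x - (P.coroot' i x) • f (P.root i) := by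
  rw [Equiv.reflection_smul, reflection_apply, map_sub, map_zsmul]

theorem nonneg_of_zsmul_nonneg {n : ℤ} (hn : 0 < n) {v : Γ} (h : 0 ≤ n • v) : 0 ≤ v := by
  by_contra hlt
  have h1 : n • v < 0 := by
    have := zsmul_pos (neg_pos.mpr (not_le.mp hlt)) hn
    rw [smul_neg] at this
    exact neg_pos.mp this
  exact absurd h (not_le.mpr h1)

omit [Fintype ι] in
theorem reflection_mem_weylGroup (i : ι) : Equiv.reflection P i ∈ P.weylGroup :=
  Subgroup.subset_closure ⟨i, rfl⟩

/-- strong dominance characterises dominance -/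
theorem dominant_iff_exists_coeff {S : Set ι} (hS : IsPosSys P S) (f : M →+ Γ) :
    (∀ i ∈ S, 0 ≤ f (P.root i)) ↔
      ∀ g : P.Aut, g ∈ P.weylGroup → ∃ c : ι → Γ, (∀ i, 0 ≤ c i) ∧ (∀ i, i ∉ S → c i = 0) ∧
        ∀ x : M, f x - f (g • x) = ∑ i, (P.coroot' i x) • c i := by
  refine ⟨fun hf g hg => exists_coeff P hS f hf g hg, fun h i hi => ?_⟩
  obtain ⟨x, hx⟩ := exists_regular P hS
  obtain ⟨c, hc0, hcS, hc⟩ := h _ (reflection_mem_weylGroup P i)
  have h1 := hc x
  rw [map_reflection_smul, sub_sub_cancel] at h1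
  apply nonneg_of_zsmul_nonneg (hx i hi).2
  rw [h1]
  apply Finset.sum_nonneg
  intro j _
  by_cases hj : j ∈ S
  · exact zsmul_nonneg (hc0 j) (hx j hj).2.le
  · rw [hcS j hj, smul_zero]

/-- weak dominance characterises dominance -/
theorem dominant_iff_map_smul_le {S : Set ι} (hS : IsPosSys P S) (f : M →+ Γ) :
    (∀ i ∈ S, 0 ≤ f (P.root i)) ↔
      ∀ g : P.Aut, g ∈ P.weylGroup → ∀ x : M, (∀ i ∈ S, 0 ≤ P.coroot' i x) →
        f (g • x) ≤ f x := by
  refine ⟨fun hf g hg x hx => map_smul_le P hS f hf g hg x hx, fun h i hi => ?_⟩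
  obtain ⟨x, hx⟩ := exists_regular P hS
  have h1 := h _ (reflection_mem_weylGroup P i) x (fun j hj => (hx j hj).2.le)
  rw [map_reflection_smul, sub_le_self_iff] at h1
  exact nonneg_of_zsmul_nonneg (hx i hi).2 h1

/-- Every Weyl orbit of weights contains a dominant weight. -/
theorem exists_weyl_dominant_weight {S : Set ι} (hS : IsPosSys P S) (x : M) :
    ∃ g : P.Aut, g ∈ P.weylGroup ∧ ∀ i ∈ S, 0 ≤ P.coroot' i (g • x) := by
  have : Finite ι := Finite.of_fintype ι
  obtain ⟨m₀, hm₀⟩ := exists_regular P hS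
  have hfin : Finite P.weylGroup := Groth.Agent.Lib.RootDSub58.finite_weylGroup P
  obtain ⟨g, hg⟩ := Finite.exists_max (fun g : P.weylGroup => P.RootForm m₀ ((g : P.Aut) • x))
  refine ⟨g, g.2, fun i hi => ?_⟩
  by_contra hlt
  have hlt' : P.coroot' i ((g : P.Aut) • x) < 0 := not_le.mp hlt
  have h1 := hg ⟨Equiv.reflection P i * g, Subgroup.mul_mem _ (reflection_mem_weylGroup P i) g.2⟩
  simp only [mul_smul, Equiv.reflection_smul, reflection_apply, map_sub, map_smul,
    smul_eq_mul] at h1
  have h2 := mul_neg_of_neg_of_pos hlt' (hm₀ i hi).1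
  linarith

/-- Comparison of dominant maps on dominant weights versus maxima over Weyl-stable finite sets. -/
theorem weakLE_iff {S : Set ι} (hS : IsPosSys P S) (f₁ f₂ : M →+ Γ)
    (hf₁ : ∀ i ∈ S, 0 ≤ f₁ (P.root i)) (hf₂ : ∀ i ∈ S, 0 ≤ f₂ (P.root i)) :
    (∀ m : M, (∀ i ∈ S, 0 ≤ P.coroot' i m) → f₁ m ≤ f₂ m) ↔
    ∀ (X : Finset M) (hX : X.Nonempty),
      (∀ g : P.Aut, g ∈ P.weylGroup → ∀ m ∈ X, g • m ∈ X) →
      X.sup' hX f₁ ≤ X.sup' hX f₂ := by
  classical
  have : Finite ι := Finite.of_fintype ι
  constructor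
  · intro h X hX hstab
    obtain ⟨x₁, hx₁, hsup⟩ := Finset.exists_mem_eq_sup' hX f₁
    obtain ⟨g, hg, hdom⟩ := exists_weyl_dominant_weight P hS x₁
    have hm : g • x₁ ∈ X := hstab g hg x₁ hx₁
    rw [hsup]
    calc f₁ x₁ = f₁ (g⁻¹ • (g • x₁)) := by rw [inv_smul_smul]
      _ ≤ f₁ (g • x₁) := map_smul_le P hS f₁ hf₁ g⁻¹ (Subgroup.inv_mem _ hg) _ hdom
      _ ≤ f₂ (g • x₁) := h _ hdom
      _ ≤ X.sup' hX f₂ := Finset.le_sup' f₂ hm
  · intro h m hm
    have hfin : Finite P.weylGroup := Groth.Agent.Lib.RootDSub58.finite_weylGroup P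
    have : Fintype P.weylGroup := Fintype.ofFinite _
    set X : Finset M := Finset.univ.image (fun g : P.weylGroup => (g : P.Aut) • m) with hXdef
    have hmX : m ∈ X := by
      rw [hXdef, Finset.mem_image]
      exact ⟨1, Finset.mem_univ _, by simp⟩
    have hX : X.Nonempty := ⟨m, hmX⟩
    have hstab : ∀ g : P.Aut, g ∈ P.weylGroup → ∀ y ∈ X, g • y ∈ X := by
      intro g hg y hy
      rw [hXdef, Finset.mem_image] at hy ⊢
      obtain ⟨g', -, rfl⟩ := hy
      exact ⟨⟨g * g', Subgroup.mul_mem _ hg g'.2⟩, Finset.mem_univ _, mul_smul g (g' : P.Aut) m⟩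
    calc f₁ m ≤ X.sup' hX f₁ := Finset.le_sup' f₁ hmX
      _ ≤ X.sup' hX f₂ := h X hX hstab
      _ ≤ f₂ m := by
        apply Finset.sup'_le
        intro y hy
        rw [hXdef, Finset.mem_image] at hy
        obtain ⟨g', -, rfl⟩ := hy
        exact map_smul_le P hS f₂ hf₂ g' g'.2 m hm

end Regular

end Groth.Agent.Lib.RootDDom58
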