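import Groth.Agent.Lib.RootDZb58

/-!
# Bases of a crystallographic root pairing and simple systems of its integral root datum

(helper58.)
-/

set_option autoImplicit false
open RootD RootPairing

namespace Groth.Agent.Lib.RootDZ58

open Groth.Agent.Lib.RootDWeyl Groth.Agent.S2953 Groth.Agent.Lib.RootDWord

variable {ι R M N : Type*} [CommRing R] [CharZero R] [IsDomain R] [AddCommGroup M] [Module R M]
  [AddCommGroup N] [Module R N] (P : RootPairing ι R M N) [Finite ι] [P.IsCrystallographic]

omit [CharZero R] [IsDomain R] [Finite ι] [P.IsCrystallographic] in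
/-- Products of reflections lie in the Weyl group (any coefficients). -/
theorem wprod_mem_weylGroup' (l : List ι) : wprod P l ∈ P.weylGroup := by
  induction l with
  | nil => exact Subgroup.one_mem _
  | cons a l ih =>
    rw [wprod_cons]
    exact Subgroup.mul_mem _ (Subgroup.subset_closure ⟨a, rfl⟩) ih

/-- Membership in the monoid of non-negative combinations can be tested in the ambient module. -/
theorem mem_natSpan_Z_iff (S : Set ι) (x : P.rootSpan ℤ) :
    x ∈ natSpan (Z P) S ↔ (x : M) ∈ AddSubmonoid.closure (P.root '' S) := by
  have hmap : AddSubmonoid.map (P.rootSpan ℤ).subtype.toAddMonoidHom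
      (AddSubmonoid.closure ((Z P).root '' S)) = AddSubmonoid.closure (P.root '' S) := by
    rw [AddMonoidHom.map_mclosure, Set.image_image]
    rfl
  constructor
  · intro h
    rw [← hmap]
    exact ⟨x, h, rfl⟩
  · intro h
    rw [← hmap] at h
    obtain ⟨y, hy, hyx⟩ := h
    have : y = x := Subtype.ext hyx
    rw [← this]
    exact hy

/-- The support of a base is a simple system of the integral root datum. -/
theorem isSimpleSys_Z_of_base (b : P.Base) : IsSimpleSys (Z P) (b.support : Set ι) := by
  refine ⟨b.linearIndependentInt, fun i => ?_⟩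
  rcases b.root_mem_or_neg_mem i with h | h
  · left
    rw [mem_natSpan_Z_iff]
    exact h
  · right
    rw [mem_natSpan_Z_iff]
    exact h

/-- The Weyl group acts transitively on bases (through words in simple reflections). -/
theorem exists_wprod_image_support_eq (b b' : P.Base) :
    ∃ l : List ι, (fun i : ι => wprod P l • i) '' (b.support : Set ι) = (b'.support : Set ι) := by
  obtain ⟨g, hg, himg⟩ := exists_weyl_image_simple_eq (Z P) (isSimpleSys_Z_of_base P b)
    (isSimpleSys_Z_of_base P b')
  obtain ⟨l, -, rfl⟩ := exists_list_of_mem (Z P) (isSimpleSys_Z_of_base P b) g hg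
  refine ⟨l, ?_⟩
  rw [← himg]
  ext k
  simp only [Set.mem_image, wprod_smul_idx]

/-- A word whose product stabilises the support of a base fixes every index. -/
theorem wprod_smul_eq_self_of_image_eq (b : P.Base) (l : List ι)
    (h : (fun i : ι => wprod P l • i) '' (b.support : Set ι) = (b.support : Set ι)) (k : ι) :
    wprod P l • k = k := by
  have h1 : wprod (Z P) l = 1 := by
    apply eq_one_of_image_eq (Z P) (isSimpleSys_Z_of_base P b) _ (wprod_mem_weylGroup (Z P) l)
    have : (fun i : ι => wprod (Z P) l • i) = (fun i : ι => wprod P l • i) :=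
      funext (wprod_smul_idx P l)
    rw [this]
    exact h
  rw [← wprod_smul_idx, h1, one_smul]

end Groth.Agent.Lib.RootDZ58
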