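import Groth.Prelude.Def_RootCh
import Groth.Agent.Lib.RootDZc58
import Groth.Agent.Lib.RootDDom58

/-!
# Weyl chambers and fundamental weights of a root system over an ordered field

Chamber geometry for `Groth.Prelude.Def_RootCh`, obtained from the theory of root data over the
integers through the integral root datum `Z P.flip` of the dual pairing (whose roots are the coroots
of `P`): a vector `ξ` of `M` gives the additive map `y ↦ ⟪ξ, y⟫` on the coroot lattice, and
dominance of that map is membership of `ξ` in a closed chamber.  (helper58.)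
-/

set_option autoImplicit false
open RootD RootPairing

namespace Groth.Agent.Lib.RootCh58

open Groth.Agent.Lib.RootDWeyl Groth.Agent.S2953 Groth.Agent.Lib.RootDWord
open Groth.Agent.Lib.RootDZ58 Groth.Agent.Lib.RootDDom58

variable {ι R M N : Type*} [Field R] [LinearOrder R] [IsStrictOrderedRing R]
  [AddCommGroup M] [Module R M] [AddCommGroup N] [Module R N] [Finite ι]
  (P : RootPairing ι R M N) [P.IsCrystallographic]

/-- The integral root datum whose roots are the coroots of `P`. -/
noncomputable abbrev Zf : RootPairing ι ℤ (P.flip.rootSpan ℤ) (Module.Dual ℤ (P.flip.rootSpan ℤ)) :=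
  Z P.flip

/-- Pairing with a vector of `M`, as an additive map on the coroot lattice. -/
noncomputable def pairHom (ξ : M) : P.flip.rootSpan ℤ →+ R :=
  ((P.toLinearMap ξ).toAddMonoidHom).comp (P.flip.rootSpan ℤ).subtype.toAddMonoidHom

omit [LinearOrder R] [IsStrictOrderedRing R] [Finite ι] [P.IsCrystallographic] in
@[simp] theorem pairHom_apply (ξ : M) (y : P.flip.rootSpan ℤ) :
    pairHom P ξ y = P.toLinearMap ξ (y : N) := rfl

theorem pairHom_root (ξ : M) (i : ι) : pairHom P ξ ((Zf P).root i) = P.coroot' i ξ := rfl

/-- The simple system of `Zf P` attached to a base. -/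
theorem isSimpleSys_base (b : P.Base) : IsSimpleSys (Zf P) (b.support : Set ι) :=
  isSimpleSys_Z_of_base P.flip b.flip

theorem pairHom_nonneg_of_mem_natSpan {b : P.Base} {ξ : M} (hξ : ξ ∈ RootCh.closedChamber b)
    {y : P.flip.rootSpan ℤ} (hy : y ∈ natSpan (Zf P) (b.support : Set ι)) :
    0 ≤ pairHom P ξ y := by
  unfold natSpan at hy
  induction hy using AddSubmonoid.closure_induction with
  | mem y hy =>
    obtain ⟨i, hi, rfl⟩ := hy
    rw [pairHom_root]
    exact hξ i hi
  | zero => simp
  | add y z _ _ hy hz => rw [map_add]; exact add_nonneg hy hz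

/-- A vector of the closed chamber of `b` pairs non-negatively with every positive coroot. -/
theorem coroot'_nonneg_of_mem_posOf {b : P.Base} {ξ : M} (hξ : ξ ∈ RootCh.closedChamber b)
    {i : ι} (hi : i ∈ posOf (Zf P) (b.support : Set ι)) : 0 ≤ P.coroot' i ξ := by
  rw [← pairHom_root]
  exact pairHom_nonneg_of_mem_natSpan P hξ hi

theorem dominant_of_mem_closedChamber {b : P.Base} {ξ : M} (hξ : ξ ∈ RootCh.closedChamber b) :
    ∀ i ∈ posOf (Zf P) (b.support : Set ι), 0 ≤ pairHom P ξ ((Zf P).root i) :=
  fun _ hi => coroot'_nonneg_of_mem_posOf P hξ hi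

variable [P.IsRootSystem]

omit [LinearOrder R] [IsStrictOrderedRing R] [Finite ι] [P.IsCrystallographic] in
/-- A vector pairing to zero with all coroots is zero. -/
theorem eq_zero_of_coroot'_eq_zero {x : M} (h : ∀ i, P.coroot' i x = 0) : x = 0 := by
  have h1 : P.toLinearMap x = 0 := by
    apply LinearMap.ext_on_range (v := P.coroot) (by
      rw [IsRootSystem.span_coroot_eq_top])
    intro i
    simpa using h i
  have h2 := P.toPerfPair.injective (a₁ := x) (a₂ := 0) (by
    rw [map_zero]; exact h1)
  exact h2

omit [LinearOrder R] [IsStrictOrderedRing R] [Finite ι] [P.IsCrystallographic] in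
/-- A vector pairing to zero with the simple coroots of a base is zero. -/
theorem eq_zero_of_simple_coroot'_eq_zero (b : P.Base) {x : M}
    (h : ∀ i ∈ b.support, P.coroot' i x = 0) : x = 0 := by
  have h1 : P.toLinearMap x = 0 := by
    apply b.toCoweightBasis.ext
    intro i
    rw [b.toCoweightBasis_apply]
    simpa using h i i.2
  exact P.toPerfPair.injective (a₁ := x) (a₂ := 0) (by rw [map_zero]; exact h1)

/-- Characterisation of the fundamental weights of a base by their defining equations. -/
theorem eq_fundWeight_iff (b : P.Base) (i : b.support) (x : M) :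
    x = RootCh.fundWeight b i ↔
      P.coroot' i x = 1 ∧ ∀ j : b.support, j ≠ i → P.coroot' j x = 0 := by
  constructor
  · rintro rfl
    exact ⟨RootCh.coroot'_fundWeight_self b i, fun j h => RootCh.coroot'_fundWeight_of_ne b i j h⟩
  · rintro ⟨h1, h2⟩
    rw [← sub_eq_zero]
    apply eq_zero_of_simple_coroot'_eq_zero P b
    intro j hj
    rw [map_sub]
    by_cases hji : (⟨j, hj⟩ : b.support) = i
    · subst hji
      have := RootCh.coroot'_fundWeight_self b ⟨j, hj⟩
      simp only at this h1
      rw [this, h1, sub_self]
    · have := RootCh.coroot'_fundWeight_of_ne b i ⟨j, hj⟩ hji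
      have h3 := h2 ⟨j, hj⟩ hji
      simp only at this h3
      rw [this, h3, sub_self]

theorem fundWeight_mem_closedChamber (b : P.Base) (i : b.support) :
    RootCh.fundWeight b i ∈ RootCh.closedChamber b := by
  intro j hj
  by_cases h : (⟨j, hj⟩ : b.support) = i
  · subst h
    have := RootCh.coroot'_fundWeight_self b ⟨j, hj⟩
    simp only at this
    rw [this]
    exact zero_le_one
  · have := RootCh.coroot'_fundWeight_of_ne b i ⟨j, hj⟩ h
    simp only at this
    rw [this]

variable [P.IsReduced]

/-- The corners of the chamber of a base are the fundamental weights of that base. -/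
theorem baseCorners_eq (b : P.Base) :
    RootCh.baseCorners b = Set.range (RootCh.fundWeight b) := by
  apply Set.Subset.antisymm
  · rintro w ⟨⟨b', i', rfl⟩, hw⟩
    -- a Weyl element carrying the simple coroots of `b'` to those of `b`
    obtain ⟨h, hh, himg⟩ := exists_weyl_image_simple_eq (Zf P) (isSimpleSys_base P b')
      (isSimpleSys_base P b)
    set w := RootCh.fundWeight b' i' with hwdef
    have hS := isPosSys_posOf (Zf P) (isSimpleSys_base P b)
    -- `f` and `f ∘ h⁻¹` are dominant for `b`
    have hdom1 := dominant_of_mem_closedChamber P hw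
    have hdom2 : ∀ i ∈ posOf (Zf P) (b.support : Set ι),
        0 ≤ pairHom P w (h⁻¹ • (Zf P).root i) := by
      intro i hi
      rw [← root_smul, pairHom_root]
      apply coroot'_nonneg_of_mem_posOf P (fundWeight_mem_closedChamber P b' i')
      have : posOf (Zf P) (b.support : Set ι) =
          (fun k : ι => h • k) '' posOf (Zf P) (b'.support : Set ι) := by
        rw [← himg, posOf_image]
      rw [this] at hi
      obtain ⟨k, hk, rfl⟩ := hi
      rw [inv_smul_smul]
      exact hk
    have hfix := map_smul_of_dominant (Zf P) hS (pairHom P w) hdom1 h⁻¹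
      (Subgroup.inv_mem _ hh) hdom2
    -- the index of the fundamental weight
    have hmem : h • (i' : ι) ∈ b.support := by
      have : h • (i' : ι) ∈ (fun k : ι => h • k) '' (b'.support : Set ι) := ⟨i', i'.2, rfl⟩
      rw [himg] at this
      exact this
    refine ⟨⟨h • (i' : ι), hmem⟩, ?_⟩
    symm
    rw [eq_fundWeight_iff]
    have hw' := (eq_fundWeight_iff P b' i' w).mp rfl
    have key : ∀ j : b.support, ∃ hj' : h⁻¹ • (j : ι) ∈ b'.support,
        P.coroot' j w = P.coroot' (h⁻¹ • (j : ι)) w := by
      intro j
      have hj' : h⁻¹ • (j : ι) ∈ b'.support := by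
        have : (j : ι) ∈ (fun k : ι => h • k) '' (b'.support : Set ι) := by
          rw [himg]; exact j.2
        obtain ⟨k, hk, hkj⟩ := this
        rw [← hkj, inv_smul_smul]
        exact hk
      refine ⟨hj', ?_⟩
      rw [← pairHom_root, ← pairHom_root, ← hfix, ← root_smul]
    constructor
    · obtain ⟨hj', h1⟩ := key ⟨h • (i' : ι), hmem⟩
      rw [h1]
      simp only [inv_smul_smul]
      exact hw'.1
    · intro j hne
      obtain ⟨hj', h1⟩ := key j
      rw [h1]
      apply hw'.2 ⟨h⁻¹ • (j : ι), hj'⟩
      intro h3
      apply hne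
      apply Subtype.ext
      have := congrArg Subtype.val h3
      simp only at this
      show (j : ι) = h • (i' : ι)
      rw [← this, smul_inv_smul]
  · rintro _ ⟨i, rfl⟩
    exact ⟨⟨b, i, rfl⟩, fundWeight_mem_closedChamber P b i⟩

end Groth.Agent.Lib.RootCh58
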