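import Groth.Agent.Lib.RootCh58b

/-!
# Facets of a root system over an ordered field: corners, spans, positive combinations

(helper58.)
-/

set_option autoImplicit false
open RootD RootPairing

namespace Groth.Agent.Lib.RootCh58

open Groth.Agent.Lib.RootDWeyl Groth.Agent.S2953 Groth.Agent.Lib.RootDWord
open Groth.Agent.Lib.RootDZ58 Groth.Agent.Lib.RootDDom58

variable {ι R M N : Type*} [Field R] [LinearOrder R] [IsStrictOrderedRing R]
  [AddCommGroup M] [Module R M] [AddCommGroup N] [Module R N] [Finite ι]
  (P : RootPairing ι R M N) [P.IsCrystallographic] [P.IsRootSystem] [P.IsReduced]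

/-- Every facet has a point in a closed chamber. -/
theorem exists_adapted (F : RootCh.Facet P) :
    ∃ (ξ : M) (b : P.Base), RootCh.sgnVec P ξ = F.sgn ∧ ξ ∈ RootCh.closedChamber b := by
  obtain ⟨ξ, hξ⟩ := F.exists_sgnVec_eq
  obtain ⟨b, hb⟩ := exists_base_mem_closedChamber P ξ
  exact ⟨ξ, b, hξ, hb⟩

/-- The corners of a facet as an image of a set of simple indices. -/
theorem corners_eq_image (F : RootCh.Facet P) {ξ : M} (hξ : RootCh.sgnVec P ξ = F.sgn) {b : P.Base}
    (hb : ξ ∈ RootCh.closedChamber b) :
    F.corners = RootCh.fundWeight b '' {k : b.support | P.coroot' k ξ ≠ 0} := by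
  rw [corners_eq P F hξ hb]
  ext m
  simp only [Set.mem_image]
  rfl

theorem linearIndepOn_corners (F : RootCh.Facet P) :
    LinearIndepOn R (fun m : M => m) F.corners := by
  obtain ⟨ξ, b, hξ, hb⟩ := exists_adapted P F
  rw [corners_eq_image P F hξ hb]
  exact ((linearIndependent_fundWeight P b).linearIndepOn (s := _)).id_image


omit [P.IsCrystallographic] [P.IsReduced] [LinearOrder R] [IsStrictOrderedRing R] [Finite ι] in
open Classical in
theorem coroot'_add_fundWeight (b : P.Base) (ξ : M) (j k : b.support) :
    P.coroot' j (ξ + RootCh.fundWeight b k) = P.coroot' j ξ + if j = k then 1 else 0 := by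
  rw [map_add, coroot'_fundWeight]

/-- Adding a fundamental weight of an adjacent chamber: membership in the closed chamber. -/
theorem add_fundWeight_mem_closedChamber {b : P.Base} {ξ : M}
    (hb : ξ ∈ RootCh.closedChamber b) (k : b.support) :
    ξ + RootCh.fundWeight b k ∈ RootCh.closedChamber b := by
  intro j hj
  rw [map_add]
  exact add_nonneg (hb j hj) (fundWeight_mem_closedChamber P b k j hj)

theorem span_carrier_eq (F : RootCh.Facet P) :
    Submodule.span R F.carrier = Submodule.span R F.corners := by
  classical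
  obtain ⟨ξ, b, hξ, hb⟩ := exists_adapted P F
  apply le_antisymm
  · rw [Submodule.span_le]
    intro ξ' hξ'
    obtain ⟨h1, h2⟩ := (mem_carrier_iff P F hξ hb ξ').1 hξ'
    rw [eq_sum_fundWeight P b ξ']
    refine Submodule.sum_mem _ fun k _ => ?_
    by_cases hk : P.coroot' k ξ' = 0
    · rw [hk, zero_smul]; exact Submodule.zero_mem _
    · refine Submodule.smul_mem _ _ (Submodule.subset_span ?_)
      rw [corners_eq P F hξ hb]
      exact ⟨k, fun h => hk ((h2 k k.2).2 h), rfl⟩
  · rw [Submodule.span_le]
    intro m hm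
    rw [corners_eq P F hξ hb] at hm
    obtain ⟨k, hk, rfl⟩ := hm
    have h1 : ξ ∈ F.carrier := hξ
    have h2 : ξ + RootCh.fundWeight b k ∈ F.carrier := by
      rw [mem_carrier_iff P F hξ hb]
      refine ⟨add_fundWeight_mem_closedChamber P hb k, fun j hj => ?_⟩
      rw [show (P.coroot' j) = P.coroot' ((⟨j, hj⟩ : b.support) : ι) from rfl,
        coroot'_add_fundWeight]
      split_ifs with hjk
      · have hjk' : j = k := by rw [← hjk]
        subst hjk'
        have h0 : 0 ≤ P.coroot' (k : ι) ξ := hb k k.2
        constructor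
        · intro h; exfalso
          have : (0 : R) < P.coroot' (k : ι) ξ + 1 := by positivity
          exact this.ne' h
        · intro h; exact absurd h hk
      · rw [add_zero]
    have : RootCh.fundWeight b k = (ξ + RootCh.fundWeight b k) - ξ := by abel
    rw [this]
    exact Submodule.sub_mem _ (Submodule.subset_span h2) (Submodule.subset_span h1)


/-- Membership of a fundamental weight of an adjacent chamber in the corners of a facet. -/
theorem fundWeight_mem_corners_iff (F : RootCh.Facet P) {ξ : M} (hξ : RootCh.sgnVec P ξ = F.sgn)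
    {b : P.Base} (hb : ξ ∈ RootCh.closedChamber b) (k : b.support) :
    RootCh.fundWeight b k ∈ F.corners ↔ P.coroot' k ξ ≠ 0 := by
  rw [corners_eq P F hξ hb]
  constructor
  · rintro ⟨k', hk', h⟩
    rw [fundWeight_injective P b h] at hk'
    exact hk'
  · intro h
    exact ⟨k, h, rfl⟩

/-- The corners of the facet of a vector of a closed chamber. -/
theorem corners_ofVec {b : P.Base} {ξ : M} (hb : ξ ∈ RootCh.closedChamber b) :
    (RootCh.Facet.ofVec P ξ).corners =
      {m | ∃ k : b.support, P.coroot' k ξ ≠ 0 ∧ RootCh.fundWeight b k = m} :=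
  corners_eq P (RootCh.Facet.ofVec P ξ) rfl hb

theorem exists_corners_eq_diff (F : RootCh.Facet P) (m : M) (hm : m ∈ F.corners) :
    ∃ G : RootCh.Facet P, G.corners = F.corners \ {m} := by
  classical
  obtain ⟨ξ, b, hξ, hb⟩ := exists_adapted P F
  have hm' := hm
  rw [corners_eq P F hξ hb] at hm'
  obtain ⟨k0, hk0, rfl⟩ := hm'
  set ξ' : M := ξ - P.coroot' k0 ξ • RootCh.fundWeight b k0 with hξ'
  have hc : ∀ j : b.support, P.coroot' j ξ' = if j = k0 then 0 else P.coroot' j ξ := by
    intro j
    rw [hξ', map_sub, map_smul, coroot'_fundWeight]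
    split_ifs with h
    · subst h; simp
    · simp
  have hb' : ξ' ∈ RootCh.closedChamber b := by
    intro j hj
    have := hc ⟨j, hj⟩
    simp only at this
    rw [this]
    split_ifs
    · exact le_rfl
    · exact hb j hj
  refine ⟨RootCh.Facet.ofVec P ξ', ?_⟩
  rw [corners_ofVec P hb', corners_eq P F hξ hb]
  ext m
  simp only [Set.mem_ofPred_eq, Set.mem_sdiff, Set.mem_singleton_iff]
  constructor
  · rintro ⟨k, hk, rfl⟩
    rw [hc k] at hk
    split_ifs at hk with h
    · exact absurd rfl hk
    · exact ⟨⟨k, hk, rfl⟩, fun h' => h (fundWeight_injective P b h')⟩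
  · rintro ⟨⟨k, hk, rfl⟩, hne⟩
    refine ⟨k, ?_, rfl⟩
    rw [hc k]
    split_ifs with h
    · subst h; exact absurd rfl hne
    · exact hk

theorem exists_corners_eq_insert (F : RootCh.Facet P) (m : M) (hm : m ∈ F.corners') :
    ∃ G : RootCh.Facet P, G.corners = insert m F.corners := by
  classical
  obtain ⟨ξ, hξ⟩ := F.exists_sgnVec_eq
  simp only [RootCh.Facet.corners', Set.mem_iUnion] at hm
  obtain ⟨b, hbF, hmb⟩ := hm
  have hb : ξ ∈ RootCh.closedChamber b := hbF hξ
  rw [baseCorners_eq] at hmb
  obtain ⟨k0, rfl⟩ := hmb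
  have hb' := add_fundWeight_mem_closedChamber P hb k0
  refine ⟨RootCh.Facet.ofVec P (ξ + RootCh.fundWeight b k0), ?_⟩
  rw [corners_ofVec P hb', corners_eq P F hξ hb]
  ext m
  simp only [Set.mem_ofPred_eq, Set.mem_insert_iff]
  constructor
  · rintro ⟨k, hk, rfl⟩
    rw [coroot'_add_fundWeight] at hk
    split_ifs at hk with h
    · left; rw [h]
    · right; rw [add_zero] at hk; exact ⟨k, hk, rfl⟩
  · rintro (rfl | ⟨k, hk, rfl⟩)
    · refine ⟨k0, ?_, rfl⟩
      rw [coroot'_add_fundWeight, if_pos rfl]
      have h0 : 0 ≤ P.coroot' (k0 : ι) ξ := hb k0 k0.2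
      have : (0 : R) < P.coroot' (k0 : ι) ξ + 1 := by positivity
      exact this.ne'
    · refine ⟨k, ?_, rfl⟩
      rw [coroot'_add_fundWeight]
      have h0 : 0 ≤ P.coroot' (k : ι) ξ := hb k k.2
      have h1 : 0 < P.coroot' (k : ι) ξ := lt_of_le_of_ne h0 (Ne.symm hk)
      split_ifs
      · have : (0 : R) < P.coroot' (k : ι) ξ + 1 := by positivity
        exact this.ne'
      · rw [add_zero]; exact hk


/-- The vectors of a facet are the strictly positive combinations of its corners. -/
theorem carrier_eq_pos_combinations (F : RootCh.Facet P) :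
    F.carrier = {ξ : M | ∃ c : M →₀ R, (c.support : Set M) ⊆ F.corners ∧
      (∀ m ∈ F.corners, 0 < c m) ∧ c.sum (fun m r => r • m) = ξ} := by
  classical
  obtain ⟨ξ, b, hξ, hb⟩ := exists_adapted P F
  ext ξ'
  simp only [Set.mem_ofPred_eq]
  constructor
  · intro h
    obtain ⟨h1, h2⟩ := (mem_carrier_iff P F hξ hb ξ').1 h
    set x : b.support →₀ R := Finsupp.equivFunOnFinite.symm (fun k => P.coroot' k ξ') with hx
    have hxk : ∀ k, x k = P.coroot' k ξ' := fun k => rfl
    refine ⟨Finsupp.mapDomain (RootCh.fundWeight b) x, ?_, ?_, ?_⟩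
    · intro m hm
      have := Finset.mem_image.1 (Finsupp.mapDomain_support (Finset.mem_coe.1 hm))
      obtain ⟨k, hk, rfl⟩ := this
      rw [Finsupp.mem_support_iff] at hk
      rw [fundWeight_mem_corners_iff P F hξ hb]
      intro h0
      exact hk ((h2 k k.2).2 h0)
    · intro m hm
      rw [corners_eq P F hξ hb] at hm
      obtain ⟨k, hk, rfl⟩ := hm
      rw [Finsupp.mapDomain_apply (fundWeight_injective P b), hxk]
      refine lt_of_le_of_ne (h1 k k.2) (Ne.symm ?_)
      intro h0
      exact hk ((h2 k k.2).1 h0)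
    · rw [Finsupp.sum_mapDomain_index (h := fun (m : M) (r : R) => r • m)
        (fun _ => zero_smul _ _) (fun _ _ _ => add_smul _ _ _)]
      rw [Finsupp.sum_fintype x (fun a m => m • RootCh.fundWeight b a) (fun _ => zero_smul _ _)]
      exact (eq_sum_fundWeight P b ξ').symm
  · rintro ⟨c, hsupp, hpos, rfl⟩
    have hcor : ∀ j : b.support, P.coroot' j (c.sum fun m r => r • m) = c (RootCh.fundWeight b j) := by
      intro j
      rw [Finsupp.sum, map_sum]
      have : ∀ m ∈ c.support, P.coroot' j (c m • m) =
          if m = RootCh.fundWeight b j then c m else 0 := by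
        intro m hm
        have hm' := hsupp hm
        rw [corners_eq P F hξ hb] at hm'
        obtain ⟨k, -, rfl⟩ := hm'
        rw [map_smul, coroot'_fundWeight, smul_eq_mul]
        by_cases hjk : j = k
        · subst hjk; simp
        · rw [if_neg hjk, if_neg (fun h => hjk (fundWeight_injective P b h).symm), mul_zero]
      rw [Finset.sum_congr rfl this, Finset.sum_ite_eq']
      split_ifs with h
      · rfl
      · rw [Finsupp.notMem_support_iff.1 h]
    rw [mem_carrier_iff P F hξ hb]
    constructor
    · intro j hj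
      have := hcor ⟨j, hj⟩
      simp only at this
      rw [this]
      by_cases hjc : RootCh.fundWeight b ⟨j, hj⟩ ∈ F.corners
      · exact (hpos _ hjc).le
      · have : RootCh.fundWeight b ⟨j, hj⟩ ∉ c.support := fun h => hjc (hsupp h)
        rw [Finsupp.notMem_support_iff.1 this]
    · intro j hj
      have := hcor ⟨j, hj⟩
      simp only at this
      rw [this]
      have hiff := fundWeight_mem_corners_iff P F hξ hb ⟨j, hj⟩
      simp only at hiff
      constructor
      · intro h0
        by_contra hne
        have := hpos _ (hiff.2 hne)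
        rw [h0] at this
        exact lt_irrefl _ this
      · intro h0
        have hjc : RootCh.fundWeight b ⟨j, hj⟩ ∉ F.corners := fun h => hiff.1 h h0
        have : RootCh.fundWeight b ⟨j, hj⟩ ∉ c.support := fun h => hjc (hsupp h)
        exact Finsupp.notMem_support_iff.1 this

end Groth.Agent.Lib.RootCh58
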