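import Mathlib

/-!
# Roots supported away from `A` pairing negatively with a simple root of `A`

For an irreducible reduced crystallographic root system with base `b` and a partition
`I ⊔ A ⊔ B` of the simple roots (`A`, `B` nonempty), there is a positive root supported on
`I ∪ B`, involving `B`, pairing negatively with some simple root of `A` (`main`, `main'`).
Proof: propagate along the Dynkin diagram using `RootPairing.Base.induction_on_cartanMatrix`.
-/

set_option autoImplicit false
open Function Set Submodule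

namespace Groth.Agent.Lib.RootCombPath

universe u v w

variable {ι : Type u} [Finite ι] [DecidableEq ι] {k : Type v} [Field k] [CharZero k]
  {M : Type w} [AddCommGroup M] [Module k M] {N : Type w} [AddCommGroup N] [Module k N]
  (P : RootPairing ι k M N) [P.IsCrystallographic]

/-- `Qd S B j f`: the root `j` is the combination `∑ f x • root x` over `S`, and `f` is positive
somewhere on `B`. -/
def Qd (S B : Finset ι) (j : ι) (f : ι → ℕ) : Prop :=
  (∀ x, x ∉ S → f x = 0) ∧ P.root j = ∑ x ∈ S, f x • P.root x ∧ ∃ x ∈ B, 0 < f x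

variable {P}

omit [Finite ι] [DecidableEq ι] in
lemma pairingIn_eq_sum {S B : Finset ι} {j : ι} {f : ι → ℕ} (h : Qd P S B j f) (l : ι) :
    P.pairingIn ℤ j l = ∑ x ∈ S, (f x : ℤ) * P.pairingIn ℤ x l := by
  apply FaithfulSMul.algebraMap_injective ℤ k
  rw [P.algebraMap_pairingIn, ← P.root_coroot'_eq_pairing, h.2.1, map_sum, map_sum]
  refine Finset.sum_congr rfl fun x _ => ?_
  rw [map_nsmul, P.root_coroot'_eq_pairing, map_mul, P.algebraMap_pairingIn, nsmul_eq_mul]
  simp

lemma pairingIn_neg (b : P.Base) {S B : Finset ι} (hS : S ⊆ b.support) {j : ι} {f : ι → ℕ}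
    (h : Qd P S B j f) {l : ι} (hl : l ∈ b.support) (hfl : f l = 0) {i : ι} (hfi : 0 < f i)
    (hil : P.pairingIn ℤ i l ≠ 0) : P.pairingIn ℤ j l < 0 := by
  rw [pairingIn_eq_sum h]
  have hiS : i ∈ S := by
    by_contra hi
    rw [h.1 i hi] at hfi
    exact lt_irrefl _ hfi
  have hne : ∀ x, 0 < f x → x ≠ l := by
    rintro x hx rfl
    rw [hfl] at hx
    exact lt_irrefl _ hx
  have hle : ∀ x ∈ S, (f x : ℤ) * P.pairingIn ℤ x l ≤ 0 := by
    intro x hx
    rcases Nat.eq_zero_or_pos (f x) with h0 | hpos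
    · simp [h0]
    · exact mul_nonpos_of_nonneg_of_nonpos (by positivity)
        (b.pairingIn_le_zero_of_ne (hne x hpos) (hS hx) hl)
  refine Finset.sum_neg' hle ⟨i, hiS, ?_⟩
  have : P.pairingIn ℤ i l < 0 :=
    lt_of_le_of_ne (b.pairingIn_le_zero_of_ne (hne i hfi) (hS hiS) hl) hil
  exact mul_neg_of_pos_of_neg (by exact_mod_cast hfi) this


lemma exists_Qd_add (b : P.Base) {S B : Finset ι} (hS : S ⊆ b.support) {j : ι} {f : ι → ℕ}
    (h : Qd P S B j f) {l : ι} (hl : l ∈ S) (hneg : P.pairingIn ℤ j l < 0) :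
    ∃ (j' : ι) (f' : ι → ℕ), Qd P S B j' f' ∧ 0 < f' l := by
  -- `root j ≠ - root l`
  have hne : P.root j ≠ -P.root l := by
    intro heq
    have hsum : ∑ x ∈ S, ((f x + if x = l then 1 else 0 : ℕ) : k) • P.root x = 0 := by
      have h1 : ∑ x ∈ S, ((f x + if x = l then 1 else 0 : ℕ) : k) • P.root x =
          ∑ x ∈ S, f x • P.root x + P.root l := by
        simp only [Nat.cast_add, add_smul, Finset.sum_add_distrib, Nat.cast_smul_eq_nsmul]
        congr 1
        simp [Finset.sum_ite_eq', hl]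
      rw [h1, ← h.2.1, heq, neg_add_cancel]
    have hli := (linearIndepOn_finset_iff.mp (b.linearIndepOn_root.mono (by exact_mod_cast hS))) _
      hsum l hl
    simp only [if_true] at hli
    have : ((f l + 1 : ℕ) : k) ≠ 0 := Nat.cast_ne_zero.mpr (Nat.succ_ne_zero _)
    exact this hli
  obtain ⟨j', hj'⟩ := P.root_add_root_mem_of_pairingIn_neg hneg hne
  refine ⟨j', fun x => f x + if x = l then 1 else 0, ⟨?_, ?_, ?_⟩, ?_⟩
  · intro x hx
    have hxl : x ≠ l := by rintro rfl; exact hx hl
    simp [h.1 x hx, hxl]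
  · rw [hj', h.2.1]
    simp only [add_smul, Finset.sum_add_distrib]
    congr 1
    simp [Finset.sum_ite_eq', hl]
  · obtain ⟨x, hxB, hx⟩ := h.2.2
    exact ⟨x, hxB, by positivity⟩
  · simp

/-- **Main lemma.** -/
theorem main [P.IsReduced] [P.IsIrreducible] (b : P.Base)
    (I A B : Finset ι) (hcover : I ∪ A ∪ B = b.support) (hIA : Disjoint I A)
    (hAB : Disjoint A B) (hA : A.Nonempty) (hB : B.Nonempty) :
    ∃ l ∈ A, ∃ (j : ι) (f : ι → ℕ), Qd P (I ∪ B) B j f ∧ P.pairingIn ℤ j l < 0 := by
  set Gl : Prop := ∃ l ∈ A, ∃ (j : ι) (f : ι → ℕ), Qd P (I ∪ B) B j f ∧ P.pairingIn ℤ j l < 0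
    with hGl
  have hS : I ∪ B ⊆ b.support := by
    rw [← hcover]
    intro x hx
    rcases Finset.mem_union.mp hx with h | h
    · exact Finset.mem_union_left _ (Finset.mem_union_left _ h)
    · exact Finset.mem_union_right _ h
  let p : b.support → Prop := fun i => Gl ∨ ∃ (j : ι) (f : ι → ℕ), Qd P (I ∪ B) B j f ∧ 0 < f i
  obtain ⟨β, hβ⟩ := hB
  obtain ⟨a, ha⟩ := hA
  have hβs : β ∈ b.support := hS (Finset.mem_union_right _ hβ)
  have has : a ∈ b.support := by
    rw [← hcover]; exact Finset.mem_union_left _ (Finset.mem_union_right _ ha)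
  have hstart : p ⟨β, hβs⟩ := by
    right
    refine ⟨β, fun x => if x = β then 1 else 0, ⟨?_, ?_, ⟨β, hβ, by simp⟩⟩, by simp⟩
    · intro x hx
      have : x ≠ β := by rintro rfl; exact hx (Finset.mem_union_right _ hβ)
      simp [this]
    · simp [Finset.sum_ite_eq', Finset.mem_union_right _ hβ]
  have hprop : ∀ i j : b.support, p i → b.cartanMatrix j i ≠ 0 → p j := by
    rintro ⟨i, hi⟩ ⟨j, hj⟩ hpi hc
    rcases hpi with hG | ⟨j₀, f, hQ, hfi⟩
    · exact Or.inl hG
    · by_cases hfj : 0 < f j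
      · exact Or.inr ⟨j₀, f, hQ, hfj⟩
      · have hfj0 : f j = 0 := by omega
        have hc' : P.pairingIn ℤ i j ≠ 0 := by
          have := (RootPairing.Base.cartanMatrix_apply_eq_zero_iff_symm (b := b)
            (i := ⟨i, hi⟩) (j := ⟨j, hj⟩)).not.mpr hc
          simpa [RootPairing.Base.cartanMatrix, RootPairing.Base.cartanMatrixIn_def] using this
        have hneg := pairingIn_neg b hS hQ hj hfj0 hfi hc'
        have hjmem : j ∈ I ∪ A ∪ B := by rw [hcover]; exact hj
        by_cases hjA : j ∈ A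
        · exact Or.inl ⟨j, hjA, j₀, f, hQ, hneg⟩
        · have hjS : j ∈ I ∪ B := by
            rcases Finset.mem_union.mp hjmem with h | h
            · rcases Finset.mem_union.mp h with h' | h'
              · exact Finset.mem_union_left _ h'
              · exact absurd h' hjA
            · exact Finset.mem_union_right _ h
          obtain ⟨j', f', hQ', hf'⟩ := exists_Qd_add b hS hQ hjS hneg
          exact Or.inr ⟨j', f', hQ', hf'⟩
  have hfin : p ⟨a, has⟩ := b.induction_on_cartanMatrix p hstart hprop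
  rcases hfin with hG | ⟨j, f, hQ, hfa⟩
  · exact hG
  · exfalso
    have : a ∉ I ∪ B := by
      intro h
      rcases Finset.mem_union.mp h with h' | h'
      · exact Finset.disjoint_left.mp hIA h' ha
      · exact Finset.disjoint_left.mp hAB ha h'
    rw [hQ.1 a this] at hfa
    exact lt_irrefl _ hfa


/-- The statement in the form of the milestone. -/
theorem main' [P.IsReduced] [P.IsIrreducible] (b : P.Base)
    (I A B : Finset ι) (hcover : I ∪ A ∪ B = b.support) (hIA : Disjoint I A) (hIB : Disjoint I B)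
    (hAB : Disjoint A B) (hA : A.Nonempty) (hB : B.Nonempty) :
    ∃ l ∈ A, ∃ j : ι, P.root j ∈ AddSubmonoid.closure (P.root '' ↑(I ∪ B)) ∧
      P.root j ∉ Submodule.span k (P.root '' ↑I) ∧ P.pairingIn ℤ j l < 0 := by
  obtain ⟨l, hl, j, f, hQ, hneg⟩ := main b I A B hcover hIA hAB hA hB
  have hS : I ∪ B ⊆ b.support := by
    rw [← hcover]
    intro x hx
    rcases Finset.mem_union.mp hx with h | h
    · exact Finset.mem_union_left _ (Finset.mem_union_left _ h)
    · exact Finset.mem_union_right _ h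
  refine ⟨l, hl, j, ?_, ?_, hneg⟩
  · rw [hQ.2.1]
    exact AddSubmonoid.sum_mem _ fun x hx =>
      AddSubmonoid.nsmul_mem _ (AddSubmonoid.subset_closure (mem_image_of_mem _ hx)) _
  · intro hmem
    rw [Submodule.mem_span_image_finset_iff_exists_fun'] at hmem
    obtain ⟨c, hc⟩ := hmem
    obtain ⟨x₀, hx₀B, hx₀⟩ := hQ.2.2
    have hx₀I : x₀ ∉ I := fun h => Finset.disjoint_left.mp hIB h hx₀B
    have hsum : ∑ x ∈ I ∪ B, ((f x : k) - (if x ∈ I then c x else 0)) • P.root x = 0 := by
      simp only [sub_smul, Finset.sum_sub_distrib, ite_smul, zero_smul, Nat.cast_smul_eq_nsmul]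
      rw [Finset.sum_ite_mem, Finset.union_inter_cancel_left, hc, ← hQ.2.1, sub_self]
    have hli := (linearIndepOn_finset_iff.mp (b.linearIndepOn_root.mono (by exact_mod_cast hS))) _
      hsum x₀ (Finset.mem_union_right _ hx₀B)
    simp only [hx₀I, if_false, sub_zero] at hli
    have : ((f x₀ : ℕ) : k) ≠ 0 := Nat.cast_ne_zero.mpr (by omega)
    exact this hli

end Groth.Agent.Lib.RootCombPath
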