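import Groth.Agent.Lib.RootDWeyl

/-!
Root data over the integers, root-only simple systems: every indivisible root is conjugate under the
Weyl group to a simple root and lies in some simple system; a simple system is a basis of the root
lattice (homomorphisms out of the root lattice can be prescribed on a simple system); odd additive
functions on roots extend uniquely to the root lattice; parabolic subgroups of the Weyl group
preserve the positive roots outside the span.  (helper58.)
-/

set_option autoImplicit false
open RootD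

namespace Groth.Agent.Lib.RootDConj

open Groth.Agent.Lib.RootDBasic Groth.Agent.Lib.RootDForm Groth.Agent.Lib.RootDSimple
  Groth.Agent.Lib.RootDWeyl

variable {ι M N : Type*} [AddCommGroup M] [AddCommGroup N] (P : RootPairing ι ℤ M N)

/-- Indivisibility is preserved by automorphisms. -/
theorem isIndiv_smul (g : P.Aut) {k : ι} (h : IsIndiv P k) : IsIndiv P (g • k) := by
  intro j hj
  apply h (g⁻¹ • j)
  rw [root_smul, ← smul_comm, hj, root_smul, inv_smul_smul]

theorem natSpan_le_span (T : Set ι) {x : M} (hx : x ∈ natSpan P T) :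
    x ∈ Submodule.span ℤ (P.root '' T) := by
  have : natSpan P T ≤ (Submodule.span ℤ (P.root '' T)).toAddSubmonoid :=
    AddSubmonoid.closure_le.mpr Submodule.subset_span
  exact this hx

/-- The roots of a simple system span the root lattice. -/
theorem span_simple_eq {Δ : Set ι} (hΔ : IsSimpleSys P Δ) :
    Submodule.span ℤ (P.root '' Δ) = Submodule.span ℤ (Set.range P.root) := by
  apply le_antisymm
  · exact Submodule.span_mono (Set.image_subset_range _ _)
  · rw [Submodule.span_le]
    rintro _ ⟨k, rfl⟩
    rcases hΔ.mem_or_neg_mem k with h | h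
    · exact natSpan_le_span P Δ h
    · have := natSpan_le_span P Δ h
      rw [neg_mem_iff] at this
      exact this

/-- An induction principle for the subgroup generated by the reflections in a set of roots. -/
theorem weylSub_induction {T : Set ι} {pred : P.Aut → Prop}
    (mem : ∀ i ∈ T, pred (RootPairing.Equiv.reflection P i)) (one : pred 1)
    (mul : ∀ x y, pred x → pred y → pred (x * y)) {g : P.Aut}
    (hg : g ∈ Subgroup.closure ((fun i : ι => RootPairing.Equiv.reflection P i) '' T)) :
    pred g := by
  induction hg using Subgroup.closure_induction'' with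
  | mem x hx =>
    obtain ⟨i, hi, rfl⟩ := hx
    exact mem i hi
  | inv_mem x hx =>
    obtain ⟨i, hi, rfl⟩ := hx
    rw [RootPairing.Equiv.reflection_inv]
    exact mem i hi
  | one => exact one
  | mul x y _ _ hx hy => exact mul x y hx hy

/-- For `Δ'` contained in a system of simple roots `Δ`, the subgroup of the Weyl group generated by
the reflections in `Δ'` preserves the set of positive roots not lying in the span of `Δ'`. -/
theorem weylSub_mapsTo_pos_diff {Δ Δ' : Set ι} (hΔ : IsSimpleSys P Δ) (hsub : Δ' ⊆ Δ)
    {g : P.Aut}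
    (hg : g ∈ Subgroup.closure ((fun i : ι => RootPairing.Equiv.reflection P i) '' Δ'))
    {k : ι} (hk : k ∈ posOf P Δ) (hk' : k ∉ inSpan P Δ') :
    g • k ∈ posOf P Δ ∧ g • k ∉ inSpan P Δ' := by
  revert k
  refine weylSub_induction P (pred := fun g => ∀ {k : ι}, k ∈ posOf P Δ → k ∉ inSpan P Δ' →
    g • k ∈ posOf P Δ ∧ g • k ∉ inSpan P Δ') ?_ ?_ ?_ hg
  · intro i hi k hk hk'
    have hroot : P.root (RootPairing.Equiv.reflection P i • k) =
        P.root k - P.pairing k i • P.root i := root_reflectionPerm' P i k
    have hi_mem : P.root i ∈ Submodule.span ℤ (P.root '' Δ') :=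
      Submodule.subset_span ⟨i, hi, rfl⟩
    constructor
    · rcases reflectionPerm_mem_posOf_or P hΔ (hsub hi) hk with h | ⟨m, hm⟩
      · exact h
      · exfalso
        apply hk'
        show P.root k ∈ Submodule.span ℤ (P.root '' Δ')
        rw [hm]
        exact Submodule.smul_of_tower_mem _ m hi_mem
    · intro hcon
      apply hk'
      have hcon' : P.root (RootPairing.Equiv.reflection P i • k) ∈
          Submodule.span ℤ (P.root '' Δ') := hcon
      show P.root k ∈ Submodule.span ℤ (P.root '' Δ')
      have : P.root k = P.root (RootPairing.Equiv.reflection P i • k) +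
          P.pairing k i • P.root i := by rw [hroot]; abel
      rw [this]
      exact add_mem hcon' (Submodule.smul_mem _ _ hi_mem)
  · intro k hk hk'
    rw [one_smul]
    exact ⟨hk, hk'⟩
  · intro x y hx hy k hk hk'
    rw [mul_smul]
    obtain ⟨h1, h2⟩ := hy hk hk'
    exact hx h1 h2

variable [Finite ι]

/-- Every indivisible positive root is conjugate under the Weyl group to a simple root
(coefficient form, by induction on the height). -/
theorem exists_weyl_smul_mem_of_comb {Δ : Set ι} (hΔ : IsSimpleSys P Δ) (n : ℕ) :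
    ∀ c : ι →₀ ℕ, (↑c.support : Set ι) ⊆ Δ → c.degree = n → ∀ k : ι, P.root k = comb P c →
      IsIndiv P k → ∃ g : P.Aut, g ∈ P.weylGroup ∧ g • k ∈ Δ := by
  induction n using Nat.strong_induction_on with
  | _ n ih =>
    intro c hc hdeg k hk hind
    by_cases hkΔ : k ∈ Δ
    · exact ⟨1, one_mem _, by rwa [one_smul]⟩
    · have hkpos : k ∈ posOf P Δ := by
        show P.root k ∈ natSpan P Δ
        rw [hk]
        exact (mem_natSpan_iff P Δ _).mpr ⟨c, hc, rfl⟩
      obtain ⟨i, hi, hpos, hrefl⟩ := exists_simple_pairing_pos P hΔ hkpos hkΔ hind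
      obtain ⟨d, hd, hdk⟩ := (mem_natSpan_iff P Δ _).mp hrefl
      have h1 : comb P (d + Finsupp.single i (P.pairing k i).toNat) = comb P c := by
        rw [comb_add, comb_single, hdk, root_reflectionPerm', ← hk, ← natCast_zsmul,
          Int.toNat_of_nonneg hpos.le]
        abel
      have h2 : d + Finsupp.single i (P.pairing k i).toNat = c :=
        comb_injOn P hΔ.linInd _ _ (support_add_subset hd (support_single_subset hi _)) hc h1
      have h3 : d.degree + (P.pairing k i).toNat = n := by
        rw [← hdeg, ← h2, map_add, Finsupp.degree_single]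
      have h4 : 0 < (P.pairing k i).toNat := by omega
      obtain ⟨g, hg, hgk⟩ := ih d.degree (by omega) d hd rfl (P.reflectionPerm i k) hdk.symm
        (isIndiv_smul P (RootPairing.Equiv.reflection P i) hind)
      refine ⟨g * RootPairing.Equiv.reflection P i,
        mul_mem hg (P.reflection_mem_weylGroup i), ?_⟩
      rw [mul_smul]
      exact hgk

/-- Every indivisible root is conjugate under the Weyl group to a root of any given simple
system. -/
theorem exists_weyl_smul_mem {Δ : Set ι} (hΔ : IsSimpleSys P Δ) {k : ι} (hind : IsIndiv P k) :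
    ∃ g : P.Aut, g ∈ P.weylGroup ∧ g • k ∈ Δ := by
  rcases hΔ.mem_or_neg_mem k with h | h
  · obtain ⟨c, hc, hck⟩ := (mem_natSpan_iff P Δ _).mp h
    exact exists_weyl_smul_mem_of_comb P hΔ _ c hc rfl k hck.symm hind
  · obtain ⟨c, hc, hck⟩ := (mem_natSpan_iff P Δ _).mp h
    obtain ⟨g, hg, hgk⟩ := exists_weyl_smul_mem_of_comb P hΔ _ c hc rfl (P.reflectionPerm k k)
      (by rw [hck, root_reflectionPerm_self])
      (isIndiv_smul P (RootPairing.Equiv.reflection P k) hind)
    refine ⟨g * RootPairing.Equiv.reflection P k,
      mul_mem hg (P.reflection_mem_weylGroup k), ?_⟩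
    rw [mul_smul]
    exact hgk

/-- Every indivisible root belongs to a system of simple roots. -/
theorem exists_isSimpleSys_mem {k : ι} (hind : IsIndiv P k) :
    ∃ Δ : Set ι, IsSimpleSys P Δ ∧ k ∈ Δ := by
  obtain ⟨Δ₀, hΔ₀⟩ := exists_isSimpleSys P
  obtain ⟨g, -, hgk⟩ := exists_weyl_smul_mem P hΔ₀ hind
  exact ⟨_, isSimpleSys_image P g⁻¹ hΔ₀, ⟨g • k, hgk, by simp⟩⟩

omit [Finite ι] in
/-- A homomorphism out of the root lattice can be prescribed on a simple system. -/
theorem exists_addHom_simple {Δ : Set ι} (hΔ : IsSimpleSys P Δ) {G : Type*} [AddCommGroup G]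
    (f : ι → G) :
    ∃ φ : Submodule.span ℤ (Set.range P.root) →+ G, ∀ i ∈ Δ,
      φ ⟨P.root i, Submodule.subset_span (Set.mem_range_self i)⟩ = f i := by
  have hli : LinearIndependent ℤ (fun i : Δ => P.root i) := hΔ.linInd
  have hspan : Submodule.span ℤ (Set.range P.root) =
      Submodule.span ℤ (Set.range (fun i : Δ => P.root i)) := by
    rw [← span_simple_eq P hΔ, Set.image_eq_range]
  let e := LinearEquiv.ofEq _ _ hspan
  let ψ : (Δ →₀ ℤ) →ₗ[ℤ] G := Finsupp.linearCombination ℤ (fun i : Δ => f i)
  refine ⟨(ψ ∘ₗ hli.repr ∘ₗ e.toLinearMap).toAddMonoidHom, ?_⟩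
  intro i hi
  have h1 : hli.repr (e ⟨P.root i, Submodule.subset_span (Set.mem_range_self i)⟩) =
      Finsupp.single ⟨i, hi⟩ 1 := hli.repr_eq_single ⟨i, hi⟩ _ rfl
  simp only [LinearMap.toAddMonoidHom_coe, LinearMap.coe_comp, LinearEquiv.coe_coe,
    Function.comp_apply]
  rw [h1]
  simp [ψ]

/-- A map from the roots to an abelian group that is odd and additive on pairs of roots whose sum
is a root extends to a homomorphism on the lattice generated by the roots. -/
theorem exists_addHom_extending {G : Type*} [AddCommGroup G] (f : ι → G)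
    (hneg : ∀ i : ι, f (P.reflectionPerm i i) = -f i)
    (hadd : ∀ i j k : ι, P.root k = P.root i + P.root j → f k = f i + f j) :
    ∃ φ : Submodule.span ℤ (Set.range P.root) →+ G,
      ∀ i : ι, φ ⟨P.root i, Submodule.subset_span (Set.mem_range_self i)⟩ = f i := by
  obtain ⟨Δ, hΔ⟩ := exists_isSimpleSys P
  obtain ⟨φ, hφ⟩ := exists_addHom_simple P hΔ f
  refine ⟨φ, ?_⟩
  -- positive roots, by induction on the height
  have hposn : ∀ n : ℕ, ∀ c : ι →₀ ℕ, (↑c.support : Set ι) ⊆ Δ → c.degree = n → ∀ k : ι,
      P.root k = comb P c →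
      φ ⟨P.root k, Submodule.subset_span (Set.mem_range_self k)⟩ = f k := by
    intro n
    induction n with
    | zero =>
      intro c hc hdeg k hk
      exfalso
      have hc0 : c = 0 := (Finsupp.degree_eq_zero_iff c).mp hdeg
      rw [hc0, comb_zero] at hk
      exact P.ne_zero k hk
    | succ n ih =>
      intro c hc hdeg k hk
      by_cases hkΔ : k ∈ Δ
      · exact hφ k hkΔ
      · obtain ⟨i, hiΔ, hci, -, l, hl, hkl⟩ := exists_simple_sub_comb P hkΔ c hc hk.symm
        have h1 : c - Finsupp.single i 1 + Finsupp.single i 1 = c :=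
          Finsupp.sub_add_single_one_cancel (by omega)
        have hdeg' : (c - Finsupp.single i 1).degree = n := by
          have := congrArg Finsupp.degree h1
          rw [map_add, Finsupp.degree_single, hdeg] at this
          omega
        have h2 := ih _ (support_tsub_subset hc _) hdeg' l hl
        have h3 : (⟨P.root k, Submodule.subset_span (Set.mem_range_self k)⟩ :
            Submodule.span ℤ (Set.range P.root)) =
            ⟨P.root l, Submodule.subset_span (Set.mem_range_self l)⟩ +
            ⟨P.root i, Submodule.subset_span (Set.mem_range_self i)⟩ := Subtype.ext hkl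
        rw [h3, map_add, h2, hφ i hiΔ, hadd l i k hkl]
  have hpos : ∀ k : ι, k ∈ posOf P Δ →
      φ ⟨P.root k, Submodule.subset_span (Set.mem_range_self k)⟩ = f k := by
    intro k hk
    obtain ⟨c, hc, hck⟩ := (mem_natSpan_iff P Δ _).mp hk
    exact hposn _ c hc rfl k hck.symm
  intro k
  rcases hΔ.mem_or_neg_mem k with h | h
  · exact hpos k h
  · have h1 := hpos (P.reflectionPerm k k) (by
      show P.root (P.reflectionPerm k k) ∈ natSpan P Δ
      rw [root_reflectionPerm_self]; exact h)
    have h2 : (⟨P.root (P.reflectionPerm k k), Submodule.subset_span (Set.mem_range_self _)⟩ :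
        Submodule.span ℤ (Set.range P.root)) =
        -⟨P.root k, Submodule.subset_span (Set.mem_range_self k)⟩ :=
      Subtype.ext (root_reflectionPerm_self P k)
    rw [h2, map_neg, hneg, neg_inj] at h1
    exact h1

omit [Finite ι] in
/-- Two homomorphisms on the root lattice agreeing on the roots are equal. -/
theorem addHom_ext {G : Type*} [AddCommGroup G]
    {φ₁ φ₂ : Submodule.span ℤ (Set.range P.root) →+ G}
    (h : ∀ i : ι, φ₁ ⟨P.root i, Submodule.subset_span (Set.mem_range_self i)⟩ =
      φ₂ ⟨P.root i, Submodule.subset_span (Set.mem_range_self i)⟩) : φ₁ = φ₂ := by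
  have h1 : φ₁.toIntLinearMap = φ₂.toIntLinearMap := by
    apply LinearMap.ext_on (Submodule.span_span_coe_preimage (R := ℤ) (s := Set.range P.root))
    rintro ⟨x, hx⟩ hx'
    obtain ⟨i, rfl⟩ : x ∈ Set.range P.root := hx'
    exact h i
  ext x
  exact LinearMap.congr_fun h1 x

/-- In an adjoint root datum every indivisible root is an indivisible element of the weight
lattice. -/
theorem eq_one_or_neg_one_of_adjoint (had : Submodule.span ℤ (Set.range P.root) = ⊤)
    {i : ι} (hind : IsIndiv P i) {m : M} {n : ℤ} (h : n • m = P.root i) : n = 1 ∨ n = -1 := by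
  classical
  obtain ⟨Δ, hΔ, hiΔ⟩ := exists_isSimpleSys_mem P hind
  obtain ⟨φ, hφ⟩ := exists_addHom_simple P hΔ (fun j => if j = i then (1 : ℤ) else 0)
  have hm : m ∈ Submodule.span ℤ (Set.range P.root) := by rw [had]; trivial
  have h1 : n • (⟨m, hm⟩ : Submodule.span ℤ (Set.range P.root)) =
      ⟨P.root i, Submodule.subset_span (Set.mem_range_self i)⟩ := Subtype.ext h
  have h2 := congrArg φ h1
  rw [map_zsmul, hφ i hiΔ, if_pos rfl, smul_eq_mul] at h2
  exact Int.eq_one_or_neg_one_of_mul_eq_one h2

end Groth.Agent.Lib.RootDConj
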