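import Groth.Agent.Lib.RootDWeyl
import Groth.Agent.S2953
import Groth.Agent.S5488
import Groth.Agent.S5448

/-!
Words in the simple reflections of a system of simple roots (root-only sense, `RootD.IsSimpleSys`)
of a root datum over the integers (possibly non-reduced): the deletion lemma, every indivisible
root is conjugate to a simple root under the group generated by the simple reflections, the simple
reflections generate the Weyl group, a minimal word sends its last simple root to a negative root,
and an element of the Weyl group preserving the positive roots (or the simple roots) is trivial.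
(helper23; port of helper52's S2953 to `RootD.IsSimpleSys`, on top of helper58's `RootDWeyl`.)
-/

set_option autoImplicit false
open RootD RootPairing

namespace Groth.Agent.Lib.RootDWord

open Groth.Agent.Lib.RootDBasic Groth.Agent.Lib.RootDForm Groth.Agent.Lib.RootDSimple
open Groth.Agent.Lib.RootDWeyl Groth.Agent.S2953

variable {ι M N : Type*} [AddCommGroup M] [AddCommGroup N] (P : RootPairing ι ℤ M N)

/-! ### Signs -/

theorem neg_mem_posOf_iff {Δ : Set ι} (hΔ : IsSimpleSys P Δ) (k : ι) :
    P.reflectionPerm k k ∈ posOf P Δ ↔ k ∉ posOf P Δ := by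
  constructor
  · intro h hk
    have h' : -P.root k ∈ natSpan P Δ := by
      have : P.root (P.reflectionPerm k k) ∈ natSpan P Δ := h
      rwa [root_reflectionPerm_self] at this
    exact P.ne_zero k (eq_zero_of_mem_of_neg_mem P hΔ.linInd _ hk h')
  · intro hk
    rcases hΔ.mem_or_neg_mem k with h | h
    · exact absurd h hk
    · show P.root (P.reflectionPerm k k) ∈ natSpan P Δ
      rwa [root_reflectionPerm_self]

theorem reflectionPerm_reflectionPerm_self (k : ι) :
    P.reflectionPerm (P.reflectionPerm k k) (P.reflectionPerm k k) = k := by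
  apply P.root.injective
  rw [root_reflectionPerm_self, root_reflectionPerm_self, neg_neg]

/-! ### Indivisibility is invariant under automorphisms -/

theorem isIndiv_smul (g : P.Aut) {k : ι} (hk : IsIndiv P k) : IsIndiv P (g • k) := by
  intro j hj
  apply hk (g⁻¹ • j)
  have h1 : g⁻¹ • ((2 : ℤ) • P.root j) = g⁻¹ • P.root (g • k) := by rw [hj]
  rw [← root_smul P g⁻¹ (g • k), inv_smul_smul, smul_comm] at h1
  rw [root_smul]
  exact h1

theorem isIndiv_of_smul (g : P.Aut) {k : ι} (hk : IsIndiv P (g • k)) : IsIndiv P k := by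
  have := isIndiv_smul P g⁻¹ hk
  rwa [inv_smul_smul] at this

/-! ### Words -/

theorem wprod_mem_closure {Δ : Set ι} (l : List ι) (hl : ∀ c ∈ l, c ∈ Δ) :
    wprod P l ∈ Subgroup.closure ((fun i : ι => Equiv.reflection P i) '' Δ) := by
  induction l with
  | nil => exact Subgroup.one_mem _
  | cons a l ih =>
    rw [wprod_cons]
    apply Subgroup.mul_mem
    · exact Subgroup.subset_closure ⟨a, hl a List.mem_cons_self, rfl⟩
    · exact ih fun c hc => hl c (List.mem_cons_of_mem _ hc)

theorem wprod_mem_weylGroup (l : List ι) : wprod P l ∈ P.weylGroup := by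
  induction l with
  | nil => exact Subgroup.one_mem _
  | cons a l ih =>
    rw [wprod_cons]
    exact Subgroup.mul_mem _ (Subgroup.subset_closure ⟨a, rfl⟩) ih

variable [Finite ι]

/-- deletion: if the product of simple reflections along `l` sends the simple root `a` to a
non-positive root then `wprod l * s_a` is a product along a list shorter by two. -/
theorem deletion {Δ : Set ι} (hΔ : IsSimpleSys P Δ) (l : List ι) (hl : ∀ c ∈ l, c ∈ Δ) (a : ι)
    (ha : a ∈ Δ) (hneg : wprod P l • a ∉ posOf P Δ) :
    ∃ m : List ι, (∀ c ∈ m, c ∈ Δ) ∧ m.length + 1 = l.length ∧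
      wprod P l * Equiv.reflection P a = wprod P m := by
  induction l with
  | nil =>
    exfalso
    apply hneg
    rw [wprod_nil, one_smul]
    exact subset_posOf P Δ ha
  | cons c l ih =>
    have hc : c ∈ Δ := hl c List.mem_cons_self
    have hl' : ∀ c ∈ l, c ∈ Δ := fun d hd => hl d (List.mem_cons_of_mem _ hd)
    by_cases hβ : wprod P l • a ∈ posOf P Δ
    · -- then `wprod l • a = c`
      have hβc : wprod P l • a = c := by
        rcases reflectionPerm_mem_posOf_or P hΔ hc hβ with h | ⟨m, hm⟩
        · exfalso
          apply hneg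
          rw [wprod_cons, mul_smul, smul_idx]
          exact h
        · rcases eq_one_or_two_of_root_eq_nsmul P hm with rfl | rfl
          · rw [one_smul] at hm
            exact P.root.injective hm
          · exfalso
            have hind : IsIndiv P (wprod P l • a) :=
              isIndiv_smul P _ (Groth.Agent.S5448.result P Δ hΔ a ha)
            apply hind c
            rw [hm, ofNat_zsmul]
      refine ⟨l, hl', rfl, ?_⟩
      have h1 := refl_wprod_smul P l a
      rw [hβc] at h1
      rw [wprod_cons, h1]
      simp only [mul_assoc, inv_mul_cancel_left, refl_mul_self, mul_one]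
    · obtain ⟨m, hm, hlen, hprod⟩ := ih hl' hβ
      refine ⟨c :: m, ?_, by simp [hlen], ?_⟩
      · intro d hd
        rcases List.mem_cons.mp hd with rfl | hd
        · exact hc
        · exact hm d hd
      · rw [wprod_cons, wprod_cons, mul_assoc, hprod]

/-- A word of minimal length in the simple reflections sends its last simple root to a negative
root; here in the form: for `l = m ++ [a]` minimal, `wprod m • a` is positive. -/
theorem pos_of_minimal {Δ : Set ι} (hΔ : IsSimpleSys P Δ) (m : List ι) (a : ι)
    (hm : ∀ c ∈ m, c ∈ Δ) (ha : a ∈ Δ)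
    (hmin : ∀ l' : List ι, (∀ c ∈ l', c ∈ Δ) → wprod P l' = wprod P (m ++ [a]) →
      (m ++ [a]).length ≤ l'.length) :
    wprod P m • a ∈ posOf P Δ := by
  by_contra hneg
  obtain ⟨m', hm', hlen, hprod⟩ := deletion P hΔ m hm a ha hneg
  have := hmin m' hm' (by rw [wprod_append, wprod_cons, wprod_nil, mul_one, hprod])
  simp only [List.length_append, List.length_cons, List.length_nil] at this
  omega

/-! ### Conjugacy of indivisible roots to simple roots -/

theorem exists_wprod_smul_eq_of_pos {Δ : Set ι} (hΔ : IsSimpleSys P Δ) :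
    ∀ (n : ℕ) (c : ι →₀ ℕ) (k : ι), c.sum (fun _ m => m) = n → (↑c.support : Set ι) ⊆ Δ →
      comb P c = P.root k → IsIndiv P k →
      ∃ l : List ι, (∀ c ∈ l, c ∈ Δ) ∧ ∃ i ∈ Δ, wprod P l • i = k := by
  classical
  intro n
  induction n using Nat.strong_induction_on with
  | _ n ih =>
  intro c k hn hc hck hind
  by_cases hkΔ : k ∈ Δ
  · exact ⟨[], by simp, k, hkΔ, by simp⟩
  · have hk : k ∈ posOf P Δ := (mem_natSpan_iff P Δ _).mpr ⟨c, hc, hck⟩
    obtain ⟨i, hi, hpos, hsk⟩ := exists_simple_pairing_pos P hΔ hk hkΔ hind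
    obtain ⟨c', hc', hck'⟩ := (mem_natSpan_iff P Δ _).mp hsk
    have hcc' : c' + Finsupp.single i (P.pairing k i).toNat = c := by
      apply comb_injOn P hΔ.linInd _ _ (support_add_subset hc' (support_single_subset hi _)) hc
      rw [comb_add, comb_single, hck', hck, root_reflectionPerm']
      have : ((P.pairing k i).toNat : ℤ) = P.pairing k i := Int.toNat_of_nonneg hpos.le
      rw [← natCast_zsmul, this]
      abel
    have hlt : c'.sum (fun _ m => m) < n := by
      rw [← hn, ← hcc', Finsupp.sum_add_index' (by simp) (by simp)]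
      simp only [Finsupp.sum_single_index]
      have : 0 < (P.pairing k i).toNat := by omega
      omega
    have hind' : IsIndiv P (P.reflectionPerm i k) := by
      rw [← smul_idx]; exact isIndiv_smul P _ hind
    obtain ⟨l, hl, j, hj, hlj⟩ := ih _ hlt c' (P.reflectionPerm i k) rfl hc' hck' hind'
    refine ⟨i :: l, ?_, j, hj, ?_⟩
    · intro d hd
      rcases List.mem_cons.mp hd with rfl | hd
      · exact hi
      · exact hl d hd
    · rw [wprod_cons, mul_smul, hlj, smul_idx]
      exact P.reflectionPerm_self i k

/-- Every indivisible root is conjugate to a simple root by a word in the simple reflections. -/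
theorem exists_wprod_smul_eq {Δ : Set ι} (hΔ : IsSimpleSys P Δ) (k : ι) (hind : IsIndiv P k) :
    ∃ l : List ι, (∀ c ∈ l, c ∈ Δ) ∧ ∃ i ∈ Δ, wprod P l • i = k := by
  by_cases hk : k ∈ posOf P Δ
  · obtain ⟨c, hc, hck⟩ := (mem_natSpan_iff P Δ _).mp hk
    exact exists_wprod_smul_eq_of_pos P hΔ _ c k rfl hc hck hind
  · have hk' : P.reflectionPerm k k ∈ posOf P Δ := (neg_mem_posOf_iff P hΔ k).mpr hk
    have hind' : IsIndiv P (P.reflectionPerm k k) := by
      rw [← smul_idx]; exact isIndiv_smul P _ hind
    obtain ⟨c, hc, hck⟩ := (mem_natSpan_iff P Δ _).mp hk'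
    obtain ⟨l, hl, i, hi, hli⟩ := exists_wprod_smul_eq_of_pos P hΔ _ c _ rfl hc hck hind'
    refine ⟨l ++ [i], ?_, i, hi, ?_⟩
    · intro d hd
      rcases List.mem_append.mp hd with h | h
      · exact hl d h
      · rw [List.mem_singleton] at h; rw [h]; exact hi
    · rw [wprod_append, wprod_cons, wprod_nil, mul_one, mul_smul, smul_idx, smul_neg_idx, hli]
      exact reflectionPerm_reflectionPerm_self P k

/-- The simple reflections generate the Weyl group. -/
theorem closure_simple_eq_weylGroup {Δ : Set ι} (hΔ : IsSimpleSys P Δ) :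
    Subgroup.closure ((fun i : ι => Equiv.reflection P i) '' Δ) = P.weylGroup := by
  apply le_antisymm
  · rw [Subgroup.closure_le]
    rintro _ ⟨i, -, rfl⟩
    exact Subgroup.subset_closure ⟨i, rfl⟩
  · rw [← Groth.Agent.S5488.result P, Subgroup.closure_le]
    rintro _ ⟨k, hk, rfl⟩
    obtain ⟨l, hl, i, hi, hli⟩ := exists_wprod_smul_eq P hΔ k hk
    show Equiv.reflection P k ∈ _
    rw [← hli, refl_wprod_smul]
    have hw := wprod_mem_closure P l hl
    exact Subgroup.mul_mem _ (Subgroup.mul_mem _ hw (Subgroup.subset_closure ⟨i, hi, rfl⟩))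
      (Subgroup.inv_mem _ hw)

theorem exists_list_of_mem {Δ : Set ι} (hΔ : IsSimpleSys P Δ) (g : P.Aut)
    (hg : g ∈ P.weylGroup) : ∃ l : List ι, (∀ c ∈ l, c ∈ Δ) ∧ wprod P l = g := by
  rw [← closure_simple_eq_weylGroup P hΔ] at hg
  induction hg using Subgroup.closure_induction with
  | mem x hx =>
    obtain ⟨i, hi, rfl⟩ := hx
    exact ⟨[i], by simpa using hi, by simp⟩
  | one => exact ⟨[], by simp, rfl⟩
  | mul x y _ _ hx hy =>
    obtain ⟨l, hl, rfl⟩ := hx
    obtain ⟨m, hm, rfl⟩ := hy
    refine ⟨l ++ m, ?_, wprod_append P l m⟩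
    intro c hc
    rcases List.mem_append.mp hc with h | h
    · exact hl c h
    · exact hm c h
  | inv x _ hx =>
    obtain ⟨l, hl, rfl⟩ := hx
    exact ⟨l.reverse, fun c hc => hl c (List.mem_reverse.mp hc), (wprod_inv P l).symm⟩

/-! ### Simple transitivity -/

theorem eq_one_of_list {Δ : Set ι} (hΔ : IsSimpleSys P Δ) (n : ℕ) :
    ∀ l : List ι, l.length = n → (∀ c ∈ l, c ∈ Δ) →
      (∀ i ∈ Δ, wprod P l • i ∈ posOf P Δ) → wprod P l = 1 := by
  induction n using Nat.strong_induction_on with
  | _ n ih =>
    intro l hlen hl hpos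
    rcases List.eq_nil_or_concat l with rfl | ⟨m, a, rfl⟩
    · rfl
    · simp only [List.concat_eq_append] at hlen hl hpos ⊢
      have ha : a ∈ Δ := hl a (by simp)
      have hm : ∀ c ∈ m, c ∈ Δ := fun c hc => hl c (by simp [hc])
      have hposa : wprod P (m ++ [a]) • a ∈ posOf P Δ := hpos a ha
      have hneg : wprod P m • a ∉ posOf P Δ := by
        rw [wprod_append, wprod_cons, wprod_nil, mul_one, mul_smul, smul_idx, smul_neg_idx,
          neg_mem_posOf_iff P hΔ] at hposa
        exact hposa
      obtain ⟨m', hm', hlen', hprod⟩ := deletion P hΔ m hm a ha hneg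
      have heq : wprod P (m ++ [a]) = wprod P m' := by
        rw [wprod_append, wprod_cons, wprod_nil, mul_one, hprod]
      rw [heq]
      refine ih m'.length ?_ m' rfl hm' ?_
      · rw [← hlen, List.length_append, ← hlen']
        simp
      · rw [← heq]; exact hpos

/-- An element of the Weyl group mapping every simple root to a positive root is trivial. -/
theorem eq_one_of_simple_pos {Δ : Set ι} (hΔ : IsSimpleSys P Δ) (g : P.Aut)
    (hg : g ∈ P.weylGroup) (hpos : ∀ i ∈ Δ, g • i ∈ posOf P Δ) : g = 1 := by
  obtain ⟨l, hl, rfl⟩ := exists_list_of_mem P hΔ g hg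
  exact eq_one_of_list P hΔ l.length l rfl hl hpos

/-- An element of the Weyl group stabilising a system of simple roots is trivial. -/
theorem eq_one_of_image_eq {Δ : Set ι} (hΔ : IsSimpleSys P Δ) (g : P.Aut)
    (hg : g ∈ P.weylGroup) (h : (fun i : ι => g • i) '' Δ = Δ) : g = 1 := by
  apply eq_one_of_simple_pos P hΔ g hg
  intro i hi
  apply subset_posOf P Δ
  rw [← h]
  exact ⟨i, hi, rfl⟩

end Groth.Agent.Lib.RootDWord
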