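import Groth.Agent.Lib.RootDSub58
import Groth.Agent.Lib.RootDWord

/-!
Root data over the integers, root-only simple systems: words in a sub-alphabet of the simple
reflections (deletion lemma keeping the alphabet), and the behaviour of a root dominant for two
simple roots under the group generated by the two simple reflections (SGA3 XXI).  (helper58; uses
helper52's `S2953.wprod` and follows helper23's `RootDWord.deletion`.)
-/

set_option autoImplicit false
open RootD RootPairing

namespace Groth.Agent.Lib.RootDDihedral58

open Groth.Agent.Lib.RootDBasic Groth.Agent.Lib.RootDForm Groth.Agent.Lib.RootDSimple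
  Groth.Agent.Lib.RootDWeyl Groth.Agent.Lib.RootDConj Groth.Agent.Lib.RootDSub58
  Groth.Agent.S2953 Groth.Agent.Lib.RootDWord

variable {ι M N : Type*} [AddCommGroup M] [AddCommGroup N] (P : RootPairing ι ℤ M N)

variable [Finite ι]

/-- Deletion lemma keeping track of the letters: if the product of simple reflections along `l`
sends the simple root `a` to a non-positive root then `wprod l * s_a` is a product along a list
shorter by one whose letters are letters of `l`. -/
theorem deletion_sub {Δ : Set ι} (hΔ : IsSimpleSys P Δ) (l : List ι) (hl : ∀ c ∈ l, c ∈ Δ)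
    (a : ι) (ha : a ∈ Δ) (hneg : wprod P l • a ∉ posOf P Δ) :
    ∃ m : List ι, (∀ c ∈ m, c ∈ l) ∧ m.length + 1 = l.length ∧
      wprod P l * Equiv.reflection P a = wprod P m := by
  induction l with
  | nil =>
    exfalso
    apply hneg
    rw [wprod_nil, one_smul]
    exact subset_posOf P Δ ha
  | cons c l ih =>
    have hc : c ∈ Δ := hl c List.mem_cons_self
    have hl' : ∀ c ∈ l, c ∈ Δ := fun d hd => hl d (List.mem_cons_of_mem _ hd)
    by_cases hβ : wprod P l • a ∈ posOf P Δ
    · have hβc : wprod P l • a = c := by
        rcases reflectionPerm_mem_posOf_or P hΔ hc hβ with h | ⟨m, hm⟩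
        · exfalso
          apply hneg
          rw [wprod_cons, mul_smul, smul_idx]
          exact h
        · rcases eq_one_or_two_of_root_eq_nsmul P hm with rfl | rfl
          · rw [one_smul] at hm
            exact P.root.injective hm
          · exfalso
            have hind : IsIndiv P (wprod P l • a) :=
              Groth.Agent.Lib.RootDWord.isIndiv_smul P _ (Groth.Agent.S5448.result P Δ hΔ a ha)
            apply hind c
            rw [hm, ofNat_zsmul]
      refine ⟨l, fun d hd => List.mem_cons_of_mem _ hd, rfl, ?_⟩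
      have h1 := refl_wprod_smul P l a
      rw [hβc] at h1
      rw [wprod_cons, h1]
      simp only [mul_assoc, inv_mul_cancel_left, refl_mul_self, mul_one]
    · obtain ⟨m, hm, hlen, hprod⟩ := ih hl' hβ
      refine ⟨c :: m, ?_, by simp [hlen], ?_⟩
      · intro d hd
        rcases List.mem_cons.mp hd with rfl | hd
        · exact List.mem_cons_self
        · exact List.mem_cons_of_mem _ (hm d hd)
      · rw [wprod_cons, wprod_cons, mul_assoc, hprod]

/-- A word in the alphabet `E`, minimal among the words in `E` with the same product. -/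
def IsMinWord (E : Set ι) (l : List ι) : Prop :=
  (∀ c ∈ l, c ∈ E) ∧ ∀ l' : List ι, (∀ c ∈ l', c ∈ E) → wprod P l' = wprod P l →
    l.length ≤ l'.length

omit [Finite ι] in
theorem isMinWord_prefix {E : Set ι} {m : List ι} {a : ι} (h : IsMinWord P E (m ++ [a])) :
    IsMinWord P E m := by
  refine ⟨fun c hc => h.1 c (List.mem_append_left _ hc), fun l' hl' heq => ?_⟩
  have h1 := h.2 (l' ++ [a]) (by
    intro c hc
    rcases List.mem_append.mp hc with hc | hc
    · exact hl' c hc
    · exact h.1 c (List.mem_append_right _ hc)) (by rw [wprod_append, wprod_append, heq])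
  simp only [List.length_append, List.length_cons, List.length_nil] at h1
  omega

/-- For a minimal word `m ++ [a]` in an alphabet of simple roots, `wprod m • a` is positive. -/
theorem pos_of_isMinWord {Δ E : Set ι} (hΔ : IsSimpleSys P Δ) (hE : E ⊆ Δ) {m : List ι} {a : ι}
    (h : IsMinWord P E (m ++ [a])) : wprod P m • a ∈ posOf P Δ := by
  by_contra hneg
  have hm : ∀ c ∈ m, c ∈ E := fun c hc => h.1 c (List.mem_append_left _ hc)
  have ha : a ∈ E := h.1 a (List.mem_append_right _ (by simp))
  obtain ⟨m', hm', hlen, hprod⟩ := deletion_sub P hΔ m (fun c hc => hE (hm c hc)) a (hE ha) hneg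
  have := h.2 m' (fun c hc => hm c (hm' c hc))
    (by rw [wprod_append, wprod_cons, wprod_nil, mul_one, hprod])
  simp only [List.length_append, List.length_cons, List.length_nil] at this
  omega

omit [Finite ι] in
/-- Every element of the group generated by the reflections in `E` is the product of a minimal
word. -/
theorem exists_isMinWord {E : Set ι} {g : P.Aut}
    (hg : g ∈ Subgroup.closure ((fun i : ι => Equiv.reflection P i) '' E)) :
    ∃ l : List ι, IsMinWord P E l ∧ wprod P l = g := by
  classical
  have hex : ∃ n : ℕ, ∃ l : List ι, l.length = n ∧ (∀ c ∈ l, c ∈ E) ∧ wprod P l = g := by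
    refine weylSub_induction P (pred := fun g => ∃ n : ℕ, ∃ l : List ι, l.length = n ∧
      (∀ c ∈ l, c ∈ E) ∧ wprod P l = g) ?_ ?_ ?_ hg
    · intro i hi
      exact ⟨1, [i], rfl, by simpa using hi, by simp⟩
    · exact ⟨0, [], rfl, by simp, rfl⟩
    · rintro x y ⟨_, l, rfl, hl, rfl⟩ ⟨_, m, rfl, hm, rfl⟩
      refine ⟨_, l ++ m, rfl, ?_, wprod_append P l m⟩
      intro c hc
      rcases List.mem_append.mp hc with h | h
      · exact hl c h
      · exact hm c h
  obtain ⟨l, hlen, hl, hlg⟩ := Nat.find_spec hex
  refine ⟨l, ⟨hl, fun l' hl' heq => ?_⟩, hlg⟩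
  rw [hlen]
  exact Nat.find_min' hex ⟨l', rfl, hl', by rw [heq, hlg]⟩

/-- Let `γ` be a root with `(γ, a^v) ≥ 0` for all `a` in a set `E` of simple roots, and `l` a
minimal word in `E`.  Then `γ - w(γ)`, `w = wprod l`, is a non-negative combination of `E`, and it
vanishes only if `(γ, a^v) = 0` for every letter `a` of `l`. -/
theorem dominant_isMinWord {Δ E : Set ι} (hΔ : IsSimpleSys P Δ) (hE : E ⊆ Δ) {k : ι}
    (hdom : ∀ a ∈ E, 0 ≤ P.pairing k a) (l : List ι) (hl : IsMinWord P E l) :
    P.root k - P.root (wprod P l • k) ∈ natSpan P E ∧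
      (P.root k = P.root (wprod P l • k) → ∀ a ∈ l, P.pairing k a = 0) := by
  induction l using List.reverseRecOn with
  | nil =>
    refine ⟨?_, fun _ a ha => absurd ha (by simp)⟩
    rw [wprod_nil, one_smul, sub_self]
    exact zero_mem _
  | append_singleton m a ih =>
    obtain ⟨ih1, ih2⟩ := ih (isMinWord_prefix P hl)
    have haE : a ∈ E := hl.1 a (List.mem_append_right _ (by simp))
    have hmE : ∀ c ∈ m, c ∈ E := fun c hc => hl.1 c (List.mem_append_left _ hc)
    have hp : 0 ≤ P.pairing k a := hdom a haE
    -- the root `w(a)` is a non-negative combination of `E`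
    have hwa_pos : wprod P m • a ∈ posOf P Δ := pos_of_isMinWord P hΔ hE hl
    have hwa_span : P.root (wprod P m • a) ∈ Submodule.span ℤ (P.root '' E) := by
      have h1 := root_smul_sub_mem_span P (wprod_mem_closure P m hmE) a
      have h2 : P.root a ∈ Submodule.span ℤ (P.root '' E) :=
        Submodule.subset_span ⟨a, haE, rfl⟩
      have h3 : P.root (wprod P m • a) = (P.root (wprod P m • a) - P.root a) + P.root a := by
        abel
      rw [h3]
      exact add_mem h1 h2
    have hwa : P.root (wprod P m • a) ∈ natSpan P E := by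
      rcases mem_natSpan_of_nsmul_mem_span P hΔ hE one_pos
        (by rw [one_smul]; exact hwa_span) with h | h
      · exact h
      · exfalso
        exact P.ne_zero _ (eq_zero_of_mem_of_neg_mem P hΔ.linInd _ hwa_pos (natSpan_mono P hE h))
    -- the decomposition
    have hdecomp : P.root k - P.root (wprod P (m ++ [a]) • k) =
        (P.root k - P.root (wprod P m • k)) +
          (P.pairing k a).toNat • P.root (wprod P m • a) := by
      rw [wprod_append, wprod_cons, wprod_nil, mul_one, mul_smul, smul_idx, root_smul,
        root_reflectionPerm', smul_sub, smul_comm, ← root_smul, ← root_smul,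
        ← natCast_zsmul, Int.toNat_of_nonneg hp]
      abel
    have hy : (P.pairing k a).toNat • P.root (wprod P m • a) ∈ natSpan P E := nsmul_mem hwa _
    refine ⟨by rw [hdecomp]; exact add_mem ih1 hy, fun heq => ?_⟩
    have hsum : (P.root k - P.root (wprod P m • k)) +
        (P.pairing k a).toNat • P.root (wprod P m • a) = 0 := by
      rw [← hdecomp, heq, sub_self]
    have hx0 : P.root k - P.root (wprod P m • k) = 0 := by
      apply eq_zero_of_mem_of_neg_mem P (hΔ.linInd.mono hE) _ ih1
      rw [neg_eq_of_add_eq_zero_right hsum]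
      exact hy
    have hy0 : (P.pairing k a).toNat • P.root (wprod P m • a) = 0 := by
      rw [hx0, zero_add] at hsum; exact hsum
    have hp0 : P.pairing k a = 0 := by
      by_contra hne
      exact nsmul_root_ne_zero P _ _ (by omega) hy0
    intro c hc
    rcases List.mem_append.mp hc with hc | hc
    · exact ih2 (sub_eq_zero.mp hx0) c hc
    · rw [List.mem_singleton] at hc
      rw [hc]; exact hp0

/-- Let `Δ` be a system of simple roots, `γ` a positive root and `α, β` simple roots with
`(γ, α^v) > 0` and `(γ, β^v) ≥ 0`.  Then for every `w` in the group generated by `s_α` and `s_β`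
the coefficient vector of `γ - w(γ)` along `Δ` has coefficient sum `≥ 0`, and `> 0` unless
`w = 1` or `w = s_β`. -/
theorem coeffSum_sub_smul {Δ : Set ι} (hΔ : IsSimpleSys P Δ) {k i j : ι} (hi : i ∈ Δ) (hj : j ∈ Δ)
    (hα : 0 < P.pairing k i) (hβ : 0 ≤ P.pairing k j) {g : P.Aut}
    (hg : g ∈ Subgroup.closure {Equiv.reflection P i, Equiv.reflection P j})
    (c : ι →₀ ℤ) (hc : ↑c.support ⊆ Δ)
    (hck : Finsupp.linearCombination ℤ P.root c = P.root k - P.root (g • k)) :
    0 ≤ c.sum (fun _ a => a) ∧
      (g ≠ 1 → g ≠ Equiv.reflection P j → 0 < c.sum (fun _ a => a)) := by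
  classical
  have hE : ({i, j} : Set ι) ⊆ Δ := by
    rintro a (rfl | rfl)
    · exact hi
    · exact hj
  have hdom : ∀ a ∈ ({i, j} : Set ι), 0 ≤ P.pairing k a := by
    rintro a (rfl | rfl)
    · exact hα.le
    · exact hβ
  have hg' : g ∈ Subgroup.closure ((fun i : ι => Equiv.reflection P i) '' ({i, j} : Set ι)) := by
    rw [Set.image_pair]; exact hg
  obtain ⟨l, hl, rfl⟩ := exists_isMinWord P hg'
  obtain ⟨h1, h2⟩ := dominant_isMinWord P hΔ hE hdom l hl
  obtain ⟨d, hd, hdk⟩ := (mem_natSpan_iff P _ _).mp h1
  have hcd : c = toInt d := by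
    apply linearIndepOn_iffₛ.mp hΔ.linInd c ((Finsupp.mem_supported _ _).mpr hc) (toInt d)
      (toInt_mem_supported d Δ (fun a ha => hE (hd ha)))
    rw [hck, linearCombination_toInt, hdk]
  have hsum : c.sum (fun _ a => a) = (d.degree : ℤ) := by
    rw [hcd, toInt, Finsupp.sum_mapRange_index (fun _ => rfl), Finsupp.degree_apply,
      Finsupp.sum, Nat.cast_sum]
  rw [hsum]
  refine ⟨Int.natCast_nonneg _, fun hg1 hgj => ?_⟩
  by_contra hcon
  have hd0 : d = 0 := by
    rw [← Finsupp.degree_eq_zero_iff]
    omega
  rw [hd0, comb_zero] at hdk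
  have hall := h2 (sub_eq_zero.mp hdk.symm)
  have hletters : ∀ a ∈ l, a = j := by
    intro a ha
    rcases hl.1 a ha with rfl | rfl
    · have := hall a ha
      omega
    · rfl
  match l, hl, hletters, hg1, hgj with
  | [], _, _, hg1, _ => exact hg1 rfl
  | [x], _, hletters, _, hgj =>
    apply hgj
    rw [hletters x (by simp)]
    simp
  | x :: y :: t, hl, hletters, _, _ =>
    have hx : x = j := hletters x (by simp)
    have hy : y = j := hletters y (by simp)
    have h3 := hl.2 t (fun c hc => hl.1 c (by simp [hc])) (by
      rw [wprod_cons, wprod_cons, hx, hy, ← mul_assoc, refl_mul_self, one_mul])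
    simp only [List.length_cons] at h3
    omega

end Groth.Agent.Lib.RootDDihedral58
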