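import Groth.Agent.Lib.RootDForm

set_option autoImplicit false

namespace Groth.Agent.Lib.RootDIndep

open RootD Groth.Agent.Lib.RootDBasic Groth.Agent.Lib.RootDForm

variable {ι M N : Type*} [AddCommGroup M] [AddCommGroup N] (P : RootPairing ι ℤ M N)

theorem rootForm_lc_lc [Fintype ι] (c c' : ι →₀ ℤ) :
    P.RootForm (Finsupp.linearCombination ℤ P.root c) (Finsupp.linearCombination ℤ P.root c') =
      ∑ d ∈ c.support, ∑ e ∈ c'.support, c d * c' e * P.RootForm (P.root d) (P.root e) := by
  rw [Finsupp.linearCombination_apply, Finsupp.linearCombination_apply, Finsupp.sum, Finsupp.sum]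
  simp only [map_sum, LinearMap.sum_apply, map_smul, smul_eq_mul, LinearMap.smul_apply,
    Finset.mul_sum]
  rw [Finset.sum_comm]
  apply Finset.sum_congr rfl
  intro d _
  apply Finset.sum_congr rfl
  intro e _
  ring

/-- Pairwise obtuse roots with no nontrivial nonnegative relation are linearly independent. -/
theorem linearIndepOn_of_obtuse [Finite ι] (Δ : Set ι)
    (hobt : ∀ d ∈ Δ, ∀ e ∈ Δ, d ≠ e → P.pairing d e ≤ 0)
    (hkey : ∀ c : ι →₀ ℤ, (↑c.support : Set ι) ⊆ Δ → (∀ j, 0 ≤ c j) →
      Finsupp.linearCombination ℤ P.root c = 0 → c = 0) :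
    LinearIndepOn ℤ P.root Δ := by
  classical
  cases nonempty_fintype ι
  rw [linearIndepOn_iff]
  intro l hl hl0
  rw [Finsupp.mem_supported] at hl
  set lp : ι →₀ ℤ := l.mapRange (fun z => max z 0) (by simp) with hlp
  set ln : ι →₀ ℤ := l.mapRange (fun z => max (-z) 0) (by simp) with hln
  have hlp_apply : ∀ j, lp j = max (l j) 0 := fun j => by simp [hlp]
  have hln_apply : ∀ j, ln j = max (-l j) 0 := fun j => by simp [hln]
  have hsplit : l = lp - ln := by
    ext j
    simp only [Finsupp.coe_sub, Pi.sub_apply, hlp_apply, hln_apply]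
    omega
  have hlp_supp : (↑lp.support : Set ι) ⊆ Δ := by
    intro j hj
    apply hl
    rw [Finset.mem_coe, Finsupp.mem_support_iff] at hj ⊢
    intro h0
    apply hj
    rw [hlp_apply, h0]; simp
  have hln_supp : (↑ln.support : Set ι) ⊆ Δ := by
    intro j hj
    apply hl
    rw [Finset.mem_coe, Finsupp.mem_support_iff] at hj ⊢
    intro h0
    apply hj
    rw [hln_apply, h0]; simp
  have hlp_nonneg : ∀ j, 0 ≤ lp j := fun j => by rw [hlp_apply]; omega
  have hln_nonneg : ∀ j, 0 ≤ ln j := fun j => by rw [hln_apply]; omega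
  have hdisj : ∀ j, lp j = 0 ∨ ln j = 0 := fun j => by
    rw [hlp_apply, hln_apply]; omega
  have hv : Finsupp.linearCombination ℤ P.root lp = Finsupp.linearCombination ℤ P.root ln := by
    rw [hsplit, map_sub, sub_eq_zero] at hl0
    exact hl0
  have hform : P.RootForm (Finsupp.linearCombination ℤ P.root lp)
      (Finsupp.linearCombination ℤ P.root lp) ≤ 0 := by
    have hvv : P.RootForm (Finsupp.linearCombination ℤ P.root lp)
        (Finsupp.linearCombination ℤ P.root lp) = P.RootForm (Finsupp.linearCombination ℤ P.root lp)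
        (Finsupp.linearCombination ℤ P.root ln) := by rw [← hv]
    rw [hvv, rootForm_lc_lc]
    apply Finset.sum_nonpos
    intro d hd
    apply Finset.sum_nonpos
    intro e he
    by_cases hde : d = e
    · subst hde
      rcases hdisj d with h0 | h0 <;> simp [h0]
    · have hdΔ : d ∈ Δ := hlp_supp hd
      have heΔ : e ∈ Δ := hln_supp he
      have h1 := (rootForm_nonpos_iff P d e).mpr (hobt d hdΔ e heΔ hde)
      exact mul_nonpos_of_nonneg_of_nonpos (mul_nonneg (hlp_nonneg d) (hln_nonneg e)) h1
  have hv0 : Finsupp.linearCombination ℤ P.root lp = 0 := by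
    apply P.eq_zero_of_mem_rootSpan_of_rootForm_self_eq_zero
    · rw [RootPairing.rootSpan, Finsupp.mem_span_range_iff_exists_finsupp]
      exact ⟨lp, (Finsupp.linearCombination_apply ℤ lp).symm⟩
    · exact le_antisymm hform (P.zero_le_rootForm _)
  have hlp0 : lp = 0 := hkey lp hlp_supp hlp_nonneg hv0
  have hln0 : ln = 0 := hkey ln hln_supp hln_nonneg (by rw [← hv, hv0])
  rw [hsplit, hlp0, hln0, sub_zero]

end Groth.Agent.Lib.RootDIndep
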