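import Groth.Agent.Lib.RootDSimple
import Mathlib.Algebra.Order.Group.Equiv

/-!
Transport of positive and simple systems (root-only sense) along automorphisms of a root datum over
the integers, existence of positive and simple systems, transitivity of the Weyl group on positive
systems and simple systems, closed sets containing a positive system.
(helper58.)
-/

set_option autoImplicit false
open RootD

namespace Groth.Agent.Lib.RootDWeyl

open Groth.Agent.Lib.RootDBasic Groth.Agent.Lib.RootDForm Groth.Agent.Lib.RootDSimple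

variable {ι M N : Type*} [AddCommGroup M] [AddCommGroup N] (P : RootPairing ι ℤ M N)

/-! ### The action of automorphisms on indices and roots -/

theorem root_smul (g : P.Aut) (i : ι) : P.root (g • i) = g • P.root i :=
  RootPairing.Equiv.root_indexEquiv_eq_smul P i g

theorem reflection_smul_idx (i k : ι) :
    RootPairing.Equiv.reflection P i • k = P.reflectionPerm i k := rfl

theorem smul_reflectionPerm_self (g : P.Aut) (i : ι) :
    g • P.reflectionPerm i i = P.reflectionPerm (g • i) (g • i) := by
  apply P.root.injective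
  rw [root_smul, root_reflectionPerm_self, root_reflectionPerm_self, root_smul, smul_neg]

theorem smul_injective (g : P.Aut) : Function.Injective (fun i : ι => g • i) :=
  MulAction.injective g

theorem inv_image_image (g : P.Aut) (S : Set ι) :
    (fun i : ι => g⁻¹ • i) '' ((fun i : ι => g • i) '' S) = S := by
  rw [Set.image_image]
  simp

theorem mul_image (g h : P.Aut) (S : Set ι) :
    (fun i : ι => (g * h) • i) '' S = (fun i : ι => g • i) '' ((fun i : ι => h • i) '' S) := by
  rw [Set.image_image]
  simp only [mul_smul]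

theorem smul_mem_natSpan_image (g : P.Aut) {S : Set ι} {x : M} (hx : x ∈ natSpan P S) :
    g • x ∈ natSpan P ((fun i : ι => g • i) '' S) := by
  unfold natSpan at hx
  induction hx using AddSubmonoid.closure_induction with
  | mem y hy =>
    obtain ⟨i, hi, rfl⟩ := hy
    rw [← root_smul]
    exact root_mem_natSpan P ⟨i, hi, rfl⟩
  | zero => rw [smul_zero]; exact zero_mem _
  | add y z _ _ hy hz => rw [smul_add]; exact add_mem hy hz

theorem smul_mem_natSpan_image_iff (g : P.Aut) {S : Set ι} {x : M} :
    g • x ∈ natSpan P ((fun i : ι => g • i) '' S) ↔ x ∈ natSpan P S := by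
  constructor
  · intro h
    have := smul_mem_natSpan_image P g⁻¹ h
    rwa [inv_image_image, inv_smul_smul] at this
  · exact smul_mem_natSpan_image P g

theorem posOf_image (g : P.Aut) (Δ : Set ι) :
    posOf P ((fun i : ι => g • i) '' Δ) = (fun i : ι => g • i) '' posOf P Δ := by
  ext k
  constructor
  · intro hk
    refine ⟨g⁻¹ • k, ?_, by simp⟩
    change P.root (g⁻¹ • k) ∈ natSpan P Δ
    rw [← smul_mem_natSpan_image_iff P g, ← root_smul, smul_inv_smul]
    exact hk
  · rintro ⟨l, hl, rfl⟩
    show P.root (g • l) ∈ natSpan P _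
    rw [root_smul]
    exact smul_mem_natSpan_image P g hl

/-- The image of a system of positive roots under an automorphism is a system of positive roots. -/
theorem isPosSys_image (g : P.Aut) {S : Set ι} (hS : IsPosSys P S) :
    IsPosSys P ((fun i : ι => g • i) '' S) := by
  refine ⟨?_, ?_, ?_⟩
  · rintro _ ⟨i, hi, rfl⟩ ⟨i', hi', h⟩
    rw [← smul_reflectionPerm_self] at h
    have := smul_injective P g h
    exact hS.disjoint hi (this ▸ hi')
  · intro j
    rcases hS.cover (g⁻¹ • j) with h | h
    · exact Or.inl ⟨_, h, by simp⟩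
    · refine Or.inr ⟨_, h, ?_⟩
      simp only
      rw [smul_reflectionPerm_self, smul_inv_smul]
  · intro k n hn hk
    refine ⟨g⁻¹ • k, ?_, by simp⟩
    apply hS.sat n hn
    rw [← smul_mem_natSpan_image_iff P g, smul_comm, ← root_smul, smul_inv_smul]
    exact hk

/-- The image of a system of simple roots under an automorphism is a system of simple roots. -/
theorem isSimpleSys_image (g : P.Aut) {Δ : Set ι} (hΔ : IsSimpleSys P Δ) :
    IsSimpleSys P ((fun i : ι => g • i) '' Δ) := by
  refine ⟨?_, ?_⟩
  · apply LinearIndepOn.image_of_comp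
    have h1 := hΔ.linInd.map_injOn (RootPairing.Equiv.weightHom P g).toLinearMap
      ((RootPairing.Equiv.weightHom P g).injective.injOn)
    refine h1.congr ?_
    intro i _
    simp only [Function.comp_apply]
    exact (root_smul P g i).symm
  · intro k
    rcases hΔ.mem_or_neg_mem (g⁻¹ • k) with h | h
    · left
      have := smul_mem_natSpan_image P g h
      rwa [← root_smul, smul_inv_smul] at this
    · right
      have := smul_mem_natSpan_image P g h
      rwa [smul_neg, ← root_smul, smul_inv_smul] at this

variable [Finite ι]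

/-! ### Existence -/

/-- A root datum has a system of positive roots. -/
theorem exists_isPosSys : ∃ S : Set ι, IsPosSys P S := by
  classical
  obtain ⟨n, ⟨e⟩⟩ := Finite.exists_equiv_fin ι
  let φ : M →+ Lex (Fin n → ℤ) :=
    (toLexAddEquiv (Fin n → ℤ)).toAddMonoidHom.comp
      (AddMonoidHom.pi fun a => (P.coroot' (e.symm a)).toAddMonoidHom)
  refine ⟨{i | 0 < φ (P.root i)}, Groth.Agent.S5457.result P φ ?_⟩
  intro i
  have hval : ofLex (φ (P.root i)) (e i) = 2 := by
    simp [φ]
  have hne : φ (P.root i) ≠ 0 := by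
    intro h
    rw [h] at hval
    change (0 : ℤ) = 2 at hval
    omega
  rcases lt_trichotomy (φ (P.root i)) 0 with h | h | h
  · exact Or.inr h
  · exact absurd h hne
  · exact Or.inl h

/-- Every system of positive roots is the set of positive roots of a system of simple roots
contained in it. -/
theorem exists_simple_of_isPosSys {S : Set ι} (hS : IsPosSys P S) :
    ∃ Δ : Set ι, IsSimpleSys P Δ ∧ Δ ⊆ S ∧ S = posOf P Δ := by
  obtain ⟨Δ, ⟨hΔ, hΔS⟩, -⟩ := Groth.Agent.S5445.result P S hS
  exact ⟨Δ, hΔ, hΔS, ((Groth.Agent.S5449.result P Δ hΔ S hS).2).mp hΔS⟩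

/-- A root datum has a system of simple roots. -/
theorem exists_isSimpleSys : ∃ Δ : Set ι, IsSimpleSys P Δ := by
  obtain ⟨S, hS⟩ := exists_isPosSys P
  obtain ⟨Δ, hΔ, -, -⟩ := exists_simple_of_isPosSys P hS
  exact ⟨Δ, hΔ⟩

theorem isPosSys_posOf {Δ : Set ι} (hΔ : IsSimpleSys P Δ) : IsPosSys P (posOf P Δ) := by
  obtain ⟨S, hS⟩ := exists_isPosSys P
  exact (Groth.Agent.S5449.result P Δ hΔ S hS).1

omit [Finite ι] in
theorem subset_posOf (Δ : Set ι) : Δ ⊆ posOf P Δ := fun _ hi => root_mem_natSpan P hi

/-- A simple system contained in the positive roots of another simple system is equal to it. -/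
theorem eq_of_subset_posOf {Δ Δ' : Set ι} (hΔ : IsSimpleSys P Δ) (hΔ' : IsSimpleSys P Δ')
    (h : Δ' ⊆ posOf P Δ) : Δ' = Δ := by
  obtain ⟨Δ₀, -, huniq⟩ := Groth.Agent.S5445.result P _ (isPosSys_posOf P hΔ)
  rw [huniq Δ' ⟨hΔ', h⟩, huniq Δ ⟨hΔ, subset_posOf P Δ⟩]

/-! ### Transitivity of the Weyl group -/

/-- A closed set of roots contains every root in the additive monoid it generates (S5490). -/
theorem mem_of_root_mem_natSpan {S : Set ι} (hcl : IsClosedSub P S) {k : ι}
    (hk : P.root k ∈ natSpan P S) : k ∈ S :=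
  (Groth.Agent.S5490.result P S).mp hcl k hk

theorem isClosedSub_of_isPosSys {S : Set ι} (hS : IsPosSys P S) : IsClosedSub P S :=
  ((Groth.Agent.S5456.result P S).mp hS).2.2

/-- If `S` is a system of positive roots and `P'` is a closed set of roots containing each root or
its opposite, then `w(S) ⊆ P'` for some `w` in the Weyl group. -/
theorem exists_weyl_image_subset {S : Set ι} (hS : IsPosSys P S) {P' : Set ι}
    (hP2 : ∀ i : ι, i ∈ P' ∨ P.reflectionPerm i i ∈ P') (hcl : IsClosedSub P P') :
    ∃ g : P.Aut, g ∈ P.weylGroup ∧ (fun i : ι => g • i) '' S ⊆ P' := by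
  induction' h : (S \ P').ncard using Nat.strong_induction_on with n ih generalizing S
  obtain ⟨Δ, hΔ, hΔS, hSΔ⟩ := exists_simple_of_isPosSys P hS
  by_cases hsub : Δ ⊆ P'
  · refine ⟨1, one_mem _, ?_⟩
    rintro _ ⟨k, hk, rfl⟩
    simp only [one_smul]
    apply mem_of_root_mem_natSpan P hcl
    rw [hSΔ] at hk
    exact natSpan_mono P hsub hk
  · obtain ⟨i, hiΔ, hiP'⟩ := Set.not_subset.mp hsub
    have hnegi : P.reflectionPerm i i ∈ P' := (hP2 i).resolve_left hiP'
    have hS₁ : IsPosSys P ((fun k : ι => RootPairing.Equiv.reflection P i • k) '' S) :=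
      isPosSys_image P _ hS
    have hsub1 : ((fun k : ι => RootPairing.Equiv.reflection P i • k) '' S) \ P' ⊆ S \ P' := by
      rintro _ ⟨⟨k, hk, rfl⟩, hk'⟩
      refine ⟨?_, hk'⟩
      rw [hSΔ] at hk ⊢
      rcases reflectionPerm_mem_posOf_or P hΔ hiΔ hk with h | ⟨m, hm⟩
      · exact h
      · exfalso
        apply hk'
        apply mem_of_root_mem_natSpan P hcl
        have h1 : P.root (RootPairing.Equiv.reflection P i • k) =
            m • P.root (P.reflectionPerm i i) := by
          have hp : P.pairing k i = 2 * (m : ℤ) := by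
            have h0 : P.pairing k i = P.toLinearMap (P.root k) (P.coroot i) := rfl
            rw [h0, hm, map_nsmul, LinearMap.smul_apply, P.root_coroot_two]
            simp [mul_comm]
          rw [reflection_smul_idx, root_reflectionPerm', root_reflectionPerm_self, hp, hm]
          module
        rw [h1]
        exact nsmul_mem (root_mem_natSpan P hnegi) m
    have hi1 : i ∈ S \ P' := ⟨hΔS hiΔ, hiP'⟩
    have hi2 : i ∉ ((fun k : ι => RootPairing.Equiv.reflection P i • k) '' S) \ P' := by
      rintro ⟨⟨k, hk, hki⟩, -⟩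
      have : k = P.reflectionPerm i i := by
        have h2 : P.reflectionPerm i k = i := hki
        have h3 := congrArg (P.reflectionPerm i) h2
        rwa [P.reflectionPerm_self] at h3
      exact hS.disjoint (hΔS hiΔ) (this ▸ hk)
    have hlt : (((fun k : ι => RootPairing.Equiv.reflection P i • k) '' S) \ P').ncard <
        (S \ P').ncard :=
      Set.ncard_lt_ncard ⟨hsub1, fun hcon => hi2 (hcon hi1)⟩ (Set.toFinite _)
    obtain ⟨g, hg, hgS⟩ := ih _ (h ▸ hlt) hS₁ rfl
    refine ⟨g * RootPairing.Equiv.reflection P i,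
      mul_mem hg (P.reflection_mem_weylGroup i), ?_⟩
    rw [mul_image]
    exact hgS

/-- The Weyl group acts transitively on the set of systems of positive roots. -/
theorem exists_weyl_image_eq {S S' : Set ι} (hS : IsPosSys P S) (hS' : IsPosSys P S') :
    ∃ g : P.Aut, g ∈ P.weylGroup ∧ (fun i : ι => g • i) '' S = S' := by
  obtain ⟨g, hg, hsub⟩ := exists_weyl_image_subset P hS hS'.cover (isClosedSub_of_isPosSys P hS')
  refine ⟨g, hg, subset_antisymm hsub ?_⟩
  intro k hk
  by_contra hk'
  rcases (isPosSys_image P g hS).cover k with h | h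
  · exact hk' h
  · exact hS'.disjoint hk (hsub h)

/-- The Weyl group acts transitively on the set of systems of simple roots. -/
theorem exists_weyl_image_simple_eq {Δ Δ' : Set ι} (hΔ : IsSimpleSys P Δ)
    (hΔ' : IsSimpleSys P Δ') :
    ∃ g : P.Aut, g ∈ P.weylGroup ∧ (fun i : ι => g • i) '' Δ = Δ' := by
  obtain ⟨g, hg, h⟩ := exists_weyl_image_eq P (isPosSys_posOf P hΔ) (isPosSys_posOf P hΔ')
  refine ⟨g, hg, ?_⟩
  apply eq_of_subset_posOf P hΔ' (isSimpleSys_image P g hΔ)
  rw [← h]
  exact Set.image_mono (subset_posOf P Δ)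

end Groth.Agent.Lib.RootDWeyl
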