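import Groth.Agent.S5498
import Groth.Agent.Lib.RootDWeyl
import Mathlib.LinearAlgebra.RootSystem.Finite.Lemmas

/-!
Irreducible root data over the integers (irreducibility in the sense of closed symmetric
partitions, `Groth.Agent.S5498.Irr`): any root can be moved by the Weyl group to a root not
orthogonal to a given one; consequently the ratios of the squared lengths (canonical form) are
`1, 2, 3` or `4` (and not `4` in the reduced case). (helper23)
-/

set_option autoImplicit false
open RootD RootPairing

namespace Groth.Agent.Lib.RootDIrr

open Groth.Agent.S5498 Groth.Agent.Lib.RootDForm Groth.Agent.Lib.RootDSimple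
open Groth.Agent.Lib.RootDWeyl

variable {ι M N : Type*} [AddCommGroup M] [AddCommGroup N] (P : RootPairing ι ℤ M N)

theorem not_orth_iff {a b : ι} : ¬ P.IsOrthogonal a b ↔ P.pairing a b ≠ 0 := by
  constructor
  · intro h h0
    exact h ⟨h0, P.pairing_eq_zero_iff'.1 h0⟩
  · intro h h0
    exact h h0.1

theorem pairing_reflectionPerm_left (b c j : ι) :
    P.pairing (P.reflectionPerm b c) j = P.pairing c j - P.pairing c b * P.pairing b j := by
  rw [← P.root_coroot_eq_pairing, root_reflectionPerm', map_sub, LinearMap.sub_apply, map_smul,
    LinearMap.smul_apply, P.root_coroot_eq_pairing, P.root_coroot_eq_pairing, smul_eq_mul]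

section Fintype

variable [Fintype ι]

/-- The canonical form is invariant under the Weyl group (on roots). -/
theorem rootForm_smul_of_mem_weylGroup (g : P.Aut) (hg : g ∈ P.weylGroup) :
    ∀ k : ι, P.RootForm (P.root (g • k)) (P.root (g • k)) = P.RootForm (P.root k) (P.root k) := by
  induction hg using Subgroup.closure_induction with
  | mem x hx =>
    obtain ⟨b, rfl⟩ := hx
    intro k
    show P.RootForm (P.root (P.reflectionPerm b k)) (P.root (P.reflectionPerm b k)) = _
    rw [P.root_reflectionPerm, P.rootForm_reflection_reflection_apply]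
  | one => intro k; rw [one_smul]
  | mul x y _ _ hx hy => intro k; rw [mul_smul, hx, hy]
  | inv x _ hx =>
    intro k
    have := hx (x⁻¹ • k)
    rw [smul_inv_smul] at this
    exact this.symm

/-- In an irreducible datum any root can be moved by the Weyl group to a root not orthogonal to a
given one. -/
theorem exists_weyl_not_orth (hirr : Irr P) (i j : ι) :
    ∃ g : P.Aut, g ∈ P.weylGroup ∧ ¬ P.IsOrthogonal (g • i) j := by
  have hlink : Linked P j i := linked_of_irr P hirr j i
  induction hlink using Relation.ReflTransGen.head_induction_on with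
  | refl =>
    refine ⟨1, Subgroup.one_mem _, ?_⟩
    rw [one_smul, not_orth_iff, P.pairing_same]
    norm_num
  | @head a c hac _ ih =>
    obtain ⟨g, hg, hgc⟩ := ih
    by_cases h : P.IsOrthogonal (g • i) a
    · refine ⟨Equiv.reflection P c * g, Subgroup.mul_mem _ (Subgroup.subset_closure ⟨c, rfl⟩) hg, ?_⟩
      rw [mul_smul, reflection_smul_idx, not_orth_iff, pairing_reflectionPerm_left, h.1, zero_sub,
        neg_ne_zero]
      exact mul_ne_zero ((not_orth_iff P).mp hgc) ((not_orth_iff P).mp (not_orth_symm P hac))
    · exact ⟨g, hg, h⟩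

/-- The relation between the squared lengths of two roots. -/
theorem pairing_mul_rootForm (a b : ι) :
    P.pairing a b * P.RootForm (P.root b) (P.root b) =
      P.pairing b a * P.RootForm (P.root a) (P.root a) := by
  have h1 := two_mul_rootForm P a b
  have h2 := two_mul_rootForm P b a
  have h3 := P.rootForm_symmetric.eq (P.root a) (P.root b)
  simp only [RingHom.id_apply] at h3
  rw [← h1, ← h2, h3]

/-- The ratio of the squared lengths of two non-orthogonal roots. -/
theorem ratio_of_not_orth {a b : ι} (hab : ¬ P.IsOrthogonal a b)
    (hle : P.RootForm (P.root a) (P.root a) ≤ P.RootForm (P.root b) (P.root b)) :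
    P.RootForm (P.root b) (P.root b) = P.RootForm (P.root a) (P.root a) ∨
      P.RootForm (P.root b) (P.root b) = 2 * P.RootForm (P.root a) (P.root a) ∨
      P.RootForm (P.root b) (P.root b) = 3 * P.RootForm (P.root a) (P.root a) ∨
      P.RootForm (P.root b) (P.root b) = 4 * P.RootForm (P.root a) (P.root a) := by
  have hrel := pairing_mul_rootForm P a b
  have hpa := rootForm_root_self_pos P a
  have hpb := rootForm_root_self_pos P b
  have hne := (not_orth_iff P).mp hab
  have hmem := P.pairingIn_pairingIn_mem_set_of_isCrystallographic a b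
  rw [pairingIn_int, pairingIn_int] at hmem
  set p := P.pairing a b
  set q := P.pairing b a
  set x := P.RootForm (P.root a) (P.root a)
  set y := P.RootForm (P.root b) (P.root b)
  simp only [Set.mem_insert_iff, Set.mem_singleton_iff, Prod.mk.injEq] at hmem
  rcases hmem with h | h | h | h | h | h | h | h | h | h | h | h | h | h | h | h | h <;>
    obtain ⟨h1, h2⟩ := h <;> rw [h1, h2] at hrel <;> omega

/-- The ratio of the squared lengths of two non-orthogonal roots, reduced case. -/
theorem ratio_of_not_orth_of_isReduced [P.IsReduced] {a b : ι} (hab : ¬ P.IsOrthogonal a b)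
    (hle : P.RootForm (P.root a) (P.root a) ≤ P.RootForm (P.root b) (P.root b)) :
    P.RootForm (P.root b) (P.root b) = P.RootForm (P.root a) (P.root a) ∨
      P.RootForm (P.root b) (P.root b) = 2 * P.RootForm (P.root a) (P.root a) ∨
      P.RootForm (P.root b) (P.root b) = 3 * P.RootForm (P.root a) (P.root a) := by
  have hrel := pairing_mul_rootForm P a b
  have hpa := rootForm_root_self_pos P a
  have hpb := rootForm_root_self_pos P b
  have hne := (not_orth_iff P).mp hab
  have hmem := P.pairingIn_pairingIn_mem_set_of_isCrystal_of_isRed a b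
  rw [pairingIn_int, pairingIn_int] at hmem
  set p := P.pairing a b
  set q := P.pairing b a
  set x := P.RootForm (P.root a) (P.root a)
  set y := P.RootForm (P.root b) (P.root b)
  simp only [Set.mem_insert_iff, Set.mem_singleton_iff, Prod.mk.injEq] at hmem
  rcases hmem with h | h | h | h | h | h | h | h | h | h | h | h | h <;>
    obtain ⟨h1, h2⟩ := h <;> rw [h1, h2] at hrel <;> omega

/-- In an irreducible datum the ratios of squared lengths are `1, 2, 3, 4`. -/
theorem ratio_of_irr (hirr : Irr P) (i j : ι)
    (hle : P.RootForm (P.root i) (P.root i) ≤ P.RootForm (P.root j) (P.root j)) :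
    P.RootForm (P.root j) (P.root j) = P.RootForm (P.root i) (P.root i) ∨
      P.RootForm (P.root j) (P.root j) = 2 * P.RootForm (P.root i) (P.root i) ∨
      P.RootForm (P.root j) (P.root j) = 3 * P.RootForm (P.root i) (P.root i) ∨
      P.RootForm (P.root j) (P.root j) = 4 * P.RootForm (P.root i) (P.root i) := by
  obtain ⟨g, hg, hno⟩ := exists_weyl_not_orth P hirr j i
  have hlen := rootForm_smul_of_mem_weylGroup P g hg j
  rw [← hlen] at hle ⊢
  exact ratio_of_not_orth P (not_orth_symm P hno) hle

/-- In an irreducible reduced datum the ratios of squared lengths are `1, 2, 3`. -/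
theorem ratio_of_irr_of_isReduced [P.IsReduced] (hirr : Irr P) (i j : ι)
    (hle : P.RootForm (P.root i) (P.root i) ≤ P.RootForm (P.root j) (P.root j)) :
    P.RootForm (P.root j) (P.root j) = P.RootForm (P.root i) (P.root i) ∨
      P.RootForm (P.root j) (P.root j) = 2 * P.RootForm (P.root i) (P.root i) ∨
      P.RootForm (P.root j) (P.root j) = 3 * P.RootForm (P.root i) (P.root i) := by
  obtain ⟨g, hg, hno⟩ := exists_weyl_not_orth P hirr j i
  have hlen := rootForm_smul_of_mem_weylGroup P g hg j
  rw [← hlen] at hle ⊢
  exact ratio_of_not_orth_of_isReduced P (not_orth_symm P hno) hle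

end Fintype

end Groth.Agent.Lib.RootDIrr
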