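import Groth.Agent.Lib.RootDSub58
import Groth.Agent.Lib.RootDWord

/-!
Parabolic subgroups of the Weyl group of a root datum over the integers (root-only simple
systems): characterisation of the subgroup generated by the reflections in a part `Δ'` of a simple
system `Δ` as the elements moving every root inside the rational span of `Δ'`.  (helper58; uses
helper23's `RootDWord`.)
-/

set_option autoImplicit false
open RootD

namespace Groth.Agent.Lib.RootDLevi58

open Groth.Agent.Lib.RootDBasic Groth.Agent.Lib.RootDForm Groth.Agent.Lib.RootDSimple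
  Groth.Agent.Lib.RootDWeyl Groth.Agent.Lib.RootDConj Groth.Agent.Lib.RootDSub58

variable {ι M N : Type*} [AddCommGroup M] [AddCommGroup N] (P : RootPairing ι ℤ M N)

/-- Elements of the group generated by reflections of a sub root datum lift to the ambient
datum, with the same action on the roots of the subsystem. -/
theorem exists_lift_weylSub {T : Set ι} (hT : IsReflStable P T) {A : Set T}
    {h' : (sub P T hT).Aut}
    (hh' : h' ∈ Subgroup.closure
      ((fun i : T => RootPairing.Equiv.reflection (sub P T hT) i) '' A)) :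
    ∃ h : P.Aut, h ∈ Subgroup.closure
        ((fun i : ι => RootPairing.Equiv.reflection P i) '' (Subtype.val '' A)) ∧
      ∀ t : T, ((h' • t : T) : ι) = h • (t : ι) := by
  refine weylSub_induction (sub P T hT) (pred := fun h' => ∃ h : P.Aut, h ∈ Subgroup.closure
        ((fun i : ι => RootPairing.Equiv.reflection P i) '' (Subtype.val '' A)) ∧
      ∀ t : T, ((h' • t : T) : ι) = h • (t : ι)) ?_ ?_ ?_ hh'
  · intro i hi
    exact ⟨RootPairing.Equiv.reflection P i,
      Subgroup.subset_closure ⟨i, ⟨i, hi, rfl⟩, rfl⟩, fun t => rfl⟩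
  · exact ⟨1, one_mem _, fun t => by rw [one_smul, one_smul]⟩
  · rintro x y ⟨hx, hxm, hx'⟩ ⟨hy, hym, hy'⟩
    refine ⟨hx * hy, mul_mem hxm hym, fun t => ?_⟩
    rw [mul_smul, mul_smul, hx', hy']

/-- The property of moving every root inside the rational span of `Δ'`. -/
def MovesInSpan (Δ' : Set ι) (g : P.Aut) : Prop :=
  ∀ k : ι, ∃ n : ℕ, 0 < n ∧
    n • (P.root (g • k) - P.root k) ∈ Submodule.span ℤ (P.root '' Δ')

theorem movesInSpan_of_mem {Δ' : Set ι} {g : P.Aut}
    (hg : g ∈ Subgroup.closure ((fun i : ι => RootPairing.Equiv.reflection P i) '' Δ')) :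
    MovesInSpan P Δ' g := fun k =>
  ⟨1, one_pos, by rw [one_smul]; exact root_smul_sub_mem_span P hg k⟩

theorem movesInSpan_mul {Δ' : Set ι} {x y : P.Aut} (hx : MovesInSpan P Δ' x)
    (hy : MovesInSpan P Δ' y) : MovesInSpan P Δ' (x * y) := by
  intro k
  obtain ⟨n₁, hn₁, h₁⟩ := hx (y • k)
  obtain ⟨n₂, hn₂, h₂⟩ := hy k
  refine ⟨n₁ * n₂, Nat.mul_pos hn₁ hn₂, ?_⟩
  have : (n₁ * n₂) • (P.root ((x * y) • k) - P.root k) =
      n₂ • (n₁ • (P.root (x • (y • k)) - P.root (y • k))) +
      n₁ • (n₂ • (P.root (y • k) - P.root k)) := by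
    rw [mul_smul x y k]
    module
  rw [this]
  exact add_mem (Submodule.smul_of_tower_mem _ n₂ h₁) (Submodule.smul_of_tower_mem _ n₁ h₂)

variable [Finite ι]

/-- An element `w` of the Weyl group belongs to the subgroup generated by the reflections in
`Δ' ⊆ Δ` (`Δ` a system of simple roots) if and only if `w(α) - α` lies in the rational span of
`Δ'` for every root `α`. -/
theorem mem_weylSub_iff {Δ Δ' : Set ι} (hΔ : IsSimpleSys P Δ) (hsub : Δ' ⊆ Δ) {g : P.Aut}
    (hg : g ∈ P.weylGroup) :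
    g ∈ Subgroup.closure ((fun i : ι => RootPairing.Equiv.reflection P i) '' Δ') ↔
      MovesInSpan P Δ' g := by
  refine ⟨movesInSpan_of_mem P, fun hmv => ?_⟩
  classical
  -- the subsystem of roots in the span of `Δ'`
  have hsat : IsSat P (inSpan P Δ') := isSat_inSpan P hΔ hsub
  have hT : IsReflStable P (inSpan P Δ') := isReflStable_of_isSat P hsat
  have hΔ'T : Δ' ⊆ inSpan P Δ' := fun i hi => Submodule.subset_span ⟨i, hi, rfl⟩
  -- `g` preserves the subsystem
  have hgT : ∀ k ∈ inSpan P Δ', g • k ∈ inSpan P Δ' := by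
    intro k hk
    obtain ⟨n, hn, h⟩ := hmv k
    apply hsat
    refine ⟨n, hn, ?_⟩
    have h1 : n • P.root (g • k) = n • (P.root (g • k) - P.root k) + n • P.root k := by
      rw [← smul_add]; congr 1; abel
    rw [h1]
    have hle : Submodule.span ℤ (P.root '' Δ') ≤ Submodule.span ℤ (P.root '' inSpan P Δ') :=
      Submodule.span_mono (Set.image_mono hΔ'T)
    exact add_mem (hle h) (Submodule.smul_of_tower_mem _ n (hle hk))
  have hgT' : ∀ k ∈ inSpan P Δ', g⁻¹ • k ∈ inSpan P Δ' := by
    intro k hk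
    have hinj : Set.InjOn (fun i : ι => g • i) (inSpan P Δ') :=
      (smul_injective P g).injOn
    have hmaps : Set.MapsTo (fun i : ι => g • i) (inSpan P Δ') (inSpan P Δ') := hgT
    have hsurj := ((Set.toFinite (inSpan P Δ')).injOn_iff_bijOn_of_mapsTo hmaps).mp hinj
    obtain ⟨k', hk', hkk'⟩ := hsurj.surjOn hk
    have : g⁻¹ • k = k' := by rw [← hkk']; exact inv_smul_smul g k'
    rw [this]; exact hk'
  -- two simple systems of the subsystem
  let A₁ : Set (inSpan P Δ') := {t | (t : ι) ∈ Δ'}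
  let A₂ : Set (inSpan P Δ') := {t | ∃ i ∈ Δ', g • i = (t : ι)}
  have hA₁val : Subtype.val '' A₁ = Δ' := by
    ext i
    constructor
    · rintro ⟨t, ht, rfl⟩; exact ht
    · intro hi; exact ⟨⟨i, hΔ'T hi⟩, hi, rfl⟩
  have hA₂val : Subtype.val '' A₂ = (fun i : ι => g • i) '' Δ' := by
    ext i
    constructor
    · rintro ⟨t, ⟨j, hj, hjt⟩, rfl⟩; exact ⟨j, hj, hjt⟩
    · rintro ⟨j, hj, rfl⟩; exact ⟨⟨g • j, hgT j (hΔ'T hj)⟩, ⟨j, hj, rfl⟩, rfl⟩
  have hA₁ : IsSimpleSys (sub P _ hT) A₁ := by
    rw [isSimpleSys_sub_iff, hA₁val]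
    refine ⟨hΔ.linInd.mono hsub, fun k hk => ?_⟩
    exact mem_natSpan_of_nsmul_mem_span P hΔ hsub one_pos (by rw [one_smul]; exact hk)
  have hA₂ : IsSimpleSys (sub P _ hT) A₂ := by
    rw [isSimpleSys_sub_iff, hA₂val]
    refine ⟨(isSimpleSys_image P g hΔ).linInd.mono (Set.image_mono hsub), fun k hk => ?_⟩
    have h1 := ((isSimpleSys_sub_iff P hT A₁).mp hA₁).2 (g⁻¹ • k) (hgT' k hk)
    rw [hA₁val] at h1
    rcases h1 with h1 | h1
    · left
      have := smul_mem_natSpan_image P g h1
      rwa [← root_smul, smul_inv_smul] at this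
    · right
      have := smul_mem_natSpan_image P g h1
      rwa [smul_neg, ← root_smul, smul_inv_smul] at this
  -- transitivity inside the subsystem
  obtain ⟨h', hh'W, hh'⟩ := exists_weyl_image_simple_eq (sub P _ hT) hA₁ hA₂
  rw [← Groth.Agent.Lib.RootDWord.closure_simple_eq_weylGroup (sub P _ hT) hA₁] at hh'W
  obtain ⟨h, hhmem, hh⟩ := exists_lift_weylSub P hT hh'W
  rw [hA₁val] at hhmem
  -- `h` and `g` have the same image of `Δ'`
  have himage : (fun i : ι => h • i) '' Δ' = (fun i : ι => g • i) '' Δ' := by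
    rw [← hA₂val, ← hh']
    ext i
    constructor
    · rintro ⟨j, hj, rfl⟩
      exact ⟨h' • (⟨j, hΔ'T hj⟩ : inSpan P Δ'), ⟨⟨j, hΔ'T hj⟩, hj, rfl⟩, hh _⟩
    · rintro ⟨_, ⟨t, ht, rfl⟩, rfl⟩
      exact ⟨t, ht, (hh t).symm⟩
  -- `u = h⁻¹ g` is trivial
  have hhW : h ∈ P.weylGroup := weylSub_le P Δ' hhmem
  have huW : h⁻¹ * g ∈ P.weylGroup := mul_mem (inv_mem hhW) hg
  have humv : MovesInSpan P Δ' (h⁻¹ * g) :=
    movesInSpan_mul P (movesInSpan_of_mem P (inv_mem hhmem)) hmv
  have hu1 : h⁻¹ * g = 1 := by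
    apply Groth.Agent.Lib.RootDWord.eq_one_of_simple_pos P hΔ _ huW
    intro i hi
    by_cases hiΔ' : i ∈ Δ'
    · apply subset_posOf P Δ
      apply hsub
      have : g • i ∈ (fun i : ι => h • i) '' Δ' := by rw [himage]; exact ⟨i, hiΔ', rfl⟩
      obtain ⟨j, hj, hji⟩ := this
      have : (h⁻¹ * g) • i = j := by
        rw [mul_smul, ← hji]; exact inv_smul_smul h j
      rw [this]; exact hj
    · rcases hΔ.mem_or_neg_mem ((h⁻¹ * g) • i) with hp | hp
      · exact hp
      · exfalso
        obtain ⟨d, hd, hdk⟩ := (mem_natSpan_iff P Δ _).mp hp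
        obtain ⟨n, hn, hmem⟩ := humv i
        have h2 : n • comb P (d + Finsupp.single i 1) ∈ Submodule.span ℤ (P.root '' Δ') := by
          rw [comb_add, comb_single, one_smul, hdk]
          have : -P.root ((h⁻¹ * g) • i) + P.root i =
              -(P.root ((h⁻¹ * g) • i) - P.root i) := by abel
          rw [this, smul_neg]
          exact neg_mem hmem
        have h3 := support_subset_of_nsmul_mem_span P hΔ.linInd hsub
          (support_add_subset hd (support_single_subset hi 1)) hn h2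
        apply hiΔ'
        apply h3
        rw [Finset.mem_coe, Finsupp.mem_support_iff]
        simp
  have : g = h := by
    have h5 : h * (h⁻¹ * g) = h * 1 := by rw [hu1]
    rwa [mul_inv_cancel_left, mul_one] at h5
  rw [this]
  exact hhmem

end Groth.Agent.Lib.RootDLevi58
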