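import Groth.Agent.Lib.RootDSub58
import Groth.Agent.S5495
import Mathlib.LinearAlgebra.Dimension.StrongRankCondition

/-!
Root data over the integers: simple systems adapted to an indivisible root and a second root
(SGA3 XXI 3.?): given an indivisible root `α` and a root `γ` not proportional to it, there is a
system of simple roots containing `α` and a simple root `β` with `γ = aα + bβ`.  (helper58.)
-/

set_option autoImplicit false
open RootD

namespace Groth.Agent.Lib.RootDPlane58

open Groth.Agent.Lib.RootDBasic Groth.Agent.Lib.RootDForm Groth.Agent.Lib.RootDSimple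
  Groth.Agent.Lib.RootDWeyl Groth.Agent.Lib.RootDConj Groth.Agent.Lib.RootDSub58

variable {ι M N : Type*} [AddCommGroup M] [AddCommGroup N] (P : RootPairing ι ℤ M N)

/-- The roots with a positive multiple in a given submodule form the trace of a subspace. -/
theorem isSat_of_submodule (Q : Submodule ℤ M) :
    IsSat P {j : ι | ∃ n : ℕ, 0 < n ∧ n • P.root j ∈ Q} := by
  have key : ∀ x ∈ Submodule.span ℤ (P.root '' {j : ι | ∃ n : ℕ, 0 < n ∧ n • P.root j ∈ Q}),
      ∃ m : ℕ, 0 < m ∧ m • x ∈ Q := by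
    intro x hx
    induction hx using Submodule.span_induction with
    | mem y hy =>
      obtain ⟨j, hj, rfl⟩ := hy
      exact hj
    | zero => exact ⟨1, one_pos, by simp⟩
    | add y z _ _ hy hz =>
      obtain ⟨m₁, hm₁, h₁⟩ := hy
      obtain ⟨m₂, hm₂, h₂⟩ := hz
      refine ⟨m₁ * m₂, Nat.mul_pos hm₁ hm₂, ?_⟩
      have : (m₁ * m₂) • (y + z) = m₂ • (m₁ • y) + m₁ • (m₂ • z) := by module
      rw [this]
      exact add_mem (Submodule.smul_of_tower_mem _ m₂ h₁) (Submodule.smul_of_tower_mem _ m₁ h₂)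
    | smul a y _ hy =>
      obtain ⟨m, hm, h⟩ := hy
      refine ⟨m, hm, ?_⟩
      rw [smul_comm]
      exact Submodule.smul_mem _ a h
  rintro k ⟨n, hn, h⟩
  obtain ⟨m, hm, hmem⟩ := key _ h
  exact ⟨m * n, Nat.mul_pos hm hn, by rwa [mul_smul]⟩

/-- Three vectors with positive multiples in the span of two vectors are linearly dependent. -/
theorem not_linearIndependent_three {u v : M} {x : Fin 3 → M}
    (hx : ∀ a, ∃ n : ℕ, 0 < n ∧ n • x a ∈ Submodule.span ℤ ({u, v} : Set M)) :
    ¬ LinearIndependent ℤ x := by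
  classical
  intro hli
  choose n hn hmem using hx
  have hli' : LinearIndependent ℤ (fun a => n a • x a) := by
    rw [Fintype.linearIndependent_iff] at hli ⊢
    intro g hg a
    have h1 : ∑ b, (g b * (n b : ℤ)) • x b = 0 := by
      rw [← hg]
      apply Finset.sum_congr rfl
      intro b _
      rw [mul_smul, natCast_zsmul]
    have h2 := hli (fun b => g b * (n b : ℤ)) h1 a
    have h3 : (n a : ℤ) ≠ 0 := by exact_mod_cast (hn a).ne'
    exact (mul_eq_zero.mp h2).resolve_right h3
  have hrange : Set.range (fun a => n a • x a) ≤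
      Submodule.span ℤ ((({u, v} : Finset M) : Set M)) := by
    rintro _ ⟨a, rfl⟩
    simpa using hmem a
  have h4 := linearIndependent_le_span_aux' _ hli' ((({u, v} : Finset M) : Set M)) hrange
  rw [Fintype.card_fin] at h4
  have h6 : Fintype.card ((({u, v} : Finset M) : Set M)) = ({u, v} : Finset M).card := by
    simp
  have h5 : ({u, v} : Finset M).card ≤ 2 := Finset.card_le_two
  omega

variable [Finite ι]

/-- A simple system from an ordered homomorphism vanishing exactly on `T` and a simple system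
`Δ'` of `T`. -/
theorem exists_simpleSys_of_orderedHom {G : Type*} [AddCommGroup G] [LinearOrder G]
    [IsOrderedAddMonoid G] (ψ : M →+ G) {T : Set ι} (hψ : ∀ k : ι, ψ (P.root k) = 0 ↔ k ∈ T)
    {Δ' : Set ι} (hΔ'T : Δ' ⊆ T) (hli : LinearIndepOn ℤ P.root Δ')
    (hgen : ∀ k ∈ T, P.root k ∈ natSpan P Δ' ∨ -P.root k ∈ natSpan P Δ') :
    ∃ Δ : Set ι, IsSimpleSys P Δ ∧ Δ' ⊆ Δ ∧
      posOf P Δ = {k : ι | 0 < ψ (P.root k)} ∪ {k : ι | k ∈ T ∧ P.root k ∈ natSpan P Δ'} := by
  classical
  have hS₁ := isPosSys_union P ψ hψ hli hgen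
  obtain ⟨Δ, hΔ, hΔS, hSΔ⟩ := exists_simple_of_isPosSys P hS₁
  refine ⟨Δ, hΔ, ?_, hSΔ.symm⟩
  intro b hb
  have hbS : b ∈ posOf P Δ := by
    rw [← hSΔ]
    exact Or.inr ⟨hΔ'T hb, root_mem_natSpan P hb⟩
  rw [Groth.Agent.S5450.result P Δ hΔ b hbS]
  rintro ⟨i, j, hi, hj, hsum⟩
  rw [← hSΔ] at hi hj
  have hψb : ψ (P.root b) = 0 := (hψ b).mpr (hΔ'T hb)
  have hnonneg : ∀ k : ι, k ∈ ({k : ι | 0 < ψ (P.root k)} ∪
      {k : ι | k ∈ T ∧ P.root k ∈ natSpan P Δ'}) → 0 ≤ ψ (P.root k) := by
    rintro k (hk | hk)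
    · exact le_of_lt hk
    · exact le_of_eq ((hψ k).mpr hk.1).symm
  have hsum' : ψ (P.root i) + ψ (P.root j) = 0 := by rw [← map_add, ← hsum, hψb]
  have hi0 : ψ (P.root i) = 0 := by
    have h1 := hnonneg i hi
    have h2 := hnonneg j hj
    exact le_antisymm (by
      have : ψ (P.root i) = -ψ (P.root j) := eq_neg_of_add_eq_zero_left hsum'
      rw [this]; exact neg_nonpos.mpr h2) h1
  have hj0 : ψ (P.root j) = 0 := by rw [hi0, zero_add] at hsum'; exact hsum'
  have hi' : P.root i ∈ natSpan P Δ' := by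
    rcases hi with h | h
    · exact absurd hi0 (ne_of_gt h)
    · exact h.2
  have hj' : P.root j ∈ natSpan P Δ' := by
    rcases hj with h | h
    · exact absurd hj0 (ne_of_gt h)
    · exact h.2
  obtain ⟨ci, hci, hci'⟩ := (mem_natSpan_iff P Δ' _).mp hi'
  obtain ⟨cj, hcj, hcj'⟩ := (mem_natSpan_iff P Δ' _).mp hj'
  have hcomb : comb P (ci + cj) = comb P (Finsupp.single b 1) := by
    rw [comb_add, hci', hcj', comb_single, one_smul, hsum]
  have heq := comb_injOn P hli _ _ (support_add_subset hci hcj)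
    (support_single_subset hb 1) hcomb
  have hdeg := congrArg Finsupp.degree heq
  rw [map_add, Finsupp.degree_single] at hdeg
  have hci0 : ci.degree ≠ 0 := by
    intro h0
    rw [Finsupp.degree_eq_zero_iff] at h0
    rw [h0, comb_zero] at hci'
    exact P.ne_zero i hci'.symm
  have hcj0 : cj.degree ≠ 0 := by
    intro h0
    rw [Finsupp.degree_eq_zero_iff] at h0
    rw [h0, comb_zero] at hcj'
    exact P.ne_zero j hcj'.symm
  omega

/-- Extension of a simple system of a subsystem cut out by a subspace, making a given root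
outside the subsystem positive. -/
theorem exists_simpleSys_extending_pos {T : Set ι} (hT : IsSat P T) {Δ' : Set ι} (hΔ'T : Δ' ⊆ T)
    (hli : LinearIndepOn ℤ P.root Δ')
    (hgen : ∀ k ∈ T, P.root k ∈ natSpan P Δ' ∨ -P.root k ∈ natSpan P Δ') {k : ι} (hk : k ∉ T) :
    ∃ Δ : Set ι, IsSimpleSys P Δ ∧ Δ' ⊆ Δ ∧ k ∈ posOf P Δ := by
  classical
  have : Fintype ι := Fintype.ofFinite ι
  obtain ⟨r, ψ, hψ⟩ := exists_orderedHom_ker P hT
  rcases lt_trichotomy (ψ (P.root k)) 0 with h | h | h
  · have hψ' : ∀ j : ι, (-ψ) (P.root j) = 0 ↔ j ∈ T := by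
      intro j
      rw [AddMonoidHom.neg_apply, neg_eq_zero]
      exact hψ j
    obtain ⟨Δ, hΔ, hsub, hpos⟩ := exists_simpleSys_of_orderedHom P (-ψ) hψ' hΔ'T hli hgen
    refine ⟨Δ, hΔ, hsub, ?_⟩
    rw [hpos]
    left
    show 0 < (-ψ) (P.root k)
    rw [AddMonoidHom.neg_apply, neg_pos]
    exact h
  · exact absurd ((hψ k).mp h) hk
  · obtain ⟨Δ, hΔ, hsub, hpos⟩ := exists_simpleSys_of_orderedHom P ψ hψ hΔ'T hli hgen
    refine ⟨Δ, hΔ, hsub, ?_⟩
    rw [hpos]
    left
    exact h

omit [Finite ι] in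
/-- A single root is linearly independent. -/
theorem linearIndepOn_singleton (i : ι) : LinearIndepOn ℤ P.root {i} := by
  apply LinearIndepOn.singleton'
  intro r hr
  have h1 : P.toLinearMap (r • P.root i) (P.coroot i) = r * 2 := by
    rw [map_smul, LinearMap.smul_apply, P.root_coroot_two, smul_eq_mul]
  rw [hr] at h1
  simp at h1
  omega

/-- The roots proportional to an indivisible root are, up to sign, natural multiples of it. -/
theorem line_gen {i : ι} (hind : IsIndiv P i) (j : ι)
    (hj : ∃ n : ℕ, 0 < n ∧ n • P.root j ∈ Submodule.span ℤ ({P.root i} : Set M)) :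
    P.root j ∈ natSpan P {i} ∨ -P.root j ∈ natSpan P {i} := by
  have : Module.IsReflexive ℤ M := .of_isPerfPair P.toLinearMap
  obtain ⟨n, hn, h⟩ := hj
  obtain ⟨z, hz⟩ := Submodule.mem_span_singleton.mp h
  have hn0 : (n : ℤ) ≠ 0 := by exact_mod_cast hn.ne'
  have h1 : (n : ℤ) • P.root j = z • P.root i := by rw [natCast_zsmul, hz]
  obtain ⟨c, hc⟩ := Groth.Agent.S5495.result P i j hind z n hn0 h1
  have h2 : P.root j = c • P.root i := by
    apply smul_right_injective M hn0
    show (n : ℤ) • P.root j = (n : ℤ) • c • P.root i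
    rw [h1, hc, mul_smul]
  have hi : P.root i ∈ natSpan P {i} := root_mem_natSpan P rfl
  rcases le_or_gt 0 c with hc0 | hc0
  · left
    rw [h2, ← Int.toNat_of_nonneg hc0, natCast_zsmul]
    exact nsmul_mem hi _
  · right
    have : -P.root j = ((-c).toNat : ℤ) • P.root i := by
      rw [Int.toNat_of_nonneg (by omega), h2, neg_smul]
    rw [this, natCast_zsmul]
    exact nsmul_mem hi _

/-- Given an indivisible root `α` and a root `γ` not proportional to it, there is a system of
simple roots containing `α` and a simple root `β` of it with `γ = aα + bβ`, `a, b ∈ ℕ`. -/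
theorem exists_simpleSys_pair {i k : ι} (hα : IsIndiv P i)
    (hli : LinearIndependent ℤ ![P.root i, P.root k]) :
    ∃ Δ : Set ι, IsSimpleSys P Δ ∧ i ∈ Δ ∧
      ∃ j ∈ Δ, ∃ a b : ℕ, P.root k = a • P.root i + b • P.root j := by
  classical
  -- the roots in the plane of `α` and `γ`
  have hsatT : IsSat P {j : ι | ∃ n : ℕ, 0 < n ∧
      n • P.root j ∈ Submodule.span ℤ ({P.root i, P.root k} : Set M)} :=
    isSat_of_submodule P _
  set T : Set ι := {j : ι | ∃ n : ℕ, 0 < n ∧
      n • P.root j ∈ Submodule.span ℤ ({P.root i, P.root k} : Set M)} with hTdef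
  have hT : IsReflStable P T := isReflStable_of_isSat P hsatT
  have hiT : i ∈ T :=
    ⟨1, one_pos, by rw [one_smul]; exact Submodule.subset_span (by simp)⟩
  have hkT : k ∈ T :=
    ⟨1, one_pos, by rw [one_smul]; exact Submodule.subset_span (by simp)⟩
  -- the roots of the plane proportional to `α`
  have hsatTi : IsSat (sub P T hT) {j : T | ∃ n : ℕ, 0 < n ∧
      n • (sub P T hT).root j ∈ Submodule.span ℤ ({P.root i} : Set M)} :=
    isSat_of_submodule (sub P T hT) _
  set Ti : Set T := {j : T | ∃ n : ℕ, 0 < n ∧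
      n • (sub P T hT).root j ∈ Submodule.span ℤ ({P.root i} : Set M)} with hTidef
  have hk_notin : (⟨k, hkT⟩ : T) ∉ Ti := by
    rintro ⟨n, hn, h⟩
    obtain ⟨z, hz⟩ := Submodule.mem_span_singleton.mp h
    rw [LinearIndependent.pair_iff] at hli
    have h1 := hli z (-(n : ℤ)) (by
      rw [hz, neg_smul, natCast_zsmul]
      simp)
    omega
  have hiTi : (⟨i, hiT⟩ : T) ∈ Ti :=
    ⟨1, one_pos, by rw [one_smul]; exact Submodule.subset_span rfl⟩
  have hli1 : LinearIndepOn ℤ (sub P T hT).root {(⟨i, hiT⟩ : T)} :=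
    linearIndepOn_singleton (sub P T hT) _
  have hgen1 : ∀ j ∈ Ti, (sub P T hT).root j ∈ natSpan (sub P T hT) {(⟨i, hiT⟩ : T)} ∨
      -(sub P T hT).root j ∈ natSpan (sub P T hT) {(⟨i, hiT⟩ : T)} := by
    intro j hj
    exact line_gen (sub P T hT) (i := ⟨i, hiT⟩) (isIndiv_sub P hT hα) j hj
  obtain ⟨A, hA, hiA, hkA⟩ := exists_simpleSys_extending_pos (sub P T hT) hsatTi
    (Set.singleton_subset_iff.mpr hiTi) hli1 hgen1 hk_notin
  -- back to the ambient datum
  obtain ⟨hli2, hgen2⟩ := (isSimpleSys_sub_iff P hT A).mp hA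
  have hAT : Subtype.val '' A ⊆ T := by rintro _ ⟨a, -, rfl⟩; exact a.2
  obtain ⟨Δ, hΔ, hsub, -⟩ := exists_simpleSys_extending P hsatT hAT hli2 hgen2
  have hiΔ₂ : i ∈ Subtype.val '' A := ⟨⟨i, hiT⟩, hiA rfl, rfl⟩
  refine ⟨Δ, hΔ, hsub hiΔ₂, ?_⟩
  have hk2 : P.root k ∈ natSpan P (Subtype.val '' A) := by
    have h1 : (sub P T hT).root ⟨k, hkT⟩ ∈ natSpan (sub P T hT) A := hkA
    rwa [natSpan_sub] at h1
  obtain ⟨c, hc, hck⟩ := (mem_natSpan_iff P _ _).mp hk2
  -- some simple root other than `α` occurs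
  have hex : ∃ j ∈ c.support, j ≠ i := by
    by_contra hcon
    push Not at hcon
    have h1 : comb P c = c i • P.root i := by
      rw [comb_eq_sum]
      by_cases hi : i ∈ c.support
      · rw [Finset.sum_eq_single_of_mem i hi]
        intro b hb hbi
        exact absurd (hcon b hb) hbi
      · rw [Finset.sum_eq_zero, Finsupp.notMem_support_iff.mp hi, zero_smul]
        intro b hb
        exact absurd (hcon b hb ▸ hb) hi
    rw [LinearIndependent.pair_iff] at hli
    have h2 := hli (c i : ℤ) (-1) (by rw [natCast_zsmul, ← h1, hck]; simp)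
    omega
  obtain ⟨j, hj, hji⟩ := hex
  -- at most two simple roots lie in the plane
  have hsupp : c.support ⊆ {i, j} := by
    intro a ha
    by_contra hcon
    rw [Finset.mem_insert, Finset.mem_singleton, not_or] at hcon
    have hjA : j ∈ Subtype.val '' A := hc hj
    have haA : a ∈ Subtype.val '' A := hc ha
    apply not_linearIndependent_three (u := P.root i) (v := P.root k)
      (x := ![P.root i, P.root j, P.root a])
    · intro b
      fin_cases b
      · exact hiT
      · exact hAT hjA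
      · exact hAT haA
    · have h1 : LinearIndependent ℤ (fun x : (Subtype.val '' A : Set ι) => P.root x) := hli2
      let f : Fin 3 → (Subtype.val '' A : Set ι) := ![⟨i, hiΔ₂⟩, ⟨j, hjA⟩, ⟨a, haA⟩]
      have hf : Function.Injective f := by
        intro b b' hbb'
        fin_cases b <;> fin_cases b' <;> simp_all [f]
      have h2 := h1.comp f hf
      convert h2 using 1
      funext b
      fin_cases b <;> rfl
  refine ⟨j, hsub (hc hj), c i, c j, ?_⟩
  rw [← hck, comb_eq_sum, Finset.sum_subset hsupp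
    (fun b _ hb => by rw [Finsupp.notMem_support_iff.mp hb, zero_smul]),
    Finset.sum_pair hji.symm]

end Groth.Agent.Lib.RootDPlane58
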