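import Mathlib

/-!
# Weyl-invariant quadratic forms on the coweight module of a root pairing

Helper lemmas (helper58): invariance of a quadratic form under a coreflection in terms of the
polar form.
-/

set_option autoImplicit false

namespace Groth.Agent.Lib.RootDQuad58

open RootPairing

variable {ι R M N : Type*} [CommRing R]
  [AddCommGroup M] [Module R M] [AddCommGroup N] [Module R N] (P : RootPairing ι R M N)

/-- The value of a quadratic form on a coreflected vector. -/
lemma map_coreflection (Q : QuadraticMap R N R) (j : ι) (y : N) :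
    Q (P.coreflection j y) = Q y +
      P.root' j y * (P.root' j y * Q (P.coroot j) - QuadraticMap.polar Q y (P.coroot j)) := by
  rw [coreflection_apply, sub_eq_add_neg, ← neg_smul, QuadraticMap.map_add (⇑Q),
    QuadraticMap.polar_smul_right, QuadraticMap.map_smul]
  simp only [smul_eq_mul]
  ring

/-- Coreflections preserve any submodule containing the corresponding coroot. -/
lemma coreflection_mem {D : Submodule R N} {j : ι} (hj : P.coroot j ∈ D) {y : N} (hy : y ∈ D) :
    P.coreflection j y ∈ D := by
  rw [coreflection_apply]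
  exact D.sub_mem hy (D.smul_mem _ hj)

variable [IsDomain R] [CharZero R]

/-- Relative form of the criterion: on a submodule `D` containing the coroot `α^∨`, a quadratic
form `Q` is invariant under `s_α` iff `B(y, α^∨) = ⟨α, y⟩ Q(α^∨)` for all `y ∈ D`. -/
lemma invariant_on_iff (Q : QuadraticMap R N R) (j : ι) (D : Submodule R N)
    (hj : P.coroot j ∈ D) :
    (∀ y ∈ D, Q (P.coreflection j y) = Q y) ↔
      ∀ y ∈ D, QuadraticMap.polar Q y (P.coroot j) = P.root' j y * Q (P.coroot j) := by
  constructor
  · intro h
    -- first for `y` with `⟨α, y⟩ ≠ 0`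
    have key : ∀ y ∈ D, P.root' j y ≠ 0 →
        QuadraticMap.polar Q y (P.coroot j) = P.root' j y * Q (P.coroot j) := by
      intro y hy hne
      have h1 := h y hy
      rw [map_coreflection] at h1
      have h2 : P.root' j y * (P.root' j y * Q (P.coroot j) -
          QuadraticMap.polar Q y (P.coroot j)) = 0 := by
        linear_combination h1
      rcases mul_eq_zero.mp h2 with h3 | h3
      · exact absurd h3 hne
      · linear_combination -h3
    intro y hy
    by_cases hne : P.root' j y = 0
    · have h2 : P.root' j (y + P.coroot j) = 2 := by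
        rw [map_add, hne, zero_add]
        exact P.root_coroot_two j
      have h3 := key (y + P.coroot j) (D.add_mem hy hj) (by rw [h2]; exact two_ne_zero)
      rw [QuadraticMap.polar_add_left, QuadraticMap.polar_self, h2] at h3
      rw [hne, zero_mul]
      simp only [nsmul_eq_mul, Nat.cast_ofNat] at h3
      linear_combination h3
    · exact key y hy hne
  · intro h y hy
    rw [map_coreflection, h y hy]
    ring

/-- `Q` is invariant under `s_α` iff `B(y, α^∨) = ⟨α, y⟩ Q(α^∨)` for all `y`. -/
lemma invariant_iff (Q : QuadraticMap R N R) (j : ι) :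
    (∀ y : N, Q (P.coreflection j y) = Q y) ↔
      ∀ y : N, QuadraticMap.polar Q y (P.coroot j) = P.root' j y * Q (P.coroot j) := by
  have := invariant_on_iff P Q j ⊤ Submodule.mem_top
  simpa using this

/-- For an invariant form, `⟨α, β^∨⟩ Q(α^∨) = ⟨β, α^∨⟩ Q(β^∨)`. -/
lemma pairing_mul_map_coroot (Q : QuadraticMap R N R)
    (hQ : ∀ (i : ι) (y : N), Q (P.coreflection i y) = Q y) (i j : ι) :
    P.pairing i j * Q (P.coroot i) = P.pairing j i * Q (P.coroot j) := by
  have h1 := (invariant_iff P Q i).mp (hQ i) (P.coroot j)
  have h2 := (invariant_iff P Q j).mp (hQ j) (P.coroot i)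
  rw [root'_coroot_eq_pairing] at h1 h2
  rw [← h1, ← h2, QuadraticMap.polar_comm]

/-- An invariant quadratic form on the coweight module of an irreducible root pairing which
vanishes on one coroot is zero. -/
lemma eq_zero_of_irreducible {K : Type*} [Field K] [CharZero K] [Module K M] [Module K N]
    (P : RootPairing ι K M N) [P.IsIrreducible] (Q : QuadraticMap K N K)
    (hQ : ∀ (i : ι) (y : N), Q (P.coreflection i y) = Q y) (i₀ : ι)
    (h0 : Q (P.coroot i₀) = 0) : Q = 0 := by
  set S : Set ι := {i | Q (P.coroot i) = 0} with hS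
  set q : Submodule K N := Submodule.span K (P.coroot '' S) with hq
  have hinv : ∀ i, q ∈ Module.End.invtSubmodule (P.coreflection i).toLinearMap := by
    intro i
    rw [Module.End.mem_invtSubmodule, hq, Submodule.span_le]
    rintro _ ⟨j, hj, rfl⟩
    simp only [Submodule.comap_coe, Set.mem_preimage, LinearEquiv.coe_coe, SetLike.mem_coe]
    rw [coreflection_apply_coroot]
    by_cases hp : P.pairing i j = 0
    · rw [hp, zero_smul, sub_zero]
      exact Submodule.subset_span ⟨j, hj, rfl⟩
    · have h1 := pairing_mul_map_coroot P Q hQ i j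
      have hj' : Q (P.coroot j) = 0 := hj
      rw [hj', mul_zero] at h1
      have hi : i ∈ S := (mul_eq_zero.mp h1).resolve_left hp
      exact Submodule.sub_mem _ (Submodule.subset_span ⟨j, hj, rfl⟩)
        (Submodule.smul_mem _ _ (Submodule.subset_span ⟨i, hi, rfl⟩))
  have hne : q ≠ ⊥ := by
    intro h
    have : P.coroot i₀ ∈ q := Submodule.subset_span ⟨i₀, h0, rfl⟩
    rw [h, Submodule.mem_bot] at this
    exact P.ne_zero' i₀ this
  have htop : q = ⊤ := IsIrreducible.eq_top_of_invtSubmodule_coreflection q hinv hne
  have hpolar : ∀ z y : N, QuadraticMap.polar Q z y = 0 := by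
    intro z y
    have hy : y ∈ q := by rw [htop]; exact Submodule.mem_top
    rw [hq] at hy
    induction hy using Submodule.span_induction with
    | mem y hy =>
      obtain ⟨j, hj, rfl⟩ := hy
      have hj' : Q (P.coroot j) = 0 := hj
      rw [(invariant_iff P Q j).mp (hQ j) z, hj', mul_zero]
    | zero => exact QuadraticMap.polar_zero_right _ _
    | add y y' _ _ h1 h2 => rw [QuadraticMap.polar_add_right, h1, h2, add_zero]
    | smul a y _ h1 => rw [QuadraticMap.polar_smul_right, h1, smul_zero]
  ext y
  have h2 := QuadraticMap.polar_self Q y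
  rw [hpolar] at h2
  simp only [nsmul_eq_mul, Nat.cast_ofNat] at h2
  have : Q y = 0 := by
    rcases mul_eq_zero.mp h2.symm with h | h
    · exact absurd h two_ne_zero
    · exact h
  simpa using this

omit [IsDomain R] [CharZero R] in
lemma polar_comp (Q : QuadraticMap R N R) (f : N →ₗ[R] N) (x y : N) :
    QuadraticMap.polar (Q.comp f) x y = QuadraticMap.polar Q (f x) (f y) := by
  simp [QuadraticMap.polar, map_add]

/-- Existence of an invariant extension of a form invariant on the derived part `D`, in terms of a
bilinear form with prescribed values on `Y₀ × coroots`. -/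
lemma exists_invariant_extension_iff (D Y₀ : Submodule R N) (hc : IsCompl Y₀ D)
    (hD : ∀ i : ι, P.coroot i ∈ D)
    (Qd : QuadraticMap R N R) (hQd : ∀ i : ι, ∀ y ∈ D, Qd (P.coreflection i y) = Qd y) :
    (∃ Q : QuadraticMap R N R, (∀ (i : ι) (y : N), Q (P.coreflection i y) = Q y) ∧
        ∀ y ∈ D, Q y = Qd y) ↔
      ∃ Φ : N →ₗ[R] N →ₗ[R] R, ∀ y₀ ∈ Y₀, ∀ i : ι,
        Φ y₀ (P.coroot i) = P.root' i y₀ * Qd (P.coroot i) := by
  constructor
  · rintro ⟨Q, hQ, hQD⟩
    refine ⟨Q.polarBilin, fun y₀ _ i => ?_⟩
    rw [QuadraticMap.polarBilin_apply_apply, (invariant_iff P Q i).mp (hQ i) y₀, hQD _ (hD i)]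
  · rintro ⟨Φ, hΦ⟩
    set p₀ : N →ₗ[R] N := Y₀.projection D hc with hp₀
    set pD : N →ₗ[R] N := D.projection Y₀ hc.symm with hpD
    have hsum : ∀ y, p₀ y + pD y = y := Submodule.projection_add_projection_eq_self hc
    have hp₀mem : ∀ y, p₀ y ∈ Y₀ := Submodule.projection_apply_mem hc
    have hpDmem : ∀ y, pD y ∈ D := Submodule.projection_apply_mem hc.symm
    have hp₀D : ∀ y ∈ D, p₀ y = 0 := fun y hy => Submodule.projection_apply_of_mem_right hc hy
    have hpDD : ∀ y ∈ D, pD y = y := fun y hy => Submodule.projection_apply_of_mem_left hc.symm hy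
    set B : LinearMap.BilinMap R N R := Φ.compl₁₂ p₀ pD with hB
    refine ⟨Qd.comp pD + B.toQuadraticMap, ?_, ?_⟩
    · intro i
      rw [invariant_iff]
      intro y
      have ha := hD i
      have h1 : QuadraticMap.polar (Qd.comp pD + B.toQuadraticMap) y (P.coroot i) =
          QuadraticMap.polar Qd (pD y) (P.coroot i) + Φ (p₀ y) (P.coroot i) := by
        rw [FunLike.coe_add, QuadraticMap.polar_add, polar_comp,
          LinearMap.BilinMap.polar_toQuadraticMap, hpDD _ ha]
        simp [hB, LinearMap.compl₁₂_apply, hpDD _ ha, hp₀D _ ha]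
      have h2 : (Qd.comp pD + B.toQuadraticMap) (P.coroot i) = Qd (P.coroot i) := by
        simp [hB, LinearMap.compl₁₂_apply, hpDD _ ha, hp₀D _ ha]
      rw [h1, h2, (invariant_on_iff P Qd i D ha).mp (hQd i) _ (hpDmem y), hΦ _ (hp₀mem y) i,
        ← add_mul, ← map_add, add_comm (pD y), hsum]
    · intro y hy
      simp [hB, LinearMap.compl₁₂_apply, hpDD _ hy, hp₀D _ hy]

/-- Two invariant forms agreeing on the coroots have the same polar form against any element with
a positive multiple in the coroot span. -/
lemma polar_eq_of_nsmul_mem (Q₁ Q₂ : QuadraticMap R N R)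
    (h₁ : ∀ (i : ι) (y : N), Q₁ (P.coreflection i y) = Q₁ y)
    (h₂ : ∀ (i : ι) (y : N), Q₂ (P.coreflection i y) = Q₂ y)
    (h : ∀ i, Q₁ (P.coroot i) = Q₂ (P.coroot i)) (z d : N) (n : ℕ) (hn : 0 < n)
    (hd : n • d ∈ Submodule.span R (Set.range P.coroot)) :
    QuadraticMap.polar Q₁ z d = QuadraticMap.polar Q₂ z d := by
  have key : ∀ y ∈ Submodule.span R (Set.range P.coroot),
      QuadraticMap.polar Q₁ z y = QuadraticMap.polar Q₂ z y := by
    intro y hy
    induction hy using Submodule.span_induction with
    | mem y hy =>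
      obtain ⟨i, rfl⟩ := hy
      rw [(invariant_iff P Q₁ i).mp (h₁ i) z, (invariant_iff P Q₂ i).mp (h₂ i) z, h i]
    | zero => rw [QuadraticMap.polar_zero_right, QuadraticMap.polar_zero_right]
    | add y y' _ _ e1 e2 => rw [QuadraticMap.polar_add_right, QuadraticMap.polar_add_right, e1, e2]
    | smul a y _ e1 => rw [QuadraticMap.polar_smul_right, QuadraticMap.polar_smul_right, e1]
  have h3 := key _ hd
  rw [← Nat.cast_smul_eq_nsmul R, QuadraticMap.polar_smul_right,
    QuadraticMap.polar_smul_right] at h3
  simp only [smul_eq_mul] at h3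
  have hn' : (n : R) ≠ 0 := Nat.cast_ne_zero.mpr hn.ne'
  exact mul_left_cancel₀ hn' h3

/-- Restriction to a complement `Y₀` of the derived part `D` is a bijection from invariant forms
agreeing with `Q'` on `D` onto all quadratic forms on `Y₀`. -/
lemma bijOn_restrict (D Y₀ : Submodule R N) (hc : IsCompl Y₀ D)
    (hD : ∀ i : ι, P.coroot i ∈ D)
    (hDsat : ∀ y ∈ D, ∃ n : ℕ, 0 < n ∧ n • y ∈ Submodule.span R (Set.range P.coroot))
    (Q' : QuadraticMap R N R) (hQ' : ∀ (i : ι) (y : N), Q' (P.coreflection i y) = Q' y) :
    Set.BijOn (fun Q : QuadraticMap R N R => Q.comp Y₀.subtype)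
      {Q | (∀ (i : ι) (y : N), Q (P.coreflection i y) = Q y) ∧ ∀ y ∈ D, Q y = Q' y}
      Set.univ := by
  set p₀ : N →ₗ[R] N := Y₀.projection D hc with hp₀
  set pD : N →ₗ[R] N := D.projection Y₀ hc.symm with hpD
  have hsum : ∀ y, p₀ y + pD y = y := Submodule.projection_add_projection_eq_self hc
  have hp₀mem : ∀ y, p₀ y ∈ Y₀ := Submodule.projection_apply_mem hc
  have hpDmem : ∀ y, pD y ∈ D := Submodule.projection_apply_mem hc.symm
  have hp₀D : ∀ y ∈ D, p₀ y = 0 := fun y hy => Submodule.projection_apply_of_mem_right hc hy
  have hp₀Y : ∀ y ∈ Y₀, p₀ y = y := fun y hy => Submodule.projection_apply_of_mem_left hc hy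
  refine ⟨fun _ _ => Set.mem_univ _, ?_, ?_⟩
  · -- injectivity
    rintro Q₁ ⟨h₁, h₁D⟩ Q₂ ⟨h₂, h₂D⟩ heq
    have hY : ∀ y ∈ Y₀, Q₁ y = Q₂ y := by
      intro y hy
      have := congrArg (fun T : QuadraticMap R Y₀ R => T ⟨y, hy⟩) heq
      simpa using this
    ext y
    rw [← hsum y, QuadraticMap.map_add (⇑Q₁), QuadraticMap.map_add (⇑Q₂), hY _ (hp₀mem y),
      h₁D _ (hpDmem y), h₂D _ (hpDmem y)]
    obtain ⟨n, hn, hnd⟩ := hDsat _ (hpDmem y)
    rw [polar_eq_of_nsmul_mem P Q₁ Q₂ h₁ h₂
      (fun i => by rw [h₁D _ (hD i), h₂D _ (hD i)]) (p₀ y) (pD y) n hn hnd]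
  · -- surjectivity
    intro q _
    refine ⟨Q' + (q - Q'.comp Y₀.subtype).comp (Y₀.projectionOnto D hc), ⟨?_, ?_⟩, ?_⟩
    · intro i y
      have hproj : Y₀.projectionOnto D hc (P.coreflection i y) = Y₀.projectionOnto D hc y := by
        rw [coreflection_apply, map_sub, map_smul,
          Submodule.projectionOnto_apply_of_mem_right hc (hD i), smul_zero, sub_zero]
      simp only [add_apply, QuadraticMap.comp_apply, hproj, hQ' i y]
    · intro y hy
      simp [Submodule.projectionOnto_apply_of_mem_right hc hy]
    · ext y
      simp [Submodule.projectionOnto_apply_left hc y]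

omit [IsDomain R] [CharZero R] in
lemma coreflection_reflectionPerm_self (i : ι) :
    P.coreflection (P.reflectionPerm i i) = P.coreflection i := by
  ext y
  simp [coreflection_apply, root', two_smul]

omit [IsDomain R] [CharZero R] in
lemma coreflection_reflectionPerm (i j : ι) :
    P.coreflection (P.reflectionPerm j i) =
      P.coreflection j * P.coreflection i * P.coreflection j :=
  P.flip.reflection_reflectionPerm

/-- Invariance on the coroot span under all reflections is detected on pairs of distinct simple
coroots. -/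
lemma invariant_on_span_iff_simple [Finite ι] [P.IsCrystallographic] [P.IsReduced] (b : P.Base)
    (Q : QuadraticMap R N R) :
    (∀ i : ι, ∀ y ∈ Submodule.span R (Set.range P.coroot), Q (P.coreflection i y) = Q y) ↔
      ∀ i ∈ b.support, ∀ j ∈ b.support, i ≠ j →
        QuadraticMap.polar Q (P.coroot i) (P.coroot j) = P.pairing j i * Q (P.coroot j) := by
  have hmem : ∀ i, P.coroot i ∈ Submodule.span R (Set.range P.coroot) :=
    fun i => Submodule.subset_span ⟨i, rfl⟩
  constructor
  · intro h i _ j _ _
    have := (invariant_on_iff P Q j _ (hmem j)).mp (h j) _ (hmem i)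
    rwa [root'_coroot_eq_pairing] at this
  · intro h
    have hsimple : ∀ j ∈ b.support, ∀ y ∈ Submodule.span R (Set.range P.coroot),
        Q (P.coreflection j y) = Q y := by
      intro j hj
      rw [invariant_on_iff P Q j _ (hmem j)]
      suffices hs : ∀ y ∈ Submodule.span R (P.coroot '' b.support),
          QuadraticMap.polar Q y (P.coroot j) = P.root' j y * Q (P.coroot j) by
        intro y hy
        exact hs y (by rw [b.span_coroot_support]; exact hy)
      intro y hy'
      induction hy' using Submodule.span_induction with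
      | mem y hy =>
        obtain ⟨i, hi, rfl⟩ := hy
        by_cases hij : i = j
        · subst hij
          rw [QuadraticMap.polar_self, root'_coroot_eq_pairing, pairing_same]
          simp
        · rw [h i hi j hj hij, root'_coroot_eq_pairing]
      | zero => simp [QuadraticMap.polar]
      | add y y' hy1 hy2 e1 e2 =>
        rw [QuadraticMap.polar_add_left, map_add, add_mul, e1, e2]
      | smul a y hy1 e1 =>
        rw [QuadraticMap.polar_smul_left, map_smul, e1]
        simp [mul_assoc]
    intro i
    refine b.induction_reflect i (p := fun i => ∀ y ∈ Submodule.span R (Set.range P.coroot),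
      Q (P.coreflection i y) = Q y) ?_ hsimple ?_
    · intro i hi y hy
      rw [coreflection_reflectionPerm_self]
      exact hi y hy
    · intro i j hi hj y hy
      rw [coreflection_reflectionPerm]
      simp only [LinearEquiv.mul_apply]
      have m1 := coreflection_mem P (hmem j) hy
      have m2 := coreflection_mem P (hmem i) m1
      rw [hsimple j hj _ m2, hi _ m1, hsimple j hj _ hy]

section Presentation

variable [Finite ι] [P.IsCrystallographic] [P.IsReduced]

/-- The relation element `[s_α β] - [β] + ⟨α, β^∨⟩ [α]`. -/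
noncomputable def rel (p : ι × ι) : ι →₀ ℤ :=
  Finsupp.single (P.reflectionPerm p.1 p.2) (1 : ℤ) - Finsupp.single p.2 1 +
    P.pairingIn ℤ p.1 p.2 • Finsupp.single p.1 1

omit [IsDomain R] [CharZero R] [Finite ι] [P.IsReduced] in
lemma linearCombination_rel (p : ι × ι) :
    Finsupp.linearCombination ℤ (fun i : ι => (P.coroot i : N)) (rel P p) = 0 := by
  simp only [rel, map_add, map_sub, map_smul, Finsupp.linearCombination_single, one_smul,
    coroot_reflectionPerm, coreflection_apply_coroot]
  rw [← Int.cast_smul_eq_zsmul R, ← P.algebraMap_pairingIn ℤ]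
  simp

/-- Presentation of the coroot lattice: the kernel of `[β] ↦ β^∨` is generated by the reflection
relations. -/
lemma ker_linearCombination_coroot (b : P.Base) :
    LinearMap.ker (Finsupp.linearCombination ℤ (fun i : ι => (P.coroot i : N))) =
      Submodule.span ℤ (Set.range (rel P)) := by
  classical
  set φ := Finsupp.linearCombination ℤ (fun i : ι => (P.coroot i : N)) with hφ
  set Rel := Submodule.span ℤ (Set.range (rel P)) with hRel
  set S := Finsupp.supported ℤ ℤ (b.support : Set ι) with hS
  apply le_antisymm
  · -- every generator lies in `Rel ⊔ S`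
    have hgen : ∀ i : ι, Finsupp.single i (1 : ℤ) ∈ Rel ⊔ S := by
      intro i
      refine b.induction_reflect i (p := fun i => Finsupp.single i (1 : ℤ) ∈ Rel ⊔ S) ?_ ?_ ?_
      · intro i hi
        have hr : rel P (i, i) ∈ Rel ⊔ S :=
          Submodule.mem_sup_left (Submodule.subset_span ⟨(i, i), rfl⟩)
        have : Finsupp.single (P.reflectionPerm i i) (1 : ℤ) =
            rel P (i, i) - (2 : ℤ) • Finsupp.single i 1 + Finsupp.single i 1 := by
          simp only [rel, pairingIn_same]
          abel
        rw [this]
        exact Submodule.add_mem _ (Submodule.sub_mem _ hr (Submodule.smul_mem _ _ hi)) hi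
      · intro i hi
        refine Submodule.mem_sup_right ?_
        rw [hS, Finsupp.mem_supported]
        intro k hk
        rw [Finsupp.support_single _ one_ne_zero, Finset.coe_singleton,
          Set.mem_singleton_iff] at hk
        rw [hk]; exact hi
      · intro i j hi hj
        have hr : rel P (j, i) ∈ Rel ⊔ S :=
          Submodule.mem_sup_left (Submodule.subset_span ⟨(j, i), rfl⟩)
        have hjm : Finsupp.single j (1 : ℤ) ∈ Rel ⊔ S := by
          refine Submodule.mem_sup_right ?_
          rw [hS, Finsupp.mem_supported]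
          intro k hk
          rw [Finsupp.support_single _ one_ne_zero, Finset.coe_singleton,
            Set.mem_singleton_iff] at hk
          rw [hk]; exact hj
        have : Finsupp.single (P.reflectionPerm j i) (1 : ℤ) =
            rel P (j, i) + Finsupp.single i 1 - P.pairingIn ℤ j i • Finsupp.single j 1 := by
          simp only [rel]
          abel
        rw [this]
        exact Submodule.sub_mem _ (Submodule.add_mem _ hr hi) (Submodule.smul_mem _ _ hjm)
    have htop : Rel ⊔ S = ⊤ := by
      rw [eq_top_iff]
      intro x _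
      induction x using Finsupp.induction_linear with
      | zero => exact Submodule.zero_mem _
      | add f g hf hg => exact Submodule.add_mem _ (hf Submodule.mem_top) (hg Submodule.mem_top)
      | single a c =>
        have : Finsupp.single a c = c • Finsupp.single a (1 : ℤ) := by
          rw [Finsupp.smul_single, smul_eq_mul, mul_one]
        rw [this]
        exact Submodule.smul_mem _ _ (hgen a)
    intro x hx
    have hx' : x ∈ Rel ⊔ S := by rw [htop]; exact Submodule.mem_top
    obtain ⟨r, hr, s, hs, rfl⟩ := Submodule.mem_sup.mp hx'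
    have hrφ : φ r = 0 := by
      have : Rel ≤ LinearMap.ker φ := by
        rw [hRel, Submodule.span_le]
        rintro _ ⟨p, rfl⟩
        exact linearCombination_rel P p
      exact this hr
    have hsφ : φ s = 0 := by
      have := LinearMap.mem_ker.mp hx
      rwa [map_add, hrφ, zero_add] at this
    have hli : LinearIndepOn ℤ (fun i : ι => (P.coroot i : N)) (b.support : Set ι) :=
      b.linearIndepOn_coroot.restrict_scalars' ℤ
    have hs0 : s = 0 := linearIndepOn_iff.mp hli s hs hsφ
    rw [hs0, add_zero]
    exact hr
  · rw [hRel, Submodule.span_le]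
    rintro _ ⟨p, rfl⟩
    exact linearCombination_rel P p

end Presentation

end Groth.Agent.Lib.RootDQuad58
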