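import Groth.Prelude.Def_W4sga3xxiRoot
import Mathlib.LinearAlgebra.RootSystem.Finite.Lemmas
import Mathlib.LinearAlgebra.RootSystem.BaseExists
import Mathlib.LinearAlgebra.RootSystem.WeylGroup
import Mathlib.Tactic

/-!
Shared lemmas for the `RootD.*` family (root data over the integers, root-only positive and
simple systems).
-/

set_option autoImplicit false

open RootD

namespace Groth.Agent.Lib.RootDatum

variable {ι M N : Type*} [AddCommGroup M] [AddCommGroup N] (P : RootPairing ι ℤ M N)

/-- the root indexed by `reflectionPerm i i` is the opposite root -/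
theorem root_neg (i : ι) : P.root (P.reflectionPerm i i) = -P.root i := by
  rw [P.root_reflectionPerm, P.reflection_apply_self]

theorem pairingIn_int (i j : ι) : P.pairingIn ℤ i j = P.pairing i j := by
  have := P.algebraMap_pairingIn ℤ i j
  simpa using this

/-- the index of the opposite root -/
theorem eq_reflectionPerm_of_root_eq_neg {i j : ι} (h : P.root j = -P.root i) :
    j = P.reflectionPerm i i := by
  apply P.root.injective
  rw [h, root_neg]

/-- membership in the additive monoid generated by roots, through multisets of indices -/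
theorem mem_natSpan_iff (S : Set ι) (x : M) :
    x ∈ natSpan P S ↔ ∃ m : Multiset ι, (∀ i ∈ m, i ∈ S) ∧ (m.map P.root).sum = x := by
  constructor
  · intro hx
    induction hx using AddSubmonoid.closure_induction with
    | mem y hy =>
      obtain ⟨i, hi, rfl⟩ := hy
      exact ⟨{i}, by simpa using hi, by simp⟩
    | zero => exact ⟨0, by simp, by simp⟩
    | add a b _ _ ha hb =>
      obtain ⟨m₁, h₁, rfl⟩ := ha
      obtain ⟨m₂, h₂, rfl⟩ := hb
      refine ⟨m₁ + m₂, ?_, by simp⟩
      intro i hi
      rcases Multiset.mem_add.mp hi with h | h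
      · exact h₁ i h
      · exact h₂ i h
  · rintro ⟨m, hm, rfl⟩
    refine AddSubmonoid.multiset_sum_mem _ _ ?_
    intro y hy
    obtain ⟨i, hi, rfl⟩ := Multiset.mem_map.mp hy
    exact AddSubmonoid.subset_closure ⟨i, hm i hi, rfl⟩

variable [Finite ι]

theorem exists_root_eq_add_of_pairing_neg {i j : ι} (h : P.pairing i j < 0)
    (h' : P.root i ≠ -P.root j) : ∃ k, P.root k = P.root i + P.root j := by
  have h1 : P.pairingIn ℤ i j < 0 := by rw [pairingIn_int]; exact h
  obtain ⟨k, hk⟩ := P.root_add_root_mem_of_pairingIn_neg h1 h'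
  exact ⟨k, hk⟩

theorem exists_root_eq_sub_of_pairing_pos {i j : ι} (h : 0 < P.pairing i j)
    (h' : i ≠ j) : ∃ k, P.root k = P.root i - P.root j := by
  have h1 : 0 < P.pairingIn ℤ i j := by rw [pairingIn_int]; exact h
  obtain ⟨k, hk⟩ := P.root_sub_root_mem_of_pairingIn_pos h1 h'
  exact ⟨k, hk⟩

/-- In a closed set of roots containing no pair of opposite roots, no nonempty sum of roots vanishes. -/
theorem sum_ne_zero_of_closed (S : Set ι) (hcl : IsClosedSub P S)
    (hdis : ∀ ⦃i : ι⦄, i ∈ S → P.reflectionPerm i i ∉ S) :
    ∀ (n : ℕ) (m : Multiset ι), Multiset.card m = n → m ≠ 0 → (∀ i ∈ m, i ∈ S) →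
      (m.map P.root).sum ≠ 0 := by
  intro n
  induction n using Nat.strong_induction_on with
  | _ n ih =>
    intro m hcard hne hS hsum
    obtain ⟨i, hi⟩ := Multiset.exists_mem_of_ne_zero hne
    obtain ⟨m', rfl⟩ := Multiset.exists_cons_of_mem hi
    have hiS : i ∈ S := hS i (Multiset.mem_cons_self i m')
    rw [Multiset.map_cons, Multiset.sum_cons] at hsum
    -- apply the coroot of `i`
    have h2 : (2 : ℤ) + (m'.map fun j => P.pairing j i).sum = 0 := by
      have := congrArg (P.coroot' i) hsum
      rw [map_add, map_zero, map_multiset_sum, Multiset.map_map] at this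
      simpa using this
    have hex : ∃ j ∈ m', P.pairing j i < 0 := by
      by_contra hcon
      push Not at hcon
      have : 0 ≤ (m'.map fun j => P.pairing j i).sum :=
        Multiset.sum_nonneg (by
          intro x hx
          obtain ⟨j, hj, rfl⟩ := Multiset.mem_map.mp hx
          exact hcon j hj)
      omega
    obtain ⟨j, hj, hji⟩ := hex
    obtain ⟨m'', rfl⟩ := Multiset.exists_cons_of_mem hj
    have hjS : j ∈ S := hS j (Multiset.mem_cons_of_mem (Multiset.mem_cons_self j m''))
    have hne' : P.root j ≠ -P.root i := by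
      intro hcon
      have := eq_reflectionPerm_of_root_eq_neg P hcon
      exact hdis hiS (this ▸ hjS)
    obtain ⟨k, hk⟩ := exists_root_eq_add_of_pairing_neg P hji hne'
    have hkS : k ∈ S := hcl hjS hiS hk
    have hcard' : Multiset.card (k ::ₘ m'') < n := by
      rw [← hcard]
      simp
    refine ih _ hcard' (k ::ₘ m'') rfl (Multiset.cons_ne_zero) ?_ ?_
    · intro x hx
      rcases Multiset.mem_cons.mp hx with rfl | hx
      · exact hkS
      · exact hS x (Multiset.mem_cons_of_mem (Multiset.mem_cons_of_mem hx))
    · rw [Multiset.map_cons, Multiset.sum_cons, hk]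
      rw [Multiset.map_cons, Multiset.sum_cons] at hsum
      rw [← hsum]
      abel

end Groth.Agent.Lib.RootDatum
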