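import Groth.Agent.Lib.RootDForm
import Groth.Agent.S5445
import Groth.Agent.S5448
import Groth.Agent.S5449
import Groth.Agent.S5456
import Groth.Agent.S5457
import Groth.Agent.S5490
import Mathlib.LinearAlgebra.RootSystem.WeylGroup
import Mathlib.Algebra.Order.Group.PiLex
import Mathlib.Data.Finsupp.Weight

/-!
Simple systems and positive systems (root-only sense, `RootD.IsSimpleSys`, `RootD.IsPosSys`) of a
root datum over the integers: reflections in simple roots permute the other positive roots, every
positive non-simple root is a simple root plus a positive root, existence of positive and simple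
systems, transport along automorphisms, transitivity of the Weyl group.
(helper58; builds on helper50's `RootDBasic`, `RootDForm` and on S5445, S5448, S5449, S5490.)
-/

set_option autoImplicit false
open RootD

namespace Groth.Agent.Lib.RootDSimple

open Groth.Agent.Lib.RootDBasic Groth.Agent.Lib.RootDForm

variable {ι M N : Type*} [AddCommGroup M] [AddCommGroup N] (P : RootPairing ι ℤ M N)

/-! ### Coefficients -/

theorem comb_eq_sum (c : ι →₀ ℕ) : comb P c = ∑ i ∈ c.support, c i • P.root i := rfl

theorem support_add_subset {Δ : Set ι} {c d : ι →₀ ℕ} (hc : (↑c.support : Set ι) ⊆ Δ)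
    (hd : (↑d.support : Set ι) ⊆ Δ) : (↑(c + d).support : Set ι) ⊆ Δ := by
  classical
  intro j hj
  rcases Finset.mem_union.mp (Finsupp.support_add hj) with h | h
  · exact hc h
  · exact hd h

theorem support_single_subset {Δ : Set ι} {i : ι} (hi : i ∈ Δ) (n : ℕ) :
    (↑(Finsupp.single i n).support : Set ι) ⊆ Δ := by
  intro j hj
  have := Finsupp.support_single_subset hj
  simp only [Finset.mem_singleton] at this
  rw [this]; exact hi

theorem support_tsub_subset {Δ : Set ι} {c : ι →₀ ℕ} (hc : (↑c.support : Set ι) ⊆ Δ)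
    (d : ι →₀ ℕ) : (↑(c - d).support : Set ι) ⊆ Δ := by
  intro j hj
  apply hc
  rw [Finset.mem_coe, Finsupp.mem_support_iff] at hj ⊢
  intro h0
  apply hj
  rw [Finsupp.tsub_apply, h0, Nat.zero_sub]

/-- If `x` is a non-negative combination of the linearly independent family `Δ` and `x - n • α`
is a non-positive one, for some `α ∈ Δ`, then `x` is a multiple of `α`. -/
theorem eq_nsmul_of_neg_sub_mem {Δ : Set ι} (hli : LinearIndepOn ℤ P.root Δ) {i : ι} (hi : i ∈ Δ)
    {x : M} (hx : x ∈ natSpan P Δ) (n : ℤ) (hy : -(x - n • P.root i) ∈ natSpan P Δ) :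
    ∃ m : ℕ, x = m • P.root i := by
  classical
  obtain ⟨c, hc, rfl⟩ := (mem_natSpan_iff P Δ x).mp hx
  obtain ⟨d, hd, hd'⟩ := (mem_natSpan_iff P Δ _).mp hy
  obtain ⟨a, b, hab⟩ : ∃ a b : ℕ, n = (b : ℤ) - (a : ℤ) :=
    ⟨(-n).toNat, n.toNat, (Int.toNat_sub_toNat_neg n).symm⟩
  have h1 : comb P (c + d + Finsupp.single i a) = comb P (Finsupp.single i b) := by
    rw [comb_add, comb_add, comb_single, comb_single, hd', hab, sub_smul, natCast_zsmul,
      natCast_zsmul]
    abel
  have h2 : c + d + Finsupp.single i a = Finsupp.single i b :=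
    comb_injOn P hli _ _ (support_add_subset (support_add_subset hc hd)
      (support_single_subset hi a)) (support_single_subset hi b) h1
  have h3 : c = Finsupp.single i (c i) := by
    ext j
    by_cases hj : j = i
    · subst hj; simp
    · have := DFunLike.congr_fun h2 j
      simp only [Finsupp.coe_add, Pi.add_apply, Finsupp.single_apply, if_neg (Ne.symm hj),
        add_zero] at this
      rw [Finsupp.single_apply, if_neg (Ne.symm hj)]
      omega
  exact ⟨c i, by rw [h3, comb_single]; simp⟩

/-- The root of `s_i(k)`. -/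
theorem root_reflectionPerm' (i k : ι) :
    P.root (P.reflectionPerm i k) = P.root k - P.pairing k i • P.root i := by
  rw [P.root_reflectionPerm, P.reflection_apply, P.root_coroot'_eq_pairing]

/-- The reflection in a simple root maps a positive root to a positive root, unless the latter
is a multiple of the simple root. -/
theorem reflectionPerm_mem_posOf_or {Δ : Set ι} (hΔ : IsSimpleSys P Δ) {i k : ι} (hi : i ∈ Δ)
    (hk : k ∈ posOf P Δ) :
    P.reflectionPerm i k ∈ posOf P Δ ∨ ∃ m : ℕ, P.root k = m • P.root i := by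
  rcases hΔ.mem_or_neg_mem (P.reflectionPerm i k) with h | h
  · exact Or.inl h
  · right
    rw [root_reflectionPerm'] at h
    exact eq_nsmul_of_neg_sub_mem P hΔ.linInd hi hk _ h

/-- The reflection in a simple root maps every positive root not proportional to it to a
positive root. -/
theorem reflectionPerm_mem_posOf {Δ : Set ι} (hΔ : IsSimpleSys P Δ) {i k : ι} (hi : i ∈ Δ)
    (hk : k ∈ posOf P Δ) (hli : LinearIndependent ℤ ![P.root k, P.root i]) :
    P.reflectionPerm i k ∈ posOf P Δ := by
  rcases reflectionPerm_mem_posOf_or P hΔ hi hk with h | ⟨m, hm⟩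
  · exact h
  · exfalso
    rw [LinearIndependent.pair_iff] at hli
    have := hli 1 (-(m : ℤ)) (by rw [hm, one_smul, neg_smul, natCast_zsmul]; abel)
    exact one_ne_zero this.1

/-- If a root is `m` times another root (`m` a natural number), then `m = 1` or `m = 2`. -/
theorem eq_one_or_two_of_root_eq_nsmul {i k : ι} {m : ℕ} (h : P.root k = m • P.root i) :
    m = 1 ∨ m = 2 := by
  have h2 := P.root_coroot_two k
  rw [h, map_nsmul, LinearMap.smul_apply, nsmul_eq_mul] at h2
  have hdvd : (m : ℤ) ∣ 2 := ⟨_, h2.symm⟩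
  have hle : m ≤ 2 := by
    have := Int.le_of_dvd (by norm_num) hdvd
    omega
  interval_cases m
  · simp at h2
  · exact Or.inl rfl
  · exact Or.inr rfl

variable [Finite ι]

/-- A positive root which is not simple is the sum of a simple root, with which it pairs
positively, and a positive root (coefficient form). -/
theorem exists_simple_sub_comb {Δ : Set ι} {k : ι} (hkΔ : k ∉ Δ) (c : ι →₀ ℕ)
    (hc : (↑c.support : Set ι) ⊆ Δ) (hck : comb P c = P.root k) :
    ∃ i ∈ Δ, 0 < c i ∧ 0 < P.pairing k i ∧ ∃ l : ι,
      P.root l = comb P (c - Finsupp.single i 1) ∧ P.root k = P.root l + P.root i := by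
  obtain ⟨i, hi, hci, hpos⟩ := exists_pairing_pos P c.support id c k (by rw [← hck]; rfl)
  simp only [id] at hpos
  have hiΔ : i ∈ Δ := hc hi
  have hki : k ≠ i := fun h => hkΔ (h ▸ hiΔ)
  obtain ⟨l, hl⟩ := exists_root_sub P k i hpos hki
  refine ⟨i, hiΔ, hci, hpos, l, ?_, by rw [hl]; abel⟩
  have h1 : c - Finsupp.single i 1 + Finsupp.single i 1 = c :=
    Finsupp.sub_add_single_one_cancel (by omega)
  have h2 : comb P (c - Finsupp.single i 1) + P.root i = comb P c := by
    conv_rhs => rw [← h1]
    rw [comb_add, comb_single, one_smul]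
  rw [hl, ← hck, ← h2]; abel

/-- A positive root which is not simple is the sum of a simple root, with which it pairs
positively, and a positive root. -/
theorem exists_simple_sub {Δ : Set ι} {k : ι} (hk : k ∈ posOf P Δ) (hkΔ : k ∉ Δ) :
    ∃ i ∈ Δ, 0 < P.pairing k i ∧ ∃ l ∈ posOf P Δ, P.root k = P.root l + P.root i := by
  obtain ⟨c, hc, hck⟩ := (mem_natSpan_iff P Δ _).mp hk
  obtain ⟨i, hi, -, hpos, l, hl, hkl⟩ := exists_simple_sub_comb P hkΔ c hc hck
  refine ⟨i, hi, hpos, l, ?_, hkl⟩
  change P.root l ∈ natSpan P Δ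
  rw [hl]
  exact (mem_natSpan_iff P Δ _).mpr ⟨_, support_tsub_subset hc _, rfl⟩

/-- For an indivisible positive non-simple root `α` there is a simple root `β` with
`(β^v, α) > 0` such that `s_β(α)` is positive. -/
theorem exists_simple_pairing_pos {Δ : Set ι} (hΔ : IsSimpleSys P Δ) {k : ι}
    (hk : k ∈ posOf P Δ) (hkΔ : k ∉ Δ) (hind : IsIndiv P k) :
    ∃ i ∈ Δ, 0 < P.pairing k i ∧ P.reflectionPerm i k ∈ posOf P Δ := by
  obtain ⟨i, hi, hpos, -⟩ := exists_simple_sub P hk hkΔ
  refine ⟨i, hi, hpos, ?_⟩
  rcases reflectionPerm_mem_posOf_or P hΔ hi hk with h | ⟨m, hm⟩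
  · exact h
  · exfalso
    rcases eq_one_or_two_of_root_eq_nsmul P hm with rfl | rfl
    · rw [one_smul] at hm
      exact hkΔ (P.root.injective hm ▸ hi)
    · apply hind i
      rw [hm, ofNat_zsmul]

end Groth.Agent.Lib.RootDSimple
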