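import Mathlib

/-!
# The integral root datum attached to a crystallographic root pairing

For a finite crystallographic root pairing `P` over a domain of characteristic zero, `Z P` is the
root pairing over `ℤ` on the root lattice `Λ = P.rootSpan ℤ` and its dual `Hom(Λ, ℤ)`, with the same
index set, the same permutations `reflectionPerm` and the same Cartan integers.  It lets results on
root data over the integers be transported to `P`.  (helper58.)
-/

set_option autoImplicit false

namespace Groth.Agent.Lib.RootDZ58

open RootPairing Module

variable {ι R M N : Type*} [CommRing R] [CharZero R] [IsDomain R] [AddCommGroup M] [Module R M]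
  [AddCommGroup N] [Module R N] (P : RootPairing ι R M N)

include P in
theorem isAddTorsionFree_weight : IsAddTorsionFree M := by
  have : Module.IsReflexive R M := Module.IsReflexive.of_isPerfPair P.toLinearMap
  exact .of_isTorsionFree R M

instance instTorsionFreeRootSpan : Module.IsTorsionFree ℤ (P.rootSpan ℤ) := by
  have := isAddTorsionFree_weight P
  infer_instance

variable [Finite ι]

instance instFreeRootSpan : Module.Free ℤ (P.rootSpan ℤ) := inferInstance

instance instReflexiveRootSpan : Module.IsReflexive ℤ (P.rootSpan ℤ) := inferInstance

variable [P.IsCrystallographic]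

omit [CharZero R] [IsDomain R] [Finite ι] [P.IsCrystallographic] in
theorem rootSpanMem_injective : Function.Injective (P.rootSpanMem ℤ) := by
  intro i j h
  exact P.root.injective (congrArg Subtype.val h)

theorem coroot'In_injective : Function.Injective (P.coroot'In ℤ) := by
  intro i j h
  have := isAddTorsionFree_weight P
  have key := P.injOn_dualMap_subtype_span_root_coroot (Set.mem_range_self i)
    (Set.mem_range_self j)
  apply P.coroot.injective
  apply key
  -- the two functionals agree on the `R`-span of the roots
  apply LinearMap.ext_on_range (v := fun k : ι => (⟨P.root k, Submodule.subset_span ⟨k, rfl⟩⟩ :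
    Submodule.span R (Set.range P.root)))
  · rw [eq_top_iff]
    rintro ⟨x, hx⟩ -
    induction hx using Submodule.span_induction with
    | mem x hx =>
      obtain ⟨k, rfl⟩ := hx
      exact Submodule.subset_span ⟨k, rfl⟩
    | zero => exact Submodule.zero_mem _
    | add x y hx hy h1 h2 => exact Submodule.add_mem _ h1 h2
    | smul a x hx h1 => exact Submodule.smul_mem _ a h1
  · intro k
    have h1 := congrArg (fun f => algebraMap ℤ R (f (P.rootSpanMem ℤ k))) h
    simp only [coroot'In_rootSpanMem_eq_pairingIn, algebraMap_pairingIn] at h1
    simpa using h1

/-- The integral root datum attached to `P`. -/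
noncomputable def Z : RootPairing ι ℤ (P.rootSpan ℤ) (Module.Dual ℤ (P.rootSpan ℤ)) where
  toLinearMap := Module.Dual.eval ℤ (P.rootSpan ℤ)
  isPerfPair_toLinearMap := inferInstance
  root := ⟨P.rootSpanMem ℤ, rootSpanMem_injective P⟩
  coroot := ⟨P.coroot'In ℤ, coroot'In_injective P⟩
  root_coroot_two i := by
    simp [Module.Dual.eval_apply]
  reflectionPerm := P.reflectionPerm
  reflectionPerm_root i j := by
    apply Subtype.ext
    have h := P.reflectionPerm_root i j
    simp only [Function.Embedding.coeFn_mk, Module.Dual.eval_apply,
      coroot'In_rootSpanMem_eq_pairingIn, Submodule.coe_sub, Submodule.coe_smul]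
    rw [← h, root_coroot_eq_pairing, ← P.algebraMap_pairingIn ℤ, ← Int.cast_smul_eq_zsmul R]
    simp
  reflectionPerm_coroot i j := by
    simp only [Function.Embedding.coeFn_mk, Module.Dual.eval_apply,
      coroot'In_rootSpanMem_eq_pairingIn]
    apply LinearMap.ext_on_range (v := P.rootSpanMem ℤ)
    · rw [eq_top_iff]
      rintro ⟨x, hx⟩ -
      induction hx using Submodule.span_induction with
      | mem x hx =>
        obtain ⟨k, rfl⟩ := hx
        exact Submodule.subset_span ⟨k, rfl⟩
      | zero => exact Submodule.zero_mem _
      | add x y hx hy h1 h2 => exact Submodule.add_mem _ h1 h2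
      | smul a x hx h1 => exact Submodule.smul_mem _ a h1
    · intro k
      simp only [LinearMap.sub_apply, LinearMap.smul_apply, coroot'In_rootSpanMem_eq_pairingIn,
        smul_eq_mul]
      apply FaithfulSMul.algebraMap_injective ℤ R
      have h := congrArg (fun y => P.toLinearMap (P.root k) y) (P.reflectionPerm_coroot i j)
      simp only [map_sub, map_smul, smul_eq_mul, root_coroot_eq_pairing] at h
      simp only [map_sub, map_mul, algebraMap_pairingIn]
      exact h

end Groth.Agent.Lib.RootDZ58
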