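import Groth.Agent.Lib.RootDZ58
import Groth.Agent.Lib.RootDWord
import Groth.Agent.Lib.RootDQuad58

/-!
# Transport between a crystallographic root pairing and its integral root datum

API for `Groth.Agent.Lib.RootDZ58.Z`, and consequences obtained from the theory of root data over
the integers (`RootD.IsSimpleSys`).  (helper58.)
-/

set_option autoImplicit false
open RootD RootPairing

namespace Groth.Agent.Lib.RootDZ58

open Groth.Agent.Lib.RootDWeyl Groth.Agent.S2953 Groth.Agent.Lib.RootDWord

variable {ι R M N : Type*} [CommRing R] [CharZero R] [IsDomain R] [AddCommGroup M] [Module R M]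
  [AddCommGroup N] [Module R N] (P : RootPairing ι R M N) [Finite ι] [P.IsCrystallographic]

@[simp] theorem Z_root_coe (i : ι) : (((Z P).root i : P.rootSpan ℤ) : M) = P.root i := rfl

theorem Z_root (i : ι) : (Z P).root i = P.rootSpanMem ℤ i := rfl

theorem Z_coroot (i : ι) : (Z P).coroot i = P.coroot'In ℤ i := rfl

@[simp] theorem Z_reflectionPerm (i : ι) : (Z P).reflectionPerm i = P.reflectionPerm i := rfl

theorem Z_pairing (i j : ι) : (Z P).pairing i j = P.pairingIn ℤ i j := rfl

theorem wprod_smul_idx (l : List ι) (i : ι) :
    wprod (Z P) l • i = wprod P l • i := by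
  induction l with
  | nil => simp
  | cons a l ih =>
    rw [wprod_cons, wprod_cons, mul_smul, mul_smul, ih, smul_idx, smul_idx, Z_reflectionPerm]

/-- In the reduced case every root of the integral datum is indivisible. -/
theorem isIndiv_Z [P.IsReduced] (k : ι) : IsIndiv (Z P) k := by
  intro j hjk
  have h : (2 : ℤ) • P.root j = P.root k := by
    have := congrArg Subtype.val hjk
    simpa using this
  have hdep : ¬ LinearIndependent R ![P.root k, P.root j] := by
    rw [LinearIndependent.pair_iff]
    intro hli
    have h' : (2 : R) • P.root j = P.root k := by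
      rw [← h, ← Int.cast_smul_eq_zsmul R]; norm_num
    have := hli 1 (-2) (by rw [one_smul, neg_smul, h', add_neg_cancel])
    exact one_ne_zero this.1
  have := isAddTorsionFree_weight P
  rcases IsReduced.eq_or_eq_neg (P := P) k j hdep with h1 | h1
  · rw [h1] at h
    have : P.root j = 0 := by
      have : (2 : ℤ) • P.root j - P.root j = 0 := by rw [h, sub_self]
      rw [two_smul, add_sub_cancel_right] at this
      exact this
    exact P.ne_zero j this
  · rw [h1] at h
    have h3 : (3 : ℤ) • P.root j = 0 := by
      have : (2 : ℤ) • P.root j + P.root j = 0 := by rw [h, neg_add_cancel]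
      rw [← this]
      module
    have : P.root j = 0 := by
      rcases smul_eq_zero.mp h3 with h' | h'
      · norm_num at h'
      · exact h'
    exact P.ne_zero j this

/-- Induction on roots from a simple system of the integral datum, in the reduced case. -/
theorem induction_Z [P.IsReduced] {Δ : Set ι} (hΔ : IsSimpleSys (Z P) Δ) {p : ι → Prop}
    (h₁ : ∀ i ∈ Δ, p i) (h₂ : ∀ i j, p i → j ∈ Δ → p (P.reflectionPerm j i)) (k : ι) : p k := by
  obtain ⟨l, hl, i, hi, hli⟩ := exists_wprod_smul_eq (Z P) hΔ k (isIndiv_Z P k)
  rw [← hli]
  clear hli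
  induction l with
  | nil => simpa using h₁ i hi
  | cons a l ih =>
    rw [wprod_cons, mul_smul, smul_idx, Z_reflectionPerm]
    exact h₂ _ a (ih (fun c hc => hl c (List.mem_cons_of_mem _ hc))) (hl a List.mem_cons_self)

/-- Linear independence over `ℤ`, in the ambient module, of the simple roots of a simple system of
the integral datum. -/
theorem linearIndepOn_root_of_Z {Δ : Set ι} (hΔ : IsSimpleSys (Z P) Δ) :
    LinearIndepOn ℤ (fun i : ι => (P.root i : M)) Δ := by
  have h := hΔ.linInd
  have h2 := h.map_injOn (P.rootSpan ℤ).subtype (Submodule.injective_subtype _).injOn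
  exact h2

open Groth.Agent.Lib.RootDQuad58 in
omit [CharZero R] [IsDomain R] [Finite ι] in
/-- Presentation of the coroot lattice from an abstract simple system: an induction principle along
simple reflections and linear independence of the simple coroots. -/
theorem ker_linearCombination_coroot_of {Δ : Set ι}
    (hind : ∀ {p : ι → Prop}, (∀ i ∈ Δ, p i) →
      (∀ i j, p i → j ∈ Δ → p (P.reflectionPerm j i)) → ∀ k, p k)
    (hli : LinearIndepOn ℤ (fun i : ι => (P.coroot i : N)) Δ) :
    LinearMap.ker (Finsupp.linearCombination ℤ (fun i : ι => (P.coroot i : N))) =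
      Submodule.span ℤ (Set.range (rel P)) := by
  classical
  set φ := Finsupp.linearCombination ℤ (fun i : ι => (P.coroot i : N)) with hφ
  set Rel := Submodule.span ℤ (Set.range (rel P)) with hRel
  set S := Finsupp.supported ℤ ℤ Δ with hS
  have hsingle : ∀ j ∈ Δ, Finsupp.single j (1 : ℤ) ∈ Rel ⊔ S := by
    intro j hj
    refine Submodule.mem_sup_right ?_
    rw [hS, Finsupp.mem_supported]
    intro k hk
    rw [Finsupp.support_single _ one_ne_zero, Finset.coe_singleton,
      Set.mem_singleton_iff] at hk
    rw [hk]; exact hj
  apply le_antisymm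
  · have hgen : ∀ i : ι, Finsupp.single i (1 : ℤ) ∈ Rel ⊔ S := by
      refine hind (p := fun i => Finsupp.single i (1 : ℤ) ∈ Rel ⊔ S) hsingle ?_
      intro i j hi hj
      have hr : rel P (j, i) ∈ Rel ⊔ S :=
        Submodule.mem_sup_left (Submodule.subset_span ⟨(j, i), rfl⟩)
      have : Finsupp.single (P.reflectionPerm j i) (1 : ℤ) =
          rel P (j, i) + Finsupp.single i 1 - P.pairingIn ℤ j i • Finsupp.single j 1 := by
        simp only [rel]
        abel
      rw [this]
      exact Submodule.sub_mem _ (Submodule.add_mem _ hr hi)
        (Submodule.smul_mem _ _ (hsingle j hj))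
    have htop : Rel ⊔ S = ⊤ := by
      rw [eq_top_iff]
      intro x _
      induction x using Finsupp.induction_linear with
      | zero => exact Submodule.zero_mem _
      | add f g hf hg => exact Submodule.add_mem _ (hf Submodule.mem_top) (hg Submodule.mem_top)
      | single a c =>
        have : Finsupp.single a c = c • Finsupp.single a (1 : ℤ) := by
          rw [Finsupp.smul_single, smul_eq_mul, mul_one]
        rw [this]
        exact Submodule.smul_mem _ _ (hgen a)
    intro x hx
    have hx' : x ∈ Rel ⊔ S := by rw [htop]; exact Submodule.mem_top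
    obtain ⟨r, hr, s, hs, rfl⟩ := Submodule.mem_sup.mp hx'
    have hrφ : φ r = 0 := by
      have : Rel ≤ LinearMap.ker φ := by
        rw [hRel, Submodule.span_le]
        rintro _ ⟨p, rfl⟩
        exact linearCombination_rel P p
      exact this hr
    have hsφ : φ s = 0 := by
      have := LinearMap.mem_ker.mp hx
      rwa [map_add, hrφ, zero_add] at this
    have hs0 : s = 0 := linearIndepOn_iff.mp hli s hs hsφ
    rw [hs0, add_zero]
    exact hr
  · rw [hRel, Submodule.span_le]
    rintro _ ⟨p, rfl⟩
    exact linearCombination_rel P p

/-- Presentation of the coroot lattice of a finite reduced crystallographic root pairing over a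
domain of characteristic zero. -/
theorem ker_linearCombination_coroot [P.IsReduced] :
    LinearMap.ker (Finsupp.linearCombination ℤ (fun i : ι => (P.coroot i : N))) =
      Submodule.span ℤ (Set.range fun p : ι × ι =>
        Finsupp.single (P.reflectionPerm p.1 p.2) (1 : ℤ) - Finsupp.single p.2 1 +
          P.pairingIn ℤ p.1 p.2 • Finsupp.single p.1 1) := by
  have : Module.IsReflexive R N := Module.IsReflexive.of_isPerfPair P.toLinearMap.flip
  have : Module.IsReflexive R M := Module.IsReflexive.of_isPerfPair P.toLinearMap
  obtain ⟨Δ, hΔ⟩ := exists_isSimpleSys (Z P.flip)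
  exact ker_linearCombination_coroot_of P
    (fun {p} h₁ h₂ k => induction_Z P.flip hΔ h₁ h₂ k) (linearIndepOn_root_of_Z P.flip hΔ)

end Groth.Agent.Lib.RootDZ58
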