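import Groth.Prelude.Def_W4c1hurwitzcptBd
import Mathlib

/-!
# Free submodules of full rank of `k⟦x⟧` over `k⟦t⟧`, `t = x ^ p`

A submodule of `RootDisk p k` which is free of rank `p` over `k⟦t⟧` has a basis whose `x`-adic
orders are pairwise distinct modulo `p`.
-/

set_option autoImplicit false
set_option linter.unusedSectionVars false
universe u
open W4c1hurwitzcpt

namespace Groth.Agent.Lib.RootDiskBasis57

variable {k : Type u} [Field k] {p : ℕ} [NeZero p]

/-- the underlying power series -/
noncomputable def ps (f : RootDisk p k) : PowerSeries k := RootDisk.val f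

theorem ps_add (f g : RootDisk p k) : ps (f + g) = ps f + ps g := rfl
theorem ps_sub (f g : RootDisk p k) : ps (f - g) = ps f - ps g := rfl
theorem ps_zero : ps (0 : RootDisk p k) = 0 := rfl
theorem ps_injective : Function.Injective (ps : RootDisk p k → PowerSeries k) := fun _ _ h => h

theorem ps_smul (a : PowerSeries k) (s : RootDisk p k) :
    ps (a • s) = PowerSeries.expand p (NeZero.ne p) a * ps s := rfl

theorem order_ps_smul (a : PowerSeries k) (s : RootDisk p k) :
    (ps (a • s)).order = p • a.order + (ps s).order := by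
  rw [ps_smul, PowerSeries.order_mul, PowerSeries.order_expand]

theorem order_ps_smul_nat (a : PowerSeries k) (s : RootDisk p k) (m n : ℕ)
    (ha : a.order = m) (hs : (ps s).order = n) :
    (ps (a • s)).order = ((p * m + n : ℕ) : ℕ∞) := by
  rw [order_ps_smul, ha, hs]
  push_cast
  rw [nsmul_eq_mul]

/-- coefficients of `(C c * X ^ e) • s` -/
theorem coeff_monomial_smul (c : k) (e : ℕ) (s : RootDisk p k) (i : ℕ) :
    PowerSeries.coeff i (ps ((PowerSeries.C c * PowerSeries.X ^ e : PowerSeries k) • s)) =
      if p * e ≤ i then c * PowerSeries.coeff (i - p * e) (ps s) else 0 := by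
  have h : PowerSeries.expand p (NeZero.ne p) (PowerSeries.C c * PowerSeries.X ^ e : PowerSeries k) =
      PowerSeries.C c * PowerSeries.X ^ (p * e) := by
    rw [map_mul, PowerSeries.expand_C, map_pow, PowerSeries.expand_X, ← pow_mul]
  rw [ps_smul, h, mul_assoc, PowerSeries.coeff_C_mul, mul_comm (PowerSeries.X ^ (p * e)),
    PowerSeries.coeff_mul_X_pow']
  split_ifs <;> simp

/-- the coordinate series of `f` in residue class `j` -/
noncomputable def coord (j : ℕ) (f : RootDisk p k) : PowerSeries k :=
  PowerSeries.mk fun n => PowerSeries.coeff (p * n + j) (ps f)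

/-- the element `x ^ j` of the root disk -/
noncomputable def xpow (p : ℕ) (k : Type u) [Field k] (j : ℕ) : RootDisk p k :=
  (PowerSeries.X ^ j : PowerSeries k)

theorem ps_xpow (j : ℕ) : ps (xpow p k j) = PowerSeries.X ^ j := rfl

theorem eq_sum_coord (f : RootDisk p k) :
    f = ∑ j : Fin p, coord (j : ℕ) f • xpow p k (j : ℕ) := by
  apply ps_injective
  ext m
  have hp : 0 < p := Nat.pos_of_ne_zero (NeZero.ne p)
  have hsum : ps (∑ j : Fin p, coord (j : ℕ) f • xpow p k (j : ℕ)) =
      ∑ j : Fin p, ps (coord (j : ℕ) f • xpow p k (j : ℕ)) :=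
    map_sum (RootDisk.val (p := p) (k := k)) _ _
  rw [hsum, map_sum]
  rw [Finset.sum_eq_single (⟨m % p, Nat.mod_lt m hp⟩ : Fin p)]
  · rw [ps_smul, ps_xpow]
    show _ = PowerSeries.coeff m (PowerSeries.expand p (NeZero.ne p) (coord (m % p) f) *
      PowerSeries.X ^ (m % p))
    rw [PowerSeries.coeff_mul_X_pow', if_pos (Nat.mod_le m p), PowerSeries.coeff_expand,
      if_pos (Nat.dvd_sub_mod m)]
    unfold coord
    rw [PowerSeries.coeff_mk]
    have h1 := Nat.mul_div_cancel' (Nat.dvd_sub_mod (n := p) m)
    have h2 := Nat.mod_le m p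
    have h3 : p * ((m - m % p) / p) + m % p = m := by omega
    rw [h3]
  · intro j _ hj
    rw [ps_smul, ps_xpow, PowerSeries.coeff_mul_X_pow']
    split_ifs with h1
    · rw [PowerSeries.coeff_expand, if_neg]
      intro hdvd
      apply hj
      apply Fin.ext
      show (j : ℕ) = m % p
      obtain ⟨q, hq⟩ := hdvd
      have : m = (j : ℕ) + p * q := by omega
      rw [this, Nat.add_mul_mod_self_left, Nat.mod_eq_of_lt j.2]
    · rfl
  · intro h; exact absurd (Finset.mem_univ _) h

instance instFinite : Module.Finite (PowerSeries k) (RootDisk p k) := by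
  classical
  refine ⟨⟨Finset.univ.image (fun j : Fin p => xpow p k (j : ℕ)), ?_⟩⟩
  rw [eq_top_iff]
  intro f _
  rw [eq_sum_coord f]
  apply Submodule.sum_mem
  intro j _
  apply Submodule.smul_mem
  apply Submodule.subset_span
  simp

section Main

variable (M : Submodule (PowerSeries k) (RootDisk p k))

/-- orders of elements of `M` -/
def ordSet : Set ℕ := {n | ∃ f ∈ M, (ps f).order = (n : ℕ∞)}

/-- the residues mod `p` attained by orders of elements of `M` -/
def Cls : Type := {r : Fin p // ∃ n, n ∈ ordSet M ∧ n % p = (r : ℕ)}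

noncomputable instance : Fintype (Cls M) := by
  classical
  unfold Cls
  infer_instance

open Classical in
/-- minimal order in the class -/
noncomputable def nmin (r : Cls M) : ℕ := Nat.find r.2

theorem nmin_spec (r : Cls M) : nmin M r ∈ ordSet M ∧ nmin M r % p = (r.1 : ℕ) := by
  classical
  exact Nat.find_spec r.2

theorem nmin_le (r : Cls M) (n : ℕ) (hn : n ∈ ordSet M) (h : n % p = (r.1 : ℕ)) :
    nmin M r ≤ n := by
  classical
  exact Nat.find_min' r.2 ⟨hn, h⟩

/-- an element of minimal order in the class -/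
noncomputable def hsel (r : Cls M) : RootDisk p k := Classical.choose (nmin_spec M r).1

theorem hsel_mem (r : Cls M) : hsel M r ∈ M := (Classical.choose_spec (nmin_spec M r).1).1

theorem hsel_order (r : Cls M) : (ps (hsel M r)).order = (nmin M r : ℕ∞) :=
  (Classical.choose_spec (nmin_spec M r).1).2

theorem coeff_hsel_ne (r : Cls M) : PowerSeries.coeff (nmin M r) (ps (hsel M r)) ≠ 0 :=
  (PowerSeries.order_eq_nat.mp (hsel_order M r)).1

theorem coeff_hsel_lt (r : Cls M) (i : ℕ) (hi : i < nmin M r) :
    PowerSeries.coeff i (ps (hsel M r)) = 0 :=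
  (PowerSeries.order_eq_nat.mp (hsel_order M r)).2 i hi

theorem hsel_indep :
    LinearIndependent (PowerSeries k) (fun r : Cls M => (⟨hsel M r, hsel_mem M r⟩ : M)) := by
  classical
  rw [Fintype.linearIndependent_iff]
  intro g hg
  by_contra hcon
  push Not at hcon
  have hg' : ∑ r : Cls M, g r • hsel M r = 0 := by
    have := congrArg (M.subtype) hg
    rw [map_sum] at this
    simpa using this
  let N : Cls M → ℕ := fun r => p * (g r).order.toNat + nmin M r
  have hs : (Finset.univ.filter fun r : Cls M => g r ≠ 0).Nonempty := by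
    obtain ⟨r, hr⟩ := hcon
    exact ⟨r, Finset.mem_filter.mpr ⟨Finset.mem_univ _, hr⟩⟩
  obtain ⟨r₀, hr₀, hmin⟩ := Finset.exists_min_image _ N hs
  have hr₀' : g r₀ ≠ 0 := (Finset.mem_filter.mp hr₀).2
  have hord : ∀ r : Cls M, g r ≠ 0 → (ps (g r • hsel M r)).order = (N r : ℕ∞) := by
    intro r hr
    apply order_ps_smul_nat _ _ _ _ _ (hsel_order M r)
    rw [ENat.natCast_toNat]
    rw [Ne, PowerSeries.order_eq_top]
    exact hr
  have hco : PowerSeries.coeff (N r₀) (ps (∑ r : Cls M, g r • hsel M r)) =
      PowerSeries.coeff (N r₀) (ps (0 : RootDisk p k)) := by rw [hg']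
  have hsum : ps (∑ r : Cls M, g r • hsel M r) = ∑ r : Cls M, ps (g r • hsel M r) :=
    map_sum (RootDisk.val (p := p) (k := k)) _ _
  rw [hsum, map_sum, ps_zero, map_zero, Finset.sum_eq_single r₀] at hco
  · exact (PowerSeries.order_eq_nat.mp (hord r₀ hr₀')).1 hco
  · intro r _ hne
    by_cases hr : g r = 0
    · rw [hr, zero_smul, ps_zero, map_zero]
    · apply PowerSeries.coeff_of_lt_order
      rw [hord r hr]
      have h1 : N r₀ ≤ N r := hmin r (Finset.mem_filter.mpr ⟨Finset.mem_univ _, hr⟩)
      have h2 : N r₀ ≠ N r := by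
        intro heq
        apply hne
        have ha : N r₀ % p = (r₀.1 : ℕ) := by
          simp only [N]
          rw [Nat.mul_add_mod, (nmin_spec M r₀).2]
        have hb : N r % p = (r.1 : ℕ) := by
          simp only [N]
          rw [Nat.mul_add_mod, (nmin_spec M r).2]
        rw [heq, hb] at ha
        exact (Subtype.ext (Fin.ext ha))
      exact_mod_cast lt_of_le_of_ne h1 h2
  · intro h; exact absurd (Finset.mem_univ _) h

theorem approx (n : ℕ) : ∀ f ∈ M, ∃ f' ∈ Submodule.span (PowerSeries k) (Set.range (hsel M)),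
    ∀ i, i < n → PowerSeries.coeff i (ps (f - f')) = 0 := by
  have hle : Submodule.span (PowerSeries k) (Set.range (hsel M)) ≤ M := by
    rw [Submodule.span_le]
    rintro _ ⟨r, rfl⟩
    exact hsel_mem M r
  induction n with
  | zero =>
    intro f _
    exact ⟨0, Submodule.zero_mem _, fun i hi => absurd hi (Nat.not_lt_zero i)⟩
  | succ n ih =>
    intro f hf
    obtain ⟨f', hf', hlt⟩ := ih f hf
    by_cases hn : PowerSeries.coeff n (ps (f - f')) = 0
    · refine ⟨f', hf', fun i hi => ?_⟩
      rcases Nat.lt_succ_iff_lt_or_eq.mp hi with h | h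
      · exact hlt i h
      · rw [h]; exact hn
    · have hu : f - f' ∈ M := M.sub_mem hf (hle hf')
      have hord : (ps (f - f')).order = (n : ℕ∞) := PowerSeries.order_eq_nat.mpr ⟨hn, hlt⟩
      have hp : 0 < p := Nat.pos_of_ne_zero (NeZero.ne p)
      let r : Cls M := ⟨⟨n % p, Nat.mod_lt n hp⟩, ⟨n, ⟨f - f', hu, hord⟩, rfl⟩⟩
      have h1 : nmin M r ≤ n := nmin_le M r n ⟨f - f', hu, hord⟩ rfl
      have h2 : nmin M r % p = n % p := (nmin_spec M r).2
      have h3 : (n - nmin M r) % p = 0 := Nat.sub_mod_eq_zero_of_mod_eq h2.symm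
      set e := (n - nmin M r) / p with he
      have h4 : p * e = n - nmin M r := Nat.mul_div_cancel' (Nat.dvd_of_mod_eq_zero h3)
      set c : k := PowerSeries.coeff n (ps (f - f')) / PowerSeries.coeff (nmin M r) (ps (hsel M r))
        with hc
      refine ⟨f' + (PowerSeries.C c * PowerSeries.X ^ e : PowerSeries k) • hsel M r,
        Submodule.add_mem _ hf' (Submodule.smul_mem _ _ (Submodule.subset_span ⟨r, rfl⟩)), ?_⟩
      intro i hi
      have hsub : f - (f' + (PowerSeries.C c * PowerSeries.X ^ e : PowerSeries k) • hsel M r) =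
          (f - f') - (PowerSeries.C c * PowerSeries.X ^ e : PowerSeries k) • hsel M r := by abel
      rw [hsub, ps_sub, map_sub, coeff_monomial_smul]
      rcases Nat.lt_succ_iff_lt_or_eq.mp hi with h | h
      · rw [hlt i h, zero_sub, neg_eq_zero]
        split_ifs with h5
        · rw [coeff_hsel_lt M r (i - p * e) (by omega), mul_zero]
        · rfl
      · subst h
        rw [if_pos (by omega)]
        have h6 : i - p * e = nmin M r := by omega
        rw [h6, hc, div_mul_cancel₀ _ (coeff_hsel_ne M r), sub_self]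

theorem mem_of_approx (N : Submodule (PowerSeries k) (RootDisk p k)) (f : RootDisk p k)
    (h : ∀ n : ℕ, ∃ f' ∈ N, ∀ i, i < p * n → PowerSeries.coeff i (ps (f - f')) = 0) : f ∈ N := by
  rw [← Submodule.Quotient.mk_eq_zero]
  have hI : Ideal.span {(PowerSeries.X : PowerSeries k)} ≠ ⊤ := by
    rw [Ne, Ideal.span_singleton_eq_top, PowerSeries.isUnit_iff_constantCoeff]
    simp
  have hk := Ideal.iInf_pow_smul_eq_bot_of_isLocalRing (R := PowerSeries k)
    (M := RootDisk p k ⧸ N) _ hI
  have hmem : (Submodule.Quotient.mk f : RootDisk p k ⧸ N) ∈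
      (⨅ i : ℕ, Ideal.span {(PowerSeries.X : PowerSeries k)} ^ i •
        (⊤ : Submodule (PowerSeries k) (RootDisk p k ⧸ N))) := by
    rw [Submodule.mem_iInf]
    intro n
    obtain ⟨f', hf', hlt⟩ := h n
    have hdvd : (PowerSeries.X : PowerSeries k) ^ (p * n) ∣ ps (f - f') :=
      PowerSeries.X_pow_dvd_iff.mpr hlt
    obtain ⟨w0, hw⟩ := hdvd
    let w : RootDisk p k := w0
    have heq : f - f' = ((PowerSeries.X : PowerSeries k) ^ n) • w := by
      apply ps_injective
      rw [ps_smul, map_pow, PowerSeries.expand_X, ← pow_mul]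
      exact hw
    have hmk : (Submodule.Quotient.mk f : RootDisk p k ⧸ N) =
        ((PowerSeries.X : PowerSeries k) ^ n) • Submodule.Quotient.mk w := by
      rw [← Submodule.Quotient.mk_smul, ← heq, Submodule.Quotient.mk_sub]
      rw [(Submodule.Quotient.mk_eq_zero N).mpr hf', sub_zero]
    rw [hmk]
    exact Submodule.smul_mem_smul
      (Ideal.pow_mem_pow (Ideal.mem_span_singleton_self _) n) Submodule.mem_top
  rw [hk] at hmem
  exact (Submodule.mem_bot _).mp hmem

theorem span_hsel : Submodule.span (PowerSeries k) (Set.range (hsel M)) = M := by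
  apply le_antisymm
  · rw [Submodule.span_le]
    rintro _ ⟨r, rfl⟩
    exact hsel_mem M r
  · intro f hf
    apply mem_of_approx
    intro n
    exact approx M (p * n) f hf

theorem exists_basis (bM : Module.Basis (Fin p) (PowerSeries k) M) :
    ∃ g : Module.Basis (Fin p) (PowerSeries k) M, ∀ i j : Fin p, i ≠ j →
      ¬ Nat.ModEq p (PowerSeries.order (RootDisk.val ((g i : M) : RootDisk p k))).toNat
        (PowerSeries.order (RootDisk.val ((g j : M) : RootDisk p k))).toNat := by
  classical
  let v : Cls M → M := fun r => ⟨hsel M r, hsel_mem M r⟩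
  have hspan : ⊤ ≤ Submodule.span (PowerSeries k) (Set.range v) := by
    intro x _
    have hx : (x : RootDisk p k) ∈ Submodule.span (PowerSeries k) (Set.range (hsel M)) := by
      rw [span_hsel]; exact x.2
    have hmap : Submodule.map M.subtype (Submodule.span (PowerSeries k) (Set.range v)) =
        Submodule.span (PowerSeries k) (Set.range (hsel M)) := by
      rw [Submodule.map_span, ← Set.range_comp]
      rfl
    rw [← hmap] at hx
    obtain ⟨y, hy, hyx⟩ := hx
    have : y = x := Subtype.ext hyx
    rw [← this]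
    exact hy
  let B : Module.Basis (Cls M) (PowerSeries k) M := Module.Basis.mk (hsel_indep M) hspan
  let e : Cls M ≃ Fin p := B.indexEquiv bM
  refine ⟨B.reindex e, ?_⟩
  intro i j hij hmod
  have hgi : ∀ i : Fin p, ((B.reindex e i : M) : RootDisk p k) = hsel M (e.symm i) := by
    intro i
    rw [Module.Basis.reindex_apply, Module.Basis.mk_apply]
  have hoi : ∀ i : Fin p, (PowerSeries.order (RootDisk.val ((B.reindex e i : M) :
      RootDisk p k))).toNat = nmin M (e.symm i) := by
    intro i
    rw [hgi i]
    show ((ps (hsel M (e.symm i))).order).toNat = _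
    rw [hsel_order]
    rfl
  rw [hoi i, hoi j] at hmod
  unfold Nat.ModEq at hmod
  rw [(nmin_spec M (e.symm i)).2, (nmin_spec M (e.symm j)).2] at hmod
  apply hij
  have : e.symm i = e.symm j := Subtype.ext (Fin.ext hmod)
  exact e.symm.injective this

end Main

end Groth.Agent.Lib.RootDiskBasis57
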