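import Mathlib

namespace Groth.Agent.Lib.RootSum57

open Finset

variable {K : Type*} [Field K]

/-- closed form of `∑_{i<n} (i(i-N)/2 + c) ω^i`, in telescoped form. -/
theorem sum_quad_geom (h2 : (2 : K) ≠ 0) (ω : K) (hω : ω ≠ 1) (N c : K) (n : ℕ) :
    ∑ i ∈ range n, ((i : K) * ((i : K) - N) / 2 + c) * ω ^ i =
      ((1 / (2 * (ω - 1))) * (n : K) ^ 2 +
        ((-N / 2 - 2 * (1 / (2 * (ω - 1))) * ω) / (ω - 1)) * (n : K) +
        (c - (1 / (2 * (ω - 1))) * ω - ((-N / 2 - 2 * (1 / (2 * (ω - 1))) * ω) / (ω - 1)) * ω) / (ω - 1)) * ω ^ n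
      - (c - (1 / (2 * (ω - 1))) * ω - ((-N / 2 - 2 * (1 / (2 * (ω - 1))) * ω) / (ω - 1)) * ω) / (ω - 1) := by
  have hω' : ω - 1 ≠ 0 := sub_ne_zero.mpr hω
  induction n with
  | zero => simp
  | succ n ih =>
    rw [sum_range_succ, ih]
    push_cast
    field_simp
    ring

theorem sum_quad_root (h2 : (2 : K) ≠ 0) (ω : K) (hω : ω ≠ 1) (n : ℕ) (hn : ω ^ n = 1) (c : K) :
    ∑ i ∈ range n, ((i : K) * ((i : K) - n) / 2 + c) * ω ^ i = - (n : K) * ω / (ω - 1) ^ 2 := by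
  have hω' : ω - 1 ≠ 0 := sub_ne_zero.mpr hω
  rw [sum_quad_geom h2 ω hω (n : K) c n, hn]
  field_simp
  ring

theorem sum_quad_one (h6 : (6 : K) ≠ 0) (N c : K) (n : ℕ) :
    ∑ i ∈ range n, ((i : K) * ((i : K) - N) / 2 + c) =
      (n : K) * ((n : K) - 1) * (2 * (n : K) - 1) / 12 - N * (n : K) * ((n : K) - 1) / 4 + c * n := by
  have h2 : (2 : K) ≠ 0 := fun h => h6 (by linear_combination 3 * h)
  have h3 : (3 : K) ≠ 0 := fun h => h6 (by linear_combination 2 * h)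
  have h12 : (12 : K) ≠ 0 := by
    have : (12 : K) = 2 * 6 := by norm_num
    rw [this]; exact mul_ne_zero h2 h6
  have h4 : (4 : K) ≠ 0 := by
    have : (4 : K) = 2 * 2 := by norm_num
    rw [this]; exact mul_ne_zero h2 h2
  induction n with
  | zero => simp
  | succ n ih =>
    rw [sum_range_succ, ih]
    push_cast
    field_simp
    ring

theorem sum_f_zero (h6 : (6 : K) ≠ 0) (n : ℕ) :
    ∑ i ∈ range n, ((i : K) * ((i : K) - n) / 2 + ((n : K) ^ 2 - 1) / 12) = 0 := by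
  have h2 : (2 : K) ≠ 0 := fun h => h6 (by linear_combination 3 * h)
  have h12 : (12 : K) ≠ 0 := by
    have : (12 : K) = 2 * 6 := by norm_num
    rw [this]; exact mul_ne_zero h2 h6
  have h4 : (4 : K) ≠ 0 := by
    have : (4 : K) = 2 * 2 := by norm_num
    rw [this]; exact mul_ne_zero h2 h2
  rw [sum_quad_one h6]
  field_simp
  ring

end Groth.Agent.Lib.RootSum57
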