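import Groth.Agent.Lib.RpushQcqs31
import Groth.Agent.Lib.AcycBound31

/-!
# `f_* F ⟶ Rf_* F` for complexes of quasi-coherent acyclic modules, bounded case (helper31)

* `prop_homology_of_terms`, `cohIn_Q_of_terms`: cohomology of a complex with terms in a weak Serre
  class lies in the class.
* `isIso_unit_of_bound`: if `R^p f_*` preserves quasi-coherence and vanishes on quasi-coherent
  modules for `p > N`, the unit `f_* F ⟶ Rf_* F` is an isomorphism for every complex `F` of
  quasi-coherent `f_*`-acyclic modules.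
-/

set_option autoImplicit false
universe w v u
open CategoryTheory CategoryTheory.Limits AlgebraicGeometry TopologicalSpace Opposite

namespace Groth.Agent.RpushAcyc31

section WS

variable {C : Type u} [Category.{v} C] [Abelian C]

lemma prop_homology_of_terms (P : ObjectProperty C) [WSerre.IsWeakSerre P]
    (K : CochainComplex C ℤ) (hK : ∀ n, P (K.X n)) (i : ℤ) : P (K.homology i) := by
  have h1 : P (K.sc i).cycles :=
    P.prop_of_isLimit_kernelFork (K.sc i).cyclesIsKernel (hK _) (hK _)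
  exact P.prop_of_isColimit_cokernelCofork (K.sc i).homologyIsCokernel (hK _) h1

variable [HasDerivedCategory.{w} C]

lemma cohIn_Q_of_terms (P : ObjectProperty C) [WSerre.IsWeakSerre P]
    (K : CochainComplex C ℤ) (hK : ∀ n, P (K.X n)) :
    WSerre.cohIn P (DerivedCategory.Q.obj K) := fun i =>
  P.prop_of_iso ((DerivedCategory.homologyFunctorFactors C i).app K).symm
    (prop_homology_of_terms P K hK i)

end WS

attribute [local instance] HasDerivedCategory.standard

open Groth.Agent.Lib.QCohWeakSerre11 Groth.Agent.Lib.SigmaGE66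

lemma isQCohD_Q_of_terms {X : Scheme.{u}} (F : CochainComplex X.Modules ℤ)
    (hq : ∀ n : ℤ, Coh.IsQCoh (F.X n)) : DCoh.IsQCohD (DerivedCategory.Q.obj F) :=
  cohIn_Q_of_terms (QC X) F hq

lemma isQCoh_sg_X {X : Scheme.{u}} (F : CochainComplex X.Modules ℤ)
    (hq : ∀ n : ℤ, Coh.IsQCoh (F.X n)) (a n : ℤ) : Coh.IsQCoh ((sg F a).X n) := by
  by_cases h : a ≤ n
  · exact QC_of_iso (sgXIso F a n h).symm (hq n)
  · exact (QC X).prop_of_isZero (isZero_sg_X F a n h)

theorem isIso_unit_of_bound {X S : Scheme.{u}} (f : X ⟶ S)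
    [HasInjectiveResolutions X.Modules] [DCoh.HasRpush f] (N : ℤ)
    (h3 : ∀ F : X.Modules, Coh.IsQCoh F → ∀ p : ℕ, Coh.IsQCoh ((Coh.Rpush f p).obj F))
    (h4 : ∀ F : X.Modules, Coh.IsQCoh F → ∀ p : ℕ, N < (p : ℤ) →
      IsZero ((Coh.Rpush f p).obj F))
    (F : CochainComplex X.Modules ℤ) (hq : ∀ n : ℤ, Coh.IsQCoh (F.X n))
    (hac : ∀ (n : ℤ) (i : ℕ), 0 < i → IsZero ((Coh.Rpush f i).obj (F.X n))) :
    IsIso (((DCoh.pushKh f).totalRightDerivedUnit DerivedCategory.Qh
      (HomotopyCategory.quasiIso X.Modules (ComplexShape.up ℤ))).app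
      ((HomotopyCategory.quotient X.Modules (ComplexShape.up ℤ)).obj F)) := by
  haveI : IsGrothendieckAbelian.{u} X.Modules :=
    Groth.Agent.S0484.result (Opens.grothendieckTopology X) X.ringCatSheaf
  haveI : EnoughInjectives X.Modules := inferInstance
  haveI : PreservesFiniteLimits (Scheme.Modules.pushforward f) := inferInstance
  haveI : (Groth.Agent.AcycHocolim31.Φ (Scheme.Modules.pushforward f)).HasPointwiseRightDerivedFunctor
      (HomotopyCategory.quasiIso X.Modules (ComplexShape.up ℤ)) :=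
    Groth.Agent.KInjDerived31.hasPointwiseRightDerivedFunctor _ Groth.Agent.AcycHocolim31.hKinj
  refine Groth.Agent.AcycBound31.isIso_η_app_of_sg (Scheme.Modules.pushforward f)
    (DCoh.Rpush f) _ F (fun m => (Groth.Agent.RDPlus31.uAcyc_iff _ _).2 (hac m)) (fun i => ?_)
  -- choose `n` with `N - n ≤ i` and `-n ≤ i`
  let n : ℕ := max (N - i).toNat (-i).toNat
  have hn1 : N - (n : ℤ) ≤ i := by
    have : (N - i).toNat ≤ n := le_max_left _ _
    have h := Int.self_le_toNat (N - i)
    omega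
  have hn2 : -(n : ℤ) ≤ i := by
    have : (-i).toNat ≤ n := le_max_right _ _
    have h := Int.self_le_toNat (-i)
    omega
  refine ⟨-(n : ℤ) - 1, by omega, ?_⟩
  have hK := isQCohD_Q_of_terms F hq
  have hK' := isQCohD_Q_of_terms (sg F (-(n : ℤ) - 1)) (isQCoh_sg_X F hq _)
  refine Groth.Agent.AcycBound31.isIso_homology_map_of_truncGEπ (DCoh.Rpush f)
    (DerivedCategory.Q.map (sgι F (-(n : ℤ) - 1))) (-(n : ℤ)) i (fun m hm => ?_)
    ((Groth.Agent.RpushQcqs31.main f N h3 h4 _ hK').2 n i hn1)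
    ((Groth.Agent.RpushQcqs31.main f N h3 h4 _ hK).2 n i hn1)
  rw [Groth.Agent.Lib.PCohStupid.isIso_homologyFunctor_map_Q_iff]
  have e1 : IsIso ((sgι F (-(n : ℤ) - 1)).f (m - 1)) := isIso_sgι_f F _ (m - 1) (by omega)
  have e2 : IsIso ((sgι F (-(n : ℤ) - 1)).f m) := isIso_sgι_f F _ m (by omega)
  have e3 : IsIso ((sgι F (-(n : ℤ) - 1)).f (m + 1)) := isIso_sgι_f F _ (m + 1) (by omega)
  exact Groth.Agent.Lib.PCohStupid.isIso_homologyMap_of_f _ m inferInstance e2 inferInstance

end Groth.Agent.RpushAcyc31
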