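import Groth.Agent.Lib.H90RpushCoh

/-!
# Global sections of `R^q f_* M` over an affine base, as a linear equivalence (helper23)

Exported from the proof of `H90RpushCoh.finite_sections_Rpush_of_isAffine` (helper90).
-/

set_option autoImplicit false
set_option linter.style.haveILetI false
universe u

open CategoryTheory CategoryTheory.Limits AlgebraicGeometry TopologicalSpace Opposite Abelian

namespace Groth.Agent.Lib.RpushAffSections23

open Groth.Agent.Lib.RpushSections Groth.Agent.Lib.CohLoc Groth.Agent.Lib.H90RpushCoh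

variable {X S : Scheme.{u}} (f : X ⟶ S)

/-- `H^q(X, M) ≃ Γ(S, R^q f_* M)`, linearly over `Γ(S, O_S)`, for `S` affine, `f` quasi-compact
quasi-separated and `M` quasi-coherent; `X` is regarded over `Spec Γ(S, ⊤)` through `f`. -/
theorem exists_linearEquiv [HasInjectiveResolutions X.Modules] [QuasiCompact f] [QuasiSeparated f]
    [IsAffine S] (M : X.Modules) (hM : Coh.IsQCoh M) (q : ℕ) :
    letI : X.Over (Spec (CommRingCat.of Γ(S, ⊤))) := ⟨f ≫ S.isoSpec.hom⟩
    Nonempty (Coh.HH X M q ≃ₗ[Γ(S, ⊤)] Γ((Coh.Rpush f q).obj M, ⊤)) := by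
  letI : X.Over (Spec (CommRingCat.of Γ(S, ⊤))) := ⟨f ≫ S.isoSpec.hom⟩
  obtain ⟨Θ, -, hΘ⟩ := exists_sections_equiv f M q hM
  have htop : (⊤ : Opens S) ∈ Set.range (S.basicOpen : Γ(S, ⊤) → Opens S) :=
    ⟨1, S.basicOpen_one⟩
  let θ : Γ((Coh.Rpush f q).obj M, ⊤) ≃+ CohTop.HU (Coh.toAb M) q (f ⁻¹ᵁ ⊤) := Θ ⊤ htop
  let E : Coh.HH X M q ≃+ CohTop.HU (Coh.toAb M) q (f ⁻¹ᵁ ⊤) :=
    Groth.Agent.Lib.HBridge.HEquivHUTop (Coh.toAb M) q
  exact ⟨{ E.trans θ.symm with
      map_smul' := fun b x => by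
        change θ.symm (E (b • x)) = b • θ.symm (E x)
        refine (AddEquiv.symm_apply_eq θ).mpr ?_
        have h1 : E (b • x) = gact M (CohLocPush.pullFn f b) q ⊤ (E x) := by
          rw [← toGlobal_eq_pullFn f b]
          exact Groth.Agent.Lib.CechLinear9.HEquivHUTop_map (Coh.smulAb M _) q x
        have h2 : θ ((Coh.smulAb ((Coh.Rpush f q).obj M) b).hom.app (op ⊤) (θ.symm (E x))) =
            gact M (CohLocPush.pullFn f b) q (f ⁻¹ᵁ ⊤) (θ (θ.symm (E x))) :=
          hΘ ⊤ htop b (θ.symm (E x))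
        rw [AddEquiv.apply_symm_apply] at h2
        refine h1.trans (h2.symm.trans ?_)
        congr 1
        exact smulAb_app_top _ b _ }⟩

end Groth.Agent.Lib.RpushAffSections23
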