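import Groth.Agent.Lib.RpushRestrD31

/-!
# `Rf_*` is bounded above on `D_QCoh`, in arbitrary degrees (helper31)

* `isZero_HD_Rpush_of_isLE`: if `R^p f_*` vanishes on quasi-coherent modules for `p ≥ N`, then for
  `E ∈ D_QCoh^{≤ n}` the cohomology sheaves `H^m(Rf_* E)` vanish for `m ≥ n + N`.
* `exists_bound_isLE`: for `f` qcqs over a quasi-compact base there is a uniform such `N`.
-/

set_option autoImplicit false
set_option linter.style.haveILetI false
universe u
open CategoryTheory CategoryTheory.Limits AlgebraicGeometry TopologicalSpace Opposite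

attribute [local instance] HasDerivedCategory.standard

namespace Groth.Agent.RpushBddAbove31

open Groth.Agent.Lib.RestrictExact Groth.Agent.RpushLocal31 Groth.Agent.RpushRestrD31

variable {X S : Scheme.{u}} (f : X ⟶ S)

/-- vanishing of `H^m(Rf_* E)` above the bound, for `E ∈ D_QCoh^{≤ n}` -/
theorem isZero_HD_Rpush_of_isLE [HasInjectiveResolutions X.Modules] [DCoh.HasRpush f] (N : ℕ)
    (h3 : ∀ F : X.Modules, Coh.IsQCoh F → ∀ p : ℕ, Coh.IsQCoh ((Coh.Rpush f p).obj F))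
    (h4 : ∀ F : X.Modules, Coh.IsQCoh F → ∀ p : ℕ, N ≤ p → IsZero ((Coh.Rpush f p).obj F))
    (E : DCoh.D X) (hE : DCoh.IsQCohD E) (n : ℤ) [E.IsLE n] (m : ℤ) (hm : n + (N : ℤ) ≤ m) :
    IsZero (DCoh.HD ((DCoh.Rpush f).obj E) m) := by
  haveI : IsGrothendieckAbelian.{u} X.Modules :=
    Groth.Agent.S0484.result (Opens.grothendieckTopology X) X.ringCatSheaf
  -- choose the truncation level
  let k : ℕ := ((N : ℤ) - m).toNat
  have hk : (N : ℤ) - (k : ℤ) ≤ m := by
    have : (N : ℤ) - m ≤ (k : ℤ) := Int.self_le_toNat _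
    omega
  have hb := (Groth.Agent.RpushQcqs31.main f (N : ℤ) h3
    (fun M hM p hp => h4 M hM p (by exact_mod_cast hp.le)) E hE).2 k m hk
  refine IsZero.of_iso ?_ (asIso ((DerivedCategory.homologyFunctor S.Modules m).map
    ((DCoh.Rpush f).map ((DerivedCategory.TStructure.t.truncGEπ (-(k : ℤ))).app E))))
  let T := (DerivedCategory.TStructure.t.truncGE (-(k : ℤ))).obj E
  have hT : ∀ q, Groth.Agent.Lib.QCohWeakSerre11.QC X
      ((DerivedCategory.homologyFunctor X.Modules q).obj T) :=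
    Groth.Agent.RFBdd31.prop_homology_truncGE' _ E hE _
  refine Groth.Agent.RFAmp31.isZero_homology_RF_of_amp (Scheme.Modules.pushforward f)
    (Groth.Agent.Lib.QCohWeakSerre11.QC X) N h4 T (-(k : ℤ)) n hT (fun q hq => ?_) m
    (Or.inr (by omega))
  rcases hq with hq | hq
  · haveI : T.IsGE (-(k : ℤ)) := inferInstance
    exact DerivedCategory.isZero_of_isGE T (-(k : ℤ)) q hq
  · by_cases hqk : -(k : ℤ) ≤ q
    · have h1 := Groth.Agent.Lib.DWayOut.isIso_homologyMap_truncGEπ E (-(k : ℤ)) q hqk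
      exact IsZero.of_iso (DerivedCategory.isZero_of_isLE E n q hq)
        (@asIso _ _ _ _ _ h1).symm
    · haveI : T.IsGE (-(k : ℤ)) := inferInstance
      exact DerivedCategory.isZero_of_isGE T (-(k : ℤ)) q (by omega)

/-- **uniform vanishing bound for `H^m(Rf_* E)`, `E ∈ D_QCoh^{≤ n}`, over a quasi-compact base** -/
theorem exists_bound_isLE [QuasiCompact f] [QuasiSeparated f] [CompactSpace S] [DCoh.HasRpush f] :
    ∃ N : ℕ, ∀ (E : DCoh.D X), DCoh.IsQCohD E → ∀ n : ℤ, E.IsLE n → ∀ m : ℤ, n + (N : ℤ) ≤ m →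
      IsZero (DCoh.HD ((DCoh.Rpush f).obj E) m) := by
  classical
  -- a finite affine cover of `S`
  obtain ⟨t, ht⟩ := isCompact_univ.elim_finite_subcover
    (fun V : S.affineOpens => ((V.1 : S.Opens) : Set S)) (fun V => V.1.2) (by
      intro x _
      obtain ⟨V, hxV⟩ := Opens.mem_iSup.mp ((iSup_affineOpens_eq_top S).ge (Set.mem_univ x))
      exact Set.mem_iUnion.mpr ⟨V, hxV⟩)
  have hbound : ∀ V : S.affineOpens, ∃ N : ℕ,
      ∀ (M : (f ⁻¹ᵁ V.1).toScheme.Modules), Coh.IsQCoh M → ∀ p : ℕ, N ≤ p →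
        IsZero ((@Coh.Rpush _ _ (f ∣_ V.1)
          (Groth.Agent.Lib.RpushRestrict.hasInjectiveResolutions _) p).obj M) := fun V => by
    haveI : IsAffine (V.1 : Scheme.{u}) := V.2
    exact @Groth.Agent.RpushBound31.exists_bound_of_isAffine _ _ (f ∣_ V.1) _ _ _
      (Groth.Agent.Lib.RpushRestrict.hasInjectiveResolutions _)
  choose Nf hNf using hbound
  refine ⟨t.sup Nf, fun E hE n hLE m hm => ?_⟩
  let U : {V : S.affineOpens // V ∈ t} → S.Opens := fun V => V.1.1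
  have hU : ⨆ i, U i = ⊤ := by
    rw [eq_top_iff]
    intro x _
    obtain ⟨V, hV⟩ := Set.mem_iUnion.mp (ht (Set.mem_univ x))
    obtain ⟨hVt, hxV⟩ := Set.mem_iUnion.mp hV
    exact Opens.mem_iSup.mpr ⟨⟨V, hVt⟩, hxV⟩
  refine isZero_of_isOpenCover U hU _ (fun V => ?_)
  haveI : HasInjectiveResolutions (f ⁻¹ᵁ V.1.1).toScheme.Modules :=
    Groth.Agent.Lib.RpushRestrict.hasInjectiveResolutions _
  haveI := hasRpush (f ∣_ V.1.1)
  obtain ⟨e⟩ := nonempty_restrict_homology_iso f V.1.1 E m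
  refine IsZero.of_iso ?_ e
  haveI := isLE_restrictD (f ⁻¹ᵁ V.1.1) E n
  have hle : Nf V.1 ≤ t.sup Nf := Finset.le_sup V.2
  exact isZero_HD_Rpush_of_isLE (f ∣_ V.1.1) (Nf V.1)
    (fun M hM p => Groth.Agent.Lib.RpushQCoh.isQuasicoherent_Rpush (f ∣_ V.1.1) M p hM)
    (hNf V.1) _ (isQCohD_restrictD (f ⁻¹ᵁ V.1.1) E hE) n m (by
      have : ((Nf V.1 : ℕ) : ℤ) ≤ ((t.sup Nf : ℕ) : ℤ) := by exact_mod_cast hle
      omega)

end Groth.Agent.RpushBddAbove31
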