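/-
helper11: S0999: uniform vanishing bound for `Rf_*` on `D_QCoh^{≤ 0}` for qcqs `f` with quasi-compact base, from the
scheme bridge to S9065 (`RpushQCohD11.bridge`) + S0031.
-/
import Groth.Agent.Lib.RpushQCohD11
import Groth.Agent.Lib.RpushQCoh
import Groth.Agent.Lib.RFBdd31
import Groth.Agent.S0031
import Groth.Agent.S11319
import Groth.Agent.S0484

set_option autoImplicit false
universe u
open CategoryTheory CategoryTheory.Limits AlgebraicGeometry TopologicalSpace

namespace Groth.Agent.Lib.RpushBound11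

attribute [local instance] HasDerivedCategory.standard

open Groth.Agent.Lib.QCohWeakSerre11 DerivedCategory DerivedCategory.TStructure

noncomputable local instance (X : Scheme.{u}) : IsGrothendieckAbelian.{u} X.Modules :=
  Groth.Agent.S0484.result _ X.ringCatSheaf

/-- **S0999**: uniform vanishing bound for `Rf_*` on `D_QCoh^{≤ 0}` (`f` qcqs, `S` quasi-compact) -/
theorem exists_bound {X S : Scheme.{u}} (f : X ⟶ S) [QuasiCompact f] [QuasiSeparated f]
    [CompactSpace ↥S] [DCoh.HasRpush f] :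
    ∃ N : ℤ, ∀ (E : DCoh.D X), DCoh.IsQCohD E → E.IsLE 0 → ∀ m : ℤ, N ≤ m →
      IsZero (DCoh.HD ((DCoh.Rpush f).obj E) m) := by
  haveI := Groth.Agent.Lib.RpushRestrict.hasInjectiveResolutions X
  obtain ⟨n0, hn0⟩ := Groth.Agent.S0031.result f
  have h3 : ∀ G : X.Modules, Coh.IsQCoh G → ∀ p : ℕ, Coh.IsQCoh ((Coh.Rpush f p).obj G) :=
    fun G hG p => Groth.Agent.Lib.RpushQCoh.isQuasicoherent_Rpush f G p hG
  have h4 : ∀ G : X.Modules, Coh.IsQCoh G → ∀ p : ℕ, ((n0 : ℤ) - 1) < (p : ℤ) →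
      IsZero ((Coh.Rpush f p).obj G) := by
    intro G hG p hp
    apply Groth.Agent.Lib.RpushRestrict.isZero_of_isZero_toAb
    obtain ⟨e⟩ := Groth.Agent.S11319.result f G p
    exact (hn0 G hG p (by omega)).of_iso e
  refine ⟨n0, fun E hE hLE m hm => ?_⟩
  have hb := (Groth.Agent.Lib.RpushQCohD11.bridge f ((n0 : ℤ) - 1) h3 h4 E hE).2 0 m
    (by push_cast; omega)
  rw [Nat.cast_zero, neg_zero] at hb
  let M := (t.truncGE 0).obj E
  haveI : M.IsGE 0 := (inferInstance : ((t.truncGE 0).obj E).IsGE 0)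
  haveI : M.IsLE 0 := (inferInstance : t.IsLE ((t.truncGE 0).obj E) 0)
  obtain ⟨e⟩ := Groth.Agent.TruncStep31.nonempty_iso_single_homology M 0
  have hM : Coh.IsQCoh ((homologyFunctor X.Modules 0).obj M) :=
    Groth.Agent.RFBdd31.prop_homology_truncGE' (QC X) E hE 0 0
  have z : IsZero ((homologyFunctor S.Modules m).obj ((DCoh.Rpush f).obj M)) :=
    (Groth.Agent.RFBdd31.isZero_homology_RF_single (Scheme.Modules.pushforward f) _ 0
      ((n0 : ℤ) - 1) m (h4 _ hM) (by omega)).of_iso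
      ((homologyFunctor S.Modules m).mapIso ((DCoh.Rpush f).mapIso e))
  exact z.of_iso (asIso ((homologyFunctor S.Modules m).map
    ((DCoh.Rpush f).map ((t.truncGEπ 0).app E))))

end Groth.Agent.Lib.RpushBound11
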