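import Groth.Agent.Lib.RpushSections
import Groth.Agent.Lib.RpushQCoh
import Groth.Agent.Lib.AffVanCover
import Groth.Agent.Lib.PinchZero

/-!
# A uniform vanishing bound for `R^p f_*` on quasi-coherent modules (helper31)

`exists_bound_of_isAffine`: for `f : X ⟶ S` quasi-compact quasi-separated with `S` affine there
is `N` with `R^p f_* M = 0` for all quasi-coherent `M` and `p ≥ N`.
-/

set_option autoImplicit false
universe u
open CategoryTheory CategoryTheory.Limits AlgebraicGeometry TopologicalSpace Opposite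

namespace Groth.Agent.RpushBound31

theorem exists_bound_of_isAffine {X S : Scheme.{u}} (f : X ⟶ S) [QuasiCompact f]
    [QuasiSeparated f] [IsAffine S] [HasInjectiveResolutions X.Modules] :
    ∃ N : ℕ, ∀ M : X.Modules, Coh.IsQCoh M → ∀ p : ℕ, N ≤ p →
      IsZero ((Coh.Rpush f p).obj M) := by
  have : CompactSpace X :=
    (HasAffineProperty.iff_of_isAffine (P := @QuasiCompact) (f := f)).mp inferInstance
  have : QuasiSeparatedSpace X :=
    (HasAffineProperty.iff_of_isAffine (P := @QuasiSeparated) (f := f)).mp inferInstance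
  obtain ⟨d, hd⟩ := Groth.Agent.Lib.AffVan.hasVanishingBound_of_isCompact (f ⁻¹ᵁ (⊤ : S.Opens))
    (by
      have : ((f ⁻¹ᵁ (⊤ : S.Opens) : X.Opens) : Set X) = Set.univ := by simp
      rw [this]
      exact CompactSpace.isCompact_univ)
  refine ⟨d, fun M hM p hp => ?_⟩
  have hq : ((Coh.Rpush f p).obj M).IsQuasicoherent :=
    Groth.Agent.Lib.RpushQCoh.isQuasicoherent_Rpush_of_isAffine f M p hM
  obtain ⟨Θ, -, -⟩ := Groth.Agent.Lib.RpushSections.exists_sections_equiv f M p hM
  have htop : (⊤ : S.Opens) ∈ Set.range (S.basicOpen : Γ(S, ⊤) → Opens S) :=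
    ⟨1, Scheme.basicOpen_of_isUnit _ isUnit_one⟩
  have hsub : Subsingleton Γ((Coh.Rpush f p).obj M, (⊤ : S.Opens)) := by
    refine ⟨fun a b => ?_⟩
    apply (Θ ⊤ htop).injective
    exact (hd M hM p hp _).trans (hd M hM p hp _).symm
  apply Groth.Agent.Lib.ModPullback.isZero_of_forall_subsingleton_stalk
  intro y
  exact Groth.Agent.Lib.PinchZero.subsingleton_stalk_of_subsingleton_sections _
    (isAffineOpen_top S) hsub ⟨y, trivial⟩

end Groth.Agent.RpushBound31
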