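import Groth.Agent.Lib.RpushAcyc31
import Groth.Agent.Lib.RpushBound31
import Groth.Agent.Lib.SchKInj66
import Groth.Agent.Lib.PushRestrict
import Groth.Agent.Lib.RpushRestrict
import Groth.Agent.Lib.RestrictExact
import Groth.Agent.Lib.H90OXModLocal

/-!
# Localisation on the base for the unit `f_* F ⟶ Rf_* F` (helper31)

* `isIso_unit_iff_quasiIso`: for a quasi-isomorphism `s : F ⟶ I` with `I` K-injective, the unit of
  `RG` at `F` is an isomorphism iff `G(s)` is a quasi-isomorphism.
* `quasiIso_of_isOpenCover`: quasi-isomorphisms of complexes of `O_S`-modules are local on `S`.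
* `isIso_unit_of_local`: the unit of `Rf_*` at `F` is an isomorphism if for an open cover `V i`
  of `S` the units of `R(f|_{V i})_*` at `F|_{f⁻¹ V i}` are.
* `isIso_unit`: **`f` qcqs, `F` a complex of quasi-coherent `f_*`-acyclic modules ⇒
  `f_* F ⟶ Rf_* F` is an isomorphism.**
-/

set_option autoImplicit false
universe w w' v v' u u'
open CategoryTheory CategoryTheory.Limits AlgebraicGeometry TopologicalSpace Opposite

namespace Groth.Agent.RpushLocal31

open Groth.Agent.AcycHocolim31

section Generic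

variable {A : Type u} [Category.{v} A] [Abelian A] [HasDerivedCategory.{w} A]
  {B : Type u'} [Category.{v'} B] [Abelian B] [HasDerivedCategory.{w'} B]
  (G : A ⥤ B) [G.Additive]
  (RG : DerivedCategory A ⥤ DerivedCategory B) (η : Φ G ⟶ DerivedCategory.Qh ⋙ RG)
  [RG.IsRightDerivedFunctor η (HomotopyCategory.quasiIso A (ComplexShape.up ℤ))]
  [(Φ G).HasPointwiseRightDerivedFunctor (HomotopyCategory.quasiIso A (ComplexShape.up ℤ))]

theorem isIso_unit_iff_quasiIso {F I : CochainComplex A ℤ} (s : F ⟶ I) (hs : QuasiIso s)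
    (hI : I.IsKInjective) :
    IsIso (η.app ((HomotopyCategory.quotient A (ComplexShape.up ℤ)).obj F)) ↔
      QuasiIso ((G.mapHomologicalComplex (ComplexShape.up ℤ)).map s) := by
  have nat := η.naturality ((HomotopyCategory.quotient A (ComplexShape.up ℤ)).map s)
  have i2 : IsIso (η.app ((HomotopyCategory.quotient A (ComplexShape.up ℤ)).obj I)) :=
    Groth.Agent.KInjDerived31.isIso_unit_app_of_isKInjective (Φ G) RG η I
  have i3 : IsIso ((DerivedCategory.Qh ⋙ RG).map
      ((HomotopyCategory.quotient A (ComplexShape.up ℤ)).map s)) := by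
    have : IsIso (DerivedCategory.Q.map s) := by
      rw [DerivedCategory.isIso_Q_map_iff_quasiIso]; exact hs
    change IsIso (RG.map (DerivedCategory.Q.map s))
    infer_instance
  have key : IsIso ((Φ G).map ((HomotopyCategory.quotient A (ComplexShape.up ℤ)).map s)) ↔
      QuasiIso ((G.mapHomologicalComplex (ComplexShape.up ℤ)).map s) := by
    change IsIso (DerivedCategory.Q.map ((G.mapHomologicalComplex (ComplexShape.up ℤ)).map s)) ↔ _
    rw [DerivedCategory.isIso_Q_map_iff_quasiIso]
  rw [← key]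
  constructor
  · intro h
    have : IsIso ((Φ G).map ((HomotopyCategory.quotient A (ComplexShape.up ℤ)).map s) ≫
        η.app ((HomotopyCategory.quotient A (ComplexShape.up ℤ)).obj I)) := by
      rw [nat]; infer_instance
    exact IsIso.of_isIso_comp_right _
      (η.app ((HomotopyCategory.quotient A (ComplexShape.up ℤ)).obj I))
  · intro h
    have : IsIso (η.app ((HomotopyCategory.quotient A (ComplexShape.up ℤ)).obj F) ≫
        (DerivedCategory.Qh ⋙ RG).map
          ((HomotopyCategory.quotient A (ComplexShape.up ℤ)).map s)) := by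
      rw [← nat]; infer_instance
    exact IsIso.of_isIso_comp_right _
      ((DerivedCategory.Qh ⋙ RG).map ((HomotopyCategory.quotient A (ComplexShape.up ℤ)).map s))

end Generic

section Local

variable {S : Scheme.{u}}

open Groth.Agent.Lib.RestrictExact

/-- quasi-isomorphisms of complexes of `O_S`-modules are local on `S` -/
theorem quasiIso_of_isOpenCover {ι : Type*} (U : ι → S.Opens) (hU : ⨆ i, U i = ⊤)
    {K L : CochainComplex S.Modules ℤ} (φ : K ⟶ L)
    (h : ∀ i, QuasiIso (((Scheme.Modules.restrictFunctor (U i).ι).mapHomologicalComplex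
      (ComplexShape.up ℤ)).map φ)) : QuasiIso φ := by
  rw [quasiIso_iff]
  intro n
  rw [quasiIsoAt_iff_isIso_homologyMap]
  refine Groth.Agent.Lib.H90OXModLocal.isIso_of_isOpenCover hU _ (fun i => ?_)
  have hi := (quasiIso_iff _).1 (h i) n
  rw [quasiIsoAt_iff_isIso_homologyMap] at hi
  let r := Scheme.Modules.restrictFunctor (U i).ι
  let g := (HomologicalComplex.shortComplexFunctor S.Modules (ComplexShape.up ℤ) n).map φ
  have e := NatIso.isIso_map_iff (ShortComplex.homologyFunctorIso r) g
  exact e.1 hi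

end Local

section Schemes

attribute [local instance] HasDerivedCategory.standard

variable {X S : Scheme.{u}} (f : X ⟶ S)

open Groth.Agent.Lib.RestrictExact

/-- the unit of `Rf_*` -/
noncomputable abbrev unit [DCoh.HasRpush f] :
    DCoh.pushKh f ⟶ DerivedCategory.Qh ⋙ DCoh.Rpush f :=
  (DCoh.pushKh f).totalRightDerivedUnit DerivedCategory.Qh
    (HomotopyCategory.quasiIso X.Modules (ComplexShape.up ℤ))

lemma hasRpush : DCoh.HasRpush f :=
  Groth.Agent.Lib.RDFCrit66.hasRightDerivedFunctor (Groth.Agent.Lib.SchKInj66.enoughKInj X) _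

lemma hasPointwise : (Φ (Scheme.Modules.pushforward f)).HasPointwiseRightDerivedFunctor
    (HomotopyCategory.quasiIso X.Modules (ComplexShape.up ℤ)) :=
  Groth.Agent.KInjDerived31.hasPointwiseRightDerivedFunctor _
    (Groth.Agent.Lib.SchKInj66.enoughKInj X)

/-- the unit of `Rf_*` at `F` is an isomorphism if this holds locally on `S` -/
theorem isIso_unit_of_local [DCoh.HasRpush f] {ι : Type*} (V : ι → S.Opens)
    (hV : ⨆ i, V i = ⊤) (F : CochainComplex X.Modules ℤ)
    (h : ∀ i, ∀ (_ : DCoh.HasRpush (f ∣_ V i)),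
      IsIso ((unit (f ∣_ V i)).app ((HomotopyCategory.quotient _ (ComplexShape.up ℤ)).obj
        (((Scheme.Modules.restrictFunctor (f ⁻¹ᵁ V i).ι).mapHomologicalComplex
          (ComplexShape.up ℤ)).obj F)))) :
    IsIso ((unit f).app ((HomotopyCategory.quotient _ (ComplexShape.up ℤ)).obj F)) := by
  obtain ⟨I, s, hI, hs⟩ := Groth.Agent.Lib.SchKInj66.enoughKInj X F
  haveI := hasPointwise f
  rw [isIso_unit_iff_quasiIso (Scheme.Modules.pushforward f) (DCoh.Rpush f) (unit f) s hs hI]
  refine quasiIso_of_isOpenCover V hV _ (fun i => ?_)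
  -- the restricted resolution
  let r' := Scheme.Modules.restrictFunctor (f ⁻¹ᵁ V i).ι
  let r := Scheme.Modules.restrictFunctor (V i).ι
  let s' := (r'.mapHomologicalComplex (ComplexShape.up ℤ)).map s
  have hs' : QuasiIso s' := inferInstance
  have hI' : CochainComplex.IsKInjective ((r'.mapHomologicalComplex (ComplexShape.up ℤ)).obj I) :=
    Groth.Agent.Lib.SchKInj66.isKInjective_restrict (f ⁻¹ᵁ V i) I hI
  haveI := hasRpush (f ∣_ V i)
  haveI := hasPointwise (f ∣_ V i)
  have h1 := (isIso_unit_iff_quasiIso (Scheme.Modules.pushforward (f ∣_ V i))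
    (DCoh.Rpush (f ∣_ V i)) (unit (f ∣_ V i)) s' hs' hI').1 (h i _)
  -- transport along `(f_* -)|_V ≅ (f|_V)_* (-|_{f⁻¹V})`
  let e := NatIso.mapHomologicalComplex (Groth.Agent.Lib.PushRestrict.pushRestrictIso f (V i))
    (ComplexShape.up ℤ)
  have h2 : QuasiIso (((r' ⋙ Scheme.Modules.pushforward (f ∣_ V i)).mapHomologicalComplex
      (ComplexShape.up ℤ)).map s) := h1
  have h3 : QuasiIso (((Scheme.Modules.pushforward f ⋙ r).mapHomologicalComplex
      (ComplexShape.up ℤ)).map s) :=
    (quasiIso_iff_of_arrow_mk_iso _ _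
      (Arrow.isoMk (e.app F) (e.app I) (e.hom.naturality s).symm)).2 h2
  exact h3

/-- **`f` quasi-compact quasi-separated, `F` a complex of quasi-coherent `f_*`-acyclic modules:
the canonical map `f_* F ⟶ Rf_* F` is an isomorphism.** -/
theorem isIso_unit [QuasiCompact f] [QuasiSeparated f] [HasInjectiveResolutions X.Modules]
    [DCoh.HasRpush f] (F : CochainComplex X.Modules ℤ) (hq : ∀ n : ℤ, Coh.IsQCoh (F.X n))
    (hac : ∀ (n : ℤ) (i : ℕ), 0 < i → IsZero ((Coh.Rpush f i).obj (F.X n))) :
    IsIso ((unit f).app ((HomotopyCategory.quotient _ (ComplexShape.up ℤ)).obj F)) := by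
  refine isIso_unit_of_local f (fun V : S.affineOpens => V.1) (iSup_affineOpens_eq_top S) F
    (fun V _ => ?_)
  haveI : IsAffine (V.1 : Scheme.{u}) := V.2
  haveI : HasInjectiveResolutions (f ⁻¹ᵁ V.1).toScheme.Modules :=
    Groth.Agent.Lib.RpushRestrict.hasInjectiveResolutions _
  obtain ⟨N, hN⟩ := Groth.Agent.RpushBound31.exists_bound_of_isAffine (f ∣_ V.1)
  refine Groth.Agent.RpushAcyc31.isIso_unit_of_bound (f ∣_ V.1) (N : ℤ)
    (fun M hM p => Groth.Agent.Lib.RpushQCoh.isQuasicoherent_Rpush (f ∣_ V.1) M p hM)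
    (fun M hM p hp => hN M hM p (by exact_mod_cast hp.le)) _ (fun n => ?_) (fun n i hi => ?_)
  · exact Scheme.Modules.isQuasicoherent_restrictFunctor _ _
  · obtain ⟨e⟩ := Groth.Agent.Lib.RpushRestrict.nonempty_iso f V.1 (F.X n) i
    exact IsZero.of_iso ((Scheme.Modules.restrictFunctor V.1.ι).map_isZero (hac n i hi)) e.symm

end Schemes

end Groth.Agent.RpushLocal31
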