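/-
helper11: S11122: from a uniform pseudo-coherence shift `k` for `Rf_*` on bounded objects to all pseudo-coherent
objects (f qcqs, base quasi-compact): truncation triangle + 2-out-of-3 for pseudo-coherence + the uniform vanishing
bound `RpushBound11.exists_bound`.
-/
import Groth.Agent.Lib.RpushBound11
import Groth.Agent.Lib.PseudoCohSummand
import Groth.Agent.Lib.PseudoCohQCoh
import Groth.Agent.Lib.PerfectCoh

set_option autoImplicit false
universe u
open CategoryTheory CategoryTheory.Limits AlgebraicGeometry TopologicalSpace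

namespace Groth.Agent.Lib.RpushPC11

attribute [local instance] HasDerivedCategory.standard

open Groth.Agent.Lib.QCohWeakSerre11 DerivedCategory DerivedCategory.TStructure
open Groth.Agent.Lib.PseudoCohD Groth.Agent.Lib.PseudoCohTriangle Groth.Agent.Lib.PseudoCohSummand

noncomputable local instance (X : Scheme.{u}) : IsGrothendieckAbelian.{u} X.Modules :=
  Groth.Agent.S0484.result _ X.ringCatSheaf

variable {X : Scheme.{u}}

/-- a pseudo-coherent object on a quasi-compact scheme is bounded above -/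
theorem exists_isLE_of_pc [CompactSpace ↥X] (K : DCoh.D X) (m : ℤ)
    (hK : DCoh.IsPseudoCoherentD m K) : ∃ b : ℤ, K.IsLE b := by
  have key : ∀ x : X, ∃ (V : X.Opens) (b : ℤ), x ∈ V ∧
      ∀ i : ℤ, b < i → IsZero ((DCoh.HD K i).restrict V.ι) := by
    intro x
    obtain ⟨V, hxV, E, α, hE, hiso, -⟩ := (isPseudoCoherentD_iff_pcOn m K).1 hK x
    obtain ⟨a', b', hab⟩ := hE.1
    refine ⟨V, max m b', hxV, fun i hi => ?_⟩
    have := hiso i (lt_of_le_of_lt (le_max_left _ _) hi)
    have hz : IsZero (E.homology i) :=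
      ShortComplex.isZero_homology_of_isZero_X₂ _
        (hab i (Or.inr (lt_of_le_of_lt (le_max_right _ _) hi)))
    exact hz.of_iso (asIso (homologyComp α i)).symm
  choose V b hxV hb using key
  obtain ⟨t, ht⟩ := CompactSpace.elim_nhds_subcover (fun x => (V x : Set X))
    (fun x => (V x).isOpen.mem_nhds (hxV x))
  obtain ⟨B, hB⟩ := (t.image b).exists_le
  have hcov : ∀ y : X, ∃ x ∈ t, y ∈ V x := by
    intro y
    have : y ∈ ⋃ x ∈ t, (V x : Set X) := ht ▸ Set.mem_univ y
    simpa using this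
  refine ⟨B, ?_⟩
  rw [DerivedCategory.isLE_iff]
  intro i hi
  refine Groth.Agent.Lib.PerfectCoh.isZero_of_forall_restrict _ fun y => ?_
  obtain ⟨x, hxt, hyx⟩ := hcov y
  have hBx : b x ≤ B := hB _ (Finset.mem_image_of_mem _ hxt)
  exact ⟨V x, hyx, hb x i (by omega)⟩

/-- a pseudo-coherent object has quasi-coherent cohomology sheaves -/
theorem isQCohD_of_pc (K : DCoh.D X) (hK : ∀ m : ℤ, DCoh.IsPseudoCoherentD m K) :
    DCoh.IsQCohD K :=
  fun i => Groth.Agent.Lib.PseudoCohQCoh.isQCoh_HD_of_isPseudoCoherentD (i - 1) K (hK (i - 1)) i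
    (by omega)

/-- `τ_{≥ a} K` is `a`-pseudo-coherent if `K` is -/
theorem isPC_truncGE (K : DCoh.D X) (a : ℤ) (hK : DCoh.IsPseudoCoherentD a K) :
    DCoh.IsPseudoCoherentD a ((t.truncGE a).obj K) := by
  have hT := t.triangleLTGE_distinguished a K
  refine isPseudoCoherentD_obj₃ a _ hT ?_ hK
  apply isPseudoCoherentD_of_isZero_homology
  intro i hi
  exact isZero_of_isLE ((t.truncLT a).obj K) (a - 1) i (by omega)

/-- cohomology of `τ_{≤ c}` -/
lemma isQCohD_truncLE (K : DCoh.D X) (hK : DCoh.IsQCohD K) (c : ℤ) :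
    DCoh.IsQCohD ((t.truncLE c).obj K) := by
  intro q
  by_cases hq : q ≤ c
  · have := Groth.Agent.Lib.DWayOut.isIso_homologyMap_truncLEι K c q hq
    exact QC_of_iso (asIso ((homologyFunctor X.Modules q).map ((t.truncLEι c).app K))).symm (hK q)
  · exact (QC X).prop_of_isZero (isZero_of_isLE ((t.truncLE c).obj K) c q (by omega))

/-- uniform vanishing bound, shifted form -/
theorem isZero_HD_Rpush_of_isLE {S : Scheme.{u}} (f : X ⟶ S) [DCoh.HasRpush f] (N : ℤ)
    (hN : ∀ (E : DCoh.D X), DCoh.IsQCohD E → E.IsLE 0 → ∀ m : ℤ, N ≤ m →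
      IsZero (DCoh.HD ((DCoh.Rpush f).obj E) m))
    (E : DCoh.D X) (hE : DCoh.IsQCohD E) (c : ℤ) [E.IsLE c] (i : ℤ) (hi : N + c ≤ i) :
    IsZero (DCoh.HD ((DCoh.Rpush f).obj E) i) := by
  have h1 : (E⟦c⟧).IsLE 0 := t.isLE_shift E c c 0 (by omega)
  have h2 : DCoh.IsQCohD (E⟦c⟧) := fun q =>
    QC_of_iso (((homologyFunctor X.Modules 0).shiftIso c q (c + q) rfl).app E).symm (hE (c + q))
  have h3 := hN (E⟦c⟧) h2 h1 (i - c) (by omega)
  obtain ⟨e⟩ := Groth.Agent.RFBdd31.nonempty_RF_shift_iso (Scheme.Modules.pushforward f) E c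
  have h4 : IsZero ((homologyFunctor S.Modules (i - c)).obj (((DCoh.Rpush f).obj E)⟦c⟧)) :=
    h3.of_iso ((homologyFunctor S.Modules (i - c)).mapIso e.symm)
  exact h4.of_iso (((homologyFunctor S.Modules 0).shiftIso c (i - c) i (by omega)).app
    ((DCoh.Rpush f).obj E)).symm

/-- **S11122** -/
theorem main {Y : Scheme.{u}} (f : X ⟶ Y) [QuasiCompact f] [QuasiSeparated f] [CompactSpace ↥Y]
    [DCoh.HasRpush f] (k : ℤ)
    (hK : ∀ (F : DCoh.D X) (n a b : ℤ), F.IsGE a → F.IsLE b → DCoh.IsPseudoCoherentD n F →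
      DCoh.IsPseudoCoherentD (n + k) ((DCoh.Rpush f).obj F))
    (F : DCoh.D X) (hF : ∀ m : ℤ, DCoh.IsPseudoCoherentD m F) (m : ℤ) :
    DCoh.IsPseudoCoherentD m ((DCoh.Rpush f).obj F) := by
  have : CompactSpace ↥X := QuasiCompact.compactSpace_of_compactSpace f
  obtain ⟨b, hb⟩ := exists_isLE_of_pc F 0 (hF 0)
  have hq := isQCohD_of_pc F hF
  obtain ⟨N, hN⟩ := Groth.Agent.Lib.RpushBound11.exists_bound f
  obtain ⟨a, ha1, ha2⟩ : ∃ a : ℤ, a + k ≤ m ∧ N + (a - 1) ≤ m :=
    ⟨min (m - k) (m - N + 1), by have := min_le_left (m - k) (m - N + 1); omega,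
      by have := min_le_right (m - k) (m - N + 1); omega⟩
  have hT := t.triangleLEGE_distinguished (a - 1) a (by omega) F
  obtain ⟨δ, hδ⟩ := Groth.Agent.RFBdd31.exists_distinguished_RF (Scheme.Modules.pushforward f) _ hT
  refine isPseudoCoherentD_obj₂ m _ hδ ?_ ?_
  · apply isPseudoCoherentD_of_isZero_homology
    intro i hi
    have : ((t.truncLE (a - 1)).obj F).IsLE (a - 1) := inferInstance
    exact isZero_HD_Rpush_of_isLE f N hN _ (isQCohD_truncLE F hq (a - 1)) (a - 1) i (by omega)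
  · have h1 : ((t.truncGE a).obj F).IsGE a := inferInstance
    have h2 : ((t.truncGE a).obj F).IsLE b := inferInstance
    exact isPseudoCoherentD_of_le ha1
      (hK ((t.truncGE a).obj F) a a b h1 h2 (isPC_truncGE F a (hF a)))

end Groth.Agent.Lib.RpushPC11
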