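import Groth.Agent.Lib.SchRMor31
import Groth.Agent.S9065

/-!
# `Rf_*` on `D_QCoh` for morphisms of schemes with bounded cohomological dimension (helper31)

`main f N h3 h4 K hK`: if `R^p f_*` preserves quasi-coherence and vanishes on quasi-coherent
modules for `p > N`, then for `K ∈ D_QCoh(O_X)`: `Rf_* K ∈ D_QCoh(O_S)` and
`H^j(Rf_* K) ⟶ H^j(Rf_* τ_{≥ -n} K)` is an isomorphism for `j ≥ N - n`.
(`S9065` through the bridge `SchRMor31.rmor`.)
-/

set_option autoImplicit false
universe u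
open CategoryTheory CategoryTheory.Limits AlgebraicGeometry TopologicalSpace Opposite
attribute [local instance] HasDerivedCategory.standard

namespace Groth.Agent.RpushQcqs31

open Groth.Agent.SchRMor31 Groth.Agent.Lib.QCohWeakSerre11

theorem main {X S : Scheme.{u}} (f : X ⟶ S) [hI : HasInjectiveResolutions X.Modules]
    [DCoh.HasRpush f] (N : ℤ)
    (h3 : ∀ F : X.Modules, Coh.IsQCoh F → ∀ p : ℕ, Coh.IsQCoh ((Coh.Rpush f p).obj F))
    (h4 : ∀ F : X.Modules, Coh.IsQCoh F → ∀ p : ℕ, N < (p : ℤ) →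
      IsZero ((Coh.Rpush f p).obj F))
    (K : DCoh.D X) (hK : DCoh.IsQCohD K) :
    DCoh.IsQCohD ((DCoh.Rpush f).obj K) ∧
      ∀ (n : ℕ) (j : ℤ), N - (n : ℤ) ≤ j →
        IsIso ((DerivedCategory.homologyFunctor S.Modules j).map
          ((DCoh.Rpush f).map ((DerivedCategory.TStructure.t.truncGEπ (-(n : ℤ))).app K))) := by
  haveI := hasRpushD f
  haveI : HasInjectiveResolutions (ModSite.Mod X.sheaf) := hI
  let A : ObjectProperty (ModSite.Mod X.sheaf) := QC X
  let A' : ObjectProperty (ModSite.Mod S.sheaf) := QC S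
  haveI : WSerre.IsWeakSerre A := qcWS X
  haveI : WSerre.IsWeakSerre A' := qcWS S
  exact Groth.Agent.S9065.result (rmor f) A A' (affines X) (affines S)
    (hB_affine X)
    (fun V _ => by
      obtain ⟨d, hd⟩ := hA_affine X V
      refine ⟨d, fun T hT => ?_⟩
      obtain ⟨ι, Y, g, h1, h2, h3'⟩ := hd T hT
      exact ⟨ι, Y, g, h1, h2, fun i F hF k hk => h3' i F hF k (by omega)⟩)
    (hB_affine S)
    (fun V _ => by
      obtain ⟨d, hd⟩ := hA_affine S V
      refine ⟨d, fun T hT => ?_⟩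
      obtain ⟨ι, Y, g, h1, h2, h3'⟩ := hd T hT
      exact ⟨ι, Y, g, h1, h2, fun i F hF k hk => h3' i F hF k (by omega)⟩)
    N h3 h4 K hK

end Groth.Agent.RpushQcqs31
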