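import Groth.Agent.Lib.RpushLocal31
import Groth.Agent.Lib.FlatBaseChangeD
import Groth.Agent.Lib.CohLocal
import Groth.Agent.S6508
import Groth.Agent.Lib.RFAmp31

/-!
# Restriction of `Rf_* E` to opens of the base, cohomology sheaves (helper31)

* `nonempty_restrict_homology_iso`: `(H^m(Rf_* E))|_V ≅ H^m(R(f|_V)_* (E|_{f⁻¹V}))`.
* `isQCohD_restrictD`, `isLE_restrictD`: restriction to opens preserves `D_QCoh` and `D^{≤ n}`.
* `isZero_of_isOpenCover`: a module vanishing on an open cover vanishes.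
* `isQCohD_Rpush`: **`Rf_*` preserves `D_QCoh` for `f` quasi-compact quasi-separated.**
* `exists_bound`: **uniform vanishing bound for `H^m(Rf_* E)`, `E ∈ D_QCoh^{≤ 0}`, `S` quasi-compact.**
-/

set_option autoImplicit false
set_option linter.style.haveILetI false
universe u
open CategoryTheory CategoryTheory.Limits AlgebraicGeometry TopologicalSpace Opposite

attribute [local instance] HasDerivedCategory.standard

namespace Groth.Agent.RpushRestrD31

open Groth.Agent.Lib.RestrictExact Groth.Agent.RpushLocal31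

variable {X S : Scheme.{u}}

/-- restriction to an open commutes with the cohomology sheaves -/
noncomputable def restrictHDIso (U : X.Opens) (E : DCoh.D X) (m : ℤ) :
    DCoh.HD ((DCoh.restrictD U.ι).obj E) m ≅
      (Scheme.Modules.restrictFunctor U.ι).obj (DCoh.HD E m) :=
  (Groth.Agent.Lib.FlatBaseChangeD.mapDerivedCategoryHomologyIso
    (Scheme.Modules.restrictFunctor U.ι) m).app E

lemma isQCohD_restrictD (U : X.Opens) (E : DCoh.D X) (hE : DCoh.IsQCohD E) :
    DCoh.IsQCohD ((DCoh.restrictD U.ι).obj E) := fun m => by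
  have : (DCoh.HD E m).IsQuasicoherent := hE m
  exact Groth.Agent.Lib.QCohWeakSerre11.QC_of_iso (restrictHDIso U E m).symm
    (Scheme.Modules.isQuasicoherent_restrictFunctor _ _)

lemma isLE_restrictD (U : X.Opens) (E : DCoh.D X) (n : ℤ) [E.IsLE n] :
    ((DCoh.restrictD U.ι).obj E).IsLE n := by
  rw [DerivedCategory.isLE_iff]
  intro i hi
  exact IsZero.of_iso ((Scheme.Modules.restrictFunctor U.ι).map_isZero
    (DerivedCategory.isZero_of_isLE E n i hi)) (restrictHDIso U E i)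

/-- a module vanishing on an open cover vanishes -/
lemma isZero_of_isOpenCover {ι : Type*} (U : ι → S.Opens) (hU : ⨆ i, U i = ⊤) (M : S.Modules)
    (h : ∀ i, IsZero ((Scheme.Modules.restrictFunctor (U i).ι).obj M)) : IsZero M := by
  rw [IsZero.iff_id_eq_zero]
  exact Groth.Agent.Lib.H90OXModLocal.hom_ext_of_isOpenCover hU _ _
    (fun i => (h i).eq_of_src _ _)

variable (f : X ⟶ S)

/-- `(H^m(Rf_* E))|_V ≅ H^m(R(f|_V)_* (E|_{f⁻¹V}))` -/
theorem nonempty_restrict_homology_iso [DCoh.HasRpush f] (V : S.Opens)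
    [DCoh.HasRpush (f ∣_ V)] (E : DCoh.D X) (m : ℤ) :
    Nonempty ((Scheme.Modules.restrictFunctor V.ι).obj (DCoh.HD ((DCoh.Rpush f).obj E) m) ≅
      DCoh.HD ((DCoh.Rpush (f ∣_ V)).obj ((DCoh.restrictD (f ⁻¹ᵁ V).ι).obj E)) m) := by
  obtain ⟨e⟩ := Groth.Agent.S6508.result f V
  exact ⟨(restrictHDIso V _ m).symm ≪≫
    (DerivedCategory.homologyFunctor _ m).mapIso (e.app E)⟩

/-- **`Rf_*` preserves `D_QCoh` for `f` quasi-compact quasi-separated** -/
theorem isQCohD_Rpush [QuasiCompact f] [QuasiSeparated f] [DCoh.HasRpush f]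
    (K : DCoh.D X) (hK : DCoh.IsQCohD K) : DCoh.IsQCohD ((DCoh.Rpush f).obj K) := by
  intro m
  apply Groth.Agent.Lib.CohLocal.isQuasicoherent_of_forall_restrict_opens
  intro x
  obtain ⟨V, hV, hxV, -⟩ := exists_isAffineOpen_mem_and_subset (x := x) (U := ⊤) trivial
  refine ⟨V, hxV, ?_⟩
  haveI : IsAffine (V : Scheme.{u}) := hV
  haveI : HasInjectiveResolutions (f ⁻¹ᵁ V).toScheme.Modules :=
    Groth.Agent.Lib.RpushRestrict.hasInjectiveResolutions _
  haveI := hasRpush (f ∣_ V)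
  obtain ⟨N, hN⟩ := Groth.Agent.RpushBound31.exists_bound_of_isAffine (f ∣_ V)
  obtain ⟨e⟩ := nonempty_restrict_homology_iso f V K m
  have h := (Groth.Agent.RpushQcqs31.main (f ∣_ V) (N : ℤ)
    (fun M hM p => Groth.Agent.Lib.RpushQCoh.isQuasicoherent_Rpush (f ∣_ V) M p hM)
    (fun M hM p hp => hN M hM p (by exact_mod_cast hp.le)) _
    (isQCohD_restrictD (f ⁻¹ᵁ V) K hK)).1 m
  exact Groth.Agent.Lib.QCohWeakSerre11.QC_of_iso e.symm h

/-- vanishing of `H^m(Rf_* E)` above the bound, for `E ∈ D_QCoh^{≤ 0}` -/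
theorem isZero_HD_Rpush_of_bound [HasInjectiveResolutions X.Modules] [DCoh.HasRpush f] (N : ℕ)
    (h3 : ∀ F : X.Modules, Coh.IsQCoh F → ∀ p : ℕ, Coh.IsQCoh ((Coh.Rpush f p).obj F))
    (h4 : ∀ F : X.Modules, Coh.IsQCoh F → ∀ p : ℕ, N ≤ p → IsZero ((Coh.Rpush f p).obj F))
    (E : DCoh.D X) (hE : DCoh.IsQCohD E) [E.IsLE 0] (m : ℤ) (hm : (N : ℤ) ≤ m) :
    IsZero (DCoh.HD ((DCoh.Rpush f).obj E) m) := by
  haveI : IsGrothendieckAbelian.{u} X.Modules :=
    Groth.Agent.S0484.result (Opens.grothendieckTopology X) X.ringCatSheaf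
  have hb := (Groth.Agent.RpushQcqs31.main f (N : ℤ) h3
    (fun M hM p hp => h4 M hM p (by exact_mod_cast hp.le)) E hE).2 0 m (by simpa using hm)
  refine IsZero.of_iso ?_ (asIso ((DerivedCategory.homologyFunctor S.Modules m).map
    ((DCoh.Rpush f).map ((DerivedCategory.TStructure.t.truncGEπ (-((0 : ℕ) : ℤ))).app E))))
  let T := (DerivedCategory.TStructure.t.truncGE (-((0 : ℕ) : ℤ))).obj E
  have hT : ∀ q, Groth.Agent.Lib.QCohWeakSerre11.QC X
      ((DerivedCategory.homologyFunctor X.Modules q).obj T) :=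
    Groth.Agent.RFBdd31.prop_homology_truncGE' _ E hE _
  refine Groth.Agent.RFAmp31.isZero_homology_RF_of_amp (Scheme.Modules.pushforward f)
    (Groth.Agent.Lib.QCohWeakSerre11.QC X) N h4 T 0 0 hT (fun q hq => ?_) m
    (Or.inr (by omega))
  rcases hq with hq | hq
  · haveI : T.IsGE 0 := by
      have : T.IsGE (-((0 : ℕ) : ℤ)) := inferInstance
      simpa using this
    exact DerivedCategory.isZero_of_isGE T 0 q hq
  · have h1 := Groth.Agent.Lib.DWayOut.isIso_homologyMap_truncGEπ E (-((0 : ℕ) : ℤ)) q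
      (by simp; omega)
    exact IsZero.of_iso (DerivedCategory.isZero_of_isLE E 0 q hq)
      (@asIso _ _ _ _ _ h1).symm

/-- **uniform vanishing bound for `H^m(Rf_* E)`, `E ∈ D_QCoh^{≤ 0}`, over a quasi-compact base** -/
theorem exists_bound [QuasiCompact f] [QuasiSeparated f] [CompactSpace S] [DCoh.HasRpush f] :
    ∃ N : ℤ, ∀ (E : DCoh.D X), DCoh.IsQCohD E → E.IsLE 0 → ∀ m : ℤ, N ≤ m →
      IsZero (DCoh.HD ((DCoh.Rpush f).obj E) m) := by
  classical
  -- a finite affine cover of `S`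
  obtain ⟨t, ht⟩ := isCompact_univ.elim_finite_subcover
    (fun V : S.affineOpens => ((V.1 : S.Opens) : Set S)) (fun V => V.1.2) (by
      intro x _
      obtain ⟨V, hxV⟩ := Opens.mem_iSup.mp ((iSup_affineOpens_eq_top S).ge (Set.mem_univ x))
      exact Set.mem_iUnion.mpr ⟨V, hxV⟩)
  have hbound : ∀ V : S.affineOpens, ∃ N : ℕ,
      ∀ (M : (f ⁻¹ᵁ V.1).toScheme.Modules), Coh.IsQCoh M → ∀ p : ℕ, N ≤ p →
        IsZero ((@Coh.Rpush _ _ (f ∣_ V.1)
          (Groth.Agent.Lib.RpushRestrict.hasInjectiveResolutions _) p).obj M) := fun V => by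
    haveI : IsAffine (V.1 : Scheme.{u}) := V.2
    exact @Groth.Agent.RpushBound31.exists_bound_of_isAffine _ _ (f ∣_ V.1) _ _ _
      (Groth.Agent.Lib.RpushRestrict.hasInjectiveResolutions _)
  choose Nf hNf using hbound
  refine ⟨((t.sup Nf : ℕ) : ℤ), fun E hE hLE m hm => ?_⟩
  let U : {V : S.affineOpens // V ∈ t} → S.Opens := fun V => V.1.1
  have hU : ⨆ i, U i = ⊤ := by
    rw [eq_top_iff]
    intro x _
    obtain ⟨V, hV⟩ := Set.mem_iUnion.mp (ht (Set.mem_univ x))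
    obtain ⟨hVt, hxV⟩ := Set.mem_iUnion.mp hV
    exact Opens.mem_iSup.mpr ⟨⟨V, hVt⟩, hxV⟩
  refine isZero_of_isOpenCover U hU _ (fun V => ?_)
  haveI : HasInjectiveResolutions (f ⁻¹ᵁ V.1.1).toScheme.Modules :=
    Groth.Agent.Lib.RpushRestrict.hasInjectiveResolutions _
  haveI := hasRpush (f ∣_ V.1.1)
  obtain ⟨e⟩ := nonempty_restrict_homology_iso f V.1.1 E m
  refine IsZero.of_iso ?_ e
  haveI := isLE_restrictD (f ⁻¹ᵁ V.1.1) E 0
  have hle : Nf V.1 ≤ t.sup Nf := Finset.le_sup V.2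
  exact isZero_HD_Rpush_of_bound (f ∣_ V.1.1) (Nf V.1)
    (fun M hM p => Groth.Agent.Lib.RpushQCoh.isQuasicoherent_Rpush (f ∣_ V.1.1) M p hM)
    (hNf V.1) _ (isQCohD_restrictD (f ⁻¹ᵁ V.1.1) E hE) m (by
      have : ((Nf V.1 : ℕ) : ℤ) ≤ ((t.sup Nf : ℕ) : ℤ) := by exact_mod_cast hle
      omega)

end Groth.Agent.RpushRestrD31
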