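import Groth.Agent.Lib.RpushAffSections23
import Groth.Agent.Lib.QCohStalk
import Groth.Agent.Lib.RpushRestrict
import Groth.Agent.Lib.CohLESLinear
import Groth.Agent.S0034

/-!
# Stalks of higher direct images and base change to the local ring (helper23)

* `nonempty_tensor_sections_equiv`: `S` affine, `f : X ⟶ S` qcqs, `M` quasi-coherent, `B` a flat
  `Γ(S, ⊤)`-algebra: `B ⊗ Γ(S, R^q f_* M) ≃ₗ[B] H^q(X ×_S Spec B, g'^* M)` (from S0034).
* `germTop V y hy : Γ(V, ⊤) →+* O_{Y,y}` with `specMap_germTop`, `algStalk`, `modStalk`,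
  `germRestrict`, `isBaseChange_germRestrict` (the stalk of a quasi-coherent module at a point of
  an affine open `V` is the base change of its sections over `V`), `flat_algStalk`.
* `exists_lift_isPullback`: a pullback square over `Spec O_{Y,y} ⟶ Y` lifts to a pullback square
  over `Spec O_{Y,y} ⟶ Spec Γ(V, ⊤)`.
* `sectionsLinearEquiv`, `mapLEquiv`: linear equivalences induced by isomorphisms of modules.
-/

set_option autoImplicit false
set_option linter.style.haveILetI false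
universe u

open CategoryTheory CategoryTheory.Limits AlgebraicGeometry TopologicalSpace Opposite TensorProduct

namespace Groth.Agent.Lib.RpushStalk23

open Groth.Agent.Lib.QCohStalk

/-- For `S` affine, `f : X ⟶ S` qcqs, `M` quasi-coherent and `B` a flat `Γ(S, ⊤)`-algebra:
`B ⊗ Γ(S, R^q f_* M) ≃ H^q(X ×_S Spec B, g'^* M)`, `B`-linearly. -/
theorem nonempty_tensor_sections_equiv {X S : Scheme.{u}} (f : X ⟶ S) [IsAffine S] [QuasiCompact f]
    [QuasiSeparated f] [HasInjectiveResolutions X.Modules] (M : X.Modules) (hM : Coh.IsQCoh M)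
    (q : ℕ) (B : Type u) [CommRing B] [Algebra Γ(S, ⊤) B] [Module.Flat Γ(S, ⊤) B]
    (X₁ : Scheme.{u}) [X₁.Over (Spec (CommRingCat.of B))] (g' : X₁ ⟶ X)
    (hsq : IsPullback g' (X₁ ↘ Spec (CommRingCat.of B)) (f ≫ S.isoSpec.hom)
      (Spec.map (CommRingCat.ofHom (algebraMap Γ(S, ⊤) B)))) :
    Nonempty (B ⊗[Γ(S, ⊤)] Γ((Coh.Rpush f q).obj M, ⊤) ≃ₗ[B]
      Coh.HH X₁ ((Scheme.Modules.pullback g').obj M) q) := by
  letI : X.Over (Spec (CommRingCat.of Γ(S, ⊤))) := ⟨f ≫ S.isoSpec.hom⟩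
  obtain ⟨e⟩ := Groth.Agent.Lib.RpushAffSections23.exists_linearEquiv f M hM q
  haveI : CompactSpace X := QuasiCompact.compactSpace_of_compactSpace f
  haveI : QuasiSeparatedSpace X := quasiSeparatedSpace_of_quasiSeparated f
  haveI : Coh.IsQCoh M := hM
  obtain ⟨e34⟩ := Groth.Agent.S0034.result Γ(S, ⊤) B X X₁ g' hsq M q
  exact ⟨(TensorProduct.AlgebraTensorModule.congr (LinearEquiv.refl B B) e.symm) ≪≫ₗ e34⟩

section Sections

/-- an isomorphism of modules induces a linear equivalence on sections -/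
noncomputable def sectionsLinearEquiv {X : Scheme.{u}} {M M' : X.Modules} (e : M ≅ M')
    (U : X.Opens) : Γ(M, U) ≃ₗ[Γ(X, U)] Γ(M', U) where
  toFun := fun s => e.hom.app U s
  invFun := fun s => e.inv.app U s
  map_add' := fun a b => map_add (e.hom.app U).hom a b
  map_smul' := fun r s => Scheme.Modules.Hom.app_smul e.hom r s
  left_inv := fun s => by
    have h : e.hom.app U ≫ e.inv.app U = 𝟙 _ := by
      rw [← Scheme.Modules.Hom.comp_app, e.hom_inv_id, Scheme.Modules.Hom.id_app]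
    exact congr($h s)
  right_inv := fun s => by
    have h : e.inv.app U ≫ e.hom.app U = 𝟙 _ := by
      rw [← Scheme.Modules.Hom.comp_app, e.inv_hom_id, Scheme.Modules.Hom.id_app]
    exact congr($h s)

open Groth.Agent.Lib.CohLES in
/-- an isomorphism of modules induces a linear equivalence on cohomology -/
noncomputable def mapLEquiv (A : Type u) [CommRing A] {X : Scheme.{u}}
    [X.Over (Spec (CommRingCat.of A))] {M M' : X.Modules} (e : M ≅ M') (n : ℕ) :
    Coh.HH X M n ≃ₗ[A] Coh.HH X M' n :=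
  LinearEquiv.ofLinearMap (mapₗ A e.hom n) (mapₗ A e.inv n)
    (by
      ext x
      change map e.hom n (map e.inv n x) = x
      rw [← map_comp, e.inv_hom_id, map_id])
    (by
      ext x
      change map e.inv n (map e.hom n x) = x
      rw [← map_comp, e.hom_inv_id, map_id])

end Sections

section Germ

variable {Y : Scheme.{u}} (V : Y.Opens) (y : Y)

theorem mem_image_top (hy : y ∈ V) : y ∈ V.ι ''ᵁ (⊤ : V.toScheme.Opens) := ⟨⟨y, hy⟩, trivial, rfl⟩

/-- the ring map `Γ(V, ⊤) → O_{Y,y}` -/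
noncomputable def germTop (hy : y ∈ V) : Γ(V.toScheme, ⊤) →+* Y.presheaf.stalk y :=
  (Y.presheaf.germ (V.ι ''ᵁ ⊤) y (mem_image_top V y hy)).hom

theorem ofHom_germTop (hy : y ∈ V) : CommRingCat.ofHom (germTop V y hy) =
    V.toScheme.presheaf.germ ⊤ ⟨y, hy⟩ trivial ≫ (V.stalkIso ⟨y, hy⟩).hom :=
  (V.germ_stalkIso_hom (V := ⊤) ⟨y, hy⟩ trivial).symm

set_option backward.isDefEq.respectTransparency.types false in
theorem stalkIso_hom_eq (x : V.toScheme) :
    (V.stalkIso x).hom = inv (V.ι.stalkMap x) :=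
  IsIso.eq_inv_of_hom_inv_id (f := V.ι.stalkMap x)
    (by rw [← Scheme.Opens.stalkIso_inv]; exact (V.stalkIso x).inv_hom_id)

set_option backward.isDefEq.respectTransparency.types false in
theorem specMap_germTop (hy : y ∈ V) :
    Spec.map (CommRingCat.ofHom (germTop V y hy)) =
      V.fromSpecStalkOfMem y hy ≫ V.toScheme.toSpecΓ := by
  have h1 : Spec.map (CommRingCat.ofHom (germTop V y hy)) =
      Spec.map (V.stalkIso ⟨y, hy⟩).hom ≫
        Spec.map (V.toScheme.presheaf.germ ⊤ ⟨y, hy⟩ trivial) := by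
    rw [ofHom_germTop, Spec.map_comp]
  have h2 : V.fromSpecStalkOfMem y hy ≫ V.toScheme.toSpecΓ =
      Spec.map (inv (V.ι.stalkMap ⟨y, hy⟩)) ≫
        Spec.map (V.toScheme.presheaf.germ ⊤ ⟨y, hy⟩ trivial) := by
    unfold Scheme.Opens.fromSpecStalkOfMem
    rw [Category.assoc]
    erw [Scheme.fromSpecStalk_toSpecΓ]
    rfl
  rw [h1, h2]
  exact congrArg (fun t => Spec.map t ≫ Spec.map (V.toScheme.presheaf.germ ⊤ ⟨y, hy⟩ trivial))
    (stalkIso_hom_eq V ⟨y, hy⟩)

variable (N : Y.Modules)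

theorem restrict_smul (W : V.toScheme.Opens) (r : Γ(V.toScheme, W)) (s : Γ(N.restrict V.ι, W)) :
    (show Γ(N, V.ι ''ᵁ W) from r • s) =
      (show Γ(Y, V.ι ''ᵁ W) from r) • (show Γ(N, V.ι ''ᵁ W) from s) := by
  have h : (show Γ(N, V.ι ''ᵁ W) from r • s) =
      (show Γ(Y, V.ι ''ᵁ W) from (V.ι.appIso W).inv r) • (show Γ(N, V.ι ''ᵁ W) from s) := rfl
  rw [h, Scheme.Opens.ι_appIso]
  rfl

/-- `O_{Y,y}` as an algebra over `Γ(V, ⊤)` -/
@[reducible] noncomputable def algStalk (hy : y ∈ V) : Algebra Γ(V.toScheme, ⊤) (Y.presheaf.stalk y) :=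
  (germTop V y hy).toAlgebra

/-- the stalk `N_y` as a module over `Γ(V, ⊤)` -/
@[reducible] noncomputable def modStalk (hy : y ∈ V) : Module Γ(V.toScheme, ⊤) (N.presheaf.stalk y) :=
  Module.compHom _ (germTop V y hy)

theorem isScalarTower_stalk (hy : y ∈ V) :
    letI := algStalk V y hy
    letI := modStalk V y N hy
    IsScalarTower Γ(V.toScheme, ⊤) (Y.presheaf.stalk y) (N.presheaf.stalk y) :=
  letI := algStalk V y hy
  letI := modStalk V y N hy
  IsScalarTower.of_algebraMap_smul fun _ _ => rfl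

/-- the germ map on the sections of the restriction -/
noncomputable def germRestrict (hy : y ∈ V) :
    letI := modStalk V y N hy
    Γ(N.restrict V.ι, ⊤) →ₗ[Γ(V.toScheme, ⊤)] N.presheaf.stalk y :=
  letI := modStalk V y N hy
  { toFun := fun s => N.presheaf.germ (V.ι ''ᵁ ⊤) y (mem_image_top V y hy) (show Γ(N, V.ι ''ᵁ ⊤) from s)
    map_add' := fun a b => map_add (N.presheaf.germ (V.ι ''ᵁ ⊤) y (mem_image_top V y hy)).hom a b
    map_smul' := fun r m => by
      have h := restrict_smul V N ⊤ r m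
      rw [RingHom.id_apply]
      change N.presheaf.germ (V.ι ''ᵁ ⊤) y (mem_image_top V y hy) (show Γ(N, V.ι ''ᵁ ⊤) from r • m) = _
      rw [h, germ_smul]
      rfl }


theorem image_top_eq : V.ι ''ᵁ (⊤ : V.toScheme.Opens) = V := by
  simp

set_option linter.style.haveILetI false in
theorem isBaseChange_germRestrict [N.IsQuasicoherent] (hV : IsAffineOpen V) (hy : y ∈ V) :
    letI := algStalk V y hy
    letI := modStalk V y N hy
    haveI := isScalarTower_stalk V y N hy
    IsBaseChange (Y.presheaf.stalk y) (germRestrict V y N hy) := by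
  letI := algStalk V y hy
  letI := modStalk V y N hy
  haveI := isScalarTower_stalk V y N hy
  have hU : IsAffineOpen (V.ι ''ᵁ (⊤ : V.toScheme.Opens)) := by
    rw [image_top_eq]; exact hV
  let x : (V.ι ''ᵁ (⊤ : V.toScheme.Opens) : Y.Opens) := ⟨y, mem_image_top V y hy⟩
  have hloc := isLocalizedModule_germ N hU x
  let P : Ideal Γ(V.toScheme, ⊤) := (hU.primeIdealOf x).asIdeal
  have hP : P.IsPrime := (hU.primeIdealOf x).isPrime
  have hB : IsLocalization P.primeCompl (Y.presheaf.stalk y) := hU.isLocalization_stalk x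
  have hloc' : IsLocalizedModule P.primeCompl (germRestrict V y N hy) := by
    refine ⟨hloc.map_units, hloc.surj, fun {m₁ m₂} h => ?_⟩
    obtain ⟨s, hs⟩ := hloc.exists_of_eq h
    refine ⟨s, ?_⟩
    have h1 := restrict_smul V N ⊤ s.1 m₁
    have h2 := restrict_smul V N ⊤ s.1 m₂
    exact h1.trans (hs.trans h2.symm)
  exact IsLocalizedModule.isBaseChange P.primeCompl (Y.presheaf.stalk y) (germRestrict V y N hy)


theorem flat_algStalk (hV : IsAffineOpen V) (hy : y ∈ V) :
    letI := algStalk V y hy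
    Module.Flat Γ(V.toScheme, ⊤) (Y.presheaf.stalk y) := by
  letI := algStalk V y hy
  have hU : IsAffineOpen (V.ι ''ᵁ (⊤ : V.toScheme.Opens)) := by
    rw [image_top_eq]; exact hV
  let x : (V.ι ''ᵁ (⊤ : V.toScheme.Opens) : Y.Opens) := ⟨y, mem_image_top V y hy⟩
  let P : Ideal Γ(V.toScheme, ⊤) := (hU.primeIdealOf x).asIdeal
  have hP : P.IsPrime := (hU.primeIdealOf x).isPrime
  have hB : IsLocalization P.primeCompl (Y.presheaf.stalk y) := hU.isLocalization_stalk x
  exact IsLocalization.flat (Y.presheaf.stalk y) P.primeCompl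

end Germ

section Geometry

variable {X Y : Scheme.{u}} (f : X ⟶ Y) (V : Y.Opens) (y : Y)

set_option backward.isDefEq.respectTransparency.types false in
/-- lifting the pullback square over `Spec O_{Y,y}` to the affine open `V ∋ y` -/
theorem exists_lift_isPullback (hV : IsAffineOpen V) (hy : y ∈ V) (X₁ : Scheme.{u})
    [X₁.Over (Spec (CommRingCat.of (Y.presheaf.stalk y)))] (g : X₁ ⟶ X)
    (hsq : IsPullback g (X₁ ↘ Spec (CommRingCat.of (Y.presheaf.stalk y))) f (Y.fromSpecStalk y)) :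
    haveI : IsAffine V.toScheme := hV
    ∃ g' : X₁ ⟶ (f ⁻¹ᵁ V).toScheme, g' ≫ (f ⁻¹ᵁ V).ι = g ∧
      IsPullback g' (X₁ ↘ Spec (CommRingCat.of (Y.presheaf.stalk y)))
        ((f ∣_ V) ≫ V.toScheme.isoSpec.hom)
        (Spec.map (CommRingCat.ofHom (germTop V y hy))) := by
  have : IsAffine V.toScheme := hV
  have h1 : IsPullback (f ⁻¹ᵁ V).ι (f ∣_ V) f V.ι := (isPullback_morphismRestrict f V).flip
  have hw : g ≫ f = ((X₁ ↘ Spec (CommRingCat.of (Y.presheaf.stalk y))) ≫
      V.fromSpecStalkOfMem y hy) ≫ V.ι := by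
    rw [Category.assoc, Scheme.Opens.fromSpecStalkOfMem_ι]
    exact hsq.w
  let g' : X₁ ⟶ (f ⁻¹ᵁ V).toScheme := h1.lift g _ hw
  have hg'1 : g' ≫ (f ⁻¹ᵁ V).ι = g := h1.lift_fst _ _ _
  have hg'2 : g' ≫ (f ∣_ V) = (X₁ ↘ Spec (CommRingCat.of (Y.presheaf.stalk y))) ≫
      V.fromSpecStalkOfMem y hy := h1.lift_snd _ _ _
  have h2 : IsPullback g' (X₁ ↘ Spec (CommRingCat.of (Y.presheaf.stalk y))) (f ∣_ V)
      (V.fromSpecStalkOfMem y hy) := by
    refine IsPullback.of_right ?_ hg'2 h1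
    rw [hg'1, Scheme.Opens.fromSpecStalkOfMem_ι]
    exact hsq
  have h3 : IsPullback (V.fromSpecStalkOfMem y hy)
      (𝟙 (Spec (CommRingCat.of (Y.presheaf.stalk y)))) V.toScheme.isoSpec.hom
      (V.fromSpecStalkOfMem y hy ≫ V.toScheme.isoSpec.hom) :=
    IsPullback.of_vert_isIso ⟨(Category.id_comp _).symm⟩
  have h4 := h2.paste_vert h3
  have h5 : IsPullback g' (X₁ ↘ Spec (CommRingCat.of (Y.presheaf.stalk y)))
      ((f ∣_ V) ≫ V.toScheme.isoSpec.hom)
      (V.fromSpecStalkOfMem y hy ≫ V.toScheme.isoSpec.hom) :=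
    (congrArg (fun t => IsPullback g' t ((f ∣_ V) ≫ V.toScheme.isoSpec.hom)
      (V.fromSpecStalkOfMem y hy ≫ V.toScheme.isoSpec.hom)) (Category.comp_id _)).mp h4
  refine ⟨g', hg'1, ?_⟩
  exact (congrArg (fun t => IsPullback g' (X₁ ↘ Spec (CommRingCat.of (Y.presheaf.stalk y)))
      ((f ∣_ V) ≫ V.toScheme.isoSpec.hom) t) (specMap_germTop V y hy)).mpr h5


end Geometry

end Groth.Agent.Lib.RpushStalk23
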