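import Mathlib.LinearAlgebra.Matrix.SpecialLinearGroup
import Mathlib.LinearAlgebra.Matrix.NonsingularInverse
import Mathlib.LinearAlgebra.Matrix.Notation
import Mathlib.GroupTheory.OrderOfElement
import Mathlib.RingTheory.RootsOfUnity.PrimitiveRoots

/-!
# Companion matrices of `x² - t x + 1` in `SL(2, K)` (helper18)

`comp t = !![0, -1; 1, t]`.  If `t = ξ + ξ⁻¹` in an extension field `L` with `ξ² ≠ 1`, then
`(comp t)^m = z • 1` iff `ξ^m = z` and `ξ⁻¹^m = z`; in particular the order of `compSL t` is the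
order of `ξ`.
-/

set_option autoImplicit false

namespace Groth.Agent.Lib.SL2Companion

open Matrix

variable {K L : Type*} [Field K] [Field L] [Algebra K L]

/-- The companion matrix of `x² - t x + 1`. -/
def comp (t : K) : Matrix (Fin 2) (Fin 2) K := !![0, -1; 1, t]

lemma det_comp (t : K) : (comp t).det = 1 := by
  simp [comp, Matrix.det_fin_two_of]

/-- The companion matrix as an element of `SL(2, K)`. -/
def compSL (t : K) : Matrix.SpecialLinearGroup (Fin 2) K := ⟨comp t, det_comp t⟩

/-- the matrix of eigenvectors -/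
def eig (u v : L) : Matrix (Fin 2) (Fin 2) L := !![1, 1; -u, -v]

lemma det_eig (u v : L) : (eig u v).det = u - v := by
  simp [eig, Matrix.det_fin_two_of]; ring

lemma eig_mul_diagonal (u v : L) (huv : u * v = 1) :
    eig u v * Matrix.diagonal ![u, v] = comp (u + v) * eig u v := by
  ext i j
  fin_cases i <;> fin_cases j <;>
    simp [eig, comp, Matrix.mul_apply, Fin.sum_univ_two, Matrix.diagonal]
  · have : (u + v) * u = u * u + 1 := by rw [add_mul, mul_comm v u, huv]
    rw [this]; ring
  · have : (u + v) * v = 1 + v * v := by rw [add_mul, huv]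
    rw [this]; ring

lemma comp_pow_eq_smul_iff {u v : L} (huv : u * v = 1) (hne : u ≠ v) (m : ℕ) (z : L) :
    comp (u + v) ^ m = z • (1 : Matrix (Fin 2) (Fin 2) L) ↔ u ^ m = z ∧ v ^ m = z := by
  have hsc : SemiconjBy (eig u v) (Matrix.diagonal ![u, v]) (comp (u + v)) :=
    eig_mul_diagonal u v huv
  have hpow := hsc.pow_right m
  have hdet : IsUnit (eig u v).det := by
    rw [det_eig]; exact (sub_ne_zero.mpr hne).isUnit
  have hP : IsUnit (eig u v) := (Matrix.isUnit_iff_isUnit_det _).mpr hdet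
  rw [Matrix.diagonal_pow] at hpow
  have hpow' : eig u v * Matrix.diagonal (![u, v] ^ m) = comp (u + v) ^ m * eig u v := hpow
  constructor
  · intro h
    rw [h, Matrix.smul_mul, Matrix.one_mul] at hpow'
    have h2 : eig u v * Matrix.diagonal (![u, v] ^ m) = eig u v * (z • (1 : Matrix (Fin 2) (Fin 2) L)) := by
      rw [hpow', Matrix.mul_smul, Matrix.mul_one]
    have h3 := hP.mul_left_cancel h2
    have h30 := congrFun (congrFun h3 0) 0
    have h31 := congrFun (congrFun h3 1) 1
    simp at h30 h31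
    exact ⟨h30, h31⟩
  · rintro ⟨h1, h2⟩
    have hd : Matrix.diagonal (![u, v] ^ m) = z • (1 : Matrix (Fin 2) (Fin 2) L) := by
      ext i j
      fin_cases i <;> fin_cases j <;> simp [Matrix.diagonal, h1, h2]
    rw [hd, Matrix.mul_smul, Matrix.mul_one] at hpow'
    have h3 : (z • (1 : Matrix (Fin 2) (Fin 2) L)) * eig u v = comp (u + v) ^ m * eig u v := by
      rw [← hpow', Matrix.smul_mul, Matrix.one_mul]
    exact (hP.mul_right_cancel h3).symm

lemma map_comp (t : K) : (comp t).map (algebraMap K L) = comp (algebraMap K L t) := by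
  ext i j
  fin_cases i <;> fin_cases j <;> simp [comp]

/-- Transfer to the base field. -/
lemma comp_pow_eq_smul_iff_of_algebraMap (ξ : L) (hξ0 : ξ ≠ 0) (hξ2 : ξ ^ 2 ≠ 1) (t : K)
    (ht : algebraMap K L t = ξ + ξ⁻¹) (m : ℕ) (z : K) :
    comp t ^ m = z • (1 : Matrix (Fin 2) (Fin 2) K) ↔
      ξ ^ m = algebraMap K L z ∧ ξ⁻¹ ^ m = algebraMap K L z := by
  have hne : ξ ≠ ξ⁻¹ := by
    intro h
    apply hξ2
    rw [sq]
    nth_rewrite 2 [h]
    exact mul_inv_cancel₀ hξ0
  rw [← comp_pow_eq_smul_iff (mul_inv_cancel₀ hξ0) hne, ← ht, ← map_comp]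
  have hinj : Function.Injective ((algebraMap K L).mapMatrix (m := Fin 2)) := by
    intro A B hAB
    ext i j
    have := congrFun (congrFun hAB i) j
    exact (algebraMap K L).injective this
  constructor
  · intro h
    have := congrArg ((algebraMap K L).mapMatrix (m := Fin 2)) h
    rw [map_pow] at this
    rw [show (comp t).map (algebraMap K L) = (algebraMap K L).mapMatrix (comp t) from rfl, this]
    ext i j
    fin_cases i <;> fin_cases j <;> simp
  · intro h
    apply hinj
    rw [map_pow]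
    rw [show (algebraMap K L).mapMatrix (comp t) = (comp t).map (algebraMap K L) from rfl, h]
    ext i j
    fin_cases i <;> fin_cases j <;> simp

lemma compSL_pow_eq_one_iff (ξ : L) (hξ0 : ξ ≠ 0) (hξ2 : ξ ^ 2 ≠ 1) (t : K)
    (ht : algebraMap K L t = ξ + ξ⁻¹) (m : ℕ) :
    compSL t ^ m = 1 ↔ ξ ^ m = 1 := by
  have h := comp_pow_eq_smul_iff_of_algebraMap ξ hξ0 hξ2 t ht m 1
  rw [one_smul, map_one] at h
  have h2 : compSL t ^ m = 1 ↔ comp t ^ m = 1 := by
    constructor
    · intro h
      have h' := congrArg (fun A : Matrix.SpecialLinearGroup (Fin 2) K => (A : Matrix (Fin 2) (Fin 2) K)) h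
      simpa [Matrix.SpecialLinearGroup.coe_pow, compSL] using h'
    · intro h
      apply Subtype.ext
      rw [Matrix.SpecialLinearGroup.coe_pow]
      exact h
  rw [h2, h]
  constructor
  · exact fun h => h.1
  · intro h1
    refine ⟨h1, ?_⟩
    rw [inv_pow, h1, inv_one]

lemma orderOf_compSL (ξ : L) (hξ0 : ξ ≠ 0) (hξ2 : ξ ^ 2 ≠ 1) (t : K)
    (ht : algebraMap K L t = ξ + ξ⁻¹) : orderOf (compSL t) = orderOf ξ :=
  orderOf_eq_orderOf_iff.mpr (compSL_pow_eq_one_iff ξ hξ0 hξ2 t ht)

end Groth.Agent.Lib.SL2Companion
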