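import Groth.Agent.Lib.GLnInt38

/-!
# The invariant integral on `SL_n` in characteristic zero (helper38)

Transported from `GL_n` along the algebra section `s ↦ diag(det⁻¹,1,…,1) s` of the restriction map,
which commutes with right translations by points of `SL_n`.
-/

set_option autoImplicit false
set_option linter.unusedSectionVars false
set_option linter.unusedSimpArgs false
universe u v
open MvPolynomial TensorProduct CoordGrp

namespace Groth.Agent.Lib.SLnInt38
open Groth.Agent.Lib.Apolar38 Groth.Agent.Lib.Omega38 Groth.Agent.Lib.Comod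
  Groth.Agent.Lib.Cartier38 Groth.Agent.Lib.ComodIntegral Groth.Agent.Lib.InvFrac38
  Groth.Agent.Lib.GLnInt38

variable {n : ℕ} {k : Type u} [Field k]

/-- `det⁻¹` in the first row, `1` elsewhere -/
noncomputable def dvec (i : Fin n) : GLn n k := if (i : ℕ) = 0 then GLn.Dinv else 1

theorem prod_dvec_mul_det : (∏ i : Fin n, (dvec i : GLn n k)) * GLn.det = 1 := by
  rcases n with _ | m
  · have hd : (GLn.det : GLn 0 k) = 1 := by rw [GLn.det_eq]; exact Matrix.det_isEmpty
    simp [hd]
  · rw [Fin.prod_univ_succ]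
    have h0 : (dvec (0 : Fin (m + 1)) : GLn (m + 1) k) = GLn.Dinv := by simp [dvec]
    have h1 : ∀ i : Fin m, (dvec i.succ : GLn (m + 1) k) = 1 := by
      intro i
      simp [dvec]
    simp only [h0, h1, Finset.prod_const_one, mul_one]
    exact GLn.Dinv_mul_det

/-- the matrix `diag(det⁻¹,1,…,1) X` -/
noncomputable def secMat : Matrix (Fin n) (Fin n) (GLn n k) :=
  Matrix.diagonal dvec * GLn.genMat n k

theorem det_secMat : (secMat : Matrix (Fin n) (Fin n) (GLn n k)).det = 1 := by
  rw [secMat, Matrix.det_mul, Matrix.det_diagonal, ← GLn.det_eq, prod_dvec_mul_det]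

variable (n k) in
/-- the section `O(SL_n) → O(GL_n)` of the restriction map -/
noncomputable def sec : SLn n k →ₐ[k] GLn n k := SLn.pt n k secMat det_secMat

theorem sec_X (i j : Fin n) : sec n k (SLn.X i j) = dvec i * GLn.X i j := by
  rw [sec, SLn.pt_X, secMat, Matrix.diagonal_mul]
  rfl

theorem mk_Dinv : SLn.mk n k (GLn.Dinv : GLn n k) = 1 := by
  have h := congrArg (SLn.mk n k) (GLn.det_mul_Dinv (n := n) (k := k))
  rwa [map_mul, SLn.det_eq_one, one_mul, map_one] at h

theorem comul_mk (x : GLn n k) : CoalgebraStruct.comul (R := k) (SLn.mk n k x) =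
    Algebra.TensorProduct.map (SLn.mk n k) (SLn.mk n k) (CoalgebraStruct.comul (R := k) x) :=
  Bialgebra.Quotient.comul_mk (GLn.slIdeal n k) x

theorem comul_X (i j : Fin n) :
    CoalgebraStruct.comul (R := k) (SLn.X i j : SLn n k) = ∑ l : Fin n, SLn.X i l ⊗ₜ[k] SLn.X l j := by
  change CoalgebraStruct.comul (R := k) (SLn.mk n k (GLn.X i j)) = _
  rw [comul_mk, GLn.comul_X, map_sum]
  rfl

theorem slice_X (h : SLn n k →ₐ[k] k) (i j : Fin n) :
    sliceAlgHom h (SLn.X i j) = ∑ l, SLn.X i l * algebraMap k (SLn n k) (h (SLn.X l j)) := by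
  rw [sliceAlgHom_apply, slice, LinearMap.comp_apply, comul_X, map_sum]
  apply Finset.sum_congr rfl
  intro l _
  rw [contr_tmul, Algebra.smul_def, mul_comm]
  rfl

variable [CharZero k]

theorem slice_dvec (h : SLn n k →ₐ[k] k) (i : Fin n) :
    sliceAlgHom (h.comp (SLn.mk n k)) (dvec i : GLn n k) = dvec i := by
  unfold dvec
  split_ifs
  · rw [GLnInt38.slice_Dinv, AlgHom.comp_apply, mk_Dinv, map_one, one_smul]
  · rw [map_one]

theorem sec_slice (h : SLn n k →ₐ[k] k) (a : SLn n k) :
    sec n k (sliceAlgHom h a) = sliceAlgHom (h.comp (SLn.mk n k)) (sec n k a) := by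
  have e : (sec n k).comp (sliceAlgHom h) = (sliceAlgHom (h.comp (SLn.mk n k))).comp (sec n k) := by
    apply SLn.algHom_ext
    · intro i j
      simp only [AlgHom.comp_apply]
      rw [slice_X, map_sum, sec_X, map_mul, slice_dvec, GLnInt38.slice_X, Finset.mul_sum]
      apply Finset.sum_congr rfl
      intro l _
      rw [map_mul, sec_X, AlgHom.commutes, mul_assoc]
      rfl
    · simp only [AlgHom.comp_apply]
      rw [mk_Dinv, map_one, map_one, map_one]
  exact AlgHom.congr_fun e a

variable (n k) in
/-- the invariant integral on `O(SL_n)` -/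
noncomputable def alphaS : SLn n k →ₗ[k] k := alpha n k ∘ₗ (sec n k).toLinearMap

theorem alphaS_one : alphaS n k 1 = 1 := by
  rw [alphaS, LinearMap.comp_apply, AlgHom.toLinearMap_apply, map_one, alpha_one]

theorem alphaS_slice (h : SLn n k →ₐ[k] k) (a : SLn n k) :
    alphaS n k (sliceAlgHom h a) = alphaS n k a := by
  rw [alphaS, LinearMap.comp_apply, LinearMap.comp_apply, AlgHom.toLinearMap_apply,
    AlgHom.toLinearMap_apply, sec_slice, alpha_slice]

theorem isInt_alphaS [IsAlgClosed k] : IsInt k (SLn n k) (alphaS n k) := by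
  have : IsReduced (SLn n k) := isReduced_of_charZero k (SLn n k)
  exact isInt_of_forall_slice _ alphaS_one alphaS_slice

/-- `SL_n` is linearly reductive in characteristic zero -/
theorem isLinearlyReductive_SLn [IsAlgClosed k] : HopfRep.IsLinearlyReductive k (SLn n k) :=
  isLinearlyReductive_of_isInt isInt_alphaS

end Groth.Agent.Lib.SLnInt38
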