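import Groth.Agent.Lib.FormsAct38
import Groth.Agent.Lib.SLnInt38
import Groth.Agent.Lib.GLinGrading38

/-!
# Points of `SL_n` acting on the coordinates of the space of forms (helper38)

`fC k n d` is the comodule structure of `O(SL_n)` on the coordinate ring of forms used by the
statements (a local instance here).  A point `g : O(SL_n) → S` has a matrix `matOf g` of
determinant one, and `g ∘ orbitHom (vecPt a) = aeval (act a (matOf g))`.
-/

set_option autoImplicit false
set_option linter.unusedSectionVars false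
universe u v
open MvPolynomial TensorProduct CoordGrp

namespace Groth.Agent.Lib.SLnForms38
open Groth.Agent.Lib.FormsAct38

section Basic
variable (k : Type u) [Field k] (n d : ℕ)

/-- `O(Mat_n) → O(SL_n)` -/
noncomputable def phi : Mat n k →ₐc[k] SLn n k := (SLn.mkHom n k).comp (Mat.toGLn n k)

theorem phi_X (i j : Fin n) : phi k n (Mat.X i j) = SLn.X i j := by
  show SLn.mkHom n k (Mat.toGLn n k (Mat.X i j)) = _
  rw [Mat.toGLn_X]
  rfl

/-- the comodule structure of `O(SL_n)` on the coordinate ring of the space of forms -/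
@[reducible] noncomputable def fC : HopfRep.Comod k (SLn n k) (FormRing k n d) :=
  GLin.comodAlong ((SLn.mkHom n k).comp (Mat.toGLn n k)) (formsCoact k n d)

theorem fCA : @GLin.IsCoactAlg k _ (SLn n k) _ _ (FormRing k n d) _ _ (fC k n d) :=
  GLin.isCoactAlg_comodAlong ((SLn.mkHom n k).comp (Mat.toGLn n k)) (formsCoact k n d)
    (formsCoact_isCoactAlg k n d)

theorem fLin : @GLin.IsLinear k _ (SLn n k) _ _ (FormIdx n d) _ (fC k n d) :=
  GLin.isLinear_comodAlong ((SLn.mkHom n k).comp (Mat.toGLn n k)) (formsCoact k n d)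
    (formsCoact_isLinear k n d)

end Basic

section Points
variable {k : Type u} [Field k] {n d : ℕ} {S : Type v} [CommRing S] [Algebra k S]

/-- the matrix of a point of `SL_n` -/
noncomputable def matOf (g : SLn n k →ₐ[k] S) : Matrix (Fin n) (Fin n) S := fun i j => g (SLn.X i j)

theorem comp_phi (g : SLn n k →ₐ[k] S) :
    g.comp ((phi k n : Mat n k →ₐc[k] SLn n k) : Mat n k →ₐ[k] SLn n k) = Mat.aeval n k (matOf g) := by
  apply Mat.algHom_ext
  intro i j
  rw [Mat.aeval_X, AlgHom.comp_apply]
  show g (phi k n (Mat.X i j)) = _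
  rw [phi_X]
  rfl

theorem apply_phi (g : SLn n k →ₐ[k] S) (x : Mat n k) : g (phi k n x) = Mat.aeval n k (matOf g) x :=
  congrArg (fun f : Mat n k →ₐ[k] S => f x) (comp_phi g)

theorem det_matOf (g : SLn n k →ₐ[k] S) : (matOf g).det = 1 := by
  have h1 : matOf g = (g.comp (SLn.mk n k)).toRingHom.mapMatrix (GLn.genMat n k) := by
    ext i j
    rfl
  rw [h1, ← RingHom.map_det, ← GLn.det_eq]
  show g (SLn.mk n k GLn.det) = 1
  rw [SLn.det_eq_one, map_one]

theorem pt_matOf (g : SLn n k →ₐ[k] S) : SLn.pt n k (matOf g) (det_matOf g) = g := by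
  apply SLn.algHom_ext
  · intro i j
    rw [SLn.pt_X]
    rfl
  · rw [Groth.Agent.Lib.SLnInt38.mk_Dinv, map_one, map_one]

theorem matOf_pt (M : Matrix (Fin n) (Fin n) S) (h : M.det = 1) : matOf (SLn.pt n k M h) = M := by
  ext i j
  exact SLn.pt_X M h i j

theorem matOf_comp {S' : Type*} [CommRing S'] [Algebra k S'] (f : S →ₐ[k] S') (g : SLn n k →ₐ[k] S) :
    matOf (f.comp g) = (matOf g).map f := by
  ext i j
  rfl

end Points

section Orbit
variable {k : Type u} [Field k] {n d : ℕ}

attribute [local instance] fC fCA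

theorem coact_X (m : FormIdx n d) :
    HopfRep.Comod.coact (k := k) (A := SLn n k) (X m : FormRing k n d) =
      ∑ l : FormIdx n d, (X l : FormRing k n d) ⊗ₜ[k] phi k n (formCoeff k n d l m) := by
  show TensorProduct.map LinearMap.id
      (((SLn.mkHom n k).comp (Mat.toGLn n k) : Mat n k →ₐc[k] SLn n k) : Mat n k →ₗ[k] SLn n k)
      ((formsCoact k n d).coact (X m)) = _
  rw [formsCoact_coact, formsCoactAlg_X, map_sum]
  rfl

theorem orbitHom_X (a : FormIdx n d → k) (m : FormIdx n d) :
    GLin.orbitHom k (SLn n k) (GLin.vecPt k (FormIdx n d) a) (X m) =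
      ∑ l : FormIdx n d, a l • phi k n (formCoeff k n d l m) := by
  rw [Groth.Agent.Lib.GLinGrading38.orbitHom_apply, coact_X, map_sum, map_sum]
  apply Finset.sum_congr rfl
  intro l _
  rw [LinearMap.rTensor_tmul, AlgHom.toLinearMap_apply, TensorProduct.lid_tmul]
  show (aeval a (X l : FormRing k n d)) • _ = _
  rw [aeval_X]

variable {S : Type v} [CommRing S] [Algebra k S]

theorem comp_orbitHom (g : SLn n k →ₐ[k] S) (a : FormIdx n d → k) :
    g.comp (GLin.orbitHom k (SLn n k) (GLin.vecPt k (FormIdx n d) a)) =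
      aeval (act k (fun l => algebraMap k S (a l)) (matOf g)) := by
  apply MvPolynomial.algHom_ext
  intro m
  rw [AlgHom.comp_apply, orbitHom_X, map_sum, aeval_X, act]
  apply Finset.sum_congr rfl
  intro l _
  rw [map_smul, apply_phi, Algebra.smul_def]
  rfl

theorem actPt_vecPt (g : SLn n k →ₐ[k] k) (a : FormIdx n d → k) :
    GLin.actPt k g (GLin.vecPt k (FormIdx n d) a) =
      GLin.vecPt k (FormIdx n d) (act k a (matOf g)) := by
  show g.comp _ = _
  rw [comp_orbitHom]
  rfl

theorem actPt_pt (M : Matrix (Fin n) (Fin n) k) (h : M.det = 1) (a : FormIdx n d → k) :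
    GLin.actPt k (SLn.pt n k M h) (GLin.vecPt k (FormIdx n d) a) =
      GLin.vecPt k (FormIdx n d) (act k a M) := by
  rw [actPt_vecPt, matOf_pt]

theorem vecPt_injective {a b : FormIdx n d → k}
    (h : GLin.vecPt k (FormIdx n d) a = GLin.vecPt k (FormIdx n d) b) : a = b := by
  funext m
  have := congrArg (fun f : FormRing k n d →ₐ[k] k => f (X m)) h
  simpa using this

theorem exists_vecPt (z : FormRing k n d →ₐ[k] k) : ∃ b : FormIdx n d → k,
    z = GLin.vecPt k (FormIdx n d) b := by
  refine ⟨fun m => z (X m), ?_⟩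
  apply MvPolynomial.algHom_ext
  intro m
  simp

end Orbit

end Groth.Agent.Lib.SLnForms38
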