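import Mathlib

/-!
# Systems of parameters in Noetherian local rings, extending a parameter element

`exists_sop_extending`: in a Noetherian local ring of dimension `d ≥ 1`, an element `f` of the
maximal ideal lying in no minimal prime extends to a system of parameters `f, g₁, …, g_{d-1}`
with all `gᵢ ∈ m^(k+1)`.
-/

set_option autoImplicit false

namespace Groth.Agent.Lib.SOP

open IsLocalRing

variable {R : Type*} [CommRing R] [IsNoetherianRing R] [IsLocalRing R]

/-- Inductive construction: partial systems of parameters starting with `f`. -/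
theorem exists_partial_sop (f : R) (hmin : ∀ p ∈ minimalPrimes R, f ∉ p) (k : ℕ) :
    ∀ n : ℕ, ((n : ℕ∞) + 1 ≤ (maximalIdeal R).height) →
      ∃ g : Fin n → R, (∀ i, g i ∈ maximalIdeal R ^ (k + 1)) ∧
        ∀ p ∈ (Ideal.span (insert f (Set.range g))).minimalPrimes, (n : ℕ∞) + 1 ≤ p.height := by
  intro n
  induction n with
  | zero =>
    intro _
    refine ⟨fun i => i.elim0, fun i => i.elim0, ?_⟩
    intro p hp
    have hpp : p.IsPrime := hp.1.1
    have hfp : f ∈ p := hp.1.2 (Ideal.subset_span (Set.mem_insert _ _))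
    simp only [Nat.cast_zero, zero_add]
    rw [ENat.one_le_iff_ne_zero, Ne, Ideal.height_eq_zero_iff]
    exact fun h => hmin p h hfp
  | succ n ih =>
    intro hn
    have hn' : (n : ℕ∞) + 1 ≤ (maximalIdeal R).height :=
      le_trans (by push_cast; exact le_self_add) hn
    obtain ⟨g, hg, hht⟩ := ih hn'
    set J := Ideal.span (insert f (Set.range g)) with hJ
    have hfin : (J.minimalPrimes \ {maximalIdeal R}).Finite :=
      (Ideal.finite_minimalPrimes_of_isNoetherianRing R J).sdiff
    -- prime avoidance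
    obtain ⟨x, hxm, hx⟩ : ∃ x ∈ maximalIdeal R ^ (k + 1),
        ∀ p ∈ J.minimalPrimes \ {maximalIdeal R}, x ∉ p := by
      have hnot : ¬ ((maximalIdeal R ^ (k + 1) : Ideal R) : Set R) ⊆
          ⋃ p ∈ J.minimalPrimes \ {maximalIdeal R}, (p : Set R) := by
        intro hsub
        obtain ⟨p, hp, hle⟩ := (Ideal.subset_union_prime_finite hfin (f := id) ⊤ ⊤
          (fun p hp _ _ => hp.1.1.1)).mp hsub
        have hpp : p.IsPrime := hp.1.1.1
        have hmp : maximalIdeal R ≤ p := hpp.le_of_pow_le hle
        exact hp.2 ((maximalIdeal.isMaximal R).eq_of_le hpp.ne_top hmp).symm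
      obtain ⟨x, hxm, hx⟩ := Set.not_subset.mp hnot
      refine ⟨x, hxm, fun p hp hxp => hx ?_⟩
      exact Set.mem_biUnion hp hxp
    refine ⟨Fin.cons x g, ?_, ?_⟩
    · intro i
      refine Fin.cases ?_ (fun j => ?_) i
      · simpa using hxm
      · simpa using hg j
    · intro q hq
      have hqp : q.IsPrime := hq.1.1
      have hJq : J ≤ q := by
        refine le_trans (Ideal.span_mono ?_) hq.1.2
        rw [Fin.range_cons]
        exact Set.insert_subset_insert (Set.subset_insert _ _)
      have hxq : x ∈ q := hq.1.2 (Ideal.subset_span (by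
        rw [Fin.range_cons]; exact Set.mem_insert_of_mem _ (Set.mem_insert _ _)))
      obtain ⟨p, hp, hpq⟩ := Ideal.exists_minimalPrimes_le hJq
      have hpp : p.IsPrime := hp.1.1
      by_cases hpm : p = maximalIdeal R
      · have : q = maximalIdeal R :=
          ((maximalIdeal.isMaximal R).eq_of_le hqp.ne_top (hpm ▸ hpq)).symm
        rw [this]
        exact hn
      · have hxp : x ∉ p := hx p ⟨hp, hpm⟩
        have hlt : p < q := lt_of_le_of_ne hpq (fun h => hxp (h ▸ hxq))
        calc ((n + 1 : ℕ) : ℕ∞) + 1 = ((n : ℕ∞) + 1) + 1 := by push_cast; rfl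
          _ ≤ p.height + 1 := by gcongr; exact hht p hp
          _ ≤ q.height := Ideal.height_add_one_le_of_lt_of_isPrime hlt

/-- In a Noetherian local ring of dimension `d ≥ 1`, an element `f` lying in no minimal prime
extends to a system of parameters `f, g₁, …, g_{d-1}` with all `gᵢ ∈ m^(k+1)`. -/
theorem exists_sop_extending (d : ℕ) (hd : ringKrullDim R = d) (h1 : 1 ≤ d) (f : R)
    (hmin : ∀ p ∈ minimalPrimes R, f ∉ p) (k : ℕ) :
    ∃ g : Fin (d - 1) → R, (∀ i, g i ∈ maximalIdeal R ^ (k + 1)) ∧
      maximalIdeal R ≤ (Ideal.span (insert f (Set.range g))).radical := by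
  have hht : (maximalIdeal R).height = (d : ℕ∞) := by
    have h := IsLocalRing.maximalIdeal_height_eq_ringKrullDim (R := R)
    rw [hd] at h
    exact_mod_cast h
  have hdd : ((d - 1 : ℕ) : ℕ∞) + 1 = (d : ℕ∞) := by
    have : d - 1 + 1 = d := Nat.sub_add_cancel h1
    exact_mod_cast this
  obtain ⟨g, hg, hp⟩ := exists_partial_sop f hmin k (d - 1) (by rw [hdd, hht])
  refine ⟨g, hg, ?_⟩
  rw [← Ideal.sInf_minimalPrimes]
  refine le_sInf fun p hpm => ?_
  have hpp : p.IsPrime := hpm.1.1
  by_contra hnot
  have hlt : p < maximalIdeal R :=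
    lt_of_le_of_ne (IsLocalRing.le_maximalIdeal hpp.ne_top) (fun h => hnot (h ▸ le_rfl))
  have h2 := Ideal.height_add_one_le_of_lt_of_isPrime hlt
  have h3 := hp p hpm
  rw [hdd] at h3
  rw [hht] at h2
  have : (d : ℕ∞) + 1 ≤ d := le_trans (by gcongr) h2
  exact absurd this (by
    rw [not_le]
    exact_mod_cast Nat.lt_succ_self d)

end Groth.Agent.Lib.SOP
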