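import Groth.Agent.Lib.SpObjAbut

/-!
# Repackaging first-quadrant spectral sequence existence statements (helper65)

`repack`: from the conclusion of the Grothendieck spectral sequence statement (S11918-shape:
abutment `if 0 ≤ n then X n.toNat else 0`, `E₂^{p,q} ≅ if 0 ≤ p ∧ 0 ≤ q then Z p.toNat q.toNat else 0`)
get the same conclusion with isomorphic objects `X' n`, `Z' p q` and any zero objects `z`, `z'`.
-/

universe v u

open CategoryTheory Limits
open scoped ZeroObject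

namespace Groth.Agent.Lib.SSRepack65

theorem repack {C : Type u} [Category.{v} C] [Abelian C] {X X' : ℕ → C} {Z Z' : ℕ → ℕ → C}
    (z z' : C) (hz : IsZero z) (hz' : IsZero z')
    (eX : ∀ n, Nonempty (X n ≅ X' n)) (eZ : ∀ p q, Nonempty (Z p q ≅ Z' p q))
    (h : ∃ (E : E₂CohomologicalSpectralSequence C)
      (a : SpSeq.Abutment E (fun n : ℤ => if 0 ≤ n then X n.toNat else 0)),
      (∀ n, a.IsFinite n) ∧ SpSeq.IsBounded E ∧
      ∀ p q : ℤ, Nonempty ((E.page 2 le_rfl).X (p, q) ≅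
        (if 0 ≤ p ∧ 0 ≤ q then Z p.toNat q.toNat else 0))) :
    ∃ (E : E₂CohomologicalSpectralSequence C)
      (a : SpSeq.Abutment E (fun n : ℤ => if 0 ≤ n then X' n.toNat else z)),
      (∀ n, a.IsFinite n) ∧ SpSeq.IsBounded E ∧
      ∀ p q : ℤ, Nonempty ((E.page 2 le_rfl).X (p, q) ≅
        (if 0 ≤ p ∧ 0 ≤ q then Z' p.toNat q.toNat else z')) := by
  obtain ⟨E, a, hfin, hbdd, hE⟩ := h
  have e : ∀ n : ℤ, (if 0 ≤ n then X n.toNat else 0) ≅ (if 0 ≤ n then X' n.toNat else z) := by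
    intro n
    by_cases hn : 0 ≤ n
    · rw [if_pos hn, if_pos hn]
      exact (eX n.toNat).some
    · rw [if_neg hn, if_neg hn]
      exact (isZero_zero _).iso hz
  refine ⟨E, Groth.Agent.Lib.SpObjAbut.abutmentOfIso a e,
    fun n => Groth.Agent.Lib.SpObjAbut.abutmentOfIso_isFinite a e n (hfin n), hbdd, ?_⟩
  intro p q
  obtain ⟨e₂⟩ := hE p q
  by_cases hpq : 0 ≤ p ∧ 0 ≤ q
  · rw [if_pos hpq] at e₂ ⊢
    exact ⟨e₂ ≪≫ (eZ p.toNat q.toNat).some⟩
  · rw [if_neg hpq] at e₂ ⊢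
    exact ⟨e₂ ≪≫ (isZero_zero _).iso hz'⟩

end Groth.Agent.Lib.SSRepack65
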