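import Groth.Agent.Lib.CurveVB67F
import Groth.Agent.Lib.EndScalar
import Groth.Agent.Lib.PoleGlue42
import Groth.Agent.Lib.H90ProperFin

/-!
# Stable vector bundles on curves are simple (lead; campaign K6)

Namespace `Groth.Agent.Lib.StableEnd`.  `H : ProperFinHyp.Hyp` is the statement of S0002.
Setting: `X` integral, proper over a field `k`, of dimension `≤ 1`, all local rings principal (`hpid`).

* `notIso_form_of_lt_form` : stability tested on submodules of rank `0 < s < r` implies stability tested on all
  non-isomorphic submodules of positive rank.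
* `isIso_of_ne_zero` : a nonzero endomorphism of a stable bundle is an isomorphism.
* `exists_eq_smulMod` : over an algebraically closed field, every endomorphism of a stable bundle is a scalar.
-/

set_option autoImplicit false
set_option linter.style.haveILetI false
universe u
open CategoryTheory CategoryTheory.Limits AlgebraicGeometry

namespace Groth.Agent.Lib.StableEnd

open Groth.Agent.Lib.CurveVB67 Groth.Agent.Lib.ProperFinHyp

variable (H : Hyp.{u}) (k : Type u) [Field k] (X : Scheme.{u}) [X.Over (Spec (CommRingCat.of k))]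
  [IsProper (X ↘ (Spec (CommRingCat.of k)))] [IsIntegral X]
  (hpid : ∀ x : X, IsPrincipalIdealRing (X.presheaf.stalk x))

include H in
/-- stability in the `0 < s < r` form implies stability in the `¬ IsIso` form -/
theorem notIso_form_of_lt_form (hdim : topologicalKrullDim X ≤ 1) {E : X.Modules} {r : ℕ} (hE : FlatMod.IsFinLocFreeOfRank r E)
    (hst : ∀ (G : X.Modules) (s : ℕ) (ι : G ⟶ E), Mono ι → FlatMod.IsFinLocFreeOfRank s G → 0 < s → s < r →
      Curv2.deg k X G s * (r : ℤ) < Curv2.deg k X E r * (s : ℤ)) :
    ∀ (G : X.Modules) (r' : ℕ) (i : G ⟶ E), Mono i → 0 < r' → FlatMod.IsFinLocFreeOfRank r' G →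
      (¬ IsIso i) → Curv2.deg k X G r' * (r : ℤ) < Curv2.deg k X E r * (r' : ℤ) := by
  intro G r' i hi hr' hG hni
  haveI := hi
  have hEc : Coh.IsCoh E := isCoh_of_rank hE
  have hGc : Coh.IsCoh G := isCoh_of_rank hG
  have h1 : r' = rk G := eq_rk_of_isFinLocFreeOfRank hG
  have h2 : r = rk E := eq_rk_of_isFinLocFreeOfRank hE
  have hle : rk G ≤ rk E := rk_le_of_mono i hEc
  rcases Nat.lt_or_ge r' r with hlt | hge
  · exact hst G r' i hi hG hr' hlt
  · have hrr : r' = r := by omega
    subst hrr
    have hrk : rk G = rk E := by omega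
    have := deg_lt_of_not_isIso H k X hdim i hGc hEc hrk r' hni
    have hpos : (0 : ℤ) < (r' : ℤ) := by exact_mod_cast hr'
    exact mul_lt_mul_of_pos_right this hpos

include H hpid in
/-- a nonzero endomorphism of a stable bundle is an isomorphism -/
theorem isIso_of_ne_zero {E : X.Modules} {r : ℕ} (hE : FlatMod.IsFinLocFreeOfRank r E)
    (hst : ∀ (G : X.Modules) (r' : ℕ) (i : G ⟶ E), Mono i → 0 < r' → FlatMod.IsFinLocFreeOfRank r' G →
      (¬ IsIso i) → Curv2.deg k X G r' * (r : ℤ) < Curv2.deg k X E r * (r' : ℤ))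
    (f : E ⟶ E) (hf : f ≠ 0) : IsIso f := by
  obtain ⟨hIc, hIlf, hIpos⟩ := image_data k X hpid hE hE f hf
  have hEc : Coh.IsCoh E := isCoh_of_rank hE
  have hI0 : ¬ IsZero (Abelian.image f) := fun hz => hf ((isZero_image_iff f).mp hz)
  have h2 : r = rk E := eq_rk_of_isFinLocFreeOfRank hE
  have hfac : Abelian.factorThruImage f ≫ Abelian.image.ι f = f := Abelian.image.fac f
  by_cases hp : IsIso (Abelian.factorThruImage f)
  · -- `f` is a monomorphism; the image has the same degree and rank as `E`
    by_cases hι : IsIso (Abelian.image.ι f)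
    · rw [← hfac]; infer_instance
    · exfalso
      have h3 := hst _ _ (Abelian.image.ι f) inferInstance hIpos hIlf hι
      have e : E ≅ Abelian.image f := asIso (Abelian.factorThruImage f)
      have hrk : rk (Abelian.image f) = r := by rw [h2]; exact (rk_congr e).symm
      have hdeg := deg_congr k X e r
      rw [hrk] at h3
      rw [hdeg] at h3
      exact lt_irrefl _ h3
  · exfalso
    have h3 := slope_lt_of_epi H k X hpid hE hst (Abelian.factorThruImage f) hIc hI0 hp
    by_cases hι : IsIso (Abelian.image.ι f)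
    · have e : Abelian.image f ≅ E := asIso (Abelian.image.ι f)
      have hrk : rk (Abelian.image f) = r := by rw [h2]; exact rk_congr e
      have hdeg := deg_congr k X e r
      rw [hrk, hdeg] at h3
      exact lt_irrefl _ h3
    · have h4 := hst _ _ (Abelian.image.ι f) inferInstance hIpos hIlf hι
      linarith

include H hpid in
/-- **stable bundles are simple** over an algebraically closed field -/
theorem exists_eq_smulMod [IsAlgClosed k] (hdim1 : topologicalKrullDim X = 1) {E : X.Modules} {r : ℕ}
    (hE : FlatMod.IsFinLocFreeOfRank r E)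
    (hst : ∀ (G : X.Modules) (r' : ℕ) (i : G ⟶ E), Mono i → 0 < r' → FlatMod.IsFinLocFreeOfRank r' G →
      (¬ IsIso i) → Curv2.deg k X G r' * (r : ℤ) < Curv2.deg k X E r * (r' : ℤ))
    (φ : E ⟶ E) : ∃ c : k, φ = Formal.smulMod k E c := by
  by_cases h0 : IsZero E
  · exact ⟨0, h0.eq_of_src _ _⟩
  haveI := isNoetherian_of_proper k X
  haveI : X.IsSeparated :=
    Groth.Agent.Lib.H90ProperFin.isSeparated_of_over_affine (X ↘ (Spec (CommRingCat.of k)))
  obtain ⟨L, hL⟩ := Groth.Agent.Lib.PoleGlue42.exists_isAmple_of_dim_le_one X (le_of_eq hdim1)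
  exact Groth.Agent.Lib.EndScalar.exists_eq_smulMod H k hL (isCoh_of_rank hE) h0
    (fun ψ hψ => isIso_of_ne_zero H k X hpid hE hst ψ hψ) φ

end Groth.Agent.Lib.StableEnd
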