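import Groth.Agent.Lib.SchDense68
import Groth.Agent.S3833
import Mathlib.AlgebraicGeometry.Noetherian
import Mathlib.RingTheory.Ideal.AssociatedPrime.Finiteness
import Mathlib.RingTheory.Ideal.MinimalPrime.Basic
import Mathlib.RingTheory.Nilpotent.Lemmas

/-!
# Schematically dense opens and regular elements (helper68)

Ring lemmas: `exists_mem_nonZeroDivisors_of_ann_eq_bot` (abstract prime avoidance),
`exists_mem_nonZeroDivisors_of_isNoetherianRing`, `exists_mem_nonZeroDivisors_of_isReduced`: an ideal with zero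
annihilator contains a nonzerodivisor (Noetherian ring / reduced ring with finitely many minimal primes).

Scheme lemmas (affine `X`): `isSchematicallyDense_basicOpen` (`D(t)` schematically dense for a nonzerodivisor `t`),
`exists_ideal_of_isSchematicallyDense` (a schematically dense open is the complement of `V(J)` with `Ann J = 0`),
`finite_minimalPrimes_of_finite_irreducibleComponents`, `exists_basicOpen_le_of_isSchematicallyDense`.
-/

set_option autoImplicit false
universe u

namespace Groth.Agent.Lib.SchDenseReg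

variable {A : Type u} [CommRing A]

/-- Abstract prime avoidance: if `S` is a finite set of primes outside of whose union every element is a
nonzerodivisor, each `p ∈ S` is killed by a nonzero element, and `J` has zero annihilator, then `J` contains a
nonzerodivisor. -/
theorem exists_mem_nonZeroDivisors_of_ann_eq_bot (J : Ideal A) (S : Set (Ideal A)) (hS : S.Finite)
    (hprime : ∀ p ∈ S, p.IsPrime)
    (hreg : ∀ t : A, (∀ p ∈ S, t ∉ p) → t ∈ nonZeroDivisors A)
    (hkill : ∀ p ∈ S, ∃ x : A, x ≠ 0 ∧ ∀ g ∈ p, x * g = 0)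
    (hJ : ∀ a : A, (∀ g ∈ J, a * g = 0) → a = 0) :
    ∃ t ∈ J, t ∈ nonZeroDivisors A := by
  have hnot : ∀ p ∈ S, ¬ J ≤ p := by
    intro p hp hJp
    obtain ⟨x, hx0, hx⟩ := hkill p hp
    exact hx0 (hJ x fun g hg => hx g (hJp hg))
  have h1 : ¬ ((J : Set A) ⊆ ⋃ p ∈ S, ((id p : Ideal A) : Set A)) := by
    rw [Ideal.subset_union_prime_finite hS (f := id) ⊥ ⊥ (fun p hp _ _ => hprime p hp)]
    rintro ⟨p, hp, hJp⟩
    exact hnot p hp hJp
  rw [Set.not_subset] at h1
  obtain ⟨t, htJ, ht⟩ := h1
  refine ⟨t, htJ, hreg t fun p hp htp => ht ?_⟩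
  simp only [Set.mem_iUnion]
  exact ⟨p, hp, htp⟩

/-- Noetherian case: an ideal with zero annihilator contains a nonzerodivisor. -/
theorem exists_mem_nonZeroDivisors_of_isNoetherianRing [IsNoetherianRing A] (J : Ideal A)
    (hJ : ∀ a : A, (∀ g ∈ J, a * g = 0) → a = 0) : ∃ t ∈ J, t ∈ nonZeroDivisors A := by
  refine exists_mem_nonZeroDivisors_of_ann_eq_bot J (associatedPrimes A A)
    (associatedPrimes.finite A A) (fun p hp => hp.isPrime) ?_ ?_ hJ
  · intro t ht
    by_contra hcon
    have h1 : t ∈ ((nonZeroDivisors A : Set A))ᶜ := hcon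
    rw [← biUnion_associatedPrimes_eq_compl_nonZeroDivisors A] at h1
    simp only [Set.mem_iUnion] at h1
    obtain ⟨p, hp, htp⟩ := h1
    exact ht p hp htp
  · intro p hp
    obtain ⟨hprime, x, rfl⟩ := (isAssociatedPrime_iff (M := A)).mp hp
    refine ⟨x, ?_, ?_⟩
    · rintro rfl
      apply hprime.ne_top
      rw [eq_top_iff]
      intro g _
      rw [Submodule.mem_colon_singleton]
      simp
    · intro g hg
      rw [Submodule.mem_colon_singleton] at hg
      rw [mul_comm]
      simpa using hg

theorem sInf_minimalPrimes_eq_bot [IsReduced A] : sInf (minimalPrimes A) = (⊥ : Ideal A) := by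
  have h := Ideal.sInf_minimalPrimes (I := (⊥ : Ideal A))
  have h2 : (⊥ : Ideal A).radical = ⊥ := by
    change nilradical A = ⊥
    exact nilradical_eq_zero A
  rw [h2] at h
  exact h

/-- Reduced case with finitely many minimal primes: an ideal with zero annihilator contains a nonzerodivisor. -/
theorem exists_mem_nonZeroDivisors_of_isReduced [IsReduced A] (hfin : (minimalPrimes A).Finite)
    (J : Ideal A) (hJ : ∀ a : A, (∀ g ∈ J, a * g = 0) → a = 0) :
    ∃ t ∈ J, t ∈ nonZeroDivisors A := by
  classical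
  refine exists_mem_nonZeroDivisors_of_ann_eq_bot J (minimalPrimes A) hfin
    (fun p hp => IsMinimalPrime.isPrime hp) ?_ ?_ hJ
  · intro t ht
    rw [mem_nonZeroDivisors_iff_right]
    intro y hy
    have h1 : y ∈ sInf (minimalPrimes A) := by
      rw [Ideal.mem_sInf]
      intro p hp
      have hpp : p.IsPrime := IsMinimalPrime.isPrime hp
      have : y * t ∈ p := by rw [hy]; exact p.zero_mem
      exact (hpp.mem_or_mem this).resolve_right (ht p hp)
    rw [sInf_minimalPrimes_eq_bot] at h1
    exact h1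
  · intro p hp
    have hpp : p.IsPrime := IsMinimalPrime.isPrime hp
    have hTfin : (minimalPrimes A \ {p}).Finite := hfin.subset Set.sdiff_subset
    have hnot : ¬ sInf (minimalPrimes A \ {p}) ≤ p := by
      intro hle
      have h1 : hTfin.toFinset.inf id ≤ p := by
        rw [Finset.inf_id_eq_sInf, Set.Finite.coe_toFinset]
        exact hle
      rw [Ideal.IsPrime.inf_le' hpp] at h1
      obtain ⟨q, hq, hqp⟩ := h1
      rw [Set.Finite.mem_toFinset] at hq
      have hqq : q.IsPrime := IsMinimalPrime.isPrime hq.1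
      have : p ≤ q := hp.2 ⟨hqq, bot_le⟩ hqp
      exact hq.2 (le_antisymm hqp this)
    rw [SetLike.not_le_iff_exists] at hnot
    obtain ⟨x, hxT, hxp⟩ := hnot
    refine ⟨x, fun h0 => hxp (h0 ▸ p.zero_mem), fun g hg => ?_⟩
    have h1 : x * g ∈ sInf (minimalPrimes A) := by
      rw [Ideal.mem_sInf]
      intro q hq
      by_cases hqp : q = p
      · rw [hqp]; exact p.mul_mem_left x hg
      · rw [Ideal.mem_sInf] at hxT
        exact q.mul_mem_right g (hxT ⟨hq, hqp⟩)
    rw [sInf_minimalPrimes_eq_bot] at h1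
    exact h1

open CategoryTheory CategoryTheory.Limits AlgebraicGeometry Opposite TopologicalSpace

variable {X : Scheme.{u}}

/-- On an affine scheme, the nonvanishing locus of a nonzerodivisor is schematically dense. -/
theorem isSchematicallyDense_basicOpen [IsAffine X] (t : Γ(X, ⊤)) (ht : t ∈ nonZeroDivisors Γ(X, ⊤)) :
    CInt.IsSchematicallyDense (X.basicOpen t) := by
  apply Groth.Agent.S3833.result
  intro x
  let _ : Algebra Γ(X, ⊤) (X.presheaf.stalk x) :=
    TopCat.Presheaf.algebra_section_stalk X.presheaf (U := ⊤) ⟨x, trivial⟩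
  have hloc : IsLocalization.AtPrime (X.presheaf.stalk x)
      ((isAffineOpen_top X).primeIdealOf ⟨x, trivial⟩).asIdeal :=
    (isAffineOpen_top X).isLocalization_stalk ⟨x, trivial⟩
  have h := IsLocalization.map_nonZeroDivisors_le
    ((isAffineOpen_top X).primeIdealOf ⟨x, trivial⟩).asIdeal.primeCompl (X.presheaf.stalk x)
  exact h (Submonoid.mem_map_of_mem (algebraMap Γ(X, ⊤) (X.presheaf.stalk x)) ht)

/-- A schematically dense open of an affine scheme is the complement of the zero locus of an ideal with zero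
annihilator. -/
theorem exists_ideal_of_isSchematicallyDense [IsAffine X] (U : X.Opens)
    (hU : CInt.IsSchematicallyDense U) :
    ∃ J : Ideal Γ(X, ⊤), (∀ t ∈ J, X.basicOpen t ≤ U) ∧
      (∀ a : Γ(X, ⊤), (∀ g ∈ J, a * g = 0) → a = 0) := by
  obtain ⟨J, hJ⟩ := (Scheme.eq_zeroLocus_of_isClosed_of_isAffine X ((U : Set X)ᶜ)).mp U.isOpen.isClosed_compl
  have hmem : ∀ x : X, x ∈ U ↔ ∃ g ∈ J, x ∈ X.basicOpen g := by
    intro x
    have h1 : x ∈ (U : Set X)ᶜ ↔ x ∈ X.zeroLocus (U := ⊤) (J : Set Γ(X, ⊤)) := by rw [hJ]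
    rw [Scheme.mem_zeroLocus_iff, Set.mem_compl_iff] at h1
    constructor
    · intro hx
      by_contra hcon
      push Not at hcon
      exact (h1.mpr fun g hg => hcon g hg) hx
    · rintro ⟨g, hg, hxg⟩
      by_contra hx
      exact h1.mp hx g hg hxg
  refine ⟨J, fun t ht x hx => (hmem x).mpr ⟨t, ht, hx⟩, fun a ha => ?_⟩
  apply hU ⊤
  rw [map_zero]
  refine X.IsSheaf.section_ext fun x hx => ?_
  obtain ⟨g, hg, hxg⟩ := (hmem x).mp hx.2
  have hle : X.basicOpen g ≤ ⊤ ⊓ U := fun y hy => ⟨trivial, (hmem y).mpr ⟨g, hg, hy⟩⟩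
  refine ⟨X.basicOpen g, hle, hxg, ?_⟩
  rw [map_zero]
  have hunit : IsUnit (X.presheaf.map (homOfLE (X.basicOpen_le g)).op g) :=
    RingedSpace.isUnit_res_basicOpen _ g
  have h0 : X.presheaf.map (homOfLE (X.basicOpen_le g)).op a = 0 := by
    have := congrArg (X.presheaf.map (homOfLE (X.basicOpen_le g)).op).hom (ha g hg)
    rw [map_mul, map_zero] at this
    exact hunit.mul_left_eq_zero.mp this
  rw [← ConcreteCategory.comp_apply, ← Functor.map_comp]
  exact h0

theorem finite_minimalPrimes_of_finite_irreducibleComponents [IsAffine X]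
    (h : (irreducibleComponents ↥X).Finite) : (minimalPrimes Γ(X, ⊤)).Finite := by
  let e : ↥X ≃ₜ PrimeSpectrum Γ(X, ⊤) := X.isoSpec.hom.homeomorph
  have hequiv := irreducibleComponentsEquivOfIsPreirreducibleFiber (⇑e) e.continuous e.isOpenMap
    (fun x => (Set.subsingleton_singleton.preimage e.injective).isPreirreducible) e.surjective
  have hfin : (irreducibleComponents (PrimeSpectrum Γ(X, ⊤))).Finite := by
    have : Finite (irreducibleComponents ↥X) := h
    exact Finite.of_equiv _ hequiv.symm.toEquiv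
  rw [← PrimeSpectrum.vanishingIdeal_irreducibleComponents]
  exact hfin.image _

/-- A schematically dense open of an affine scheme which is Noetherian, or reduced with finitely many irreducible
components, contains `D(t)` for a nonzerodivisor `t`. -/
theorem exists_basicOpen_le_of_isSchematicallyDense [IsAffine X]
    (hX : IsNoetherian X ∨ (IsReduced X ∧ (irreducibleComponents ↥X).Finite)) (U : X.Opens)
    (hU : CInt.IsSchematicallyDense U) :
    ∃ t : Γ(X, ⊤), t ∈ nonZeroDivisors Γ(X, ⊤) ∧ X.basicOpen t ≤ U := by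
  obtain ⟨J, hJ1, hJ2⟩ := exists_ideal_of_isSchematicallyDense U hU
  rcases hX with hN | ⟨hR, hfin⟩
  · have : IsNoetherianRing Γ(X, ⊤) :=
      IsLocallyNoetherian.component_noetherian (X := X) ⟨⊤, isAffineOpen_top X⟩
    obtain ⟨t, htJ, ht⟩ := exists_mem_nonZeroDivisors_of_isNoetherianRing J hJ2
    exact ⟨t, ht, hJ1 t htJ⟩
  · have : _root_.IsReduced Γ(X, ⊤) := inferInstance
    obtain ⟨t, htJ, ht⟩ := exists_mem_nonZeroDivisors_of_isReduced
      (finite_minimalPrimes_of_finite_irreducibleComponents hfin) J hJ2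
    exact ⟨t, ht, hJ1 t htJ⟩

end Groth.Agent.Lib.SchDenseReg
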