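import Groth.Prelude.Def_SiteCmp
import Groth.Prelude.Def_DCoh2
import Groth.Agent.Lib.AffVan
import Groth.Agent.Lib.QCohWeakSerre11
import Mathlib.Topology.Sheaves.SheafCondition.Sites

/-!
# A morphism of schemes as a morphism of ringed sites (helper31)

`rmor f : ModSite.RMor X.sheaf S.sheaf` for `f : X ⟶ S`.  All the comparison statements are `rfl`:
`(rmor f).push = Scheme.Modules.pushforward f`, `SiteCmp.HasRpushD (rmor f) ↔ DCoh.HasRpush f`,
`SiteCmp.RpushD (rmor f) = DCoh.Rpush f`, `(rmor f).Rpush p = Coh.Rpush f p`.  Hence every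
statement on ringed sites (`S9065`, `S9066`, `S9076`, `PushAdjHomSite31`, ...) applies to schemes.

Also: the covering hypotheses of `S9065`/`S9066` for the class of quasi-coherent modules and the
set of affine opens (`hB_affine`, `hA_affine`).
-/

set_option autoImplicit false
universe u
open CategoryTheory CategoryTheory.Limits AlgebraicGeometry TopologicalSpace Opposite

namespace Groth.Agent.SchRMor31

attribute [local instance] reflectsLimits_of_reflectsIsomorphisms in
lemma preservesFiniteLimits_sheafPullback {X Y : TopCat.{u}} (f : X ⟶ Y) :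
    PreservesFiniteLimits ((Opens.map f).sheafPullback (Type u)
      (Opens.grothendieckTopology Y) (Opens.grothendieckTopology X)) := by
  have : RepresentablyFlat (Opens.map f) := inferInstance
  have : PreservesFiniteLimits ((Opens.map f).op.lan : (_ ⥤ _ ⥤ Type u)) :=
    inferInstance
  exact Functor.sheafPullbackConstruction.preservesFiniteLimits (Opens.map f) (Type u) _ _

/-- the morphism of ringed sites attached to a morphism of schemes -/
noncomputable def rmor {X S : Scheme.{u}} (f : X ⟶ S) : ModSite.RMor X.sheaf S.sheaf where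
  fn := Opens.map f.base
  isContinuous := inferInstance
  exact := preservesFiniteLimits_sheafPullback f.base
  sharp := ⟨f.c⟩

lemma rmor_fn {X S : Scheme.{u}} (f : X ⟶ S) : (rmor f).fn = Opens.map f.base := rfl

lemma push_eq {X S : Scheme.{u}} (f : X ⟶ S) :
    (rmor f).push = Scheme.Modules.pushforward f := rfl

lemma Rpush_eq {X S : Scheme.{u}} (f : X ⟶ S) [h : HasInjectiveResolutions X.Modules] (p : ℕ) :
    @ModSite.RMor.Rpush _ _ _ _ _ _ _ _ (rmor f) h p = Coh.Rpush f p := rfl

attribute [local instance] HasDerivedCategory.standard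

lemma hasRpushD_iff {X S : Scheme.{u}} (f : X ⟶ S) :
    SiteCmp.HasRpushD (rmor f) ↔ DCoh.HasRpush f := Iff.rfl

lemma hasRpushD {X S : Scheme.{u}} (f : X ⟶ S) [h : DCoh.HasRpush f] :
    SiteCmp.HasRpushD (rmor f) := h

lemma rpushD_eq {X S : Scheme.{u}} (f : X ⟶ S) [DCoh.HasRpush f] :
    @SiteCmp.RpushD _ _ _ _ _ _ _ _ (rmor f) (hasRpushD f) = DCoh.Rpush f := rfl

/-- the set of affine opens -/
def affines (X : Scheme.{u}) : Set X.Opens := {U | IsAffineOpen U}

/-- every open is covered by affine opens -/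
lemma hB_affine (X : Scheme.{u}) (U : X.Opens) :
    ∃ (ι : Type u) (Y : ι → X.Opens) (g : ∀ i, Y i ⟶ U),
      Sieve.ofArrows Y g ∈ Opens.grothendieckTopology ↥X U ∧ ∀ i, Y i ∈ affines X := by
  refine ⟨{V : X.Opens // IsAffineOpen V ∧ V ≤ U}, fun V => V.1, fun V => homOfLE V.2.2, ?_,
    fun V => V.2.1⟩
  rw [Opens.mem_grothendieckTopology]
  intro x hx
  obtain ⟨V, hV, hxV, hVU⟩ := Opens.isBasis_iff_nbhd.mp X.isBasis_affineOpens hx
  exact ⟨V, homOfLE hVU,
    Sieve.ofArrows_mk _ _ (⟨V, hV, hVU⟩ : {V : X.Opens // IsAffineOpen V ∧ V ≤ U}), hxV⟩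

/-- every covering sieve of an (affine) open is refined by a covering by affine opens, on which
the higher cohomology of quasi-coherent modules vanishes -/
lemma hA_affine (X : Scheme.{u}) (V : X.Opens) :
    ∃ d : ℕ, ∀ T ∈ Opens.grothendieckTopology ↥X V,
      ∃ (ι : Type u) (Y : ι → X.Opens) (g : ∀ i, Y i ⟶ V),
      (∀ i, T.arrows (g i)) ∧ Sieve.ofArrows Y g ∈ Opens.grothendieckTopology ↥X V ∧
      ∀ (i : ι) (F : X.Modules), Groth.Agent.Lib.QCohWeakSerre11.QC X F → ∀ k : ℕ, 0 < k →
        Subsingleton (ModSite.HU X.sheaf F k (Y i)) := by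
  refine ⟨0, fun T hT => ?_⟩
  refine ⟨{W : X.Opens // IsAffineOpen W ∧ ∃ h : W ≤ V, T.arrows (homOfLE h)}, fun W => W.1,
    fun W => homOfLE W.2.2.choose, fun W => W.2.2.choose_spec, ?_, ?_⟩
  · rw [Opens.mem_grothendieckTopology]
    intro x hx
    rw [Opens.mem_grothendieckTopology] at hT
    obtain ⟨W, i, hi, hxW⟩ := hT x hx
    obtain ⟨W', hW', hxW', hW'W⟩ := Opens.isBasis_iff_nbhd.mp X.isBasis_affineOpens hxW
    have hT' : T.arrows (homOfLE (hW'W.trans (leOfHom i))) := by
      have := T.downward_closed hi (homOfLE hW'W)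
      have e : homOfLE hW'W ≫ i = homOfLE (hW'W.trans (leOfHom i)) := Subsingleton.elim _ _
      rwa [e] at this
    refine ⟨W', homOfLE (hW'W.trans (leOfHom i)), ?_, hxW'⟩
    exact Sieve.ofArrows_mk _ _
      (⟨W', hW', hW'W.trans (leOfHom i), hT'⟩ :
        {W : X.Opens // IsAffineOpen W ∧ ∃ h : W ≤ V, T.arrows (homOfLE h)})
  · intro W F hF k hk
    obtain ⟨n, rfl⟩ : ∃ n : ℕ, k = n + 1 := ⟨k - 1, by omega⟩
    refine ⟨fun a b => ?_⟩
    exact (Groth.Agent.Lib.AffVan.HU_eq_zero_of_isAffineOpen F hF n W.2.1 a).trans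
      (Groth.Agent.Lib.AffVan.HU_eq_zero_of_isAffineOpen F hF n W.2.1 b).symm

end Groth.Agent.SchRMor31
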