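import Groth.Agent.Lib.PlSMT11

/-!
# Combinatorics of the Schubert divisors of `τ ∈ I(d,n)`

A divisor of `τ` is obtained by lowering one entry `τ_t` by one, which is possible exactly when `τ_t ≥ 1` and
`τ_{t-1} + 1 < τ_t`.  Hence `τ` has at most one divisor iff `τ = (0, 1, …, s - 1, a, a + 1, …)`.
-/

set_option autoImplicit false
set_option linter.unusedSectionVars false
set_option linter.unusedSimpArgs false
open Finset W4bk4grassmannian

namespace Groth.Agent.Lib.SchubertDiv
open Groth.Agent.Lib.PlSMT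

variable {d n : ℕ}

/-- The entry `τ_t` can be lowered by one. -/
def CanDec (τ : Idx d n) (t : Fin d) : Prop :=
  1 ≤ (τ.1 t).val ∧ ∀ t' : Fin d, t'.val + 1 = t.val → (τ.1 t').val + 1 < (τ.1 t).val

/-- Lower the entry `τ_t` by one. -/
def dec (τ : Idx d n) (t : Fin d) (h : CanDec τ t) : Idx d n :=
  ⟨fun t' => if t' = t then ⟨(τ.1 t).val - 1, by have := (τ.1 t).isLt; omega⟩ else τ.1 t', by
    intro a b hab
    show (if a = t then (⟨(τ.1 t).val - 1, _⟩ : Fin n) else τ.1 a).val <
      (if b = t then (⟨(τ.1 t).val - 1, _⟩ : Fin n) else τ.1 b).val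
    by_cases ha : a = t
    · subst ha
      have hb : b ≠ a := ne_of_gt hab
      rw [if_pos rfl, if_neg hb]
      have : (τ.1 a).val < (τ.1 b).val := τ.2 hab
      show (τ.1 a).val - 1 < _
      omega
    · by_cases hb : b = t
      · subst hb
        rw [if_neg ha, if_pos rfl]
        show _ < (τ.1 b).val - 1
        have hab' : a.val < b.val := hab
        have hb1 : b.val - 1 < d := by have := b.isLt; omega
        have h2 := h.2 ⟨b.val - 1, hb1⟩ (by show b.val - 1 + 1 = b.val; omega)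
        have h3 : (τ.1 a).val ≤ (τ.1 ⟨b.val - 1, hb1⟩).val :=
          τ.2.monotone (by show a.val ≤ b.val - 1; omega)
        omega
      · rw [if_neg ha, if_neg hb]
        exact τ.2 hab⟩

lemma dec_self (τ : Idx d n) (t : Fin d) (h : CanDec τ t) :
    ((dec τ t h).1 t).val = (τ.1 t).val - 1 := by
  show (if t = t then (⟨(τ.1 t).val - 1, _⟩ : Fin n) else τ.1 t).val = _
  rw [if_pos rfl]

lemma dec_ne (τ : Idx d n) (t : Fin d) (h : CanDec τ t) {t' : Fin d} (ht : t' ≠ t) :
    (dec τ t h).1 t' = τ.1 t' := by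
  show (if t' = t then (⟨(τ.1 t).val - 1, _⟩ : Fin n) else τ.1 t') = _
  rw [if_neg ht]

lemma dec_mem_divisors (τ : Idx d n) (t : Fin d) (h : CanDec τ t) : dec τ t h ∈ divisors τ := by
  refine ⟨lt_of_le_of_ne ?_ ?_, ?_⟩
  · intro t'
    show ((dec τ t h).1 t').val ≤ (τ.1 t').val
    by_cases ht : t' = t
    · subst ht; rw [dec_self]; omega
    · rw [dec_ne τ t h ht]
  · intro hEq
    have h2 : ((dec τ t h).1 t).val = (τ.1 t).val := by rw [hEq]
    rw [dec_self] at h2
    have := h.1
    omega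
  · unfold codeg
    rw [← Finset.add_sum_erase Finset.univ _ (Finset.mem_univ t),
      ← Finset.add_sum_erase Finset.univ (fun t' : Fin d => (τ.1 t').val - t'.val) (Finset.mem_univ t)]
    have h1 : ∀ t' ∈ Finset.univ.erase t, ((dec τ t h).1 t').val - t'.val =
        (τ.1 t').val - t'.val := by
      intro t' ht'
      rw [dec_ne τ t h (Finset.mem_erase.1 ht').1]
    rw [Finset.sum_congr rfl h1]
    have h2 := le_val (dec τ t h) t
    rw [dec_self] at h2 ⊢
    have := h.1
    omega

/-- Every divisor of `τ` is obtained by lowering one entry. -/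
lemma exists_of_mem_divisors {τ φ : Idx d n} (hφ : φ ∈ divisors τ) :
    ∃ t, CanDec τ t ∧ (φ.1 t).val + 1 = (τ.1 t).val ∧ ∀ t', t' ≠ t → φ.1 t' = τ.1 t' := by
  obtain ⟨hlt, hc⟩ := hφ
  have hle : ∀ t, (φ.1 t).val ≤ (τ.1 t).val := fun t => hlt.le t
  have hne : ∃ t, φ.1 t < τ.1 t := by
    by_contra hcon
    push Not at hcon
    exact hlt.ne (le_antisymm hlt.le hcon)
  obtain ⟨t, ht⟩ := hne
  have ht' : (φ.1 t).val < (τ.1 t).val := ht
  have hsum : codeg τ = codeg φ + ∑ t' : Fin d, ((τ.1 t').val - (φ.1 t').val) := by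
    unfold codeg
    rw [← Finset.sum_add_distrib]
    refine Finset.sum_congr rfl fun t' _ => ?_
    have h1 := le_val φ t'
    have h2 := hle t'
    omega
  have hsum1 : ∑ t' : Fin d, ((τ.1 t').val - (φ.1 t').val) = 1 := by omega
  rw [← Finset.add_sum_erase Finset.univ _ (Finset.mem_univ t)] at hsum1
  have hrest : ∑ t' ∈ Finset.univ.erase t, ((τ.1 t').val - (φ.1 t').val) = 0 := by omega
  have hone : (φ.1 t).val + 1 = (τ.1 t).val := by omega
  have hothers : ∀ t', t' ≠ t → φ.1 t' = τ.1 t' := by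
    intro t' ht'
    have := (Finset.sum_eq_zero_iff.1 hrest) t' (Finset.mem_erase.2 ⟨ht', Finset.mem_univ _⟩)
    have h2 := hle t'
    exact Fin.ext (by omega)
  refine ⟨t, ⟨by omega, ?_⟩, hone, hothers⟩
  intro t' htt
  have hne' : t' ≠ t := by
    intro h
    rw [h] at htt
    omega
  have hlt' : φ.1 t' < φ.1 t := φ.2 (by show t'.val < t.val; omega)
  have hlt'' : (φ.1 t').val < (φ.1 t).val := hlt'
  rw [hothers t' hne'] at hlt''
  omega

/-- The shape `(0, 1, …, s - 1, a, a + 1, …)`. -/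
def IsHook (τ : Idx d n) (s : ℕ) : Prop :=
  (∀ t : Fin d, t.val < s → (τ.1 t).val = t.val) ∧
    ∀ t t' : Fin d, s ≤ t.val → t.val + 1 = t'.val → (τ.1 t).val + 1 = (τ.1 t').val

lemma isHook_of_forall_not_canDec {τ : Idx d n} (s : ℕ)
    (h : ∀ t : Fin d, t.val ≠ s → ¬ CanDec τ t) : IsHook τ s := by
  have hstep : ∀ t t' : Fin d, t.val + 1 = t'.val → t'.val ≠ s → (τ.1 t).val + 1 = (τ.1 t').val := by
    intro t t' htt hs
    have h1 := h t' hs
    have hlt : (τ.1 t).val < (τ.1 t').val := τ.2 (by show t.val < t'.val; omega)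
    by_contra hne
    apply h1
    refine ⟨by omega, ?_⟩
    intro t'' ht''
    have : t'' = t := Fin.ext (by omega)
    rw [this]
    omega
  refine ⟨?_, ?_⟩
  · intro t
    have key : ∀ k : ℕ, ∀ (hk : k < d), k < s → (τ.1 ⟨k, hk⟩).val = k := by
      intro k
      induction k with
      | zero =>
        intro hk hks
        have h1 := h ⟨0, hk⟩ (by show 0 ≠ s; omega)
        by_contra hne
        apply h1
        refine ⟨by omega, ?_⟩
        intro t'' ht''
        exact absurd ht'' (by show t''.val + 1 ≠ 0; omega)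
      | succ k ih =>
        intro hk hks
        have h1 := ih (by omega) (by omega)
        have h2 := hstep ⟨k, by omega⟩ ⟨k + 1, hk⟩ rfl (by show k + 1 ≠ s; omega)
        omega
    intro hts
    exact key t.val t.isLt hts
  · intro t t' hst htt
    exact hstep t t' htt (by omega)

lemma eq_of_canDec_of_isHook {τ : Idx d n} {s : ℕ} (hs : IsHook τ s) {t : Fin d} (ht : CanDec τ t) :
    t.val = s := by
  rcases lt_trichotomy t.val s with hlt | heq | hgt
  · exfalso
    have h1 := hs.1 t hlt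
    rcases Nat.eq_zero_or_pos t.val with h0 | hpos
    · have := ht.1
      omega
    · have hb1 : t.val - 1 < d := by have := t.isLt; omega
      have h2 := ht.2 ⟨t.val - 1, hb1⟩ (by show t.val - 1 + 1 = t.val; omega)
      have h3 := hs.1 ⟨t.val - 1, hb1⟩ (by show t.val - 1 < s; omega)
      have h3' : (τ.1 ⟨t.val - 1, hb1⟩).val = t.val - 1 := h3
      omega
  · exact heq
  · exfalso
    have hb1 : t.val - 1 < d := by have := t.isLt; omega
    have h2 := ht.2 ⟨t.val - 1, hb1⟩ (by show t.val - 1 + 1 = t.val; omega)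
    have h3 := hs.2 ⟨t.val - 1, hb1⟩ t (by show s ≤ t.val - 1; omega)
      (by show t.val - 1 + 1 = t.val; omega)
    omega

/-- `τ` has at most one Schubert divisor iff it is of hook shape. -/
theorem subsingleton_divisors_iff (τ : Idx d n) :
    (divisors τ).Subsingleton ↔ ∃ s : ℕ, IsHook τ s := by
  classical
  constructor
  · intro hsub
    have huniq : ∀ t₁ t₂ : Fin d, CanDec τ t₁ → CanDec τ t₂ → t₁ = t₂ := by
      intro t₁ t₂ h₁ h₂
      by_contra hne
      have := hsub (dec_mem_divisors τ t₁ h₁) (dec_mem_divisors τ t₂ h₂)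
      have h3 : ((dec τ t₁ h₁).1 t₁).val = ((dec τ t₂ h₂).1 t₁).val := by rw [this]
      rw [dec_self, dec_ne τ t₂ h₂ hne] at h3
      have := h₁.1
      omega
    by_cases hex : ∃ t, CanDec τ t
    · obtain ⟨t₀, ht₀⟩ := hex
      refine ⟨t₀.val, isHook_of_forall_not_canDec t₀.val ?_⟩
      intro t ht hcd
      exact ht (congrArg Fin.val (huniq t t₀ hcd ht₀))
    · refine ⟨d, isHook_of_forall_not_canDec d ?_⟩
      intro t _ hcd
      exact hex ⟨t, hcd⟩
  · rintro ⟨s, hs⟩ φ₁ h₁ φ₂ h₂
    obtain ⟨t₁, hc₁, ho₁, hr₁⟩ := exists_of_mem_divisors h₁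
    obtain ⟨t₂, hc₂, ho₂, hr₂⟩ := exists_of_mem_divisors h₂
    have e₁ := eq_of_canDec_of_isHook hs hc₁
    have e₂ := eq_of_canDec_of_isHook hs hc₂
    have ht : t₁ = t₂ := Fin.ext (by omega)
    subst ht
    apply Subtype.ext
    funext t
    by_cases h : t = t₁
    · subst h
      exact Fin.ext (by omega)
    · rw [hr₁ t h, hr₂ t h]

end Groth.Agent.Lib.SchubertDiv
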