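import Mathlib

/-!
# Schubert conditions and vanishing of minors (helper99; used for S14504)

For a `d × n` matrix `A` with independent rows spanning `W`, and `V_t` the span of the first `t`
basis vectors: `dim (W ∩ V_t) + (column rank of the columns ≥ t) = d`, and the column ranks are
detected by the maximal minors.
-/

set_option autoImplicit false

namespace Groth.Agent.Lib.SchubertMinor99

open Module

variable {K : Type*} [Field K] {n d : ℕ}

/-- column rank of the part of `A` on the columns `≥ t` -/
noncomputable def R (A : Matrix (Fin d) (Fin n) K) (t : ℕ) : ℕ :=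
  finrank K (Submodule.span K (A.col '' {l : Fin n | t ≤ (l : ℕ)}))

lemma finrank_inf_add (A : Matrix (Fin d) (Fin n) K) (hA : LinearIndependent K A.row)
    (Vt : Submodule K (Fin n → K)) (t : ℕ)
    (hVt : ∀ v, v ∈ Vt ↔ ∀ l : Fin n, t ≤ (l : ℕ) → v l = 0) :
    finrank K ↥(Submodule.span K (Set.range A.row) ⊓ Vt) + R A t = d := by
  classical
  let A' : Matrix (Fin d) {l : Fin n // t ≤ (l : ℕ)} K := A.submatrix id Subtype.val
  have hinj : Function.Injective A.vecMulLinear := by
    rw [Matrix.coe_vecMulLinear]; exact Matrix.vecMul_injective_iff.mpr hA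
  have h1 : Submodule.span K (Set.range A.row) ⊓ Vt =
      (LinearMap.ker A'.vecMulLinear).map A.vecMulLinear := by
    ext v
    simp only [Submodule.mem_inf, Submodule.mem_map, LinearMap.mem_ker]
    rw [← _root_.range_vecMulLinear, LinearMap.mem_range, hVt]
    constructor
    · rintro ⟨⟨c, rfl⟩, hv⟩
      refine ⟨c, ?_, rfl⟩
      funext ⟨l, hl⟩
      have := hv l hl
      simpa [A', Matrix.vecMul, dotProduct] using this
    · rintro ⟨c, hc, rfl⟩
      refine ⟨⟨c, rfl⟩, fun l hl => ?_⟩
      have := congrFun hc ⟨l, hl⟩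
      simpa [A', Matrix.vecMul, dotProduct] using this
  rw [h1, LinearEquiv.finrank_eq (Submodule.equivMapOfInjective _ hinj _).symm]
  have h2 := LinearMap.finrank_range_add_finrank_ker A'.vecMulLinear
  rw [Module.finrank_fintype_fun_eq_card, Fintype.card_fin] at h2
  have h3 : finrank K (LinearMap.range A'.vecMulLinear) = R A t := by
    rw [_root_.range_vecMulLinear, ← Matrix.rank_eq_finrank_span_row,
      Matrix.rank_eq_finrank_span_cols, R]
    have : Set.range A'.col = A.col '' {l : Fin n | t ≤ (l : ℕ)} := by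
      ext v
      constructor
      · rintro ⟨⟨l, hl⟩, rfl⟩; exact ⟨l, hl, rfl⟩
      · rintro ⟨l, hl, rfl⟩; exact ⟨⟨l, hl⟩, rfl⟩
    rw [this]
  omega

lemma le_R_of_det_ne_zero (A : Matrix (Fin d) (Fin n) K) (J : Fin d → Fin n) (hJ : StrictMono J)
    (hdet : (A.submatrix id J).det ≠ 0) (i : Fin d) (t : ℕ) (ht : t ≤ (J i : ℕ)) :
    d - i ≤ R A t := by
  classical
  have hli : LinearIndependent K (A.submatrix id J).col :=
    Matrix.linearIndependent_cols_iff_isUnit.mpr
      ((Matrix.isUnit_iff_isUnit_det _).mpr (Ne.isUnit hdet))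
  have hli' : LinearIndependent K (fun s : {s : Fin d // i ≤ s} => A.col (J s)) :=
    hli.comp (fun s : {s : Fin d // i ≤ s} => (s : Fin d)) Subtype.val_injective
  have hsub : Set.range (fun s : {s : Fin d // i ≤ s} => A.col (J s)) ⊆
      Submodule.span K (A.col '' {l : Fin n | t ≤ (l : ℕ)}) := by
    rintro _ ⟨⟨s, hs⟩, rfl⟩
    exact Submodule.subset_span ⟨J s, le_trans ht (Fin.le_def.mp (hJ.monotone hs)), rfl⟩
  have h1 := linearIndependent_iff_card_eq_finrank_span.mp hli'
  have h2 : Fintype.card {s : Fin d // i ≤ s} = d - i := by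
    rw [Fintype.card_of_subtype (Finset.Ici i) (by simp), Fin.card_Ici]
  have h3 : (Set.range (fun s : {s : Fin d // i ≤ s} => A.col (J s))).finrank K ≤ R A t :=
    Submodule.finrank_mono (Submodule.span_le.mpr hsub)
  omega

lemma span_col_eq_top (A : Matrix (Fin d) (Fin n) K) (hA : LinearIndependent K A.row) :
    Submodule.span K (Set.range A.col) = ⊤ := by
  apply Submodule.eq_top_of_finrank_eq
  rw [← Matrix.rank_eq_finrank_span_cols, hA.rank_matrix, Module.finrank_fintype_fun_eq_card]

lemma card_of_linearIndepOn (A : Matrix (Fin d) (Fin n) K) (S : Set (Fin n)) [Fintype S]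
    (hS : LinearIndepOn K A.col S) :
    Fintype.card S = finrank K (Submodule.span K (A.col '' S)) := by
  have h1 := linearIndependent_iff_card_eq_finrank_span.mp hS
  rw [h1, Set.finrank]
  have : (Set.range fun x : S => A.col ↑x) = A.col '' S := by
    ext v
    constructor
    · rintro ⟨⟨l, hl⟩, rfl⟩; exact ⟨l, hl, rfl⟩
    · rintro ⟨l, hl, rfl⟩; exact ⟨⟨l, hl⟩, rfl⟩
  rw [this]

lemma exists_J_of_le_R (A : Matrix (Fin d) (Fin n) K) (hA : LinearIndependent K A.row)
    (i : Fin d) (t : ℕ) (h : d - i ≤ R A t) :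
    ∃ J : Fin d → Fin n, StrictMono J ∧ (A.submatrix id J).det ≠ 0 ∧ t ≤ (J i : ℕ) := by
  classical
  have h0 : LinearIndepOn K A.col (∅ : Set (Fin n)) := linearIndepOn_empty K A.col
  have h0sub : (∅ : Set (Fin n)) ⊆ {l : Fin n | t ≤ (l : ℕ)} := Set.empty_subset _
  set T := h0.extend h0sub with hTdef
  have hT_li : LinearIndepOn K A.col T := h0.linearIndepOn_extend h0sub
  have hT_sub : T ⊆ {l : Fin n | t ≤ (l : ℕ)} := h0.extend_subset h0sub
  have hT_span : Submodule.span K (A.col '' T) =
      Submodule.span K (A.col '' {l : Fin n | t ≤ (l : ℕ)}) :=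
    h0.span_image_extend_eq_span_image h0sub
  set S := hT_li.extend (Set.subset_univ T) with hSdef
  have hS_li : LinearIndepOn K A.col S := hT_li.linearIndepOn_extend (Set.subset_univ T)
  have hTS : T ⊆ S := hT_li.subset_extend (Set.subset_univ T)
  have hS_span : Submodule.span K (A.col '' S) = ⊤ := by
    rw [hT_li.span_image_extend_eq_span_image (Set.subset_univ T), Set.image_univ,
      span_col_eq_top A hA]
  have hcardS : S.toFinset.card = d := by
    rw [Set.toFinset_card, card_of_linearIndepOn A S hS_li, hS_span, finrank_top,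
      Module.finrank_fintype_fun_eq_card, Fintype.card_fin]
  have hcardT : T.toFinset.card = R A t := by
    rw [Set.toFinset_card, card_of_linearIndepOn A T hT_li, hT_span, R]
  let J := S.toFinset.orderEmbOfFin hcardS
  have hJmem : ∀ s, (J s) ∈ S := fun s => by
    have := Finset.orderEmbOfFin_mem S.toFinset hcardS s
    exact Set.mem_toFinset.mp this
  have hJsurj : ∀ l ∈ S, ∃ s, J s = l := by
    intro l hl
    have : l ∈ Set.range (S.toFinset.orderEmbOfFin hcardS) := by
      rw [Finset.range_orderEmbOfFin]; simpa using hl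
    exact this
  refine ⟨J, J.strictMono, ?_, ?_⟩
  · have hli : LinearIndependent K (fun s : Fin d => A.col (J s)) :=
      hS_li.comp (fun s : Fin d => (⟨J s, hJmem s⟩ : S))
        (fun a b hab => J.injective (Subtype.mk.inj hab))
    have hli2 : LinearIndependent K (A.submatrix id J).col := hli
    have := (Matrix.isUnit_iff_isUnit_det _).mp (Matrix.linearIndependent_cols_iff_isUnit.mp hli2)
    exact this.ne_zero
  · by_contra hlt
    push Not at hlt
    have hsub : T.toFinset ⊆ (Finset.Ioi i).image J := by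
      intro l hl
      rw [Set.mem_toFinset] at hl
      obtain ⟨s, rfl⟩ := hJsurj l (hTS hl)
      have htl : t ≤ ((J s : Fin n) : ℕ) := hT_sub hl
      refine Finset.mem_image.mpr ⟨s, ?_, rfl⟩
      rw [Finset.mem_Ioi]
      by_contra hs
      push Not at hs
      have : ((J s : Fin n) : ℕ) ≤ (J i : ℕ) := Fin.le_def.mp (J.monotone hs)
      omega
    have h1 := Finset.card_le_card hsub
    have h2 : ((Finset.Ioi i).image J).card ≤ (Finset.Ioi i).card := Finset.card_image_le
    rw [Fin.card_Ioi] at h2
    have := i.isLt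
    omega

theorem main (V : ℕ → Submodule K (Fin n → K))
    (hV : ∀ (j : ℕ) (v : Fin n → K), v ∈ V j ↔ ∀ l : Fin n, j ≤ (l : ℕ) → v l = 0)
    (t : Fin d → ℕ) (A : Matrix (Fin d) (Fin n) K)
    (hA : LinearIndependent K (fun i : Fin d => A i)) :
    (∀ i : Fin d, (i : ℕ) + 1 ≤
        Module.finrank K ↥(Submodule.span K (Set.range fun i : Fin d => A i) ⊓ V (t i))) ↔
      ∀ J : Fin d → Fin n, StrictMono J →
        (∃ i : Fin d, t i < (J i : ℕ) + 1) → (A.submatrix id J).det = 0 := by
  have hA' : LinearIndependent K A.row := hA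
  constructor
  · rintro h J hJ ⟨i, hi⟩
    by_contra hdet
    have h1 := le_R_of_det_ne_zero A J hJ hdet i (t i) (by omega)
    have h2 := finrank_inf_add A hA' (V (t i)) (t i) (hV _)
    have h3 := h i
    have h4 : Module.finrank K ↥(Submodule.span K (Set.range fun i : Fin d => A i) ⊓ V (t i)) =
      finrank K ↥(Submodule.span K (Set.range A.row) ⊓ V (t i)) := rfl
    have := i.isLt
    omega
  · intro h i
    by_contra hlt
    push Not at hlt
    have h2 := finrank_inf_add A hA' (V (t i)) (t i) (hV _)
    have h4 : Module.finrank K ↥(Submodule.span K (Set.range fun i : Fin d => A i) ⊓ V (t i)) =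
      finrank K ↥(Submodule.span K (Set.range A.row) ⊓ V (t i)) := rfl
    obtain ⟨J, hJ, hdet, hti⟩ := exists_J_of_le_R A hA' i (t i) (by omega)
    exact hdet (h J hJ ⟨i, by omega⟩)

end Groth.Agent.Lib.SchubertMinor99
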