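import Groth.Agent.Lib.SchubertPrime
import Groth.Agent.Lib.SchubertDivisors

/-!
# Factoriality of the cone over a Schubert variety

`R = S/J(τ)` is factorial iff the class of `X_τ` is prime (Nagata's criterion and the big cell) iff `τ` has at most
one Schubert divisor.
-/

set_option autoImplicit false
set_option linter.unusedSectionVars false
set_option linter.unusedSimpArgs false
universe u
open Finset MvPolynomial W4bk4grassmannian

noncomputable section

namespace Groth.Agent.Lib.SchubertCell
open Groth.Agent.Lib.PlSMT

variable {d n : ℕ} (K : Type u) [Field K] (τ : Idx d n)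

section Inf
variable [Infinite K] (hd : 0 < d)

include hd in
lemma isUnit_of_isUnit_alphaBar {a : SchB K τ} (h : IsUnit (alphaBar K τ hd a)) : IsUnit a := by
  obtain ⟨r, hr, hra⟩ := MvPolynomial.isUnit_iff_eq_C_of_isReduced.1 h
  have h1 : alphaBar K τ hd (algebraMap K (SchB K τ) r) = alphaBar K τ hd a := by
    rw [hra, AlgHom.commutes]
    rfl
  rw [← alphaBar_injective K τ hd h1]
  exact hr.map _

include hd in
/-- The class of `X_τ` is irreducible in `S/J(τ)`. -/
lemma irreducible_mk_X :
    Irreducible (Ideal.Quotient.mk (schubertVanishing K d n τ) (X τ)) := by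
  have hX : Irreducible (X none : CellP K τ) := (MvPolynomial.X_prime).irreducible
  refine ⟨?_, ?_⟩
  · intro hu
    have := hu.map (alphaBar K τ hd)
    rw [alphaBar_X_self K τ hd] at this
    exact hX.not_isUnit this
  · intro a b hab
    have h1 : (X none : CellP K τ) = alphaBar K τ hd a * alphaBar K τ hd b := by
      rw [← map_mul, ← hab, alphaBar_X_self K τ hd]
    rcases hX.isUnit_or_isUnit h1 with h | h
    · exact Or.inl (isUnit_of_isUnit_alphaBar K τ hd h)
    · exact Or.inr (isUnit_of_isUnit_alphaBar K τ hd h)

include hd in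
/-- `S/J(τ)` is factorial iff the class of `X_τ` is a prime element. -/
theorem ufd_iff_prime :
    UniqueFactorizationMonoid (SchB K τ) ↔
      Prime (Ideal.Quotient.mk (schubertVanishing K d n τ) (X τ)) := by
  classical
  have hdom : IsDomain (SchB K τ) := isDomain_schB K hd τ
  constructor
  · intro hufd
    exact UniqueFactorizationMonoid.irreducible_iff_prime.1 (irreducible_mk_X K τ hd)
  · intro hp
    let L := Localization.Away (MvPolynomial.X none : CellP K τ)
    let _ : Algebra (SchB K τ) L := (cellMap K τ hd).toAlgebra
    have hloc : IsLocalization.Away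
        (Ideal.Quotient.mk (schubertVanishing K d n τ) (MvPolynomial.X τ)) L :=
      isLocalization_cell K τ hd
    have hufdL : UniqueFactorizationMonoid L := inferInstance
    exact (UniqueFactorizationMonoid.iff_of_isLocalizationAway_of_prime hp L).2 hufdL

end Inf

section AlgClosed
variable [IsAlgClosed K] (hd : 0 < d) (hdn : d < n)

include hd hdn in
/-- The class of `X_τ` is prime in `S/J(τ)` iff `τ` has at most one Schubert divisor. -/
theorem prime_iff_subsingleton :
    Prime (Ideal.Quotient.mk (schubertVanishing K d n τ) (X τ)) ↔ (divisors τ).Subsingleton := by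
  classical
  have hdom : IsDomain (SchB K τ) := isDomain_schB K hd τ
  rw [← Ideal.span_singleton_prime (mk_X_self_ne_zero K τ)]
  by_cases hτ : ∃ φ : Idx d n, φ < τ
  · have hcomap := comap_span_mk_X_eq_iInf K τ hd hdn hτ
    constructor
    · intro hprime φ₁ h₁ φ₂ h₂
      by_contra hne
      have hP : (Ideal.comap (Ideal.Quotient.mk (schubertVanishing K d n τ))
          (Ideal.span {Ideal.Quotient.mk (schubertVanishing K d n τ) (X τ)})).IsPrime :=
        Ideal.comap_isPrime _ _
      have hnle : ∀ {φ φ' : Idx d n}, φ ∈ divisors τ → φ' ∈ divisors τ → φ ≠ φ' → ¬ φ ≤ φ' := by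
        intro φ φ' hφ hφ' hneq hle
        have := codeg_lt_of_lt (lt_of_le_of_ne hle hneq)
        have e1 := hφ.2
        have e2 := hφ'.2
        omega
      have hmem : (X φ₁ * X φ₂ : PlRing K d n) ∈
          Ideal.comap (Ideal.Quotient.mk (schubertVanishing K d n τ))
          (Ideal.span {Ideal.Quotient.mk (schubertVanishing K d n τ) (X τ)}) := by
        rw [hcomap, Ideal.mem_iInf]
        intro φ
        rw [Ideal.mem_iInf]
        intro hφ
        by_cases h1 : φ₁ = φ
        · have : φ₂ ≠ φ := fun h => hne (h1.trans h.symm)
          exact Ideal.mul_mem_left _ _ (X_mem_schubertVanishing K (hnle h₂ hφ this))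
        · exact Ideal.mul_mem_right _ _ (X_mem_schubertVanishing K (hnle h₁ hφ h1))
      have hnot : ∀ {φ : Idx d n}, φ ∈ divisors τ → (X φ : PlRing K d n) ∉
          Ideal.comap (Ideal.Quotient.mk (schubertVanishing K d n τ))
          (Ideal.span {Ideal.Quotient.mk (schubertVanishing K d n τ) (X τ)}) := by
        intro φ hφ hmem'
        rw [hcomap, Ideal.mem_iInf] at hmem'
        have := hmem' φ
        rw [Ideal.mem_iInf] at this
        exact mk_X_self_ne_zero K φ (Ideal.Quotient.eq_zero_iff_mem.2 (this hφ))
      rcases hP.mem_or_mem hmem with h | h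
      · exact hnot h₁ h
      · exact hnot h₂ h
    · intro hsub
      obtain ⟨φ₀, hφ₀⟩ := hτ
      obtain ⟨φ, hφ, -⟩ := Groth.Agent.S11268.result d n φ₀ τ hφ₀
      have hJ : (⨅ φ' ∈ divisors τ, schubertVanishing K d n φ') = schubertVanishing K d n φ := by
        apply le_antisymm
        · exact iInf₂_le φ hφ
        · refine le_iInf₂ fun φ' hφ' => ?_
          rw [hsub hφ' hφ]
      rw [hJ] at hcomap
      have hPφ := isPrime_schubertVanishing K hd φ
      refine ⟨?_, ?_⟩
      · intro htop
        apply hPφ.ne_top
        rw [← hcomap, htop, Ideal.comap_top]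
      · intro a b hab
        obtain ⟨f, rfl⟩ := Ideal.Quotient.mk_surjective a
        obtain ⟨g, rfl⟩ := Ideal.Quotient.mk_surjective b
        have h1 : f * g ∈ schubertVanishing K d n φ := by
          rw [← hcomap, Ideal.mem_comap, map_mul]; exact hab
        rcases hPφ.mem_or_mem h1 with h | h
        · left
          rw [← hcomap] at h
          exact h
        · right
          rw [← hcomap] at h
          exact h
  · constructor
    · intro _ φ₁ h₁
      exact absurd ⟨φ₁, h₁.1⟩ hτ
    · intro _
      rw [span_mk_X_eq_ker_aug K τ hd hτ]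
      have : (RingHom.ker (aug K hd τ)).IsMaximal :=
        RingHom.ker_isMaximal_of_surjective _ (aug_surjective K hd τ)
      exact this.isPrime

end AlgClosed

end Groth.Agent.Lib.SchubertCell
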