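import Groth.Agent.Lib.SectOnSections95
import Groth.Agent.Lib.DerivedBCAcyc
import Groth.Prelude.Def_ModSite2

/-!
# `Γ_Z` and `ℋ^q_Z` commute with localisation (helper95)
-/

set_option autoImplicit false
universe u
open CategoryTheory CategoryTheory.Limits Opposite

namespace Groth.Agent.Lib.SectOnRestr95

open Groth.Agent.Lib.SuppAdj21 Groth.Agent.Lib.SectOnSections95

variable {C : Type u} [SmallCategory C] {J : GrothendieckTopology C}
  (O : Sheaf J CommRingCat.{u}) [HasBinaryProducts C] (U X : C)

/-- the object `U × X ⟶ X` of `C/X` -/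
noncomputable abbrev UX : Over X := Over.mk (Limits.prod.snd : U ⨯ X ⟶ X)

variable [ModSite.HasPushOver (O.over X) (UX U X)]

/-- `Γ_Z(-)|_X` as a subfunctor of restriction -/
noncomputable def ι₁ : ModSite.sectOn O U ⋙ ModSite.restr O X ⟶ ModSite.restr O X where
  app F := (ModSite.restr O X).map ((ModSite.sectOnι O U).app F)
  naturality F G φ := by
    have h := (ModSite.sectOnι O U).naturality φ
    simp only [Functor.id_map] at h
    simp only [Functor.comp_map]
    rw [← Functor.map_comp, ← Functor.map_comp, h]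

/-- `Γ_{Z/X}(-|_X)` as a subfunctor of restriction -/
noncomputable def ι₂ : ModSite.restr O X ⋙ ModSite.sectOn (O.over X) (UX U X) ⟶ ModSite.restr O X where
  app F := (ModSite.sectOnι (O.over X) (UX U X)).app ((ModSite.restr O X).obj F)
  naturality F G φ := (ModSite.sectOnι (O.over X) (UX U X)).naturality ((ModSite.restr O X).map φ)

instance (F : ModSite.Mod O) : Mono ((ι₁ O U X).app F) :=
  inferInstanceAs (Mono ((ModSite.restr O X).map ((ModSite.sectOnι O U).app F)))

instance (F : ModSite.Mod O) : Mono ((ι₂ O U X).app F) :=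
  inferInstanceAs (Mono ((ModSite.sectOnι (O.over X) (UX U X)).app ((ModSite.restr O X).obj F)))

lemma h₁₂ (F : ModSite.Mod O) :
    ∃ l : (ModSite.sectOn O U ⋙ ModSite.restr O X).obj F ⟶
        (ModSite.restr O X ⋙ ModSite.sectOn (O.over X) (UX U X)).obj F,
      l ≫ (ι₂ O U X).app F = (ι₁ O U X).app F := by
  apply exists_lift_of_sections
  intro Y x
  refine exists_sectOn_section (O.over X) (UX U X) ((ModSite.restr O X).obj F)
    (((ι₁ O U X).app F).val.app (op Y) x) ?_
  intro W g a
  exact rs_sectOnι_eq_zero O U F g.left (a.left ≫ Limits.prod.fst) x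

lemma h₂₁ (F : ModSite.Mod O) :
    ∃ l : (ModSite.restr O X ⋙ ModSite.sectOn (O.over X) (UX U X)).obj F ⟶
        (ModSite.sectOn O U ⋙ ModSite.restr O X).obj F,
      l ≫ (ι₁ O U X).app F = (ι₂ O U X).app F := by
  apply exists_lift_of_sections
  intro Y x
  refine exists_sectOn_section O U F (V := Y.left) (((ι₂ O U X).app F).val.app (op Y) x) ?_
  intro W g a
  let W' : Over X := Over.mk (g ≫ Y.hom)
  let g' : W' ⟶ Y := Over.homMk g rfl
  let a' : W' ⟶ UX U X := Over.homMk (prod.lift a (g ≫ Y.hom)) (prod.lift_snd _ _)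
  exact rs_sectOnι_eq_zero (O.over X) (UX U X) ((ModSite.restr O X).obj F) g' a' x

/-- `Γ_Z(F)|_X ≅ Γ_{Z/X}(F|_X)` -/
noncomputable def sectOnRestrIso :
    ModSite.sectOn O U ⋙ ModSite.restr O X ≅
      ModSite.restr O X ⋙ ModSite.sectOn (O.over X) (UX U X) :=
  natIsoOfMonos (ι₁ O U X) (ι₂ O U X) (h₁₂ O U X) (h₂₁ O U X)

omit [HasBinaryProducts C] in
/-- `Γ_Z` is left exact -/
lemma preservesFiniteLimits_sectOn [ModSite.HasPushOver O U] :
    PreservesFiniteLimits (ModSite.sectOn O U) := by
  have : PreservesLimitsOfSize.{0, 0} (ModSite.sectOn O U) :=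
    (adj O U).rightAdjoint_preservesLimits
  exact ⟨fun K _ _ => inferInstance⟩

omit [HasBinaryProducts C] [ModSite.HasPushOver (O.over X) (UX U X)] in
/-- restriction to `C/X` preserves injective modules -/
lemma injective_restr (I : ModSite.Mod O) [Injective I] :
    Injective ((ModSite.restr O X).obj I) := by
  have := Groth.Agent.Lib.ModShriek.preservesMonomorphisms_of_adjunction J (ModSite.ringSh O) X
    (ModSite.extZero O X) (ModSite.extZeroAdj O X)
  exact Injective.injective_of_adjoint (ModSite.extZeroAdj O X) I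

/-- **`ℋ^q_Z` commutes with localisation.** -/
theorem nonempty_HZsh_comp_restr_iso [HasInjectiveResolutions (ModSite.Mod O)]
    [HasInjectiveResolutions (ModSite.Mod (O.over X))] (q : ℕ) :
    Nonempty (ModSite.HZsh O U q ⋙ ModSite.restr O X ≅
      ModSite.restr O X ⋙ ModSite.HZsh (O.over X) (UX U X) q) := by
  have h1 := preservesFiniteLimits_sectOn O U
  have h2 := preservesFiniteLimits_sectOn (O.over X) (UX U X)
  have h3 : PreservesFiniteLimits (ModSite.restr O X) := by
    have : PreservesLimitsOfSize.{0, 0} (ModSite.restr O X) :=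
      (ModSite.extZeroAdj O X).rightAdjoint_preservesLimits
    exact ⟨fun K _ _ => inferInstance⟩
  have h4 : PreservesFiniteColimits (ModSite.restr O X) := by
    have : PreservesColimitsOfSize.{0, 0} (ModSite.restr O X) :=
      (ModSite.restrPushOverAdj O X).leftAdjoint_preservesColimits
    exact ⟨fun K _ _ => inferInstance⟩
  refine Groth.Agent.Lib.DerivedBCAcyc.nonempty_natIso (Φ := ModSite.sectOn O U)
    (Φ' := ModSite.sectOn (O.over X) (UX U X)) (R := ModSite.restr O X) (S := ModSite.restr O X)
    (sectOnRestrIso O U X) ?_ q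
  intro I hI n
  have := injective_restr O X I
  exact Functor.isZero_rightDerived_obj_injective_succ _ n _

end Groth.Agent.Lib.SectOnRestr95
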