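import Groth.Agent.Lib.SectOnSections95
import Groth.Agent.Lib.SectOnRestr95
import Groth.Agent.Lib.CechAcyc7
import Groth.Agent.Lib.ModAcyc
import Groth.Agent.Lib.FAcyclic11
import Groth.Agent.Lib.ModSiteSliceFree
import Groth.Prelude.Def_ModSite2

/-!
# `ℋ^q_Z` vanishes on flasque (totally acyclic) modules (helper95)
-/

set_option autoImplicit false
universe u
open CategoryTheory CategoryTheory.Limits Opposite

namespace Groth.Agent.Lib.SectOnFlasque95

open Groth.Agent.Lib.SuppAdj21 Groth.Agent.Lib.SectOnSections95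
open Groth.Agent.Lib.CechAcyc3 Groth.Agent.Lib.CechAcyc4 Groth.Agent.Lib.CechAcyc7

section Abstract

variable {A : Type*} {B : Type*} [Category* A] [Abelian A] [HasInjectiveResolutions A]
  [Category* B] [Abelian B] (F : A ⥤ B) [F.Additive] [PreservesFiniteLimits F]

/-- a class of objects containing the injectives, closed under cokernels of monomorphisms, and
on which `F` is exact, consists of `F`-acyclic objects. -/
theorem isZero_rightDerived_succ_of_class (P : A → Prop) (hinj : ∀ I : A, Injective I → P I)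
    (h3 : ∀ S : ShortComplex A, S.ShortExact → P S.X₁ → P S.X₂ → P S.X₃)
    (hepi : ∀ S : ShortComplex A, S.ShortExact → P S.X₁ → Epi (F.map S.g)) :
    ∀ (q : ℕ) (M : A), P M → IsZero ((F.rightDerived (q + 1)).obj M) := by
  have := Groth.Agent.Lib.FAcyclic11.enoughInjectives (A := A)
  intro q
  induction q with
  | zero =>
    intro M hM
    let S : ShortComplex A := ShortComplex.mk (Injective.ι M) (cokernel.π (Injective.ι M))
      (cokernel.condition _)
    have hS : S.ShortExact :=
      { exact := ShortComplex.exact_cokernel _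
        mono_f := by dsimp [S]; infer_instance
        epi_g := by dsimp [S]; infer_instance }
    obtain ⟨δ, _, h⟩ := Groth.Agent.RDPlus31.rightDerived_les F hS
    obtain ⟨_, ⟨w2, hw2⟩, ⟨w3, hw3⟩⟩ := h 0
    have hF : Epi (F.map S.g) := hepi S hS hM
    have hR : Epi ((F.rightDerived 0).map S.g) := by
      have e := F.rightDerivedZeroIsoSelf
      have h1 : (F.rightDerived 0).map S.g = e.hom.app _ ≫ F.map S.g ≫ e.inv.app _ := by
        rw [← Category.assoc, ← e.hom.naturality, Category.assoc, Iso.hom_inv_id_app,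
          Category.comp_id]
      rw [h1]
      infer_instance
    have hδ : δ 0 = 0 := by
      rw [← cancel_epi ((F.rightDerived 0).map S.g), comp_zero]
      exact w2
    exact hw3.isZero_of_both_zeros hδ
      ((F.isZero_rightDerived_obj_injective_succ 0 (Injective.under M)).eq_of_tgt _ _)
  | succ q ih =>
    intro M hM
    let S : ShortComplex A := ShortComplex.mk (Injective.ι M) (cokernel.π (Injective.ι M))
      (cokernel.condition _)
    have hS : S.ShortExact :=
      { exact := ShortComplex.exact_cokernel _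
        mono_f := by dsimp [S]; infer_instance
        epi_g := by dsimp [S]; infer_instance }
    have hP3 : P S.X₃ := h3 S hS hM (hinj _ (inferInstanceAs (Injective (Injective.under M))))
    exact Groth.Agent.Lib.FAcyclic11.isZero_X₁_succ F hS (q + 1) (ih _ hP3)
      (F.isZero_rightDerived_obj_injective_succ (q + 1) (Injective.under M))

end Abstract

section Ab

variable {C : Type u} [SmallCategory C] {J : GrothendieckTopology C}

/-- cokernels of monomorphisms of totally acyclic sheaves are totally acyclic -/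
lemma isTotallyAcyclic_X₃ {S : ShortComplex (Sheaf J AddCommGrpCat.{u})} (hS : S.ShortExact)
    (h1 : CohCx.IsTotallyAcyclic S.X₁) (h2 : CohCx.IsTotallyAcyclic S.X₂) :
    CohCx.IsTotallyAcyclic S.X₃ := by
  intro K p
  have hz : ∀ x₃ : CohCx.HK K S.X₃ (p + 1), x₃ = 0 := by
    intro x₃
    have := h1 K (p + 1)
    obtain ⟨x₂, hx₂⟩ := Abelian.Ext.covariant_sequence_exact₃ _ hS x₃
      (rfl : p + 1 + 1 = p + 1 + 1) (Subsingleton.elim _ _)
    have := h2 K p
    rw [← hx₂, Subsingleton.elim x₂ 0, Abelian.Ext.zero_comp]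
  exact ⟨fun a b => (hz a).trans (hz b).symm⟩

/-- sections of a totally acyclic sheaf extend from any sieve: every compatible family on a
sieve of `V` is the restriction of a section over `V`. -/
theorem exists_section_of_family (A : Sheaf J AddCommGrpCat.{u}) (hA : CohCx.IsTotallyAcyclic A)
    {V : C} (S : Sieve V) (x : ∀ ⦃W : C⦄ (g : W ⟶ V), S g → A.obj.obj (op W))
    (hx : ∀ ⦃W W' : C⦄ (g : W ⟶ V) (hg : S g) (k : W' ⟶ W),
      A.obj.map k.op (x g hg) = x (k ≫ g) (S.downward_closed hg k)) :
    ∃ s : A.obj.obj (op V), ∀ ⦃W : C⦄ (g : W ⟶ V) (hg : S g), A.obj.map g.op s = x g hg := by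
  let FA : Sheaf J (Type u) := (sheafCompose J (forget AddCommGrpCat.{u})).obj A
  let τ : S.functor ⟶ FA.obj :=
    { app := fun W => ↾(fun (g : {g : W.unop ⟶ V // S g}) => x g.1 g.2)
      naturality := by
        intro W W' k
        ext ⟨g, hg⟩
        exact (hx g hg k.unop).symm }
  let sa := sheafificationAdjunction J (Type u)
  let Y : Sheaf J (Type u) := (presheafToSheaf J (Type u)).obj S.functor
  let Xs : Sheaf J (Type u) := (presheafToSheaf J (Type u)).obj (yoneda.obj V)
  let ι : Y ⟶ Xs := (presheafToSheaf J (Type u)).map S.functorInclusion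
  have hι : Mono ι := inferInstanceAs (Mono ((presheafToSheaf J (Type u)).map S.functorInclusion))
  let y : (T J).obj Y ⟶ A := ((CechAcyc4.adj (J := J)).homEquiv Y A).symm ((sa.homEquiv S.functor FA).symm τ)
  obtain ⟨x', hx'⟩ := exists_extension_of_isTotallyAcyclic ι A hA y
  let τ' : yoneda.obj V ⟶ FA.obj := sa.homEquiv (yoneda.obj V) FA ((CechAcyc4.adj (J := J)).homEquiv Xs A x')
  have hτ : S.functorInclusion ≫ τ' = τ := by
    have h1 : (CechAcyc4.adj (J := J)).homEquiv Y A ((T J).map ι ≫ x') =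
        ι ≫ (CechAcyc4.adj (J := J)).homEquiv Xs A x' := (CechAcyc4.adj (J := J)).homEquiv_naturality_left ι x'
    have h2 : sa.homEquiv S.functor FA (ι ≫ (CechAcyc4.adj (J := J)).homEquiv Xs A x') =
        S.functorInclusion ≫ τ' := sa.homEquiv_naturality_left S.functorInclusion _
    rw [← h2, ← h1, hx']
    simp only [y, Equiv.apply_symm_apply]
  refine ⟨yonedaEquiv τ', fun W g hg => ?_⟩
  have h3 : τ'.app (op W) g = x g hg :=
    congrArg (fun t : S.functor ⟶ FA.obj => t.app (op W) ⟨g, hg⟩) hτ
  exact (map_yonedaEquiv τ' g).trans h3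

end Ab

section Mod

variable {C : Type u} [SmallCategory C] {J : GrothendieckTopology C}
  (O : Sheaf J CommRingCat.{u}) (U : C)

open Groth.Agent.Lib.ModSiteFreeOn

lemma freeOnHomEquiv_zero (W : C) (N : ModSite.Mod O) :
    freeOnHomEquiv O W N 0 = 0 := by
  have h := freeOnHomEquiv_comp O W (0 : ModSite.freeOn O W ⟶ N) (0 : N ⟶ N)
  rw [comp_zero] at h
  exact h

variable {O} in
/-- left exactness of sections on short exact sequences of modules -/
lemma exists_of_g_eq_zero {S : ShortComplex (ModSite.Mod O)} (hS : S.ShortExact) {W : C}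
    (n : ModSite.sect S.X₂ W) (hn : S.g.val.app (op W) n = 0) :
    ∃ m : ModSite.sect S.X₁ W, S.f.val.app (op W) m = n := by
  have := hS.mono_f
  let ν : ModSite.freeOn O W ⟶ S.X₂ := (freeOnHomEquiv O W S.X₂).symm n
  have hν : ν ≫ S.g = 0 := by
    apply (freeOnHomEquiv O W S.X₃).injective
    rw [freeOnHomEquiv_comp, freeOnHomEquiv_zero]
    simp only [ν, Equiv.apply_symm_apply]
    exact hn
  refine ⟨freeOnHomEquiv O W S.X₁ (hS.exact.lift ν hν), ?_⟩
  rw [← freeOnHomEquiv_comp, hS.exact.lift_f]
  simp only [ν, Equiv.apply_symm_apply]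

/-- the sieve of arrows whose source maps to `U` -/
def sieveU (W : C) : Sieve W where
  arrows W' _ := Nonempty (W' ⟶ U)
  downward_closed := fun ⟨a⟩ k => ⟨k ≫ a⟩

variable [ModSite.HasPushOver O U]

/-- **`Γ_Z` is exact on short exact sequences with flasque kernel.** -/
theorem epi_sectOn_map_g {S : ShortComplex (ModSite.Mod O)} (hS : S.ShortExact)
    (hM : CohCx.IsTotallyAcyclic (ModSite.toAb S.X₁)) :
    Epi ((ModSite.sectOn O U).map S.g) := by
  have := hS.mono_f
  have := hS.epi_g
  have hnat : (ModSite.sectOn O U).map S.g ≫ (ModSite.sectOnι O U).app S.X₃ =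
      (ModSite.sectOnι O U).app S.X₂ ≫ S.g := (ModSite.sectOnι O U).naturality S.g
  apply epi_of_locally_surjective
  intro V x
  obtain ⟨R, hR, hlift⟩ := Groth.Agent.Lib.ModSiteSliceFree.exists_local_lift_of_epi O S.g
    (((ModSite.sectOnι O U).app S.X₃).val.app (op V) x)
  refine ⟨R, hR, fun W g hg => ?_⟩
  obtain ⟨n, hn⟩ := hlift g hg
  have hn' : S.g.val.app (op W) n = rs S.X₃ g (((ModSite.sectOnι O U).app S.X₃).val.app (op V) x) := hn
  -- the restrictions of `n` to objects mapping to `U` come from `S.X₁`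
  have h1 : ∀ ⦃W' : C⦄ (h : W' ⟶ W), sieveU U W h →
      ∃ m : ModSite.sect S.X₁ W', S.f.val.app (op W') m = rs S.X₂ h n := by
    intro W' h hh
    apply exists_of_g_eq_zero hS
    rw [← rs_app, hn', ← rs_comp]
    exact rs_sectOnι_eq_zero O U S.X₃ (h ≫ g) hh.some x
  choose m hm using h1
  have hinj : ∀ W' : C, Function.Injective (S.f.val.app (op W')) :=
    fun W' => injective_app_of_mono S.f W'
  obtain ⟨m₀, hm₀⟩ := exists_section_of_family (ModSite.toAb S.X₁) hM (sieveU U W) m (by
    intro W' W'' h hh k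
    apply hinj W''
    have e1 : S.f.val.app (op W'') (rs S.X₁ k (m h hh)) = rs S.X₂ (k ≫ h) n := by
      rw [← rs_app, hm, ← rs_comp]
    exact e1.trans (hm (k ≫ h) _).symm)
  have hm₀' : ∀ ⦃W' : C⦄ (h : W' ⟶ W) (hh : sieveU U W h), rs S.X₁ h m₀ = m h hh := hm₀
  -- correct the lift
  obtain ⟨t, ht⟩ := exists_sectOn_section O U S.X₂ (n - S.f.val.app (op W) m₀) (by
    intro W' h a
    have e1 : rs S.X₂ h (n - S.f.val.app (op W) m₀) =
        rs S.X₂ h n - rs S.X₂ h (S.f.val.app (op W) m₀) := map_sub (S.X₂.val.map h.op).hom _ _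
    rw [e1, rs_app, hm₀' h ⟨a⟩, hm, sub_self])
  refine ⟨t, ?_⟩
  apply injective_app_of_mono ((ModSite.sectOnι O U).app S.X₃) W
  have e2 : ((ModSite.sectOnι O U).app S.X₃).val.app (op W)
      (((ModSite.sectOn O U).map S.g).val.app (op W) t) =
      S.g.val.app (op W) (((ModSite.sectOnι O U).app S.X₂).val.app (op W) t) :=
    congrArg (fun φ : (ModSite.sectOn O U).obj S.X₂ ⟶ S.X₃ => φ.val.app (op W) t) hnat
  rw [e2, ht, ← rs_app, map_sub, hn']
  have e3 : S.g.val.app (op W) (S.f.val.app (op W) m₀) = 0 :=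
    congrArg (fun φ : S.X₁ ⟶ S.X₃ => φ.val.app (op W) m₀) S.zero
  rw [e3, sub_zero]
  rfl

/-- **`ℋ^{q+1}_Z` vanishes on modules whose underlying abelian sheaf is totally acyclic.** -/
theorem isZero_HZsh_of_isTotallyAcyclic [HasInjectiveResolutions (ModSite.Mod O)]
    (M : ModSite.Mod O) (hM : CohCx.IsTotallyAcyclic (ModSite.toAb M)) (q : ℕ) :
    IsZero ((ModSite.HZsh O U (q + 1)).obj M) := by
  have := Groth.Agent.Lib.SectOnRestr95.preservesFiniteLimits_sectOn O U
  have hc : PreservesFiniteColimits (SheafOfModules.toSheaf.{u} (ModSite.ringSh O)) :=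
    ⟨fun K _ _ => inferInstance⟩
  refine isZero_rightDerived_succ_of_class (ModSite.sectOn O U)
    (fun M => CohCx.IsTotallyAcyclic (ModSite.toAb M)) ?_ ?_ ?_ q M hM
  · intro I hI
    exact Groth.Agent.Lib.ModAcyc.isTotallyAcyclic_of_injective (ModSite.ringSh O) I
  · intro S hS h1 h2
    exact isTotallyAcyclic_X₃ (hS.map_of_exact (SheafOfModules.toSheaf.{u} (ModSite.ringSh O)))
      h1 h2
  · intro S hS h1
    exact epi_sectOn_map_g O U hS h1

end Mod

end Groth.Agent.Lib.SectOnFlasque95
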