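import Groth.Agent.Lib.SectOnFlasque95
import Mathlib.Algebra.Category.ModuleCat.Sheaf.ChangeOfRings

/-!
# `Γ_Z` and `ℋ^q_Z` commute with restriction of scalars (helper95)
-/

set_option autoImplicit false
universe u
open CategoryTheory CategoryTheory.Limits Opposite

namespace Groth.Agent.Lib.SectOnScalars95

open Groth.Agent.Lib.SuppAdj21 Groth.Agent.Lib.SectOnSections95

section Exact

variable {C : Type u} [SmallCategory C] {J : GrothendieckTopology C}
  {R R' : Sheaf J RingCat.{u}} (α : R ⟶ R')

lemma toSheaf_restrictScalars_obj (M : SheafOfModules.{u} R') :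
    (SheafOfModules.toSheaf R).obj ((SheafOfModules.restrictScalars α).obj M) =
      (SheafOfModules.toSheaf R').obj M := rfl

lemma shortExact_map_restrictScalars {S : ShortComplex (SheafOfModules.{u} R')}
    (hS : S.ShortExact) : (S.map (SheafOfModules.restrictScalars.{u} α)).ShortExact := by
  have hc : PreservesFiniteColimits (SheafOfModules.toSheaf.{u} R) :=
    ⟨fun K _ _ => inferInstance⟩
  have hc' : PreservesFiniteColimits (SheafOfModules.toSheaf.{u} R') :=
    ⟨fun K _ _ => inferInstance⟩
  have h1 : (S.map (SheafOfModules.toSheaf.{u} R')).ShortExact := hS.map_of_exact _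
  have h2 : ((S.map (SheafOfModules.restrictScalars.{u} α)).map
      (SheafOfModules.toSheaf.{u} R)).ShortExact := h1
  have hm : Mono ((SheafOfModules.toSheaf.{u} R).map
      ((SheafOfModules.restrictScalars.{u} α).map S.f)) := h2.mono_f
  have he : Epi ((SheafOfModules.toSheaf.{u} R).map
      ((SheafOfModules.restrictScalars.{u} α).map S.g)) := h2.epi_g
  exact
    { exact := (ShortComplex.exact_map_iff_of_faithful _ (SheafOfModules.toSheaf.{u} R)).1 h2.exact
      mono_f := (SheafOfModules.toSheaf.{u} R).mono_of_mono_map hm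
      epi_g := (SheafOfModules.toSheaf.{u} R).epi_of_epi_map he }

lemma exact_restrictScalars :
    PreservesFiniteLimits (SheafOfModules.restrictScalars.{u} α) ∧
      PreservesFiniteColimits (SheafOfModules.restrictScalars.{u} α) :=
  ((SheafOfModules.restrictScalars.{u} α).exact_tfae.out 0 3).1
    (fun _ hS => shortExact_map_restrictScalars α hS)

end Exact

section Mod

variable {C : Type u} [SmallCategory C] {J : GrothendieckTopology C}
  {O O' : Sheaf J CommRingCat.{u}} (φ : O ⟶ O') (U : C)
  [ModSite.HasPushOver O U] [ModSite.HasPushOver O' U]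

/-- restriction of scalars along `φ` -/
noncomputable abbrev ρ : ModSite.Mod O' ⥤ ModSite.Mod O :=
  SheafOfModules.restrictScalars ((sheafCompose J (forget₂ CommRingCat.{u} RingCat.{u})).map φ)

omit [ModSite.HasPushOver O U] [ModSite.HasPushOver O' U] in
lemma preservesFiniteLimits_ρ : PreservesFiniteLimits (ρ φ) := (exact_restrictScalars _).1

omit [ModSite.HasPushOver O U] [ModSite.HasPushOver O' U] in
lemma preservesFiniteColimits_ρ : PreservesFiniteColimits (ρ φ) := (exact_restrictScalars _).2

/-- `Γ_Z` on `O'`-modules, viewed in `O`-modules, as a subfunctor of restriction of scalars -/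
noncomputable def ι₁ : ModSite.sectOn O' U ⋙ ρ φ ⟶ ρ φ where
  app F := (ρ φ).map ((ModSite.sectOnι O' U).app F)
  naturality F G ψ := by
    have h := (ModSite.sectOnι O' U).naturality ψ
    simp only [Functor.id_map] at h
    simp only [Functor.comp_map]
    rw [← Functor.map_comp, ← Functor.map_comp, h]

/-- `Γ_Z` on `O`-modules after restriction of scalars, as a subfunctor of restriction of scalars -/
noncomputable def ι₂ : ρ φ ⋙ ModSite.sectOn O U ⟶ ρ φ where
  app F := (ModSite.sectOnι O U).app ((ρ φ).obj F)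
  naturality F G ψ := (ModSite.sectOnι O U).naturality ((ρ φ).map ψ)

instance (F : ModSite.Mod O') : Mono ((ι₁ φ U).app F) := by
  have := preservesFiniteLimits_ρ φ
  exact inferInstanceAs (Mono ((ρ φ).map ((ModSite.sectOnι O' U).app F)))

instance (F : ModSite.Mod O') : Mono ((ι₂ φ U).app F) :=
  inferInstanceAs (Mono ((ModSite.sectOnι O U).app ((ρ φ).obj F)))

lemma h₁₂ (F : ModSite.Mod O') :
    ∃ l : (ModSite.sectOn O' U ⋙ ρ φ).obj F ⟶ (ρ φ ⋙ ModSite.sectOn O U).obj F,
      l ≫ (ι₂ φ U).app F = (ι₁ φ U).app F := by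
  apply exists_lift_of_sections
  intro V x
  refine exists_sectOn_section O U ((ρ φ).obj F) (((ι₁ φ U).app F).val.app (op V) x) ?_
  intro W g a
  exact rs_sectOnι_eq_zero O' U F g a x

lemma h₂₁ (F : ModSite.Mod O') :
    ∃ l : (ρ φ ⋙ ModSite.sectOn O U).obj F ⟶ (ModSite.sectOn O' U ⋙ ρ φ).obj F,
      l ≫ (ι₁ φ U).app F = (ι₂ φ U).app F := by
  apply exists_lift_of_sections
  intro V x
  refine exists_sectOn_section O' U F (((ι₂ φ U).app F).val.app (op V) x) ?_
  intro W g a
  exact rs_sectOnι_eq_zero O U ((ρ φ).obj F) g a x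

/-- `Γ_Z` commutes with restriction of scalars -/
noncomputable def sectOnScalarsIso : ModSite.sectOn O' U ⋙ ρ φ ≅ ρ φ ⋙ ModSite.sectOn O U :=
  natIsoOfMonos (ι₁ φ U) (ι₂ φ U) (h₁₂ φ U) (h₂₁ φ U)

/-- **`ℋ^q_Z` commutes with restriction of scalars.** -/
theorem nonempty_HZsh_restrictScalars_iso [HasInjectiveResolutions (ModSite.Mod O)]
    [HasInjectiveResolutions (ModSite.Mod O')] (q : ℕ) :
    Nonempty (ModSite.HZsh O' U q ⋙ ρ φ ≅ ρ φ ⋙ ModSite.HZsh O U q) := by
  have h1 := Groth.Agent.Lib.SectOnRestr95.preservesFiniteLimits_sectOn O U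
  have h2 := Groth.Agent.Lib.SectOnRestr95.preservesFiniteLimits_sectOn O' U
  have h3 := preservesFiniteLimits_ρ φ
  have h4 := preservesFiniteColimits_ρ φ
  refine Groth.Agent.Lib.DerivedBCAcyc.nonempty_natIso (Φ := ModSite.sectOn O' U)
    (Φ' := ModSite.sectOn O U) (R := ρ φ) (S := ρ φ) (sectOnScalarsIso φ U) ?_ q
  intro I hI n
  exact Groth.Agent.Lib.SectOnFlasque95.isZero_HZsh_of_isTotallyAcyclic O U ((ρ φ).obj I)
    (Groth.Agent.Lib.ModAcyc.isTotallyAcyclic_of_injective (ModSite.ringSh O') I) n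

end Mod

end Groth.Agent.Lib.SectOnScalars95
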