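import Groth.Agent.Lib.SuppExact21
import Groth.Agent.Lib.ModSiteFreeOn
import Mathlib.Algebra.Category.ModuleCat.Presheaf.Free

/-!
# Sections of `Γ_Z(F)` on a ringed site (helper95)

For an object `U` of a small ringed site `(C, J, O)` with closed complement `Z`, the sections of
`ModSite.sectOn O U F = Γ_Z(F)` over `V` are the sections `s ∈ F(V)` whose restriction to every
`W ⟶ V` with `W` mapping to `U` vanishes.

* `restr_map_eq_zero_iff`
* `isNullOn_sectOn`
* `rs_sectOnι_eq_zero`  (sections of `Γ_Z F` vanish over objects mapping to `U`)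
* `exists_sectOn_section` (conversely, sections vanishing there come from `Γ_Z F`)
* `epi_of_locally_surjective`
* `exists_lift_of_sections`, `natIsoOfSections`
-/

set_option autoImplicit false
universe u
open CategoryTheory CategoryTheory.Limits Opposite

namespace Groth.Agent.Lib.SectOnSections95

open Groth.Agent.Lib.SuppAdj21 Groth.Agent.Lib.ModSiteTensor Groth.Agent.Lib.ModSiteTensorW
  Groth.Agent.Lib.MonLoc

section NatIso

variable {A : Type*} {B : Type*} [Category* A] [Category* B] {G₁ G₂ H : A ⥤ B}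
  (ι₁ : G₁ ⟶ H) (ι₂ : G₂ ⟶ H) [∀ X, Mono (ι₁.app X)] [∀ X, Mono (ι₂.app X)]
  (h₁₂ : ∀ X, ∃ l : G₁.obj X ⟶ G₂.obj X, l ≫ ι₂.app X = ι₁.app X)
  (h₂₁ : ∀ X, ∃ l : G₂.obj X ⟶ G₁.obj X, l ≫ ι₁.app X = ι₂.app X)

/-- objectwise comparison of two subfunctors contained in each other -/
noncomputable def isoOfMonosApp (X : A) : G₁.obj X ≅ G₂.obj X where
  hom := (h₁₂ X).choose
  inv := (h₂₁ X).choose
  hom_inv_id := by
    rw [← cancel_mono (ι₁.app X), Category.assoc, (h₂₁ X).choose_spec, (h₁₂ X).choose_spec,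
      Category.id_comp]
  inv_hom_id := by
    rw [← cancel_mono (ι₂.app X), Category.assoc, (h₁₂ X).choose_spec, (h₂₁ X).choose_spec,
      Category.id_comp]

lemma isoOfMonosApp_hom_ι (X : A) :
    (isoOfMonosApp ι₁ ι₂ h₁₂ h₂₁ X).hom ≫ ι₂.app X = ι₁.app X :=
  (h₁₂ X).choose_spec

/-- two subfunctors of `H` which are contained in each other objectwise are isomorphic -/
noncomputable def natIsoOfMonos : G₁ ≅ G₂ :=
  NatIso.ofComponents (isoOfMonosApp ι₁ ι₂ h₁₂ h₂₁)
    (fun {X Y} f => by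
      apply (cancel_mono (ι₂.app Y)).1
      rw [Category.assoc, Category.assoc, isoOfMonosApp_hom_ι, ι₂.naturality, ← Category.assoc,
        isoOfMonosApp_hom_ι, ι₁.naturality])

lemma natIsoOfMonos_hom_app (X : A) :
    (natIsoOfMonos ι₁ ι₂ h₁₂ h₂₁).hom.app X ≫ ι₂.app X = ι₁.app X :=
  isoOfMonosApp_hom_ι ι₁ ι₂ h₁₂ h₂₁ X

end NatIso

variable {C : Type u} [SmallCategory C] {J : GrothendieckTopology C}
  (O : Sheaf J CommRingCat.{u}) (U : C)

/-- a morphism vanishes on `C/U` iff its components over objects mapping to `U` vanish -/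
lemma restr_map_eq_zero_iff {T F : ModSite.Mod O} (φ : T ⟶ F) :
    (ModSite.restr O U).map φ = 0 ↔
      ∀ ⦃W : C⦄ (_ : W ⟶ U) (x : ModSite.sect T W), φ.val.app (op W) x = 0 := by
  constructor
  · intro h W a x
    exact congrArg (fun ψ : (ModSite.restr O U).obj T ⟶ (ModSite.restr O U).obj F =>
      (ψ.val.app (op (Over.mk a))).hom x) h
  · intro h
    apply (SheafOfModules.forget _).map_injective
    apply Groth.Agent.Lib.ModShriekPre.hom_ext_apply'
    intro Y x
    exact h Y.unop.hom x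

variable [ModSite.HasPushOver O U]

/-- `Γ_Z(F)` is null on `U` -/
lemma isNullOn_sectOn (F : ModSite.Mod O) :
    ModSite.IsNullOn O U ((ModSite.sectOn O U).obj F) := by
  have h0 : (ModSite.sectOnι O U).app F ≫ (ModSite.restrPushOverAdj O U).unit.app F = 0 :=
    kernel.condition _
  have h1 : (ModSite.restr O U).map ((ModSite.sectOnι O U).app F) = 0 :=
    (comp_unit_eq_zero_iff O U _).1 h0
  have hm : Mono ((ModSite.restr O U).map ((ModSite.sectOnι O U).app F)) := inferInstance
  rw [ModSite.IsNullOn, IsZero.iff_id_eq_zero, ← cancel_mono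
    ((ModSite.restr O U).map ((ModSite.sectOnι O U).app F)), h1, comp_zero, comp_zero]

/-- sections of `Γ_Z(F)` vanish on objects mapping to `U` -/
lemma rs_sectOnι_eq_zero (F : ModSite.Mod O) {V W : C} (g : W ⟶ V) (a : W ⟶ U)
    (t : ModSite.sect ((ModSite.sectOn O U).obj F) V) :
    rs F g (((ModSite.sectOnι O U).app F).val.app (op V) t) = 0 := by
  rw [rs_app]
  have h := (ExtSupp.isNullOn_iff O U _).1 (isNullOn_sectOn O U F) a
    (rs ((ModSite.sectOn O U).obj F) g t)
  rw [h, map_zero]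

section Free

variable {O}

/-- the free presheaf of modules on the representable presheaf of `V` -/
noncomputable abbrev P₀ (V : C) : PMod O := PresheafOfModules.freeObj (yoneda.obj V)

/-- the morphism of presheaves of sets attached to a section -/
noncomputable abbrev ψ₀ (F : ModSite.Mod O) {V : C} (s : ModSite.sect F V) :
    yoneda.obj V ⟶ ((fg O).obj F).presheaf ⋙ forget _ :=
  (yonedaEquiv (F := ((fg O).obj F).presheaf ⋙ forget _)).symm s

/-- the morphism out of the free sheaf of modules on `V` attached to a section -/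
noncomputable def σ₀ (F : ModSite.Mod O) {V : C} (s : ModSite.sect F V) :
    (sh O).obj (P₀ V) ⟶ F :=
  ((ModSiteTensor.adj O).homEquiv (P₀ V) F).symm (PresheafOfModules.freeObjDesc (ψ₀ F s))

lemma η_σ₀ (F : ModSite.Mod O) {V : C} (s : ModSite.sect F V) :
    (locData O).η (P₀ V) ≫ (fg O).map (σ₀ F s) = PresheafOfModules.freeObjDesc (ψ₀ F s) := by
  have h := (ModSiteTensor.adj O).homEquiv_unit (f := σ₀ F s)
  rw [σ₀, Equiv.apply_symm_apply] at h
  exact h.symm

lemma σ₀_η_apply (F : ModSite.Mod O) {V : C} (s : ModSite.sect F V) (W : C)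
    (p : (P₀ (O := O) V).obj (op W)) :
    (σ₀ F s).val.app (op W) (((locData O).η (P₀ V)).app (op W) p) =
      (PresheafOfModules.freeObjDesc (ψ₀ F s)).app (op W) p :=
  congrArg (fun f : P₀ V ⟶ (fg O).obj F => f.app (op W) p) (η_σ₀ F s)

lemma ψ₀_app_apply (F : ModSite.Mod O) {V : C} (s : ModSite.sect F V) {W : C} (g : W ⟶ V) :
    (ψ₀ F s).app (op W) g = rs F g s := rfl

lemma freeObjDesc_apply_eq_zero (F : ModSite.Mod O) {V : C} (s : ModSite.sect F V) (W : C)
    (h : ∀ g : W ⟶ V, rs F g s = 0) (p : (P₀ (O := O) V).obj (op W)) :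
    (PresheafOfModules.freeObjDesc (ψ₀ F s)).app (op W) p = 0 := by
  have h1 : (PresheafOfModules.freeObjDesc (ψ₀ F s)).app (op W) = 0 := by
    rw [PresheafOfModules.freeObjDesc_app]
    apply ModuleCat.free_hom_ext
    intro g
    exact (ModuleCat.freeDesc_apply (M := ((fg O).obj F).obj (op W)) ((ψ₀ F s).app (op W)) g).trans
      (h g)
  rw [h1]
  rfl

lemma σ₀_gen (F : ModSite.Mod O) {V : C} (s : ModSite.sect F V) :
    (σ₀ F s).val.app (op V) (((locData O).η (P₀ V)).app (op V) (ModuleCat.freeMk (𝟙 V))) = s := by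
  rw [σ₀_η_apply, PresheafOfModules.freeObjDesc_app]
  refine (ModuleCat.freeDesc_apply (M := ((fg O).obj F).obj (op V)) ((ψ₀ F s).app (op V))
    (𝟙 V)).trans ?_
  refine (ψ₀_app_apply F s (𝟙 V)).trans ?_
  change (F.val.map (𝟙 V).op).hom s = s
  rw [op_id, F.val.map_id]
  rfl

variable (O)

omit [ModSite.HasPushOver O U] in
lemma restr_map_σ₀_eq_zero (F : ModSite.Mod O) {V : C} (s : ModSite.sect F V)
    (h : ∀ ⦃W : C⦄ (g : W ⟶ V), (W ⟶ U) → rs F g s = 0) :
    (ModSite.restr O U).map (σ₀ F s) = 0 := by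
  rw [restr_map_eq_zero_iff]
  intro W a x
  obtain ⟨S, hS, hx⟩ := locSurj_η O (P₀ V) W x
  apply Sheaf.isSeparated (ModSite.toAb F) W S hS
  intro W' i hi
  obtain ⟨p, hp⟩ := hx i hi
  have h1 : rs F i ((σ₀ F s).val.app (op W) x) = 0 := by
    rw [rs_app]
    have h2 : rs ((sh O).obj (P₀ V)) i x = ((locData O).η (P₀ V)).app (op W') p := hp.symm
    rw [h2, σ₀_η_apply]
    exact freeObjDesc_apply_eq_zero F s W' (fun g => h g (i ≫ a)) p
  exact h1.trans (rs_zero F i).symm

/-- a section of `F` over `V` which vanishes on every `W ⟶ V` with `W` mapping to `U` is a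
section of `Γ_Z(F)` -/
theorem exists_sectOn_section (F : ModSite.Mod O) {V : C}
    (s : ModSite.sect F V) (h : ∀ ⦃W : C⦄ (g : W ⟶ V), (W ⟶ U) → rs F g s = 0) :
    ∃ t : ModSite.sect ((ModSite.sectOn O U).obj F) V,
      ((ModSite.sectOnι O U).app F).val.app (op V) t = s := by
  have h1 := restr_map_σ₀_eq_zero O U F s h
  have h2 : σ₀ F s ≫ (ModSite.restrPushOverAdj O U).unit.app F = 0 :=
    (comp_unit_eq_zero_iff O U _).2 h1
  let l : (sh O).obj (P₀ V) ⟶ (ModSite.sectOn O U).obj F := kernel.lift _ (σ₀ F s) h2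
  have hl : l ≫ (ModSite.sectOnι O U).app F = σ₀ F s := kernel.lift_ι _ _ _
  refine ⟨l.val.app (op V) (((locData O).η (P₀ V)).app (op V) (ModuleCat.freeMk (𝟙 V))), ?_⟩
  have h3 := congrArg (fun φ : (sh O).obj (P₀ V) ⟶ F =>
    φ.val.app (op V) (((locData O).η (P₀ V)).app (op V) (ModuleCat.freeMk (𝟙 V)))) hl
  exact h3.trans (σ₀_gen F s)

end Free

section General

omit [ModSite.HasPushOver O U]

variable {O}

/-- a morphism of modules which is locally surjective on sections is an epimorphism -/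
lemma epi_of_locally_surjective {G F : ModSite.Mod O} (p : G ⟶ F)
    (h : ∀ (V : C) (x : ModSite.sect F V), ∃ R ∈ J V, ∀ ⦃W : C⦄ (g : W ⟶ V), R g →
      ∃ y : ModSite.sect G W, p.val.app (op W) y = rs F g x) : Epi p := by
  have h1 : Sheaf.IsLocallySurjective ((SheafOfModules.toSheaf.{u} (ModSite.ringSh O)).map p) := by
    refine ⟨fun {V} x => ?_⟩
    obtain ⟨R, hR, hx⟩ := h V x
    refine J.superset_covering ?_ hR
    intro W g hg
    obtain ⟨y, hy⟩ := hx g hg
    exact ⟨y, hy⟩
  have h2 : Epi ((SheafOfModules.toSheaf.{u} (ModSite.ringSh O)).map p) :=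
    (Sheaf.isLocallySurjective_iff_epi' _ _).1 h1
  exact (SheafOfModules.toSheaf.{u} (ModSite.ringSh O)).epi_of_epi_map h2

/-- a morphism into `F` whose sections all lie in a subobject factors through it -/
lemma exists_lift_of_sections {K₁ K₂ F : ModSite.Mod O} (i₁ : K₁ ⟶ F) (i₂ : K₂ ⟶ F) [Mono i₂]
    (h : ∀ (V : C) (x : ModSite.sect K₁ V), ∃ y : ModSite.sect K₂ V,
      i₂.val.app (op V) y = i₁.val.app (op V) x) :
    ∃ l : K₁ ⟶ K₂, l ≫ i₂ = i₁ := by
  have w : i₁ ≫ cokernel.π i₂ = 0 := by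
    apply (SheafOfModules.forget _).map_injective
    apply Groth.Agent.Lib.ModShriekPre.hom_ext_apply
    intro V x
    obtain ⟨y, hy⟩ := h V.unop x
    change (cokernel.π i₂).val.app V (i₁.val.app V x) = 0
    rw [← hy]
    exact congrArg (fun φ : K₂ ⟶ cokernel i₂ => φ.val.app V y) (cokernel.condition i₂)
  exact ⟨Abelian.monoLift i₂ i₁ w, Abelian.monoLift_comp _ _ _⟩

end General


end Groth.Agent.Lib.SectOnSections95
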