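import Groth.Agent.Lib.UnitFinLocFree
import Groth.Agent.Lib.LocFreeCrit
import Groth.Agent.Lib.InvRank21
import Groth.Agent.Lib.H0Const13
import Groth.Agent.S2393

/-!
# `O_Y = f_* O_X` locally, and the unit `M ⟶ f_* f^* M` on finite locally free modules (helper21)

* `exists_nhd_bijective_app`: `f` proper flat with geometrically connected and geometrically reduced fibres over a
  locally Noetherian base: every point of the base has a neighbourhood `U` with `O_Y(W) → O_X(f⁻¹W)` bijective
  for all `W ≤ U`.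
* `isIso_unit_of_isFinLocFree_local`: the unit `M ⟶ f_* f^* M` is an isomorphism for `M` finite locally free, when
  `O_Y(W) → O_X(f⁻¹ W)` is bijective for small `W` (local version of helper42's
  `UnitFinLocFree.isIso_unit_of_isFinLocFree`).
-/

set_option autoImplicit false
set_option linter.style.haveILetI false
universe u
open CategoryTheory CategoryTheory.Limits AlgebraicGeometry Opposite TopologicalSpace
open Groth.Agent.Lib.UnitFinLocFree

namespace Groth.Agent.Lib.SteinLocal21

variable {X Y : Scheme.{u}} (f : X ⟶ Y)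

theorem exists_nhd_bijective_app [IsProper f] [Flat f] [IsLocallyNoetherian Y]
    [GeometricallyConnected f] [GeometricallyReduced f] (y : Y) :
    ∃ U : Y.Opens, y ∈ U ∧ ∀ W : Y.Opens, W ≤ U → Function.Bijective (f.app W) := by
  have h0 : Module.finrank (Y.residueField y) Γ(f.fiber y, ⊤) = 1 := by
    have : IsProper (f.fiberToSpecResidueField y) :=
      inferInstanceAs (IsProper (pullback.snd f (Y.fromSpecResidueField y)))
    exact Groth.Agent.Lib.H0Const13.finrank_appTop_eq_one (Y.residueField y)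
      (f.fiberToSpecResidueField y)
  obtain ⟨U, hy, hU⟩ := Groth.Agent.S2393.result f y
    (Groth.Agent.Lib.InvRank21.bijective_algebraMap_of_finrank f y h0)
  refine ⟨U, hy, fun W hW => ?_⟩
  have := hU W hW
  exact (ConcreteCategory.isIso_iff_bijective (f.app W)).mp inferInstance

/-- the hypothesis `O_Y ≅ f_* O_X` below `V` restricts to opens of `V` -/
theorem bijective_morphismRestrict_app' (V : Y.Opens)
    (hf : ∀ W : Y.Opens, W ≤ V → Function.Bijective (f.app W))
    (U' : V.toScheme.Opens) : Function.Bijective ((f ∣_ V).app U') := by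
  rw [morphismRestrict_app]
  have h1 := hf (V.ι ''ᵁ U') (V.ι_image_le U')
  have h2 : Function.Bijective (X.presheaf.map
      (eqToHom (image_morphismRestrict_preimage f V U')).op) := by
    have : IsIso (X.presheaf.map (eqToHom (image_morphismRestrict_preimage f V U')).op) :=
      inferInstance
    exact (ConcreteCategory.isIso_iff_bijective _).mp this
  exact h2.comp h1

/-- **the unit `M ⟶ f_* f^* M` is an isomorphism for `M` finite locally free when `O_Y ≅ f_* O_X` locally** -/
theorem isIso_unit_of_isFinLocFree_local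
    (hf : ∀ y : Y, ∃ U : Y.Opens, y ∈ U ∧ ∀ W : Y.Opens, W ≤ U → Function.Bijective (f.app W))
    {M : Y.Modules} (hM : FlatMod.IsFinLocFree M) :
    IsIso ((Scheme.Modules.pullbackPushforwardAdjunction f).unit.app M) := by
  have hM' : ∀ x : Y, ∃ (V : Y.Opens) (n : ℕ), x ∈ V ∧
      Nonempty (M.restrict V.ι ≅ FlatMod.freeMod (↑V) n) ∧
      ∀ W : Y.Opens, W ≤ V → Function.Bijective (f.app W) := by
    intro x
    obtain ⟨V₀, n, hxV₀, ⟨e₀⟩⟩ := hM x
    obtain ⟨U, hxU, hU⟩ := hf x
    obtain ⟨V₁, hxV₁, hV₁⟩ := Groth.Agent.Lib.LocFreeCrit.locFreeAt_of_restrict_iso V₀ hxV₀ e₀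
    refine ⟨V₁ ⊓ U, n, ⟨hxV₁, hxU⟩, hV₁ (V₁ ⊓ U).ι ?_, fun W hW => hU W (hW.trans inf_le_right)⟩
    rw [Scheme.Opens.opensRange_ι]
    exact inf_le_left
  choose V n hxV e hbij using hM'
  refine isIso_unit_of_bijective_pb f M
    (fun W : {W : Y.Opens // ∃ x, W ≤ V x} => W.1) ?_ (fun W => ?_)
  · refine Opens.isBasis_iff_nbhd.mpr fun {U x} hx => ?_
    exact ⟨U ⊓ V x, ⟨⟨U ⊓ V x, x, inf_le_right⟩, rfl⟩, ⟨hx, hxV x⟩, inf_le_left⟩
  · obtain ⟨W, x, hW⟩ := W
    refine bijective_pb_of_restrict f M (V x) hW ?_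
    haveI := isIso_unit_of_iso_freeMod (f ∣_ V x) (bijective_morphismRestrict_app' f (V x) (hbij x))
      (e x).some
    exact bijective_pb_of_isIso_unit (f ∣_ V x) (M.restrict (V x).ι) _

end Groth.Agent.Lib.SteinLocal21
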