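import Groth.Agent.Lib.BC0Sec21
import Groth.Agent.Lib.GenNearFibre21
import Groth.Agent.Lib.FibreTriv21
import Groth.Agent.Lib.SteinLocal21
import Groth.Agent.Lib.InvPush21

/-!
# Seesaw over a non-reduced base via the degree-zero base change map (helper21)

`f : X ⟶ Y` proper flat with geometrically integral fibres over a locally Noetherian base, `N` invertible on `X`.

* `isGen_of_ne_zero_of_iso`: on a scheme whose nonzero global functions are units, a nonzero global section of a trivial
  invertible module generates it.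
* `exists_key_of_epi_bc0`: if `N|_{X_y}` is trivial and the degree-zero base change map at `y` is an epimorphism, then
  `N` has a free generator over `f⁻¹U` for some neighbourhood `U` of `y` (over which also `O_Y ≅ f_* O_X`).
-/

set_option autoImplicit false
set_option linter.style.haveILetI false
universe u

open CategoryTheory CategoryTheory.Limits AlgebraicGeometry Opposite TopologicalSpace

namespace Groth.Agent.Lib.SeesawEpi21

open Groth.Agent.Lib.H90Invertible Groth.Agent.Lib.H78SecCoord Groth.Agent.Lib.H78PullSec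
  Groth.Agent.Lib.H78TensorGen Groth.Agent.Lib.StructureModule

/-- geometrically irreducible morphisms are geometrically connected -/
theorem geometricallyConnected_of_geometricallyIrreducible {X Y : Scheme.{u}} (f : X ⟶ Y)
    [GeometricallyIrreducible f] : GeometricallyConnected f :=
  ⟨fun K _ y Z fst snd h => by
    haveI : IrreducibleSpace Z :=
      GeometricallyIrreducible.geometrically_irreducibleSpace y fst snd h
    infer_instance⟩

/-- a nonzero global section of a trivial module on a scheme whose nonzero global functions are units is a free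
generator -/
theorem isGen_of_ne_zero_of_iso {Z : Scheme.{u}} {P : Z.Modules} (e : P ≅ Coh.structureModule Z)
    (hfield : ∀ a : Γ(Z, ⊤), a ≠ 0 → IsUnit a) (t : Γ(P, ⊤)) (ht : t ≠ 0) : IsGen P ⊤ t := by
  obtain ⟨a, ha⟩ := (toSec_bijective (X := Z) ⊤).2 (e.hom.app ⊤ t)
  have hbij : Function.Bijective (e.hom.app ⊤) :=
    (ConcreteCategory.isIso_iff_bijective (e.hom.app ⊤)).mp inferInstance
  have ha0 : a ≠ 0 := by
    rintro rfl
    apply ht
    apply hbij.1
    rw [← ha]
    exact (map_zero _).symm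
  have hu := hfield a ha0
  have h1 : IsGen (Coh.structureModule Z) ⊤ (toSec ⊤ a) := by
    rw [toSec_eq_smul_one]
    exact (isGen_smul_iff (isGen_one ⊤) a).2 hu
  have h2 := h1.of_iso e.symm
  rw [ha] at h2
  have h3 : e.symm.hom.app ⊤ (e.hom.app ⊤ t) = t :=
    Groth.Agent.Lib.H78PullSec.iso_inv_hom_app e ⊤ _
  rw [h3] at h2
  exact h2

/-- variant over an open equal to `⊤` -/
theorem isGen_of_ne_zero_of_iso' {Z : Scheme.{u}} {P : Z.Modules} (e : P ≅ Coh.structureModule Z)
    (hfield : ∀ a : Γ(Z, ⊤), a ≠ 0 → IsUnit a) (V : Z.Opens) (hV : V = ⊤) (t : Γ(P, V)) (ht : t ≠ 0) :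
    IsGen P V t := by
  subst hV
  exact isGen_of_ne_zero_of_iso e hfield t ht

variable {X Y : Scheme.{u}} (f : X ⟶ Y)

/-- the preimage in the fibre of the preimage of a neighbourhood of `y` is everything -/
theorem fiberι_preimage_eq_top (y : Y) {U : Y.Opens} (hyU : y ∈ U) :
    (f.fiberι y) ⁻¹ᵁ (f ⁻¹ᵁ U) = ⊤ := by
  refine top_le_iff.1 (fun w _ => ?_)
  change f (f.fiberι y w) ∈ U
  have h1 : f.fiberι y w ∈ Set.range (f.fiberι y) := ⟨w, rfl⟩
  rw [Scheme.Hom.range_fiberι] at h1
  have h2 : f (f.fiberι y w) = y := h1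
  rw [h2]
  exact hyU

/-- **Key local statement**: fibre trivial + nonzero fibre sections lift (`bc0` epi) ⇒ `N` is trivial over `f⁻¹U`
and `O_Y ≅ f_* O_X` over `U`, for a neighbourhood `U` of `y`. -/
theorem exists_key_of_epi_bc0 [IsProper f] [Flat f] [IsLocallyNoetherian Y] [GeometricallyIntegral f]
    (N : X.Modules) (hN : PicF.IsInvertible N) (y : Y)
    (ey : CohIII.fiberMod f N y ≅ Coh.structureModule (f.fiber y))
    (hnt : Nontrivial (CohIII.fiberH f N y 0))
    (hepi : Epi (CohBC.bc0 f (Y.fromSpecResidueField y) (f.fiberToSpecResidueField y) (f.fiberι y)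
      (f.fiber_fac y) N)) :
    ∃ U : Y.Opens, y ∈ U ∧ (∃ s : Γ(N, f ⁻¹ᵁ U), IsGen N (f ⁻¹ᵁ U) s) ∧
      ∀ W : Y.Opens, W ≤ U → Function.Bijective (f.app W) := by
  haveI : GeometricallyConnected f := geometricallyConnected_of_geometricallyIrreducible f
  obtain ⟨t₀, ht₀⟩ := exists_ne (0 : CohIII.fiberH f N y 0)
  set t : Γ(CohIII.fiberMod f N y, ⊤) := Groth.Agent.Lib.H4Twist.h0Equiv (CohIII.fiberMod f N y) t₀ with ht
  have htne : t ≠ 0 := (AddEquiv.map_ne_zero_iff _).2 ht₀
  obtain ⟨U, hyU, a, ha⟩ := Groth.Agent.Lib.BC0Sec21.exists_pb_ne_zero_of_epi_bc0 f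
    (Y.fromSpecResidueField y) (f.fiberToSpecResidueField y) (f.fiberι y) (f.fiber_fac y) N hepi t htne
  rw [Scheme.fromSpecResidueField_apply] at hyU
  have hgen : IsGen ((Scheme.Modules.pullback (f.fiberι y)).obj N) ((f.fiberι y) ⁻¹ᵁ (f ⁻¹ᵁ U))
      (pb (f.fiberι y) N a) :=
    isGen_of_ne_zero_of_iso' ey (Groth.Agent.Lib.FibreTriv21.isUnit_of_ne_zero f y) _
      (fiberι_preimage_eq_top f y hyU) _ ha
  obtain ⟨U', hU'U, hyU', hg'⟩ := Groth.Agent.Lib.GenNearFibre21.exists_nhd_isGen_of_isGen_pb f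
    f.isClosedMap y N hN hyU a hgen
  obtain ⟨U'', hyU'', hbij⟩ := Groth.Agent.Lib.SteinLocal21.exists_nhd_bijective_app f y
  refine ⟨U' ⊓ U'', ⟨hyU', hyU''⟩, ⟨_, hg'.mono (f.preimage_mono inf_le_left)⟩,
    fun W hW => hbij W (hW.trans inf_le_right)⟩

/-- `h^0(X_y, O) = 1` for proper geometrically integral `f` -/
theorem finrank_fiber_eq_one [IsProper f] [GeometricallyIntegral f] (y : Y) :
    Module.finrank (Y.residueField y) Γ(f.fiber y, ⊤) = 1 := by
  haveI : GeometricallyConnected f := geometricallyConnected_of_geometricallyIrreducible f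
  have : IsProper (f.fiberToSpecResidueField y) :=
    inferInstanceAs (IsProper (pullback.snd f (Y.fromSpecResidueField y)))
  exact Groth.Agent.Lib.H0Const13.finrank_appTop_eq_one (Y.residueField y)
    (f.fiberToSpecResidueField y)

/-- functions on the fibre over a nonempty open of `Spec κ(y)` all come from `Spec κ(y)` -/
theorem surjective_fiberToSpec_app [IsProper f] [GeometricallyIntegral f] (y : Y)
    (V : (Spec (Y.residueField y)).Opens) (hV : (default : Spec (Y.residueField y)) ∈ V) :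
    Function.Surjective ((f.fiberToSpecResidueField y).app V) := by
  have hVtop : V = ⊤ := by
    refine top_le_iff.1 (fun w _ => ?_)
    rw [Unique.eq_default w]
    exact hV
  subst hVtop
  intro c'
  obtain ⟨k, hk⟩ := (Groth.Agent.Lib.InvRank21.bijective_algebraMap_of_finrank f y
    (finrank_fiber_eq_one f y)).2 c'
  exact ⟨(Scheme.ΓSpecIso (Y.residueField y)).inv.hom k, hk⟩

/-- if `N` has a free generator over `f⁻¹U`, `U ∋ y`, then the degree-zero base change map at `y` is an epimorphism -/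
theorem epi_bc0_of_isGen [IsProper f] [GeometricallyIntegral f] (N : X.Modules) (y : Y) {U : Y.Opens}
    (hyU : y ∈ U) (σ : Γ(N, f ⁻¹ᵁ U)) (hσ : IsGen N (f ⁻¹ᵁ U) σ) :
    Epi (CohBC.bc0 f (Y.fromSpecResidueField y) (f.fiberToSpecResidueField y) (f.fiberι y)
      (f.fiber_fac y) N) := by
  have hV : (default : Spec (Y.residueField y)) ∈ (Y.fromSpecResidueField y) ⁻¹ᵁ U := by
    change (Y.fromSpecResidueField y) default ∈ U
    rw [Scheme.fromSpecResidueField_apply]
    exact hyU
  refine Groth.Agent.Lib.BC0Sec21.epi_of_surjective_app _ ((Y.fromSpecResidueField y) ⁻¹ᵁ U) hV ?_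
  intro t
  have hτ : IsGen ((Scheme.Modules.pullback (f.fiberι y)).obj N) ((f.fiberι y) ⁻¹ᵁ (f ⁻¹ᵁ U))
      (pb (f.fiberι y) N σ) := isGen_pb (f.fiberι y) hσ
  have hτ₂ := hτ.of_eq (Groth.Agent.Lib.BC0Sec21.preimage_eq f (Y.fromSpecResidueField y)
    (f.fiberToSpecResidueField y) (f.fiberι y) (f.fiber_fac y) U)
  set τ₂ := ((Scheme.Modules.pullback (f.fiberι y)).obj N).presheaf.map
    (eqToHom (Groth.Agent.Lib.BC0Sec21.preimage_eq f (Y.fromSpecResidueField y)
    (f.fiberToSpecResidueField y) (f.fiberι y) (f.fiber_fac y) U)).op (pb (f.fiberι y) N σ) with hτ₂def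
  set t' := ofPush (f.fiberToSpecResidueField y) ((Scheme.Modules.pullback (f.fiberι y)).obj N)
    ((Y.fromSpecResidueField y) ⁻¹ᵁ U) t with ht'
  have hc' : coord hτ₂ le_rfl t' • τ₂ = t' := by
    have := coord_spec hτ₂ le_rfl t'
    rwa [rs_self] at this
  obtain ⟨c, hc⟩ := surjective_fiberToSpec_app f y _ hV (coord hτ₂ le_rfl t')
  refine ⟨c • pb (Y.fromSpecResidueField y) ((Scheme.Modules.pushforward f).obj N) (toPush f N U σ), ?_⟩
  rw [Scheme.Modules.Hom.app_smul, Groth.Agent.Lib.BC0Sec21.bc0_app_pb]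
  have h1 := push_smul (f.fiberToSpecResidueField y) ((Scheme.Modules.pullback (f.fiberι y)).obj N)
    ((Y.fromSpecResidueField y) ⁻¹ᵁ U) c τ₂
  rw [hc, hc'] at h1
  exact h1

/-- if `N ≅ f^* N₀` with `N₀` invertible then the degree-zero base change maps of `N` are epimorphisms -/
theorem epi_bc0_of_iso_pullback [IsProper f] [GeometricallyIntegral f] (N : X.Modules) {N₀ : Y.Modules}
    (hN₀ : PicF.IsInvertible N₀) (e : N ≅ (Scheme.Modules.pullback f).obj N₀) (y : Y) :
    Epi (CohBC.bc0 f (Y.fromSpecResidueField y) (f.fiberToSpecResidueField y) (f.fiberι y)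
      (f.fiber_fac y) N) := by
  obtain ⟨U, hyU, e₀, he₀⟩ := (isInvertible_iff_exists_isGen N₀).mp hN₀ y
  exact epi_bc0_of_isGen f N y hyU _ ((isGen_pb f he₀).of_iso e.symm)

end Groth.Agent.Lib.SeesawEpi21
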