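import Mathlib
import Groth.Prelude.Def_CohB1

/-!
# Base change of a "Segre-type" morphism

Pure category theory + stability of closed immersions under base change.
Given `X₁ X₂ Y` over `T`, a morphism `φ₀ : X₁ ×_T X₂ ⟶ Y` over `T` and `t : S ⟶ T`, we construct
`φ : (X₁ ×_T S) ×_S (X₂ ×_T S) ⟶ Y ×_T S` over `S` which is a base change of `φ₀`.
-/

set_option autoImplicit false
universe v u

open CategoryTheory CategoryTheory.Limits

namespace Groth.Agent.Lib.SegreBaseChange

section Cat

variable {C : Type u} [Category.{v} C] [HasPullbacks C] {X₁ X₂ Y T S : C}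
  (f₁ : X₁ ⟶ T) (f₂ : X₂ ⟶ T) (g : Y ⟶ T) (t : S ⟶ T)

attribute [local simp] pullback.lift_fst pullback.lift_snd pullback.lift_fst_assoc
  pullback.lift_snd_assoc

/-- The canonical map `(X₁ ×_T S) ×_S (X₂ ×_T S) ⟶ X₁ ×_T X₂`. -/
noncomputable def toProd :
    pullback (pullback.snd f₁ t) (pullback.snd f₂ t) ⟶ pullback f₁ f₂ :=
  pullback.lift (pullback.fst _ _ ≫ pullback.fst _ _) (pullback.snd _ _ ≫ pullback.fst _ _) (by
    simp only [Category.assoc, pullback.condition]
    rw [pullback.condition_assoc])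

@[reassoc (attr := simp)]
lemma toProd_fst : toProd f₁ f₂ t ≫ pullback.fst _ _ = pullback.fst _ _ ≫ pullback.fst _ _ := by
  simp [toProd]

@[reassoc (attr := simp)]
lemma toProd_snd : toProd f₁ f₂ t ≫ pullback.snd _ _ = pullback.snd _ _ ≫ pullback.fst _ _ := by
  simp [toProd]

lemma isPullback_toProd :
    IsPullback (toProd f₁ f₂ t) (pullback.fst _ _ ≫ pullback.snd _ _)
      (pullback.fst f₁ f₂ ≫ f₁) t := by
  refine ⟨⟨by simp [pullback.condition]⟩, ⟨PullbackCone.IsLimit.mk _ (fun s => ?_) (fun s => ?_)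
    (fun s => ?_) (fun s m h₁ h₂ => ?_)⟩⟩
  · refine pullback.lift (pullback.lift (s.fst ≫ pullback.fst _ _) s.snd ?_)
      (pullback.lift (s.fst ≫ pullback.snd _ _) s.snd ?_) ?_
    · simpa using s.condition
    · have := s.condition
      simp only [Category.assoc] at this ⊢
      rw [← pullback.condition]; exact this
    · simp
  · apply pullback.hom_ext <;> simp
  · simp
  · apply pullback.hom_ext
    · apply pullback.hom_ext
      · have := congr($h₁ ≫ pullback.fst _ _)
        simpa using this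
      · simpa using h₂
    · apply pullback.hom_ext
      · have := congr($h₁ ≫ pullback.snd _ _)
        simpa using this
      · have : m ≫ pullback.snd _ _ ≫ pullback.snd _ _ = s.snd := by
          rw [← pullback.condition]; simpa using h₂
        simpa using this

variable (φ₀ : pullback f₁ f₂ ⟶ Y) (hφ₀ : φ₀ ≫ g = pullback.fst _ _ ≫ f₁)

/-- The base change of `φ₀` along `t`. -/
noncomputable def baseChangeMap :
    pullback (pullback.snd f₁ t) (pullback.snd f₂ t) ⟶ pullback g t :=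
  pullback.lift (toProd f₁ f₂ t ≫ φ₀) (pullback.fst _ _ ≫ pullback.snd _ _) (by
    rw [Category.assoc, hφ₀, (isPullback_toProd f₁ f₂ t).w])

@[reassoc (attr := simp)]
lemma baseChangeMap_fst :
    baseChangeMap f₁ f₂ g t φ₀ hφ₀ ≫ pullback.fst _ _ = toProd f₁ f₂ t ≫ φ₀ := by
  simp [baseChangeMap]

@[reassoc (attr := simp)]
lemma baseChangeMap_snd :
    baseChangeMap f₁ f₂ g t φ₀ hφ₀ ≫ pullback.snd _ _ = pullback.fst _ _ ≫ pullback.snd _ _ := by
  simp [baseChangeMap]

lemma isPullback_baseChangeMap :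
    IsPullback (toProd f₁ f₂ t) (baseChangeMap f₁ f₂ g t φ₀ hφ₀) φ₀ (pullback.fst g t) := by
  have h₁ : IsPullback (pullback.fst g t) (pullback.snd g t) g t := IsPullback.of_hasPullback g t
  have h₂ := isPullback_toProd f₁ f₂ t
  rw [← hφ₀, ← baseChangeMap_snd f₁ f₂ g t φ₀ hφ₀] at h₂
  exact IsPullback.of_bot h₂ (by simp) h₁

end Cat

open AlgebraicGeometry CohB1

/-- A Segre-type closed immersion over `ULift ℤ` base-changes to one over every scheme `S`. -/
theorem exists_over (n m N : ℕ)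
    (h : ∃ φ₀ : pullback (ProjSpace.toSpec n (ULift.{u} ℤ)) (ProjSpace.toSpec m (ULift.{u} ℤ)) ⟶
        ProjSpace N (ULift.{u} ℤ),
      IsClosedImmersion φ₀ ∧ φ₀ ≫ ProjSpace.toSpec N (ULift.{u} ℤ) =
        pullback.fst _ _ ≫ ProjSpace.toSpec n (ULift.{u} ℤ))
    (S : Scheme.{u}) :
    ∃ φ : pullback (ProjSpaceOver.toBase n S) (ProjSpaceOver.toBase m S) ⟶ ProjSpaceOver N S,
      IsClosedImmersion φ ∧ φ ≫ ProjSpaceOver.toBase N S =
        pullback.fst (ProjSpaceOver.toBase n S) (ProjSpaceOver.toBase m S) ≫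
          ProjSpaceOver.toBase n S := by
  obtain ⟨φ₀, hcl, hφ₀⟩ := h
  refine ⟨baseChangeMap _ _ _ (specULiftZIsTerminal.from S) φ₀ hφ₀, ?_, ?_⟩
  · exact MorphismProperty.of_isPullback (P := @IsClosedImmersion)
      (isPullback_baseChangeMap _ _ _ (specULiftZIsTerminal.from S) φ₀ hφ₀) hcl
  · exact baseChangeMap_snd _ _ _ _ _ _

end Groth.Agent.Lib.SegreBaseChange
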