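import Groth.Prelude.Def_SekSuwa2
import Mathlib

/-!
# `SekSuwa.AK R lam N h ≃ₐ[R] AdjoinRoot (psiPoly lam N h)` and consequences (`Groth.Agent.Lib.SekSuwaFree`)
-/

open Polynomial SekSuwa

namespace Groth.Agent.Lib.SekSuwaFree

universe u
variable {R : Type u} [CommRing R] {lam : R} {N : ℕ} (h : DivCond lam N)

theorem coeff_rhs (k : ℕ) :
    ((1 + C lam * X : R[X]) ^ N).coeff k = (N.choose k : R) * lam ^ k := by
  have : (1 + C lam * X : R[X]) ^ N = ((1 + X) ^ N).comp (C lam * X) := by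
    rw [Polynomial.pow_comp, Polynomial.add_comp, Polynomial.one_comp, Polynomial.X_comp]
  rw [this, Polynomial.comp_C_mul_X_coeff, Polynomial.coeff_one_add_X_pow]

theorem psiPoly_coeff (k : ℕ) :
    lam ^ N * (psiPoly lam N h).coeff k = (N.choose k : R) * lam ^ k - (1 : R[X]).coeff k := by
  have := congrArg (fun p => Polynomial.coeff p k) (psiPoly_spec h)
  simp only [Polynomial.coeff_C_mul, Polynomial.coeff_sub] at this
  rw [this, coeff_rhs]

theorem psiPoly_coeff_self (hN : 0 < N) : (psiPoly lam N h).coeff N = 1 := by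
  have h1 := psiPoly_coeff h N
  rw [Nat.choose_self, Nat.cast_one, one_mul, Polynomial.coeff_one, if_neg (by omega), sub_zero] at h1
  exact cancel_nzd h.pow_nzd (by rw [h1, mul_one])

theorem psiPoly_coeff_gt (k : ℕ) (hk : N < k) : (psiPoly lam N h).coeff k = 0 := by
  have h1 := psiPoly_coeff h k
  rw [Nat.choose_eq_zero_of_lt hk, Nat.cast_zero, zero_mul, Polynomial.coeff_one,
    if_neg (by omega), sub_zero] at h1
  exact cancel_nzd h.pow_nzd (by rw [h1, mul_zero])

theorem psiPoly_natDegree_le : (psiPoly lam N h).natDegree ≤ N := by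
  rw [Polynomial.natDegree_le_iff_coeff_eq_zero]
  intro k hk
  exact psiPoly_coeff_gt h k hk

theorem psiPoly_monic (hN : 0 < N) : (psiPoly lam N h).Monic :=
  Polynomial.monic_of_natDegree_le_of_coeff_eq_one N (psiPoly_natDegree_le h) (psiPoly_coeff_self h hN)

theorem psiPoly_natDegree [Nontrivial R] (hN : 0 < N) : (psiPoly lam N h).natDegree = N := by
  apply le_antisymm (psiPoly_natDegree_le h)
  apply Polynomial.le_natDegree_of_ne_zero
  rw [psiPoly_coeff_self h hN]
  exact one_ne_zero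

/-- `(1 + λ·root)^N = 1` in `AdjoinRoot P`. -/
theorem root_u_pow : (1 + lam • (AdjoinRoot.root (psiPoly lam N h))) ^ N = 1 := by
  have e := aeval_psiPoly h (AdjoinRoot.root (psiPoly lam N h))
  rw [AdjoinRoot.aeval_eq, AdjoinRoot.mk_self, mul_zero] at e
  rw [Algebra.smul_def]
  exact (sub_eq_zero.mp e.symm)

theorem root_u_mul (hN : 0 < N) :
    (1 + lam • (AdjoinRoot.root (psiPoly lam N h))) *
      (1 + lam • (AdjoinRoot.root (psiPoly lam N h))) ^ (N - 1) = 1 := by
  rw [← pow_succ', Nat.sub_add_cancel hN, root_u_pow]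

/-- the map `AdjoinRoot P → AK`. -/
noncomputable def toAK : AdjoinRoot (psiPoly lam N h) →ₐ[R] AK R lam N h :=
  AdjoinRoot.liftAlgHom (psiPoly lam N h) (Algebra.ofId R (AK R lam N h)) AK.t (by
    have := AK.aeval_t (R := R) (lam := lam) (N := N) (h := h)
    rw [Polynomial.aeval_def] at this
    exact this)

theorem toAK_root : toAK h (AdjoinRoot.root (psiPoly lam N h)) = AK.t := by
  unfold toAK
  exact AdjoinRoot.liftAlgHom_root _ _ _ _

/-- the map `A → AdjoinRoot P`. -/
noncomputable def fromA (hN : 0 < N) : A R lam →ₐ[R] AdjoinRoot (psiPoly lam N h) :=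
  A.lift R lam (AdjoinRoot.root (psiPoly lam N h))
    ((1 + lam • (AdjoinRoot.root (psiPoly lam N h))) ^ (N - 1)) (root_u_mul h hN)

theorem fromA_kerGen (hN : 0 < N) : fromA h hN (kerGen lam N h) = 0 := by
  unfold kerGen fromA
  rw [← Polynomial.aeval_algHom_apply, A.lift_t, AdjoinRoot.aeval_eq, AdjoinRoot.mk_self]

/-- the map `AK → AdjoinRoot P`. -/
noncomputable def fromAK (hN : 0 < N) : AK R lam N h →ₐ[R] AdjoinRoot (psiPoly lam N h) :=
  Ideal.Quotient.liftₐ (kerIdeal lam N h) (fromA h hN) (by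
    intro a ha
    obtain ⟨d, rfl⟩ := Ideal.mem_span_singleton'.mp ha
    rw [map_mul, fromA_kerGen, mul_zero])

theorem fromAK_mk (hN : 0 < N) (a : A R lam) : fromAK h hN (AK.mkHom R lam N h a) = fromA h hN a := rfl

theorem fromAK_t (hN : 0 < N) : fromAK h hN AK.t = AdjoinRoot.root (psiPoly lam N h) := by
  unfold AK.t
  rw [fromAK_mk]
  exact A.lift_t _ _ _

theorem fromAK_inv (hN : 0 < N) : fromAK h hN AK.inv =
    (1 + lam • (AdjoinRoot.root (psiPoly lam N h))) ^ (N - 1) := by
  unfold AK.inv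
  rw [fromAK_mk]
  exact A.lift_inv _ _ _

theorem AK_u_mul_inv : (1 + lam • (AK.t : AK R lam N h)) * AK.inv = 1 := by
  have e := congrArg (AK.mkHom R lam N h) (A.u_mul_inv (R := R) (lam := lam))
  rw [map_mul, map_one, A.u, map_add, map_one, map_smul] at e
  exact e

theorem AK_inv_eq (hN : 0 < N) : (AK.inv : AK R lam N h) = (1 + lam • (AK.t : AK R lam N h)) ^ (N - 1) := by
  have h1 : (1 + lam • (AK.t : AK R lam N h)) ^ N = 1 := AK.u_pow
  have h2 : (1 + lam • (AK.t : AK R lam N h)) * (1 + lam • (AK.t : AK R lam N h)) ^ (N - 1) = 1 := by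
    rw [← pow_succ', Nat.sub_add_cancel hN, h1]
  calc (AK.inv : AK R lam N h) = ((1 + lam • (AK.t : AK R lam N h)) *
        (1 + lam • (AK.t : AK R lam N h)) ^ (N - 1)) * AK.inv := by rw [h2, one_mul]
    _ = ((1 + lam • (AK.t : AK R lam N h)) * AK.inv) * (1 + lam • (AK.t : AK R lam N h)) ^ (N - 1) := by ring
    _ = _ := by rw [AK_u_mul_inv, one_mul]

/-- The coordinate ring of `G_{λ,N}` is `R[T]/(P_{λ,N})`. -/
noncomputable def equiv (hN : 0 < N) : AK R lam N h ≃ₐ[R] AdjoinRoot (psiPoly lam N h) :=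
  AlgEquiv.ofAlgHom (fromAK h hN) (toAK h)
    (by
      apply AdjoinRoot.algHom_ext
      rw [AlgHom.comp_apply, toAK_root, fromAK_t]
      rfl)
    (by
      apply AK.algHom_ext
      · rw [AlgHom.comp_apply, fromAK_t, toAK_root]; rfl
      · rw [AlgHom.comp_apply, fromAK_inv, map_pow, map_add, map_one, map_smul, toAK_root,
          ← AK_inv_eq h hN]
        rfl)

theorem finite (hN : 0 < N) : Module.Finite R (AK R lam N h) :=
  haveI : Module.Finite R (AdjoinRoot (psiPoly lam N h)) :=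
    (AdjoinRoot.powerBasis' (psiPoly_monic h hN)).finite
  Module.Finite.equiv (equiv h hN).symm.toLinearEquiv

theorem free (hN : 0 < N) : Module.Free R (AK R lam N h) :=
  haveI : Module.Free R (AdjoinRoot (psiPoly lam N h)) :=
    Module.Free.of_basis (AdjoinRoot.powerBasis' (psiPoly_monic h hN)).basis
  Module.Free.of_equiv (equiv h hN).symm.toLinearEquiv

theorem finrank_eq [Nontrivial R] (hN : 0 < N) : Module.finrank R (AK R lam N h) = N := by
  rw [LinearEquiv.finrank_eq (equiv h hN).toLinearEquiv,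
    (AdjoinRoot.powerBasis' (psiPoly_monic h hN)).finrank, AdjoinRoot.powerBasis'_dim,
    psiPoly_natDegree h hN]

end Groth.Agent.Lib.SekSuwaFree
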