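import Groth.Agent.Lib.AnUnram51
import Groth.Agent.Lib.H14AdicLocal
import Groth.Agent.S4564

/-!
# The integral closure of a Noetherian local domain in a finite extension is semilocal with
finite residue fields (EGA 0_IV 23.2.x, Nagata)

Proof via the completion: `A' → D_P`, `P` running over the minimal primes of `Â ⊗_A K'`, where
`D_P` is the integral closure of `Â` in the residue field of `P` (a local domain, finite over `Â`
since `Â` is Nagata).
-/

set_option autoImplicit false
set_option linter.style.haveILetI false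
set_option linter.unusedSectionVars false
universe u

open TensorProduct IsLocalRing

namespace Groth.Agent.Lib.SemiLocalIC51

/-- Descent of finiteness from `Â` to `A` for modules killed by the maximal ideal. -/
theorem finite_of_finite_adicCompletion (A : Type u) [CommRing A] [IsLocalRing A]
    [IsNoetherianRing A]
    (M : Type*) [AddCommGroup M] [Module A M] [Module (AdicCompletion (maximalIdeal A) A) M]
    [IsScalarTower A (AdicCompletion (maximalIdeal A) A) M]
    [Module.Finite (AdicCompletion (maximalIdeal A) A) M]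
    (h : ∀ c ∈ maximalIdeal (AdicCompletion (maximalIdeal A) A), ∀ x : M, c • x = 0) :
    Module.Finite A M := by
  obtain ⟨S, hS⟩ := Module.Finite.fg_top (R := AdicCompletion (maximalIdeal A) A) (M := M)
  refine ⟨⟨S, ?_⟩⟩
  rw [eq_top_iff]
  rintro x -
  have hx : x ∈ Submodule.span (AdicCompletion (maximalIdeal A) A) (S : Set M) := by
    rw [hS]; trivial
  induction hx using Submodule.span_induction with
  | mem x hx => exact Submodule.subset_span hx
  | zero => exact zero_mem _
  | add x y _ _ hx hy => exact add_mem hx hy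
  | smul b x _ hx =>
    obtain ⟨a, ha⟩ := Groth.Agent.Lib.H14AdicLocal.exists_sub_mem_of_isMaximal A (maximalIdeal A)
      (maximalIdeal A).fg_of_isNoetherianRing (maximalIdeal (AdicCompletion (maximalIdeal A) A)) b
    have hb : b • x = a • x := by
      have := h _ ha x
      rw [sub_smul, sub_eq_zero, algebraMap_smul] at this
      exact this
    rw [hb]
    exact Submodule.smul_mem _ _ hx

section main

variable (A K' : Type u) [CommRing A] [IsDomain A] [IsLocalRing A] [IsNoetherianRing A]
  [Field K'] [Algebra A K'] [Algebra (FractionRing A) K'] [IsScalarTower A (FractionRing A) K']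
  [FiniteDimensional (FractionRing A) K']

/-- The completion. -/
abbrev Ah : Type u := AdicCompletion (maximalIdeal A) A

/-- `Â ⊗ K'`. -/
abbrev T : Type u := Ah A ⊗[A] K'

/-- `Â ⊗ A'`. -/
abbrev BT : Type u := Ah A ⊗[A] (integralClosure A K')

instance : IsNoetherianRing (Ah A) := Groth.Agent.Lib.AdicNoeth.isNoetherianRing_adicCompletion _

theorem isNagata_Ah : CAlg.IsNagata (Ah A) :=
  Groth.Agent.Lib.CompleteNagata98.isNagata_of_complete_local _

instance : Module.FaithfullyFlat A (Ah A) := Module.FaithfullyFlat.of_flat_of_isLocalHom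

instance essFiniteType_K' : Algebra.EssFiniteType A K' := by
  haveI : Algebra.EssFiniteType A (FractionRing A) :=
    Algebra.EssFiniteType.of_isLocalization _ (nonZeroDivisors A)
  exact Algebra.EssFiniteType.comp A (FractionRing A) K'

instance flat_K' : Module.Flat A K' := by
  haveI : Module.Flat A (FractionRing A) := IsLocalization.flat _ (nonZeroDivisors A)
  exact Module.Flat.trans A (FractionRing A) K'

instance : IsNoetherianRing (T A K') :=
  Groth.Agent.Lib.AnUnram51.isNoetherianRing_of_essFiniteType (Ah A) (T A K')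

/-- The comparison map `Â ⊗ A' → Â ⊗ K'`. -/
noncomputable abbrev cmp : BT A K' →ₐ[Ah A] T A K' :=
  Groth.Agent.Lib.AnUnram51.cmp A (Ah A) (Ah A) K'

theorem cmp_injective : Function.Injective (cmp A K') :=
  Groth.Agent.Lib.AnUnram51.cmp_injective A (Ah A) (Ah A) K' (fun _ _ h => h)

section prime

variable (P : Ideal (T A K')) [P.IsPrime]

/-- The residue field at `P`. -/
abbrev kap : Type u := FractionRing (T A K' ⧸ P)

/-- The integral closure of `Â` in the residue field of `P`. -/
noncomputable abbrev D : Subalgebra (Ah A) (kap A K' P) := integralClosure (Ah A) (kap A K' P)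

instance finite_D : Module.Finite (Ah A) (D A K' P) := by
  haveI : Algebra.EssFiniteType (T A K' ⧸ P) (kap A K' P) :=
    Algebra.EssFiniteType.of_isLocalization _ (nonZeroDivisors (T A K' ⧸ P))
  haveI : Algebra.EssFiniteType (Ah A) (kap A K' P) :=
    Algebra.EssFiniteType.comp (Ah A) (T A K' ⧸ P) (kap A K' P)
  exact Groth.Agent.Lib.NagataNormFin96.finite_integralClosure_field' (isNagata_Ah A) (kap A K' P)

instance isLocalRing_D : IsLocalRing (D A K' P) :=
  Groth.Agent.S4564.isLocalRing_of_finite_of_isDomain (Ah A) (D A K' P)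

/-- `Â ⊗ A' → κ(P)`. -/
noncomputable def theta : BT A K' →ₐ[Ah A] kap A K' P :=
  (IsScalarTower.toAlgHom (Ah A) (T A K' ⧸ P) (kap A K' P)).comp
    ((Ideal.Quotient.mkₐ (Ah A) P).comp (cmp A K'))

theorem theta_apply (z : BT A K') :
    IsScalarTower.toAlgHom (Ah A) (T A K' ⧸ P) (kap A K' P) (Ideal.Quotient.mk P (cmp A K' z)) =
      theta A K' P z := rfl

theorem toAlgHom_injective :
    Function.Injective (IsScalarTower.toAlgHom (Ah A) (T A K' ⧸ P) (kap A K' P)) :=
  IsFractionRing.injective (T A K' ⧸ P) (kap A K' P)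

theorem theta_mem (z : BT A K') : theta A K' P z ∈ D A K' P :=
  (Algebra.IsIntegral.isIntegral (R := Ah A) z).map (theta A K' P)

/-- `Â ⊗ A' → D_P`. -/
noncomputable def thetaD : BT A K' →ₐ[Ah A] D A K' P :=
  (theta A K' P).codRestrict (D A K' P) (theta_mem A K' P)

theorem ker_thetaD : RingHom.ker (thetaD A K' P : BT A K' →+* D A K' P) = P.comap (cmp A K') := by
  ext z
  rw [RingHom.mem_ker, Ideal.mem_comap]
  constructor
  · intro h
    have h1 : theta A K' P z = 0 := congrArg Subtype.val h
    rw [← theta_apply] at h1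
    have h3 := toAlgHom_injective A K' P (h1.trans (map_zero _).symm)
    exact Ideal.Quotient.eq_zero_iff_mem.mp h3
  · intro h
    apply Subtype.ext
    show theta A K' P z = 0
    rw [← theta_apply, Ideal.Quotient.eq_zero_iff_mem.mpr h, map_zero]

/-- `A' → D_P`. -/
noncomputable def phi : integralClosure A K' →ₐ[A] D A K' P :=
  ((thetaD A K' P).restrictScalars A).comp Algebra.TensorProduct.includeRight

/-- The maximal ideal of `A'` defined by `P`. -/
noncomputable def nP : Ideal (integralClosure A K') :=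
  (maximalIdeal (D A K' P)).comap (phi A K' P)

theorem algebraMap_mem_maximalIdeal_D (c : Ah A) (hc : c ∈ maximalIdeal (Ah A)) :
    algebraMap (Ah A) (D A K' P) c ∈ maximalIdeal (D A K' P) := by
  obtain ⟨Q, -, hQp, hQ⟩ := Ideal.exists_ideal_over_prime_of_isIntegral (maximalIdeal (Ah A))
    (⊥ : Ideal (D A K' P)) (IsLocalRing.le_maximalIdeal (RingHom.ker_ne_top _))
  have h1 : algebraMap (Ah A) (D A K' P) c ∈ Q := by
    rw [← Ideal.mem_comap, hQ]; exact hc
  exact IsLocalRing.le_maximalIdeal hQp.ne_top h1

theorem finite_residue_D : Module.Finite A (D A K' P ⧸ maximalIdeal (D A K' P)) := by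
  refine finite_of_finite_adicCompletion A _ (fun c hc x => ?_)
  obtain ⟨d, rfl⟩ := Ideal.Quotient.mk_surjective x
  have h1 : c • Ideal.Quotient.mk (maximalIdeal (D A K' P)) d =
      Ideal.Quotient.mk (maximalIdeal (D A K' P)) (c • d) := rfl
  rw [h1, Ideal.Quotient.eq_zero_iff_mem, Algebra.smul_def]
  exact Ideal.mul_mem_right _ _ (algebraMap_mem_maximalIdeal_D A K' P c hc)

end prime

instance (q : minimalPrimes (T A K')) : q.1.IsPrime := q.2.1.1

/-- Every maximal ideal of `A'` is of the form `nP P` for a minimal prime `P` of `Â ⊗ K'`. -/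
theorem exists_eq_nP (m' : Ideal (integralClosure A K')) (hm : m'.IsMaximal) :
    ∃ P : minimalPrimes (T A K'), m' = nP A K' P.1 := by
  haveI : m'.IsPrime := hm.isPrime
  obtain ⟨N0, hN0p, hN0⟩ := Ideal.exists_isPrime_liesOver_of_faithfullyFlat
    (B := (integralClosure A K') ⊗[A] (Ah A)) m'
  let e : (integralClosure A K') ⊗[A] (Ah A) ≃ₐ[A] BT A K' := Algebra.TensorProduct.comm A _ _
  let N : Ideal (BT A K') := N0.comap (e.symm : BT A K' →+* (integralClosure A K') ⊗[A] (Ah A))
  haveI hNp : N.IsPrime := Ideal.comap_isPrime _ _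
  have hNm : ∀ x : integralClosure A K', (1 : Ah A) ⊗ₜ[A] x ∈ N ↔ x ∈ m' := by
    intro x
    show e.symm ((1 : Ah A) ⊗ₜ[A] x) ∈ N0 ↔ x ∈ m'
    rw [hN0.over, Ideal.under_def, Ideal.mem_comap]
    rfl
  obtain ⟨P', hP', hP'N⟩ := Ideal.exists_minimalPrimes_le (bot_le : ⊥ ≤ N)
  obtain ⟨P, hP, hPc⟩ := Ideal.exists_minimalPrimes_comap_eq (I := ⊥)
    (cmp A K' : BT A K' →+* T A K') P'
    (by
      have hbot : (⊥ : Ideal (T A K')).comap (cmp A K' : BT A K' →+* T A K') = ⊥ :=
        Ideal.comap_bot_of_injective _ (cmp_injective A K')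
      rw [hbot]; exact hP')
  haveI : P.IsPrime := hP.1.1
  refine ⟨⟨P, hP⟩, ?_⟩
  have hker : RingHom.ker (thetaD A K' P : BT A K' →+* D A K' P) ≤ N := by
    rw [ker_thetaD]
    exact hPc.le.trans hP'N
  letI alg : Algebra (BT A K') (D A K' P) := (thetaD A K' P : BT A K' →+* D A K' P).toAlgebra
  haveI : IsScalarTower (Ah A) (BT A K') (D A K' P) :=
    IsScalarTower.of_algebraMap_eq (fun r => ((thetaD A K' P).commutes r).symm)
  haveI : Algebra.IsIntegral (BT A K') (D A K' P) := Algebra.IsIntegral.tower_top (R := Ah A)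
  obtain ⟨Q, -, hQp, hQ⟩ := Ideal.exists_ideal_over_prime_of_isIntegral N
    (⊥ : Ideal (D A K' P)) hker
  have hQle : Q ≤ maximalIdeal (D A K' P) := IsLocalRing.le_maximalIdeal hQp.ne_top
  have hle : m' ≤ nP A K' P := by
    intro x hx
    have h1 : (1 : Ah A) ⊗ₜ[A] x ∈ N := (hNm x).mpr hx
    rw [← hQ, Ideal.mem_comap] at h1
    exact hQle h1
  have hne : nP A K' P ≠ ⊤ := (Ideal.comap_isPrime (phi A K' P) (maximalIdeal _)).ne_top
  exact hm.eq_of_le hne hle

theorem finite_maximal : {m : Ideal (integralClosure A K') | m.IsMaximal}.Finite := by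
  haveI : Finite (minimalPrimes (T A K')) :=
    (minimalPrimes.finite_of_isNoetherianRing (T A K')).to_subtype
  refine (Set.finite_range (fun P : minimalPrimes (T A K') => nP A K' P.1)).subset ?_
  intro m hm
  obtain ⟨P, hP⟩ := exists_eq_nP A K' m hm
  exact ⟨P, hP.symm⟩

theorem finite_quotient (m' : Ideal (integralClosure A K')) (hm : m'.IsMaximal) :
    Module.Finite A (integralClosure A K' ⧸ m') := by
  obtain ⟨P, rfl⟩ := exists_eq_nP A K' m' hm
  let f : (integralClosure A K' ⧸ nP A K' P.1) →ₐ[A]
      (D A K' P.1 ⧸ maximalIdeal (D A K' P.1)) :=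
    Ideal.quotientMapₐ (maximalIdeal (D A K' P.1)) (phi A K' P.1) le_rfl
  have hf : Function.Injective f :=
    Ideal.quotientMap_injective' (f := (phi A K' P.1 : integralClosure A K' →+* D A K' P.1))
      (H := le_rfl) le_rfl
  haveI : Module.Finite A (D A K' P.1 ⧸ maximalIdeal (D A K' P.1)) := finite_residue_D A K' P.1
  exact Module.Finite.of_injective f.toLinearMap hf

end main

end Groth.Agent.Lib.SemiLocalIC51
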