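import Mathlib

/-!
# Finite torsion-free modules over polynomial rings over a valuation ring are finitely presented
(helper76; Stacks 053E via a graded Nakayama argument)
-/

set_option autoImplicit false

namespace Groth.Agent.Lib.ValFP76

open MvPolynomial

universe u v w

section Homog

variable {σ : Type*} {R : Type*} [CommRing R]

/-- Dehomogenisation `X none ↦ 1`. -/
noncomputable def dehom (σ : Type*) (R : Type*) [CommRing R] :
    MvPolynomial (Option σ) R →ₐ[R] MvPolynomial σ R :=
  aeval (fun o : Option σ => o.elim 1 X)

@[simp] lemma dehom_X_none : dehom σ R (X none) = 1 := by simp [dehom]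

@[simp] lemma dehom_rename_some (p : MvPolynomial σ R) : dehom σ R (rename some p) = p := by
  simp only [dehom, aeval_rename]
  have : ((fun o : Option σ => o.elim (1 : MvPolynomial σ R) X) ∘ some) = X := by
    funext i; simp
  rw [this, aeval_X_left, AlgHom.id_apply]

lemma exists_homogeneous_dehom (p : MvPolynomial σ R) (d : ℕ) (hd : p.totalDegree ≤ d) :
    ∃ g : MvPolynomial (Option σ) R, g.IsHomogeneous d ∧ dehom σ R g = p := by
  refine ⟨∑ e ∈ Finset.range (d + 1),
    X none ^ (d - e) * rename some (homogeneousComponent e p), ?_, ?_⟩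
  · apply IsHomogeneous.sum
    intro e he
    have hed : e ≤ d := Nat.lt_succ_iff.mp (Finset.mem_range.mp he)
    have h1 := (isHomogeneous_X_pow (R := R) (none : Option σ) (d - e)).mul
      ((homogeneousComponent_isHomogeneous e p).rename_isHomogeneous (f := (some : σ → Option σ)))
    rwa [Nat.sub_add_cancel hed] at h1
  · simp only [map_sum, map_mul, map_pow, dehom_X_none, one_pow, one_mul, dehom_rename_some]
    have h2 : ∑ e ∈ Finset.range (p.totalDegree + 1), homogeneousComponent e p =
        ∑ e ∈ Finset.range (d + 1), homogeneousComponent e p := by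
      apply Finset.sum_subset
      · intro e he
        simp only [Finset.mem_range] at he ⊢
        omega
      · intro e _ he
        simp only [Finset.mem_range, not_lt] at he
        exact homogeneousComponent_eq_zero _ _ (by omega)
    rw [← h2, sum_homogeneousComponent p]

/-- Homogeneous component of a product with a homogeneous factor. -/
lemma homogeneousComponent_mul_of_isHomogeneous (p q : MvPolynomial σ R) {e : ℕ}
    (hq : q.IsHomogeneous e) (d : ℕ) :
    homogeneousComponent d (p * q) =
      if e ≤ d then homogeneousComponent (d - e) p * q else 0 := by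
  conv_lhs => rw [← sum_homogeneousComponent p, Finset.sum_mul, map_sum]
  have hterm : ∀ i, homogeneousComponent d (homogeneousComponent i p * q) =
      if d = i + e then homogeneousComponent i p * q else 0 := fun i =>
    homogeneousComponent_of_mem ((homogeneousComponent_isHomogeneous i p).mul hq)
  simp only [hterm]
  split_ifs with hed
  · by_cases hle : d - e < p.totalDegree + 1
    · rw [Finset.sum_eq_single (d - e)]
      · rw [if_pos (by omega)]
      · intro i _ hi
        rw [if_neg (by omega)]
      · intro h
        exact absurd (Finset.mem_range.mpr hle) h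
    · rw [homogeneousComponent_eq_zero _ _ (by omega), zero_mul]
      apply Finset.sum_eq_zero
      intro i hi
      rw [Finset.mem_range] at hi
      rw [if_neg (by omega)]
  · apply Finset.sum_eq_zero
    intro i _
    rw [if_neg (by omega)]

lemma map_homogeneousComponent {S : Type*} [CommRing S] (f : R →+* S) (d : ℕ)
    (p : MvPolynomial σ R) :
    MvPolynomial.map f (homogeneousComponent d p) = homogeneousComponent d (MvPolynomial.map f p) := by
  ext m
  simp only [coeff_map, coeff_homogeneousComponent]
  split_ifs <;> simp

/-- Lifting homogeneous polynomials along a surjective ring homomorphism. -/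
lemma exists_homogeneous_map_eq {S : Type*} [CommRing S] (f : R →+* S)
    (hf : Function.Surjective f) (q : MvPolynomial σ S) (d : ℕ) (hq : q.IsHomogeneous d) :
    ∃ p : MvPolynomial σ R, p.IsHomogeneous d ∧ MvPolynomial.map f p = q := by
  obtain ⟨p0, hp0⟩ := MvPolynomial.map_surjective f hf q
  refine ⟨homogeneousComponent d p0, homogeneousComponent_isHomogeneous d p0, ?_⟩
  rw [map_homogeneousComponent, hp0, homogeneousComponent_eq_self hq]

end Homog

section General

variable {A : Type*} [CommRing A] [IsDomain A] [ValuationRing A]

/-- Over a valuation ring, the kernel of a linear map into a torsion-free module, restricted to a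
finitely generated submodule, is finitely generated. -/
lemma fg_inf_ker {E M : Type*} [AddCommGroup E] [Module A E] [AddCommGroup M] [Module A M]
    [Module.IsTorsionFree A M] (N : Submodule A E) (hN : N.FG) (φ : E →ₗ[A] M) :
    (N ⊓ LinearMap.ker φ).FG := by
  have hfinN : Module.Finite A N := Module.Finite.iff_fg.mpr hN
  let ψ : N →ₗ[A] LinearMap.range (φ.domRestrict N) := (φ.domRestrict N).rangeRestrict
  have hψ : Function.Surjective ψ := LinearMap.surjective_rangeRestrict _
  have hfin : Module.Finite A (LinearMap.range (φ.domRestrict N)) :=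
    Module.Finite.of_surjective ψ hψ
  have hflat : Module.Flat A (LinearMap.range (φ.domRestrict N)) := by
    rw [Module.Flat.flat_iff_torsion_eq_bot_of_isBezout,
      ← Submodule.isTorsionFree_iff_torsion_eq_bot]
    infer_instance
  have hfree : Module.Free A (LinearMap.range (φ.domRestrict N)) :=
    Module.free_of_flat_of_isLocalRing
  have hfp : Module.FinitePresentation A (LinearMap.range (φ.domRestrict N)) :=
    Module.finitePresentation_of_projective _ _
  have hker : (LinearMap.ker ψ).FG := Module.FinitePresentation.fg_ker ψ hψ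
  have heq : N ⊓ LinearMap.ker φ = (LinearMap.ker ψ).map N.subtype := by
    ext x
    simp only [Submodule.mem_inf, LinearMap.mem_ker, Submodule.mem_map, Submodule.subtype_apply,
      Subtype.exists, exists_and_right, exists_eq_right]
    constructor
    · rintro ⟨hx, hφ⟩
      refine ⟨hx, ?_⟩
      apply Subtype.ext
      simpa [ψ] using hφ
    · rintro ⟨hx, hφ⟩
      refine ⟨hx, ?_⟩
      have := congrArg Subtype.val hφ
      simpa [ψ] using this
  rw [heq]
  exact hker.map _

/-- A vector of polynomials all of whose coefficients lie in the maximal ideal is a multiple of a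
single element of the maximal ideal. -/
lemma exists_smul_eq_of_map_residue_eq_zero {τ : Type*} {r : ℕ}
    (g : Fin r → MvPolynomial τ A)
    (hg : ∀ j, MvPolynomial.map (IsLocalRing.residue A) (g j) = 0) :
    ∃ a ∈ IsLocalRing.maximalIdeal A, ∃ q : Fin r → MvPolynomial τ A, g = a • q := by
  classical
  let I : Ideal A := Ideal.span (⋃ j, ((g j).coeffs : Set A))
  have hIfg : I.FG := by
    refine ⟨Finset.univ.biUnion fun j => (g j).coeffs, ?_⟩
    congr 1
    ext x
    simp
  have hIm : I ≤ IsLocalRing.maximalIdeal A := by
    rw [Ideal.span_le]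
    intro c hc
    simp only [Set.mem_iUnion, Finset.mem_coe] at hc
    obtain ⟨j, hc⟩ := hc
    obtain ⟨μ, -, rfl⟩ := MvPolynomial.mem_coeffs_iff.mp hc
    have h1 := congrArg (MvPolynomial.coeff μ) (hg j)
    rw [MvPolynomial.coeff_map, MvPolynomial.coeff_zero] at h1
    exact (IsLocalRing.residue_eq_zero_iff _).mp h1
  obtain ⟨a, ha⟩ : ∃ a, I = Ideal.span {a} := (IsBezout.isPrincipal_of_FG I hIfg).principal
  have haI : a ∈ I := ha ▸ Ideal.mem_span_singleton_self a
  have hmem : ∀ j, g j ∈ Ideal.span {(MvPolynomial.C a : MvPolynomial τ A)} := by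
    intro j
    have h1 : g j ∈ Ideal.map (MvPolynomial.C : A →+* MvPolynomial τ A) I := by
      rw [MvPolynomial.mem_map_C_iff]
      intro μ
      by_cases h0 : MvPolynomial.coeff μ (g j) = 0
      · rw [h0]; exact I.zero_mem
      · apply Ideal.subset_span
        simp only [Set.mem_iUnion, Finset.mem_coe]
        exact ⟨j, MvPolynomial.mem_coeffs_iff.mpr
          ⟨μ, MvPolynomial.mem_support_iff.mpr h0, rfl⟩⟩
    rwa [ha, Ideal.map_span, Set.image_singleton] at h1
  choose q hq using fun j => Ideal.mem_span_singleton'.mp (hmem j)
  refine ⟨a, hIm haI, q, ?_⟩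
  funext j
  rw [Pi.smul_apply, MvPolynomial.smul_eq_C_mul, mul_comm, hq j]

omit [ValuationRing A] in
lemma isHomogeneous_of_smul {τ : Type*} {a : A} (ha : a ≠ 0) {q : MvPolynomial τ A} {d : ℕ}
    (h : (a • q).IsHomogeneous d) : q.IsHomogeneous d := by
  intro μ hμ
  apply h
  rw [MvPolynomial.coeff_smul, smul_eq_mul]
  exact mul_ne_zero ha hμ

end General

section Main

/-- **Stacks 053E (global polynomial form).** Over a valuation ring `A`, a finite module over a
polynomial ring `A[x_σ]` (`σ` finite) which is torsion-free over `A` is finitely presented. -/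
theorem finitePresentation_of_isTorsionFree (A : Type u) [CommRing A] [IsDomain A]
    [ValuationRing A] (σ : Type v) [Finite σ] (M : Type w) [AddCommGroup M] [Module A M]
    [Module (MvPolynomial σ A) M] [IsScalarTower A (MvPolynomial σ A) M]
    [Module.Finite (MvPolynomial σ A) M] [Module.IsTorsionFree A M] :
    Module.FinitePresentation (MvPolynomial σ A) M := by
  classical
  obtain ⟨r, π, hπ⟩ := Module.Finite.exists_fin' (MvPolynomial σ A) M
  let k := IsLocalRing.ResidueField A
  let δ : MvPolynomial (Option σ) A →ₐ[A] MvPolynomial σ A := dehom σ A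
  let δv : (Fin r → MvPolynomial (Option σ) A) →ₗ[A] (Fin r → MvPolynomial σ A) :=
    δ.toLinearMap.compLeft (Fin r)
  let Φ : (Fin r → MvPolynomial (Option σ) A) →ₗ[A] M := (π.restrictScalars A) ∘ₗ δv
  have hδv_smul : ∀ (s : MvPolynomial (Option σ) A) (g : Fin r → MvPolynomial (Option σ) A),
      δv (s • g) = δ s • δv g := by
    intro s g
    funext j
    simp [δv, LinearMap.compLeft_apply]
  have hΦ_smul : ∀ (s : MvPolynomial (Option σ) A) (g : Fin r → MvPolynomial (Option σ) A),
      Φ (s • g) = δ s • Φ g := by
    intro s g
    simp only [Φ, LinearMap.comp_apply, hδv_smul, LinearMap.restrictScalars_apply, map_smul]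
  let F : ℕ → Submodule A (Fin r → MvPolynomial (Option σ) A) := fun d =>
    Submodule.pi Set.univ fun _ => homogeneousSubmodule (Option σ) A d
  have hF : ∀ d, (F d).FG := fun d => Submodule.fg_pi fun _ => homogeneousSubmodule_fg (Option σ) A d
  let K : ℕ → Submodule A (Fin r → MvPolynomial (Option σ) A) := fun d =>
    F d ⊓ LinearMap.ker Φ
  have hK : ∀ d, (K d).FG := fun d => fg_inf_ker (F d) (hF d) Φ
  let ρ : MvPolynomial (Option σ) A →+* MvPolynomial (Option σ) k :=
    MvPolynomial.map (IsLocalRing.residue A)
  let ρv : (Fin r → MvPolynomial (Option σ) A) → (Fin r → MvPolynomial (Option σ) k) :=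
    fun g j => ρ (g j)
  let W : Submodule (MvPolynomial (Option σ) k) (Fin r → MvPolynomial (Option σ) k) :=
    Submodule.span _ (⋃ d, ρv '' (K d : Set (Fin r → MvPolynomial (Option σ) A)))
  have hWfg : W.FG := IsNoetherian.noetherian W
  obtain ⟨T, hTsub, hTspan⟩ := (Submodule.fg_span_iff_fg_span_finset_subset _).mp hWfg
  have hchoose : ∀ t : T, ∃ (d : ℕ) (g : Fin r → MvPolynomial (Option σ) A),
      g ∈ K d ∧ ρv g = t.1 := by
    intro t
    have h1 := hTsub t.2
    simp only [Set.mem_iUnion, Set.mem_image] at h1
    obtain ⟨d, g, hg, hgt⟩ := h1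
    exact ⟨d, g, hg, hgt⟩
  choose dT gT hgK hgρ using hchoose
  let G : Submodule (MvPolynomial (Option σ) A) (Fin r → MvPolynomial (Option σ) A) :=
    Submodule.span _ (Set.range gT)
  have hmain : ∀ d, K d ≤ G.restrictScalars A := by
    intro d
    apply Submodule.le_of_le_smul_of_le_jacobson_bot (I := IsLocalRing.maximalIdeal A) (hK d)
    · exact (IsLocalRing.jacobson_eq_maximalIdeal _ bot_ne_top).ge
    intro g hg
    have hgF : ∀ j, (g j).IsHomogeneous d := fun j =>
      (Submodule.mem_pi.mp hg.1) j (Set.mem_univ j)
    have hgΦ : Φ g = 0 := hg.2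
    have hgW : ρv g ∈ Submodule.span (MvPolynomial (Option σ) k)
        (T : Set (Fin r → MvPolynomial (Option σ) k)) := by
      rw [← hTspan]
      exact Submodule.subset_span (Set.mem_iUnion.mpr ⟨d, g, hg, rfl⟩)
    obtain ⟨c, hc⟩ := Submodule.mem_span_finset'.mp hgW
    -- homogeneity of the generators
    have htF : ∀ (t : T) (j : Fin r), (t.1 j).IsHomogeneous (dT t) := by
      intro t j
      rw [← hgρ t]
      exact ((Submodule.mem_pi.mp (hgK t).1) j (Set.mem_univ j)).map _
    let c' : T → MvPolynomial (Option σ) k := fun t =>
      if dT t ≤ d then homogeneousComponent (d - dT t) (c t) else 0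
    have hc' : ∀ j, ρ (g j) = ∑ t : T, c' t * t.1 j := by
      intro j
      have h1 : ρ (g j) = ∑ t : T, c t * t.1 j := by
        have := congrFun hc j
        simp only [Finset.sum_apply, Pi.smul_apply, smul_eq_mul] at this
        exact this.symm
      have h2 : homogeneousComponent d (ρ (g j)) = ρ (g j) :=
        homogeneousComponent_eq_self ((hgF j).map _)
      rw [← h2, h1, map_sum]
      refine Finset.sum_congr rfl fun t _ => ?_
      rw [homogeneousComponent_mul_of_isHomogeneous _ _ (htF t j)]
      simp only [c']
      split_ifs <;> simp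
    have hlift : ∀ t : T, ∃ s : MvPolynomial (Option σ) A,
        (dT t ≤ d → s.IsHomogeneous (d - dT t)) ∧ (¬ dT t ≤ d → s = 0) ∧ ρ s = c' t := by
      intro t
      by_cases hle : dT t ≤ d
      · obtain ⟨s, hs1, hs2⟩ := exists_homogeneous_map_eq (IsLocalRing.residue A)
          IsLocalRing.residue_surjective (c' t) (d - dT t) (by
            simp only [c', if_pos hle]
            exact homogeneousComponent_isHomogeneous _ _)
        exact ⟨s, fun _ => hs1, fun h => absurd hle h, hs2⟩
      · refine ⟨0, fun h => absurd h hle, fun _ => rfl, ?_⟩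
        simp only [c', if_neg hle, map_zero]
    choose s hs1 hs2 hs3 using hlift
    let g' : Fin r → MvPolynomial (Option σ) A := g - ∑ t : T, s t • gT t
    have hsgF : ∀ (t : T) (j : Fin r), (s t * gT t j).IsHomogeneous d := by
      intro t j
      by_cases hle : dT t ≤ d
      · have := (hs1 t hle).mul ((Submodule.mem_pi.mp (hgK t).1) j (Set.mem_univ j))
        rwa [Nat.sub_add_cancel hle] at this
      · rw [hs2 t hle, zero_mul]
        exact isHomogeneous_zero _ _ _
    have hg'F : ∀ j, (g' j).IsHomogeneous d := by
      intro j
      simp only [g', Pi.sub_apply, Finset.sum_apply, Pi.smul_apply, smul_eq_mul]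
      exact (hgF j).sub (IsHomogeneous.sum _ _ _ fun t _ => hsgF t j)
    have hg'Φ : Φ g' = 0 := by
      simp only [g', map_sub, map_sum, hΦ_smul, hgΦ, zero_sub, neg_eq_zero]
      apply Finset.sum_eq_zero
      intro t _
      have : Φ (gT t) = 0 := (hgK t).2
      rw [this, smul_zero]
    have hg'ρ : ∀ j, MvPolynomial.map (IsLocalRing.residue A) (g' j) = 0 := by
      intro j
      change ρ (g' j) = 0
      simp only [g', Pi.sub_apply, Finset.sum_apply, Pi.smul_apply, smul_eq_mul, map_sub, map_sum,
        map_mul, hs3]
      rw [hc' j, sub_eq_zero]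
      refine Finset.sum_congr rfl fun t _ => ?_
      have := congrFun (hgρ t) j
      simp only [ρv] at this
      rw [this]
    obtain ⟨a, ham, q, hq⟩ := exists_smul_eq_of_map_residue_eq_zero g' hg'ρ
    have hg'mem : g' ∈ IsLocalRing.maximalIdeal A • K d := by
      by_cases ha0 : a = 0
      · rw [hq, ha0, zero_smul]
        exact Submodule.zero_mem _
      · rw [hq]
        apply Submodule.smul_mem_smul ham
        refine ⟨?_, ?_⟩
        · apply Submodule.mem_pi.mpr
          intro j _
          apply isHomogeneous_of_smul ha0
          have := hg'F j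
          rwa [hq] at this
        · have h1 : Φ (a • q) = 0 := hq ▸ hg'Φ
          rw [map_smul] at h1
          rcases smul_eq_zero.mp h1 with h | h
          · exact absurd h ha0
          · exact h
    have hsum : ∑ t : T, s t • gT t ∈ G.restrictScalars A := by
      rw [Submodule.restrictScalars_mem]
      exact Submodule.sum_mem _ fun t _ =>
        Submodule.smul_mem _ _ (Submodule.subset_span ⟨t, rfl⟩)
    have hdecomp : g = ∑ t : T, s t • gT t + g' := by
      simp only [g']
      abel
    rw [hdecomp]
    exact Submodule.add_mem_sup hsum hg'mem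
  have hker : LinearMap.ker π =
      Submodule.span (MvPolynomial σ A) (Set.range fun t : T => δv (gT t)) := by
    apply le_antisymm
    · intro h hh
      rw [LinearMap.mem_ker] at hh
      let d := Finset.univ.sup fun j => (h j).totalDegree
      have hd : ∀ j, (h j).totalDegree ≤ d := fun j =>
        Finset.le_sup (f := fun j => (h j).totalDegree) (Finset.mem_univ j)
      choose Gh hGh1 hGh2 using fun j => exists_homogeneous_dehom (h j) d (hd j)
      have hδG : δv Gh = h := by
        funext j
        simp only [δv, LinearMap.compLeft_apply, Function.comp_apply, AlgHom.toLinearMap_apply]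
        exact hGh2 j
      have hGK : Gh ∈ K d := by
        refine ⟨Submodule.mem_pi.mpr fun j _ => hGh1 j, ?_⟩
        change Φ Gh = 0
        simp only [Φ, LinearMap.comp_apply, hδG, LinearMap.restrictScalars_apply]
        exact hh
      have hGG : Gh ∈ G := hmain d hGK
      rw [← hδG]
      refine Submodule.span_induction (p := fun x _ => δv x ∈
        Submodule.span (MvPolynomial σ A) (Set.range fun t : T => δv (gT t))) ?_ ?_ ?_ ?_ hGG
      · rintro x ⟨t, rfl⟩
        exact Submodule.subset_span ⟨t, rfl⟩
      · rw [map_zero]
        exact Submodule.zero_mem _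
      · intro x y _ _ hx hy
        rw [map_add]
        exact Submodule.add_mem _ hx hy
      · intro s x _ hx
        rw [hδv_smul]
        exact Submodule.smul_mem _ _ hx
    · rw [Submodule.span_le]
      rintro _ ⟨t, rfl⟩
      exact (hgK t).2
  apply Module.finitePresentation_of_surjective π hπ
  rw [hker]
  exact Submodule.fg_span (Set.finite_range _)

end Main

end Groth.Agent.Lib.ValFP76
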