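import Mathlib
import Groth.Agent.Lib.ValFP76A

/-!
# Finite type torsion-free algebras over a valuation ring are finitely presented (helper76)

Algebra form of Stacks 053E, plus an elementary lemma on modules over a "semi-valuation" pair.
-/

set_option autoImplicit false
set_option linter.style.haveILetI false

namespace Groth.Agent.Lib.SemiVal76

open TensorProduct

universe u

/-- A finite type algebra over a valuation ring which is torsion-free is finitely presented. -/
theorem finitePresentation_of_isTorsionFree (V : Type u) [CommRing V] [IsDomain V]
    [ValuationRing V] (C : Type u) [CommRing C] [Algebra V C] [Algebra.FiniteType V C]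
    [Module.IsTorsionFree V C] : Algebra.FinitePresentation V C := by
  obtain ⟨n, π, hπ⟩ := Algebra.FiniteType.iff_quotient_mvPolynomial''.mp
    (inferInstance : Algebra.FiniteType V C)
  letI : Algebra (MvPolynomial (Fin n) V) C := π.toRingHom.toAlgebra
  haveI : IsScalarTower V (MvPolynomial (Fin n) V) C :=
    IsScalarTower.of_algebraMap_eq' (by
      ext v
      change algebraMap V C v = π (algebraMap V _ v)
      rw [AlgHom.commutes])
  have hsurj : Function.Surjective (Algebra.linearMap (MvPolynomial (Fin n) V) C) := hπ
  haveI : Module.Finite (MvPolynomial (Fin n) V) C := Module.Finite.of_surjective _ hsurj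
  haveI : Module.FinitePresentation (MvPolynomial (Fin n) V) C :=
    ValFP76.finitePresentation_of_isTorsionFree V (Fin n) C
  have hfg := Module.FinitePresentation.fg_ker (Algebra.linearMap (MvPolynomial (Fin n) V) C) hsurj
  refine ⟨n, π, hπ, ?_⟩
  have : (RingHom.ker π.toRingHom : Ideal _) = LinearMap.ker (Algebra.linearMap (MvPolynomial (Fin n) V) C) := by
    ext x
    rfl
  rw [this]
  exact hfg

/-- A finite type flat algebra over a valuation ring is finitely presented. -/
theorem finitePresentation_of_flat (V : Type u) [CommRing V] [IsDomain V]
    [ValuationRing V] (C : Type u) [CommRing C] [Algebra V C] [Algebra.FiniteType V C]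
    [Module.Flat V C] : Algebra.FinitePresentation V C :=
  finitePresentation_of_isTorsionFree V C

end Groth.Agent.Lib.SemiVal76
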