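import Mathlib

/-!
# Torsion-freeness of the closed fibre over a semi-valuation ring (helper76)

`O` a ring, `A` and `R` two `O`-algebras with `O → R` surjective with kernel `I`, such that `I` is
stable under multiplication by `A` (inside `A`) and every `o ∉ I` becomes a unit of `A`.
If `C` is an `O`-module with `C → A ⊗ C` injective and `R` is a domain, then `R ⊗ C` is torsion-free
over `R`.
-/

set_option autoImplicit false
set_option linter.style.haveILetI false

namespace Groth.Agent.Lib.SemiVal76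

open TensorProduct

/-- If `O → R` is surjective with kernel `I` then the kernel of `C → R ⊗ C` is `I • ⊤`. -/
theorem mem_smul_top_of_tmul_eq_zero {O R : Type*} [CommRing O] [CommRing R] [Algebra O R]
    (hsurj : Function.Surjective (algebraMap O R)) {C : Type*} [AddCommGroup C] [Module O C]
    (c : C) (hc : (1 : R) ⊗ₜ[O] c = 0) :
    c ∈ (RingHom.ker (algebraMap O R)) • (⊤ : Submodule O C) := by
  set I := RingHom.ker (algebraMap O R) with hIdef
  have hex : Function.Exact (I.subtype : I →ₗ[O] O) (Algebra.linearMap O R) := by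
    intro x
    constructor
    · intro hx
      exact ⟨⟨x, hx⟩, rfl⟩
    · rintro ⟨y, rfl⟩
      exact y.2
  have hex' := rTensor_exact C hex hsurj
  have h1 : (Algebra.linearMap O R).rTensor C ((1 : O) ⊗ₜ c) = 0 := by
    rw [LinearMap.rTensor_tmul, Algebra.linearMap_apply, map_one, hc]
  obtain ⟨y, hy⟩ := (hex' _).mp h1
  have key : ∀ y : I ⊗[O] C, TensorProduct.lid O C ((I.subtype : I →ₗ[O] O).rTensor C y) ∈
      I • (⊤ : Submodule O C) := by
    intro y
    induction y using TensorProduct.induction_on with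
    | zero => simp
    | tmul i c' =>
      rw [LinearMap.rTensor_tmul, TensorProduct.lid_tmul]
      exact Submodule.smul_mem_smul i.2 trivial
    | add y₁ y₂ h₁ h₂ =>
      rw [map_add, map_add]
      exact Submodule.add_mem _ h₁ h₂
  have h2 : c = TensorProduct.lid O C ((I.subtype : I →ₗ[O] O).rTensor C y) := by
    rw [hy, TensorProduct.lid_tmul, one_smul]
  rw [h2]
  exact key y

/-- Converse (trivial) direction. -/
theorem tmul_eq_zero_of_mem_smul_top {O R : Type*} [CommRing O] [CommRing R] [Algebra O R]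
    {C : Type*} [AddCommGroup C] [Module O C]
    (c : C) (hc : c ∈ (RingHom.ker (algebraMap O R)) • (⊤ : Submodule O C)) :
    (1 : R) ⊗ₜ[O] c = 0 := by
  refine Submodule.smul_induction_on hc ?_ ?_
  · intro i hi c' _
    rw [← TensorProduct.smul_tmul, Algebra.smul_def, mul_one, (RingHom.mem_ker).mp hi,
      TensorProduct.zero_tmul]
  · intro x y hx hy
    rw [TensorProduct.tmul_add, hx, hy, add_zero]

/-- Cancellation of an element becoming a unit in `A`, modulo an ideal of `O` stable under `A`. -/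
theorem mem_smul_top_of_smul_mem {O A : Type*} [CommRing O] [CommRing A] [Algebra O A]
    (I : Ideal O)
    (hI : ∀ (a : A) (i : O), i ∈ I → ∃ j ∈ I, algebraMap O A j = a * algebraMap O A i)
    {C : Type*} [AddCommGroup C] [Module O C]
    (hinj : ∀ c c' : C, (1 : A) ⊗ₜ[O] c = (1 : A) ⊗ₜ[O] c' → c = c')
    (o : O) (ho : IsUnit (algebraMap O A o)) (c : C) (hc : o • c ∈ I • (⊤ : Submodule O C)) :
    c ∈ I • (⊤ : Submodule O C) := by
  have key : ∀ y ∈ I • (⊤ : Submodule O C), ∀ a : A,
      ∃ y' ∈ I • (⊤ : Submodule O C), a ⊗ₜ[O] y = (1 : A) ⊗ₜ[O] y' := by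
    intro y hy
    refine Submodule.smul_induction_on hy ?_ ?_
    · intro i hi c' _ a
      obtain ⟨j, hj, hja⟩ := hI a i hi
      refine ⟨j • c', Submodule.smul_mem_smul hj trivial, ?_⟩
      rw [← TensorProduct.smul_tmul, ← TensorProduct.smul_tmul, Algebra.smul_def, Algebra.smul_def,
        mul_one, hja, mul_comm]
    · intro x y hx hy a
      obtain ⟨x', hx', hxa⟩ := hx a
      obtain ⟨y', hy', hya⟩ := hy a
      exact ⟨x' + y', Submodule.add_mem _ hx' hy', by
        rw [TensorProduct.tmul_add, TensorProduct.tmul_add, hxa, hya]⟩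
  obtain ⟨u, hu⟩ := ho
  obtain ⟨y', hy', hy'a⟩ := key _ hc (↑u⁻¹ : A)
  have h1 : (↑u⁻¹ : A) ⊗ₜ[O] (o • c) = (1 : A) ⊗ₜ[O] c := by
    rw [← TensorProduct.smul_tmul, Algebra.smul_def, ← hu, Units.mul_inv]
  rw [h1] at hy'a
  rw [hinj c y' hy'a]
  exact hy'

/-- **Torsion-freeness of the closed fibre.** -/
theorem isTorsionFree_tensor {O A R : Type*} [CommRing O] [CommRing A] [CommRing R] [IsDomain R]
    [Algebra O A] [Algebra O R] (hsurj : Function.Surjective (algebraMap O R))
    (hunit : ∀ o : O, algebraMap O R o ≠ 0 → IsUnit (algebraMap O A o))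
    (hI : ∀ (a : A) (i : O), algebraMap O R i = 0 →
      ∃ j, algebraMap O R j = 0 ∧ algebraMap O A j = a * algebraMap O A i)
    (C : Type*) [AddCommGroup C] [Module O C]
    (hinj : ∀ c c' : C, (1 : A) ⊗ₜ[O] c = (1 : A) ⊗ₜ[O] c' → c = c') :
    Module.IsTorsionFree R (R ⊗[O] C) := by
  rw [Module.isTorsionFree_iff_smul_eq_zero]
  intro r x hrx
  by_cases hr : r = 0
  · exact Or.inl hr
  right
  obtain ⟨c, rfl⟩ := TensorProduct.mk_surjective O C R hsurj x
  obtain ⟨o, rfl⟩ := hsurj r
  simp only [TensorProduct.mk_apply] at hrx ⊢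
  have h1 : (1 : R) ⊗ₜ[O] (o • c) = 0 := by
    rw [← hrx, TensorProduct.smul_tmul', ← TensorProduct.smul_tmul, Algebra.smul_def, smul_eq_mul]
  have h2 := mem_smul_top_of_tmul_eq_zero hsurj (o • c) h1
  have h3 := mem_smul_top_of_smul_mem (RingHom.ker (algebraMap O R))
    (fun a i hi => by
      obtain ⟨j, hj, hja⟩ := hI a i ((RingHom.mem_ker).mp hi)
      exact ⟨j, (RingHom.mem_ker).mpr hj, hja⟩) hinj o (hunit o hr) c h2
  exact tmul_eq_zero_of_mem_smul_top c h3

end Groth.Agent.Lib.SemiVal76
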