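import Mathlib
import Groth.Agent.Lib.DetLength3
set_option maxHeartbeats 800000
set_option autoImplicit false
set_option linter.style.haveILetI false
universe u v

namespace Groth.Agent.Lib.SemilinCoker
open Groth.Agent.Lib.DetLength IsDiscreteValuationRing

variable {B : Type u} [CommRing B] [IsDomain B] [IsDiscreteValuationRing B]

theorem length_coker_matrix_dvr {r : ℕ} (Ψ : Matrix (Fin r) (Fin r) B) :
    Module.length B ((Fin r → B) ⧸ LinearMap.range (Matrix.toLin' Ψ)) = addVal B Ψ.det := by
  rw [← Ring.ord_eq_addVal, ← LinearMap.det_toLin' Ψ]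
  by_cases h : LinearMap.det (Matrix.toLin' Ψ) = 0
  · have h2 : Module.length B ((Fin r → B) ⧸ LinearMap.range (Matrix.toLin' Ψ)) = ⊤ := by
      by_contra hne
      have h3 := (length_coker_lt_top_iff (Fin r → B) (Matrix.toLin' Ψ)).mp
        (lt_top_iff_ne_top.mpr hne)
      rw [h] at h3
      have h4 : Ring.ord B 0 < ⊤ := h3
      rw [Ring.ord_eq_addVal, addVal_zero] at h4
      exact lt_irrefl _ h4
    rw [h2, h, Ring.ord_eq_addVal, addVal_zero]
  · exact length_coker_eq_ord (Pi.basisFun B (Fin r)) _ (mem_nonZeroDivisors_of_ne_zero h)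

theorem length_coker_of_bases {r : ℕ} {M N : Type v} [AddCommGroup M] [Module B M]
    [AddCommGroup N] [Module B N] (bM : Module.Basis (Fin r) B M) (bN : Module.Basis (Fin r) B N)
    (L : M →ₗ[B] N) :
    Module.length B (N ⧸ LinearMap.range L) = addVal B (LinearMap.toMatrix bM bN L).det := by
  rw [← length_coker_matrix_dvr]
  refine (Submodule.Quotient.equiv _ _ bN.equivFun ?_).length_eq
  have hconj : (bN.equivFun : N →ₗ[B] (Fin r → B)) ∘ₗ L =
      Matrix.toLin' (LinearMap.toMatrix bM bN L) ∘ₗ (bM.equivFun : M →ₗ[B] (Fin r → B)) := by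
    ext x : 1
    simp only [LinearMap.comp_apply, LinearEquiv.coe_coe, Matrix.toLin'_apply,
      Module.Basis.equivFun_apply]
    exact (LinearMap.toMatrix_mulVec_repr bM bN L x).symm
  rw [← LinearMap.range_comp, hconj, LinearMap.range_comp, LinearEquiv.range, Submodule.map_top]

section semilinear
variable (ω : B ≃+* B) {r : ℕ} {M N : Type v} [AddCommGroup M] [Module B M]
  [AddCommGroup N] [Module B N] (bM : Module.Basis (Fin r) B M)
  (χ : M →+ N) (hχ : ∀ (b : B) (x : M), χ (b • x) = ω b • χ x)

include hχ in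
theorem chi_sum (a : Fin r → B) : χ (∑ c, a c • bM c) = ∑ c, ω (a c) • χ (bM c) := by
  rw [map_sum]
  exact Finset.sum_congr rfl fun c _ => hχ _ _

omit [IsDomain B] [IsDiscreteValuationRing B] in
theorem constr_sum (a : Fin r → B) :
    bM.constr B (fun c => χ (bM c)) (∑ c, a c • bM c) = ∑ c, a c • χ (bM c) := by
  rw [map_sum]
  refine Finset.sum_congr rfl fun c _ => ?_
  rw [map_smul, Module.Basis.constr_basis]

include hχ in
theorem range_semilinear :
    Set.range χ = Set.range (bM.constr B (fun c => χ (bM c))) := by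
  ext y
  constructor
  · rintro ⟨x, rfl⟩
    refine ⟨∑ c, ω (bM.repr x c) • bM c, ?_⟩
    rw [constr_sum]
    conv_rhs => rw [← bM.sum_repr x]
    rw [chi_sum ω bM χ hχ]
  · rintro ⟨x, rfl⟩
    refine ⟨∑ c, ω.symm (bM.repr x c) • bM c, ?_⟩
    rw [chi_sum ω bM χ hχ]
    conv_rhs => rw [← bM.sum_repr x]
    rw [constr_sum]
    simp

end semilinear

theorem addVal_prod {ι : Type*} (s : Finset ι) (f : ι → B) :
    addVal B (∏ i ∈ s, f i) = ∑ i ∈ s, addVal B (f i) := by
  classical
  induction s using Finset.induction_on with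
  | empty => simp [addVal_one]
  | insert a s ha ih => rw [Finset.prod_insert ha, Finset.sum_insert ha, addVal_mul, ih]

end Groth.Agent.Lib.SemilinCoker
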