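import Mathlib.RingTheory.LocalRing.Module
import Mathlib.RingTheory.Spectrum.Prime.FreeLocus
import Mathlib.RingTheory.Localization.Ideal
import Mathlib.RingTheory.Localization.BaseChange
import Mathlib.Algebra.Module.FinitePresentation

/-!
# Simultaneous bases of a finite projective module near finitely many primes

Pure algebra: if `M` is a finitely presented flat `A`-module of rank `n` at each prime of a finite
set `P`, then there are `n` elements of `M` and `r ∈ A` outside every `p ∈ P` such that the elements
form a basis of `M` at every prime not containing `r`.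
-/

set_option autoImplicit false
universe u

namespace Groth.Agent.Lib.SemilocalBasis

open Module

section Semilocal

variable {A : Type*} [CommRing A] (P : Finset (PrimeSpectrum A))

/-- The complement of the union of the primes in `P`. -/
def compl : Submonoid A := ⨅ p ∈ P, p.asIdeal.primeCompl

theorem mem_compl {r : A} : r ∈ compl P ↔ ∀ p ∈ P, r ∉ p.asIdeal := by
  simp only [compl, Submonoid.mem_iInf]
  rfl

/-- A prime disjoint from `compl P` is contained in a member of `P`. -/
theorem exists_le_of_disjoint (q : Ideal A) [q.IsPrime]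
    (hq : Disjoint (compl P : Set A) q) : ∃ p ∈ P, q ≤ p.asIdeal := by
  have hsub : (q : Set A) ⊆ ⋃ p ∈ (P : Set (PrimeSpectrum A)), (p.asIdeal : Set A) := by
    intro x hx
    by_contra hcon
    simp only [Set.mem_iUnion, not_exists] at hcon
    exact Set.disjoint_left.mp hq ((mem_compl P).mpr fun p hp h => hcon p (Finset.mem_coe.mpr hp) h)
      hx
  classical
  by_cases hP : P.Nonempty
  · obtain ⟨a, -⟩ := hP
    exact (Ideal.subset_union_prime (s := P) (f := fun p => p.asIdeal) a a
      (fun p _ _ _ => p.isPrime)).mp hsub
  · rw [Finset.not_nonempty_iff_eq_empty] at hP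
    subst hP
    exfalso
    simp only [Finset.coe_empty, Set.mem_empty_iff_false, Set.iUnion_of_empty,
      Set.iUnion_empty, Set.subset_empty_iff] at hsub
    exact Set.eq_empty_iff_forall_notMem.mp hsub 0 q.zero_mem

theorem disjoint_compl {p : PrimeSpectrum A} (hp : p ∈ P) :
    Disjoint (compl P : Set A) p.asIdeal :=
  Set.disjoint_left.mpr fun _ hx hxp => (mem_compl P).mp hx p hp hxp

/-- The contraction of a maximal ideal of the localization at `compl P` belongs to `P`. -/
theorem under_mem_of_isMaximal (Q : Ideal (Localization (compl P))) [hQ : Q.IsMaximal] :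
    ∃ p ∈ P, Q.under A = p.asIdeal := by
  have hQp : Q.IsPrime := hQ.isPrime
  obtain ⟨hq, hdisj⟩ := (IsLocalization.isPrime_iff_isPrime_disjoint (compl P) _ Q).mp hQp
  obtain ⟨p, hp, hle⟩ := exists_le_of_disjoint P (Q.under A) hdisj
  refine ⟨p, hp, ?_⟩
  have hpd := disjoint_compl P hp
  have hprime := IsLocalization.isPrime_of_isPrime_disjoint (compl P)
    (Localization (compl P)) p.asIdeal p.isPrime hpd
  have hle' : Q ≤ p.asIdeal.map (algebraMap A (Localization (compl P))) := by
    rw [← IsLocalization.map_under (compl P) (Localization (compl P)) Q]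
    exact Ideal.map_mono hle
  have := hQ.eq_of_le hprime.ne_top hle'
  rw [this, IsLocalization.under_map_of_isPrime_disjoint (compl P) _ p.isPrime hpd]

instance finite_maximalSpectrum : Finite (MaximalSpectrum (Localization (compl P))) := by
  classical
  let φ : MaximalSpectrum (Localization (compl P)) → (P : Set (PrimeSpectrum A)) := fun Q =>
    ⟨(under_mem_of_isMaximal P Q.asIdeal).choose,
      (under_mem_of_isMaximal P Q.asIdeal).choose_spec.1⟩
  have hφ : ∀ Q, Q.asIdeal.under A = (φ Q).1.asIdeal := fun Q =>
    (under_mem_of_isMaximal P Q.asIdeal).choose_spec.2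
  refine Finite.of_injective φ fun Q Q' h => ?_
  ext1
  rw [← IsLocalization.map_under (compl P) (Localization (compl P)) Q.asIdeal,
    ← IsLocalization.map_under (compl P) (Localization (compl P)) Q'.asIdeal, hφ, hφ, h]

end Semilocal

section Rank

open TensorProduct

/-- At a maximal ideal, the dimension of the fibre over the quotient field is the rank at the
stalk. -/
theorem finrank_quotient_tensor {B : Type*} [CommRing B] (N : Type*) [AddCommGroup N] [Module B N]
    [Module.Finite B N] [Module.Flat B N] (Q : Ideal B) [hQ : Q.IsMaximal] :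
    finrank (B ⧸ Q) ((B ⧸ Q) ⊗[B] N) = rankAtStalk N ⟨Q, hQ.isPrime⟩ := by
  let _ : Field (B ⧸ Q) := Ideal.Quotient.field Q
  rw [rankAtStalk_eq]
  change _ = finrank Q.ResidueField (Q.ResidueField ⊗[B] N)
  rw [← (AlgebraTensorModule.cancelBaseChange B (B ⧸ Q) Q.ResidueField Q.ResidueField N).finrank_eq]
  exact (finrank_baseChange (R := Q.ResidueField) (S := B ⧸ Q) (M' := (B ⧸ Q) ⊗[B] N)).symm

variable {A : Type*} [CommRing A] (P : Finset (PrimeSpectrum A))
  (M : Type*) [AddCommGroup M] [Module A M] [Module.Finite A M] [Module.Flat A M]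

/-- The localization of `M` at the complement of finitely many primes where `M` has rank `n`
is free of rank `n`. -/
theorem nonempty_basis_localizedModule (n : ℕ) (hP : ∀ p ∈ P, rankAtStalk M p = n) :
    Nonempty (Basis (Fin n) (Localization (compl P)) (LocalizedModule (compl P) M)) := by
  refine nonempty_basis_of_flat_of_finrank_eq _ _ n fun Q => ?_
  rw [finrank_quotient_tensor]
  have hbc : IsBaseChange (Localization (compl P)) (LocalizedModule.mkLinearMap (compl P) M) :=
    IsLocalizedModule.isBaseChange (compl P) (Localization (compl P)) _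
  rw [rankAtStalk_isBaseChange hbc]
  obtain ⟨p, hp, hQp⟩ := under_mem_of_isMaximal P Q.asIdeal
  have : PrimeSpectrum.comap (algebraMap A (Localization (compl P)))
      ⟨Q.asIdeal, Q.isMaximal.isPrime⟩ = p := by
    ext1
    exact hQp
  rw [this]
  exact hP p hp

end Rank

section Away

variable {A : Type*} [CommRing A] {M : Type*} [AddCommGroup M] [Module A M] {n : ℕ}

/-- `s` is a basis of `M` after inverting `r`, stated elementwise. -/
structure IsBasisAway (s : Fin n → M) (r : A) : Prop where
  span : ∀ m : M, ∃ (k : ℕ) (c : Fin n → A), r ^ k • m = ∑ j, c j • s j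
  indep : ∀ c : Fin n → A, ∑ j, c j • s j = 0 → ∃ k : ℕ, ∀ j, r ^ k * c j = 0

theorem linearCombination_eq_sum (s : Fin n → M) (c : Fin n →₀ A) :
    Finsupp.linearCombination A s c = ∑ j, c j • s j := by
  rw [Finsupp.linearCombination_apply, Finsupp.sum_fintype]
  intro i
  exact zero_smul _ _

theorem isBasisAway_of_bijective (s : Fin n → M) (r : A)
    (h : Function.Bijective (LocalizedModule.map (.powers r) (Finsupp.linearCombination A s))) :
    IsBasisAway s r := by
  constructor
  · intro m
    obtain ⟨y, hy⟩ := h.2 (LocalizedModule.mk m 1)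
    induction y using LocalizedModule.induction_on with
    | h c u =>
      rw [LocalizedModule.map_mk, LocalizedModule.mk_eq] at hy
      obtain ⟨w, hw⟩ := hy
      obtain ⟨a, ha⟩ := w.2
      obtain ⟨k, hk⟩ := u.2
      replace ha : r ^ a = (w : A) := ha
      replace hk : r ^ k = (u : A) := hk
      refine ⟨a + k, fun j => r ^ a * c j, ?_⟩
      have hw' : (w : A) • (Finsupp.linearCombination A s) c = (w : A) • (u : A) • m := by
        simpa [Submonoid.smul_def] using hw
      rw [linearCombination_eq_sum] at hw'
      rw [pow_add, mul_smul, hk, ha, ← hw', Finset.smul_sum]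
      exact Finset.sum_congr rfl fun j _ => by rw [mul_smul]
  · intro c hc
    let c' : Fin n →₀ A := Finsupp.equivFunOnFinite.symm c
    have hc' : Finsupp.linearCombination A s c' = 0 := by
      rw [linearCombination_eq_sum]
      exact hc
    have h0 : LocalizedModule.map (.powers r) (Finsupp.linearCombination A s)
        (LocalizedModule.mk c' 1) = LocalizedModule.map (.powers r)
          (Finsupp.linearCombination A s) (LocalizedModule.mk 0 1) := by
      rw [LocalizedModule.map_mk, LocalizedModule.map_mk, hc', map_zero]
    have := h.1 h0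
    rw [LocalizedModule.mk_eq] at this
    obtain ⟨w, hw⟩ := this
    obtain ⟨k, hk⟩ := w.2
    replace hk : r ^ k = (w : A) := hk
    refine ⟨k, fun j => ?_⟩
    have hw' : (w : A) • c' = 0 := by simpa [Submonoid.smul_def] using hw
    rw [hk]
    exact DFunLike.congr_fun hw' j

end Away

section Exists

variable {A : Type*} [CommRing A] (P : Finset (PrimeSpectrum A))
  (M : Type*) [AddCommGroup M] [Module A M] [Module.FinitePresentation A M] [Module.Flat A M]

/-- **Simultaneous basis near finitely many primes.** -/
theorem exists_isBasisAway (n : ℕ) (hP : ∀ p ∈ P, rankAtStalk M p = n) :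
    ∃ (s : Fin n → M) (r : A), (∀ p ∈ P, r ∉ p.asIdeal) ∧ IsBasisAway s r := by
  obtain ⟨b⟩ := nonempty_basis_localizedModule P M n hP
  let B := Localization (compl P)
  let g := LocalizedModule.mkLinearMap (compl P) M
  choose x hx using fun j => IsLocalizedModule.surj (compl P) g (b j)
  let s : Fin n → M := fun j => (x j).1
  let f : (Fin n →₀ A) →ₗ[A] (Fin n →₀ B) := Finsupp.mapRange.linearMap (Algebra.linearMap A B)
  have hu : ∀ j, IsUnit (algebraMap A B ((x j).2 : A)) := fun j =>
    IsLocalization.map_units B (x j).2
  let b' : Basis (Fin n) B (LocalizedModule (compl P) M) := b.isUnitSMul hu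
  have hb' : (g ∘ s) = b' := by
    funext j
    rw [Basis.isUnitSMul_apply, Function.comp_apply, ← hx j, algebraMap_smul]
    rfl
  have hbij : Function.Bijective (IsLocalizedModule.map (compl P) f g
      (Finsupp.linearCombination A s)) := by
    rw [IsLocalizedModule.map_linearCombination, hb']
    have : ⇑(Finsupp.linearCombination B ⇑b') = ⇑b'.repr.symm := by
      funext v
      rw [Basis.repr_symm_apply]
    rw [LinearMap.coe_restrictScalars, this]
    exact b'.repr.symm.bijective
  obtain ⟨r, hr, h⟩ := exists_bijective_map_powers (compl P) f g (Finsupp.linearCombination A s) hbij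
  exact ⟨s, r, (mem_compl P).mp hr, isBasisAway_of_bijective s r (h r dvd_rfl)⟩

end Exists

section AtPrime

variable {A : Type*} [CommRing A] {M : Type*} [AddCommGroup M] [Module A M] {n : ℕ}

/-- A basis away from `r` gives a basis of any localization of `M` at a prime not
containing `r`. -/
theorem IsBasisAway.linearIndependent_and_span {s : Fin n → M} {r : A} (h : IsBasisAway s r)
    (q : Ideal A) [q.IsPrime] (hr : r ∉ q)
    {R' : Type*} [CommRing R'] [Algebra A R'] [IsLocalization.AtPrime R' q]
    {M' : Type*} [AddCommGroup M'] [Module A M'] [Module R' M'] [IsScalarTower A R' M']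
    (g : M →ₗ[A] M') [IsLocalizedModule q.primeCompl g] :
    LinearIndependent R' (fun j => g (s j)) ∧
      Submodule.span R' (Set.range fun j => g (s j)) = ⊤ := by
  constructor
  · rw [Fintype.linearIndependent_iff]
    intro a ha j
    obtain ⟨u, hu⟩ := IsLocalization.exist_integer_multiples_of_finite q.primeCompl a
    choose c hc using hu
    have huu : IsUnit (algebraMap A R' (u : A)) := IsLocalization.map_units R' u
    have h1 : g (∑ i, c i • s i) = 0 := by
      rw [map_sum]
      have : ∀ i, g (c i • s i) = (u : A) • (a i • g (s i)) := by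
        intro i
        rw [map_smul, ← algebraMap_smul R' (c i), hc i, smul_assoc]
      simp_rw [this]
      rw [← Finset.smul_sum, ha, smul_zero]
    obtain ⟨v, hv⟩ := (IsLocalizedModule.eq_zero_iff q.primeCompl g).mp h1
    have h2 : ∑ i, ((v : A) * c i) • s i = 0 := by
      rw [← hv, Submonoid.smul_def, Finset.smul_sum]
      exact Finset.sum_congr rfl fun i _ => mul_smul _ _ _
    obtain ⟨k, hk⟩ := h.indep _ h2
    have h3 : algebraMap A R' (c j) = 0 := by
      rw [IsLocalization.map_eq_zero_iff q.primeCompl]
      have hmem : r ^ k * (v : A) ∈ q.primeCompl :=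
        q.primeCompl.mul_mem (q.primeCompl.pow_mem (show r ∈ q.primeCompl from hr) k) v.2
      exact ⟨⟨_, hmem⟩, by rw [mul_assoc]; exact hk j⟩
    rw [hc j, Algebra.smul_def] at h3
    exact (huu.mul_right_eq_zero).mp h3
  · rw [eq_top_iff]
    intro y _
    obtain ⟨⟨m, u⟩, hmu⟩ := IsLocalizedModule.surj q.primeCompl g y
    obtain ⟨k, c, hc⟩ := h.span m
    have hmem : r ^ k * (u : A) ∈ q.primeCompl :=
      q.primeCompl.mul_mem (q.primeCompl.pow_mem (show r ∈ q.primeCompl from hr) k) u.2
    have huu : IsUnit (algebraMap A R' (r ^ k * (u : A))) :=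
      IsLocalization.map_units R' (⟨_, hmem⟩ : q.primeCompl)
    have h1 : algebraMap A R' (r ^ k * (u : A)) • y ∈
        Submodule.span R' (Set.range fun j => g (s j)) := by
      rw [algebraMap_smul, mul_smul]
      change r ^ k • (u • y) ∈ _
      rw [hmu, ← map_smul, hc, map_sum]
      refine Submodule.sum_mem _ fun i _ => ?_
      rw [map_smul, ← algebraMap_smul R' (c i)]
      exact Submodule.smul_mem _ _ (Submodule.subset_span ⟨i, rfl⟩)
    have := Submodule.smul_mem _ (huu.unit⁻¹ : R'ˣ).1 h1
    rwa [smul_smul, IsUnit.val_inv_mul, one_smul] at this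

end AtPrime

section RankAway

variable {A : Type*} [CommRing A] (M : Type*) [AddCommGroup M] [Module A M] [Module.Finite A M]
  [Module.Flat A M]

/-- If `M_g` has a basis of size `n` and `g ∉ p`, then `M` has rank `n` at `p`. -/
theorem rankAtStalk_eq_of_basis_away (p : PrimeSpectrum A) {g : A} (hg : g ∉ p.asIdeal) {n : ℕ}
    (b : Basis (Fin n) (Localization.Away g) (LocalizedModule (Submonoid.powers g) M)) :
    rankAtStalk M p = n := by
  have hd : Disjoint (Submonoid.powers g : Set A) p.asIdeal :=
    (Ideal.disjoint_powers_iff_notMem g p.isPrime.isRadical).mpr hg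
  let p' : PrimeSpectrum (Localization.Away g) :=
    ⟨p.asIdeal.map (algebraMap A (Localization.Away g)),
      IsLocalization.isPrime_of_isPrime_disjoint (Submonoid.powers g) _ _ p.isPrime hd⟩
  have hp' : PrimeSpectrum.comap (algebraMap A (Localization.Away g)) p' = p := by
    ext1
    exact IsLocalization.under_map_of_isPrime_disjoint (Submonoid.powers g) _ p.isPrime hd
  have hbc : IsBaseChange (Localization.Away g)
      (LocalizedModule.mkLinearMap (Submonoid.powers g) M) :=
    IsLocalizedModule.isBaseChange (Submonoid.powers g) (Localization.Away g) _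
  have h1 := rankAtStalk_isBaseChange hbc p'
  rw [hp'] at h1
  rw [← h1]
  have : Module.Free (Localization.Away g) (LocalizedModule (Submonoid.powers g) M) :=
    Module.Free.of_basis b
  rw [rankAtStalk_eq_finrank_of_free]
  have : Nontrivial (Localization.Away g) := PrimeSpectrum.nonempty_iff_nontrivial.mp ⟨p'⟩
  have := Module.finrank_eq_card_basis b
  simpa using this

end RankAway

end Groth.Agent.Lib.SemilocalBasis
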