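import Groth.Prelude.Def_HTop2
import Mathlib.RingTheory.Localization.Away.Basic
import Mathlib.RingTheory.LocalProperties.Reduced
import Mathlib.Algebra.CharP.Lemmas

/-!
Seminormal and absolutely weakly normal rings (in the sense of `HTop.IsSeminormalRing`,
`HTop.IsAWNRing`): reducedness, uniqueness, localization, and locality on a finite cover.
-/

set_option autoImplicit false
universe u

namespace Groth.Agent.Lib.Seminormal

open HTop

variable {A : Type u} [CommRing A]

lemma eq_of_sq_cube [IsReduced A] {a b : A} (h2 : a ^ 2 = b ^ 2) (h3 : a ^ 3 = b ^ 3) : a = b := by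
  have h : (a - b) ^ 3 = 0 := by
    linear_combination 4 * h3 - 3 * b * h2 - 3 * a * h2
  exact sub_eq_zero.mp (IsReduced.eq_zero _ ⟨3, h⟩)

lemma eq_of_pow_prime [IsReduced A] {p : ℕ} (hp : p.Prime) {a b : A} (h1 : a ^ p = b ^ p)
    (h2 : (p : A) * a = (p : A) * b) : a = b := by
  have hd : (p : A) * (a - b) = 0 := by rw [mul_sub, h2, sub_self]
  have h : (a - b) ^ p = 0 := by
    have := add_pow_prime_eq hp b (a - b)
    rw [add_sub_cancel, h1] at this
    have h0 : (p : A) * b * (a - b) = 0 := by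
      rw [mul_assoc, mul_comm b, ← mul_assoc, hd, zero_mul]
    rw [h0, zero_mul, add_zero] at this
    exact (add_eq_left.mp this.symm)
  exact sub_eq_zero.mp (IsReduced.eq_zero _ ⟨p, h⟩)

lemma isReduced_of_isSeminormalRing (h : IsSeminormalRing A) : IsReduced A := by
  rw [isReduced_iff_pow_one_lt 2 (by norm_num)]
  intro n hn
  obtain ⟨a, _, huniq⟩ := h 0 0 (by simp)
  have h0 : (0 : A) = a := huniq 0 (by simp)
  have h1 : n = a := huniq n ⟨by rw [hn], by rw [pow_succ, hn, zero_mul]⟩
  rw [h1, ← h0]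

/-- In a reduced ring, seminormality only needs existence. -/
lemma isSeminormalRing_of_exists [IsReduced A]
    (h : ∀ x y : A, x ^ 3 = y ^ 2 → ∃ a : A, x = a ^ 2 ∧ y = a ^ 3) : IsSeminormalRing A := by
  intro x y hxy
  obtain ⟨a, ha2, ha3⟩ := h x y hxy
  refine ⟨a, ⟨ha2, ha3⟩, ?_⟩
  rintro b ⟨hb2, hb3⟩
  exact eq_of_sq_cube (hb2.symm.trans ha2) (hb3.symm.trans ha3)

/-- In a reduced ring, the second condition of absolute weak normality only needs existence. -/
lemma existsUnique_of_exists_prime [IsReduced A] {p : ℕ} (hp : p.Prime) {x y : A}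
    (h : ∃ a : A, x = a ^ p ∧ y = (p : A) * a) : ∃! a : A, x = a ^ p ∧ y = (p : A) * a := by
  obtain ⟨a, ha1, ha2⟩ := h
  refine ⟨a, ⟨ha1, ha2⟩, ?_⟩
  rintro b ⟨hb1, hb2⟩
  exact eq_of_pow_prime hp (hb1.symm.trans ha1) (hb2.symm.trans ha2)

section Equiv

variable {B : Type u} [CommRing B]

lemma isSeminormalRing_of_ringEquiv (e : A ≃+* B) (h : IsSeminormalRing A) : IsSeminormalRing B := by
  intro x y hxy
  obtain ⟨a, ⟨ha2, ha3⟩, huniq⟩ := h (e.symm x) (e.symm y) (by rw [← map_pow, ← map_pow, hxy])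
  refine ⟨e a, ⟨?_, ?_⟩, ?_⟩
  · rw [← map_pow, ← ha2, e.apply_symm_apply]
  · rw [← map_pow, ← ha3, e.apply_symm_apply]
  · rintro b ⟨hb2, hb3⟩
    rw [← huniq (e.symm b) ⟨by rw [hb2, map_pow], by rw [hb3, map_pow]⟩, e.apply_symm_apply]

lemma isAWNRing_of_ringEquiv (e : A ≃+* B) (h : IsAWNRing A) : IsAWNRing B := by
  refine ⟨isSeminormalRing_of_ringEquiv e h.1, ?_⟩
  intro p hp x y hxy
  obtain ⟨a, ⟨ha1, ha2⟩, huniq⟩ := h.2 p hp (e.symm x) (e.symm y)
    (by rw [← map_natCast e.symm, ← map_pow, ← map_mul, hxy, map_pow])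
  refine ⟨e a, ⟨?_, ?_⟩, ?_⟩
  · rw [← map_pow, ← ha1, e.apply_symm_apply]
  · rw [← map_natCast e, ← map_mul, ← ha2, e.apply_symm_apply]
  · rintro b ⟨hb1, hb2⟩
    rw [← huniq (e.symm b) ⟨by rw [hb1, map_pow], by rw [hb2, map_mul, map_natCast]⟩,
      e.apply_symm_apply]

end Equiv

section Localization

variable (M : Submonoid A) (S : Type u) [CommRing S] [Algebra A S] [IsLocalization M S]

include M in
lemma isSeminormalRing_of_isLocalization (h : IsSeminormalRing A) : IsSeminormalRing S := by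
  have hA : IsReduced A := isReduced_of_isSeminormalRing h
  have hS : IsReduced S := isReduced_localizationPreserves M S hA
  apply isSeminormalRing_of_exists
  intro x y hxy
  obtain ⟨x₀, y₀, d, hx, hy⟩ := IsLocalization.surj₂ M S x y
  have hX : algebraMap A S (x₀ * d) = x * (algebraMap A S d) ^ 2 := by
    rw [map_mul, ← hx]; ring
  have hY : algebraMap A S (y₀ * d ^ 2) = y * (algebraMap A S d) ^ 3 := by
    rw [map_mul, map_pow, ← hy]; ring
  have heq : algebraMap A S ((x₀ * d) ^ 3) = algebraMap A S ((y₀ * d ^ 2) ^ 2) := by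
    rw [map_pow, map_pow, hX, hY, mul_pow, mul_pow, hxy]; ring
  obtain ⟨u, hu⟩ := IsLocalization.exists_of_eq (M := M) heq
  have hrel : ((u : A) ^ 2 * (x₀ * d)) ^ 3 = ((u : A) ^ 3 * (y₀ * d ^ 2)) ^ 2 := by
    linear_combination (u : A) ^ 5 * hu
  obtain ⟨a₀, ⟨ha2, ha3⟩, -⟩ := h _ _ hrel
  have hτu : IsUnit (algebraMap A S u * algebraMap A S d) :=
    (IsLocalization.map_units S u).mul (IsLocalization.map_units S d)
  obtain ⟨τ, hτ⟩ := hτu
  refine ⟨algebraMap A S a₀ * (τ⁻¹ : Sˣ), ?_, ?_⟩
  · have h1 : x * (τ : S) ^ 2 = (algebraMap A S a₀) ^ 2 := by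
      have e := congrArg (algebraMap A S) ha2
      rw [map_mul, map_pow, hX, map_pow] at e
      rw [← e, hτ]; ring
    rw [mul_pow, ← h1, mul_assoc, ← mul_pow, Units.mul_inv, one_pow, mul_one]
  · have h1 : y * (τ : S) ^ 3 = (algebraMap A S a₀) ^ 3 := by
      have e := congrArg (algebraMap A S) ha3
      rw [map_mul, map_pow, hY, map_pow] at e
      rw [← e, hτ]; ring
    rw [mul_pow, ← h1, mul_assoc, ← mul_pow, Units.mul_inv, one_pow, mul_one]

include M in
lemma isAWNRing_of_isLocalization (h : IsAWNRing A) : IsAWNRing S := by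
  have hA : IsReduced A := isReduced_of_isSeminormalRing h.1
  have hS : IsReduced S := isReduced_localizationPreserves M S hA
  refine ⟨isSeminormalRing_of_isLocalization M S h.1, ?_⟩
  intro p hp x y hxy
  apply existsUnique_of_exists_prime hp
  obtain ⟨x₀, y₀, d, hx, hy⟩ := IsLocalization.surj₂ M S x y
  obtain ⟨q, rfl⟩ : ∃ q, p = q + 1 := ⟨p - 1, (Nat.succ_pred_eq_of_pos hp.pos).symm⟩
  have hX : algebraMap A S (x₀ * d ^ q) = x * (algebraMap A S d) ^ (q + 1) := by
    rw [map_mul, map_pow, ← hx]; ring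
  have heq : algebraMap A S (((q + 1 : ℕ) : A) ^ (q + 1) * (x₀ * d ^ q)) =
      algebraMap A S (y₀ ^ (q + 1)) := by
    rw [map_mul, map_pow, map_pow, map_natCast, hX, ← hy, mul_pow, ← mul_assoc, hxy]
  obtain ⟨u, hu⟩ := IsLocalization.exists_of_eq (M := M) heq
  have hrel : ((q + 1 : ℕ) : A) ^ (q + 1) * ((u : A) ^ (q + 1) * (x₀ * d ^ q)) =
      ((u : A) * y₀) ^ (q + 1) := by
    rw [mul_pow, pow_succ (u : A) q]
    linear_combination (u : A) ^ q * hu
  obtain ⟨a₀, ⟨ha1, ha2⟩, -⟩ := h.2 (q + 1) hp _ _ hrel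
  have hτu : IsUnit (algebraMap A S u * algebraMap A S d) :=
    (IsLocalization.map_units S u).mul (IsLocalization.map_units S d)
  obtain ⟨τ, hτ⟩ := hτu
  refine ⟨algebraMap A S a₀ * (τ⁻¹ : Sˣ), ?_, ?_⟩
  · have h1 : x * (τ : S) ^ (q + 1) = (algebraMap A S a₀) ^ (q + 1) := by
      have e := congrArg (algebraMap A S) ha1
      rw [map_mul, map_pow, hX, map_pow] at e
      rw [← e, hτ]; ring
    rw [mul_pow, ← h1, mul_assoc, ← mul_pow, Units.mul_inv, one_pow, mul_one]
  · have h1 : y * (τ : S) = ((q + 1 : ℕ) : S) * algebraMap A S a₀ := by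
      have e := congrArg (algebraMap A S) ha2
      rw [map_mul, map_mul, map_natCast, ← hy] at e
      rw [← e, hτ]; ring
    rw [← mul_assoc, ← h1, mul_assoc, Units.mul_inv, mul_one]

end Localization

section Span

open IsLocalization in
lemma eq_of_forall_algebraMap_eq (s : Finset A) (hs : Ideal.span (s : Set A) = ⊤) {x y : A}
    (h : ∀ f ∈ s, algebraMap A (Localization.Away f) x = algebraMap A (Localization.Away f) y) :
    x = y := by
  apply Localization.algebraMap_injective_of_span_eq_top (s : Set A) hs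
  funext a
  exact h a.1 a.2

lemma isReduced_of_span (s : Finset A) (hs : Ideal.span (s : Set A) = ⊤)
    (hred : ∀ f ∈ s, IsReduced (Localization.Away f)) : IsReduced A := by
  rw [isReduced_iff_pow_one_lt 2 (by norm_num)]
  intro n hn
  apply eq_of_forall_algebraMap_eq s hs
  intro f hf
  rw [map_zero]
  have := hred f hf
  exact IsReduced.eq_zero _ ⟨2, by rw [← map_pow, hn, map_zero]⟩

lemma isSeminormalRing_of_span (s : Finset A) (hs : Ideal.span (s : Set A) = ⊤)
    (h : ∀ f ∈ s, IsSeminormalRing (Localization.Away f)) : IsSeminormalRing A := by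
  have hA : IsReduced A :=
    isReduced_of_span s hs (fun f hf => isReduced_of_isSeminormalRing (h f hf))
  apply isSeminormalRing_of_exists
  intro x y hxy
  have hex : ∀ f : (s : Set A), ∃ a : Localization.Away f.1,
      algebraMap A _ x = a ^ 2 ∧ algebraMap A _ y = a ^ 3 := by
    intro f
    obtain ⟨a, ha, -⟩ := h f.1 f.2 (algebraMap A _ x) (algebraMap A _ y)
      (by rw [← map_pow, ← map_pow, hxy])
    exact ⟨a, ha⟩
  choose a ha2 ha3 using hex
  have hcompat : ∀ f g : (s : Set A),
      IsLocalization.Away.awayToAwayRight (P := Localization.Away (f * g : A)) f.1 g (a f) =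
        IsLocalization.Away.awayToAwayLeft g.1 f (a g) := by
    intro f g
    have : IsReduced (Localization.Away (f * g : A)) :=
      isReduced_localizationPreserves (Submonoid.powers (f * g : A)) _ hA
    apply eq_of_sq_cube
    · rw [← map_pow, ← map_pow, ← ha2, ← ha2, IsLocalization.Away.awayToAwayRight_eq,
        IsLocalization.Away.awayToAwayLeft_eq]
    · rw [← map_pow, ← map_pow, ← ha3, ← ha3, IsLocalization.Away.awayToAwayRight_eq,
        IsLocalization.Away.awayToAwayLeft_eq]
  obtain ⟨r, hr, -⟩ := Localization.existsUnique_algebraMap_eq_of_span_eq_top (s : Set A) hs a hcompat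
  refine ⟨r, ?_, ?_⟩
  · apply eq_of_forall_algebraMap_eq s hs
    intro f hf
    rw [map_pow, hr ⟨f, hf⟩, ← ha2]
  · apply eq_of_forall_algebraMap_eq s hs
    intro f hf
    rw [map_pow, hr ⟨f, hf⟩, ← ha3]

lemma isAWNRing_of_span (s : Finset A) (hs : Ideal.span (s : Set A) = ⊤)
    (h : ∀ f ∈ s, IsAWNRing (Localization.Away f)) : IsAWNRing A := by
  have hsn : IsSeminormalRing A := isSeminormalRing_of_span s hs (fun f hf => (h f hf).1)
  have hA : IsReduced A := isReduced_of_isSeminormalRing hsn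
  refine ⟨hsn, ?_⟩
  intro p hp x y hxy
  apply existsUnique_of_exists_prime hp
  have hex : ∀ f : (s : Set A), ∃ a : Localization.Away f.1,
      algebraMap A _ x = a ^ p ∧ algebraMap A _ y = (p : Localization.Away f.1) * a := by
    intro f
    obtain ⟨a, ha, -⟩ := (h f.1 f.2).2 p hp (algebraMap A _ x) (algebraMap A _ y)
      (by rw [← map_natCast (algebraMap A (Localization.Away f.1)), ← map_pow, ← map_mul, hxy,
        map_pow])
    exact ⟨a, ha⟩
  choose a ha1 ha2 using hex
  have hcompat : ∀ f g : (s : Set A),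
      IsLocalization.Away.awayToAwayRight (P := Localization.Away (f * g : A)) f.1 g (a f) =
        IsLocalization.Away.awayToAwayLeft g.1 f (a g) := by
    intro f g
    have : IsReduced (Localization.Away (f * g : A)) :=
      isReduced_localizationPreserves (Submonoid.powers (f * g : A)) _ hA
    apply eq_of_pow_prime hp
    · rw [← map_pow, ← map_pow, ← ha1, ← ha1, IsLocalization.Away.awayToAwayRight_eq,
        IsLocalization.Away.awayToAwayLeft_eq]
    · have e1 := congrArg (IsLocalization.Away.awayToAwayRight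
        (P := Localization.Away (f * g : A)) f.1 g) (ha2 f)
      have e2 := congrArg (IsLocalization.Away.awayToAwayLeft
        (P := Localization.Away (f * g : A)) g.1 f) (ha2 g)
      rw [IsLocalization.Away.awayToAwayRight_eq, map_mul, map_natCast] at e1
      rw [IsLocalization.Away.awayToAwayLeft_eq, map_mul, map_natCast] at e2
      rw [← e1, ← e2]
  obtain ⟨r, hr, -⟩ := Localization.existsUnique_algebraMap_eq_of_span_eq_top (s : Set A) hs a hcompat
  refine ⟨r, ?_, ?_⟩
  · apply eq_of_forall_algebraMap_eq s hs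
    intro f hf
    rw [map_pow, hr ⟨f, hf⟩, ← ha1]
  · apply eq_of_forall_algebraMap_eq s hs
    intro f hf
    rw [map_mul, map_natCast, hr ⟨f, hf⟩]
    exact ha2 ⟨f, hf⟩

end Span

end Groth.Agent.Lib.Seminormal
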