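import Mathlib

/-!
# Dimension of the space of intertwiners of two semisimple endomorphisms

For semisimple endomorphisms `π₁`, `π₂` of finite-dimensional `K`-vector spaces,
`dim Hom_{K[t]}(V₁, V₂) = Σ_P mult_P(f₁) mult_P(f₂) deg P` (`finrank_ker_comT`).
Proof: split off a simple invariant subspace in each variable; Schur-type lemma for the
simple-simple case.
-/

set_option autoImplicit false
open Polynomial Module UniqueFactorizationMonoid

namespace Groth.Agent.Lib.SemisimpleHom


universe u v w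
variable {K : Type u} [Field K]

section Nullity

variable {M M' : Type*} [AddCommGroup M] [Module K M] [AddCommGroup M'] [Module K M']

/-- Nullity is invariant under conjugation by a linear equivalence. -/
lemma finrank_ker_eq_of_comm (Φ : M ≃ₗ[K] M') (T : M →ₗ[K] M) (T' : M' →ₗ[K] M')
    (h : ∀ x, Φ (T x) = T' (Φ x)) :
    finrank K (LinearMap.ker T) = finrank K (LinearMap.ker T') := by
  have : LinearMap.ker T' = (LinearMap.ker T).map (Φ : M →ₗ[K] M') := by
    ext y
    simp only [LinearMap.mem_ker, Submodule.mem_map]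
    constructor
    · intro hy
      refine ⟨Φ.symm y, ?_, by simp⟩
      apply Φ.injective
      rw [h]; simp [hy]
    · rintro ⟨x, hx, rfl⟩
      have := h x
      rw [hx, map_zero] at this
      exact this.symm
  rw [this]
  exact (LinearEquiv.finrank_map_eq Φ _).symm

variable {A B : Type*} [AddCommGroup A] [Module K A] [AddCommGroup B] [Module K B]

/-- The product of two submodules is the product of the submodules. -/
def prodSubEquiv (p : Submodule K A) (q : Submodule K B) : (p.prod q) ≃ₗ[K] p × q where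
  toFun x := (⟨x.1.1, x.2.1⟩, ⟨x.1.2, x.2.2⟩)
  invFun y := ⟨(y.1.1, y.2.1), ⟨y.1.2, y.2.2⟩⟩
  map_add' _ _ := rfl
  map_smul' _ _ := rfl
  left_inv _ := rfl
  right_inv _ := rfl

lemma finrank_ker_prodMap [FiniteDimensional K A] [FiniteDimensional K B]
    (T₁ : A →ₗ[K] A) (T₂ : B →ₗ[K] B) :
    finrank K (LinearMap.ker (T₁.prodMap T₂)) =
      finrank K (LinearMap.ker T₁) + finrank K (LinearMap.ker T₂) := by
  rw [LinearMap.ker_prodMap, (prodSubEquiv _ _).finrank_eq, Module.finrank_prod]

end Nullity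

section ComT

variable {V₁ : Type*} {V₂ : Type*} [AddCommGroup V₁] [Module K V₁] [AddCommGroup V₂] [Module K V₂]

/-- The operator `h ↦ h ∘ π₁ - π₂ ∘ h`. -/
noncomputable def comT (π₁ : Module.End K V₁) (π₂ : Module.End K V₂) :
    (V₁ →ₗ[K] V₂) →ₗ[K] (V₁ →ₗ[K] V₂) :=
  LinearMap.lcomp K V₂ π₁ - LinearMap.llcomp K V₁ V₂ V₂ π₂

@[simp] lemma comT_apply (π₁ : Module.End K V₁) (π₂ : Module.End K V₂) (h : V₁ →ₗ[K] V₂) :
    comT π₁ π₂ h = h ∘ₗ π₁ - π₂ ∘ₗ h := rfl

lemma mem_ker_comT {π₁ : Module.End K V₁} {π₂ : Module.End K V₂} {h : V₁ →ₗ[K] V₂} :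
    h ∈ LinearMap.ker (comT π₁ π₂) ↔ ∀ x, h (π₁ x) = π₂ (h x) := by
  rw [LinearMap.mem_ker, comT_apply, sub_eq_zero]
  constructor
  · intro hh x; exact LinearMap.congr_fun hh x
  · intro hh; ext x; exact hh x

/-- The dimension of the space of intertwiners. -/
noncomputable def d (π₁ : Module.End K V₁) (π₂ : Module.End K V₂) : ℕ :=
  finrank K (LinearMap.ker (comT π₁ π₂))

variable [FiniteDimensional K V₁] [FiniteDimensional K V₂]

lemma d_split_left (π₁ : Module.End K V₁) (π₂ : Module.End K V₂) {U W : Submodule K V₁}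
    (hU : U ∈ π₁.invtSubmodule) (hW : W ∈ π₁.invtSubmodule) (hUW : IsCompl U W) :
    d π₁ π₂ = d (π₁.restrict hU) π₂ + d (π₁.restrict hW) π₂ := by
  unfold d
  rw [← finrank_ker_prodMap]
  apply finrank_ker_eq_of_comm (LinearMap.ofIsComplProdEquiv hUW).symm
  intro h
  refine Prod.ext ?_ ?_
  · ext x
    simp [LinearMap.ofIsComplProdEquiv, LinearMap.coe_restrict_apply]
  · ext x
    simp [LinearMap.ofIsComplProdEquiv, LinearMap.coe_restrict_apply]

lemma d_split_right (π₁ : Module.End K V₁) (π₂ : Module.End K V₂) {U W : Submodule K V₂}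
    (hU : U ∈ π₂.invtSubmodule) (hW : W ∈ π₂.invtSubmodule) (hUW : IsCompl U W) :
    d π₁ π₂ = d π₁ (π₂.restrict hU) + d π₁ (π₂.restrict hW) := by
  unfold d
  rw [← finrank_ker_prodMap]
  symm
  let Ψ : ((V₁ →ₗ[K] U) × (V₁ →ₗ[K] W)) ≃ₗ[K] (V₁ →ₗ[K] V₂) :=
    (LinearMap.prodEquiv K).trans (LinearEquiv.congrRight (Submodule.prodEquivOfIsCompl U W hUW))
  have hΨ : ∀ (a : V₁ →ₗ[K] U) (b : V₁ →ₗ[K] W) (x : V₁), Ψ (a, b) x = (a x : V₂) + (b x : V₂) := by
    intro a b x
    simp [Ψ, LinearEquiv.congrRight, LinearEquiv.arrowCongr_apply]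
  apply finrank_ker_eq_of_comm Ψ
  rintro ⟨a, b⟩
  ext x
  rw [LinearMap.prodMap_apply, hΨ, comT_apply, comT_apply, comT_apply]
  simp only [LinearMap.sub_apply, LinearMap.comp_apply, hΨ, map_add, Submodule.coe_sub,
    LinearMap.coe_restrict_apply]
  abel

lemma charpoly_eq_mul_of_isCompl {V : Type*} [AddCommGroup V] [Module K V] [FiniteDimensional K V]
    (π : Module.End K V) {U W : Submodule K V}
    (hU : U ∈ π.invtSubmodule) (hW : W ∈ π.invtSubmodule) (hUW : IsCompl U W) :
    π.charpoly = (π.restrict hU).charpoly * (π.restrict hW).charpoly := by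
  let e := Submodule.prodEquivOfIsCompl U W hUW
  have hψ : (π.restrict hU).prodMap (π.restrict hW) = e.symm.conj π := by
    apply LinearMap.ext
    rintro ⟨a, b⟩
    rw [LinearEquiv.conj_apply_apply, LinearEquiv.symm_symm, LinearEquiv.eq_symm_apply]
    simp [e, Submodule.coe_prodEquivOfIsCompl', LinearMap.coe_restrict_apply]
  rw [← e.symm.charpoly_conj π, ← hψ, LinearMap.charpoly_prodMap]

end ComT




section RR
variable [DecidableEq K] [DecidableEq K[X]]

/-- The right-hand side `Σ_P mult_P(f) mult_P(g) deg P`, written as a multiset sum. -/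
noncomputable def rr (f g : K[X]) : ℕ :=
  ((normalizedFactors f).map fun P => (normalizedFactors g).count P * P.natDegree).sum

lemma rr_eq_sum (f g : K[X]) :
    ∑ P ∈ (normalizedFactors f).toFinset,
      (normalizedFactors f).count P * (normalizedFactors g).count P * P.natDegree = rr f g := by
  unfold rr
  rw [Finset.sum_multiset_map_count]
  refine Finset.sum_congr rfl fun P _ => ?_
  rw [smul_eq_mul, mul_assoc]

lemma rr_mul_left {f₁ f₂ : K[X]} (h₁ : f₁ ≠ 0) (h₂ : f₂ ≠ 0) (g : K[X]) :
    rr (f₁ * f₂) g = rr f₁ g + rr f₂ g := by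
  unfold rr
  rw [normalizedFactors_mul h₁ h₂, Multiset.map_add, Multiset.sum_add]

lemma rr_mul_right (f : K[X]) {g₁ g₂ : K[X]} (h₁ : g₁ ≠ 0) (h₂ : g₂ ≠ 0) :
    rr f (g₁ * g₂) = rr f g₁ + rr f g₂ := by
  unfold rr
  rw [normalizedFactors_mul h₁ h₂, ← Multiset.sum_map_add]
  congr 1
  refine Multiset.map_congr rfl fun P _ => ?_
  rw [Multiset.count_add, add_mul]

@[simp] lemma rr_one_left (g : K[X]) : rr 1 g = 0 := by
  simp [rr]

@[simp] lemma rr_one_right (f : K[X]) : rr f 1 = 0 := by
  simp [rr]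

lemma rr_irreducible {P Q : K[X]} (hP : Irreducible P) (hPm : P.Monic) (hQ : Irreducible Q)
    (hQm : Q.Monic) : rr P Q = if P = Q then P.natDegree else 0 := by
  unfold rr
  rw [normalizedFactors_irreducible hP, normalizedFactors_irreducible hQ,
    hPm.normalize_eq_self, hQm.normalize_eq_self]
  simp only [Multiset.map_singleton, Multiset.sum_singleton, Multiset.count_singleton]
  split_ifs <;> simp



end RR



section Simple

variable {U : Type*} [AddCommGroup U] [Module K U]

/-- An endomorphism without nontrivial invariant subspaces (on a nonzero space). -/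
structure IsSimpleEnd (σ : Module.End K U) : Prop where
  nontrivial : Nontrivial U
  eq_bot_or_eq_top : ∀ p ∈ σ.invtSubmodule, p = ⊥ ∨ p = ⊤

variable {σ : Module.End K U}

lemma aeval_apply_comm (σ : Module.End K U) (g : K[X]) (x : U) :
    (aeval σ g) (σ x) = σ ((aeval σ g) x) := by
  have h1 : aeval σ (g * X) = aeval σ (X * g) := by rw [mul_comm]
  rw [map_mul, map_mul, aeval_X] at h1
  exact LinearMap.congr_fun h1 x

lemma IsSimpleEnd.aeval_eq_zero_or_injective (hs : IsSimpleEnd σ) (g : K[X]) :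
    aeval σ g = 0 ∨ Function.Injective (aeval σ g) := by
  have hinv : LinearMap.ker (aeval σ g) ∈ σ.invtSubmodule := by
    rw [Module.End.mem_invtSubmodule]
    intro x hx
    rw [Submodule.mem_comap, LinearMap.mem_ker, aeval_apply_comm, LinearMap.mem_ker.mp hx, map_zero]
  rcases hs.eq_bot_or_eq_top _ hinv with h | h
  · right; exact LinearMap.ker_eq_bot.mp h
  · left; exact LinearMap.ker_eq_top.mp h

variable [FiniteDimensional K U]

lemma IsSimpleEnd.minpoly_irreducible (hs : IsSimpleEnd σ) : Irreducible (minpoly K σ) := by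
  have := hs.nontrivial
  have hint : IsIntegral K σ := LinearMap.isIntegral σ
  have hm0 : minpoly K σ ≠ 0 := minpoly.ne_zero hint
  rw [irreducible_iff]
  refine ⟨minpoly.not_isUnit K σ, fun a b hab => ?_⟩
  have h0 : aeval σ a * aeval σ b = 0 := by rw [← map_mul, ← hab, minpoly.aeval]
  have h0' : aeval σ b * aeval σ a = 0 := by rw [← map_mul, mul_comm, ← hab, minpoly.aeval]
  have key : ∀ a b : K[X], minpoly K σ = a * b → aeval σ a = 0 → IsUnit b := by
    intro a b hab ha
    obtain ⟨c, hc⟩ := minpoly.dvd K σ ha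
    have h1 : minpoly K σ * 1 = minpoly K σ * (c * b) := by
      rw [mul_one, ← mul_assoc, ← hc, ← hab]
    have h2 := mul_left_cancel₀ hm0 h1
    exact IsUnit.of_mul_eq_one c (by rw [mul_comm]; exact h2.symm)
  rcases hs.aeval_eq_zero_or_injective a with ha | ha
  · right; exact key a b hab ha
  · left
    have hb : aeval σ b = 0 := by
      apply LinearMap.ext; intro x; apply ha
      have := LinearMap.congr_fun h0 x
      simpa using this
    exact key b a (by rw [mul_comm]; exact hab) hb

omit [FiniteDimensional K U] in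
lemma IsSimpleEnd.aeval_apply_eq_zero_iff (hs : IsSimpleEnd σ) {v : U} (hv : v ≠ 0) (g : K[X]) :
    (aeval σ g) v = 0 ↔ minpoly K σ ∣ g := by
  constructor
  · intro h
    rcases hs.aeval_eq_zero_or_injective g with hg | hg
    · exact minpoly.dvd K σ hg
    · exact absurd (hg (h.trans (map_zero _).symm)) hv
  · rintro ⟨c, rfl⟩
    rw [map_mul, minpoly.aeval, zero_mul, LinearMap.zero_apply]

/-- The orbit map `g ↦ g(σ) v`. -/
noncomputable def orbitMap (σ : Module.End K U) (v : U) : K[X] →ₗ[K] U :=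
  (LinearMap.applyₗ v) ∘ₗ (aeval σ).toLinearMap

omit [FiniteDimensional K U] in
@[simp] lemma orbitMap_apply (σ : Module.End K U) (v : U) (g : K[X]) :
    orbitMap σ v g = (aeval σ g) v := rfl

omit [FiniteDimensional K U] in
lemma orbitMap_X_mul (σ : Module.End K U) (v : U) (g : K[X]) :
    orbitMap σ v (X * g) = σ (orbitMap σ v g) := by
  simp [map_mul, aeval_X]

omit [FiniteDimensional K U] in
lemma IsSimpleEnd.orbitMap_surjective (hs : IsSimpleEnd σ) {v : U} (hv : v ≠ 0) :
    Function.Surjective (orbitMap σ v) := by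
  have hinv : LinearMap.range (orbitMap σ v) ∈ σ.invtSubmodule := by
    rw [Module.End.mem_invtSubmodule]
    rintro _ ⟨g, rfl⟩
    exact ⟨X * g, orbitMap_X_mul σ v g⟩
  rcases hs.eq_bot_or_eq_top _ hinv with h | h
  · exfalso
    have : v ∈ LinearMap.range (orbitMap σ v) := ⟨1, by simp⟩
    rw [h, Submodule.mem_bot] at this
    exact hv this
  · exact LinearMap.range_eq_top.mp h

omit [FiniteDimensional K U] in
lemma IsSimpleEnd.ker_orbitMap (hs : IsSimpleEnd σ) {v : U} (hv : v ≠ 0) :
    LinearMap.ker (orbitMap σ v) = (Ideal.span {minpoly K σ}).restrictScalars K := by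
  ext g
  rw [LinearMap.mem_ker, orbitMap_apply, hs.aeval_apply_eq_zero_iff hv,
    Submodule.restrictScalars_mem, Ideal.mem_span_singleton]

lemma IsSimpleEnd.finrank_eq (hs : IsSimpleEnd σ) : finrank K U = (minpoly K σ).natDegree := by
  have := hs.nontrivial
  obtain ⟨v, hv⟩ := exists_ne (0 : U)
  have e1 := LinearMap.quotKerEquivOfSurjective (orbitMap σ v) (hs.orbitMap_surjective hv)
  have e2 := Submodule.quotEquivOfEq _ _ (hs.ker_orbitMap hv)
  have e3 := Submodule.Quotient.restrictScalarsEquiv K (Ideal.span {minpoly K σ})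
  rw [← e1.finrank_eq, e2.finrank_eq, e3.finrank_eq, finrank_quotient_span_eq_natDegree]

lemma IsSimpleEnd.charpoly_eq_minpoly (hs : IsSimpleEnd σ) : σ.charpoly = minpoly K σ := by
  refine Polynomial.eq_of_monic_of_dvd_of_natDegree_le (minpoly.monic (LinearMap.isIntegral σ))
    (LinearMap.charpoly_monic σ) (LinearMap.minpoly_dvd_charpoly σ) ?_
  rw [LinearMap.charpoly_natDegree, hs.finrank_eq]

lemma IsSimpleEnd.charpoly_irreducible (hs : IsSimpleEnd σ) : Irreducible σ.charpoly := by
  rw [hs.charpoly_eq_minpoly]; exact hs.minpoly_irreducible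

end Simple



section Base

variable {U₁ : Type*} {U₂ : Type*} [AddCommGroup U₁] [Module K U₁] [AddCommGroup U₂] [Module K U₂]

lemma intertwine_pow {V₁ V₂ : Type*} [AddCommGroup V₁] [Module K V₁] [AddCommGroup V₂] [Module K V₂]
    {π₁ : Module.End K V₁} {π₂ : Module.End K V₂} {h : V₁ →ₗ[K] V₂}
    (hh : ∀ x, h (π₁ x) = π₂ (h x)) (n : ℕ) (x : V₁) : h ((π₁ ^ n) x) = (π₂ ^ n) (h x) := by
  induction n generalizing x with
  | zero => simp
  | succ n ih => rw [pow_succ, pow_succ, Module.End.mul_apply, Module.End.mul_apply, ih, hh]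

lemma intertwine_aeval {V₁ V₂ : Type*} [AddCommGroup V₁] [Module K V₁] [AddCommGroup V₂]
    [Module K V₂] {π₁ : Module.End K V₁} {π₂ : Module.End K V₂} {h : V₁ →ₗ[K] V₂}
    (hh : ∀ x, h (π₁ x) = π₂ (h x)) (g : K[X]) (x : V₁) :
    h ((aeval π₁ g) x) = (aeval π₂ g) (h x) := by
  rw [aeval_eq_sum_range, aeval_eq_sum_range]
  simp only [LinearMap.sum_apply, map_sum, LinearMap.smul_apply, map_smul, intertwine_pow hh]

variable [FiniteDimensional K U₁] [FiniteDimensional K U₂] [DecidableEq K[X]]

theorem d_simple_simple {σ₁ : Module.End K U₁} {σ₂ : Module.End K U₂} (h₁ : IsSimpleEnd σ₁)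
    (h₂ : IsSimpleEnd σ₂) :
    d σ₁ σ₂ = if σ₁.charpoly = σ₂.charpoly then σ₁.charpoly.natDegree else 0 := by
  have := h₁.nontrivial
  obtain ⟨v₁, hv₁⟩ := exists_ne (0 : U₁)
  -- any intertwiner vanishing at `v₁` is zero
  have hzero : ∀ h ∈ LinearMap.ker (comT σ₁ σ₂), h v₁ = 0 → h = 0 := by
    intro h hh hv
    rw [mem_ker_comT] at hh
    have hinv : LinearMap.ker h ∈ σ₁.invtSubmodule := by
      rw [Module.End.mem_invtSubmodule]
      intro x hx
      rw [Submodule.mem_comap, LinearMap.mem_ker, hh, LinearMap.mem_ker.mp hx, map_zero]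
    rcases h₁.eq_bot_or_eq_top _ hinv with hk | hk
    · exfalso
      have : v₁ ∈ LinearMap.ker h := hv
      rw [hk, Submodule.mem_bot] at this
      exact hv₁ this
    · exact LinearMap.ker_eq_top.mp hk
  split_ifs with heq
  · -- evaluation at `v₁` is an isomorphism onto `U₂`
    have hmin : minpoly K σ₁ = minpoly K σ₂ := by
      rw [← h₁.charpoly_eq_minpoly, ← h₂.charpoly_eq_minpoly, heq]
    let ev : LinearMap.ker (comT σ₁ σ₂) →ₗ[K] U₂ :=
      (LinearMap.applyₗ v₁) ∘ₗ (Submodule.subtype _)
    have hinj : Function.Injective ev := by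
      rw [← LinearMap.ker_eq_bot, LinearMap.ker_eq_bot']
      intro h hh
      exact Subtype.ext (hzero h.1 h.2 hh)
    have hsurj : Function.Surjective ev := by
      intro w
      obtain ⟨s, hs⟩ := LinearMap.exists_rightInverse_of_surjective (orbitMap σ₁ v₁)
        (LinearMap.range_eq_top.mpr (h₁.orbitMap_surjective hv₁))
      have hs' : ∀ x, orbitMap σ₁ v₁ (s x) = x := fun x => LinearMap.congr_fun hs x
      have hker : ∀ g, orbitMap σ₁ v₁ g = 0 → orbitMap σ₂ w g = 0 := by
        intro g hg
        rw [orbitMap_apply, h₁.aeval_apply_eq_zero_iff hv₁, hmin] at hg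
        obtain ⟨c, rfl⟩ := hg
        rw [orbitMap_apply, map_mul, minpoly.aeval, zero_mul, LinearMap.zero_apply]
      let h : U₁ →ₗ[K] U₂ := orbitMap σ₂ w ∘ₗ s
      have hstar : ∀ g, h (orbitMap σ₁ v₁ g) = orbitMap σ₂ w g := by
        intro g
        have : orbitMap σ₁ v₁ (s (orbitMap σ₁ v₁ g) - g) = 0 := by rw [map_sub, hs', sub_self]
        have := hker _ this
        rw [map_sub, sub_eq_zero] at this
        exact this
      have hmem : h ∈ LinearMap.ker (comT σ₁ σ₂) := by
        rw [mem_ker_comT]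
        intro x
        obtain ⟨g, rfl⟩ := h₁.orbitMap_surjective hv₁ x
        rw [← orbitMap_X_mul, hstar, hstar, orbitMap_X_mul]
      refine ⟨⟨h, hmem⟩, ?_⟩
      have : h v₁ = w := by
        have := hstar 1
        simpa using this
      exact this
    have e := LinearEquiv.ofBijective ev ⟨hinj, hsurj⟩
    unfold d
    rw [e.finrank_eq, heq, LinearMap.charpoly_natDegree]
  · -- no nonzero intertwiner
    unfold d
    have : LinearMap.ker (comT σ₁ σ₂) = ⊥ := by
      rw [eq_bot_iff]
      intro h hh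
      rw [Submodule.mem_bot]
      by_contra hne
      have hh' := mem_ker_comT.mp hh
      have hinj : Function.Injective h := by
        have hinv : LinearMap.ker h ∈ σ₁.invtSubmodule := by
          rw [Module.End.mem_invtSubmodule]
          intro x hx
          rw [Submodule.mem_comap, LinearMap.mem_ker, hh', LinearMap.mem_ker.mp hx, map_zero]
        rcases h₁.eq_bot_or_eq_top _ hinv with hk | hk
        · exact LinearMap.ker_eq_bot.mp hk
        · exact absurd (LinearMap.ker_eq_top.mp hk) hne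
      have h0 : aeval σ₁ (minpoly K σ₂) = 0 := by
        apply LinearMap.ext
        intro x
        apply hinj
        rw [intertwine_aeval hh', minpoly.aeval, LinearMap.zero_apply, LinearMap.zero_apply,
          map_zero]
      have hdvd := minpoly.dvd K σ₁ h0
      have hassoc := h₁.minpoly_irreducible.associated_of_dvd h₂.minpoly_irreducible hdvd
      have := eq_of_monic_of_associated (minpoly.monic (LinearMap.isIntegral σ₁))
        (minpoly.monic (LinearMap.isIntegral σ₂)) hassoc
      apply heq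
      rw [h₁.charpoly_eq_minpoly, h₂.charpoly_eq_minpoly, this]
    rw [this, finrank_bot]

end Base

section Decomp

variable {V : Type*} [AddCommGroup V] [Module K V] [FiniteDimensional K V]

lemma exists_simple_compl [Nontrivial V] (π : Module.End K V) (hπ : π.IsSemisimple) :
    ∃ (U W : Submodule K V) (hU : U ∈ π.invtSubmodule) (hW : W ∈ π.invtSubmodule),
      IsCompl U W ∧ IsSimpleEnd (π.restrict hU) ∧ finrank K W < finrank K V := by
  obtain ⟨U, ⟨hU, hU0⟩, hmin⟩ := exists_minimal_of_wellFoundedLT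
      (fun p : Submodule K V => p ∈ π.invtSubmodule ∧ p ≠ ⊥)
      ⟨⊤, Module.End.invtSubmodule.top_mem π, top_ne_bot⟩
  obtain ⟨W, hW, hUW⟩ := Module.End.isSemisimple_iff.mp hπ U hU
  refine ⟨U, W, hU, hW, hUW, ⟨?_, ?_⟩, ?_⟩
  · exact Submodule.nontrivial_iff_ne_bot.mpr hU0
  · intro p hp
    have hp' := Module.End.invtSubmodule.map_subtype_mem_of_mem_invtSubmodule π hU hp
    by_cases h0 : p = ⊥
    · left; exact h0
    · right
      have hle : p.map U.subtype ≤ U := Submodule.map_subtype_le U p
      have hne : p.map U.subtype ≠ ⊥ := by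
        intro h
        apply h0
        rw [eq_bot_iff]
        intro x hx
        have hx' : U.subtype x ∈ p.map U.subtype := Submodule.mem_map_of_mem hx
        rw [h, Submodule.mem_bot] at hx'
        rw [Submodule.mem_bot]
        exact Subtype.ext hx'
      have hUle := hmin ⟨hp', hne⟩ hle
      rw [eq_top_iff]
      intro x _
      obtain ⟨y, hy, hyx⟩ := hUle x.2
      have : y = x := Subtype.ext hyx
      rwa [← this]
  · have h1 := Submodule.finrank_add_eq_of_isCompl hUW
    have h2 : 0 < finrank K U := by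
      have := Submodule.nontrivial_iff_ne_bot.mpr hU0
      exact finrank_pos
    omega

lemma charpoly_eq_one_of_subsingleton [Subsingleton V] (π : Module.End K V) : π.charpoly = 1 := by
  have h1 : π.charpoly.natDegree = 0 := by
    rw [LinearMap.charpoly_natDegree, finrank_zero_of_subsingleton]
  exact (Polynomial.Monic.natDegree_eq_zero (LinearMap.charpoly_monic π)).mp h1

end Decomp

section Main

variable [DecidableEq K] [DecidableEq K[X]]

theorem d_eq_rr_of_simple_left {U₁ : Type v} [AddCommGroup U₁] [Module K U₁]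
    [FiniteDimensional K U₁] (σ₁ : Module.End K U₁) (hs : IsSimpleEnd σ₁) :
    ∀ (n : ℕ) (V₂ : Type w) [AddCommGroup V₂] [Module K V₂] [FiniteDimensional K V₂]
      (π₂ : Module.End K V₂), π₂.IsSemisimple → finrank K V₂ = n →
      d σ₁ π₂ = rr σ₁.charpoly π₂.charpoly := by
  intro n
  induction n using Nat.strong_induction_on with
  | _ n ih =>
    intro V₂ _ _ _ π₂ h₂ hn
    rcases subsingleton_or_nontrivial V₂ with hV | hV
    · rw [charpoly_eq_one_of_subsingleton π₂, rr_one_right]
      unfold d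
      exact finrank_zero_of_subsingleton
    · obtain ⟨U, W, hU, hW, hUW, hsU, hlt⟩ := exists_simple_compl π₂ h₂
      rw [d_split_right σ₁ π₂ hU hW hUW, charpoly_eq_mul_of_isCompl π₂ hU hW hUW,
        rr_mul_right _ (LinearMap.charpoly_monic _).ne_zero (LinearMap.charpoly_monic _).ne_zero,
        d_simple_simple hs hsU,
        ih (finrank K W) (hn ▸ hlt) W (π₂.restrict hW) (h₂.restrict hW) rfl,
        rr_irreducible hs.charpoly_irreducible (LinearMap.charpoly_monic _)
          hsU.charpoly_irreducible (LinearMap.charpoly_monic _)]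

theorem d_eq_rr {V₂ : Type w} [AddCommGroup V₂] [Module K V₂] [FiniteDimensional K V₂]
    (π₂ : Module.End K V₂) (h₂ : π₂.IsSemisimple) :
    ∀ (n : ℕ) (V₁ : Type v) [AddCommGroup V₁] [Module K V₁] [FiniteDimensional K V₁]
      (π₁ : Module.End K V₁), π₁.IsSemisimple → finrank K V₁ = n →
      d π₁ π₂ = rr π₁.charpoly π₂.charpoly := by
  intro n
  induction n using Nat.strong_induction_on with
  | _ n ih =>
    intro V₁ _ _ _ π₁ h₁ hn
    rcases subsingleton_or_nontrivial V₁ with hV | hV
    · rw [charpoly_eq_one_of_subsingleton π₁, rr_one_left]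
      unfold d
      exact finrank_zero_of_subsingleton
    · obtain ⟨U, W, hU, hW, hUW, hsU, hlt⟩ := exists_simple_compl π₁ h₁
      rw [d_split_left π₁ π₂ hU hW hUW, charpoly_eq_mul_of_isCompl π₁ hU hW hUW,
        rr_mul_left (LinearMap.charpoly_monic _).ne_zero (LinearMap.charpoly_monic _).ne_zero,
        d_eq_rr_of_simple_left _ hsU _ V₂ π₂ h₂ rfl,
        ih (finrank K W) (hn ▸ hlt) W (π₁.restrict hW) (h₁.restrict hW) rfl]

/-- **Main theorem**: the dimension of the space of intertwiners. -/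
theorem finrank_ker_comT {V₁ : Type v} {V₂ : Type w} [AddCommGroup V₁] [Module K V₁]
    [FiniteDimensional K V₁] [AddCommGroup V₂] [Module K V₂] [FiniteDimensional K V₂]
    (π₁ : Module.End K V₁) (π₂ : Module.End K V₂) (h₁ : π₁.IsSemisimple) (h₂ : π₂.IsSemisimple) :
    Module.finrank K (LinearMap.ker (LinearMap.lcomp K V₂ π₁ - LinearMap.llcomp K V₁ V₂ V₂ π₂ :
        (V₁ →ₗ[K] V₂) →ₗ[K] (V₁ →ₗ[K] V₂))) =
      ∑ P ∈ (normalizedFactors π₁.charpoly).toFinset,
        (normalizedFactors π₁.charpoly).count P * (normalizedFactors π₂.charpoly).count P *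
          P.natDegree := by
  rw [rr_eq_sum]
  exact d_eq_rr π₂ h₂ _ V₁ π₁ h₁ rfl

end Main


end Groth.Agent.Lib.SemisimpleHom
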