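import Groth.Agent.Lib.H86AlgSpDiag
import Mathlib.AlgebraicGeometry.Morphisms.Separated
import Mathlib.AlgebraicGeometry.Morphisms.Affine
import Mathlib.AlgebraicGeometry.Morphisms.ClosedImmersion

/-!
# Fibre products of affines over a separated algebraic space over a separated base (helper46)

* `surjective_productMap_of_isPushout`: a pushout of commutative rings is generated by the images of the two legs.
* `isAffine_and_surjective_of_isSeparatedSp`: for `S` separated, `X` a sheaf over `S` with closed diagonal and affine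
  `U`, `V` over `S` mapping to `X`, a scheme `P` representing `h_U ×_X h_V` is affine and `Γ(U) ⊗_ℤ Γ(V) → Γ(P)` is onto.
-/

set_option autoImplicit false
universe u

open CategoryTheory CategoryTheory.Limits AlgebraicGeometry Opposite

namespace Groth.Agent.Lib.SepAffProd46

/-- A pushout of commutative rings is generated by the images of the two legs. -/
theorem surjective_productMap_of_isPushout {R A B P : CommRingCat.{u}} {f : R ⟶ A} {g : R ⟶ B}
    {inl : A ⟶ P} {inr : B ⟶ P} (h : IsPushout f g inl inr) :
    Function.Surjective (Algebra.TensorProduct.productMap inl.hom.toIntAlgHom inr.hom.toIntAlgHom) := by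
  set φ := Algebra.TensorProduct.productMap inl.hom.toIntAlgHom inr.hom.toIntAlgHom with hφ
  let P' : CommRingCat.{u} := CommRingCat.of φ.range
  have hl : ∀ a : A, inl.hom a ∈ φ.range := fun a =>
    ⟨a ⊗ₜ 1, Algebra.TensorProduct.productMap_left_apply _ _ a⟩
  have hr : ∀ b : B, inr.hom b ∈ φ.range := fun b =>
    ⟨1 ⊗ₜ b, Algebra.TensorProduct.productMap_right_apply _ _ b⟩
  let inl' : A ⟶ P' := CommRingCat.ofHom (inl.hom.codRestrict φ.range.toSubring hl)
  let inr' : B ⟶ P' := CommRingCat.ofHom (inr.hom.codRestrict φ.range.toSubring hr)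
  let ι : P' ⟶ P := CommRingCat.ofHom φ.range.toSubring.subtype
  have h1 : inl' ≫ ι = inl := by ext a; rfl
  have h2 : inr' ≫ ι = inr := by ext b; rfl
  have hw : f ≫ inl' = g ≫ inr' := by
    have hι : Mono ι := ConcreteCategory.mono_of_injective ι Subtype.val_injective
    rw [← cancel_mono ι, Category.assoc, Category.assoc, h1, h2, h.w]
  have hd : h.desc inl' inr' hw ≫ ι = 𝟙 P := by
    apply h.hom_ext
    · rw [← Category.assoc, h.inl_desc, h1, Category.comp_id]
    · rw [← Category.assoc, h.inr_desc, h2, Category.comp_id]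
  intro x
  have hx : ι.hom ((h.desc inl' inr' hw).hom x) = x := by
    have := congrArg (fun m => m.hom x) hd
    exact this
  obtain ⟨y, hy⟩ := ((h.desc inl' inr' hw).hom x).2
  exact ⟨y, hy.trans hx⟩

open AlgSp

variable {S : Scheme.{u}}

/-- **Affineness of fibre products over a separated space over a separated base.** -/
theorem isAffine_and_surjective_of_isSeparatedSp [S.IsSeparated] {X : Sp S} (hX : IsSeparatedSp X)
    {U V P : Over S} (a : (yon S).obj U ⟶ X) (b : (yon S).obj V ⟶ X) (fst : P ⟶ U) (snd : P ⟶ V)
    (hU : IsAffine U.left) (hV : IsAffine V.left)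
    (h : IsPullback ((yon S).map fst) ((yon S).map snd) a b) :
    IsAffine P.left ∧ Function.Surjective
      (Algebra.TensorProduct.productMap fst.left.appTop.hom.toIntAlgHom snd.left.appTop.hom.toIntAlgHom) := by
  have sq := Groth.Agent.Lib.H86AlgSpDiag.isPullback_diag_yon h
  have hm : IsClosedImmersion (prod.lift fst snd).left := hX.property _ _ _ sq
  let i : S ⟶ ⊤_ Scheme.{u} := terminal.from S
  have hcomm : fst.left ≫ U.hom ≫ i = snd.left ≫ V.hom ≫ i := by
    rw [← Category.assoc, ← Category.assoc, Over.w fst, Over.w snd]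
  let c : P.left ⟶ pullback (U.hom ≫ i) (V.hom ≫ i) := pullback.lift fst.left snd.left hcomm
  have hc1 : c ≫ pullback.fst _ _ = fst.left := pullback.lift_fst _ _ _
  have hc2 : c ≫ pullback.snd _ _ = snd.left := pullback.lift_snd _ _ _
  have hc_eq : c = (prod.lift fst snd).left ≫ (Over.prodLeftIsoPullback U V).hom ≫
      pullback.mapDesc U.hom V.hom i := by
    apply pullback.hom_ext
    · rw [hc1]
      simp only [pullback.mapDesc, pullback.map, Category.assoc, pullback.lift_fst, Category.comp_id,
        Over.prodLeftIsoPullback_hom_fst]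
      rw [← Over.comp_left, prod.lift_fst]
    · rw [hc2]
      simp only [pullback.mapDesc, pullback.map, Category.assoc, pullback.lift_snd, Category.comp_id,
        Over.prodLeftIsoPullback_hom_snd]
      rw [← Over.comp_left, prod.lift_snd]
  have hcc : IsClosedImmersion c := by
    rw [hc_eq]
    infer_instance
  obtain ⟨hPaff, hsurj⟩ := IsClosedImmersion.isAffine_surjective_of_isAffine c
  refine ⟨hPaff, ?_⟩
  have hpo : IsPushout (U.hom ≫ i).appTop (V.hom ≫ i).appTop
      (pullback.fst (U.hom ≫ i) (V.hom ≫ i)).appTop (pullback.snd (U.hom ≫ i) (V.hom ≫ i)).appTop :=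
    isPushout_appTop_of_isPullback (IsPullback.of_hasPullback _ _)
  have hgen := surjective_productMap_of_isPushout hpo
  intro x
  obtain ⟨y, rfl⟩ := hsurj x
  obtain ⟨z, rfl⟩ := hgen y
  refine ⟨z, ?_⟩
  induction z using TensorProduct.induction_on with
  | zero => simp
  | tmul α β =>
    simp only [Algebra.TensorProduct.productMap_apply_tmul, map_mul]
    have e1 : fst.left.appTop.hom α = c.appTop.hom ((pullback.fst (U.hom ≫ i) (V.hom ≫ i)).appTop.hom α) := by
      rw [← hc1, Scheme.Hom.comp_appTop]
      rfl
    have e2 : snd.left.appTop.hom β = c.appTop.hom ((pullback.snd (U.hom ≫ i) (V.hom ≫ i)).appTop.hom β) := by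
      rw [← hc2, Scheme.Hom.comp_appTop]
      rfl
    change fst.left.appTop.hom α * snd.left.appTop.hom β = _
    rw [e1, e2]
    rfl
  | add z₁ z₂ h₁ h₂ => rw [map_add, map_add, map_add, h₁, h₂]

end Groth.Agent.Lib.SepAffProd46
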