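import Mathlib.FieldTheory.PrimitiveElement
import Mathlib.FieldTheory.PurelyInseparable.Basic
import Mathlib.FieldTheory.SeparableDegree

/-!
# Field extensions of bounded degree have finitely many embeddings (helper23)
-/

set_option autoImplicit false

namespace Groth.Agent.Lib.SepBound23

open IntermediateField Module

/-- A separable algebraic extension all of whose elements have degree at most `d` is finite. -/
theorem finiteDimensional_of_forall_natDegree_le {k E : Type*} [Field k] [Field E] [Algebra k E]
    [Algebra.IsSeparable k E] (d : ℕ) (h : ∀ x : E, (minpoly k x).natDegree ≤ d) :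
    FiniteDimensional k E := by
  classical
  -- every finite subextension has degree at most `d`
  have hfin : ∀ K : IntermediateField k E, FiniteDimensional k K → finrank k K ≤ d := by
    intro K hK
    have : Algebra.IsSeparable k K := Algebra.isSeparable_tower_bot_of_isSeparable k K E
    obtain ⟨α, hα⟩ := Field.exists_primitive_element k K
    rw [Field.primitive_element_iff_minpoly_natDegree_eq] at hα
    rw [← hα, IntermediateField.minpoly_eq]
    exact h _
  set P : ℕ → Prop := fun n => ∃ K : IntermediateField k E, FiniteDimensional k K ∧ finrank k K = n with hP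
  have hP1 : P 1 := ⟨⊥, inferInstance, IntermediateField.finrank_bot⟩
  have hd : 1 ≤ d := by
    obtain ⟨K, hK, hK1⟩ := hP1
    have := hfin K hK
    omega
  obtain ⟨K₀, hK₀, hK₀n⟩ : P (Nat.findGreatest P d) := Nat.findGreatest_spec hd hP1
  have htop : K₀ = ⊤ := by
    rw [eq_top_iff]
    intro β _
    have : FiniteDimensional k k⟮β⟯ :=
      adjoin.finiteDimensional (Algebra.IsSeparable.isIntegral k β)
    have : FiniteDimensional k (K₀ ⊔ k⟮β⟯ : IntermediateField k E) := IntermediateField.finiteDimensional_sup _ _
    have h1 : finrank k (K₀ ⊔ k⟮β⟯ : IntermediateField k E) ≤ Nat.findGreatest P d :=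
      Nat.le_findGreatest (hfin _ inferInstance) ⟨_, inferInstance, rfl⟩
    have h2 : K₀ = K₀ ⊔ k⟮β⟯ :=
      IntermediateField.eq_of_le_of_finrank_le le_sup_left (by rw [hK₀n]; exact h1)
    rw [h2]
    exact (le_sup_right : k⟮β⟯ ≤ K₀ ⊔ k⟮β⟯) (mem_adjoin_simple_self k β)
  rw [htop] at hK₀
  exact Module.Finite.equiv (IntermediateField.topEquiv (F := k) (E := E)).toLinearEquiv

/-- If every element of `L` is a root of a monic polynomial of degree at most `d` over `k`, then `L` has
finitely many `k`-embeddings into an algebraic closure. -/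
theorem finite_emb_of_bounded {k L : Type*} [Field k] [Field L] [Algebra k L] (d : ℕ)
    (h : ∀ x : L, ∃ q : Polynomial k, q.Monic ∧ q.natDegree ≤ d ∧ Polynomial.aeval x q = 0) :
    Finite (Field.Emb k L) := by
  have hint : Algebra.IsIntegral k L := ⟨fun x => by
    obtain ⟨q, hq, -, hq0⟩ := h x
    exact ⟨q, hq, hq0⟩⟩
  have : Algebra.IsAlgebraic k L := Algebra.IsIntegral.isAlgebraic
  have hdeg : ∀ x : L, (minpoly k x).natDegree ≤ d := by
    intro x
    obtain ⟨q, hq, hqd, hq0⟩ := h x
    exact (Polynomial.natDegree_le_natDegree (minpoly.min k x hq hq0)).trans hqd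
  have : FiniteDimensional k (separableClosure k L) :=
    finiteDimensional_of_forall_natDegree_le d (fun x => by
      rw [IntermediateField.minpoly_eq]
      exact hdeg _)
  have : Fintype (Field.Emb k (separableClosure k L)) := minpoly.AlgHom.fintype _ _ _
  rw [← Cardinal.mk_lt_aleph0_iff, ← Field.Emb.cardinal_separableClosure, Cardinal.mk_lt_aleph0_iff]
  infer_instance

end Groth.Agent.Lib.SepBound23
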