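import Mathlib

/-!
# Separably closed image in the residue field of a maximal ideal (helper61)

`R` a `D`-algebra, `M` a maximal ideal of `R`, `k₀` the subfield of `κ(M)` generated by the image
of `D`.  If every element of `D` is a unit or maps into `M` (e.g. `D` local and `M` over its
maximal ideal), then `k₀` is the image of `D`, and `k₀` is separably closed in `κ(M)` iff every
`y ∈ R` which is a simple root modulo `M` of a polynomial over `D` is congruent modulo `M` to an
element of `D`.
-/

set_option autoImplicit false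

namespace Groth.Agent.Lib.SepClosedResidue61

open Polynomial

theorem isSeparable_of_aeval_derivative_ne_zero {K L : Type*} [Field K] [Field L] [Algebra K L]
    {x : L} {g : K[X]} (h0 : aeval x g = 0) (h1 : aeval x (derivative g) ≠ 0) :
    IsSeparable K x := by
  have hg : g ≠ 0 := by
    rintro rfl
    simp at h1
  have hint : IsIntegral K x := IsAlgebraic.isIntegral ⟨g, hg, h0⟩
  obtain ⟨h, hh⟩ := minpoly.dvd K x h0
  unfold IsSeparable
  rw [separable_iff_derivative_ne_zero (minpoly.irreducible hint)]
  intro hd
  apply h1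
  rw [hh, derivative_mul, hd, zero_mul, zero_add, map_mul, minpoly.aeval, zero_mul]

variable {D R : Type*} [CommRing D] [CommRing R] [Algebra D R] (M : Ideal R) [M.IsMaximal]

theorem exists_of_mem_closure (hD : ∀ d : D, IsUnit d ∨ algebraMap D R d ∈ M)
    {c : M.ResidueField}
    (hc : c ∈ Subfield.closure
      (Set.range ((algebraMap R M.ResidueField).comp (algebraMap D R)))) :
    ∃ d : D, (algebraMap R M.ResidueField).comp (algebraMap D R) d = c := by
  induction hc using Subfield.closure_induction with
  | mem x hx => exact hx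
  | one => exact ⟨1, map_one _⟩
  | add x y _ _ hx hy =>
    obtain ⟨a, rfl⟩ := hx
    obtain ⟨b, rfl⟩ := hy
    exact ⟨a + b, map_add _ _ _⟩
  | neg x _ hx =>
    obtain ⟨a, rfl⟩ := hx
    exact ⟨-a, map_neg _ _⟩
  | inv x _ hx =>
    obtain ⟨a, rfl⟩ := hx
    rcases hD a with hu | hm
    · obtain ⟨u, rfl⟩ := hu
      exact ⟨((u⁻¹ : Dˣ) : D), map_units_inv _ u⟩
    · refine ⟨0, ?_⟩
      have h0 : (algebraMap R M.ResidueField).comp (algebraMap D R) a = 0 :=
        Ideal.algebraMap_residueField_eq_zero.mpr hm
      rw [h0, inv_zero, map_zero]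
  | mul x y _ _ hx hy =>
    obtain ⟨a, rfl⟩ := hx
    obtain ⟨b, rfl⟩ := hy
    exact ⟨a * b, map_mul _ _ _⟩

section

variable (F : D[X]) (y : R)

private theorem aux_eval
    (φ₀ : D →+* Subfield.closure
      (Set.range ((algebraMap R M.ResidueField).comp (algebraMap D R))))
    (hφ₀ : ∀ d, ((φ₀ d : _) : M.ResidueField) =
      (algebraMap R M.ResidueField).comp (algebraMap D R) d) (G : D[X]) :
    aeval (algebraMap R M.ResidueField y) (G.map φ₀) =
      algebraMap R M.ResidueField (G.eval₂ (algebraMap D R) y) := by
  have hcomp : (algebraMap (Subfield.closure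
      (Set.range ((algebraMap R M.ResidueField).comp (algebraMap D R)))) M.ResidueField).comp φ₀ =
      (algebraMap R M.ResidueField).comp (algebraMap D R) := by
    ext d
    exact hφ₀ d
  rw [aeval_def, eval₂_map, hcomp, ← hom_eval₂]

end

theorem exists_sub_mem (hD : ∀ d : D, IsUnit d ∨ algebraMap D R d ∈ M)
    (hsep : separableClosure (Subfield.closure
      (Set.range ((algebraMap R M.ResidueField).comp (algebraMap D R)))) M.ResidueField = ⊥)
    (y : R) (F : D[X]) (hF : F.eval₂ (algebraMap D R) y ∈ M)
    (hF' : (derivative F).eval₂ (algebraMap D R) y ∉ M) :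
    ∃ d : D, y - algebraMap D R d ∈ M := by
  let φ₀ : D →+* Subfield.closure
      (Set.range ((algebraMap R M.ResidueField).comp (algebraMap D R))) :=
    ((algebraMap R M.ResidueField).comp (algebraMap D R)).codRestrict _
      (fun d => Subfield.subset_closure ⟨d, rfl⟩)
  have hφ₀ : ∀ d, ((φ₀ d : _) : M.ResidueField) =
      (algebraMap R M.ResidueField).comp (algebraMap D R) d := fun _ => rfl
  have h1 := aux_eval M y φ₀ hφ₀ F
  have h2 := aux_eval M y φ₀ hφ₀ (derivative F)
  rw [← derivative_map] at h2
  have h1' : aeval (algebraMap R M.ResidueField y) (F.map φ₀) = 0 := by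
    rw [h1]
    exact Ideal.algebraMap_residueField_eq_zero.mpr hF
  have h2' : aeval (algebraMap R M.ResidueField y) (derivative (F.map φ₀)) ≠ 0 := by
    rw [h2]
    intro h
    exact hF' (Ideal.algebraMap_residueField_eq_zero.mp h)
  have hsepy : algebraMap R M.ResidueField y ∈ separableClosure (Subfield.closure
      (Set.range ((algebraMap R M.ResidueField).comp (algebraMap D R)))) M.ResidueField :=
    isSeparable_of_aeval_derivative_ne_zero h1' h2'
  rw [hsep, IntermediateField.mem_bot] at hsepy
  obtain ⟨c, hc⟩ := hsepy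
  obtain ⟨d, hd⟩ := exists_of_mem_closure M hD c.2
  refine ⟨d, ?_⟩
  rw [← Ideal.algebraMap_residueField_eq_zero, map_sub, sub_eq_zero, ← hc]
  exact hd.symm

theorem eq_bot_of_forall (hD : ∀ d : D, IsUnit d ∨ algebraMap D R d ∈ M)
    (H : ∀ (y : R) (F : D[X]), F.Monic → F.eval₂ (algebraMap D R) y ∈ M →
      (derivative F).eval₂ (algebraMap D R) y ∉ M → ∃ d : D, y - algebraMap D R d ∈ M) :
    separableClosure (Subfield.closure
      (Set.range ((algebraMap R M.ResidueField).comp (algebraMap D R)))) M.ResidueField = ⊥ := by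
  let φ₀ : D →+* Subfield.closure
      (Set.range ((algebraMap R M.ResidueField).comp (algebraMap D R))) :=
    ((algebraMap R M.ResidueField).comp (algebraMap D R)).codRestrict _
      (fun d => Subfield.subset_closure ⟨d, rfl⟩)
  have hφ₀ : ∀ d, ((φ₀ d : _) : M.ResidueField) =
      (algebraMap R M.ResidueField).comp (algebraMap D R) d := fun _ => rfl
  rw [eq_bot_iff]
  intro z hz
  rw [mem_separableClosure_iff] at hz
  rw [IntermediateField.mem_bot]
  have hint : IsIntegral (Subfield.closure
      (Set.range ((algebraMap R M.ResidueField).comp (algebraMap D R)))) z := hz.isIntegral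
  have hlifts : minpoly (Subfield.closure
      (Set.range ((algebraMap R M.ResidueField).comp (algebraMap D R)))) z ∈ lifts φ₀ := by
    rw [lifts_iff_coeff_lifts]
    intro n
    obtain ⟨d, hd⟩ := exists_of_mem_closure M hD ((minpoly (Subfield.closure
      (Set.range ((algebraMap R M.ResidueField).comp (algebraMap D R)))) z).coeff n).2
    exact ⟨d, Subtype.ext hd⟩
  obtain ⟨F, hFmap, -, hFmonic⟩ := lifts_and_natDegree_eq_and_monic hlifts (minpoly.monic hint)
  obtain ⟨y, rfl⟩ := Ideal.algebraMap_residueField_surjective M z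
  have h1 := aux_eval M y φ₀ hφ₀ F
  have h2 := aux_eval M y φ₀ hφ₀ (derivative F)
  rw [← derivative_map] at h2
  rw [hFmap] at h1 h2
  rw [minpoly.aeval] at h1
  have h3 := Separable.aeval_derivative_ne_zero hz (x := algebraMap R M.ResidueField y)
    (minpoly.aeval _ _)
  rw [h2] at h3
  obtain ⟨d, hd⟩ := H y F hFmonic (Ideal.algebraMap_residueField_eq_zero.mp h1.symm)
    (fun h => h3 (Ideal.algebraMap_residueField_eq_zero.mpr h))
  refine ⟨φ₀ d, ?_⟩
  rw [← Ideal.algebraMap_residueField_eq_zero, map_sub, sub_eq_zero] at hd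
  exact hd.symm

theorem eq_bot_of_forall' (hD : ∀ d : D, IsUnit d ∨ algebraMap D R d ∈ M)
    (H : ∀ (y : R) (F : D[X]), F.Monic →
      (F.map ((algebraMap R M.ResidueField).comp (algebraMap D R))).Separable →
      F.eval₂ (algebraMap D R) y ∈ M → ∃ d : D, y - algebraMap D R d ∈ M) :
    separableClosure (Subfield.closure
      (Set.range ((algebraMap R M.ResidueField).comp (algebraMap D R)))) M.ResidueField = ⊥ := by
  let φ₀ : D →+* Subfield.closure
      (Set.range ((algebraMap R M.ResidueField).comp (algebraMap D R))) :=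
    ((algebraMap R M.ResidueField).comp (algebraMap D R)).codRestrict _
      (fun d => Subfield.subset_closure ⟨d, rfl⟩)
  have hφ₀ : ∀ d, ((φ₀ d : _) : M.ResidueField) =
      (algebraMap R M.ResidueField).comp (algebraMap D R) d := fun _ => rfl
  have hcomp : (algebraMap (Subfield.closure
      (Set.range ((algebraMap R M.ResidueField).comp (algebraMap D R)))) M.ResidueField).comp φ₀ =
      (algebraMap R M.ResidueField).comp (algebraMap D R) := by
    ext d
    exact hφ₀ d
  rw [eq_bot_iff]
  intro z hz
  rw [mem_separableClosure_iff] at hz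
  rw [IntermediateField.mem_bot]
  have hint : IsIntegral (Subfield.closure
      (Set.range ((algebraMap R M.ResidueField).comp (algebraMap D R)))) z := hz.isIntegral
  have hlifts : minpoly (Subfield.closure
      (Set.range ((algebraMap R M.ResidueField).comp (algebraMap D R)))) z ∈ lifts φ₀ := by
    rw [lifts_iff_coeff_lifts]
    intro n
    obtain ⟨d, hd⟩ := exists_of_mem_closure M hD ((minpoly (Subfield.closure
      (Set.range ((algebraMap R M.ResidueField).comp (algebraMap D R)))) z).coeff n).2
    exact ⟨d, Subtype.ext hd⟩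
  obtain ⟨F, hFmap, -, hFmonic⟩ := lifts_and_natDegree_eq_and_monic hlifts (minpoly.monic hint)
  obtain ⟨y, rfl⟩ := Ideal.algebraMap_residueField_surjective M z
  have h1 := aux_eval M y φ₀ hφ₀ F
  rw [hFmap, minpoly.aeval] at h1
  have hsepF : (F.map ((algebraMap R M.ResidueField).comp (algebraMap D R))).Separable := by
    rw [← hcomp, ← Polynomial.map_map, hFmap]
    exact Separable.map hz
  obtain ⟨d, hd⟩ := H y F hFmonic hsepF (Ideal.algebraMap_residueField_eq_zero.mp h1.symm)
  refine ⟨φ₀ d, ?_⟩
  rw [← Ideal.algebraMap_residueField_eq_zero, map_sub, sub_eq_zero] at hd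
  exact hd.symm

end Groth.Agent.Lib.SepClosedResidue61
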