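import Mathlib.AlgebraicGeometry.Limits
import Mathlib.AlgebraicGeometry.Morphisms.Separated

/-!
# A finite disjoint union of opens of affine opens is separated (helper45)
-/

set_option autoImplicit false
universe u
open CategoryTheory AlgebraicGeometry TopologicalSpace Limits

namespace Groth.Agent.Lib.SepDisj45

variable {X : Scheme.{u}}

theorem sigmaDesc_ι_apply {σ : Type} (W : σ → X.Opens) (i : σ) (z : ((W i : X.Opens) : Scheme.{u})) :
    (Sigma.desc fun i ↦ (W i).ι) (Sigma.ι (fun i => (W i : Scheme.{u})) i z) = (W i).ι z := by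
  have h : Sigma.ι (fun i => (W i : Scheme.{u})) i ≫ (Sigma.desc fun i ↦ (W i).ι) = (W i).ι :=
    Sigma.ι_desc _ _
  rw [← h]
  rfl

theorem range_sigmaDesc_ι {σ : Type} (W : σ → X.Opens) :
    Set.range (Sigma.desc fun i ↦ (W i).ι) = ⋃ i, (W i : Set X) := by
  ext x
  simp only [Set.mem_range, Set.mem_iUnion, SetLike.mem_coe]
  constructor
  · rintro ⟨y, rfl⟩
    have hex : ∃ (i : σ) (z : ((W i : X.Opens) : Scheme.{u})),
        Sigma.ι (fun i => (W i : Scheme.{u})) i z = y :=
      (sigmaOpenCover (fun i => (W i : Scheme.{u}))).exists_eq y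
    obtain ⟨i, z, rfl⟩ := hex
    refine ⟨i, ?_⟩
    rw [sigmaDesc_ι_apply W i z]
    exact z.2
  · rintro ⟨i, hx⟩
    let z : ((W i : X.Opens) : Scheme.{u}) := ⟨x, hx⟩
    exact ⟨Sigma.ι (fun i => (W i : Scheme.{u})) i z, sigmaDesc_ι_apply W i z⟩

open scoped Function in
/-- A finite pairwise disjoint union of opens, each contained in an affine open, is a separated
scheme. -/
theorem isSeparated_iSup_of_disjoint {σ : Type} [Finite σ] (W U : σ → X.Opens)
    (hU : ∀ i, IsAffineOpen (U i)) (hWU : ∀ i, W i ≤ U i) (hdisj : Pairwise (Disjoint on W)) :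
    ((⨆ i, W i : X.Opens) : Scheme.{u}).IsSeparated := by
  let g : σ → Scheme.{u} := fun i => (W i : Scheme.{u})
  let g' : σ → Scheme.{u} := fun i => (U i : Scheme.{u})
  have hg' : ∀ i, IsAffine (g' i) := hU
  have hα : IsOpenImmersion (Sigma.desc (fun i => (W i).ι)) :=
    isOpenImmersion_sigmaDesc _ (fun i => (W i).ι)
      (fun i j hij => by simpa [Function.onFun, ← Opens.coe_disjoint] using hdisj hij)
  have hβ : IsOpenImmersion (Sigma.desc (fun i => X.homOfLE (hWU i) ≫ Sigma.ι g' i)) := by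
    refine isOpenImmersion_sigmaDesc _ _ (fun i j hij => ?_)
    have h := disjoint_opensRange_sigmaι g' i j hij
    rw [← Opens.coe_disjoint] at h
    refine h.mono ?_ ?_
    · rintro _ ⟨x, rfl⟩
      exact ⟨_, rfl⟩
    · rintro _ ⟨x, rfl⟩
      exact ⟨_, rfl⟩
  have hsep : (∐ g).IsSeparated := by
    refine ⟨?_⟩
    rw [← terminal.comp_from (Sigma.desc (fun i => X.homOfLE (hWU i) ≫ Sigma.ι g' i))]
    infer_instance
  let e : ((⨆ i, W i : X.Opens) : Scheme.{u}) ≅ ∐ g :=
    IsOpenImmersion.isoOfRangeEq (⨆ i, W i).ι (Sigma.desc (fun i => (W i).ι)) (by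
      rw [Scheme.Opens.range_ι, range_sigmaDesc_ι W, Opens.coe_iSup])
  refine ⟨?_⟩
  rw [← terminal.comp_from e.hom]
  infer_instance

end Groth.Agent.Lib.SepDisj45
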