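import Mathlib

/-!
# Exponent of inseparability via iterated Frobenius (for S13184)

`isSeparable_of_pow`, `isSeparable_pow`: for fields `k ⊆ F ⊆ Ω` of char `p` such that `F = k^{p^{-e}}`
(every element of `k` has a `p^e`-th root in `F` / every `p^e`-th power of `F` lies in `k`),
`x` separable over `F` iff `x^{p^e}` separable over `k`. `main` is the statement of S13184.
-/

universe u

namespace Groth.Agent.Lib.SepExponent

open Polynomial

section Core

variable {k F Ω : Type*} [Field k] [Field F] [Field Ω] [Algebra k F] [Algebra F Ω] [Algebra k Ω]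
  [IsScalarTower k F Ω] (p : ℕ) [Fact p.Prime] [CharP F p] (e : ℕ)

theorem aeval_pow_map_iterateFrobenius (G : F[X]) (x : Ω) :
    aeval (x ^ p ^ e) (G.map (iterateFrobenius F p e)) = (aeval x G) ^ p ^ e := by
  rw [← expand_aeval, ← map_expand, map_iterateFrobenius_expand, map_pow]

theorem isSeparable_of_pow (hroot : ∀ c : k, ∃ d : F, d ^ p ^ e = algebraMap k F c) (x : Ω)
    (hx : IsSeparable k (x ^ p ^ e)) : IsSeparable F x := by
  have hg : (minpoly k (x ^ p ^ e)).Separable := hx
  have hlift : (minpoly k (x ^ p ^ e)).map (algebraMap k F) ∈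
      Polynomial.lifts (iterateFrobenius F p e) := by
    rw [lifts_iff_coeff_lifts]
    intro n
    obtain ⟨d, hd⟩ := hroot ((minpoly k (x ^ p ^ e)).coeff n)
    exact ⟨d, by rw [iterateFrobenius_def, hd, coeff_map]⟩
  obtain ⟨G, hG⟩ := hlift
  rw [Polynomial.coe_mapRingHom] at hG
  have hGsep : G.Separable := by
    rw [← separable_map (iterateFrobenius F p e), hG]
    exact hg.map
  have h0 : aeval x G = 0 := by
    have h1 := aeval_pow_map_iterateFrobenius p e G x
    rw [hG, aeval_map_algebraMap, minpoly.aeval] at h1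
    exact pow_eq_zero_iff (pow_ne_zero _ (Fact.out : p.Prime).ne_zero) |>.mp h1.symm
  exact hGsep.of_dvd (minpoly.dvd F x h0)

theorem isSeparable_pow (hpow : ∀ d : F, ∃ c : k, d ^ p ^ e = algebraMap k F c) (x : Ω)
    (hx : IsSeparable F x) : IsSeparable k (x ^ p ^ e) := by
  have hG : (minpoly F x).Separable := hx
  have hlift : (minpoly F x).map (iterateFrobenius F p e) ∈ Polynomial.lifts (algebraMap k F) := by
    rw [lifts_iff_coeff_lifts]
    intro n
    obtain ⟨c, hc⟩ := hpow ((minpoly F x).coeff n)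
    exact ⟨c, by rw [coeff_map, iterateFrobenius_def, hc]⟩
  obtain ⟨g₀, hg₀⟩ := hlift
  rw [Polynomial.coe_mapRingHom] at hg₀
  have hsep : g₀.Separable := by
    rw [← separable_map (algebraMap k F), hg₀]
    exact hG.map
  have h0 : aeval (x ^ p ^ e) g₀ = 0 := by
    rw [← aeval_map_algebraMap F, hg₀, aeval_pow_map_iterateFrobenius, minpoly.aeval,
      zero_pow (pow_ne_zero _ (Fact.out : p.Prime).ne_zero)]
  exact hsep.of_dvd (minpoly.dvd k _ h0)

end Core


section Main

theorem main {k : Type u} [Field k] (p : ℕ) [Fact p.Prime] [CharP k p]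
    {K : Type u} [Field K] [Algebra k K]
    {Ω : Type u} [Field Ω] [Algebra k Ω] [Algebra K Ω] [IsScalarTower k K Ω] [IsAlgClosed Ω] (e : ℕ) :
    (∀ x : Ω, x ∈ IntermediateField.adjoin k {y : Ω | y ^ (p ^ e) ∈ Set.range (algebraMap k Ω)} ⊔
        IntermediateField.adjoin k (Set.range (algebraMap K Ω)) →
      IsSeparable (IntermediateField.adjoin k {y : Ω | y ^ (p ^ e) ∈ Set.range (algebraMap k Ω)}) x) ↔
    ∀ x : K, x ^ (p ^ e) ∈ separableClosure k K := by
  have hpe : p ^ e ≠ 0 := pow_ne_zero _ (Fact.out : p.Prime).ne_zero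
  haveI : CharP Ω p := charP_of_injective_algebraMap (algebraMap k Ω).injective p
  set F := IntermediateField.adjoin k {y : Ω | y ^ (p ^ e) ∈ Set.range (algebraMap k Ω)} with hF
  haveI : CharP F p := charP_of_injective_algebraMap (algebraMap k F).injective p
  -- (R1)
  have R1 : ∀ c : k, ∃ d : F, d ^ p ^ e = algebraMap k F c := by
    intro c
    obtain ⟨y, hy⟩ := IsAlgClosed.exists_pow_nat_eq (algebraMap k Ω c) (Nat.pos_of_ne_zero hpe)
    refine ⟨⟨y, IntermediateField.subset_adjoin k _ ⟨c, hy.symm⟩⟩, ?_⟩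
    apply Subtype.ext
    simpa using hy
  -- (R2)
  have R2 : ∀ d : F, ∃ c : k, d ^ p ^ e = algebraMap k F c := by
    have key : ∀ z : Ω, z ∈ F → z ^ (p ^ e) ∈ Set.range (algebraMap k Ω) := by
      intro z hz
      induction hz using IntermediateField.adjoin_induction with
      | mem x hx => exact hx
      | algebraMap c => exact ⟨c ^ (p ^ e), by rw [map_pow]⟩
      | add x y _ _ hx hy =>
        obtain ⟨a, ha⟩ := hx
        obtain ⟨b, hb⟩ := hy
        exact ⟨a + b, by rw [map_add, ha, hb, add_pow_char_pow]⟩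
      | inv x _ hx =>
        obtain ⟨a, ha⟩ := hx
        exact ⟨a⁻¹, by rw [map_inv₀, ha, inv_pow]⟩
      | mul x y _ _ hx hy =>
        obtain ⟨a, ha⟩ := hx
        obtain ⟨b, hb⟩ := hy
        exact ⟨a * b, by rw [map_mul, ha, hb, mul_pow]⟩
    intro d
    obtain ⟨c, hc⟩ := key d.1 d.2
    refine ⟨c, ?_⟩
    apply Subtype.ext
    simpa using hc.symm
  have hinj : Function.Injective (algebraMap K Ω) := (algebraMap K Ω).injective
  constructor
  · intro h x₀
    have hmem : algebraMap K Ω x₀ ∈ F ⊔ IntermediateField.adjoin k (Set.range (algebraMap K Ω)) :=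
      (le_sup_right : _ ≤ F ⊔ _) (IntermediateField.subset_adjoin k _ ⟨x₀, rfl⟩)
    have h1 := isSeparable_pow (k := k) (F := F) (Ω := Ω) p e R2 _ (h _ hmem)
    rw [mem_separableClosure_iff]
    rw [← map_pow] at h1
    unfold IsSeparable at h1 ⊢
    rwa [minpoly.algebraMap_eq hinj] at h1
  · intro h x hx
    have hle : F ⊔ IntermediateField.adjoin k (Set.range (algebraMap K Ω)) ≤
        (separableClosure F Ω).restrictScalars k := by
      refine sup_le ?_ ?_
      · intro z hz
        exact (separableClosure F Ω).algebraMap_mem ⟨z, hz⟩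
      · rw [IntermediateField.adjoin_le_iff]
        rintro _ ⟨x₀, rfl⟩
        change algebraMap K Ω x₀ ∈ separableClosure F Ω
        rw [mem_separableClosure_iff]
        apply isSeparable_of_pow (k := k) (F := F) (Ω := Ω) p e R1
        rw [← map_pow]
        have h2 := h x₀
        rw [mem_separableClosure_iff] at h2
        unfold IsSeparable at h2 ⊢
        rwa [minpoly.algebraMap_eq hinj]
    have := hle hx
    exact mem_separableClosure_iff.mp this

end Main

end Groth.Agent.Lib.SepExponent
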