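/-
helper37: pure algebra for "generically a hypersurface": a finitely generated field extension `K/k` with a
separating transcendence basis `s₁..s_d` is the fraction field of `k[T₁..T_d][T]/(g)` for a monic `g` which is
irreducible and separable over `k(T₁..T_d)`.
-/
import Mathlib

set_option autoImplicit false
set_option linter.style.haveILetI false
set_option linter.deprecated false
universe u
open Polynomial

namespace Groth.Agent.Lib.SepGenHypersurface

lemma separable_map_fractionRing {R F : Type*} [CommRing R] [IsDomain R] [Field F] [Algebra R F]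
    [IsFractionRing R F] (g : R[X]) (h : (g.map (algebraMap R F)).Separable) :
    (g.map (algebraMap R (FractionRing R))).Separable := by
  let e := FractionRing.algEquiv R F
  have he : (e : FractionRing R →+* F).comp (algebraMap R (FractionRing R)) = algebraMap R F :=
    RingHom.ext fun r => e.commutes r
  rw [← Polynomial.separable_map (e : FractionRing R →+* F), Polynomial.map_map, he]
  exact h

/-- core algebraic statement, with abstract base ring `R` and fraction field `F`. -/
theorem core {k R F K : Type*} [Field k] [CommRing R] [IsDomain R] [IsIntegrallyClosed R]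
    [Field F] [Field K] [Algebra k R] [Algebra R F] [IsFractionRing R F] [Algebra R K]
    [Algebra F K] [IsScalarTower R F K] [Algebra k K] [IsScalarTower k R K]
    [Module.Finite F K] [Algebra.IsSeparable F K] :
    ∃ (g : R[X]), g.Monic ∧ Irreducible (g.map (algebraMap R (FractionRing R))) ∧
      (g.map (algebraMap R (FractionRing R))).Separable ∧ Prime g ∧
      ∃ ψ : AdjoinRoot g →ₐ[k] K, Function.Injective ψ ∧
        ∀ z : K, ∃ a b : AdjoinRoot g, b ≠ 0 ∧ z = ψ a / ψ b := by
  classical
  have hinjF : Function.Injective (algebraMap R F) := IsFractionRing.injective R F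
  have hinjK : Function.Injective (algebraMap R K) := by
    rw [IsScalarTower.algebraMap_eq R F K]
    exact (algebraMap F K).injective.comp hinjF
  have : Module.IsTorsionFree R K := Module.isTorsionFree_iff_algebraMap_injective.mpr hinjK
  obtain ⟨θ, hθ⟩ := Field.exists_primitive_element F K
  have hθalg : IsAlgebraic R θ :=
    (IsFractionRing.isAlgebraic_iff R F K).mpr (Algebra.IsAlgebraic.isAlgebraic θ)
  obtain ⟨D, hD0, hDint⟩ := hθalg.exists_integral_multiple
  set θ' : K := D • θ with hθ'
  let g : Polynomial R := minpoly R θ'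
  have hgmonic : g.Monic := minpoly.monic hDint
  have hgprime : Prime g := minpoly.prime_of_isIntegrallyClosed hDint
  have hgF : minpoly F θ' = g.map (algebraMap R F) :=
    minpoly.isIntegrallyClosed_eq_field_fractions' F hDint
  have hsepF : (g.map (algebraMap R F)).Separable := by
    rw [← hgF]
    exact Algebra.IsSeparable.isSeparable F θ'
  have hirr : Irreducible (g.map (algebraMap R (FractionRing R))) :=
    (Monic.irreducible_iff_irreducible_map_fraction_map hgmonic).mp hgprime.irreducible
  have hsepFR := separable_map_fractionRing g hsepF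
  refine ⟨g, hgmonic, hirr, hsepFR, hgprime, ?_⟩
  let i : R →ₐ[k] K := IsScalarTower.toAlgHom k R K
  have hi : ∀ q : R[X], eval₂ (i : R →+* K) θ' q = aeval θ' q := fun q => rfl
  let ψ : AdjoinRoot g →ₐ[k] K := AdjoinRoot.liftAlgHom g i θ' (by
    rw [hi]; exact minpoly.aeval R θ')
  have hψmk : ∀ q : R[X], ψ (AdjoinRoot.mk g q) = aeval θ' q := fun q => rfl
  have hψinj : Function.Injective ψ := by
    rw [injective_iff_map_eq_zero]
    intro a ha
    obtain ⟨q, rfl⟩ := AdjoinRoot.mk_surjective a
    rw [hψmk] at ha
    exact AdjoinRoot.mk_eq_zero.mpr (minpoly.isIntegrallyClosed_dvd hDint ha)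
  refine ⟨ψ, hψinj, fun z => ?_⟩
  -- `K = F(θ')`
  have hDK : algebraMap R K D ≠ 0 := fun h => hD0 (hinjK (by rw [h, map_zero]))
  have hθmem : θ ∈ IntermediateField.adjoin F {θ'} := by
    have h1 : algebraMap R K D ∈ IntermediateField.adjoin F {θ'} := by
      rw [IsScalarTower.algebraMap_apply R F K]
      exact IntermediateField.algebraMap_mem _ _
    have h2 : θ = (algebraMap R K D)⁻¹ * θ' := by
      rw [hθ', Algebra.smul_def, ← mul_assoc, inv_mul_cancel₀ hDK, one_mul]
    rw [h2]
    exact mul_mem (inv_mem h1) (IntermediateField.mem_adjoin_simple_self F θ')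
  have htop : IntermediateField.adjoin F {θ'} = ⊤ := by
    rw [eq_top_iff, ← hθ, IntermediateField.adjoin_simple_le_iff]
    exact hθmem
  have hz : z ∈ (IntermediateField.adjoin F {θ'}).toSubalgebra := by
    rw [htop]; trivial
  rw [IntermediateField.adjoin_toSubalgebra, Algebra.adjoin_singleton_eq_range_aeval] at hz
  obtain ⟨p, rfl⟩ := hz
  obtain ⟨b, hb⟩ := IsLocalization.integerNormalization_map_to_map (nonZeroDivisors R) p
  set q := IsLocalization.integerNormalization (nonZeroDivisors R) p
  have hbK : algebraMap R K (b : R) ≠ 0 := fun h =>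
    (nonZeroDivisors.ne_zero b.2) (hinjK (by rw [h, map_zero]))
  have hq : aeval θ' q = algebraMap R K (b : R) * aeval θ' p := by
    have h3 : ((b : R) • p : F[X]) = C (algebraMap R F (b : R)) * p := by
      rw [← algebraMap_smul F (b : R) p, Polynomial.smul_eq_C_mul]
    rw [← Polynomial.aeval_map_algebraMap F θ' q, hb, h3, map_mul, aeval_C,
      ← IsScalarTower.algebraMap_apply]
  refine ⟨AdjoinRoot.mk g q, AdjoinRoot.of g (b : R), ?_, ?_⟩
  · intro h
    have : ψ (AdjoinRoot.of g (b : R)) = 0 := by rw [h, map_zero]
    rw [← AdjoinRoot.mk_C, hψmk, aeval_C] at this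
    exact hbK this
  · have h1 : ψ (AdjoinRoot.of g (b : R)) = algebraMap R K (b : R) := by
      rw [← AdjoinRoot.mk_C, hψmk, aeval_C]
    rw [h1, hψmk, hq, mul_div_cancel_left₀ _ hbK]
    rfl

/-- Pure algebra: a finitely generated field extension with a separating transcendence basis is the
fraction field of a hypersurface ring `k[T₁..T_d][T]/(g)`. -/
theorem alg_main (k K : Type*) [Field k] [Field K] [Algebra k K] [Algebra.EssFiniteType k K]
    (d : ℕ) (s : Fin d → K) (hs : IsTranscendenceBasis k s)
    (hsep : Algebra.IsSeparable ↥(IntermediateField.adjoin k (Set.range s)) K) :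
    ∃ (g : Polynomial (MvPolynomial (Fin d) k)), g.Monic ∧
      Irreducible (g.map (algebraMap (MvPolynomial (Fin d) k) (FractionRing (MvPolynomial (Fin d) k)))) ∧
      (g.map (algebraMap (MvPolynomial (Fin d) k) (FractionRing (MvPolynomial (Fin d) k)))).Separable ∧
      Prime g ∧
      ∃ ψ : AdjoinRoot g →ₐ[k] K, Function.Injective ψ ∧
        ∀ z : K, ∃ a b : AdjoinRoot g, b ≠ 0 ∧ z = ψ a / ψ b := by
  classical
  let R := MvPolynomial (Fin d) k
  let F := IntermediateField.adjoin k (Set.range s)
  letI algRK : Algebra R K := (MvPolynomial.aeval s).toRingHom.toAlgebra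
  have hRK : ∀ r : R, algebraMap R K r = MvPolynomial.aeval s r := fun _ => rfl
  haveI : IsScalarTower k R K := IsScalarTower.of_algebraMap_eq (fun c => by
    rw [hRK, MvPolynomial.algebraMap_eq, MvPolynomial.aeval_C])
  let sF : Fin d → F := fun i => ⟨s i, IntermediateField.subset_adjoin k _ ⟨i, rfl⟩⟩
  letI algRF : Algebra R F := (MvPolynomial.aeval sF).toRingHom.toAlgebra
  have hRF : ∀ r : R, algebraMap R F r = MvPolynomial.aeval sF r := fun _ => rfl
  have hFK : ∀ r : R, ((MvPolynomial.aeval sF r : F) : K) = MvPolynomial.aeval s r := by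
    intro r
    have : (F.val.comp (MvPolynomial.aeval sF)) = MvPolynomial.aeval s := by
      rw [MvPolynomial.comp_aeval]
      rfl
    exact DFunLike.congr_fun this r
  haveI : IsScalarTower R F K := IsScalarTower.of_algebraMap_eq (fun r => by
    rw [hRK, hRF]; exact (hFK r).symm)
  have hinjK : Function.Injective (algebraMap R K) := hs.1
  have hinjF : Function.Injective (algebraMap R F) := by
    intro a b hab
    apply hinjK
    rw [IsScalarTower.algebraMap_apply R F K, hab, ← IsScalarTower.algebraMap_apply R F K]
  haveI : FaithfulSMul R F := (faithfulSMul_iff_algebraMap_injective R F).mpr hinjF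
  haveI : IsFractionRing R F := IsFractionRing.of_field R F (fun z => by
    obtain ⟨r, t, h⟩ := (IntermediateField.mem_adjoin_range_iff k s z.1).mp z.2
    refine ⟨r, t, Subtype.ext ?_⟩
    rw [h, hRF, hRF]
    push_cast
    rw [hFK, hFK])
  haveI : Algebra.IsAlgebraic F K := hs.isAlgebraic_field
  haveI : Algebra.EssFiniteType F K := Algebra.EssFiniteType.of_comp k F K
  haveI : Module.Finite F K := Algebra.finite_of_essFiniteType_of_isAlgebraic
  exact core (k := k) (R := R) (F := F) (K := K)

end Groth.Agent.Lib.SepGenHypersurface
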