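import Groth.Agent.Lib.H69AlgSp
import Groth.Agent.Lib.H69DescentFpqc
import Groth.Agent.Lib.H86Coprod
import Groth.Agent.Lib.EffDescBasicH52
import Groth.Prelude.Def_Desc

/-!
# Representability of a sheaf is fppf local on the base, given effective descent (helper46)

Let `e : E ⟶ h_T` be a map of fppf sheaves over `S`, `π : T' ⟶ T` an fppf covering and suppose that
`E ×_{h_T} h_{T'}` is represented by a scheme `Z'` over `T'`.  Then `Z' ⟶ T'` carries a canonical descent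
datum relative to `π` (`descDatum`), and if it is effective, with descended scheme `Z ⟶ T`, then `E ≅ h_Z`
(`exists_iso_of_effective`).
-/

set_option autoImplicit false
universe u

namespace Groth.Agent.Lib.SheafDescRep46

open CategoryTheory CategoryTheory.Limits AlgebraicGeometry Opposite AlgSp Desc
open Groth.Agent.Lib.H69AlgSp

variable {S : Scheme.{u}}

/-- Descent of a map along a surjection of sheaves, tested on `h_W`-points. -/
theorem exists_desc_of_forall_yon {A F G : Sp S} (u : A ⟶ F) [Sheaf.IsLocallySurjective u] (x : A ⟶ G)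
    (hx : ∀ (W : Over S) (g₁ g₂ : (yon S).obj W ⟶ A), g₁ ≫ u = g₂ ≫ u → g₁ ≫ x = g₂ ≫ x) :
    ∃ ψ : F ⟶ G, u ≫ ψ = x := by
  have : Epi u := inferInstance
  have : IsRegularEpi u := IsRegularEpiCategory.regularEpiOfEpi u
  have : EffectiveEpi u := inferInstance
  have hd : ∀ {Z : Sp S} (g₁ g₂ : Z ⟶ A), g₁ ≫ u = g₂ ≫ u → g₁ ≫ x = g₂ ≫ x := by
    intro Z g₁ g₂ h
    apply hom_ext_yon
    intro W c
    rw [← Category.assoc, ← Category.assoc]
    exact hx W (c ≫ g₁) (c ≫ g₂) (by rw [Category.assoc, Category.assoc, h])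
  exact ⟨EffectiveEpi.desc u x hd, EffectiveEpi.fac u x hd⟩

/-- Two sheaves receiving surjections from the same sheaf with the same kernel relation on `h_W`-points are
isomorphic. -/
theorem exists_iso_of_same_kernel {A F G : Sp S} (u : A ⟶ F) (v : A ⟶ G)
    [Sheaf.IsLocallySurjective u] [Sheaf.IsLocallySurjective v]
    (h : ∀ (W : Over S) (g₁ g₂ : (yon S).obj W ⟶ A), g₁ ≫ u = g₂ ≫ u ↔ g₁ ≫ v = g₂ ≫ v) :
    ∃ θ : F ≅ G, u ≫ θ.hom = v := by
  obtain ⟨ψ₁, h₁⟩ := exists_desc_of_forall_yon u v (fun W g₁ g₂ hg => (h W g₁ g₂).1 hg)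
  obtain ⟨ψ₂, h₂⟩ := exists_desc_of_forall_yon v u (fun W g₁ g₂ hg => (h W g₁ g₂).2 hg)
  have : Epi u := inferInstance
  have : Epi v := inferInstance
  refine ⟨⟨ψ₁, ψ₂, ?_, ?_⟩, h₁⟩
  · rw [← cancel_epi u, ← Category.assoc, h₁, h₂, Category.comp_id]
  · rw [← cancel_epi v, ← Category.assoc, h₂, h₁, Category.comp_id]

section Core

variable {T T' Z' : Over S} {π : T' ⟶ T} {E : Sp S} {e : E ⟶ (yon S).obj T} {ζ : Z' ⟶ T'}
  {a : (yon S).obj Z' ⟶ E}

/-- Points of `Z'` are determined by their images in `E` and in `T'`. -/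
theorem hom_ext_of_sq (sq : IsPullback a ((yon S).map ζ) e ((yon S).map π)) {W : Over S} (m m' : W ⟶ Z')
    (h₁ : (yon S).map m ≫ a = (yon S).map m' ≫ a) (h₂ : m ≫ ζ = m' ≫ ζ) : m = m' := by
  apply (yon S).map_injective
  apply sq.hom_ext h₁
  rw [← Functor.map_comp, ← Functor.map_comp, h₂]

/-- The point of `Z'` over `x₁` with the same image in `E` as `m`. -/
noncomputable def tw (sq : IsPullback a ((yon S).map ζ) e ((yon S).map π)) {W : Over S} (m : W ⟶ Z')
    (x₁ : W ⟶ T') (h : m ≫ ζ ≫ π = x₁ ≫ π) : W ⟶ Z' :=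
  (yon S).preimage (sq.lift ((yon S).map m ≫ a) ((yon S).map x₁) (by
    rw [Category.assoc, sq.w, ← Functor.map_comp, ← Functor.map_comp, ← Functor.map_comp, h]))

theorem tw_a (sq : IsPullback a ((yon S).map ζ) e ((yon S).map π)) {W : Over S} (m : W ⟶ Z')
    (x₁ : W ⟶ T') (h : m ≫ ζ ≫ π = x₁ ≫ π) :
    (yon S).map (tw sq m x₁ h) ≫ a = (yon S).map m ≫ a := by
  rw [tw, Functor.map_preimage, sq.lift_fst]

theorem tw_ζ (sq : IsPullback a ((yon S).map ζ) e ((yon S).map π)) {W : Over S} (m : W ⟶ Z')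
    (x₁ : W ⟶ T') (h : m ≫ ζ ≫ π = x₁ ≫ π) : tw sq m x₁ h ≫ ζ = x₁ := by
  apply (yon S).map_injective
  rw [Functor.map_comp, tw, Functor.map_preimage, sq.lift_snd]

variable (a) in
/-- Two `W`-points of `Z'` (morphisms of plain schemes) have the same image in `E`. -/
def SameA {W : Scheme.{u}} (v v' : W ⟶ Z'.left) : Prop :=
  ∃ (w : W ⟶ S) (hv : v ≫ Z'.hom = w) (hv' : v' ≫ Z'.hom = w),
    (yon S).map (Over.homMk v hv : Over.mk w ⟶ Z') ≫ a =
      (yon S).map (Over.homMk v' hv' : Over.mk w ⟶ Z') ≫ a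

theorem sameA_refl {W : Scheme.{u}} (v : W ⟶ Z'.left) : SameA a v v := ⟨v ≫ Z'.hom, rfl, rfl, rfl⟩

theorem sameA_symm {W : Scheme.{u}} {v v' : W ⟶ Z'.left} (h : SameA a v v') : SameA a v' v := by
  obtain ⟨w, hv, hv', h⟩ := h
  exact ⟨w, hv', hv, h.symm⟩

theorem sameA_trans {W : Scheme.{u}} {v v' v'' : W ⟶ Z'.left} (h : SameA a v v') (h' : SameA a v' v'') :
    SameA a v v'' := by
  obtain ⟨w, hv, hv', h⟩ := h
  obtain ⟨w', hv'', hv''', h'⟩ := h'
  obtain rfl : w = w' := hv'.symm.trans hv''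
  exact ⟨w, hv, hv''', h.trans h'⟩

theorem sameA_comp {W W' : Scheme.{u}} (g : W' ⟶ W) {v v' : W ⟶ Z'.left} (h : SameA a v v') :
    SameA a (g ≫ v) (g ≫ v') := by
  obtain ⟨w, hv, hv', h⟩ := h
  refine ⟨g ≫ w, by rw [Category.assoc, hv], by rw [Category.assoc, hv'], ?_⟩
  have e1 : (Over.homMk (g ≫ v) (by rw [Category.assoc, hv]; rfl) : Over.mk (g ≫ w) ⟶ Z') =
      (Over.homMk g rfl : Over.mk (g ≫ w) ⟶ Over.mk w) ≫ Over.homMk v hv := by
    ext; rfl
  have e2 : (Over.homMk (g ≫ v') (by rw [Category.assoc, hv']; rfl) : Over.mk (g ≫ w) ⟶ Z') =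
      (Over.homMk g rfl : Over.mk (g ≫ w) ⟶ Over.mk w) ≫ Over.homMk v' hv' := by
    ext; rfl
  rw [e1, e2, Functor.map_comp, Functor.map_comp, Category.assoc, Category.assoc, h]

theorem eq_of_sameA (sq : IsPullback a ((yon S).map ζ) e ((yon S).map π)) {W : Scheme.{u}}
    {v v' : W ⟶ Z'.left} (h : SameA a v v') (hζ : v ≫ ζ.left = v' ≫ ζ.left) : v = v' := by
  obtain ⟨w, hv, hv', h⟩ := h
  have := hom_ext_of_sq sq (Over.homMk v hv : Over.mk w ⟶ Z') (Over.homMk v' hv') h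
    (Over.OverMorphism.ext hζ)
  exact congrArg (fun k => k.left) this

theorem exists_tw (sq : IsPullback a ((yon S).map ζ) e ((yon S).map π)) {W : Scheme.{u}}
    (x₁ : W ⟶ T'.left) (v : W ⟶ Z'.left) (h : v ≫ ζ.left ≫ π.left = x₁ ≫ π.left) :
    ∃ v' : W ⟶ Z'.left, v' ≫ ζ.left = x₁ ∧ SameA a v v' := by
  have hx₁ : x₁ ≫ T'.hom = v ≫ Z'.hom := by
    rw [← Over.w π, ← Over.w ζ, ← Over.w π, ← Category.assoc, ← h]
    simp only [Category.assoc]
  let m : Over.mk (v ≫ Z'.hom) ⟶ Z' := Over.homMk v rfl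
  let x₁o : Over.mk (v ≫ Z'.hom) ⟶ T' := Over.homMk x₁ hx₁
  have hm : m ≫ ζ ≫ π = x₁o ≫ π := Over.OverMorphism.ext h
  refine ⟨(tw sq m x₁o hm).left, ?_, v ≫ Z'.hom, rfl, Over.w (tw sq m x₁o hm), ?_⟩
  · exact congrArg (fun k => k.left) (tw_ζ sq m x₁o hm)
  · exact (tw_a sq m x₁o hm).symm

/-- The twist on plain schemes. -/
noncomputable def twL (sq : IsPullback a ((yon S).map ζ) e ((yon S).map π)) {W : Scheme.{u}}
    (x₁ : W ⟶ T'.left) (v : W ⟶ Z'.left) (h : v ≫ ζ.left ≫ π.left = x₁ ≫ π.left) : W ⟶ Z'.left :=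
  (exists_tw sq x₁ v h).choose

theorem twL_ζ (sq : IsPullback a ((yon S).map ζ) e ((yon S).map π)) {W : Scheme.{u}}
    (x₁ : W ⟶ T'.left) (v : W ⟶ Z'.left) (h : v ≫ ζ.left ≫ π.left = x₁ ≫ π.left) :
    twL sq x₁ v h ≫ ζ.left = x₁ := (exists_tw sq x₁ v h).choose_spec.1

theorem sameA_twL (sq : IsPullback a ((yon S).map ζ) e ((yon S).map π)) {W : Scheme.{u}}
    (x₁ : W ⟶ T'.left) (v : W ⟶ Z'.left) (h : v ≫ ζ.left ≫ π.left = x₁ ≫ π.left) :
    SameA a v (twL sq x₁ v h) := (exists_tw sq x₁ v h).choose_spec.2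

theorem eq_twL (sq : IsPullback a ((yon S).map ζ) e ((yon S).map π)) {W : Scheme.{u}}
    (x₁ : W ⟶ T'.left) (v : W ⟶ Z'.left) (h : v ≫ ζ.left ≫ π.left = x₁ ≫ π.left)
    (v' : W ⟶ Z'.left) (hv' : v' ≫ ζ.left = x₁) (hs : SameA a v v') : v' = twL sq x₁ v h :=
  eq_of_sameA sq (sameA_trans (sameA_symm hs) (sameA_twL sq x₁ v h)) (by rw [hv', twL_ζ])

theorem lift_cond {W : Scheme.{u}} {x₀ x₁ : W ⟶ T'.left} (h : x₀ ≫ π.left = x₁ ≫ π.left)
    (v : Lifts (Over.mk ζ.left) x₀) : v.1 ≫ ζ.left ≫ π.left = x₁ ≫ π.left := by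
  have := v.2
  change v.1 ≫ ζ.left = x₀ at this
  rw [← Category.assoc, this, h]

/-- The gluing map of the canonical descent datum. -/
noncomputable def φfun (sq : IsPullback a ((yon S).map ζ) e ((yon S).map π)) {W : Scheme.{u}}
    (x₀ x₁ : W ⟶ T'.left) (h : x₀ ≫ π.left = x₁ ≫ π.left) (v : Lifts (Over.mk ζ.left) x₀) :
    Lifts (Over.mk ζ.left) x₁ :=
  ⟨twL sq x₁ v.1 (lift_cond h v), twL_ζ sq x₁ v.1 (lift_cond h v)⟩

theorem sameA_φfun (sq : IsPullback a ((yon S).map ζ) e ((yon S).map π)) {W : Scheme.{u}}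
    (x₀ x₁ : W ⟶ T'.left) (h : x₀ ≫ π.left = x₁ ≫ π.left) (v : Lifts (Over.mk ζ.left) x₀) :
    SameA a v.1 (φfun sq x₀ x₁ h v).1 := sameA_twL sq x₁ v.1 (lift_cond h v)

theorem lifts_ext_of_sameA (sq : IsPullback a ((yon S).map ζ) e ((yon S).map π)) {W : Scheme.{u}}
    {x : W ⟶ T'.left} (v v' : Lifts (Over.mk ζ.left) x) (h : SameA a v.1 v'.1) : v = v' :=
  Subtype.ext (eq_of_sameA sq h (v.2.trans v'.2.symm))

/-- The canonical descent datum on `Z' ⟶ T'` relative to `π`, when `h_{Z'} = E ×_{h_T} h_{T'}`. -/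
noncomputable def descDatum (sq : IsPullback a ((yon S).map ζ) e ((yon S).map π)) : SchDD π.left where
  obj := Over.mk ζ.left
  φ W x₀ x₁ h :=
    { toFun := φfun sq x₀ x₁ h
      invFun := φfun sq x₁ x₀ h.symm
      left_inv := fun v => lifts_ext_of_sameA sq _ _
        (sameA_symm (sameA_trans (sameA_φfun sq x₀ x₁ h v) (sameA_φfun sq x₁ x₀ h.symm _)))
      right_inv := fun v => lifts_ext_of_sameA sq _ _
        (sameA_symm (sameA_trans (sameA_φfun sq x₁ x₀ h.symm v) (sameA_φfun sq x₀ x₁ h _))) }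
  φ_natural W W' g x₀ x₁ h h' v v' hv' := by
    have h1 : SameA a v'.1 (φfun sq (g ≫ x₀) (g ≫ x₁) h' v').1 := sameA_φfun sq _ _ h' v'
    have h2 : SameA a (g ≫ v.1) (g ≫ (φfun sq x₀ x₁ h v).1) := sameA_comp g (sameA_φfun sq _ _ h v)
    rw [← hv'] at h2
    refine eq_of_sameA sq (sameA_trans (sameA_symm h1) h2) ?_
    have e1 := (φfun sq (g ≫ x₀) (g ≫ x₁) h' v').2
    have e2 := (φfun sq x₀ x₁ h v).2
    change _ ≫ ζ.left = g ≫ x₁ at e1
    change _ ≫ ζ.left = x₁ at e2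
    change (φfun sq (g ≫ x₀) (g ≫ x₁) h' v').1 ≫ ζ.left = (g ≫ (φfun sq x₀ x₁ h v).1) ≫ ζ.left
    rw [e1, Category.assoc, e2]
  φ_self W x v := lifts_ext_of_sameA sq _ _ (sameA_symm (sameA_φfun sq x x rfl v))
  φ_comp W x₀ x₁ x₂ h₀₁ h₁₂ v := lifts_ext_of_sameA sq _ _
    (sameA_trans (sameA_symm (sameA_trans (sameA_φfun sq x₀ x₁ h₀₁ v) (sameA_φfun sq x₁ x₂ h₁₂ _)))
      (sameA_φfun sq x₀ x₂ (h₀₁.trans h₁₂) v))

theorem descDatum_obj (sq : IsPullback a ((yon S).map ζ) e ((yon S).map π)) :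
    (descDatum sq).obj = Over.mk ζ.left := rfl

/-- From `SameA` for the underlying morphisms of two points over `S` to equality of their images in `E`. -/
theorem comp_a_eq_of_sameA {W : Over S} (m₁ m₂ : W ⟶ Z') (h : SameA a m₁.left m₂.left) :
    (yon S).map m₁ ≫ a = (yon S).map m₂ ≫ a := by
  obtain ⟨w, hv, hv', h⟩ := h
  obtain rfl : w = W.hom := hv.symm.trans (Over.w m₁)
  exact h

theorem sameA_of_comp_a_eq {W : Over S} (m₁ m₂ : W ⟶ Z')
    (h : (yon S).map m₁ ≫ a = (yon S).map m₂ ≫ a) : SameA a m₁.left m₂.left :=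
  ⟨W.hom, Over.w m₁, Over.w m₂, h⟩

/-- **Representability from effective descent.**  If the canonical descent datum on `Z' ⟶ T'` is effective, with
descended scheme `Z ⟶ T`, then `E ≅ h_Z`, compatibly with the maps to `h_T`. -/
theorem exists_iso_of_effective (sq : IsPullback a ((yon S).map ζ) e ((yon S).map π))
    [Flat π.left] [LocallyOfFinitePresentation π.left] [Surjective π.left]
    (Z : Over T.left) (Ψ : (toDD π.left).obj Z ≅ descDatum sq) :
    ∃ θ : (yon S).obj (Over.mk (Z.hom ≫ T.hom)) ≅ E,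
      θ.hom ≫ e = (yon S).map (Over.homMk Z.hom rfl : Over.mk (Z.hom ≫ T.hom) ⟶ T) := by
  let ψ : pullback π.left Z.hom ⟶ Z'.left := Ψ.hom.hom.left
  let ψi : Z'.left ⟶ pullback π.left Z.hom := Ψ.inv.hom.left
  have hψψi : ψ ≫ ψi = 𝟙 _ := by
    have := congrArg (fun k => k.hom.left) Ψ.hom_inv_id
    exact this
  have hψiψ : ψi ≫ ψ = 𝟙 _ := by
    have := congrArg (fun k => k.hom.left) Ψ.inv_hom_id
    exact this
  have hψζ : ψ ≫ ζ.left = pullback.fst π.left Z.hom := Over.w Ψ.hom.hom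
  have hψiζ : ψi ≫ pullback.fst π.left Z.hom = ζ.left := Over.w Ψ.inv.hom
  let u₀ : Z'.left ⟶ Z.left := ψi ≫ pullback.snd π.left Z.hom
  have hu₀ : u₀ ≫ Z.hom = ζ.left ≫ π.left := by
    rw [Category.assoc, ← pullback.condition, ← Category.assoc, hψiζ]
  have hu₀S : u₀ ≫ Z.hom ≫ T.hom = Z'.hom := by
    rw [← Category.assoc, hu₀, Category.assoc, Over.w π, Over.w ζ]
  let u : Z' ⟶ Over.mk (Z.hom ≫ T.hom) := Over.homMk u₀ hu₀S
  haveI : IsIso ψi := ⟨ψ, hψiψ, hψψi⟩
  have hfl : Flat u.left := by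
    change Flat (ψi ≫ pullback.snd π.left Z.hom)
    infer_instance
  have hlfp : LocallyOfFinitePresentation u.left := by
    change LocallyOfFinitePresentation (ψi ≫ pullback.snd π.left Z.hom)
    infer_instance
  have hsurj : Surjective u.left := by
    change Surjective (ψi ≫ pullback.snd π.left Z.hom)
    infer_instance
  haveI : Sheaf.IsLocallySurjective ((yon S).map u) :=
    isLocallySurjective_of_repWith _ ((repWith_yon_map_iff @Flat u).2 hfl)
      ((repWith_yon_map_iff @LocallyOfFinitePresentation u).2 hlfp)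
      ((repWith_yon_map_iff @Surjective u).2 hsurj)
  haveI : Sheaf.IsLocallySurjective a :=
    isLocallySurjective_of_repWith a
      (MorphismProperty.of_isPullback sq.flip ((repWith_yon_map_iff @Flat π).2 inferInstance))
      (MorphismProperty.of_isPullback sq.flip
        ((repWith_yon_map_iff @LocallyOfFinitePresentation π).2 inferInstance))
      (MorphismProperty.of_isPullback sq.flip ((repWith_yon_map_iff @Surjective π).2 inferInstance))
  -- the key computation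
  have hcond : ∀ (W : Over S) (m₁ m₂ : W ⟶ Z')
      (_ : (m₁.left ≫ ζ.left) ≫ π.left = (m₂.left ≫ ζ.left) ≫ π.left),
      (m₂.left ≫ ζ.left) ≫ π.left = (m₁.left ≫ u₀) ≫ Z.hom := by
    intro W m₁ m₂ hπ
    have h1 : (m₁.left ≫ u₀) ≫ Z.hom = m₁.left ≫ ζ.left ≫ π.left := by rw [Category.assoc, hu₀]
    rw [h1, ← Category.assoc, hπ]
  have hζu : ∀ (W : Over S) (m : W ⟶ Z'), (m.left ≫ ζ.left) ≫ π.left = (m.left ≫ u₀) ≫ Z.hom := by
    intro W m
    rw [Category.assoc, Category.assoc, hu₀]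
  have key : ∀ (W : Over S) (m₁ m₂ : W ⟶ Z')
      (hπ : (m₁.left ≫ ζ.left) ≫ π.left = (m₂.left ≫ ζ.left) ≫ π.left),
      ((descDatum sq).φ (m₁.left ≫ ζ.left) (m₂.left ≫ ζ.left) hπ ⟨m₁.left, rfl⟩).1 =
        pullback.lift (m₂.left ≫ ζ.left) (m₁.left ≫ u₀) (hcond W m₁ m₂ hπ) ≫ ψ := by
    intro W m₁ m₂ hπ
    have hv : (m₁.left ≫ ψi) ≫ pullback.fst π.left Z.hom = m₁.left ≫ ζ.left := by
      rw [Category.assoc, hψiζ]
    have := Ψ.hom.comm (m₁.left ≫ ζ.left) (m₂.left ≫ ζ.left) hπ ⟨m₁.left ≫ ψi, hv⟩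
      ⟨m₁.left, rfl⟩ (by
        change m₁.left = (m₁.left ≫ ψi) ≫ ψ
        rw [Category.assoc, hψiψ, Category.comp_id])
    have e1 : (((toDD π.left).obj Z).φ (m₁.left ≫ ζ.left) (m₂.left ≫ ζ.left) hπ
        ⟨m₁.left ≫ ψi, hv⟩).1 =
        pullback.lift (m₂.left ≫ ζ.left) (m₁.left ≫ u₀) (hcond W m₁ m₂ hπ) := by
      change (canMap π.left Z _ _ hπ ⟨m₁.left ≫ ψi, hv⟩).1 = _
      rw [canMap_val]
      apply pullback.hom_ext
      · rw [pullback.lift_fst, pullback.lift_fst]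
      · rw [pullback.lift_snd, pullback.lift_snd, Category.assoc]
    rw [this, e1]
    rfl
  have hker : ∀ (W : Over S) (g₁ g₂ : (yon S).obj W ⟶ (yon S).obj Z'),
      g₁ ≫ (yon S).map u = g₂ ≫ (yon S).map u ↔ g₁ ≫ a = g₂ ≫ a := by
    intro W g₁ g₂
    obtain ⟨m₁, rfl⟩ := (yon S).map_surjective g₁
    obtain ⟨m₂, rfl⟩ := (yon S).map_surjective g₂
    constructor
    · intro h
      rw [← Functor.map_comp, ← Functor.map_comp] at h
      have hu : m₁.left ≫ u₀ = m₂.left ≫ u₀ := congrArg (fun k => k.left) ((yon S).map_injective h)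
      have hπ : (m₁.left ≫ ζ.left) ≫ π.left = (m₂.left ≫ ζ.left) ≫ π.left := by
        rw [hζu W m₁, hζu W m₂, hu]
      have hk := key W m₁ m₂ hπ
      have h2 : m₂.left = pullback.lift (m₂.left ≫ ζ.left) (m₁.left ≫ u₀) (hcond W m₁ m₂ hπ) ≫ ψ := by
        have : m₂.left ≫ ψi = pullback.lift (m₂.left ≫ ζ.left) (m₁.left ≫ u₀) (hcond W m₁ m₂ hπ) := by
          apply pullback.hom_ext
          · rw [Category.assoc, hψiζ, pullback.lift_fst]
          · rw [pullback.lift_snd, hu, Category.assoc]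
        rw [← this, Category.assoc, hψiψ, Category.comp_id]
      apply comp_a_eq_of_sameA
      rw [h2, ← hk]
      exact sameA_φfun sq _ _ hπ ⟨m₁.left, rfl⟩
    · intro h
      have hs := sameA_of_comp_a_eq m₁ m₂ h
      have hπ : (m₁.left ≫ ζ.left) ≫ π.left = (m₂.left ≫ ζ.left) ≫ π.left := by
        have h1 := congrArg (fun k => k ≫ e) h
        simp only [Category.assoc, sq.w] at h1
        simp only [← Functor.map_comp] at h1
        have h3 : m₁.left ≫ ζ.left ≫ π.left = m₂.left ≫ ζ.left ≫ π.left :=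
          congrArg (fun k => k.left) ((yon S).map_injective h1)
        rw [Category.assoc, Category.assoc]
        exact h3
      have hk := key W m₁ m₂ hπ
      have h2 : m₂.left = ((descDatum sq).φ (m₁.left ≫ ζ.left) (m₂.left ≫ ζ.left) hπ ⟨m₁.left, rfl⟩).1 :=
        eq_twL sq (m₂.left ≫ ζ.left) m₁.left
          (lift_cond hπ (⟨m₁.left, rfl⟩ : Lifts (Over.mk ζ.left) (m₁.left ≫ ζ.left))) m₂.left rfl hs
      rw [← Functor.map_comp, ← Functor.map_comp]
      congr 1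
      apply Over.OverMorphism.ext
      change m₁.left ≫ u₀ = m₂.left ≫ u₀
      rw [h2, hk, Category.assoc]
      change _ = _ ≫ ψ ≫ ψi ≫ pullback.snd π.left Z.hom
      rw [← Category.assoc ψ, hψψi, Category.id_comp, pullback.lift_snd]
  obtain ⟨θ, hθ⟩ := exists_iso_of_same_kernel ((yon S).map u) a hker
  refine ⟨θ, ?_⟩
  have : Epi ((yon S).map u) := inferInstance
  rw [← cancel_epi ((yon S).map u), ← Category.assoc, hθ, sq.w, ← Functor.map_comp, ← Functor.map_comp]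
  congr 1
  apply Over.OverMorphism.ext
  change ζ.left ≫ π.left = u₀ ≫ Z.hom
  exact hu₀.symm

end Core

/-- **Representability from an atlas and effective descent.**  Let `F` be an algebraic space, `f : G ⟶ F` a map of
sheaves and `q : h_U ⟶ F` an etale atlas such that the base change of `f` along `q` is represented by
`g : V ⟶ U` with `P g`.  If descent data with property `P` are effective along fppf morphisms, then `f` is
representable. -/
theorem representable_of_chart_of_effective {P : MorphismProperty Scheme.{u}} [P.IsStableUnderBaseChange]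
    (hdesc : ∀ ⦃X' S' : Scheme.{u}⦄ (p : X' ⟶ S'), Surjective p → Flat p → LocallyOfFinitePresentation p →
      ∀ D : Desc.SchDD p, P D.obj.hom → (Desc.toDD p).essImage D)
    {F G : Sp S} (hF : IsAlgSpace F) (f : G ⟶ F) {U V : Over S} (q : (yon S).obj U ⟶ F)
    (hqe : RepWith @Etale q) (hqs : RepWith @Surjective q) (fst : (yon S).obj V ⟶ G)
    (g : V ⟶ U) (sq : IsPullback fst ((yon S).map g) f q) (hP : P g.left) : Representable f := by
  intro T z
  have hq := hF.representable_from_yon q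
  obtain ⟨z'₀, hz'₀⟩ := (yon S).map_surjective (hq.fst z)
  have sqT : IsPullback ((yon S).map z'₀) ((yon S).map (hq.snd z)) q z := by
    rw [hz'₀]; exact hq.isPullback z
  haveI het : Etale (hq.snd z).left := hqe.property z _ _ sqT
  haveI hsu : Surjective (hq.snd z).left := hqs.property z _ _ sqT
  have sqZ : IsPullback ((yon S).map (pullback.fst g z'₀)) ((yon S).map (pullback.snd g z'₀))
      ((yon S).map g) ((yon S).map z'₀) := (IsPullback.of_hasPullback g z'₀).map (yon S)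
  have sqE := IsPullback.of_hasPullback f z
  have big : IsPullback ((yon S).map (pullback.fst g z'₀) ≫ fst) ((yon S).map (pullback.snd g z'₀)) f
      ((yon S).map z'₀ ≫ q) := sqZ.paste_horiz sq
  rw [sqT.w] at big
  have hw : ((yon S).map (pullback.fst g z'₀) ≫ fst) ≫ f =
      ((yon S).map (pullback.snd g z'₀) ≫ (yon S).map (hq.snd z)) ≫ z := by
    rw [big.w, Category.assoc]
  have sq' : IsPullback (sqE.lift _ _ hw) ((yon S).map (pullback.snd g z'₀)) (pullback.snd f z)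
      ((yon S).map (hq.snd z)) :=
    IsPullback.of_right (by rw [sqE.lift_fst]; exact big) (sqE.lift_snd _ _ hw) sqE
  have hPζ : P (descDatum sq').obj.hom :=
    P.of_isPullback ((IsPullback.of_hasPullback g z'₀).map (Over.forget S)) hP
  obtain ⟨Z, ⟨Ψ⟩⟩ := hdesc (hq.snd z).left inferInstance inferInstance inferInstance (descDatum sq') hPζ
  obtain ⟨θ, hθ⟩ := exists_iso_of_effective sq' Z Ψ
  refine ⟨Over.mk (Z.hom ≫ T.hom), Over.homMk Z.hom rfl, θ.hom ≫ pullback.fst f z, ?_⟩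
  have h1 : IsPullback θ.hom ((yon S).map (Over.homMk Z.hom rfl : Over.mk (Z.hom ≫ T.hom) ⟶ T))
      (pullback.snd f z) (𝟙 _) := IsPullback.of_horiz_isIso ⟨by rw [hθ, Category.comp_id]⟩
  have h2 := h1.paste_horiz sqE
  rwa [Category.id_comp] at h2

end Groth.Agent.Lib.SheafDescRep46
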