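import Groth.Agent.Lib.EtDistBound46b
import Groth.Agent.Lib.SheafDescRep46
import Groth.Agent.Lib.EffDescFamOpenH52
import Groth.Agent.Lib.H86AlgSpOpen
import Groth.Agent.Lib.H86AlgSpSub
import Groth.Agent.Lib.H86ZarGlue
import Groth.Agent.Lib.AlgSpLocP
import Groth.Agent.Lib.AlgSpProper
import Groth.Agent.Lib.AlgSpPoints
import Groth.Prelude.Def_AlgSp3

/-!
# Images of open subschemes of an etale base change of a separated locally quasi-finite algebraic space
(Stacks 0419), helper46

Let `X ⟶ h_T` be a separated, locally quasi-finite morphism from an algebraic space to a scheme, `q : T' ⟶ T`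
an etale separated morphism with bounded fibres and `M ⊆ X ×_T T'` an open subspace which is a scheme.
Then the image of `M` in `X` is an open subspace which is a scheme (`imgRep_of_distBound`).
-/

set_option autoImplicit false
universe u

open CategoryTheory CategoryTheory.Limits AlgebraicGeometry Opposite

namespace Groth.Agent.Lib.SepLqfImg46

open AlgSp Groth.Agent.Lib.EtDistBound46 Groth.Agent.Lib.H69AlgSp Groth.Agent.Lib.AlgSpPoints
open Groth.Agent.Lib.H86AlgSpOpen Groth.Agent.Lib.H86AlgSpSub

variable {S : Scheme.{u}}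

/-- The image in `X` of every open subscheme of `X ×_T T'` is an open subscheme. -/
def ImgRep {T T' : Over S} (q : T' ⟶ T) : Prop :=
  ∀ (X : Sp S) (_ : IsAlgSpace X) (f : X ⟶ (yon S).obj T) (_ : IsSeparatedMor f)
    (_ : LocP (@LocallyQuasiFinite ⊓ @LocallyOfFiniteType) f)
    (P : Sp S) (p1 : P ⟶ (yon S).obj T') (p2 : P ⟶ X) (_ : IsPullback p2 p1 f ((yon S).map q))
    (M : Over S) (j : (yon S).obj M ⟶ P) (_ : RepWith @IsOpenImmersion j),
    ∃ (W : Over S) (i : (yon S).obj W ⟶ X) (c : M ⟶ W), RepWith @IsOpenImmersion i ∧ Surjective c.left ∧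
      (yon S).map c ≫ i = j ≫ p2

/-- The case of an open immersion `q`. -/
theorem imgRep_of_isOpenImmersion {T T' : Over S} (q : T' ⟶ T) [IsOpenImmersion q.left] : ImgRep q := by
  intro X _ f _ _ P p1 p2 sq M j hj
  have hq : RepWith @IsOpenImmersion ((yon S).map q) := (repWith_yon_map_iff _ q).2 inferInstance
  have hp2 : RepWith @IsOpenImmersion p2 := Groth.Agent.Lib.AlgSpBasic.repWith_fst_of_isPullback _ sq hq
  exact ⟨M, j ≫ p2, 𝟙 M, (RepWith @IsOpenImmersion).comp_mem _ _ hj hp2, inferInstance, by
    rw [CategoryTheory.Functor.map_id, Category.id_comp]⟩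

section OffDiagOver

variable {T T' : Over S} (q : T' ⟶ T)

/-- `T' ×_T T'` over `S`. -/
noncomputable def T2 : Over S := Over.mk (pullback.fst q.left q.left ≫ T'.hom)

noncomputable def pr1 : T2 q ⟶ T' := Over.homMk (pullback.fst q.left q.left) rfl

noncomputable def pr2 : T2 q ⟶ T' := Over.homMk (pullback.snd q.left q.left) (by
  change pullback.snd q.left q.left ≫ T'.hom = pullback.fst q.left q.left ≫ T'.hom
  rw [← Over.w q, ← Category.assoc, ← Category.assoc, pullback.condition])

theorem isPullback_T2 : IsPullback (pr1 q) (pr2 q) q q := by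
  apply IsPullback.of_map (Over.forget S) (Over.OverMorphism.ext pullback.condition)
  exact IsPullback.of_hasPullback q.left q.left

noncomputable def diagT : T' ⟶ T2 q := Over.homMk (pullback.diagonal q.left) (by
  change pullback.diagonal q.left ≫ pullback.fst q.left q.left ≫ T'.hom = T'.hom
  rw [← Category.assoc, pullback.diagonal_fst, Category.id_comp])

theorem diagT_pr1 : diagT q ≫ pr1 q = 𝟙 T' := Over.OverMorphism.ext (pullback.diagonal_fst q.left)

theorem diagT_pr2 : diagT q ≫ pr2 q = 𝟙 T' := Over.OverMorphism.ext (pullback.diagonal_snd q.left)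

variable [IsSeparated q.left]

/-- The complement of the diagonal in `T' ×_T T'`, over `S`. -/
noncomputable def D : Over S := Over.mk ((offDiag q.left).ι ≫ (T2 q).hom)

noncomputable def ιD : D q ⟶ T2 q := Over.homMk (offDiag q.left).ι rfl

noncomputable def d1 : D q ⟶ T' := ιD q ≫ pr1 q

noncomputable def d2 : D q ⟶ T' := ιD q ≫ pr2 q

theorem d1_left : (d1 q).left = offDiagFst q.left := rfl

theorem d1_comp : d1 q ≫ q = d2 q ≫ q := by
  unfold d1 d2
  rw [Category.assoc, Category.assoc, (isPullback_T2 q).w]

instance [Etale q.left] : Etale (d1 q).left :=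
  inferInstanceAs (Etale (offDiagFst q.left))

instance : IsSeparated (d1 q).left :=
  inferInstanceAs (IsSeparated (offDiagFst q.left))

/-- Every point of `T' ×_T T'` is on the diagonal or in its complement. -/
theorem range_diagT_or_range_ιD (t : ↥(T2 q).left) :
    t ∈ Set.range (diagT q).left ∨ t ∈ Set.range (ιD q).left := by
  by_cases h : t ∈ Set.range (pullback.diagonal q.left)
  · exact Or.inl h
  · right
    change t ∈ Set.range (offDiag q.left).ι
    rw [Scheme.Opens.range_ι]
    exact h

end OffDiagOver

end Groth.Agent.Lib.SepLqfImg46
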