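import Groth.Agent.Lib.SepLqfImg46
import Groth.Agent.Lib.FinLocFreeQuot46
import Groth.Agent.Lib.GrpFieldSep46b

/-!
# The induction step for `ImgRep` (helper46)
-/

set_option autoImplicit false
universe u

open CategoryTheory CategoryTheory.Limits AlgebraicGeometry Opposite

namespace Groth.Agent.Lib.SepLqfImg46

open AlgSp Groth.Agent.Lib.EtDistBound46 Groth.Agent.Lib.H69AlgSp Groth.Agent.Lib.AlgSpPoints
open Groth.Agent.Lib.H86AlgSpOpen Groth.Agent.Lib.H86AlgSpSub

variable {S : Scheme.{u}}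

section Squares

variable {T T' : Over S} {q : T' ⟶ T}
  {X P : Sp S} {f : X ⟶ (yon S).obj T} {p1 : P ⟶ (yon S).obj T'} {p2 : P ⟶ X}
  (sq : IsPullback p2 p1 f ((yon S).map q))

include sq

/-- Swap map: for a pullback `A` of `p1` along `a ≫ pr1`-type map, the map to `P` over the second projection. -/
theorem exists_swap {A : Sp S} {E : Over S} (e1 e2 : E ⟶ T') (he : e1 ≫ q = e2 ≫ q)
    {u : A ⟶ P} {v : A ⟶ (yon S).obj E} (sqA : IsPullback u v p1 ((yon S).map e1)) :
    ∃ τ : A ⟶ P, τ ≫ p2 = u ≫ p2 ∧ τ ≫ p1 = v ≫ (yon S).map e2 ∧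
      IsPullback τ v p1 ((yon S).map e2) := by
  have hw : (u ≫ p2) ≫ f = (v ≫ (yon S).map e2) ≫ (yon S).map q := by
    rw [Category.assoc, sq.w, ← Category.assoc, sqA.w, Category.assoc, Category.assoc,
      ← Functor.map_comp, ← Functor.map_comp, he]
  refine ⟨sq.lift _ _ hw, sq.lift_fst _ _ hw, sq.lift_snd _ _ hw, ?_⟩
  refine IsPullback.of_right ?_ (sq.lift_snd _ _ hw) sq
  rw [sq.lift_fst, ← Functor.map_comp, ← he, Functor.map_comp]
  exact sqA.paste_horiz sq

/-- `P ×_{T', pr1} (T' ×_T T')` with its two maps to `P` is `P ×_X P`. -/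
theorem isPullback_swap_T2 {A : Sp S} {u : A ⟶ P} {v : A ⟶ (yon S).obj (T2 q)}
    (sqA : IsPullback u v p1 ((yon S).map (pr1 q))) (τ : A ⟶ P) (hτ2 : τ ≫ p2 = u ≫ p2)
    (sqτ : IsPullback τ v p1 ((yon S).map (pr2 q))) : IsPullback u τ p2 p2 := by
  have h1 : IsPullback (v ≫ (yon S).map (pr1 q)) τ ((yon S).map q) (p1 ≫ (yon S).map q) :=
    sqτ.flip.paste_horiz ((isPullback_T2 q).map (yon S))
  rw [← sqA.w, ← sq.w] at h1
  exact IsPullback.of_right h1 hτ2.symm sq.flip

/-- **Dichotomy for points of `P = X ×_T T'` with the same image in `X`**: they are equal, or they are the two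
images of a point of `P₁ = P ×_{T'} D` (`D` the complement of the diagonal in `T' ×_T T'`). -/
theorem points_dichotomy [IsSeparated q.left] {P₁ : Sp S} {p2' : P₁ ⟶ P} {p1' : P₁ ⟶ (yon S).obj (D q)}
    (sq₁ : IsPullback p2' p1' p1 ((yon S).map (d1 q))) (τ₁ : P₁ ⟶ P) (hτ2 : τ₁ ≫ p2 = p2' ≫ p2)
    (hτ1 : τ₁ ≫ p1 = p1' ≫ (yon S).map (d2 q)) (y y' : Points P)
    (h : Points.map p2 y = Points.map p2 y') :
    y = y' ∨ ∃ z₁ : Points P₁, Points.map p2' z₁ = y ∧ Points.map τ₁ z₁ = y' := by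
  -- `A = P ×_{T', pr1} T''`
  have sqA := IsPullback.of_hasPullback p1 ((yon S).map (pr1 q))
  set A := pullback p1 ((yon S).map (pr1 q)) with hA
  set u : A ⟶ P := pullback.fst _ _ with hu
  set v : A ⟶ (yon S).obj (T2 q) := pullback.snd _ _ with hv
  obtain ⟨τ, hτ'2, hτ'1, sqτ⟩ := exists_swap sq (pr1 q) (pr2 q) (isPullback_T2 q).w sqA
  have g := isPullback_swap_T2 sq sqA τ hτ'2 sqτ
  obtain ⟨z, hz1, hz2⟩ := exists_of_isPullback g y y' h
  obtain hdiag | hoff := range_diagT_or_range_ιD q (Points.toScheme (T2 q) (Points.map v z))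
  · left
    obtain ⟨b, hb⟩ := hdiag
    -- the section `s : P ⟶ A` over the diagonal
    have hs : (𝟙 P) ≫ p1 = (p1 ≫ (yon S).map (diagT q)) ≫ (yon S).map (pr1 q) := by
      rw [Category.assoc, ← Functor.map_comp, diagT_pr1, CategoryTheory.Functor.map_id, Category.comp_id,
        Category.id_comp]
    let s : P ⟶ A := sqA.lift (𝟙 P) (p1 ≫ (yon S).map (diagT q)) hs
    have hsu : s ≫ u = 𝟙 P := sqA.lift_fst _ _ hs
    have hsv : s ≫ v = p1 ≫ (yon S).map (diagT q) := sqA.lift_snd _ _ hs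
    have sqΔ : IsPullback s p1 v ((yon S).map (diagT q)) := by
      refine IsPullback.of_right ?_ hsv sqA
      rw [hsu, ← Functor.map_comp, diagT_pr1, CategoryTheory.Functor.map_id]
      exact IsPullback.of_horiz_isIso ⟨by rw [Category.id_comp, Category.comp_id]⟩
    have hsτ : s ≫ τ = 𝟙 P := by
      apply sq.hom_ext
      · rw [Category.assoc, hτ'2, ← Category.assoc, hsu]
      · rw [Category.assoc, hτ'1, ← Category.assoc, hsv, Category.assoc, ← Functor.map_comp, diagT_pr2,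
          CategoryTheory.Functor.map_id, Category.comp_id, Category.id_comp]
    have hvz : Points.map v z = Points.map ((yon S).map (diagT q)) (Points.ofScheme T' b) := by
      rw [← Points.ofScheme_toScheme (T2 q) (Points.map v z), ← hb]
      exact (Points.map_yon_map_apply (diagT q) b).symm
    obtain ⟨w, hw1, -⟩ := exists_of_isPullback sqΔ z (Points.ofScheme T' b) hvz
    rw [← hz1, ← hz2, ← hw1, ← Points.map_comp, ← Points.map_comp, hsu, hsτ]
  · right
    obtain ⟨δ, hδ⟩ := hoff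
    have hk : p2' ≫ p1 = (p1' ≫ (yon S).map (ιD q)) ≫ (yon S).map (pr1 q) := by
      rw [Category.assoc, ← Functor.map_comp, sq₁.w]
      rfl
    let k : P₁ ⟶ A := sqA.lift p2' (p1' ≫ (yon S).map (ιD q)) hk
    have hku : k ≫ u = p2' := sqA.lift_fst _ _ hk
    have hkv : k ≫ v = p1' ≫ (yon S).map (ιD q) := sqA.lift_snd _ _ hk
    have sqD : IsPullback k p1' v ((yon S).map (ιD q)) := by
      refine IsPullback.of_right ?_ hkv sqA
      rw [hku, ← Functor.map_comp]
      exact sq₁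
    have hkτ : k ≫ τ = τ₁ := by
      apply sq.hom_ext
      · rw [Category.assoc, hτ'2, ← Category.assoc, hku, hτ2]
      · rw [Category.assoc, hτ'1, ← Category.assoc, hkv, Category.assoc, ← Functor.map_comp, hτ1]
        rfl
    have hvz : Points.map v z = Points.map ((yon S).map (ιD q)) (Points.ofScheme (D q) δ) := by
      rw [← Points.ofScheme_toScheme (T2 q) (Points.map v z), ← hδ]
      exact (Points.map_yon_map_apply (ιD q) δ).symm
    obtain ⟨z₁, hz₁, -⟩ := exists_of_isPullback sqD z (Points.ofScheme (D q) δ) hvz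
    refine ⟨z₁, ?_, ?_⟩
    · rw [← hz1, ← hz₁, ← Points.map_comp, hku]
    · rw [← hz2, ← hz₁, ← Points.map_comp, hkτ]

end Squares

/-- Surjective morphisms of schemes are surjective on points of the represented sheaves. -/
theorem surjective_map_yon_of_surjective {A B : Over S} (c : A ⟶ B) [Surjective c.left] :
    Function.Surjective (Points.map ((yon S).map c)) := by
  intro x
  obtain ⟨a, ha⟩ := c.left.surjective (Points.toScheme B x)
  refine ⟨Points.ofScheme A a, ?_⟩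
  rw [← Points.ofScheme_toScheme B x, ← ha]
  exact Points.map_yon_map_apply c a

theorem surjective_left_of_surjective_map {A B : Over S} (c : A ⟶ B)
    (h : Function.Surjective (Points.map ((yon S).map c))) : Surjective c.left := by
  refine ⟨fun b => ?_⟩
  obtain ⟨x, hx⟩ := h (Points.ofScheme B b)
  refine ⟨Points.toScheme A x, ?_⟩
  have := Points.map_yon_map_apply c (Points.toScheme A x)
  change Points.map ((yon S).map c) (Points.ofScheme A _) = Points.ofScheme B _ at this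
  rw [Points.ofScheme_toScheme, hx] at this
  exact ((Points.schemeEquiv B).injective this).symm

theorem repWith_etale_of_isOpenImmersion {A B : Sp S} {j : A ⟶ B} (hj : RepWith @IsOpenImmersion j) :
    RepWith @Etale j :=
  Groth.Agent.Lib.AlgSpBasic.repWith_mono
    (fun _ _ g (_ : IsOpenImmersion g) => (inferInstance : Etale g)) hj

theorem mono_of_repWith_isOpenImmersion {A B : Sp S} {j : A ⟶ B} (hj : RepWith @IsOpenImmersion j) :
    Mono j :=
  Groth.Agent.Lib.AlgSpBasic.mono_of_repWith (P := @IsOpenImmersion)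
    (fun _ _ g (_ : IsOpenImmersion g) => (inferInstance : Mono g)) hj

/-- The glued open subscheme of `P` lying over the image of `M` in `X`. -/
theorem exists_glued {T T' : Over S} (q : T' ⟶ T) [Etale q.left] [IsSeparated q.left]
    (IH : ImgRep (d1 q)) (X : Sp S) (hX : IsAlgSpace X) (f : X ⟶ (yon S).obj T) (hsep : IsSeparatedMor f)
    (hqf : LocP (@LocallyQuasiFinite ⊓ @LocallyOfFiniteType) f)
    (P : Sp S) (p1 : P ⟶ (yon S).obj T') (p2 : P ⟶ X) (sq : IsPullback p2 p1 f ((yon S).map q))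
    (M : Over S) (j : (yon S).obj M ⟶ P) (hj : RepWith @IsOpenImmersion j)
    {XM : Sp S} (ι : XM ⟶ X) (hι : RepWith @IsOpenImmersion ι)
    (hιr : Set.range (Points.map ι) = Set.range (Points.map (j ≫ p2)))
    {Y : Sp S} (yP : Y ⟶ P) (yX : Y ⟶ XM) (sqY : IsPullback yP yX p2 ι) :
    ∃ (Y₀ : Over S) (eY : (yon S).obj Y₀ ≅ Y), True := by
  have hT' : IsAlgSpace ((yon S).obj T') := IsAlgSpace.yon_obj _
  have hT : IsAlgSpace ((yon S).obj T) := IsAlgSpace.yon_obj _
  have hP : IsAlgSpace P :=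
    Groth.Agent.Lib.AlgSpBasic.isAlgSpace_of_isPullback hX hT' (fun U a => representable_of_yon a) sq
  have hp1sep : IsSeparatedMor p1 := Groth.Agent.Lib.AlgSpProper.isSeparatedMor_of_isPullback sq hsep
  have hp1qf : LocP (@LocallyQuasiFinite ⊓ @LocallyOfFiniteType) p1 :=
    Groth.Agent.Lib.AlgSpLocP.locP_of_isPullback Groth.Agent.Lib.AlgSpLocP.etLocalClass_lqf_lft hX hT hT' sq hqf
  -- `P₁`
  have sq₁ := IsPullback.of_hasPullback p1 ((yon S).map (d1 q))
  set P₁ := pullback p1 ((yon S).map (d1 q)) with hP₁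
  set p2' : P₁ ⟶ P := pullback.fst _ _ with hp2'
  set p1' : P₁ ⟶ (yon S).obj (D q) := pullback.snd _ _ with hp1'
  obtain ⟨τ₁, hτ2, hτ1, sqτ⟩ := exists_swap sq (d1 q) (d2 q) (d1_comp q) sq₁
  -- `M₁`
  obtain ⟨jT, hjT⟩ := (yon S).map_surjective (j ≫ p1)
  have sqM := (IsPullback.of_hasPullback jT (d2 q)).map (yon S)
  set M₁ := pullback jT (d2 q) with hM₁
  set m₁ : M₁ ⟶ M := pullback.fst _ _ with hm₁
  set n₁ : M₁ ⟶ D q := pullback.snd _ _ with hn₁
  have hj₁w : ((yon S).map m₁ ≫ j) ≫ p1 = (yon S).map n₁ ≫ (yon S).map (d2 q) := by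
    rw [Category.assoc, ← hjT]; exact sqM.w
  let j₁ : (yon S).obj M₁ ⟶ P₁ := sqτ.lift _ _ hj₁w
  have hj₁τ : j₁ ≫ τ₁ = (yon S).map m₁ ≫ j := sqτ.lift_fst _ _ hj₁w
  have hj₁p : j₁ ≫ p1' = (yon S).map n₁ := sqτ.lift_snd _ _ hj₁w
  have sqj : IsPullback j₁ ((yon S).map m₁) τ₁ j := by
    refine IsPullback.of_right ?_ hj₁τ sqτ.flip
    rw [hj₁p, ← hjT]
    exact sqM.flip
  have hj₁ : RepWith @IsOpenImmersion j₁ := Groth.Agent.Lib.AlgSpBasic.repWith_fst_of_isPullback _ sqj hj
  obtain ⟨W₁, i₁, c₁, hi₁, hc₁, hci⟩ := IH P hP p1 hp1sep hp1qf P₁ p1' p2' sq₁ M₁ j₁ hj₁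
  -- the open subspace `Y` of `P`
  have hyP : RepWith @IsOpenImmersion yP := Groth.Agent.Lib.AlgSpBasic.repWith_fst_of_isPullback _ sqY hι
  have : Mono yP := mono_of_repWith_isOpenImmersion hyP
  have hyPr : Set.range (Points.map yP) = Points.map p2 ⁻¹' Set.range (Points.map (j ≫ p2)) := by
    rw [range_map_fst_of_isPullback sqY, hιr]
  obtain ⟨j', hj'⟩ := exists_factor_of_range_subset hyP j (by
    rintro _ ⟨μ, rfl⟩
    rw [hyPr]
    exact ⟨μ, Points.map_comp _ _ _⟩)
  have : Surjective c₁.left := hc₁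
  obtain ⟨i₁', hi₁'⟩ := exists_factor_of_range_subset hyP i₁ (by
    rintro _ ⟨w, rfl⟩
    rw [hyPr]
    obtain ⟨ζ, rfl⟩ := surjective_map_yon_of_surjective c₁ w
    refine ⟨Points.map ((yon S).map m₁) ζ, ?_⟩
    have hkey : (yon S).map m₁ ≫ (j ≫ p2) = ((yon S).map c₁ ≫ i₁) ≫ p2 := by
      rw [hci, Category.assoc, ← hτ2, ← Category.assoc j₁, hj₁τ, Category.assoc]
    change Points.map (j ≫ p2) (Points.map ((yon S).map m₁) ζ) =
      Points.map p2 (Points.map i₁ (Points.map ((yon S).map c₁) ζ))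
    rw [← Points.map_comp, ← Points.map_comp, ← Points.map_comp, hkey, Category.assoc])
  have hj'o : RepWith @IsOpenImmersion j' := repWith_of_comp_mono yP (by rw [hj']; exact hj)
  have hi₁'o : RepWith @IsOpenImmersion i₁' := repWith_of_comp_mono yP (by rw [hi₁']; exact hi₁)
  -- gluing
  let U : ULift.{u} Bool → Over S := fun b => cond b.down M W₁
  let fam : ∀ b, (yon S).obj (U b) ⟶ Y := fun b => match b with
    | ⟨true⟩ => j'
    | ⟨false⟩ => i₁'
  have hfam : ∀ b, RepWith @IsOpenImmersion (fam b) := fun b => match b with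
    | ⟨true⟩ => hj'o
    | ⟨false⟩ => hi₁'o
  have hsurj : ∀ x : Points Y, ∃ b, x ∈ Set.range (Points.map (fam b)) := by
    intro x
    have hx : Points.map yP x ∈ Points.map p2 ⁻¹' Set.range (Points.map (j ≫ p2)) := by
      rw [← hyPr]; exact ⟨x, rfl⟩
    obtain ⟨μ, hμ⟩ := hx
    have hinj := map_injective_of_mono yP
    obtain hEq | ⟨z₁, hz₁, hz₂⟩ := points_dichotomy sq sq₁ τ₁ hτ2 hτ1 (Points.map yP x) (Points.map j μ)
      (by rw [← hμ, Points.map_comp])
    · refine ⟨⟨true⟩, μ, ?_⟩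
      apply hinj
      change Points.map yP (Points.map j' _) = _
      rw [← Points.map_comp, hj', hEq]
    · obtain ⟨ζ, hζ, -⟩ := exists_of_isPullback sqj z₁ μ hz₂
      refine ⟨⟨false⟩, Points.map ((yon S).map c₁) ζ, ?_⟩
      apply hinj
      change Points.map yP (Points.map i₁' _) = _
      rw [← Points.map_comp, hi₁', ← Points.map_comp, hci, Points.map_comp, hζ, hz₁]
  obtain ⟨Y₀, eY, -, -, -, -⟩ := Groth.Agent.Lib.H86ZarGlue.exists_iso_yon_of_openCover fam hfam hsurj
  exact ⟨Y₀, eY, trivial⟩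

/-- **The induction step.** -/
theorem imgRep_step {T T' : Over S} (q : T' ⟶ T) [Etale q.left] [IsSeparated q.left]
    (IH : ImgRep (d1 q)) : ImgRep q := by
  intro X hX f hsep hqf P p1 p2 sq M j hj
  have hT' : IsAlgSpace ((yon S).obj T') := IsAlgSpace.yon_obj _
  have hT : IsAlgSpace ((yon S).obj T) := IsAlgSpace.yon_obj _
  have hp1sep : IsSeparatedMor p1 := Groth.Agent.Lib.AlgSpProper.isSeparatedMor_of_isPullback sq hsep
  have hp1qf : LocP (@LocallyQuasiFinite ⊓ @LocallyOfFiniteType) p1 :=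
    Groth.Agent.Lib.AlgSpLocP.locP_of_isPullback Groth.Agent.Lib.AlgSpLocP.etLocalClass_lqf_lft hX hT hT' sq hqf
  -- the image of `M` in `X` is open
  have hqet : RepWith @Etale ((yon S).map q) := (repWith_yon_map_iff _ q).2 inferInstance
  have hp2et : RepWith @Etale p2 := Groth.Agent.Lib.AlgSpBasic.repWith_fst_of_isPullback _ sq hqet
  have hjp2 : RepWith @Etale (j ≫ p2) :=
    (RepWith @Etale).comp_mem _ _ (repWith_etale_of_isOpenImmersion hj) hp2et
  have hopen : IsOpen (Set.range (Points.map (j ≫ p2))) :=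
    (Groth.Agent.Lib.FinEtQuot46.isOpenMap_map_of_flat_lfp
      (Groth.Agent.Lib.AlgSpBasic.repWith_mono (fun _ _ g (_ : Etale g) => (inferInstance : Flat g)) hjp2)
      (Groth.Agent.Lib.AlgSpBasic.repWith_mono
        (fun _ _ g (_ : Etale g) => (inferInstance : LocallyOfFinitePresentation g)) hjp2)).isOpen_range
  set Wset := Set.range (Points.map (j ≫ p2)) with hWset
  let XM := openSub X Wset
  let ι : XM ⟶ X := openSubι X Wset
  have hι : RepWith @IsOpenImmersion ι := openSubι_repWith hopen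
  have hιr : Set.range (Points.map ι) = Wset := range_map_openSubι
  have : Mono ι := mono_of_repWith_isOpenImmersion hι
  have sqY := IsPullback.of_hasPullback p2 ι
  set Y := pullback p2 ι with hY
  set yP : Y ⟶ P := pullback.fst _ _ with hyP'
  set yX : Y ⟶ XM := pullback.snd _ _ with hyX'
  obtain ⟨Y₀, eY, -⟩ := exists_glued q IH X hX f hsep hqf P p1 p2 sq M j hj ι hι hιr yP yX sqY
  have hyP : RepWith @IsOpenImmersion yP := Groth.Agent.Lib.AlgSpBasic.repWith_fst_of_isPullback _ sqY hι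
  have : Mono yP := mono_of_repWith_isOpenImmersion hyP
  -- the open image `T₀` of `q`
  let T₀o : T.left.Opens := ⟨Set.range q.left, q.left.isOpenMap.isOpen_range⟩
  let T₀ : Over S := Over.mk (T₀o.ι ≫ T.hom)
  let ιT : T₀ ⟶ T := Over.homMk T₀o.ι rfl
  have hrange : Set.range q.left ⊆ Set.range T₀o.ι := by
    rw [Scheme.Opens.range_ι]; exact subset_rfl
  let π₀ : T'.left ⟶ T₀o := IsOpenImmersion.lift T₀o.ι q.left hrange
  have hπ₀ : π₀ ≫ T₀o.ι = q.left := IsOpenImmersion.lift_fac _ _ _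
  let π : T' ⟶ T₀ := Over.homMk π₀ (by
    change π₀ ≫ T₀o.ι ≫ T.hom = T'.hom
    rw [← Category.assoc, hπ₀, Over.w])
  have hπι : π ≫ ιT = q := Over.OverMorphism.ext hπ₀
  have : IsOpenImmersion ιT.left := inferInstanceAs (IsOpenImmersion T₀o.ι)
  have : Etale π.left := by
    refine MorphismProperty.of_postcomp (W := @Etale) (W' := @Etale) π.left ιT.left inferInstance ?_
    rw [show π.left ≫ ιT.left = q.left from hπ₀]
    infer_instance
  have : Surjective π.left := ⟨fun t => by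
    obtain ⟨t', ht'⟩ : (T₀o.ι t) ∈ Set.range q.left := t.2
    refine ⟨t', ?_⟩
    apply T₀o.ι.isOpenEmbedding.injective
    rw [← ht', ← hπ₀]
    rfl⟩
  -- `X_M ⟶ h_{T₀}`
  have hιTo : RepWith @IsOpenImmersion ((yon S).map ιT) := (repWith_yon_map_iff _ ιT).2 inferInstance
  have : Mono ((yon S).map ιT) := mono_of_repWith_isOpenImmersion hιTo
  obtain ⟨e₀, he₀⟩ := exists_factor_of_range_subset hιTo (ι ≫ f) (by
    rintro _ ⟨x, rfl⟩
    obtain ⟨μ, hμ⟩ : Points.map ι x ∈ Set.range (Points.map (j ≫ p2)) := by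
      rw [← hWset, ← hιr]; exact ⟨x, rfl⟩
    refine ⟨Points.map (j ≫ p1 ≫ (yon S).map π) μ, ?_⟩
    have hkey : (j ≫ p1 ≫ (yon S).map π) ≫ (yon S).map ιT = (j ≫ p2) ≫ f := by
      rw [Category.assoc, Category.assoc, ← Functor.map_comp, hπι, ← sq.w, Category.assoc]
    rw [← Points.map_comp, hkey, Points.map_comp ι f, ← hμ, ← Points.map_comp])
  have sq1 : IsPullback yX (yP ≫ p1) (ι ≫ f) ((yon S).map q) := sqY.flip.paste_vert sq
  have sq2 : IsPullback yX (yP ≫ p1) e₀ ((yon S).map π) := by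
    apply isPullback_of_comp_mono ((yon S).map ιT)
    rw [he₀, ← Functor.map_comp, hπι]
    exact sq1
  obtain ⟨ζ₀, hζ₀⟩ := (yon S).map_surjective (eY.hom ≫ yP ≫ p1)
  have sq3 : IsPullback (eY.hom ≫ yX) ((yon S).map ζ₀) e₀ ((yon S).map π) := by
    have h1 : IsPullback eY.hom ((yon S).map ζ₀) (yP ≫ p1) (𝟙 _) :=
      IsPullback.of_horiz_isIso ⟨by rw [hζ₀, Category.comp_id]⟩
    have h2 := h1.paste_horiz sq2
    rwa [Category.id_comp] at h2
  -- properties of `ζ₀`
  have heYP : RepWith @Etale (eY.hom ≫ yP) :=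
    (RepWith @Etale).comp_mem _ _ (MorphismProperty.of_isIso (RepWith (S := S) @Etale) _)
      (repWith_etale_of_isOpenImmersion hyP)
  have hζqf : (@LocallyQuasiFinite ⊓ @LocallyOfFiniteType) ζ₀.left :=
    hp1qf (eY.hom ≫ yP) (𝟙 _) ζ₀ heYP (repWith_id _ T') (by rw [hζ₀, Category.comp_id, Category.assoc])
  have hζsep : IsSeparated ζ₀.left := by
    have h1 : IsSeparatedMor ((yon S).map ζ₀) := by
      rw [hζ₀]
      exact Groth.Agent.Lib.AlgSpProper.isSeparatedMor_comp
        (Groth.Agent.Lib.GrpFieldSep46.isSeparatedMor_of_mono _)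
        (Groth.Agent.Lib.AlgSpProper.isSeparatedMor_comp
          (Groth.Agent.Lib.GrpFieldSep46.isSeparatedMor_of_mono _) hp1sep)
    exact ⟨(Groth.Agent.Lib.AlgSpUnram.repWith_diagonal_yon_map_iff _ ζ₀).1 h1⟩
  have : IsSeparated (Groth.Agent.Lib.SheafDescRep46.descDatum sq3).obj.hom := hζsep
  have : LocallyQuasiFinite (Groth.Agent.Lib.SheafDescRep46.descDatum sq3).obj.hom := hζqf.1
  have : LocallyOfFiniteType (Groth.Agent.Lib.SheafDescRep46.descDatum sq3).obj.hom := hζqf.2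
  obtain ⟨Z, ⟨Ψ⟩⟩ := Groth.Agent.Lib.EffDescFamH52.exists_iso_of_fppf_of_locallyQuasiFinite π.left
    (Groth.Agent.Lib.SheafDescRep46.descDatum sq3)
  obtain ⟨θ, -⟩ := Groth.Agent.Lib.SheafDescRep46.exists_iso_of_effective sq3 Z Ψ
  -- conclusion
  obtain ⟨m', hm'⟩ := exists_factor_of_range_subset hι (j ≫ p2) (by rw [hιr])
  obtain ⟨c, hc⟩ := (yon S).map_surjective (m' ≫ θ.inv)
  refine ⟨_, θ.hom ≫ ι, c, ?_, ?_, ?_⟩
  · exact (RepWith @IsOpenImmersion).comp_mem _ _
      (MorphismProperty.of_isIso (RepWith (S := S) @IsOpenImmersion) _) hι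
  · apply surjective_left_of_surjective_map
    rw [hc]
    intro w
    obtain ⟨μ, hμ⟩ : Points.map ι (Points.map θ.hom w) ∈ Set.range (Points.map (j ≫ p2)) := by
      rw [← hWset, ← hιr]; exact ⟨_, rfl⟩
    refine ⟨μ, ?_⟩
    have h1 : Points.map m' μ = Points.map θ.hom w := by
      apply map_injective_of_mono ι
      rw [← Points.map_comp, hm', hμ]
    rw [Points.map_comp, h1, ← Points.map_comp, Iso.hom_inv_id, Points.map_id]
  · rw [hc, Category.assoc, Iso.inv_hom_id_assoc, hm']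

end Groth.Agent.Lib.SepLqfImg46
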