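import Groth.Agent.Lib.SepLqfImg46b

/-!
# `ImgRep` for etale separated morphisms with bounded fibres, and Stacks 0419 (helper46)
-/

set_option autoImplicit false
universe u

open CategoryTheory CategoryTheory.Limits AlgebraicGeometry Opposite

namespace Groth.Agent.Lib.SepLqfImg46

open AlgSp Groth.Agent.Lib.EtDistBound46 Groth.Agent.Lib.H69AlgSp Groth.Agent.Lib.AlgSpPoints
open Groth.Agent.Lib.H86AlgSpOpen Groth.Agent.Lib.H86AlgSpSub

variable {S : Scheme.{u}}

/-- `ImgRep q` for `q` etale separated with fibres of bounded cardinality. -/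
theorem imgRep_of_distBound : ∀ (N : ℕ) {T T' : Over S} (q : T' ⟶ T) [Etale q.left] [IsSeparated q.left],
    DistBound q.left N → ImgRep q
  | 0, T, T', q, _, _, h => by
    haveI : IsEmpty ↥T'.left := isEmpty_of_distBound_zero q.left h
    haveI : IsOpenImmersion q.left := inferInstance
    exact imgRep_of_isOpenImmersion q
  | N + 1, T, T', q, _, _, h => by
    refine imgRep_step q (imgRep_of_distBound N (d1 q) ?_)
    rw [d1_left]
    exact distBound_offDiagFst q.left h

/-- `ImgRep` for an etale morphism of affine schemes. -/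
theorem imgRep_of_isAffine {T T' : Over S} [IsAffine T.left] [IsAffine T'.left] (q : T' ⟶ T)
    [Etale q.left] : ImgRep q := by
  haveI : LocallyQuasiFinite q.left := Groth.Agent.Lib.AlgSpBasic.locallyQuasiFinite_of_etale q.left
  obtain ⟨N, hN⟩ := exists_distBound_of_isAffine q.left
  exact imgRep_of_distBound N q hN

end Groth.Agent.Lib.SepLqfImg46
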