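import Groth.Agent.Lib.SepLqfImg46c
import Groth.Agent.Lib.EtLocQF3

/-!
# Etale localisation of a quasi-finite morphism of affine schemes, affine version (helper46)

`exists_etale_affine_finite_open`: for a quasi-finite morphism `g : U ⟶ T` of affine schemes and `t ∈ T` there are
an affine etale neighbourhood `(T', t') ⟶ (T, t)` and an open `V ⊆ U ×_T T'` finite over `T'` containing the
whole fibre over `t'`.
-/

set_option autoImplicit false
universe u

open CategoryTheory CategoryTheory.Limits AlgebraicGeometry Opposite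

namespace Groth.Agent.Lib.SepLqfRep46

theorem exists_etale_affine_finite_open {U T : Scheme.{u}} [IsAffine U] [IsAffine T] (g : U ⟶ T)
    [LocallyOfFiniteType g] [LocallyQuasiFinite g] (t : T) :
    ∃ (T' : Scheme.{u}) (q : T' ⟶ T) (t' : T'), IsAffine T' ∧ Etale q ∧ q t' = t ∧
      ∃ V : (pullback g q).Opens, IsFinite (V.ι ≫ pullback.snd g q) ∧
        ∀ w : ↥(pullback g q), pullback.snd g q w = t' → w ∈ V := by
  have hfin : {x : ↑(g.fiber t) | IsOpen ({x} : Set ↑(g.fiber t))}.Finite := Set.toFinite _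
  obtain ⟨T₀, q₀, t₀, ⟨hq₀, hqt, -⟩, V₀, -, hV₀fin, hV₀⟩ :=
    Groth.Agent.Lib.EtLocQF.exists_isEtaleNbhd_clopen_finite_of_finite_isolated g t hfin
  have hmem : ∀ w : ↥(pullback g q₀), pullback.snd g q₀ w = t₀ → w ∈ V₀ := by
    intro w hw
    obtain ⟨w', rfl⟩ : w ∈ Set.range ((pullback.snd g q₀).fiberι t₀) := by
      rw [Scheme.Hom.range_fiberι]; exact hw
    by_contra hcon
    exact hV₀ w' hcon (isOpen_discrete _)
  obtain ⟨T', hT', ht'⟩ : ∃ T' : T₀.Opens, IsAffineOpen T' ∧ t₀ ∈ T' := by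
    obtain ⟨_, ⟨T', hT', rfl⟩, ht', -⟩ :=
      T₀.isBasis_affineOpens.exists_subset_of_mem_open (Set.mem_univ t₀) isOpen_univ
    exact ⟨T', hT', ht'⟩
  have : IsAffine (T' : Scheme.{u}) := hT'
  let q : (T' : Scheme.{u}) ⟶ T := T'.ι ≫ q₀
  let k : pullback g q ⟶ pullback g q₀ :=
    pullback.map g q g q₀ (𝟙 U) T'.ι (𝟙 T) (by simp) (by simp [q])
  have hk1 : k ≫ pullback.fst g q₀ = pullback.fst g q :=
    (pullback.lift_fst _ _ _).trans (Category.comp_id _)
  have hk2 : k ≫ pullback.snd g q₀ = pullback.snd g q ≫ T'.ι := pullback.lift_snd _ _ _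
  have sqk : IsPullback k (pullback.snd g q) (pullback.snd g q₀) T'.ι := by
    refine IsPullback.of_right ?_ hk2 (IsPullback.of_hasPullback g q₀)
    rw [hk1]
    exact IsPullback.of_hasPullback g q
  have sqV := (isPullback_morphismRestrict k V₀).paste_vert sqk
  refine ⟨T', q, ⟨t₀, ht'⟩, hT', inferInstance, hqt, k ⁻¹ᵁ V₀,
    MorphismProperty.of_isPullback (P := @IsFinite) sqV hV₀fin, fun w hw => ?_⟩
  change k w ∈ V₀
  apply hmem
  rw [← Scheme.Hom.comp_apply, hk2, Scheme.Hom.comp_apply, hw]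
  rfl

end Groth.Agent.Lib.SepLqfRep46
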