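import Groth.Agent.Lib.DerivedComplete2

/-!
`IsSeqComplete f M`: the map `x ↦ (x n - f • x (n + 1))` on sequences in `M` is bijective
(this is the concrete form of "`M` is derived `f`-complete").  Closure properties.
-/

set_option autoImplicit false
universe u
attribute [local instance] HasDerivedCategory.standard

namespace Groth.Agent.Lib.SeqComplete

variable {A : Type u} [CommRing A]

/-- Concrete form of derived `f`-completeness of a module. -/
def IsSeqComplete (f : A) (M : Type*) [AddCommGroup M] [Module A M] : Prop :=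
  (∀ u : ℕ → M, (∀ n, u n = f • u (n + 1)) → ∀ n, u n = 0) ∧
    ∀ m : ℕ → M, ∃ x : ℕ → M, ∀ n, x n - f • x (n + 1) = m n

theorem of_isDerivedComplete (I : Ideal A) {M : Type u} [AddCommGroup M] [Module A M]
    (hc : DRing.IsDerivedComplete I (Dual.inD A M)) (f : A) (hf : f ∈ I) : IsSeqComplete f M :=
  ⟨fun u hu n => Groth.Agent.Lib.DerivedComplete.seq_eq_zero I hc f hf u hu n,
    fun m => Groth.Agent.Lib.DerivedComplete.exists_seq I hc f hf m⟩

section Closure

variable {f : A} {M N : Type*} [AddCommGroup M] [Module A M] [AddCommGroup N] [Module A N]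

/-- The cokernel of a linear map between `f`-complete modules is `f`-complete. -/
theorem quotient_range (hM : IsSeqComplete f M) (hN : IsSeqComplete f N) (φ : M →ₗ[A] N) :
    IsSeqComplete f (N ⧸ LinearMap.range φ) := by
  constructor
  · intro u hu n
    -- lift the sequence
    have hlift : ∀ k, ∃ v : N, Submodule.Quotient.mk v = u k :=
      fun k => Submodule.Quotient.mk_surjective _ (u k)
    choose v hv using hlift
    have hw : ∀ k, ∃ w : M, φ w = v k - f • v (k + 1) := by
      intro k
      have : (Submodule.Quotient.mk (v k - f • v (k + 1)) : N ⧸ LinearMap.range φ) = 0 := by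
        rw [Submodule.Quotient.mk_sub, Submodule.Quotient.mk_smul, hv, hv, ← hu k, sub_self]
      rw [Submodule.Quotient.mk_eq_zero] at this
      exact this
    choose w hw using hw
    obtain ⟨y, hy⟩ := hM.2 w
    have hcompat : ∀ k, v k - φ (y k) = f • (v (k + 1) - φ (y (k + 1))) := by
      intro k
      have h1 := hw k
      have h2 := congrArg φ (hy k)
      rw [map_sub, map_smul] at h2
      rw [smul_sub]
      have : v k - f • v (k + 1) = φ (y k) - f • φ (y (k + 1)) := by rw [← h1, h2]
      rw [sub_eq_sub_iff_add_eq_add] at this ⊢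
      rw [this, add_comm]
    have hz := hN.1 (fun k => v k - φ (y k)) hcompat n
    rw [← hv n]
    rw [Submodule.Quotient.mk_eq_zero]
    have : v n = φ (y n) := sub_eq_zero.mp hz
    rw [this]
    exact ⟨y n, rfl⟩
  · intro m
    have hlift : ∀ k, ∃ v : N, Submodule.Quotient.mk v = m k :=
      fun k => Submodule.Quotient.mk_surjective _ (m k)
    choose v hv using hlift
    obtain ⟨x, hx⟩ := hN.2 v
    refine ⟨fun k => Submodule.Quotient.mk (x k), fun k => ?_⟩
    rw [← Submodule.Quotient.mk_smul, ← Submodule.Quotient.mk_sub, hx k, hv k]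

/-- The kernel of a linear map between `f`-complete modules is `f`-complete. -/
theorem ker (hM : IsSeqComplete f M) (hN : IsSeqComplete f N) (φ : M →ₗ[A] N) :
    IsSeqComplete f (LinearMap.ker φ) := by
  constructor
  · intro u hu n
    have h := hM.1 (fun k => (u k : M)) (fun k => by
      have := congrArg Subtype.val (hu k)
      simpa using this) n
    exact Subtype.ext h
  · intro m
    obtain ⟨x, hx⟩ := hM.2 (fun k => (m k : M))
    have hφ : ∀ k, φ (x k) = f • φ (x (k + 1)) := by
      intro k
      have := congrArg φ (hx k)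
      rw [map_sub, map_smul, (m k).2] at this
      exact sub_eq_zero.mp this
    have hz := hN.1 (fun k => φ (x k)) hφ
    refine ⟨fun k => ⟨x k, hz k⟩, fun k => ?_⟩
    apply Subtype.ext
    simpa using hx k

/-- A linear equivalence transports `f`-completeness. -/
theorem of_linearEquiv (hM : IsSeqComplete f M) (e : M ≃ₗ[A] N) : IsSeqComplete f N := by
  constructor
  · intro u hu n
    have := hM.1 (fun k => e.symm (u k)) (fun k => by rw [← map_smul, ← hu k]) n
    simpa using this
  · intro m
    obtain ⟨x, hx⟩ := hM.2 (fun k => e.symm (m k))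
    refine ⟨fun k => e (x k), fun k => ?_⟩
    rw [← map_smul, ← map_sub, hx k, e.apply_symm_apply]

/-- The quotient by the image of multiplication by `g`. -/
theorem quotient_range_lsmul (hM : IsSeqComplete f M) (g : A) :
    IsSeqComplete f (M ⧸ LinearMap.range (LinearMap.lsmul A M g)) :=
  quotient_range hM hM (LinearMap.lsmul A M g)

/-- If `M = f M` and `M` is `f`-complete then `M = 0`. -/
theorem eq_zero_of_range_lsmul_eq_top (hM : IsSeqComplete f M)
    (h : LinearMap.range (LinearMap.lsmul A M f) = ⊤) (m : M) : m = 0 := by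
  have hdiv : ∀ x : M, ∃ y : M, f • y = x := by
    intro x
    have : x ∈ LinearMap.range (LinearMap.lsmul A M f) := by rw [h]; trivial
    obtain ⟨y, hy⟩ := this
    exact ⟨y, hy⟩
  choose d hd using hdiv
  let u : ℕ → M := fun n => Nat.rec m (fun _ x => d x) n
  have hu : ∀ n, u n = f • u (n + 1) := fun n => (hd (u n)).symm
  exact hM.1 u hu 0

end Closure

/-- Derived Nakayama at the level of sequences: if `M` is `g`-complete for every `g` in a finite
set `s` and `(s) M = M` then `M = 0`. -/
theorem eq_zero_of_span_smul_top_eq_top (s : Finset A) :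
    ∀ (M : Type u) [AddCommGroup M] [Module A M], (∀ g ∈ s, IsSeqComplete g M) →
      Ideal.span (s : Set A) • (⊤ : Submodule A M) = ⊤ → ∀ m : M, m = 0 := by
  classical
  induction s using Finset.induction_on with
  | empty =>
    intro M _ _ _ h m
    have : m ∈ (⊤ : Submodule A M) := trivial
    rw [← h] at this
    simpa using this
  | insert g s hg ih =>
    intro M _ _ hM h
    -- the quotient `N = M / g M`
    let N := M ⧸ LinearMap.range (LinearMap.lsmul A M g)
    have hN : ∀ k ∈ s, IsSeqComplete k N := fun k hk =>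
      quotient_range_lsmul (hM k (Finset.mem_insert_of_mem hk)) g
    have hNtop : Ideal.span (s : Set A) • (⊤ : Submodule A N) = ⊤ := by
      rw [eq_top_iff]
      rintro n -
      obtain ⟨m, rfl⟩ := Submodule.Quotient.mk_surjective _ n
      have hm : m ∈ Ideal.span ((insert g s : Finset A) : Set A) • (⊤ : Submodule A M) := by
        rw [h]; trivial
      rw [Finset.coe_insert, Ideal.span_insert, Submodule.sup_smul] at hm
      obtain ⟨y, hy, z, hz, rfl⟩ := Submodule.mem_sup.mp hm
      rw [Submodule.Quotient.mk_add]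
      have hy0 : (Submodule.Quotient.mk y : N) = 0 := by
        rw [Submodule.Quotient.mk_eq_zero]
        rw [Submodule.ideal_span_singleton_smul] at hy
        obtain ⟨y', -, rfl⟩ := (Submodule.mem_smul_pointwise_iff_exists _ _ _).mp hy
        exact ⟨y', rfl⟩
      rw [hy0, zero_add]
      have : Submodule.map (Submodule.mkQ (LinearMap.range (LinearMap.lsmul A M g)))
          (Ideal.span (s : Set A) • (⊤ : Submodule A M)) ≤
          Ideal.span (s : Set A) • (⊤ : Submodule A N) := by
        rw [Submodule.map_smul'']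
        exact Submodule.smul_mono le_rfl le_top
      exact this ⟨z, hz, rfl⟩
    have hN0 := ih N hN hNtop
    have hgtop : LinearMap.range (LinearMap.lsmul A M g) = ⊤ := by
      rw [eq_top_iff]
      rintro m -
      have := hN0 (Submodule.Quotient.mk m)
      rwa [Submodule.Quotient.mk_eq_zero] at this
    exact eq_zero_of_range_lsmul_eq_top (hM g (Finset.mem_insert_self g s)) hgtop


section Precomplete

variable {M : Type*} [AddCommGroup M] [Module A M]

theorem exists_sum_pow_smul (s : Finset A) (n : ℕ) :
    ∀ m : M, m ∈ (Ideal.span (s : Set A)) ^ (s.card * n + 1) • (⊤ : Submodule A M) →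
      ∃ z : A → M, m = ∑ g ∈ s, g ^ n • z g := by
  classical
  induction s using Finset.induction_on with
  | empty =>
    intro m hm
    refine ⟨fun _ => 0, ?_⟩
    simpa using hm
  | insert g s hg ih =>
    intro m hm
    have hle : (Ideal.span ((insert g s : Finset A) : Set A)) ^ ((insert g s).card * n + 1) ≤
        Ideal.span {g ^ n} ⊔ (Ideal.span (s : Set A)) ^ (s.card * n + 1) := by
      rw [Finset.card_insert_of_notMem hg, Finset.coe_insert, Ideal.span_insert,
        ← Ideal.span_singleton_pow]
      have : (s.card + 1) * n + 1 = n + (s.card * n + 1) := by ring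
      rw [this]
      exact Ideal.sup_pow_add_le_pow_sup_pow
    have hm' := Submodule.smul_mono hle (le_refl (⊤ : Submodule A M)) hm
    rw [Submodule.sup_smul] at hm'
    obtain ⟨y, hy, m', hm'', rfl⟩ := Submodule.mem_sup.mp hm'
    rw [Submodule.ideal_span_singleton_smul] at hy
    obtain ⟨y', -, rfl⟩ := (Submodule.mem_smul_pointwise_iff_exists _ _ _).mp hy
    obtain ⟨z, rfl⟩ := ih m' hm''
    refine ⟨Function.update z g y', ?_⟩
    rw [Finset.sum_insert hg, Function.update_self]
    congr 1
    refine Finset.sum_congr rfl fun h hh => ?_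
    rw [Function.update_of_ne]
    rintro rfl
    exact hg hh

/-- If `M` is `g`-complete (surjectivity part) for all `g` in a finite set `s` then `M` is
`(s)`-adically precomplete. -/
theorem isPrecomplete_of_surj (s : Finset A)
    (h : ∀ g ∈ s, ∀ m : ℕ → M, ∃ x : ℕ → M, ∀ n, x n - g • x (n + 1) = m n) :
    IsPrecomplete (Ideal.span (s : Set A)) M := by
  classical
  rw [isPrecomplete_iff]
  intro a ha
  set I := Ideal.span (s : Set A) with hI
  -- the reindexed sequence
  let e : ℕ → ℕ := fun n => s.card * n + 1 + n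
  have he : ∀ n, n ≤ e n := fun n => Nat.le_add_left _ _
  have hstep : ∀ n, ∃ z : A → M, a (e (n + 1)) - a (e n) = ∑ g ∈ s, g ^ n • z g := by
    intro n
    apply exists_sum_pow_smul s n
    have h1 : a (e n) ≡ a (e (n + 1)) [SMOD (I ^ (e n) • ⊤ : Submodule A M)] :=
      ha (by show s.card * n + 1 + n ≤ s.card * (n + 1) + 1 + (n + 1); nlinarith)
    have h2 := SModEq.sub_mem.mp h1.symm
    refine Submodule.smul_mono (Ideal.pow_le_pow_right ?_) le_rfl h2
    show s.card * n + 1 ≤ s.card * n + 1 + n
    exact Nat.le_add_right _ _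
  choose z hz using hstep
  have hY : ∀ g, ∃ y : ℕ → M, g ∈ s → ∀ n, y n - g • y (n + 1) = z n g := by
    intro g
    by_cases hg : g ∈ s
    · obtain ⟨y, hy⟩ := h g hg (fun n => z n g)
      exact ⟨y, fun _ => hy⟩
    · exact ⟨fun _ => 0, fun hg' => absurd hg' hg⟩
  choose Y hY using hY
  let t : ℕ → M := fun n => ∑ g ∈ s, g ^ n • Y g n
  have ht : ∀ n, t n - t (n + 1) = a (e (n + 1)) - a (e n) := by
    intro n
    rw [hz n, ← Finset.sum_sub_distrib]
    refine Finset.sum_congr rfl fun g hg => ?_
    rw [← hY g hg n, smul_sub, pow_succ, mul_smul]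
  have hconst : ∀ n, a (e n) + t n = a (e 0) + t 0 := by
    intro n
    induction n with
    | zero => rfl
    | succ n ih =>
      rw [← ih]
      have := ht n
      rw [sub_eq_sub_iff_add_eq_add] at this
      rw [← this, add_comm]
  refine ⟨a (e 0) + t 0, fun n => ?_⟩
  rw [SModEq.sub_mem, ← hconst n]
  have h1 : a n - a (e n) ∈ (I ^ n • ⊤ : Submodule A M) := SModEq.sub_mem.mp (ha (he n))
  have h2 : t n ∈ (I ^ n • ⊤ : Submodule A M) := by
    refine Submodule.sum_mem _ fun g hg => ?_
    exact Submodule.smul_mem_smul (Ideal.pow_mem_pow (Ideal.subset_span hg) n) trivial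
  have : a n - (a (e n) + t n) = (a n - a (e n)) - t n := by abel
  rw [this]
  exact Submodule.sub_mem _ h1 h2

end Precomplete

section Ring

/-- Principal case: if `A` has no nonzero `f`-divisible sequences then `(⋂ f^n A)^2 = 0`. -/
theorem iInf_span_pow_sq_eq_bot {A : Type u} [CommRing A] (f : A)
    (h : ∀ u : ℕ → A, (∀ n, u n = f • u (n + 1)) → ∀ n, u n = 0) :
    (⨅ n : ℕ, Ideal.span {f ^ n}) ^ 2 = (⊥ : Ideal A) := by
  rw [eq_bot_iff, sq, Ideal.mul_le]
  intro x hx y hy
  rw [Ideal.mem_iInf] at hx hy
  have hx' : ∀ n, ∃ a, x = f ^ n * a := fun n => by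
    obtain ⟨a, ha⟩ := Ideal.mem_span_singleton'.mp (hx n)
    exact ⟨a, by rw [← ha, mul_comm]⟩
  have hy' : ∀ n, ∃ b, y = f ^ n * b := fun n => by
    obtain ⟨b, hb⟩ := Ideal.mem_span_singleton'.mp (hy n)
    exact ⟨b, by rw [← hb, mul_comm]⟩
  choose a ha using hx'
  choose b hb using hy'
  have hu : ∀ n, y * a n = f • (y * a (n + 1)) := by
    intro n
    have h1 : f ^ n * (a n - f * a (n + 1)) = 0 := by
      rw [mul_sub, ← ha n, ← mul_assoc, ← pow_succ, ← ha (n + 1), sub_self]
    have h2 : y * (a n - f * a (n + 1)) = 0 := by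
      rw [hb n, mul_right_comm, h1, zero_mul]
    rw [smul_eq_mul, mul_left_comm, ← sub_eq_zero, ← mul_sub]
    exact h2
  have h0 := h (fun n => y * a n) hu 0
  have hxa : x = a 0 := by rw [ha 0, pow_zero, one_mul]
  rw [Ideal.mem_bot, hxa, mul_comm]
  exact h0

/-- Transfer of sequence completeness to a quotient ring regarded as a module over itself. -/
theorem quotient_ring {A : Type u} [CommRing A] (K : Ideal A) (g : A)
    (h : IsSeqComplete g (A ⧸ K)) : IsSeqComplete (Ideal.Quotient.mk K g) (A ⧸ K) := by
  have key : ∀ b : A ⧸ K, (Ideal.Quotient.mk K g) • b = g • b := by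
    intro b
    obtain ⟨b', rfl⟩ := Ideal.Quotient.mk_surjective b
    rfl
  constructor
  · intro u hu n
    exact h.1 u (fun k => by rw [hu k, key]) n
  · intro m
    obtain ⟨x, hx⟩ := h.2 m
    exact ⟨x, fun k => by rw [key]; exact hx k⟩

theorem quotient_span_pow {A : Type u} [CommRing A] (f g : A) (n : ℕ)
    (h : IsSeqComplete g A) : IsSeqComplete g (A ⧸ Ideal.span {f ^ n}) := by
  have h1 := quotient_range h h (LinearMap.lsmul A A (f ^ n))
  have heq : LinearMap.range (LinearMap.lsmul A A (f ^ n)) = Ideal.span {f ^ n} := by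
    ext x
    rw [Ideal.mem_span_singleton']
    constructor
    · rintro ⟨a, rfl⟩; exact ⟨a, by simp [mul_comm]⟩
    · rintro ⟨a, rfl⟩; exact ⟨a, by simp [mul_comm]⟩
  exact of_linearEquiv h1 (Submodule.quotEquivOfEq _ _ heq)

theorem iInf_pow_pow_eq_bot_list (r : ℕ) :
    ∀ (A : Type u) [CommRing A] (l : List A), l.length = r → (∀ g ∈ l, IsSeqComplete g A) →
      (⨅ n : ℕ, (Ideal.span {x | x ∈ l}) ^ n) ^ (2 ^ r) = (⊥ : Ideal A) := by
  induction r with
  | zero =>
    intro A _ l hl _
    rw [List.length_eq_zero_iff] at hl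
    subst hl
    rw [pow_zero, pow_one, eq_bot_iff]
    refine (iInf_le _ 1).trans ?_
    simp
  | succ r ih =>
    intro A _ l hl hc
    obtain ⟨f, l', rfl⟩ := List.exists_cons_of_length_eq_add_one hl
    have hl' : l'.length = r := by simpa using hl
    set I' : Ideal A := Ideal.span {x | x ∈ l'} with hI'
    have hI : Ideal.span {x | x ∈ f :: l'} = Ideal.span {f} ⊔ I' := by
      rw [hI', ← Ideal.span_union]
      congr 1
      ext x
      simp
    rw [hI]
    set J : Ideal A := ⨅ n : ℕ, (Ideal.span {f} ⊔ I') ^ n with hJ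
    -- key claim
    have hkey : J ^ (2 ^ r) ≤ ⨅ n : ℕ, Ideal.span {f ^ n} := by
      rw [le_iInf_iff]
      intro n
      let B := A ⧸ Ideal.span {f ^ n}
      let π : A →+* B := Ideal.Quotient.mk _
      have hB : ∀ g ∈ l'.map π, IsSeqComplete g B := by
        intro g hg
        obtain ⟨g', hg', rfl⟩ := List.mem_map.mp hg
        exact quotient_ring _ g' (quotient_span_pow f g' n (hc g' (List.mem_cons_of_mem _ hg')))
      have hIH := ih B (l'.map π) (by rw [List.length_map, hl']) hB
      have hspan : Ideal.span {x | x ∈ l'.map π} = I'.map π := by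
        rw [hI', Ideal.map_span]
        congr 1
        ext x
        simp
      rw [hspan] at hIH
      have hJB : J.map π ≤ ⨅ m : ℕ, (I'.map π) ^ m := by
        rw [le_iInf_iff]
        intro m
        have h1 : J ≤ (Ideal.span {f} ⊔ I') ^ (n + m) := iInf_le _ _
        have h2 : (Ideal.span {f} ⊔ I') ^ (n + m) ≤ Ideal.span {f ^ n} ⊔ I' ^ m := by
          rw [← Ideal.span_singleton_pow]
          exact Ideal.sup_pow_add_le_pow_sup_pow
        refine (Ideal.map_mono (h1.trans h2)).trans ?_
        rw [Ideal.map_sup, Ideal.map_pow]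
        have : (Ideal.span {f ^ n}).map π = ⊥ := by
          rw [Ideal.map_span, Set.image_singleton]
          rw [Ideal.span_singleton_eq_bot]
          exact Ideal.Quotient.eq_zero_iff_mem.mpr (Ideal.mem_span_singleton_self _)
        rw [this, bot_sup_eq]
      have h3 : (J ^ (2 ^ r)).map π = ⊥ := by
        rw [Ideal.map_pow, eq_bot_iff, ← hIH]
        exact Ideal.pow_right_mono hJB _
      intro x hx
      have hx' : π x ∈ (J ^ (2 ^ r)).map π := Ideal.mem_map_of_mem π hx
      rw [h3, Ideal.mem_bot] at hx'
      exact Ideal.Quotient.eq_zero_iff_mem.mp hx'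
    have hprin := iInf_span_pow_sq_eq_bot f (hc f (List.mem_cons_self)).1
    rw [pow_succ, pow_mul, eq_bot_iff, ← hprin]
    exact Ideal.pow_right_mono hkey 2

end Ring

end Groth.Agent.Lib.SeqComplete
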