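import Groth.Agent.Lib.SeqComplete

/-!
More on `IsSeqComplete`: a Baire-type lemma for precomplete power-torsion modules, closure under
products and images, and bounded torsion of complete power-torsion modules.
-/

set_option autoImplicit false
universe u v
namespace Groth.Agent.Lib.SeqComplete

variable {A : Type u} [CommRing A] {M : Type v} [AddCommGroup M] [Module A M]

/-- One step of the diagonal construction. -/
theorem baire_step (I : Ideal A)
    (h : ∀ k, ¬ (I ^ k • (⊤ : Submodule A M) ≤ ⨅ n : ℕ, I ^ n • (⊤ : Submodule A M)))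
    (i : ℕ) (x : M) (n : ℕ) :
    ∃ (x' : M) (n' : ℕ), x' - x ∈ I ^ n • (⊤ : Submodule A M) ∧ n < n' ∧
      ∃ a ∈ I ^ (i + 1), a • x' ∉ I ^ n' • (⊤ : Submodule A M) := by
  set K : Submodule A M := ⨅ n : ℕ, I ^ n • (⊤ : Submodule A M) with hK
  have hfin : ∀ (x' : M) (a : A), a ∈ I ^ (i + 1) → a • x' ∉ K → x' - x ∈ I ^ n • (⊤ : Submodule A M) →
      ∃ (x' : M) (n' : ℕ), x' - x ∈ I ^ n • (⊤ : Submodule A M) ∧ n < n' ∧
        ∃ a ∈ I ^ (i + 1), a • x' ∉ I ^ n' • (⊤ : Submodule A M) := by
    intro x' a ha hax hx'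
    rw [hK, Submodule.mem_iInf] at hax
    push Not at hax
    obtain ⟨m, hm⟩ := hax
    refine ⟨x', max m (n + 1), hx', lt_of_lt_of_le (Nat.lt_succ_self n) (le_max_right _ _), a, ha,
      fun hcon => hm ?_⟩
    exact Submodule.smul_mono (Ideal.pow_le_pow_right (le_max_left _ _)) le_rfl hcon
  by_cases hx : ∃ a ∈ I ^ (i + 1), a • x ∉ K
  · obtain ⟨a, ha, hax⟩ := hx
    exact hfin x a ha hax (by rw [sub_self]; exact Submodule.zero_mem _)
  · push Not at hx
    have hk := h (i + 1 + n)
    have : ∃ a ∈ I ^ (i + 1), ∃ y ∈ I ^ n • (⊤ : Submodule A M), a • y ∉ K := by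
      by_contra hcon
      push Not at hcon
      apply hk
      rw [pow_add, mul_smul]
      rw [Submodule.smul_le]
      intro a ha y hy
      exact hcon a ha y hy
    obtain ⟨a, ha, y, hy, hay⟩ := this
    refine hfin (x + y) a ha ?_ (by rw [add_sub_cancel_left]; exact hy)
    intro hcon
    apply hay
    have := Submodule.sub_mem _ hcon (hx a ha)
    rwa [smul_add, add_sub_cancel_left] at this

/-- Baire-type lemma: a precomplete `I`-power torsion module has `I ^ k M ⊆ ⋂ I ^ n M` for some
`k`. -/
theorem exists_pow_smul_top_le_iInf (I : Ideal A) (hpre : IsPrecomplete I M)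
    (ht : ∀ m : M, ∃ n : ℕ, ∀ a ∈ I ^ n, a • m = 0) :
    ∃ k, I ^ k • (⊤ : Submodule A M) ≤ ⨅ n : ℕ, I ^ n • (⊤ : Submodule A M) := by
  by_contra h
  push Not at h
  choose X N hX hN hB using baire_step I h
  -- the recursive sequence of pairs
  let p : ℕ → M × ℕ := fun i => Nat.rec (0, 0) (fun j q => (X j q.1 q.2, N j q.1 q.2)) i
  have hp : ∀ i, p (i + 1) = (X i (p i).1 (p i).2, N i (p i).1 (p i).2) := fun i => rfl
  have P1 : ∀ i, (p (i + 1)).1 - (p i).1 ∈ I ^ (p i).2 • (⊤ : Submodule A M) := fun i => by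
    rw [hp]; exact hX i _ _
  have P2 : ∀ i, (p i).2 < (p (i + 1)).2 := fun i => by
    rw [hp]; exact hN i _ _
  have P3 : ∀ i, ∃ a ∈ I ^ (i + 1), a • (p (i + 1)).1 ∉ I ^ (p (i + 1)).2 • (⊤ : Submodule A M) :=
    fun i => by rw [hp]; exact hB i _ _
  have hmono : StrictMono fun i => (p i).2 := strictMono_nat_of_lt_succ P2
  have hge : ∀ i, i ≤ (p i).2 := fun i => hmono.le_apply
  have hdiff : ∀ i j, i ≤ j → (p j).1 - (p i).1 ∈ I ^ (p i).2 • (⊤ : Submodule A M) := by
    intro i j hij
    induction j, hij using Nat.le_induction with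
    | base => rw [sub_self]; exact Submodule.zero_mem _
    | succ j hij ih =>
      have h1 : (p (j + 1)).1 - (p j).1 ∈ I ^ (p i).2 • (⊤ : Submodule A M) :=
        Submodule.smul_mono (Ideal.pow_le_pow_right (hmono.monotone hij)) le_rfl (P1 j)
      have := Submodule.add_mem _ h1 ih
      rwa [sub_add_sub_cancel] at this
  obtain ⟨L, hL⟩ := hpre.prec (f := fun i => (p i).1) (fun {m n} hmn => by
    rw [SModEq.sub_mem]
    have := hdiff m n hmn
    have h2 : (p m).1 - (p n).1 ∈ I ^ (p m).2 • (⊤ : Submodule A M) := by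
      rw [← neg_sub]; exact Submodule.neg_mem _ this
    exact Submodule.smul_mono (Ideal.pow_le_pow_right (hge m)) le_rfl h2)
  have hLi : ∀ i, L - (p i).1 ∈ I ^ (p i).2 • (⊤ : Submodule A M) := by
    intro i
    have h1 : (p (p i).2).1 - L ∈ I ^ (p i).2 • (⊤ : Submodule A M) :=
      SModEq.sub_mem.mp (hL (p i).2)
    have h2 := hdiff i (p i).2 (hge i)
    have := Submodule.sub_mem _ h2 h1
    rwa [sub_sub_sub_cancel_left] at this
  obtain ⟨n, hn⟩ := ht L
  obtain ⟨a, ha, hax⟩ := P3 n
  apply hax
  have haL : a • L = 0 := hn a (Ideal.pow_le_pow_right (Nat.le_succ n) ha)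
  have h3 : a • (p (n + 1)).1 = - (a • (L - (p (n + 1)).1)) := by
    rw [smul_sub, haL, zero_sub, neg_neg]
  rw [h3]
  exact Submodule.neg_mem _ (Submodule.smul_mem _ a (hLi (n + 1)))

section MoreClosure

variable {f : A} {N : Type*} [AddCommGroup N] [Module A N]

/-- Products of `f`-complete modules are `f`-complete. -/
theorem pi {ι : Type*} (hM : IsSeqComplete f M) : IsSeqComplete f (ι → M) := by
  constructor
  · intro u hu n
    funext i
    exact hM.1 (fun k => u k i) (fun k => by rw [hu k]; rfl) n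
  · intro m
    have : ∀ i, ∃ x : ℕ → M, ∀ n, x n - f • x (n + 1) = m n i := fun i => hM.2 (fun n => m n i)
    choose x hx using this
    refine ⟨fun n i => x i n, fun n => ?_⟩
    funext i
    exact hx i n

/-- The image of a linear map between `f`-complete modules is `f`-complete. -/
theorem range (hM : IsSeqComplete f M) (hN : IsSeqComplete f N) (φ : M →ₗ[A] N) :
    IsSeqComplete f (LinearMap.range φ) := by
  have hK := ker hM hN φ
  have hQ := quotient_range hK hM (LinearMap.ker φ).subtype
  have hQ' : IsSeqComplete f (M ⧸ LinearMap.ker φ) :=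
    of_linearEquiv hQ (Submodule.quotEquivOfEq _ _ (Submodule.range_subtype _))
  exact of_linearEquiv hQ' φ.quotKerEquivRange

/-- `(s)^k M` is `f`-complete. -/
theorem span_smul_top (hM : IsSeqComplete f M) (t : Finset A) :
    IsSeqComplete f ((Ideal.span (t : Set A)) • (⊤ : Submodule A M) : Submodule A M) := by
  classical
  let φ : (A → M) →ₗ[A] M := ∑ a ∈ t, a • LinearMap.proj a
  have hφ : ∀ x, φ x = ∑ a ∈ t, a • x a := fun x => by
    simp [φ, LinearMap.sum_apply]
  have hrange : LinearMap.range φ = (Ideal.span (t : Set A)) • (⊤ : Submodule A M) := by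
    apply le_antisymm
    · rintro _ ⟨x, rfl⟩
      rw [hφ]
      exact Submodule.sum_mem _ fun a ha =>
        Submodule.smul_mem_smul (Ideal.subset_span ha) trivial
    · rw [Submodule.smul_le]
      intro r hr m _
      induction hr using Submodule.span_induction with
      | mem a ha =>
        refine ⟨Pi.single a m, ?_⟩
        rw [hφ, Finset.sum_eq_single a]
        · rw [Pi.single_eq_same]
        · intro b _ hb
          rw [Pi.single_eq_of_ne hb, smul_zero]
        · intro ha'; exact absurd ha ha'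
      | zero => rw [zero_smul]; exact Submodule.zero_mem _
      | add x y _ _ hx hy => rw [add_smul]; exact Submodule.add_mem _ hx hy
      | smul c x _ hx => rw [smul_eq_mul, mul_smul]; exact Submodule.smul_mem _ c hx
  have := range (pi (ι := A) hM) hM φ
  rw [hrange] at this
  exact this

end MoreClosure

/-- A module which is `g`-complete for all `g` in the finite set `s` and `(s)`-power torsion is
killed by a power of `(s)`. -/
theorem exists_pow_smul_top_eq_bot {A : Type u} [CommRing A] (s : Finset A)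
    (M : Type u) [AddCommGroup M] [Module A M]
    (hM : ∀ g ∈ s, IsSeqComplete g M)
    (ht : ∀ m : M, ∃ n : ℕ, ∀ a ∈ (Ideal.span (s : Set A)) ^ n, a • m = 0) :
    ∃ n : ℕ, (Ideal.span (s : Set A)) ^ n • (⊤ : Submodule A M) = ⊥ := by
  classical
  set I := Ideal.span (s : Set A) with hI
  have hpre : IsPrecomplete I M := isPrecomplete_of_surj s (fun g hg => (hM g hg).2)
  obtain ⟨k, hk⟩ := exists_pow_smul_top_le_iInf I hpre ht
  refine ⟨k, ?_⟩
  have hfg : (I ^ k).FG := Ideal.FG.pow ⟨s, rfl⟩
  obtain ⟨t, htk⟩ := hfg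
  set M' : Submodule A M := I ^ k • (⊤ : Submodule A M) with hM'
  have hcomp : ∀ g ∈ s, IsSeqComplete g M' := by
    intro g hg
    have := span_smul_top (hM g hg) t
    rw [htk] at this
    exact this
  have htop : I • (⊤ : Submodule A M') = ⊤ := by
    rw [eq_top_iff]
    rintro x -
    have hx : (x : M) ∈ I • M' := by
      have h1 : (x : M) ∈ I ^ (k + 1) • (⊤ : Submodule A M) := by
        have := hk x.2
        rw [Submodule.mem_iInf] at this
        exact this (k + 1)
      rwa [pow_succ', mul_smul] at h1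
    have hmap : Submodule.map M'.subtype (I • (⊤ : Submodule A M')) = I • M' := by
      rw [Submodule.map_smul'', Submodule.map_top, Submodule.range_subtype]
    rw [← hmap] at hx
    obtain ⟨y, hy, hyx⟩ := hx
    have : y = x := Subtype.ext hyx
    rwa [this] at hy
  have hzero := eq_zero_of_span_smul_top_eq_top s M' hcomp htop
  rw [eq_bot_iff]
  intro x hx
  have := hzero ⟨x, hx⟩
  rw [Submodule.mem_bot]
  exact congrArg Subtype.val this

end Groth.Agent.Lib.SeqComplete
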