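import Groth.Agent.Lib.SeqComplete
import Groth.Agent.Lib.HenselRadical

/-!
A ring which is sequence-complete (`IsSeqComplete g A`) for every `g` in an ideal `I` is
henselian along `I`.
-/

set_option autoImplicit false
universe u v
open Polynomial
namespace Groth.Agent.Lib.SeqComplete

variable {A : Type u} [CommRing A]

/-- If `A` is `g`-complete then `1 - g` is a unit. -/
theorem isUnit_one_sub (g : A) (h : IsSeqComplete g A) : IsUnit (1 - g) := by
  obtain ⟨u, hu⟩ := h.2 (fun _ => 1)
  have hd : ∀ n, u n - u (n + 1) = g • (u (n + 1) - u (n + 2)) := by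
    intro n
    have h1 := hu n
    have h2 := hu (n + 1)
    simp only [smul_eq_mul] at h1 h2 ⊢
    linear_combination h1 - h2
  have h0 := h.1 (fun n => u n - u (n + 1)) hd 0
  have h1 := hu 0
  simp only [smul_eq_mul] at h1
  have h01 : u 0 = u 1 := sub_eq_zero.mp h0
  refine IsUnit.of_mul_eq_one (u 0) ?_
  rw [← h01] at h1
  linear_combination h1

theorem le_jacobson_bot (I : Ideal A) (h : ∀ g ∈ I, IsSeqComplete g A) :
    I ≤ Ideal.jacobson ⊥ := by
  intro x hx
  rw [Ideal.mem_jacobson_bot]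
  intro y
  have hg : -(x * y) ∈ I := I.neg_mem (I.mul_mem_right y hx)
  have := isUnit_one_sub _ (h _ hg)
  rwa [sub_neg_eq_add, add_comm] at this

/-- The Hensel lifting property from sequence completeness. -/
theorem exists_root (I : Ideal A) (hc : ∀ g ∈ I, IsSeqComplete g A)
    (f : A[X]) (a₀ : A) (h₁ : f.eval a₀ ∈ I)
    (h₂ : IsUnit (Ideal.Quotient.mk I (f.derivative.eval a₀))) :
    ∃ a, f.IsRoot a ∧ a - a₀ ∈ I := by
  classical
  have hjac := le_jacobson_bot I hc
  have hu : IsUnit (f.derivative.eval a₀) := HenselRadical.isUnit_of_isUnit_mk hjac h₂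
  set h := f.eval a₀ with hh
  have hspanI : Ideal.span {h} ≤ I := by
    rw [Ideal.span_singleton_le_iff_mem]; exact h₁
  have hpowle : ∀ n, Ideal.span {h ^ (n + 1)} ≤ Ideal.span {h} := fun n => by
    rw [Ideal.span_singleton_le_iff_mem, pow_succ]
    exact Ideal.mul_mem_left _ _ (Ideal.mem_span_singleton_self h)
  have hunit : ∀ b, b - a₀ ∈ Ideal.span {h} → IsUnit (f.derivative.eval b) := fun b hb =>
    HenselRadical.isUnit_of_sub_mem hjac hu
      (HenselRadical.eval_sub_eval_mem f.derivative (hspanI hb))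
  let P : ℕ → A → Prop := fun n b => b - a₀ ∈ Ideal.span {h} ∧ f.eval b ∈ Ideal.span {h ^ (n + 1)}
  have step : ∀ n b, P n b → ∃ b', P (n + 1) b' ∧ b' - b ∈ Ideal.span {h ^ (n + 1)} := by
    intro n b hb
    obtain ⟨b', c, hb'c, d, hd⟩ := HenselRadical.newton_step f b (hunit b hb.1)
    have hdiff : b' - b ∈ Ideal.span {h ^ (n + 1)} := by
      rw [hb'c]
      exact Submodule.neg_mem _ (Ideal.mul_mem_right _ _ hb.2)
    refine ⟨b', ⟨?_, ?_⟩, hdiff⟩
    · have := Ideal.add_mem _ (hpowle n hdiff) hb.1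
      rwa [sub_add_sub_cancel] at this
    · obtain ⟨e, he⟩ := Ideal.mem_span_singleton'.mp hb.2
      rw [hd, ← he, Ideal.mem_span_singleton']
      exact ⟨d * e ^ 2 * h ^ n, by ring⟩
  have P0 : P 0 a₀ := ⟨by rw [sub_self]; exact Ideal.zero_mem _, by
    rw [zero_add, pow_one]; exact Ideal.mem_span_singleton_self h⟩
  choose B hB1 hB2 using step
  let p : (n : ℕ) → {b // P n b} :=
    fun n => Nat.rec ⟨a₀, P0⟩ (fun k q => ⟨B k q.1 q.2, hB1 k q.1 q.2⟩) n
  let b : ℕ → A := fun n => (p n).1
  have hbP : ∀ n, P n (b n) := fun n => (p n).2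
  have hbstep : ∀ n, b (n + 1) - b n ∈ Ideal.span {h ^ (n + 1)} := fun n => hB2 n (p n).1 (p n).2
  have hdiff : ∀ n m, n ≤ m → b m - b n ∈ Ideal.span {h ^ n} := by
    intro n m hnm
    induction m, hnm using Nat.le_induction with
    | base => rw [sub_self]; exact Ideal.zero_mem _
    | succ m hnm ih =>
      have h1 : b (m + 1) - b m ∈ Ideal.span {h ^ n} := by
        have := hbstep m
        obtain ⟨e, he⟩ := Ideal.mem_span_singleton'.mp this
        rw [← he, Ideal.mem_span_singleton']
        exact ⟨e * h ^ (m + 1 - n), by rw [mul_assoc, ← pow_add]; congr 2; omega⟩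
      have := Ideal.add_mem _ h1 ih
      rwa [sub_add_sub_cancel] at this
  have hsmul : ∀ n, ((Ideal.span {h}) ^ n • ⊤ : Submodule A A) = Ideal.span {h ^ n} := fun n => by
    rw [smul_eq_mul, Ideal.mul_top, Ideal.span_singleton_pow]
  have hpre : IsPrecomplete (Ideal.span (({h} : Finset A) : Set A)) A :=
    isPrecomplete_of_surj {h} (fun g hg => by
      rw [Finset.mem_singleton] at hg; subst hg; exact (hc _ h₁).2)
  rw [Finset.coe_singleton] at hpre
  obtain ⟨L, hL⟩ := hpre.prec (f := b) (fun {m n} hmn => by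
    rw [SModEq.sub_mem, hsmul]
    have := hdiff m n hmn
    rw [← neg_sub]; exact Submodule.neg_mem _ this)
  have hLb : ∀ n, L - b n ∈ Ideal.span {h ^ n} := fun n => by
    have := SModEq.sub_mem.mp (hL n)
    rw [hsmul] at this
    rw [← neg_sub]; exact Submodule.neg_mem _ this
  have hLa : L - a₀ ∈ Ideal.span {h} := by
    have h1 := hLb 1
    rw [pow_one] at h1
    have := Ideal.add_mem _ h1 (hbP 1).1
    rwa [sub_add_sub_cancel] at this
  have hfL : f.eval L ∈ ⨅ n : ℕ, Ideal.span {h ^ n} := by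
    rw [Ideal.mem_iInf]
    intro n
    have h1 : f.eval L - f.eval (b n) ∈ Ideal.span {h ^ n} :=
      HenselRadical.eval_sub_eval_mem f (hLb n)
    have h2 : f.eval (b n) ∈ Ideal.span {h ^ n} := by
      obtain ⟨e, he⟩ := Ideal.mem_span_singleton'.mp (hbP n).2
      rw [← he, Ideal.mem_span_singleton']
      exact ⟨e * h, by rw [pow_succ]; ring⟩
    have := Ideal.add_mem _ h1 h2
    rwa [sub_add_cancel] at this
  have hsq := iInf_span_pow_sq_eq_bot h (hc h h₁).1
  obtain ⟨L', c, hL'c, d, hd⟩ := HenselRadical.newton_step f L (hunit L hLa)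
  refine ⟨L', ?_, ?_⟩
  · show f.eval L' = 0
    have : f.eval L ^ 2 ∈ (⨅ n : ℕ, Ideal.span {h ^ n}) ^ 2 := Ideal.pow_mem_pow hfL 2
    rw [hsq, Ideal.mem_bot] at this
    rw [hd, this, mul_zero]
  · have h1 : L' - L ∈ Ideal.span {h} := by
      rw [hL'c]
      apply Submodule.neg_mem
      apply Ideal.mul_mem_right
      have := (Ideal.mem_iInf.mp hfL) 1
      rwa [pow_one] at this
    have := Ideal.add_mem _ h1 hLa
    rw [sub_add_sub_cancel] at this
    exact hspanI this

/-- A ring which is sequence-complete for every element of `I` is henselian along `I`. -/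
theorem henselianRing (I : Ideal A) (hc : ∀ g ∈ I, IsSeqComplete g A) : HenselianRing A I where
  jac := le_jacobson_bot I hc
  is_henselian := fun f _ a₀ h₁ h₂ => exists_root I hc f a₀ h₁ h₂

end Groth.Agent.Lib.SeqComplete
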