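import Groth.Agent.Lib.KRDescC

/-!
# Faithfully flat descent of ideals locally generated by sequences of a given kind (helper32)

Namespace `Groth.Agent.Lib.SeqDesc`.

`SeqProp` packages a property `P` of finite families of ring elements together with the formal
properties used in the descent argument of `Lib/KRDescC` (flat base change, minimality of the
length, invariance under change of generators of the same length, faithfully flat descent for a
fixed family, Zariski local-to-global, triviality for the unit ideal).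

`LocGen Φ J` : around every prime containing `J`, on a basic open `D(g)`, the ideal `J` is generated
by a family with property `Φ.P` (in `Localization.Away g`).

`locGen_of_faithfullyFlat` : for `A → B` faithfully flat, `LocGen Φ (I B) → LocGen Φ I`.
-/

set_option autoImplicit false
universe u

namespace Groth.Agent.Lib.SeqDesc

open Groth.Agent.Lib.KRDescB

/-- a property of finite families of ring elements with the formal properties needed for
faithfully flat descent of "locally generated by a family with the property" -/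
structure SeqProp where
  P : ∀ (T : Type u) [CommRing T] (n : ℕ), (Fin n → T) → Prop
  map_flat : ∀ {S T : Type u} [CommRing S] [CommRing T] [Algebra S T] [Module.Flat S T] {n : ℕ}
    (f : Fin n → S), P S n f → P T n (algebraMap S T ∘ f)
  length_le : ∀ {T : Type u} [CommRing T] {n m : ℕ} (f : Fin n → T) (f' : Fin m → T), P T n f →
    Ideal.span (Set.range f) ≠ ⊤ → Ideal.span (Set.range f) = Ideal.span (Set.range f') → n ≤ m
  of_span_eq : ∀ {T : Type u} [CommRing T] {n : ℕ} (f f' : Fin n → T), P T n f →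
    Ideal.span (Set.range f') = Ideal.span (Set.range f) → P T n f'
  of_faithfullyFlat : ∀ {S T : Type u} [CommRing S] [CommRing T] [Algebra S T]
    [Module.FaithfullyFlat S T] {n : ℕ} (f : Fin n → S), P T n (algebraMap S T ∘ f) → P S n f
  of_locally : ∀ {T : Type u} [CommRing T] {n : ℕ} (f : Fin n → T),
    (∀ 𝔮 : PrimeSpectrum T, ∃ g : T, g ∉ 𝔮.asIdeal ∧
      P (Localization.Away g) n (algebraMap T (Localization.Away g) ∘ f)) → P T n f
  of_eq_top : ∀ {T : Type u} [CommRing T] {n : ℕ} (f : Fin n → T),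
    Ideal.span (Set.range f) = ⊤ → P T n f

section defs

variable (Φ : SeqProp.{u}) {B : Type u} [CommRing B]

/-- on `B_g` the extension of `J` is generated by a family of length `s` with property `Φ` -/
def GenLen (J : Ideal B) (g : B) (s : ℕ) : Prop :=
  ∃ f : Fin s → Localization.Away g, Φ.P (Localization.Away g) s f ∧
    Ideal.span (Set.range f) = J.map (algebraMap B (Localization.Away g))

/-- `J` is locally (around the primes containing it, on basic opens) generated by a family with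
property `Φ` -/
def LocGen (J : Ideal B) : Prop :=
  ∀ 𝔭 : PrimeSpectrum B, J ≤ 𝔭.asIdeal → ∃ g : B, g ∉ 𝔭.asIdeal ∧ ∃ s, GenLen Φ J g s

end defs

variable {Φ : SeqProp.{u}}

section genLen

variable {B : Type u} [CommRing B]

/-- transfer to any flat `B`-algebra in which `g` is invertible -/
theorem GenLen.transfer {J : Ideal B} {g : B} {s : ℕ} (h : GenLen Φ J g s)
    (T : Type u) [CommRing T] [Algebra B T] [Module.Flat B T]
    (hg : IsUnit (algebraMap B T g)) :
    ∃ f : Fin s → T, Φ.P T s f ∧ Ideal.span (Set.range f) = J.map (algebraMap B T) := by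
  obtain ⟨f, hf, hJ⟩ := h
  let S := Localization.Away g
  let φ : S →+* T := IsLocalization.Away.lift g hg
  let _ : Algebra S T := φ.toAlgebra
  have : IsScalarTower B S T := IsScalarTower.of_algebraMap_eq
    (fun x => (IsLocalization.Away.lift_eq g hg x).symm)
  have : Module.Flat S T := (Module.flat_iff_of_isLocalization S (Submonoid.powers g) T).mpr ‹_›
  refine ⟨algebraMap S T ∘ f, Φ.map_flat f hf, ?_⟩
  rw [IsScalarTower.algebraMap_eq B S T, ← Ideal.map_map, ← hJ, Ideal.map_span, Set.range_comp]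

end genLen

section compare

variable {A B : Type u} [CommRing A] [CommRing B] [Algebra A B]

open Groth.Agent.Lib.KRDescC in
/-- generators coming from `A` are at least as many as a generating family with property `Φ` -/
theorem GenLen.le_of_nearGen {I : Ideal A} {g : B} {s : ℕ}
    (h : GenLen Φ (I.map (algebraMap A B)) g s) (𝔮 : Ideal B) [𝔮.IsPrime]
    (hJ : I.map (algebraMap A B) ≤ 𝔮) (hg : g ∉ 𝔮) {a : A} {n : ℕ} {v : Fin n → A}
    (hv : NearGen I a v) (ha : algebraMap A B a ∉ 𝔮) : s ≤ n := by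
  let T := Localization.Away (g * algebraMap A B a)
  have hu : IsUnit (algebraMap B T (g * algebraMap A B a)) :=
    IsLocalization.Away.algebraMap_isUnit _
  rw [map_mul] at hu
  have hug : IsUnit (algebraMap B T g) := isUnit_of_mul_isUnit_left hu
  have hua : IsUnit (algebraMap A T a) := by
    rw [IsScalarTower.algebraMap_apply A B T]
    exact isUnit_of_mul_isUnit_right hu
  have : Module.Flat B T := IsLocalization.flat T (Submonoid.powers (g * algebraMap A B a))
  obtain ⟨f, hf, hJf⟩ := h.transfer T hug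
  have hJw : (I.map (algebraMap A B)).map (algebraMap B T) =
      Ideal.span (Set.range (algebraMap A T ∘ v)) := by
    rw [Ideal.map_map, ← IsScalarTower.algebraMap_eq A B T]
    exact hv.map_eq (algebraMap A T) hua
  have hne : Ideal.span (Set.range f) ≠ ⊤ := by
    rw [hJf]
    exact map_ne_top_of_le (g * algebraMap A B a) _ 𝔮 hJ
      (fun hmem => (Ideal.IsPrime.mem_or_mem inferInstance hmem).elim hg ha)
  exact Φ.length_le f (algebraMap A T ∘ v) hf hne (by rw [hJf, hJw])

/-- the length of a generating family with property `Φ` near `𝔮` bounds the number of generators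
of `I` near `𝔮 ∩ A` -/
theorem GenLen.exists_nearGen [Module.Flat A B] {I : Ideal A} (hI : I.FG) {g : B} {s : ℕ}
    (h : GenLen Φ (I.map (algebraMap A B)) g s) (𝔮 : Ideal B) [𝔮.IsPrime] (hg : g ∉ 𝔮) :
    ∃ n ≤ s, ∃ (v : Fin n → A) (a : A), algebraMap A B a ∉ 𝔮 ∧ NearGen I a v := by
  let T := Localization.AtPrime 𝔮
  have : Module.Flat B T := IsLocalization.flat T 𝔮.primeCompl
  have hug : IsUnit (algebraMap B T g) := (IsLocalization.AtPrime.isUnit_to_map_iff T 𝔮 g).mpr hg
  obtain ⟨f, -, hJf⟩ := h.transfer T hug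
  refine Groth.Agent.Lib.KRDescB.exists_nearGen I hI 𝔮 s f ?_
  rw [hJf, Ideal.map_map, ← IsScalarTower.algebraMap_eq A B T]

/-- the length of generating families with property `Φ` is constant along the fibres of
`Spec B → Spec A` -/
theorem GenLen.le_of_same_fibre [Module.Flat A B] {I : Ideal A} (hI : I.FG) (𝔮 𝔮' : Ideal B)
    [𝔮.IsPrime] [𝔮'.IsPrime] (hqq : 𝔮.comap (algebraMap A B) = 𝔮'.comap (algebraMap A B))
    (hJ' : I.map (algebraMap A B) ≤ 𝔮') {g : B} {s : ℕ}
    (h : GenLen Φ (I.map (algebraMap A B)) g s) (hg : g ∉ 𝔮) {g' : B} {s' : ℕ}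
    (h' : GenLen Φ (I.map (algebraMap A B)) g' s') (hg' : g' ∉ 𝔮') : s' ≤ s := by
  obtain ⟨n, hn, v, a, ha, hv⟩ := h.exists_nearGen hI 𝔮 hg
  have ha' : algebraMap A B a ∉ 𝔮' := fun hmem => ha (by
    have h1 : a ∈ 𝔮'.comap (algebraMap A B) := hmem
    rw [← hqq] at h1
    exact h1)
  exact (h'.le_of_nearGen 𝔮' hJ' hg' hv ha').trans hn

end compare

section topology

variable {A B : Type u} [CommRing A] [CommRing B] [Algebra A B]

/-- near a prime `𝔭 ⊇ I` the length of generating families of `I B` with property `Φ` is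
constant -/
theorem exists_basicOpen_const_len [Module.FaithfullyFlat A B] {I : Ideal A} (hI : I.FG)
    (hJ : LocGen Φ (I.map (algebraMap A B)))
    (𝔭 : PrimeSpectrum A) (h𝔭 : I ≤ 𝔭.asIdeal) :
    ∃ (r : ℕ) (a₁ : A), a₁ ∉ 𝔭.asIdeal ∧
      (∀ 𝔮 : PrimeSpectrum B, algebraMap A B a₁ ∉ 𝔮.asIdeal →
        I.map (algebraMap A B) ≤ 𝔮.asIdeal →
        ∃ g : B, g ∉ 𝔮.asIdeal ∧ GenLen Φ (I.map (algebraMap A B)) g r) ∧
      ∃ n ≤ r, ∃ (v : Fin n → A) (a₂ : A), a₂ ∉ 𝔭.asIdeal ∧ NearGen I a₂ v := by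
  let π := PrimeSpectrum.comap (algebraMap A B)
  have hπ : ∀ 𝔮 : PrimeSpectrum B, (π 𝔮).asIdeal = 𝔮.asIdeal.comap (algebraMap A B) := fun _ => rfl
  obtain ⟨𝔮₀, h𝔮₀⟩ : ∃ 𝔮₀, π 𝔮₀ = 𝔭 :=
    PrimeSpectrum.comap_surjective_of_faithfullyFlat (A := A) (B := B) 𝔭
  have hJ₀ : I.map (algebraMap A B) ≤ 𝔮₀.asIdeal := by
    rw [Ideal.map_le_iff_le_comap, ← hπ, h𝔮₀]
    exact h𝔭
  obtain ⟨g₀, hg₀, r, hr⟩ := hJ 𝔮₀ hJ₀
  -- constancy along fibres
  have hfib : ∀ (𝔮 𝔮' : PrimeSpectrum B), π 𝔮 = π 𝔮' → I.map (algebraMap A B) ≤ 𝔮'.asIdeal →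
      (∃ g, g ∉ 𝔮.asIdeal ∧ GenLen Φ (I.map (algebraMap A B)) g r) →
      ∃ g, g ∉ 𝔮'.asIdeal ∧ GenLen Φ (I.map (algebraMap A B)) g r := by
    rintro 𝔮 𝔮' hqq hJ' ⟨g, hg, hgen⟩
    obtain ⟨g', hg', s', hs'⟩ := hJ 𝔮' hJ'
    have hcomap : 𝔮.asIdeal.comap (algebraMap A B) = 𝔮'.asIdeal.comap (algebraMap A B) := by
      rw [← hπ, ← hπ, hqq]
    have hJq : I.map (algebraMap A B) ≤ 𝔮.asIdeal := by
      rw [Ideal.map_le_iff_le_comap, hcomap, ← Ideal.map_le_iff_le_comap]
      exact hJ'
    have h1 : s' ≤ r :=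
      GenLen.le_of_same_fibre hI 𝔮.asIdeal 𝔮'.asIdeal hcomap hJ' hgen hg hs' hg'
    have h2 : r ≤ s' :=
      GenLen.le_of_same_fibre hI 𝔮'.asIdeal 𝔮.asIdeal hcomap.symm hJq hs' hg' hgen hg
    have h3 : s' = r := le_antisymm h1 h2
    exact ⟨g', hg', h3 ▸ hs'⟩
  let E : Set (PrimeSpectrum B) :=
    {𝔮 | I.map (algebraMap A B) ≤ 𝔮.asIdeal →
      ∃ g, g ∉ 𝔮.asIdeal ∧ GenLen Φ (I.map (algebraMap A B)) g r}
  let T : Set (PrimeSpectrum A) := {𝔭' | ∀ 𝔮, π 𝔮 = 𝔭' → 𝔮 ∈ E}
  have hE : IsOpen E := by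
    rw [isOpen_iff_forall_mem_open]
    intro 𝔮 h𝔮
    by_cases hJq : I.map (algebraMap A B) ≤ 𝔮.asIdeal
    · obtain ⟨g, hg, hgen⟩ := h𝔮 hJq
      refine ⟨PrimeSpectrum.basicOpen g, ?_, (PrimeSpectrum.basicOpen g).2, hg⟩
      intro 𝔮' h𝔮' _
      exact ⟨g, h𝔮', hgen⟩
    · obtain ⟨j, hjJ, hj𝔮⟩ := SetLike.not_le_iff_exists.mp hJq
      refine ⟨PrimeSpectrum.basicOpen j, ?_, (PrimeSpectrum.basicOpen j).2, hj𝔮⟩
      intro 𝔮' h𝔮' hJ'
      exact absurd (hJ' hjJ) h𝔮'
  have hpre : π ⁻¹' T = E := by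
    ext 𝔮
    constructor
    · intro h
      exact h 𝔮 rfl
    · intro h 𝔮' hq' hJ'
      have hcomap : 𝔮'.asIdeal.comap (algebraMap A B) = 𝔮.asIdeal.comap (algebraMap A B) := by
        rw [← hπ, ← hπ, hq']
      have hJq : I.map (algebraMap A B) ≤ 𝔮.asIdeal := by
        rw [Ideal.map_le_iff_le_comap, ← hcomap, ← Ideal.map_le_iff_le_comap]
        exact hJ'
      exact hfib 𝔮 𝔮' hq'.symm hJ' (h hJq)
  have hquot : Topology.IsQuotientMap π :=
    PrimeSpectrum.isQuotientMap_of_generalizingMap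
      PrimeSpectrum.comap_surjective_of_faithfullyFlat
      (RingHom.Flat.generalizingMap_comap (RingHom.flat_algebraMap_iff.mpr inferInstance))
  have hT : IsOpen T := hquot.isCoinducing.isOpen_preimage.mp (hpre ▸ hE)
  have h𝔭T : 𝔭 ∈ T := by
    intro 𝔮 hq hJq
    exact hfib 𝔮₀ 𝔮 (h𝔮₀.trans hq.symm) hJq ⟨g₀, hg₀, hr⟩
  obtain ⟨U, ⟨a₁, rfl⟩, h𝔭U, hUT⟩ :=
    PrimeSpectrum.isTopologicalBasis_basic_opens.exists_subset_of_mem_open h𝔭T hT
  refine ⟨r, a₁, h𝔭U, ?_, ?_⟩
  · intro 𝔮 ha₁ hJq
    have h1 : π 𝔮 ∈ T := hUT (by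
      show a₁ ∉ (π 𝔮).asIdeal
      rw [hπ]
      exact ha₁)
    exact h1 𝔮 rfl hJq
  · obtain ⟨n, hn, v, a, ha, hv⟩ := hr.exists_nearGen hI 𝔮₀.asIdeal hg₀
    refine ⟨n, hn, v, a, ?_, hv⟩
    rw [← h𝔮₀, hπ]
    exact ha

end topology

section assembly

variable {A B : Type u} [CommRing A] [CommRing B] [Algebra A B]

/-- property `Φ` for the images of `v` in a flat `B`-algebra where `a` and `g` are invertible -/
theorem prop_of_genLen {I : Ideal A} {a : A} {n r : ℕ} {v : Fin n → A} (hv : NearGen I a v)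
    (hn : n ≤ r) {g : B} (hgen : GenLen Φ (I.map (algebraMap A B)) g r)
    (T : Type u) [CommRing T] [Algebra A T] [Algebra B T] [IsScalarTower A B T] [Module.Flat B T]
    (ha : IsUnit (algebraMap A T a)) (hg : IsUnit (algebraMap B T g)) :
    Φ.P T n (algebraMap A T ∘ v) := by
  obtain ⟨f, hf, hJf⟩ := hgen.transfer T hg
  have hspan : Ideal.span (Set.range (algebraMap A T ∘ v)) = Ideal.span (Set.range f) := by
    rw [hJf, Ideal.map_map, ← IsScalarTower.algebraMap_eq A B T]
    exact (hv.map_eq (algebraMap A T) ha).symm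
  by_cases htop : Ideal.span (Set.range f) = ⊤
  · exact Φ.of_eq_top _ (hspan.trans htop)
  · have hrn : r ≤ n := Φ.length_le f (algebraMap A T ∘ v) hf htop hspan.symm
    obtain rfl : n = r := le_antisymm hn hrn
    exact Φ.of_span_eq f _ hf hspan

theorem prop_of_unit {I : Ideal A} {a : A} {n : ℕ} {v : Fin n → A} (hv : NearGen I a v)
    (T : Type u) [CommRing T] [Algebra A T] [Algebra B T] [IsScalarTower A B T]
    (ha : IsUnit (algebraMap A T a)) {j : B} (hj : j ∈ I.map (algebraMap A B))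
    (hju : IsUnit (algebraMap B T j)) :
    Φ.P T n (algebraMap A T ∘ v) := by
  apply Φ.of_eq_top
  rw [← hv.map_eq (algebraMap A T) ha, IsScalarTower.algebraMap_eq A B T, ← Ideal.map_map]
  exact Ideal.eq_top_of_isUnit_mem _ (Ideal.mem_map_of_mem _ hj) hju

open Groth.Agent.Lib.KRDescC in
/-- **assembly**: constant length near `D(a)` gives a generating family of `I_a` with
property `Φ` -/
theorem genLen_of_const_len [Module.FaithfullyFlat A B] {I : Ideal A} {a : A} {n r : ℕ}
    {v : Fin n → A} (hv : NearGen I a v) (hn : n ≤ r)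
    (H : ∀ 𝔮 : PrimeSpectrum B, algebraMap A B a ∉ 𝔮.asIdeal →
      I.map (algebraMap A B) ≤ 𝔮.asIdeal →
        ∃ g : B, g ∉ 𝔮.asIdeal ∧ GenLen Φ (I.map (algebraMap A B)) g r) :
    GenLen Φ I a n := by
  let SA := Localization.Away a
  let T := Localization.Away (algebraMap A B a)
  have huT : IsUnit (algebraMap A T a) := by
    rw [IsScalarTower.algebraMap_apply A B T]
    exact IsLocalization.Away.algebraMap_isUnit _
  let φ : SA →+* T := IsLocalization.Away.lift a (g := algebraMap A T) huT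
  let _ : Algebra SA T := φ.toAlgebra
  have : IsScalarTower A SA T := IsScalarTower.of_algebraMap_eq
    (fun x => (IsLocalization.Away.lift_eq a huT x).symm)
  have hflatBT : Module.Flat B T := IsLocalization.flat T (Submonoid.powers (algebraMap A B a))
  have : Module.FaithfullyFlat SA T := faithfullyFlat_away (B := B) a SA T
  refine ⟨algebraMap A SA ∘ v, ?_, ?_⟩
  · apply Φ.of_faithfullyFlat (T := T)
    have hcomp : (algebraMap SA T) ∘ (algebraMap A SA ∘ v) = algebraMap A T ∘ v := by
      funext i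
      simp only [Function.comp_apply]
      rw [← IsScalarTower.algebraMap_apply A SA T]
    rw [hcomp]
    apply Φ.of_locally
    intro 𝔮'
    have ha𝔮 : algebraMap A B a ∉ (PrimeSpectrum.comap (algebraMap B T) 𝔮').asIdeal :=
      fun hmem => 𝔮'.isPrime.ne_top
        (Ideal.eq_top_of_isUnit_mem _ hmem (IsLocalization.Away.algebraMap_isUnit _))
    have key : ∀ (x : B), algebraMap B T x ∉ 𝔮'.asIdeal →
        (∀ (T' : Type u) [CommRing T'] [Algebra A T'] [Algebra B T'] [IsScalarTower A B T']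
          [Module.Flat B T'], IsUnit (algebraMap A T' a) → IsUnit (algebraMap B T' x) →
          Φ.P T' n (algebraMap A T' ∘ v)) →
        ∃ g : T, g ∉ 𝔮'.asIdeal ∧
          Φ.P (Localization.Away g) n
            (algebraMap T (Localization.Away g) ∘ (algebraMap A T ∘ v)) := by
      intro x hx hkr
      refine ⟨algebraMap B T x, hx, ?_⟩
      let T' := Localization.Away (algebraMap B T x)
      have : Module.Flat T T' := IsLocalization.flat T' (Submonoid.powers (algebraMap B T x))
      have : Module.Flat B T' := Module.Flat.trans B T T'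
      have : IsScalarTower A B T' := by
        refine IsScalarTower.of_algebraMap_eq (R := A) (S := B) (A := T') (fun y => ?_)
        rw [IsScalarTower.algebraMap_apply A T T' y, IsScalarTower.algebraMap_apply A B T y,
          IsScalarTower.algebraMap_apply B T T' (algebraMap A B y)]
      have hcomp' : (algebraMap T T') ∘ (algebraMap A T ∘ v) = algebraMap A T' ∘ v := by
        funext i
        simp only [Function.comp_apply]
        rw [← IsScalarTower.algebraMap_apply A T T']
      rw [hcomp']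
      refine hkr T' ?_ ?_
      · rw [IsScalarTower.algebraMap_apply A T T']
        exact huT.map _
      · rw [IsScalarTower.algebraMap_apply B T T']
        exact IsLocalization.Away.algebraMap_isUnit _
    by_cases hJq : I.map (algebraMap A B) ≤ (PrimeSpectrum.comap (algebraMap B T) 𝔮').asIdeal
    · obtain ⟨g, hg, hgen⟩ := H _ ha𝔮 hJq
      exact key g hg (fun T' _ _ _ _ _ ha' hg' => prop_of_genLen hv hn hgen T' ha' hg')
    · obtain ⟨j, hjJ, hj𝔮⟩ := SetLike.not_le_iff_exists.mp hJq
      exact key j hj𝔮 (fun T' _ _ _ _ _ ha' hj' => prop_of_unit hv T' ha' hjJ hj')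
  · exact (hv.map_eq (algebraMap A SA) (IsLocalization.Away.algebraMap_isUnit a)).symm

end assembly

section main

variable {A B : Type u} [CommRing A] [CommRing B] [Algebra A B]

/-- an ideal locally generated by finite families is finitely generated -/
theorem fg_of_locGen {J : Ideal B} (h : LocGen Φ J) : J.FG := by
  classical
  let t : Set B := {g | (J.map (algebraMap B (Localization.Away g))).FG}
  refine Ideal.fg_of_localizationSpan t ?_ (fun g => g.2)
  by_contra hne
  obtain ⟨𝔪, hmax, hle⟩ := Ideal.exists_le_maximal _ hne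
  by_cases hJ : J ≤ 𝔪
  · obtain ⟨g, hg, s, f, _, hf⟩ := h ⟨𝔪, hmax.isPrime⟩ hJ
    apply hg
    apply hle
    apply Ideal.subset_span
    show (J.map (algebraMap B (Localization.Away g))).FG
    rw [← hf]
    exact ⟨Finset.univ.image f, by simp⟩
  · obtain ⟨j, hjJ, hj𝔪⟩ := SetLike.not_le_iff_exists.mp hJ
    apply hj𝔪
    apply hle
    apply Ideal.subset_span
    show (J.map (algebraMap B (Localization.Away j))).FG
    have : J.map (algebraMap B (Localization.Away j)) = ⊤ :=
      Ideal.eq_top_of_isUnit_mem _ (Ideal.mem_map_of_mem _ hjJ)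
        (IsLocalization.Away.algebraMap_isUnit j)
    rw [this]
    exact ⟨{1}, by simp⟩

/-- **faithfully flat descent** of ideals locally generated by families with property `Φ` -/
theorem locGen_of_faithfullyFlat [Module.FaithfullyFlat A B] (I : Ideal A)
    (h : LocGen Φ (I.map (algebraMap A B))) : LocGen Φ I := by
  have hI : I.FG := Ideal.FG.of_FG_map_of_faithfullyFlat (S := B) (fg_of_locGen h)
  intro 𝔭 h𝔭
  obtain ⟨r, a₁, ha₁, H, n, hn, v, a₂, ha₂, hv⟩ := exists_basicOpen_const_len hI h 𝔭 h𝔭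
  refine ⟨a₂ * a₁, fun hmem => (𝔭.isPrime.mem_or_mem hmem).elim ha₂ ha₁, n, ?_⟩
  refine genLen_of_const_len (B := B) (r := r) (hv.mul a₁) hn ?_
  intro 𝔮 ha hJq
  refine H 𝔮 (fun hmem => ha ?_) hJq
  rw [map_mul]
  exact Ideal.mul_mem_left _ _ hmem

end main

end Groth.Agent.Lib.SeqDesc
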