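import Groth.Agent.Lib.SeqDesc
import Groth.Agent.Lib.LCIDescent

/-!
# Descent of `LocGen` along finite jointly surjective flat families (helper32)

Namespace `Groth.Agent.Lib.SeqDescPi`.

* `GenLen.of_model` : `GenLen` may be checked on any model of the localization.
* `locGen_map_pi` : `LocGen` for the extension to a finite product from the factors.
* `locGen_of_family` : descent of `LocGen` along a finite jointly surjective family of flat ring
  maps.
-/

set_option autoImplicit false
universe u

namespace Groth.Agent.Lib.SeqDescPi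

open Groth.Agent.Lib.SeqDesc

variable {Φ : SeqProp.{u}}

section model

variable {B : Type u} [CommRing B]

/-- `GenLen` may be checked on any model of the localization away from `g` -/
theorem GenLen.of_model {J : Ideal B} {g : B} {s : ℕ} (L : Type u) [CommRing L] [Algebra B L]
    [IsLocalization.Away g L] (f : Fin s → L) (hf : Φ.P L s f)
    (hJ : Ideal.span (Set.range f) = J.map (algebraMap B L)) : GenLen Φ J g s := by
  let e : L ≃ₐ[B] Localization.Away g :=
    IsLocalization.algEquiv (Submonoid.powers g) L (Localization.Away g)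
  let _ : Algebra L (Localization.Away g) := e.toRingEquiv.toRingHom.toAlgebra
  have hflat : Module.Flat L (Localization.Away g) :=
    RingHom.Flat.of_bijective (f := e.toRingEquiv.toRingHom) e.bijective
  have hcomp : (algebraMap L (Localization.Away g)).comp (algebraMap B L) =
      algebraMap B (Localization.Away g) := by
    ext x
    exact e.commutes x
  refine ⟨algebraMap L (Localization.Away g) ∘ f, Φ.map_flat f hf, ?_⟩
  rw [Set.range_comp, ← Ideal.map_span, hJ, Ideal.map_map, hcomp]

end model

section product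

variable {A : Type u} [CommRing A] {m : ℕ} (B : Fin m → Type u) [∀ j, CommRing (B j)]

/-- a generating family on a basic open of a factor gives one on a basic open of the product -/
theorem genLen_pi_of_factor (φ : ∀ j, A →+* B j) (I : Ideal A) (j : Fin m) (gj : B j) (s : ℕ)
    (L : Type u) [CommRing L] [Algebra (B j) L] [IsLocalization.Away gj L] (f : Fin s → L)
    (hf : Φ.P L s f)
    (hJ : Ideal.span (Set.range f) = (I.map (φ j)).map (algebraMap (B j) L)) :
    GenLen Φ (I.map (RingHom.pi φ)) (Pi.single j gj : Π j, B j) s := by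
  classical
  let _ : Algebra (Π j, B j) (B j) := (Pi.evalRingHom B j).toAlgebra
  have hloc : IsLocalization.Away (Pi.single j 1 : Π j, B j) (B j) :=
    Groth.Agent.Lib.LCIDescent.isLocalization_away_eval B j
  have hφj : (algebraMap (Π j, B j) (B j)).comp (RingHom.pi φ) = φ j := by
    ext x
    rfl
  let g : Π j, B j := Pi.single j gj
  have hgg : algebraMap (Π j, B j) (B j) g = gj := by
    show (Pi.single j gj : Π j, B j) j = gj
    simp
  let _ : Algebra (Π j, B j) L :=
    ((algebraMap (B j) L).comp (algebraMap (Π j, B j) (B j))).toAlgebra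
  have : IsScalarTower (Π j, B j) (B j) L := IsScalarTower.of_algebraMap_eq (fun _ => rfl)
  have hloc2 : IsLocalization.Away (algebraMap (Π j, B j) (B j) g) L := by
    rw [hgg]
    infer_instance
  have hloc3 : IsLocalization.Away ((Pi.single j 1 : Π j, B j) * g) L :=
    IsLocalization.Away.mul' (B j) L _ _
  have hmul : (Pi.single j 1 : Π j, B j) * g = g := by
    show (Pi.single j 1 : Π j, B j) * Pi.single j gj = Pi.single j gj
    rw [← Pi.single_mul, one_mul]
  rw [hmul] at hloc3
  refine GenLen.of_model L f hf ?_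
  rw [hJ, IsScalarTower.algebraMap_eq (Π j, B j) (B j) L, ← Ideal.map_map (I := I.map _),
    Ideal.map_map (f := RingHom.pi φ), hφj]

/-- `LocGen` for the extension of an ideal to a finite product, from the factors -/
theorem locGen_map_pi (φ : ∀ j, A →+* B j) (I : Ideal A)
    (h : ∀ j, LocGen Φ (I.map (φ j))) : LocGen Φ (I.map (RingHom.pi φ)) := by
  classical
  intro 𝔮 h𝔮
  -- some idempotent is not in `𝔮`
  obtain ⟨j, hj⟩ : ∃ j, (Pi.single j 1 : Π j, B j) ∉ 𝔮.asIdeal := by
    by_contra hcon
    push Not at hcon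
    apply 𝔮.isPrime.ne_top
    rw [Ideal.eq_top_iff_one]
    have h1 : (1 : Π j, B j) = ∑ j, Pi.single j 1 := by
      rw [Finset.univ_sum_single (fun _ => (1 : _))]
      rfl
    rw [h1]
    exact Ideal.sum_mem _ (fun j _ => hcon j)
  let _ : Algebra (Π j, B j) (B j) := (Pi.evalRingHom B j).toAlgebra
  have hloc : IsLocalization.Away (Pi.single j 1 : Π j, B j) (B j) :=
    Groth.Agent.Lib.LCIDescent.isLocalization_away_eval B j
  have hdisj : Disjoint (Submonoid.powers (Pi.single j 1 : Π j, B j) : Set (Π j, B j))
      (𝔮.asIdeal : Set (Π j, B j)) :=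
    (Ideal.disjoint_powers_iff_notMem _ 𝔮.isPrime.isRadical).mpr hj
  let 𝔮j : PrimeSpectrum (B j) := ⟨𝔮.asIdeal.map (algebraMap (Π j, B j) (B j)),
    IsLocalization.isPrime_of_isPrime_disjoint _ (B j) _ 𝔮.isPrime hdisj⟩
  have hφj : (algebraMap (Π j, B j) (B j)).comp (RingHom.pi φ) = φ j := by
    ext x
    rfl
  have hIj : I.map (φ j) ≤ 𝔮j.asIdeal := by
    rw [← hφj, ← Ideal.map_map]
    exact Ideal.map_mono h𝔮
  obtain ⟨gj, hgj, s, f, hf, hJ⟩ := h j 𝔮j hIj
  refine ⟨Pi.single j gj, ?_, s, genLen_pi_of_factor B φ I j gj s (Localization.Away gj) f hf hJ⟩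
  intro hmem
  apply hgj
  have h2 : algebraMap (Π j, B j) (B j) (Pi.single j gj) = gj := by
    show (Pi.single j gj : Π j, B j) j = gj
    simp
  rw [← h2]
  exact Ideal.mem_map_of_mem _ hmem

end product

section family

variable {A : Type u} [CommRing A] {m : ℕ} (B : Fin m → Type u) [∀ j, CommRing (B j)]

/-- **descent of `LocGen` along a finite jointly surjective family of flat ring maps** -/
theorem locGen_of_family (φ : ∀ j, A →+* B j) (hflat : ∀ j, (φ j).Flat)
    (hsurj : ∀ 𝔭 : PrimeSpectrum A, ∃ j, 𝔭 ∈ Set.range (PrimeSpectrum.comap (φ j)))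
    (I : Ideal A) (h : ∀ j, LocGen Φ (I.map (φ j))) : LocGen Φ I := by
  classical
  let _ : ∀ j, Algebra A (B j) := fun j => (φ j).toAlgebra
  have : ∀ j, Module.Flat A (B j) := hflat
  have hflat' : Module.Flat A (Π j, B j) :=
    Module.Flat.of_linearEquiv (DFinsupp.linearEquivFunOnFintype (R := A) (M := B)).symm
  have hff : Module.FaithfullyFlat A (Π j, B j) :=
    Module.FaithfullyFlat.of_comap_surjective (fun 𝔭 => by
      obtain ⟨j, 𝔮, h𝔮⟩ := hsurj 𝔭
      refine ⟨PrimeSpectrum.comap (Pi.evalRingHom B j) 𝔮, ?_⟩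
      rw [← h𝔮, ← PrimeSpectrum.comap_comp_apply]
      rfl)
  have halg : algebraMap A (Π j, B j) = RingHom.pi φ := rfl
  exact locGen_of_faithfullyFlat (B := Π j, B j) I (halg ▸ locGen_map_pi B φ I h)

end family

end Groth.Agent.Lib.SeqDescPi
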