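import Groth.Agent.Lib.SeqDescPi
import Groth.Agent.Lib.RegImmFlatBC
import Groth.Agent.Lib.LCIDescentSch
import Groth.Agent.Lib.H1Desc

/-!
# fpqc descent of regular immersions of a kind given by a `SeqProp` (helper32)

Namespace `Groth.Agent.Lib.SeqDescSch`.

* `KindProp k Φ` : the kind `k` of sequences is the property `Φ` of families.
* `PChart Φ i U d` : chart of `i` over the affine open `U` with a generating family of the kernel
  with property `Φ`.
* `locGen_ker_app`, `exists_pchart_of_locGen`.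
* `isRegularImmersion_of_baseChange` : fpqc descent.
-/

set_option autoImplicit false
universe u
open CategoryTheory CategoryTheory.Limits AlgebraicGeometry TopologicalSpace

namespace Groth.Agent.Lib.SeqDescSch

open Groth.Agent.Lib.SeqDesc Groth.Agent.Lib.SeqDescPi Groth.Agent.Lib.KRegImm
  Groth.Agent.Lib.KoszulImmPerfect Groth.Agent.Lib.LCIDescentSch

/-- the kind `k` of sequences corresponds to the property `Φ` of finite families -/
structure KindProp (k : RegImm.Kind) (Φ : SeqProp.{u}) : Prop where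
  to_prop : ∀ (T : Type u) [CommRing T] (rs : List T), k.Seq T rs → Φ.P T rs.length rs.get
  of_prop : ∀ (T : Type u) [CommRing T] {n : ℕ} (f : Fin n → T), Φ.P T n f →
    k.Seq T (List.ofFn f)

variable {Φ : SeqProp.{u}} {Z X : Scheme.{u}}

/-- chart of `i` over the affine open `U` with a generating family of the kernel of length `d` with
property `Φ` -/
def PChart (Φ : SeqProp.{u}) (i : Z ⟶ X) (U : X.Opens) (d : ℕ) : Prop :=
  IsAffineOpen U ∧ IsClosedImmersion (i ∣_ U) ∧
    ∃ f : Fin d → Γ(X, U), Φ.P Γ(X, U) d f ∧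
      RingHom.ker (i.app U).hom = Ideal.span (Set.range f)

theorem ofList_eq_span_range_get {T : Type*} [CommRing T] (rs : List T) :
    Ideal.ofList rs = Ideal.span (Set.range rs.get) := by
  rw [Set.range_list_get]

theorem isRegularImmersionAt_iff {k : RegImm.Kind} (hk : KindProp k Φ) (i : Z ⟶ X) (z : Z) :
    RegImm.IsRegularImmersionAt k i z ↔ ∃ (U : X.Opens) (d : ℕ), i z ∈ U ∧ PChart Φ i U d := by
  constructor
  · rintro ⟨U, hz, hcl, rs, hrs, hker⟩
    exact ⟨U.1, rs.length, hz, U.2, hcl, rs.get, hk.to_prop _ rs hrs,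
      hker.trans (ofList_eq_span_range_get rs)⟩
  · rintro ⟨U, d, hz, hU, hcl, f, hf, hker⟩
    exact ⟨⟨U, hU⟩, hz, hcl, List.ofFn f, hk.of_prop _ f hf,
      hker.trans (Groth.Agent.Lib.KRDescC.ofList_ofFn f).symm⟩

theorem PChart.basicOpen {i : Z ⟶ X} {U : X.Opens} {d : ℕ} (h : PChart Φ i U d) (g : Γ(X, U)) :
    PChart Φ i (X.basicOpen g) d := by
  obtain ⟨hU, hcl, f, hf, hker⟩ := h
  have hcl' : IsClosedImmersion (i ∣_ (⟨U, hU⟩ : X.affineOpens).1) := hcl
  refine ⟨hU.basicOpen g, ?_, ?_⟩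
  · exact Groth.Agent.Lib.RegSpreadGeom.isClosedImmersion_restrict_basicOpen i ⟨U, hU⟩ g
  · have hloc : IsLocalization.Away g Γ(X, X.basicOpen g) := hU.isLocalization_basicOpen g
    have hflat : Module.Flat Γ(X, U) Γ(X, X.basicOpen g) :=
      IsLocalization.flat _ (Submonoid.powers g)
    refine ⟨algebraMap Γ(X, U) Γ(X, X.basicOpen g) ∘ f, Φ.map_flat f hf, ?_⟩
    have := Groth.Agent.Lib.RegSpreadGeom.ker_app_basicOpen i ⟨U, hU⟩ g
    rw [this, hker, Ideal.map_span, Set.range_comp]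
    rfl

section charts

/-- a regular immersion of kind `Φ` has kernel locally generated by `Φ`-families on every affine
open over which it is a closed immersion -/
theorem locGen_ker_app (i : Z ⟶ X)
    (hi : ∀ z : Z, ∃ (U : X.Opens) (d : ℕ), i z ∈ U ∧ PChart Φ i U d)
    (W : X.Opens) (hW : IsAffineOpen W) [IsClosedImmersion (i ∣_ W)] :
    LocGen Φ (RingHom.ker (i.app W).hom) := by
  intro 𝔮 h𝔮
  have hV : IsAffineOpen (i ⁻¹ᵁ W) := isAffineOpen_preimage_of_isClosedImmersion_restrict i W hW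
  have hsurj : Function.Surjective (i.app W).hom :=
    app_surjective_of_isClosedImmersion_restrict i W hW
  obtain ⟨𝔯, h𝔯⟩ : 𝔮 ∈ Set.range (PrimeSpectrum.comap (i.app W).hom) := by
    rw [range_comap_of_surjective _ _ hsurj]
    exact h𝔮
  obtain ⟨z, hz𝔯⟩ : ∃ z : (i ⁻¹ᵁ W : Z.Opens), hV.primeIdealOf z = 𝔯 :=
    ⟨hV.isoSpec.inv 𝔯, by
      show hV.isoSpec.hom (hV.isoSpec.inv 𝔯) = 𝔯
      rw [← Scheme.Hom.comp_apply, Iso.inv_hom_id]
      rfl⟩
  have hzW : i z.1 ∈ W := z.2
  have h𝔮eq : 𝔮 = hW.primeIdealOf ⟨i z.1, hzW⟩ := by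
    rw [← h𝔯, ← hz𝔯, Scheme.Hom.app_eq_appLE]
    exact IsAffineOpen.comap_primeIdealOf_appLE W hW (i ⁻¹ᵁ W) hV le_rfl z.2
  obtain ⟨U'', d, hzU, hch⟩ := hi z.1
  obtain ⟨f, h, heq, hx⟩ := exists_basicOpen_le_affine_inter hW hch.1 (i z.1) ⟨hzW, hzU⟩
  have hch' : PChart Φ i (X.basicOpen f) d := heq ▸ hch.basicOpen h
  obtain ⟨_, _, rs, hrs, hker⟩ := hch'
  have hloc : IsLocalization.Away f Γ(X, X.basicOpen f) := hW.isLocalization_basicOpen f
  refine ⟨f, ?_, d, GenLen.of_model Γ(X, X.basicOpen f) rs hrs ?_⟩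
  · rw [h𝔮eq]
    exact (Groth.Agent.Lib.UnramifiedLocusBC.mem_basicOpen_iff_primeIdealOf hW f hzW).mp hx
  · have := Groth.Agent.Lib.RegSpreadGeom.ker_app_basicOpen i ⟨W, hW⟩ f
    rw [← hker, this]
    rfl

/-- a kernel locally generated by `Φ`-families on an affine open over which `i` is a closed
immersion gives a chart near each point of the image -/
theorem exists_pchart_of_locGen (i : Z ⟶ X) (U : X.Opens) (hU : IsAffineOpen U)
    [IsClosedImmersion (i ∣_ U)] (hK : LocGen Φ (RingHom.ker (i.app U).hom))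
    (z : Z) (hz : i z ∈ U) : ∃ (U' : X.Opens) (d : ℕ), i z ∈ U' ∧ PChart Φ i U' d := by
  obtain ⟨a, ha, d, hgen⟩ := hK (hU.primeIdealOf ⟨i z, hz⟩)
    (ker_app_le_primeIdealOf i U hU z hz)
  have hloc : IsLocalization.Away a Γ(X, X.basicOpen a) := hU.isLocalization_basicOpen a
  have hflat : Module.Flat Γ(X, U) Γ(X, X.basicOpen a) :=
    IsLocalization.flat _ (Submonoid.powers a)
  obtain ⟨f, hf, hJ⟩ := hgen.transfer Γ(X, X.basicOpen a)
    (IsLocalization.Away.algebraMap_isUnit a)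
  refine ⟨X.basicOpen a, d,
    (Groth.Agent.Lib.UnramifiedLocusBC.mem_basicOpen_iff_primeIdealOf hU a hz).mpr ha,
    hU.basicOpen a,
    Groth.Agent.Lib.RegSpreadGeom.isClosedImmersion_restrict_basicOpen i ⟨U, hU⟩ a, f, hf, ?_⟩
  rw [Groth.Agent.Lib.RegSpreadGeom.ker_app_basicOpen i ⟨U, hU⟩ a, hJ]
  rfl

end charts

section main

/-- **fpqc descent** of the chart condition for immersions -/
theorem exists_pchart_of_baseChange {X Y X' Y' : Scheme.{u}} (i : Y ⟶ X)
    [IsImmersion i] (g : X' ⟶ X) [Flat g] [Surjective g] [QuasiCompact g]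
    (i' : Y' ⟶ X') (g' : Y' ⟶ Y) (hsq : IsPullback g' i' i g)
    (hi' : ∀ z : Y', ∃ (U : X'.Opens) (d : ℕ), i' z ∈ U ∧ PChart Φ i' U d) (y : Y) :
    ∃ (U : X.Opens) (d : ℕ), i y ∈ U ∧ PChart Φ i U d := by
  obtain ⟨U, hyU, hcl⟩ := Groth.Agent.Lib.ImmersionLocal.exists_affine_isClosedImmersion_restrict i y
  have hK : LocGen Φ (RingHom.ker (i.app U.1).hom) := by
    have hcomp : IsCompact (X := X') (g ⁻¹ᵁ U.1) :=
      QuasiCompact.isCompact_preimage (f := g) U.1.1 U.1.2 U.2.isCompact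
    obtain ⟨s, hsfin, hsK⟩ := isCompact_iff_finite_and_eq_biUnion_affineOpens.mp hcomp
    have := hsfin.to_subtype
    let e : Fin (Nat.card s) ≃ s := (Finite.equivFin s).symm
    let W : Fin (Nat.card s) → X'.Opens := fun j => ((e j).1 : X'.Opens)
    have hW : ∀ j, IsAffineOpen (W j) := fun j => (e j).1.2
    have hle : ∀ j, W j ≤ g ⁻¹ᵁ U.1 := fun j => by
      rw [hsK]
      exact le_iSup₂ (f := fun (j : X'.affineOpens) (_ : j ∈ s) => (j : X'.Opens)) (e j).1 (e j).2
    refine locGen_of_family (fun j => Γ(X', W j)) (fun j => (g.appLE U.1 (W j) (hle j)).hom)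
      (fun j => g.flat_appLE U.2 (hW j) (hle j)) ?_ _ (fun j => ?_)
    · intro 𝔭
      obtain ⟨x, hx⟩ : ∃ x : U.1, U.2.primeIdealOf x = 𝔭 :=
        ⟨U.2.isoSpec.inv 𝔭, by
          show U.2.isoSpec.hom (U.2.isoSpec.inv 𝔭) = 𝔭
          rw [← Scheme.Hom.comp_apply, Iso.inv_hom_id]
          rfl⟩
      obtain ⟨x', hx'⟩ := g.surjective x.1
      have hx'K : x' ∈ g ⁻¹ᵁ U.1 := by
        show g x' ∈ U.1
        rw [hx']
        exact x.2
      rw [hsK] at hx'K
      simp only [TopologicalSpace.Opens.mem_iSup] at hx'K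
      obtain ⟨j, hj, hx'j⟩ := hx'K
      have hmem : x' ∈ W (e.symm ⟨j, hj⟩) := by
        show x' ∈ ((e (e.symm ⟨j, hj⟩)).1 : X'.Opens)
        rw [Equiv.apply_symm_apply]
        exact hx'j
      refine ⟨e.symm ⟨j, hj⟩, (hW _).primeIdealOf ⟨x', hmem⟩, ?_⟩
      rw [IsAffineOpen.comap_primeIdealOf_appLE U.1 U.2 _ (hW _) (hle _), ← hx]
      congr 1
      exact Subtype.ext hx'
    · obtain ⟨hclW, -, hker⟩ :=
        Groth.Agent.Lib.RegImmFlatBC.chart_baseChange hsq U.2 hcl (hW j) (hle j)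
      rw [← hker]
      exact locGen_ker_app i' hi' (W j) (hW j)
  exact exists_pchart_of_locGen i U.1 U.2 hK y hyU

/-- **fpqc descent of regular immersions** of a kind given by a `SeqProp` -/
theorem isRegularImmersion_of_baseChange {k : RegImm.Kind} (hk : KindProp k Φ)
    {X Y X' Y' : Scheme.{u}} (i : Y ⟶ X)
    [IsImmersion i] (g : X' ⟶ X) [Flat g] [Surjective g] [QuasiCompact g]
    (i' : Y' ⟶ X') (g' : Y' ⟶ Y) (hsq : IsPullback g' i' i g)
    (hi' : RegImm.IsRegularImmersion k i') : RegImm.IsRegularImmersion k i := by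
  refine ⟨inferInstance, fun y => ?_⟩
  rw [isRegularImmersionAt_iff hk]
  refine exists_pchart_of_baseChange i g i' g' hsq (fun z => ?_) y
  rw [← isRegularImmersionAt_iff hk]
  exact hi'.2 z

end main

section instances

theorem kindProp_h1 : KindProp.{u} .h1 Groth.Agent.Lib.H1Desc.h1Prop where
  to_prop := fun _ _ _ h => h
  of_prop := fun T _ n f hf =>
    Groth.Agent.Lib.RegImmFlatBC.of_get_eq (fun c f => CAlgX.IsH1Regular f) (List.ofFn f) n f
      (List.length_ofFn) (fun i => by simp; rfl) hf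

theorem kindProp_quasi : KindProp.{u} .quasi Groth.Agent.Lib.QuasiDesc.quasiProp where
  to_prop := fun _ _ _ h => h
  of_prop := fun T _ n f hf =>
    Groth.Agent.Lib.RegImmFlatBC.of_get_eq (fun c f => CAlgX.IsQuasiRegular f) (List.ofFn f) n f
      (List.length_ofFn) (fun i => by simp; rfl) hf

/-- **fpqc descent of regular immersions** of kind Koszul, `H_1` or quasi -/
theorem isRegularImmersion_of_baseChange_fpqc {X Y X' Y' : Scheme.{u}} (i : Y ⟶ X)
    [IsImmersion i] (g : X' ⟶ X) [Flat g] [Surjective g] [QuasiCompact g]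
    (i' : Y' ⟶ X') (g' : Y' ⟶ Y) (hsq : IsPullback g' i' i g)
    (k : RegImm.Kind) (hk : k ≠ RegImm.Kind.regular)
    (hi' : RegImm.IsRegularImmersion k i') : RegImm.IsRegularImmersion k i := by
  cases k with
  | regular => exact absurd rfl hk
  | koszul => exact isRegularImmersion_koszul_of_baseChange i g i' g' hsq hi'
  | h1 => exact isRegularImmersion_of_baseChange kindProp_h1 i g i' g' hsq hi'
  | quasi => exact isRegularImmersion_of_baseChange kindProp_quasi i g i' g' hsq hi'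

end instances

end Groth.Agent.Lib.SeqDescSch
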