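import Mathlib

/-!
# Geometric series in complete filtered rings (helper58)

`GoodFil a J N`: a decreasing separated complete filtration `J k` of a commutative ring `A` by
ideals such that `a ^ N k ∈ J k`.  Then `A` is `a`-adically complete (`GoodFil.isAdicComplete`).
Also: if `A` is `a`-adically complete, `I * I = (a) * I` and `I` is `a`-adically closed, then `A` is
`I`-adically complete (`isAdicComplete_of_mul_eq`).
-/

set_option autoImplicit false
universe u

namespace Groth.Agent.Lib.SeriesComplete58

open Finset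

variable {A : Type u} [CommRing A]

/-- A decreasing, separated, complete filtration by ideals in which powers of `a` tend to `0`. -/
structure GoodFil (a : A) (J : ℕ → Ideal A) (N : ℕ → ℕ) : Prop where
  anti : Antitone J
  sep : ∀ x, (∀ k, x ∈ J k) → x = 0
  compl : ∀ x : ℕ → A, (∀ k, x (k + 1) - x k ∈ J k) → ∃ L, ∀ k, L - x k ∈ J k
  mono : Monotone N
  nil : ∀ k, a ^ (N k) ∈ J k

namespace GoodFil

variable {a : A} {J : ℕ → Ideal A} {N : ℕ → ℕ}

theorem pow_mem (h : GoodFil a J N) {k n : ℕ} (hn : N k ≤ n) : a ^ n ∈ J k := by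
  obtain ⟨d, rfl⟩ := Nat.exists_eq_add_of_le hn
  rw [pow_add]
  exact Ideal.mul_mem_right _ _ (h.nil k)

theorem exists_series (h : GoodFil a J N) (u : ℕ → A) :
    ∃ z : ℕ → A, (∀ k, z k = u k + a * z (k + 1)) ∧
      ∀ k l, z k - ∑ j ∈ range (N l), a ^ j * u (k + j) ∈ J l := by
  have hc : ∀ k : ℕ, ∃ L, ∀ l, L - ∑ j ∈ range (N l), a ^ j * u (k + j) ∈ J l := by
    intro k
    refine h.compl (fun l => ∑ j ∈ range (N l), a ^ j * u (k + j)) (fun l => ?_)
    obtain ⟨d, hd⟩ := Nat.exists_eq_add_of_le (h.mono (Nat.le_succ l))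
    rw [hd, sum_range_add, add_sub_cancel_left]
    refine Ideal.sum_mem _ (fun j _ => ?_)
    exact Ideal.mul_mem_right _ _ (h.pow_mem (Nat.le_add_right _ _))
  choose z hz using hc
  refine ⟨z, fun k => ?_, hz⟩
  rw [← sub_eq_zero]
  refine h.sep _ (fun l => ?_)
  have e : z k - (u k + a * z (k + 1)) =
      (z k - ∑ j ∈ range (N l), a ^ j * u (k + j))
        - a * (z (k + 1) - ∑ j ∈ range (N l), a ^ j * u (k + 1 + j))
        - a ^ (N l) * u (k + N l) := by
    have e2 : ∑ j ∈ range (N l + 1), a ^ j * u (k + j) =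
        u k + a * ∑ j ∈ range (N l), a ^ j * u (k + 1 + j) := by
      rw [sum_range_succ', mul_sum, add_comm]
      simp only [pow_zero, one_mul, add_zero]
      congr 1
      refine sum_congr rfl (fun j _ => ?_)
      rw [pow_succ, show k + (j + 1) = k + 1 + j by ring]
      ring
    rw [sum_range_succ] at e2
    linear_combination e2
  rw [e]
  refine Ideal.sub_mem _ (Ideal.sub_mem _ (hz k l) (Ideal.mul_mem_left _ _ (hz (k + 1) l))) ?_
  exact Ideal.mul_mem_right _ _ (h.nil l)

theorem isAdicComplete (h : GoodFil a J N) : IsAdicComplete (Ideal.span {a}) A := by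
  have hH : IsHausdorff (Ideal.span {a}) A := by
    refine ⟨fun x hx => h.sep x (fun k => ?_)⟩
    have h1 := hx (N k)
    rw [SModEq.zero, smul_eq_mul, Ideal.mul_top, Ideal.span_singleton_pow,
      Ideal.mem_span_singleton'] at h1
    obtain ⟨c, rfl⟩ := h1
    exact Ideal.mul_mem_left _ _ (h.nil k)
  have hP : IsPrecomplete (Ideal.span {a}) A := by
    refine ⟨fun f hf => ?_⟩
    have hy : ∀ k, ∃ y, f (k + 1) - f k = a ^ k * y := by
      intro k
      have h1 := (hf (Nat.le_succ k)).symm
      rw [SModEq.sub_mem, smul_eq_mul, Ideal.mul_top, Ideal.span_singleton_pow,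
        Ideal.mem_span_singleton'] at h1
      obtain ⟨c, hc⟩ := h1
      exact ⟨c, by rw [← hc, mul_comm]⟩
    choose y hy using hy
    obtain ⟨z, hz, -⟩ := h.exists_series y
    have key : ∀ k, f 0 + z 0 - f k = a ^ k * z k := by
      intro k
      induction k with
      | zero => simp
      | succ k ih =>
        have e1 := hy k
        have e2 := hz k
        rw [pow_succ]
        linear_combination ih - e1 + a ^ k * e2
    refine ⟨f 0 + z 0, fun n => ?_⟩
    refine SModEq.symm ?_
    rw [SModEq.sub_mem, smul_eq_mul, Ideal.mul_top, Ideal.span_singleton_pow, key n]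
    exact Ideal.mul_mem_right _ _ (Ideal.mem_span_singleton_self _)
  exact { toIsHausdorff := hH, toIsPrecomplete := hP }

end GoodFil

/-- The `a`-adic filtration of an `a`-adically complete ring is a `GoodFil`. -/
theorem goodFil_of_isAdicComplete (a : A) [IsAdicComplete (Ideal.span {a}) A] :
    GoodFil a (fun k => Ideal.span {a ^ k}) (fun k => k) where
  anti := by
    intro m n hmn
    exact Ideal.span_singleton_le_span_singleton.mpr (pow_dvd_pow a hmn)
  sep := by
    intro x hx
    refine IsHausdorff.haus' (I := Ideal.span {a}) x (fun n => ?_)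
    rw [SModEq.zero, smul_eq_mul, Ideal.mul_top, Ideal.span_singleton_pow]
    exact hx n
  compl := by
    intro x hx
    have hmn : ∀ m n, m ≤ n → x n - x m ∈ Ideal.span {a ^ m} := by
      intro m n hle
      induction n, hle using Nat.le_induction with
      | base => simp
      | succ n hn ih =>
        have h1 : x (n + 1) - x n ∈ Ideal.span {a ^ m} :=
          (Ideal.span_singleton_le_span_singleton.mpr (pow_dvd_pow a hn)) (hx n)
        have := Ideal.add_mem _ h1 ih
        rwa [sub_add_sub_cancel] at this
    obtain ⟨L, hL⟩ := IsPrecomplete.prec' (I := Ideal.span {a}) x (by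
      intro m n hle
      refine SModEq.symm ?_
      rw [SModEq.sub_mem, smul_eq_mul, Ideal.mul_top, Ideal.span_singleton_pow]
      exact hmn m n hle)
    refine ⟨L, fun k => ?_⟩
    have := (hL k).symm
    rwa [SModEq.sub_mem, smul_eq_mul, Ideal.mul_top, Ideal.span_singleton_pow] at this
  mono := fun _ _ h => h
  nil := fun k => Ideal.mem_span_singleton_self _

theorem pow_succ_eq_of_mul_eq {a : A} (I : Ideal A) (hI : I * I = Ideal.span {a} * I) (n : ℕ) :
    I ^ (n + 1) = Ideal.span {a ^ n} * I := by
  induction n with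
  | zero => simp
  | succ n ih =>
    rw [pow_succ, ih, mul_assoc, hI, ← mul_assoc, Ideal.span_singleton_mul_span_singleton,
      ← pow_succ]

/-- If `A` is `a`-adically complete, `I * I = (a) * I` and `I` is closed for the `a`-adic topology,
then `A` is `I`-adically complete. -/
theorem isAdicComplete_of_mul_eq {a : A} (I : Ideal A) [IsAdicComplete (Ideal.span {a}) A]
    (hI : I * I = Ideal.span {a} * I)
    (hcl : ∀ x, (∀ n, x ∈ I ⊔ Ideal.span {a ^ n}) → x ∈ I) :
    IsAdicComplete I A := by
  have hG := goodFil_of_isAdicComplete a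
  have hpow := pow_succ_eq_of_mul_eq I hI
  have hH : IsHausdorff I A := by
    refine ⟨fun x hx => hG.sep x (fun k => ?_)⟩
    have h1 := hx (k + 1)
    rw [SModEq.zero, smul_eq_mul, Ideal.mul_top, hpow] at h1
    show x ∈ Ideal.span {a ^ k}
    exact (Ideal.mul_le_left : Ideal.span {a ^ k} * I ≤ Ideal.span {a ^ k}) h1
  have hP : IsPrecomplete I A := by
    refine ⟨fun f hf => ?_⟩
    have hu : ∀ k, ∃ u ∈ I, f (k + 2) - f (k + 1) = a ^ k * u := by
      intro k
      have h1 := (hf (Nat.le_succ (k + 1))).symm
      rw [SModEq.sub_mem, smul_eq_mul, Ideal.mul_top, hpow, Ideal.mem_span_singleton_mul] at h1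
      obtain ⟨c, hc, hc2⟩ := h1
      exact ⟨c, hc, hc2.symm⟩
    choose u huI hu using hu
    obtain ⟨z, hz, hz2⟩ := hG.exists_series u
    have hzI : ∀ k, z k ∈ I := by
      intro k
      refine hcl _ (fun n => ?_)
      have h1 := hz2 k n
      have h2 : ∑ j ∈ range n, a ^ j * u (k + j) ∈ I :=
        Ideal.sum_mem _ (fun j _ => Ideal.mul_mem_left _ _ (huI _))
      have : z k = ∑ j ∈ range n, a ^ j * u (k + j) + (z k - ∑ j ∈ range n, a ^ j * u (k + j)) := by
        ring
      rw [this]
      exact Submodule.add_mem_sup h2 h1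
    have key : ∀ k, f 1 + z 0 - f (k + 1) = a ^ k * z k := by
      intro k
      induction k with
      | zero => simp
      | succ k ih =>
        have e1 := hu k
        have e2 := hz k
        rw [pow_succ]
        linear_combination ih - e1 + a ^ k * e2
    refine ⟨f 1 + z 0, fun n => ?_⟩
    refine SModEq.symm ?_
    rw [SModEq.sub_mem, smul_eq_mul, Ideal.mul_top]
    cases n with
    | zero => simp
    | succ n =>
      rw [hpow, key n]
      exact Ideal.mul_mem_mul (Ideal.mem_span_singleton_self _) (hzI n)
  exact { toIsHausdorff := hH, toIsPrecomplete := hP }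

end Groth.Agent.Lib.SeriesComplete58
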