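import Mathlib

/-!
# Serre functors are triangulated (Bondal–Kapranov 3.3)

`SD k T` : a functor with a binatural perfect pairing (a "Serre structure", following
`Groth.Agent.S6731`).  We construct the signed commutation with the shift
`ε : S ⋙ [1] ⟶ [1] ⋙ S`, show it is an isomorphism, and show that `S` sends distinguished
triangles to distinguished triangles.
-/

set_option autoImplicit false

namespace Groth.Agent.Lib.Serre65

open CategoryTheory CategoryTheory.Limits CategoryTheory.Pretriangulated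

universe w v u

section LinAlg

theorem exists_dual_comp_eq {k M V : Type*} [Field k] [AddCommGroup M] [Module k M]
    [AddCommGroup V] [Module k V] (r : M →ₗ[k] V) (μ : M →ₗ[k] k)
    (h : ∀ m, r m = 0 → μ m = 0) : ∃ s : V →ₗ[k] k, ∀ m, s (r m) = μ m := by
  obtain ⟨g, hg⟩ := r.rangeRestrict.exists_rightInverse_of_surjective r.range_rangeRestrict
  obtain ⟨s, hs⟩ := (μ ∘ₗ g).exists_extend
  refine ⟨s, fun m => ?_⟩
  have h1 : s (r m) = μ (g (r.rangeRestrict m)) := by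
    have := LinearMap.congr_fun hs (r.rangeRestrict m)
    simpa using this
  rw [h1]
  have h2 : r (g (r.rangeRestrict m)) = r m := by
    have := LinearMap.congr_fun hg (r.rangeRestrict m)
    have h3 := congrArg Subtype.val this
    simpa using h3
  have h4 : μ (g (r.rangeRestrict m) - m) = 0 := h _ (by rw [map_sub, h2, sub_self])
  rw [map_sub, sub_eq_zero] at h4
  exact h4

end LinAlg

section

variable (k : Type w) [Field k] (T : Type u) [Category.{v} T] [Preadditive T] [Linear k T]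

/-- A Serre structure: a functor with a binatural perfect pairing. -/
structure SD where
  S : T ⥤ T
  c : ∀ X Y : T, (X ⟶ Y) ≃ₗ[k] Module.Dual k (Y ⟶ S.obj X)
  h₁ : ∀ (X Y Y' : T) (f : X ⟶ Y) (g : Y ⟶ Y') (h : Y' ⟶ S.obj X),
    c X Y' (f ≫ g) h = c X Y f (g ≫ h)
  h₂ : ∀ (X' X Y : T) (a : X' ⟶ X) (f : X ⟶ Y) (h : Y ⟶ S.obj X'),
    c X' Y (a ≫ f) h = c X Y f (h ≫ S.map a)

variable {k T}

namespace SD

variable (D : SD k T)

/-- The trace functional. -/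
noncomputable def tr (X : T) : Module.Dual k (X ⟶ D.S.obj X) := D.c X X (𝟙 X)

theorem c_eq_tr {X Y : T} (f : X ⟶ Y) (h : Y ⟶ D.S.obj X) : D.c X Y f h = D.tr X (f ≫ h) := by
  have := D.h₁ X X Y (𝟙 X) f h
  rwa [Category.id_comp] at this

theorem tr_comm {X' X : T} (a : X' ⟶ X) (g : X ⟶ D.S.obj X') :
    D.tr X (g ≫ D.S.map a) = D.tr X' (a ≫ g) := by
  rw [← D.c_eq_tr a g]
  have := D.h₂ X' X X a (𝟙 X) g
  rw [Category.comp_id] at this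
  exact this.symm

theorem S_map_zero (X' X : T) : D.S.map (0 : X' ⟶ X) = 0 := by
  rw [← sub_eq_zero, ← Module.forall_dual_apply_eq_zero_iff k]
  intro ξ
  obtain ⟨g, rfl⟩ := (D.c X (D.S.obj X')).surjective ξ
  rw [sub_zero, D.c_eq_tr, D.tr_comm, zero_comp, map_zero]

/-- Nondegeneracy on the right, in terms of the trace. -/
theorem ext_tr {X Y : T} (w w' : Y ⟶ D.S.obj X)
    (h : ∀ g : X ⟶ Y, D.tr X (g ≫ w) = D.tr X (g ≫ w')) : w = w' := by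
  rw [← sub_eq_zero, ← Module.forall_dual_apply_eq_zero_iff k]
  intro ξ
  obtain ⟨g, rfl⟩ := (D.c X Y).surjective ξ
  rw [map_sub, D.c_eq_tr, D.c_eq_tr, h g, sub_self]

variable [∀ X Y : T, Module.Finite k (X ⟶ Y)]

theorem exists_tr {X Y : T} (t : Module.Dual k (X ⟶ Y)) :
    ∃ w : Y ⟶ D.S.obj X, ∀ g, D.tr X (g ≫ w) = t g := by
  let Φ : (Y ⟶ D.S.obj X) ≃ₗ[k] Module.Dual k (X ⟶ Y) :=
    (Module.evalEquiv k (Y ⟶ D.S.obj X)).trans (D.c X Y).dualMap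
  refine ⟨Φ.symm t, fun g => ?_⟩
  have h1 : Φ (Φ.symm t) g = t g := by rw [LinearEquiv.apply_symm_apply]
  rw [← h1, ← D.c_eq_tr]
  rfl

end SD

end

section Shift

variable {k : Type w} [Field k] {T : Type u} [Category.{v} T] [Preadditive T] [Linear k T]
  [HasShift T ℤ] [∀ n : ℤ, (shiftFunctor T n).Additive] [∀ n : ℤ, (shiftFunctor T n).Linear k]

/-- Preimage under the shift functor, as a linear map. -/
noncomputable def unshift (X Y : T) : (X⟦(1 : ℤ)⟧ ⟶ Y⟦(1 : ℤ)⟧) →ₗ[k] (X ⟶ Y) where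
  toFun v := (shiftFunctor T (1 : ℤ)).preimage v
  map_add' v v' := (shiftFunctor T (1 : ℤ)).map_injective (by simp)
  map_smul' r v := (shiftFunctor T (1 : ℤ)).map_injective (by simp)

@[simp] lemma unshift_map {X Y : T} (u : X ⟶ Y) :
    unshift (k := k) X Y (u⟦(1 : ℤ)⟧') = u :=
  (shiftFunctor T (1 : ℤ)).map_injective (by simp [unshift])

@[simp] lemma map_unshift {X Y : T} (v : X⟦(1 : ℤ)⟧ ⟶ Y⟦(1 : ℤ)⟧) :
    (unshift (k := k) X Y v)⟦(1 : ℤ)⟧' = v := by simp [unshift]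

lemma unshift_comp_map {X Y Z : T} (g : X⟦(1 : ℤ)⟧ ⟶ Y⟦(1 : ℤ)⟧) (u : Y ⟶ Z) :
    unshift (k := k) X Z (g ≫ u⟦(1 : ℤ)⟧') = unshift (k := k) X Y g ≫ u :=
  (shiftFunctor T (1 : ℤ)).map_injective (by simp)

lemma unshift_map_comp {X Y Z : T} (a : X ⟶ Y) (g : Y⟦(1 : ℤ)⟧ ⟶ Z⟦(1 : ℤ)⟧) :
    unshift (k := k) X Z (a⟦(1 : ℤ)⟧' ≫ g) = a ≫ unshift (k := k) Y Z g :=
  (shiftFunctor T (1 : ℤ)).map_injective (by simp)

namespace SD

variable (D : SD k T) [∀ X Y : T, Module.Finite k (X ⟶ Y)]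

/-- The functional defining `ε`. -/
noncomputable def εfun (A : T) : Module.Dual k (A⟦(1 : ℤ)⟧ ⟶ (D.S.obj A)⟦(1 : ℤ)⟧) :=
  -(D.tr A ∘ₗ unshift A (D.S.obj A))

/-- The signed comparison `(S A)[1] ⟶ S (A[1])`. -/
noncomputable def ε (A : T) : (D.S.obj A)⟦(1 : ℤ)⟧ ⟶ D.S.obj (A⟦(1 : ℤ)⟧) :=
  (D.exists_tr (D.εfun A)).choose

theorem ε_spec (A : T) (v : A⟦(1 : ℤ)⟧ ⟶ (D.S.obj A)⟦(1 : ℤ)⟧) :
    D.tr (A⟦(1 : ℤ)⟧) (v ≫ D.ε A) = - D.tr A (unshift (k := k) _ _ v) :=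
  (D.exists_tr (D.εfun A)).choose_spec v

theorem ε_spec' (A : T) (u : A ⟶ D.S.obj A) :
    D.tr (A⟦(1 : ℤ)⟧) (u⟦(1 : ℤ)⟧' ≫ D.ε A) = - D.tr A u := by
  rw [D.ε_spec, unshift_map]

theorem ε_natural {A A' : T} (a : A ⟶ A') :
    (D.S.map a)⟦(1 : ℤ)⟧' ≫ D.ε A' = D.ε A ≫ D.S.map (a⟦(1 : ℤ)⟧') := by
  apply D.ext_tr
  intro g
  rw [← Category.assoc, D.ε_spec, ← Category.assoc, D.tr_comm, ← Category.assoc, D.ε_spec]
  rw [unshift_comp_map, unshift_map_comp, D.tr_comm]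

theorem ε_cancel_zero (A : T) {W : T} (w : W ⟶ (D.S.obj A)⟦(1 : ℤ)⟧) (hw : w ≫ D.ε A = 0) :
    w = 0 := by
  let W' := (shiftFunctor T (1 : ℤ)).objPreimage W
  let i : W'⟦(1 : ℤ)⟧ ≅ W := (shiftFunctor T (1 : ℤ)).objObjPreimageIso W
  have h0 : unshift (k := k) W' (D.S.obj A) (i.hom ≫ w) = 0 := by
    apply D.ext_tr
    intro x'
    rw [comp_zero, map_zero]
    have := D.ε_spec A (x'⟦(1 : ℤ)⟧' ≫ i.hom ≫ w)
    rw [unshift_map_comp, Category.assoc, Category.assoc, hw, comp_zero, comp_zero, map_zero,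
      eq_comm, neg_eq_zero] at this
    exact this
  have h1 : i.hom ≫ w = 0 := by
    rw [← map_unshift (k := k) (i.hom ≫ w), h0, Functor.map_zero]
  rw [← cancel_epi i.hom, h1, comp_zero]

instance (A : T) : Mono (D.ε A) :=
  Preadditive.mono_of_cancel_zero _ (fun w hw => D.ε_cancel_zero A w hw)

theorem exists_ε_section (A : T) :
    ∃ w : D.S.obj (A⟦(1 : ℤ)⟧) ⟶ (D.S.obj A)⟦(1 : ℤ)⟧, w ≫ D.ε A = 𝟙 _ := by
  let W := D.S.obj (A⟦(1 : ℤ)⟧)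
  let W' := (shiftFunctor T (1 : ℤ)).objPreimage W
  let i : W'⟦(1 : ℤ)⟧ ≅ W := (shiftFunctor T (1 : ℤ)).objObjPreimageIso W
  let t : Module.Dual k (A ⟶ W') :=
    -(D.tr (A⟦(1 : ℤ)⟧) ∘ₗ Linear.rightComp k _ i.hom ∘ₗ
      (shiftFunctor T (1 : ℤ)).mapLinearMap k)
  obtain ⟨w', hw'⟩ := D.exists_tr t
  refine ⟨i.inv ≫ w'⟦(1 : ℤ)⟧', ?_⟩
  apply D.ext_tr
  intro x
  rw [Category.comp_id]
  have hx : x = (unshift (k := k) _ _ (x ≫ i.inv))⟦(1 : ℤ)⟧' ≫ i.hom := by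
    rw [map_unshift, Category.assoc, Iso.inv_hom_id, Category.comp_id]
  rw [← Category.assoc, D.ε_spec, ← Category.assoc, unshift_comp_map, hw']
  conv_rhs => rw [hx]
  simp [t]

instance (A : T) : IsSplitEpi (D.ε A) := by
  obtain ⟨w, hw⟩ := D.exists_ε_section A
  exact IsSplitEpi.mk' ⟨w, hw⟩

instance (A : T) : IsIso (D.ε A) := isIso_of_mono_of_isSplitEpi _

/-- The (signed) commutation of a Serre functor with the shift. -/
noncomputable def e : shiftFunctor T (1 : ℤ) ⋙ D.S ≅ D.S ⋙ shiftFunctor T (1 : ℤ) :=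
  (NatIso.ofComponents (fun A => asIso (D.ε A)) (fun a => D.ε_natural a)).symm

@[simp] lemma e_inv_app (A : T) : D.e.inv.app A = D.ε A := rfl

@[simp] lemma e_hom_app (A : T) : D.e.hom.app A = inv (D.ε A) := rfl

@[reassoc (attr := simp)] lemma e_hom_app_ε (A : T) : D.e.hom.app A ≫ D.ε A = 𝟙 _ := by simp

@[reassoc (attr := simp)] lemma ε_e_hom_app (A : T) : D.ε A ≫ D.e.hom.app A = 𝟙 _ := by simp

end SD

end Shift

section Main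

variable {k : Type w} [Field k] {T : Type u} [Category.{v} T] [Preadditive T] [Linear k T]
  [HasZeroObject T] [HasShift T ℤ] [∀ n : ℤ, (shiftFunctor T n).Additive]
  [∀ n : ℤ, (shiftFunctor T n).Linear k] [Pretriangulated T]
  [∀ X Y : T, Module.Finite k (X ⟶ Y)]

namespace SD

variable (D : SD k T)

omit [∀ n : ℤ, (shiftFunctor T n).Linear k] in
/-- `Hom(W, S -)` is exact in the middle on distinguished triangles. -/
theorem exact_map (Δ : Triangle T) (hΔ : Δ ∈ distTriang T) {W : T}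
    (y : W ⟶ D.S.obj Δ.obj₂) (hy : y ≫ D.S.map Δ.mor₂ = 0) :
    ∃ x : W ⟶ D.S.obj Δ.obj₁, y = x ≫ D.S.map Δ.mor₁ := by
  let r : (Δ.obj₂ ⟶ W) →ₗ[k] (Δ.obj₁ ⟶ W) := Linear.leftComp k W Δ.mor₁
  let μ : (Δ.obj₂ ⟶ W) →ₗ[k] k := D.tr Δ.obj₂ ∘ₗ Linear.rightComp k Δ.obj₂ y
  obtain ⟨s, hs⟩ := exists_dual_comp_eq r μ (by
    intro a ha
    obtain ⟨z, rfl⟩ := Triangle.yoneda_exact₂ Δ hΔ a ha
    show D.tr Δ.obj₂ ((Δ.mor₂ ≫ z) ≫ y) = 0
    rw [Category.assoc, ← D.tr_comm, Category.assoc, hy, comp_zero, map_zero])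
  obtain ⟨x, hx⟩ := D.exists_tr s
  refine ⟨x, D.ext_tr _ _ (fun a => ?_)⟩
  rw [← Category.assoc, D.tr_comm, ← Category.assoc, hx]
  exact (hs a).symm

/-- The key compatibility (uses TR3 and the sign in `ε`). -/
theorem key (Δ : Triangle T) (hΔ : Δ ∈ distTriang T) {C' : T}
    (g' : D.S.obj Δ.obj₂ ⟶ C') (h' : C' ⟶ (D.S.obj Δ.obj₁)⟦(1 : ℤ)⟧)
    (hΔ' : Triangle.mk (D.S.map Δ.mor₁) g' h' ∈ distTriang T)
    (b : Δ.obj₃ ⟶ D.S.obj Δ.obj₂) (d : Δ.obj₁⟦(1 : ℤ)⟧ ⟶ C')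
    (comm : b ≫ g' = Δ.mor₃ ≫ d) :
    D.tr Δ.obj₃ (b ≫ D.S.map Δ.mor₂) = D.tr (Δ.obj₁⟦(1 : ℤ)⟧) (d ≫ h' ≫ D.ε Δ.obj₁) := by
  obtain ⟨a, ha₁, ha₂⟩ : ∃ a : Δ.obj₂ ⟶ D.S.obj Δ.obj₁,
      Δ.mor₂ ≫ b = a ≫ D.S.map Δ.mor₁ ∧ (-Δ.mor₁⟦(1 : ℤ)⟧') ≫ a⟦(1 : ℤ)⟧' = d ≫ h' :=
    complete_distinguished_triangle_morphism₁ Δ.rotate
      (Triangle.mk (D.S.map Δ.mor₁) g' h') (rot_of_distTriang _ hΔ) hΔ' b d comm.symm
  rw [D.tr_comm, ha₁, D.tr_comm, ← Category.assoc, ← ha₂, Preadditive.neg_comp,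
    Preadditive.neg_comp, map_neg, ← Functor.map_comp, D.ε_spec', neg_neg]

theorem map_distinguished (Δ : Triangle T) (hΔ : Δ ∈ distTriang T) :
    Triangle.mk (D.S.map Δ.mor₁) (D.S.map Δ.mor₂) (D.S.map Δ.mor₃ ≫ D.e.hom.app Δ.obj₁)
      ∈ distTriang T := by
  obtain ⟨C', g', h', hΔ'⟩ := distinguished_cocone_triangle (D.S.map Δ.mor₁)
  let r : ((Δ.obj₃ ⟶ D.S.obj Δ.obj₂) × (Δ.obj₁⟦(1 : ℤ)⟧ ⟶ C')) →ₗ[k] (Δ.obj₃ ⟶ C') :=
    (Linear.rightComp k Δ.obj₃ g').coprod (Linear.leftComp k C' Δ.mor₃)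
  let lP : (Δ.obj₃ ⟶ D.S.obj Δ.obj₂) →ₗ[k] k :=
    D.tr Δ.obj₃ ∘ₗ Linear.rightComp k Δ.obj₃ (D.S.map Δ.mor₂)
  let lQ : (Δ.obj₁⟦(1 : ℤ)⟧ ⟶ C') →ₗ[k] k :=
    D.tr (Δ.obj₁⟦(1 : ℤ)⟧) ∘ₗ Linear.rightComp k _ (h' ≫ D.ε Δ.obj₁)
  obtain ⟨lam, hlam⟩ := exists_dual_comp_eq r (lP.coprod lQ) (by
    rintro ⟨b, d⟩ hbd
    have h1 : b ≫ g' + Δ.mor₃ ≫ d = 0 := hbd
    have h2 : b ≫ g' = Δ.mor₃ ≫ (-d) := by
      rw [Preadditive.comp_neg]
      exact eq_neg_of_add_eq_zero_left h1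
    have h3 := D.key Δ hΔ g' h' hΔ' b (-d) h2
    show D.tr Δ.obj₃ (b ≫ D.S.map Δ.mor₂) +
      D.tr (Δ.obj₁⟦(1 : ℤ)⟧) (d ≫ h' ≫ D.ε Δ.obj₁) = 0
    rw [h3, Preadditive.neg_comp, map_neg, neg_add_cancel])
  obtain ⟨φ, hφ⟩ := D.exists_tr lam
  have hφ₁ : g' ≫ φ = D.S.map Δ.mor₂ := by
    apply D.ext_tr
    intro b
    rw [← Category.assoc, hφ]
    have := hlam (b, 0)
    simpa [r, lP, lQ] using this
  have hφ₂ : φ ≫ D.S.map Δ.mor₃ = h' ≫ D.ε Δ.obj₁ := by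
    apply D.ext_tr
    intro d
    rw [← Category.assoc, D.tr_comm, ← Category.assoc, hφ]
    have := hlam (0, d)
    simpa [r, lP, lQ] using this
  have hφ₃ : φ ≫ D.S.map Δ.mor₃ ≫ D.e.hom.app Δ.obj₁ = h' := by
    rw [← Category.assoc, hφ₂, Category.assoc, D.ε_e_hom_app, Category.comp_id]
  have hiso : IsIso φ := by
    apply isIso_of_yoneda_map_bijective
    intro W
    constructor
    · intro w w' hww'
      dsimp only at hww'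
      rw [← sub_eq_zero]
      have h0 : (w - w') ≫ φ = 0 := by rw [Preadditive.sub_comp, hww', sub_self]
      generalize w - w' = z at h0
      have h1 : z ≫ h' = 0 := by
        rw [← hφ₃, ← Category.assoc, h0, zero_comp]
      obtain ⟨z₁, rfl⟩ : ∃ z₁ : W ⟶ D.S.obj Δ.obj₂, z = z₁ ≫ g' :=
        Triangle.coyoneda_exact₃ _ hΔ' z h1
      have h2 : z₁ ≫ D.S.map Δ.mor₂ = 0 := by
        rw [← hφ₁, ← Category.assoc, h0]
      obtain ⟨z₀, rfl⟩ := D.exact_map Δ hΔ z₁ h2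
      have : D.S.map Δ.mor₁ ≫ g' = 0 := comp_distTriang_mor_zero₁₂ _ hΔ'
      rw [Category.assoc, this, comp_zero]
    · intro y
      have h0 : (y ≫ D.S.map Δ.mor₃ ≫ D.e.hom.app Δ.obj₁) ≫ (D.S.map Δ.mor₁)⟦(1 : ℤ)⟧' = 0 := by
        have hn := D.e.hom.naturality Δ.mor₁
        dsimp only [Functor.comp_map] at hn
        rw [Category.assoc, Category.assoc, ← hn, ← Category.assoc (D.S.map Δ.mor₃),
          ← Functor.map_comp, comp_distTriang_mor_zero₃₁ _ hΔ, D.S_map_zero, zero_comp,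
          comp_zero]
      obtain ⟨w, hw⟩ : ∃ w : W ⟶ C', y ≫ D.S.map Δ.mor₃ ≫ D.e.hom.app Δ.obj₁ = w ≫ h' :=
        Triangle.coyoneda_exact₁ _ hΔ' _ h0
      have h1 : (y - w ≫ φ) ≫ D.S.map Δ.mor₃ = 0 := by
        have : (y - w ≫ φ) ≫ D.S.map Δ.mor₃ ≫ D.e.hom.app Δ.obj₁ = 0 := by
          rw [Preadditive.sub_comp, hw, Category.assoc, hφ₃, sub_self]
        have h2 := congrArg (fun q => q ≫ D.ε Δ.obj₁) this
        simpa using h2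
      obtain ⟨w₁, hw₁⟩ : ∃ w₁ : W ⟶ D.S.obj Δ.obj₂, y - w ≫ φ = w₁ ≫ D.S.map Δ.mor₂ :=
        D.exact_map Δ.rotate (rot_of_distTriang _ hΔ) _ h1
      refine ⟨w + w₁ ≫ g', ?_⟩
      dsimp only
      rw [Preadditive.add_comp, Category.assoc, hφ₁, ← hw₁]
      abel
  refine isomorphic_distinguished _ hΔ' _
    (Triangle.isoMk _ _ (Iso.refl _) (Iso.refl _) (asIso φ).symm ?_ ?_ ?_)
  · show D.S.map Δ.mor₁ ≫ 𝟙 (D.S.obj Δ.obj₂) = 𝟙 (D.S.obj Δ.obj₁) ≫ D.S.map Δ.mor₁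
    rw [Category.comp_id, Category.id_comp]
  · show D.S.map Δ.mor₂ ≫ inv φ = 𝟙 (D.S.obj Δ.obj₂) ≫ g'
    rw [Category.id_comp, ← hφ₁, Category.assoc, IsIso.hom_inv_id, Category.comp_id]
  · show (D.S.map Δ.mor₃ ≫ D.e.hom.app Δ.obj₁) ≫ (𝟙 (D.S.obj Δ.obj₁))⟦(1 : ℤ)⟧' = inv φ ≫ h'
    rw [CategoryTheory.Functor.map_id]
    refine (Category.comp_id _).trans ?_
    rw [← hφ₃, IsIso.inv_hom_id_assoc]

end SD

end Main

end Groth.Agent.Lib.Serre65
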