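import Mathlib

/-!
# Serre functors from objectwise representability
-/

set_option autoImplicit false

namespace Groth.Agent.Lib.Serre65Rep

open CategoryTheory CategoryTheory.Limits

universe w v u

variable {k : Type w} [Field k] {T : Type u} [Category.{v} T] [Preadditive T] [Linear k T]

section

variable (S : T → T) (e : ∀ X Y : T, (Y ⟶ S X) ≃ₗ[k] Module.Dual k (X ⟶ Y))
  (he : ∀ (X Y Y' : T) (g : Y' ⟶ Y) (f : Y ⟶ S X),
    e X Y' (g ≫ f) = (e X Y f) ∘ₗ Linear.rightComp k X g)

/-- The trace functional. -/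
noncomputable def tr (X : T) : Module.Dual k (X ⟶ S X) := e X (S X) (𝟙 _)

include he in
theorem e_eq_tr {X Y : T} (f : Y ⟶ S X) (x : X ⟶ Y) : e X Y f x = tr S e X (x ≫ f) := by
  have := LinearMap.congr_fun (he X (S X) Y f (𝟙 _)) x
  rw [Category.comp_id] at this
  exact this

include he in
theorem ext_tr {X Y : T} (f f' : Y ⟶ S X)
    (h : ∀ x : X ⟶ Y, tr S e X (x ≫ f) = tr S e X (x ≫ f')) : f = f' := by
  apply (e X Y).injective
  apply LinearMap.ext
  intro x
  rw [e_eq_tr S e he, e_eq_tr S e he, h]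

include he in
theorem exists_tr {X Y : T} (t : Module.Dual k (X ⟶ Y)) :
    ∃ f : Y ⟶ S X, ∀ x, tr S e X (x ≫ f) = t x := by
  refine ⟨(e X Y).symm t, fun x => ?_⟩
  rw [← e_eq_tr S e he, LinearEquiv.apply_symm_apply]

/-- The action on morphisms. -/
noncomputable def map {X' X : T} (a : X' ⟶ X) : S X' ⟶ S X :=
  (exists_tr S e he (tr S e X' ∘ₗ Linear.leftComp k (S X') a)).choose

theorem map_spec {X' X : T} (a : X' ⟶ X) (x : X ⟶ S X') :
    tr S e X (x ≫ map S e he a) = tr S e X' (a ≫ x) :=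
  (exists_tr S e he (tr S e X' ∘ₗ Linear.leftComp k (S X') a)).choose_spec x

/-- The Serre functor. -/
noncomputable def F : T ⥤ T where
  obj := S
  map a := map S e he a
  map_id X := by
    apply ext_tr S e he
    intro x
    rw [map_spec, Category.id_comp, Category.comp_id]
  map_comp a a' := by
    apply ext_tr S e he
    intro x
    rw [map_spec, ← Category.assoc, map_spec, ← Category.assoc, map_spec, Category.assoc]

@[simp] lemma F_obj (X : T) : (F S e he).obj X = S X := rfl

lemma F_map {X' X : T} (a : X' ⟶ X) : (F S e he).map a = map S e he a := rfl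

theorem map_add' {X' X : T} (a a' : X' ⟶ X) :
    map S e he (a + a') = map S e he a + map S e he a' := by
  apply ext_tr S e he
  intro x
  rw [map_spec, Preadditive.comp_add, map_add, map_spec, map_spec, Preadditive.add_comp,
    map_add]

theorem map_smul' {X' X : T} (r : k) (a : X' ⟶ X) :
    map S e he (r • a) = r • map S e he a := by
  apply ext_tr S e he
  intro x
  rw [map_spec, Linear.comp_smul, map_smul, map_spec, Linear.smul_comp, map_smul]

instance : (F S e he).Additive where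
  map_add {X' X a a'} := map_add' S e he a a'

instance : (F S e he).Linear k where
  map_smul {X' X} a r := map_smul' S e he r a

variable [∀ X Y : T, Module.Finite k (X ⟶ Y)]

/-- The pairing. -/
noncomputable def c (X Y : T) : (X ⟶ Y) ≃ₗ[k] Module.Dual k (Y ⟶ S X) :=
  (Module.evalEquiv k (X ⟶ Y)).trans (e X Y).dualMap

include he in
theorem c_apply {X Y : T} (f : X ⟶ Y) (h : Y ⟶ S X) :
    c S e X Y f h = tr S e X (f ≫ h) := by
  rw [← e_eq_tr S e he]
  rfl

theorem map_injective' {X' X : T} (a a' : X' ⟶ X) (haa' : map S e he a = map S e he a') :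
    a = a' := by
  apply (c S e X' X).injective
  apply LinearMap.ext
  intro x
  rw [c_apply S e he, c_apply S e he, ← map_spec S e he, haa', map_spec]

theorem map_surjective' {X' X : T} (b : S X' ⟶ S X) : ∃ a : X' ⟶ X, map S e he a = b := by
  obtain ⟨a, ha⟩ := (c S e X' X).surjective (tr S e X ∘ₗ Linear.rightComp k X b)
  refine ⟨a, ext_tr S e he _ _ (fun x => ?_)⟩
  rw [map_spec, ← c_apply S e he, ha]
  rfl

instance : (F S e he).Faithful where
  map_injective {X' X a a'} haa' := map_injective' S e he a a' haa'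

instance : (F S e he).Full where
  map_surjective {X' X} b := map_surjective' S e he b

section Corep

variable (R : T → T) (e' : ∀ X Y : T, (R X ⟶ Y) ≃ₗ[k] Module.Dual k (Y ⟶ X))
  (he' : ∀ (X Y Y' : T) (g : Y ⟶ Y') (f : R X ⟶ Y),
    e' X Y' (f ≫ g) = (e' X Y f) ∘ₗ Linear.leftComp k X g)

omit [∀ X Y : T, Module.Finite k (X ⟶ Y)] in
include he' in
theorem e'_eq {Z Y : T} (f : R Z ⟶ Y) (y : Y ⟶ Z) :
    e' Z Y f y = e' Z (R Z) (𝟙 _) (f ≫ y) := by
  have := LinearMap.congr_fun (he' Z (R Z) Y f (𝟙 _)) y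
  rw [Category.id_comp] at this
  exact this

include he he' in
theorem exists_iso (Z : T) : ∃ X : T, Nonempty (S X ≅ Z) := by
  obtain ⟨β, hβ⟩ := exists_tr S e he (e' Z (R Z) (𝟙 _))
  have hβ' : ∀ {Y : T} (x : R Z ⟶ Y) (y : Y ⟶ Z),
      tr S e (R Z) (x ≫ y ≫ β) = e' Z Y x y := by
    intro Y x y
    rw [← Category.assoc, hβ]
    exact (e'_eq R e' he' x y).symm
  have : IsIso β := by
    apply isIso_of_yoneda_map_bijective
    intro Y
    constructor
    · intro y y' hyy'
      dsimp only at hyy'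
      rw [← sub_eq_zero, ← Module.forall_dual_apply_eq_zero_iff k]
      intro ξ
      obtain ⟨x, rfl⟩ := (e' Z Y).surjective ξ
      rw [map_sub, ← hβ', ← hβ', hyy', sub_self]
    · intro w
      let ψ : Module.Dual k (Module.Dual k (Y ⟶ Z)) :=
        (tr S e (R Z) ∘ₗ Linear.rightComp k (R Z) w) ∘ₗ (e' Z Y).symm.toLinearMap
      obtain ⟨y, hy⟩ := (Module.evalEquiv k (Y ⟶ Z)).surjective ψ
      refine ⟨y, ext_tr S e he _ _ (fun x => ?_)⟩
      rw [hβ']
      have h1 : ψ (e' Z Y x) = e' Z Y x y := by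
        rw [← hy]
        rfl
      rw [← h1]
      simp [ψ]
  exact ⟨R Z, ⟨(asIso β).symm⟩⟩

theorem essSurj_F (hR : ∃ (R : T → T) (e' : ∀ X Y : T, (R X ⟶ Y) ≃ₗ[k] Module.Dual k (Y ⟶ X)),
    ∀ (X Y Y' : T) (g : Y ⟶ Y') (f : R X ⟶ Y),
      e' X Y' (f ≫ g) = (e' X Y f) ∘ₗ Linear.leftComp k X g) : (F S e he).EssSurj where
  mem_essImage Z := by
    obtain ⟨R, e', he'⟩ := hR
    obtain ⟨X, ⟨i⟩⟩ := exists_iso S e he R e' he' Z
    exact ⟨X, ⟨i⟩⟩

end Corep

end

end Groth.Agent.Lib.Serre65Rep
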