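import Groth.Agent.Lib.SerreAlg76A

/-!
# Graded rings generated in degree one: `M_{k+e} = A_e • M_k` for `k ≫ 0` (helper76)

* `mem_closure_mul_of_gen`: if `A₊ = (A_1)` then `A_{p+1} ⊆ A_1 * A_p` (additive closure of products).
* `exists_bound_gen`: if moreover `M` has (TF) then there is `k₁` such that for all `k ≥ k₁` and all `e`, every element of
  `M_{k+e}` is a sum of products `a • m` with `a ∈ A_e`, `m ∈ M_k`.
-/

set_option autoImplicit false
set_option linter.unusedSectionVars false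
universe u

open DirectSum

namespace Groth.Agent.Lib.SerreAlg76

variable {A σ : Type u} [CommRing A] [SetLike σ A] [AddSubgroupClass σ A] (𝒜 : ℕ → σ) [GradedRing 𝒜]
variable {M τ : Type u} [AddCommGroup M] [Module A M] [SetLike τ M] [AddSubgroupClass τ M] (ℳ : ℕ → τ)
  [DirectSum.Decomposition ℳ] [SetLike.GradedSMul 𝒜 ℳ]

omit [SetLike τ M] [AddSubgroupClass τ M] [SetLike σ A] [AddSubgroupClass σ A] in
/-- Bilinearity of `•` on additive closures. -/
theorem smul_mem_closure {P : Set A} {Q R : Set M}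
    (h : ∀ a ∈ P, ∀ m ∈ Q, a • m ∈ AddSubgroup.closure R) {a : A} (ha : a ∈ AddSubgroup.closure P)
    {m : M} (hm : m ∈ AddSubgroup.closure Q) : a • m ∈ AddSubgroup.closure R := by
  induction ha using AddSubgroup.closure_induction with
  | mem a ha =>
    induction hm using AddSubgroup.closure_induction with
    | mem m hm => exact h a ha m hm
    | zero => rw [smul_zero]; exact zero_mem _
    | add w w' _ _ h1 h2 => rw [smul_add]; exact add_mem h1 h2
    | neg w _ h1 => rw [smul_neg]; exact neg_mem h1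
  | zero => rw [zero_smul]; exact zero_mem _
  | add z z' _ _ h1 h2 => rw [add_smul]; exact add_mem h1 h2
  | neg z _ h1 => rw [neg_smul]; exact neg_mem h1

/-- `A_{p+1} ⊆ A_1 * A_p` when the irrelevant ideal is generated in degree one. -/
theorem mem_closure_mul_of_gen (hgen : (HomogeneousIdeal.irrelevant 𝒜).toIdeal = Ideal.span (𝒜 1 : Set A))
    (p : ℕ) (a : A) (ha : a ∈ 𝒜 (p + 1)) :
    a ∈ AddSubgroup.closure {z : A | ∃ x ∈ 𝒜 1, ∃ y ∈ 𝒜 p, z = x * y} := by
  classical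
  have haI : a ∈ Ideal.span (𝒜 1 : Set A) := hgen ▸ mem_irrelevant_of_mem 𝒜 (Nat.succ_pos p) ha
  obtain ⟨c, T, hT, hcT, hsum⟩ := Submodule.mem_span_iff_exists_finset_subset.1 haI
  have h1 : a = ∑ t ∈ T, (decompose 𝒜 (c t • t) (p + 1) : A) := by
    conv_lhs => rw [← decompose_of_mem_same 𝒜 ha, ← hsum, decompose_sum]
    rw [DFinsupp.finsetSum_apply, AddSubmonoidClass.coe_finsetSum]
  rw [h1]
  refine sum_mem fun t ht => AddSubgroup.subset_closure ?_
  have ht1 : t ∈ 𝒜 1 := hT ht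
  rw [smul_eq_mul, coe_decompose_mul_of_right_mem_of_le 𝒜 ht1 (by omega), Nat.add_sub_cancel]
  exact ⟨t, ht1, _, SetLike.coe_mem _, mul_comm _ _⟩

/-- `M_{k+e} = A_e • M_k` for `k ≫ 0` (generation in degree one, (TF)). -/
theorem exists_bound_gen (hgen : (HomogeneousIdeal.irrelevant 𝒜).toIdeal = Ideal.span (𝒜 1 : Set A))
    (hTF : ∃ k : ℕ, (Submodule.span A (⋃ i ∈ Set.Ici k, (ℳ i : Set M))).FG) :
    ∃ k₁ : ℕ, ∀ k, k₁ ≤ k → ∀ e : ℕ, ∀ m ∈ ℳ (k + e),
      m ∈ AddSubgroup.closure {z : M | ∃ a ∈ 𝒜 e, ∃ m' ∈ ℳ k, z = a • m'} := by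
  classical
  obtain ⟨k₀, hk₀⟩ := hTF
  set M' : Submodule A M := Submodule.span A (⋃ i ∈ Set.Ici k₀, (ℳ i : Set M)) with hM'def
  have hM'hom : Hom ℳ M' := by
    refine hom_span 𝒜 ℳ _ ?_
    intro m hm
    simp only [Set.mem_iUnion] at hm
    obtain ⟨i, _, hm⟩ := hm
    exact ⟨i, hm⟩
  have hM'mem : ∀ i, k₀ ≤ i → ∀ m ∈ ℳ i, m ∈ M' := fun i hi m hm =>
    Submodule.subset_span (Set.mem_biUnion (show i ∈ Set.Ici k₀ from hi) hm)
  obtain ⟨S, hS, hspan⟩ := exists_homogeneous_gens hM'hom hk₀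
  choose! δ hδ using fun t ht => (hS t ht).2
  refine ⟨k₀ + S.sup δ, fun k hk => ?_⟩
  -- the case `e = 1`
  have hone : ∀ k, k₀ + S.sup δ ≤ k → ∀ m ∈ ℳ (k + 1),
      m ∈ AddSubgroup.closure {z : M | ∃ a ∈ 𝒜 1, ∃ m' ∈ ℳ k, z = a • m'} := by
    intro k hk m hm
    have hmM' : m ∈ M' := hM'mem _ (by omega) m hm
    rw [hspan] at hmM'
    obtain ⟨b, -, hb⟩ := Submodule.mem_span_finset.1 hmM'
    have h1 : m = ∑ t ∈ S, (decompose ℳ (b t • t) (k + 1) : M) := by
      conv_lhs => rw [← decompose_of_mem_same ℳ hm, ← hb, decompose_sum]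
      rw [DFinsupp.finsetSum_apply, AddSubmonoidClass.coe_finsetSum]
    rw [h1]
    refine sum_mem fun t ht => ?_
    have h2 : δ t ≤ S.sup δ := Finset.le_sup ht
    obtain ⟨p, hp⟩ : ∃ p, k = p + δ t := ⟨k - δ t, by omega⟩
    have hidx : k + 1 = (p + 1) + δ t := by omega
    rw [hidx, decompose_smul_right 𝒜 (hδ t ht)]
    have h3 := mem_closure_mul_of_gen 𝒜 hgen p _ (SetLike.coe_mem (decompose 𝒜 (b t) (p + 1)))
    refine smul_mem_closure (Q := {t}) ?_ h3 (AddSubgroup.subset_closure rfl)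
    rintro z ⟨x, hx, y, hy, rfl⟩ m' rfl
    refine AddSubgroup.subset_closure ⟨x, hx, y • m', ?_, by rw [mul_smul]⟩
    have h4 := SetLike.GradedSMul.smul_mem hy (hδ m' ht)
    rw [hp]
    simpa only [vadd_eq_add] using h4
  intro e
  induction e with
  | zero =>
    intro m hm
    exact AddSubgroup.subset_closure ⟨1, SetLike.GradedOne.one_mem, m, hm, by rw [one_smul]⟩
  | succ e ih =>
    intro m hm
    have h5 := hone (k + e) (by omega) m hm
    refine (AddSubgroup.closure_le _).2 ?_ h5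
    rintro z ⟨x, hx, y, hy, rfl⟩
    refine smul_mem_closure (P := {x}) ?_ (AddSubgroup.subset_closure rfl) (ih y hy)
    rintro x' rfl w ⟨a, ha, m', hm', rfl⟩
    refine AddSubgroup.subset_closure ⟨x' * a, ?_, m', hm', by rw [mul_smul]⟩
    have h7 := SetLike.mul_mem_graded hx ha
    rwa [add_comm] at h7

end Groth.Agent.Lib.SerreAlg76
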