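import Groth.Agent.Lib.SerreAlpha76
import Groth.Agent.Lib.SerreAlg76D

/-!
# Serre: the graded module of sections `n ↦ Γ(Proj A, M(n)~)` is eventually generated in degree one steps (helper76)

`iSup_range_smulSect_eq_top` (= S5751): for `A` Noetherian with `A₊ = (A_1)` and `M` with (TF) there is `k` such that for
every `e` the group `Γ(X, M(k+e)~)` is generated by the images `a • Γ(X, M(k)~)`, `a ∈ A_e`.
-/

set_option autoImplicit false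
set_option linter.unusedSectionVars false
universe u

open CategoryTheory AlgebraicGeometry TopologicalSpace Opposite DirectSum

noncomputable section

namespace Groth.Agent.Lib.SerreAlpha76

open Groth.Agent.Lib.SerreAlg76 Groth.Agent.Lib.GrModVal Groth.Agent.Lib.GrModFrac

variable {A σ : Type u} [CommRing A] [SetLike σ A] [AddSubgroupClass σ A] (𝒜 : ℕ → σ) [GradedRing 𝒜]
variable {M τ : Type u} [AddCommGroup M] [Module A M] [SetLike τ M] [AddSubgroupClass τ M] (ℳ : ℕ → τ)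
  [DirectSum.Decomposition ℳ] [SetLike.GradedSMul 𝒜 ℳ]

/-- The global section `z / 1` of `M(n)~` for `z` homogeneous of degree `j`, `(j : ℤ) = n`. -/
def secOf {n : ℤ} {j : ℕ} (hj : (j : ℤ) = n) (z : M) (hz : z ∈ ℳ j) : GrMod.sect 𝒜 ℳ n (op ⊤) :=
  fracSec n ⟨z, hz⟩ (⟨1, SetLike.GradedOne.one_mem⟩ : 𝒜 0) (by rw [hj]; simp) ⊤ (fun y => GrMod.one_nin y.1)

theorem gval_secOf {n : ℤ} {j : ℕ} (hj : (j : ℤ) = n) (z : M) (hz : z ∈ ℳ j) (x : ProjectiveSpectrum 𝒜) :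
    gval 𝒜 ℳ (secOf 𝒜 ℳ hj z hz) x = LocalizedModule.mk z 1 := rfl

theorem gval_add {n : ℤ} (s t : GrMod.sect 𝒜 ℳ n (op ⊤)) (x : ProjectiveSpectrum 𝒜) :
    gval 𝒜 ℳ (s + t) x = gval 𝒜 ℳ s x + gval 𝒜 ℳ t x := rfl

theorem gval_neg {n : ℤ} (s : GrMod.sect 𝒜 ℳ n (op ⊤)) (x : ProjectiveSpectrum 𝒜) :
    gval 𝒜 ℳ (-s) x = -gval 𝒜 ℳ s x := rfl

theorem gval_zero {n : ℤ} (x : ProjectiveSpectrum 𝒜) :
    gval 𝒜 ℳ (0 : GrMod.sect 𝒜 ℳ n (op ⊤)) x = 0 := rfl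

theorem gval_smulSect {d : ℕ} (a : 𝒜 d) (n : ℤ) (s : GrMod.sect 𝒜 ℳ n (op ⊤)) (x : ProjectiveSpectrum 𝒜) :
    gval 𝒜 ℳ (GrMod.smulSect 𝒜 ℳ a n (op ⊤) s) x = (a : A) • gval 𝒜 ℳ s x :=
  smul_loc_eq 𝒜 x a _

theorem gext {n : ℤ} {s t : GrMod.sect 𝒜 ℳ n (op ⊤)} (h : ∀ x, gval 𝒜 ℳ s x = gval 𝒜 ℳ t x) : s = t :=
  sect_ext fun x => h x.1

/-- Every global section of `M(n)~`, `n = i ≥ n₀`, is `m / 1`. -/
theorem exists_eq_mk_of_bound {n₀ : ℕ}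
    (hn₀ : ∀ i, n₀ ≤ i → (∀ m ∈ ℳ i, al 𝒜 m = 0 → m = 0) ∧ (∀ v ∈ Nset 𝒜 ℳ i, ∃ m ∈ ℳ i, al 𝒜 m = v))
    {i : ℕ} (hi : n₀ ≤ i) {n : ℤ} (hn : n = (i : ℤ)) (t : GrMod.sect 𝒜 ℳ n (op ⊤)) :
    ∃ m ∈ ℳ i, ∀ x, gval 𝒜 ℳ t x = LocalizedModule.mk m 1 := by
  subst hn
  obtain ⟨m, hm, hmv⟩ := (hn₀ i hi).2 (fun x => gval 𝒜 ℳ t x) ⟨t, fun x => rfl⟩
  exact ⟨m, hm, fun x => (congrFun hmv x).symm⟩

/-- Sections `z / 1` with `z` in the additive closure of `A_e • M_k` lie in the span of the `a • Γ(M(k)~)`. -/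
theorem mem_iSup_range_of_mem_closure (k e : ℕ) (z : M)
    (hz : z ∈ AddSubgroup.closure {z : M | ∃ a ∈ 𝒜 e, ∃ m' ∈ ℳ k, z = a • m'})
    (t : GrMod.sect 𝒜 ℳ ((k : ℤ) + (e : ℕ)) (op ⊤)) (ht : ∀ x, gval 𝒜 ℳ t x = LocalizedModule.mk z 1) :
    t ∈ ⨆ a : 𝒜 e, (GrMod.smulSect 𝒜 ℳ a (k : ℤ) (op (⊤ : Opens (ProjectiveSpectrum.top 𝒜)))).range := by
  have hidx : ((k + e : ℕ) : ℤ) = (k : ℤ) + (e : ℕ) := by push_cast; rfl
  have hcl : ∀ z ∈ AddSubgroup.closure {z : M | ∃ a ∈ 𝒜 e, ∃ m' ∈ ℳ k, z = a • m'}, z ∈ ℳ (k + e) := by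
    intro z hz
    induction hz using AddSubgroup.closure_induction with
    | mem z hz =>
      obtain ⟨a, ha, m', hm', rfl⟩ := hz
      have h1 := SetLike.GradedSMul.smul_mem ha hm'
      rw [add_comm]
      simpa only [vadd_eq_add] using h1
    | zero => exact zero_mem _
    | add z z' _ _ h h' => exact add_mem h h'
    | neg z _ h => exact neg_mem h
  induction hz using AddSubgroup.closure_induction generalizing t with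
  | mem z hz =>
    obtain ⟨a, ha, m', hm', rfl⟩ := hz
    refine AddSubgroup.mem_iSup_of_mem ⟨a, ha⟩ ⟨secOf 𝒜 ℳ rfl m' hm', ?_⟩
    refine gext 𝒜 ℳ fun x => ?_
    rw [gval_smulSect, gval_secOf, ht x, LocalizedModule.smul'_mk]
  | zero =>
    have h0 : t = 0 := gext 𝒜 ℳ fun x => by rw [ht x, gval_zero, LocalizedModule.zero_mk]
    rw [h0]
    exact zero_mem _
  | add z z' hz hz' h h' =>
    have h0 : t = secOf 𝒜 ℳ hidx z (hcl z hz) + secOf 𝒜 ℳ hidx z' (hcl z' hz') := gext 𝒜 ℳ fun x => by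
      rw [ht x, gval_add, gval_secOf, gval_secOf]
      exact (LocalizedModule.mkLinearMap _ M).map_add z z'
    rw [h0]
    exact add_mem (h _ fun x => gval_secOf 𝒜 ℳ hidx z _ x) (h' _ fun x => gval_secOf 𝒜 ℳ hidx z' _ x)
  | neg z hz h =>
    have h0 : t = -secOf 𝒜 ℳ hidx z (hcl z hz) := gext 𝒜 ℳ fun x => by
      rw [ht x, gval_neg, gval_secOf]
      exact (LocalizedModule.mkLinearMap _ M).map_neg z
    rw [h0]
    exact neg_mem (h _ fun x => gval_secOf 𝒜 ℳ hidx z _ x)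

/-- The two bounds combined. -/
theorem exists_common_bound [IsNoetherianRing A]
    (hgen : (HomogeneousIdeal.irrelevant 𝒜).toIdeal = Ideal.span (𝒜 1 : Set A))
    (hTF : ∃ k : ℕ, (Submodule.span A (⋃ i ∈ Set.Ici k, (ℳ i : Set M))).FG) :
    ∃ K : ℕ, (∀ i, K ≤ i →
        (∀ m ∈ ℳ i, al 𝒜 m = 0 → m = 0) ∧ (∀ v ∈ Nset 𝒜 ℳ i, ∃ m ∈ ℳ i, al 𝒜 m = v)) ∧
      (∀ e : ℕ, ∀ m ∈ ℳ (K + e),
        m ∈ AddSubgroup.closure {z : M | ∃ a ∈ 𝒜 e, ∃ m' ∈ ℳ K, z = a • m'}) := by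
  obtain ⟨n₀, hn₀⟩ := exists_bound 𝒜 ℳ hTF
  obtain ⟨k₁, hk₁⟩ := exists_bound_gen 𝒜 ℳ hgen hTF
  exact ⟨max n₀ k₁, fun i hi => hn₀ i (le_trans (le_max_left _ _) hi), hk₁ _ (le_max_right _ _)⟩

/-- One degree of **S5751**. -/
theorem iSup_range_smulSect_eq_top_aux {K : ℕ}
    (h1 : ∀ i, K ≤ i →
        (∀ m ∈ ℳ i, al 𝒜 m = 0 → m = 0) ∧ (∀ v ∈ Nset 𝒜 ℳ i, ∃ m ∈ ℳ i, al 𝒜 m = v))
    (h2 : ∀ e : ℕ, ∀ m ∈ ℳ (K + e),
        m ∈ AddSubgroup.closure {z : M | ∃ a ∈ 𝒜 e, ∃ m' ∈ ℳ K, z = a • m'}) (e : ℕ) :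
    (⨆ a : 𝒜 e, (GrMod.smulSect 𝒜 ℳ a (K : ℤ)
        (op (⊤ : Opens (ProjectiveSpectrum.top 𝒜)))).range) = ⊤ := by
  rw [eq_top_iff]
  intro t _
  have hidx : (K : ℤ) + (e : ℕ) = ((K + e : ℕ) : ℤ) := by push_cast; rfl
  obtain ⟨m, hm, hmv⟩ := exists_eq_mk_of_bound 𝒜 ℳ h1 (i := K + e) (by omega) hidx t
  exact mem_iSup_range_of_mem_closure 𝒜 ℳ K e m (h2 e m hm) t hmv

/-- **S5751**. -/
theorem iSup_range_smulSect_eq_top [IsNoetherianRing A]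
    (hgen : (HomogeneousIdeal.irrelevant 𝒜).toIdeal = Ideal.span (𝒜 1 : Set A))
    (hTF : ∃ k : ℕ, (Submodule.span A (⋃ i ∈ Set.Ici k, (ℳ i : Set M))).FG) :
    ∃ k : ℕ, ∀ e : ℕ,
      (⨆ a : 𝒜 e, (GrMod.smulSect 𝒜 ℳ a (k : ℤ)
        (op (⊤ : Opens (ProjectiveSpectrum.top 𝒜)))).range) = ⊤ := by
  obtain ⟨K, h1, h2⟩ := exists_common_bound 𝒜 ℳ hgen hTF
  exact ⟨K, fun e => iSup_range_smulSect_eq_top_aux 𝒜 ℳ h1 h2 e⟩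

end Groth.Agent.Lib.SerreAlpha76

end
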