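import Groth.Agent.Lib.H1Lift13
import Groth.Agent.Lib.QCohKernel13
import Groth.Agent.Lib.StructureModule
import Groth.Agent.Lib.FreeModSch
import Mathlib.AlgebraicGeometry.Morphisms.ClosedImmersion
import Mathlib.AlgebraicGeometry.Morphisms.Affine

/-!
# Serre's criterion for affineness
-/

set_option autoImplicit false
universe u

open CategoryTheory CategoryTheory.Limits AlgebraicGeometry TopologicalSpace Opposite
open AlgebraicGeometry.Scheme AlgebraicGeometry.Scheme.Modules

namespace Groth.Agent.Lib.SerreCrit13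

open Groth.Agent.Lib.QCohStalk Groth.Agent.Lib.H90OXModQcqs Groth.Agent.Lib.StructureModule
  Groth.Agent.Lib.FreeModSch

variable {X : Scheme.{u}}

/-- `H¹` vanishes for all quasi-coherent ideal sheaves. -/
def IdealVanishing (X : Scheme.{u}) : Prop :=
  ∀ (I : X.Modules) (i : I ⟶ Coh.structureModule X), Mono i →
      Coh.IsQCoh I → Subsingleton (Coh.HH X I 1)

/-- The map `O_X ⟶ M` attached to a global section, on sections. -/
theorem ofSection_app (M : X.Modules) (u : Γ(M, ⊤)) (V : X.Opens) (a : Γ(X, V)) :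
    (ofSection M u).app V (toSec V a) = a • res M le_top u := by
  have h1 : (ofSection M u).app V (toSec V 1) = res M le_top u := by
    have h2 : toSec V (1 : Γ(X, V)) = res (Coh.structureModule X) (le_top : V ≤ ⊤) (toSec ⊤ 1) := by
      change (1 : Γ(X, V)) = X.presheaf.map (homOfLE le_top).op (1 : Γ(X, ⊤))
      rw [map_one]
    rw [h2, Groth.Agent.Lib.H1Lift13.app_res]
    congr 1
    exact toSection_ofSection M u
  rw [toSec_eq_smul_one, Hom.app_smul, h1]

/-- KEY LEMMA: if `H¹` vanishes for quasi-coherent ideals, `N` is quasi-coherent and the global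
section `t` of `N` is locally a multiple of the global section `u`, then `t = a • u` for a global
function `a`. -/
theorem exists_smul_eq_of_locally (hX : IdealVanishing X) (N : X.Modules) [N.IsQuasicoherent]
    (u t : Γ(N, ⊤))
    (ht : ∀ x : X, ∃ V : X.Opens, x ∈ V ∧ ∃ c : Γ(X, V),
      c • res N (le_top : V ≤ ⊤) u = res N (le_top : V ≤ ⊤) t) :
    ∃ a : Γ(X, ⊤), a • u = t := by
  let ψ : Coh.structureModule X ⟶ N := ofSection N u
  haveI := isQuasicoherent_structureModule X
  have hK : Subsingleton (Coh.HH X (kernel ψ) 1) :=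
    hX (kernel ψ) (kernel.ι ψ) inferInstance
      (Groth.Agent.Lib.QCohKernel13.isQuasicoherent_kernel ψ)
  obtain ⟨s, hs⟩ := Groth.Agent.Lib.H1Lift13.exists_app_eq_of_locally ψ hK t (by
    intro x
    obtain ⟨V, hxV, c, hc⟩ := ht x
    exact ⟨V, hxV, toSec V c, by rw [ofSection_app, hc]⟩)
  refine ⟨s, ?_⟩
  have := ofSection_app N u ⊤ s
  rw [res_self] at this
  rw [← this]
  exact hs

/-- The lifting property that follows from the vanishing of `H¹` of quasi-coherent ideals and is
inherited by closed subschemes: for a closed subscheme `T` of `X` and global functions `u`, `t`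
on `T` such that `t` is locally a multiple of `u`, there is a global function `a` on `X` with
`t = a|_T * u`. -/
def HasLift (X : Scheme.{u}) : Prop :=
  ∀ {T : Scheme.{u}} (i : T ⟶ X) [IsClosedImmersion i] (u t : Γ(T, ⊤)),
    (∀ y : T, ∃ V : T.Opens, y ∈ V ∧ ∃ c : Γ(T, V),
      c * T.presheaf.map (homOfLE (le_top : V ≤ ⊤)).op u =
        T.presheaf.map (homOfLE (le_top : V ≤ ⊤)).op t) →
    ∃ a : Γ(X, ⊤), i.appTop a * u = t

theorem hasLift_of_idealVanishing (hX : IdealVanishing X) : HasLift X := by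
  intro T i _ u t ht
  let N : X.Modules := (Scheme.Modules.pushforward i).obj (Coh.structureModule T)
  have := isQuasicoherent_structureModule T
  have hN : N.IsQuasicoherent :=
    Groth.Agent.Lib.H90OXModPush.isQuasicoherent_pushforward i (Coh.structureModule T)
  obtain ⟨a, ha⟩ := exists_smul_eq_of_locally hX N (show Γ(N, ⊤) from u) (show Γ(N, ⊤) from t) (by
    intro x
    by_cases hx : x ∈ Set.range i
    · obtain ⟨y, rfl⟩ := hx
      obtain ⟨VT, hy, cT, hc⟩ := ht y
      obtain ⟨W', hW', hW'V⟩ := i.isEmbedding.isOpen_iff.mp VT.2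
      have hyW' : i y ∈ (⟨W', hW'⟩ : X.Opens) := by
        change y ∈ i ⁻¹' W'
        rw [hW'V]; exact hy
      obtain ⟨W, hW, hxW, hWW'⟩ := Opens.isBasis_iff_nbhd.1 X.isBasis_affineOpens hyW'
      have hle : i ⁻¹ᵁ W ≤ VT := by
        intro z hz
        have : z ∈ i ⁻¹' W' := hWW' hz
        rw [hW'V] at this
        exact this
      obtain ⟨c, hc'⟩ := i.app_surjective W hW (T.presheaf.map (homOfLE hle).op cT)
      refine ⟨W, hxW, c, ?_⟩
      change i.app W c * T.presheaf.map (homOfLE (le_top : i ⁻¹ᵁ W ≤ ⊤)).op u =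
        T.presheaf.map (homOfLE (le_top : i ⁻¹ᵁ W ≤ ⊤)).op t
      have h1 := congrArg (T.presheaf.map (homOfLE hle).op) hc
      rw [map_mul, ← ConcreteCategory.comp_apply, ← ConcreteCategory.comp_apply,
        ← Functor.map_comp] at h1
      rw [hc']
      exact h1
    · have hcl : IsClosed (Set.range i) := i.isClosedEmbedding.isClosed_range
      refine ⟨⟨(Set.range i)ᶜ, hcl.isOpen_compl⟩, hx, 0, ?_⟩
      have hbot : i ⁻¹ᵁ (⟨(Set.range i)ᶜ, hcl.isOpen_compl⟩ : X.Opens) = ⊥ := by
        ext z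
        simp
      have hsub : Subsingleton Γ(T, i ⁻¹ᵁ (⟨(Set.range i)ᶜ, hcl.isOpen_compl⟩ : X.Opens)) := by
        rw [hbot]; infer_instance
      exact @Subsingleton.elim _ hsub _ _)
  exact ⟨a, ha⟩

/-- `HasLift` is inherited by closed subschemes. -/
theorem HasLift.of_isClosedImmersion (hX : HasLift X) {T : Scheme.{u}} (i : T ⟶ X)
    [IsClosedImmersion i] : HasLift T := by
  intro T' j _ u t ht
  obtain ⟨a, ha⟩ := hX (j ≫ i) u t ht
  refine ⟨i.appTop a, ?_⟩
  rw [← ha, Scheme.Hom.comp_appTop]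
  rfl

/-- Under `HasLift`, global functions on closed subschemes extend. -/
theorem HasLift.appTop_surjective (hX : HasLift X) {T : Scheme.{u}} (i : T ⟶ X)
    [IsClosedImmersion i] : Function.Surjective i.appTop := by
  intro b
  obtain ⟨a, ha⟩ := hX i 1 b (fun y => ⟨⊤, trivial, T.presheaf.map (homOfLE le_top).op b, by
    rw [map_one, mul_one]⟩)
  exact ⟨a, by rw [← ha, mul_one]⟩

/-- Under `HasLift`, a global function which is locally a multiple of `f` is a multiple of `f`. -/
theorem HasLift.exists_mul_eq (hX : HasLift X) (f s : Γ(X, ⊤))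
    (hs : ∀ x : X, ∃ V : X.Opens, x ∈ V ∧ ∃ c : Γ(X, V),
      c * X.presheaf.map (homOfLE (le_top : V ≤ ⊤)).op f =
        X.presheaf.map (homOfLE (le_top : V ≤ ⊤)).op s) :
    ∃ a : Γ(X, ⊤), a * f = s := by
  obtain ⟨a, ha⟩ := hX (𝟙 X) f s hs
  exact ⟨a, by simpa using ha⟩

/-- A global function vanishing on the closed subscheme `V(f)` is locally a multiple of `f`. -/
theorem locally_mul_of_appTop_eq_zero (f s : Γ(X, ⊤))
    (hs : (IdealSheafData.ofIdealTop (Ideal.span {f})).subschemeι.appTop s = 0) (x : X) :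
    ∃ V : X.Opens, x ∈ V ∧ ∃ c : Γ(X, V),
      c * X.presheaf.map (homOfLE (le_top : V ≤ ⊤)).op f =
        X.presheaf.map (homOfLE (le_top : V ≤ ⊤)).op s := by
  obtain ⟨U, hU, hxU, -⟩ := Opens.isBasis_iff_nbhd.1 X.isBasis_affineOpens
    (show x ∈ (⊤ : X.Opens) from trivial)
  refine ⟨U, hxU, ?_⟩
  have hker := (IdealSheafData.ofIdealTop (Ideal.span {f})).ker_subschemeι_app ⟨U, hU⟩
  have hmem : X.presheaf.map (homOfLE (le_top : U ≤ ⊤)).op s ∈
      RingHom.ker ((IdealSheafData.ofIdealTop (Ideal.span {f})).subschemeι.app U).hom := by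
    rw [RingHom.mem_ker]
    have hnat := congr($((IdealSheafData.ofIdealTop (Ideal.span {f})).subschemeι.naturality
      (homOfLE (le_top : U ≤ ⊤)).op) s)
    simp only [CommRingCat.comp_apply] at hnat
    rw [hnat]
    change _ = 0
    have : ((IdealSheafData.ofIdealTop (Ideal.span {f})).subschemeι.app ⊤) s = 0 := hs
    rw [this, map_zero]
  rw [hker, IdealSheafData.ofIdealTop_ideal, Ideal.map_span, Set.image_singleton,
    Ideal.mem_span_singleton'] at hmem
  exact hmem

/-- Points of the closed subscheme `V(f)` do not lie in the basic open of `f`. -/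
theorem subschemeι_notMem_basicOpen (f : Γ(X, ⊤))
    (y : (IdealSheafData.ofIdealTop (Ideal.span {f})).subscheme) :
    (IdealSheafData.ofIdealTop (Ideal.span {f})).subschemeι y ∉ X.basicOpen f := by
  have h1 : (IdealSheafData.ofIdealTop (Ideal.span {f})).subschemeι y ∈
      Set.range (IdealSheafData.ofIdealTop (Ideal.span {f})).subschemeι := ⟨y, rfl⟩
  rw [IdealSheafData.range_subschemeι, IdealSheafData.coe_support_ofIdealTop,
    Scheme.mem_zeroLocus_iff] at h1
  exact h1 f (Ideal.subset_span rfl)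

/-- STEP C: under `HasLift`, global functions whose basic opens cover `X` generate the unit
ideal. -/
theorem span_eq_top_of_iSup_basicOpen : ∀ (n : ℕ) {X : Scheme.{u}} (_ : HasLift X)
    (f : Fin n → Γ(X, ⊤)) (_ : ⨆ i, X.basicOpen (f i) = ⊤), Ideal.span (Set.range f) = ⊤ := by
  intro n
  induction n with
  | zero =>
    intro X _ f hf
    have hbot : (⊥ : X.Opens) = ⊤ := by rw [← hf]; simp
    have hsub : Subsingleton Γ(X, ⊤) := by rw [← hbot]; infer_instance
    rw [Ideal.eq_top_iff_one]
    rw [Subsingleton.elim (1 : Γ(X, ⊤)) 0]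
    exact Ideal.zero_mem _
  | succ n ih =>
    intro X hX f hf
    let I := IdealSheafData.ofIdealTop (Ideal.span {f 0})
    let T := I.subscheme
    let i : T ⟶ X := I.subschemeι
    have hT : HasLift T := hX.of_isClosedImmersion i
    let g : Fin n → Γ(T, ⊤) := fun j => i.appTop (f j.succ)
    have hg : ⨆ j, T.basicOpen (g j) = ⊤ := by
      rw [eq_top_iff]
      intro y _
      have hy : i y ∈ ⨆ k, X.basicOpen (f k) := by rw [hf]; trivial
      obtain ⟨k, hk⟩ := Opens.mem_iSup.mp hy
      have hk0 : k ≠ 0 := by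
        rintro rfl
        exact subschemeι_notMem_basicOpen (f 0) y hk
      obtain ⟨j, rfl⟩ := Fin.exists_succ_eq.mpr hk0
      refine Opens.mem_iSup.mpr ⟨j, ?_⟩
      change y ∈ T.basicOpen (i.app ⊤ (f j.succ))
      rw [← Scheme.preimage_basicOpen]
      exact hk
    have h1 := ih hT g hg
    rw [Ideal.eq_top_iff_one, Ideal.mem_span_range_iff_exists_fun] at h1
    obtain ⟨b, hb⟩ := h1
    choose a ha using fun j => hX.appTop_surjective i (b j)
    let s : Γ(X, ⊤) := 1 - ∑ j, a j * f j.succ
    have hs : i.appTop s = 0 := by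
      change i.appTop.hom (1 - ∑ j, a j * f j.succ) = 0
      rw [map_sub, map_one, map_sum, ← hb, sub_eq_zero]
      refine Finset.sum_congr rfl fun j _ => ?_
      rw [map_mul]
      exact congrArg (· * _) (ha j).symm
    obtain ⟨c, hc⟩ := hX.exists_mul_eq (f 0) s (locally_mul_of_appTop_eq_zero (f 0) s hs)
    rw [Ideal.eq_top_iff_one]
    have h1 : (1 : Γ(X, ⊤)) = c * f 0 + ∑ j, a j * f j.succ := by
      rw [hc]; simp [s]
    rw [h1]
    refine Ideal.add_mem _ (Ideal.mul_mem_left _ _ (Ideal.subset_span ⟨0, rfl⟩))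
      (Ideal.sum_mem _ fun j _ => Ideal.mul_mem_left _ _ (Ideal.subset_span ⟨j.succ, rfl⟩))

/-- STEP A: under `HasLift`, every closed point has an affine neighbourhood of the form `X_f`
for a global function `f`. -/
theorem exists_isAffineOpen_basicOpen (hX : HasLift X) (x : X) (hx : IsClosed ({x} : Set X)) :
    ∃ f : Γ(X, ⊤), x ∈ X.basicOpen f ∧ IsAffineOpen (X.basicOpen f) := by
  obtain ⟨U, hU, hxU, -⟩ := Opens.isBasis_iff_nbhd.1 X.isBasis_affineOpens
    (show x ∈ (⊤ : X.Opens) from trivial)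
  -- the closed set `Z' = (X ∖ U) ∪ {x}` with its reduced structure
  let Z' : Closeds X := ⟨(U : Set X)ᶜ ∪ {x}, (U.2.isClosed_compl).union hx⟩
  let I := IdealSheafData.vanishingIdeal Z'
  let T := I.subscheme
  let i : T ⟶ X := I.subschemeι
  have hrange : Set.range i = (U : Set X)ᶜ ∪ {x} := by
    rw [IdealSheafData.range_subschemeι, IdealSheafData.coe_support_vanishingIdeal]
    rfl
  have hmem : ∀ y : T, i y ∉ U ∨ i y = x := by
    intro y
    have : i y ∈ Set.range i := ⟨y, rfl⟩
    rw [hrange] at this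
    exact this
  let W : Bool → T.Opens := fun b =>
    if b then i ⁻¹ᵁ U else i ⁻¹ᵁ ⟨({x} : Set X)ᶜ, hx.isOpen_compl⟩
  have hW1 : W true = i ⁻¹ᵁ U := rfl
  have hW2 : W false = i ⁻¹ᵁ ⟨({x} : Set X)ᶜ, hx.isOpen_compl⟩ := rfl
  have hcov : (⊤ : T.Opens) ≤ ⨆ b, W b := by
    intro y _
    rcases hmem y with h | h
    · refine Opens.mem_iSup.mpr ⟨false, ?_⟩
      rw [hW2]
      change i y ∈ ({x} : Set X)ᶜ
      intro h'
      exact h (by rw [Set.mem_singleton_iff.mp h']; exact hxU)
    · refine Opens.mem_iSup.mpr ⟨true, ?_⟩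
      rw [hW1]
      change i y ∈ U
      rw [h]; exact hxU
  have hdisj : W true ⊓ W false = ⊥ := by
    rw [hW1, hW2]
    ext y
    simp only [Opens.coe_inf, Set.mem_inter_iff, SetLike.mem_coe, Opens.coe_bot,
      Set.mem_empty_iff_false, iff_false, not_and]
    intro h1 h2
    rcases hmem y with h | h
    · exact h h1
    · exact h2 h
  -- the idempotent `e`
  have hsubs : ∀ (V : T.Opens), V = ⊥ → ∀ a b : Γ(Coh.structureModule T, V), a = b := by
    rintro _ rfl a b
    exact Subsingleton.elim (α := Γ(T, ⊥)) a b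
  let sf : ∀ b, Γ(Coh.structureModule T, W b) := fun b => if b then toSec _ 1 else toSec _ 0
  obtain ⟨e, he⟩ := exists_glue (Coh.structureModule T) ⊤ W (fun _ => le_top) hcov sf (by
    intro b b'
    by_cases hbb : b = b'
    · subst hbb; rfl
    · have hbot : W b ⊓ W b' = ⊥ := by
        cases b <;> cases b'
        · exact absurd rfl hbb
        · rw [inf_comm]; exact hdisj
        · exact hdisj
        · exact absurd rfl hbb
      exact hsubs _ hbot _ _)
  have he1 : T.presheaf.map (homOfLE (le_top : W true ≤ ⊤)).op (show Γ(T, ⊤) from e) = 1 :=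
    he true
  have he2 : T.presheaf.map (homOfLE (le_top : W false ≤ ⊤)).op (show Γ(T, ⊤) from e) = 0 :=
    he false
  obtain ⟨f, hf⟩ := hX.appTop_surjective i (show Γ(T, ⊤) from e)
  have hpre : i ⁻¹ᵁ X.basicOpen f = T.basicOpen (show Γ(T, ⊤) from e) := by
    rw [Scheme.preimage_basicOpen]
    exact congrArg T.basicOpen hf
  have hb1 : W true ≤ T.basicOpen (show Γ(T, ⊤) from e) := by
    have := T.basicOpen_res (show Γ(T, ⊤) from e) (homOfLE (le_top : W true ≤ ⊤)).op
    rw [he1, T.basicOpen_of_isUnit isUnit_one] at this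
    rw [this]
    exact inf_le_right
  have hb2 : W false ⊓ T.basicOpen (show Γ(T, ⊤) from e) = ⊥ := by
    have := T.basicOpen_res (show Γ(T, ⊤) from e) (homOfLE (le_top : W false ≤ ⊤)).op
    rw [he2, Scheme.basicOpen_zero] at this
    exact this.symm
  have hxf : x ∈ X.basicOpen f := by
    have hxr : x ∈ Set.range i := by rw [hrange]; exact Or.inr rfl
    obtain ⟨y, hyx⟩ := hxr
    have hy : y ∈ W true := by
      change i y ∈ U
      rw [hyx]; exact hxU
    have : y ∈ i ⁻¹ᵁ X.basicOpen f := by rw [hpre]; exact hb1 hy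
    rw [← hyx]
    exact this
  have hfU : X.basicOpen f ≤ U := by
    intro z hz
    by_contra hzU
    have hzr : z ∈ Set.range i := by rw [hrange]; exact Or.inl hzU
    obtain ⟨y, rfl⟩ := hzr
    have hy2 : y ∈ W false := by
      change i y ∈ ({x} : Set X)ᶜ
      intro h'
      exact hzU (by rw [Set.mem_singleton_iff.mp h']; exact hxU)
    have hy : y ∈ T.basicOpen (show Γ(T, ⊤) from e) := by rw [← hpre]; exact hz
    have : y ∈ W false ⊓ T.basicOpen (show Γ(T, ⊤) from e) := ⟨hy2, hy⟩
    rw [hb2] at this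
    exact this
  refine ⟨f, hxf, ?_⟩
  have := hU.basicOpen (X.presheaf.map (homOfLE (le_top : U ≤ ⊤)).op f)
  rw [X.basicOpen_res, inf_eq_right.mpr hfU] at this
  exact this

/-- STEP B + conclusion: a quasi-compact scheme with `HasLift` is affine. -/
theorem isAffine_of_hasLift [CompactSpace X] (hX : HasLift X) : IsAffine X := by
  let S : Set Γ(X, ⊤) := {f | IsAffineOpen (X.basicOpen f)}
  -- the basic opens `X_f`, `f ∈ S`, cover `X`
  have hcov : (⋃ f : S, (X.basicOpen f.1 : Set X)) = Set.univ := by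
    by_contra hne
    have hcl : IsClosed (⋃ f : S, (X.basicOpen f.1 : Set X))ᶜ :=
      (isOpen_iUnion fun f : S => (X.basicOpen f.1).2).isClosed_compl
    have hnonempty : ((⋃ f : S, (X.basicOpen f.1 : Set X))ᶜ).Nonempty := by
      rw [Set.nonempty_compl]; exact hne
    obtain ⟨x, hxmem, hx⟩ := hcl.exists_closed_singleton hnonempty
    obtain ⟨f, hxf, hf⟩ := exists_isAffineOpen_basicOpen hX x hx
    exact hxmem (Set.mem_iUnion.mpr ⟨⟨f, hf⟩, hxf⟩)
  obtain ⟨t, ht⟩ := isCompact_univ.elim_finite_subcover (fun f : S => (X.basicOpen f.1 : Set X))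
    (fun f => (X.basicOpen f.1).2) hcov.ge
  -- index by `Fin n`
  let e := t.equivFin
  let g : Fin t.card → Γ(X, ⊤) := fun k => (e.symm k).1.1
  have hg : ⨆ k, X.basicOpen (g k) = ⊤ := by
    rw [eq_top_iff]
    intro x _
    obtain ⟨f, hf⟩ := Set.mem_iUnion.mp (ht (Set.mem_univ x))
    obtain ⟨hft, hxf⟩ := Set.mem_iUnion.mp hf
    refine Opens.mem_iSup.mpr ⟨e ⟨f, hft⟩, ?_⟩
    change x ∈ X.basicOpen ((e.symm (e ⟨f, hft⟩)).1.1)
    rw [Equiv.symm_apply_apply]
    exact hxf
  have hspan := span_eq_top_of_iSup_basicOpen t.card hX g hg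
  refine isAffine_of_isAffineOpen_basicOpen (Set.range g) hspan ?_
  rintro _ ⟨k, rfl⟩
  exact (e.symm k).1.2

/-- **Serre's criterion**: a quasi-compact scheme on which `H¹` of every quasi-coherent ideal
sheaf vanishes is affine. -/
theorem isAffine_of_idealVanishing [CompactSpace X] (hX : IdealVanishing X) : IsAffine X :=
  isAffine_of_hasLift (hasLift_of_idealVanishing hX)

end Groth.Agent.Lib.SerreCrit13
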