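import Mathlib.CategoryTheory.Abelian.SerreClass.Basic
import Mathlib.Algebra.Homology.HomologySequence
import Mathlib.Algebra.Homology.HomologicalComplexAbelian
import Mathlib.Algebra.Homology.QuasiIso

/-!
# Serre classes of "torsion" objects and largest torsion subobjects (helper11)

`quasiIso_of_largest`: abstract form of "`Γ_tors(I) ⟶ I` is a quasi-isomorphism for a complex `I` of
injectives with torsion cohomology".
-/

set_option autoImplicit false
universe v u
open CategoryTheory CategoryTheory.Limits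

namespace Groth.Agent.Lib.SerreDiv11

variable {𝒜 : Type u} [Category.{v} 𝒜] [Abelian 𝒜] (T : ObjectProperty 𝒜) [T.IsSerreClass]

/-- "torsion" hypotheses on a Serre class -/
structure TorsHyp : Prop where
  zero_of_mono : ∀ Y, T Y → (∀ n : ℕ, 0 < n → Mono (n • 𝟙 Y)) → IsZero Y
  tors_of_killed : ∀ Y (n : ℕ), 0 < n → n • 𝟙 Y = 0 → T Y

variable {T}

/-- if `S.X₁` is the largest `T`-subobject of `S.X₂`, then `n • 𝟙` is mono on the quotient -/
lemma mono_nsmul_X₃ (H : TorsHyp T) (S : ShortComplex 𝒜) (hS : S.ShortExact) (h₁ : T S.X₁)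
    (hfac : ∀ (P : 𝒜), T P → ∀ g : P ⟶ S.X₂, ∃ l : P ⟶ S.X₁, l ≫ S.f = g)
    (n : ℕ) (hn : 0 < n) : Mono (n • 𝟙 S.X₃) := by
  have := hS.mono_f
  have := hS.epi_g
  apply Preadditive.mono_of_kernel_zero
  let z := kernel.ι (n • 𝟙 S.X₃)
  have hz : z ≫ (n • 𝟙 S.X₃) = 0 := kernel.condition _
  -- pull back along the epi `S.g`
  let P := pullback S.g z
  let p1 : P ⟶ S.X₂ := pullback.fst S.g z
  let p2 : P ⟶ _ := pullback.snd S.g z
  have hp : p1 ≫ S.g = p2 ≫ z := pullback.condition
  have : Epi p2 := inferInstance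
  have : Mono p1 := inferInstance
  -- `n • p1` factors through `S.f`
  have h0 : (n • p1) ≫ S.g = 0 := by
    rw [Preadditive.nsmul_comp, hp, ← Preadditive.comp_nsmul]
    have : n • z = z ≫ (n • 𝟙 S.X₃) := by rw [Preadditive.comp_nsmul, Category.comp_id]
    rw [this, hz, comp_zero]
  obtain ⟨q, hq⟩ : ∃ q : P ⟶ S.X₁, q ≫ S.f = n • p1 := ⟨hS.exact.lift _ h0, hS.exact.lift_f _ h0⟩
  -- the kernel of `q` is killed by `n`
  have hk : T (kernel q) := by
    apply H.tors_of_killed _ n hn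
    rw [← cancel_mono (kernel.ι q ≫ p1), zero_comp, Preadditive.nsmul_comp, Category.id_comp,
      ← Preadditive.comp_nsmul, ← hq, ← Category.assoc (kernel.ι q),
      kernel.condition, zero_comp]
  have hP : T P := by
    have ex : (ShortComplex.mk (kernel.ι q) q (kernel.condition q)).Exact :=
      ShortComplex.exact_kernel q
    exact T.prop_X₂_of_exact ex hk h₁
  obtain ⟨l, hl⟩ := hfac P hP p1
  have h1 : p2 ≫ z = 0 := by rw [← hp, ← hl, Category.assoc, S.zero, comp_zero]
  rw [← cancel_epi p2, h1, comp_zero]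

lemma epi_nsmul_X₃ (S : ShortComplex 𝒜) (hS : S.ShortExact) (n : ℕ) (h : Epi (n • 𝟙 S.X₂)) :
    Epi (n • 𝟙 S.X₃) := by
  have := hS.epi_g
  have e : S.g ≫ (n • 𝟙 S.X₃) = (n • 𝟙 S.X₂) ≫ S.g := by
    rw [Preadditive.comp_nsmul, Preadditive.nsmul_comp, Category.comp_id, Category.id_comp]
  have : Epi (S.g ≫ (n • 𝟙 S.X₃)) := by rw [e]; infer_instance
  exact epi_of_epi S.g _

/-- a degreewise "largest `T`-subobject" subcomplex of a complex with divisible terms and
`T`-cohomology is quasi-isomorphic to it as soon as it has `T`-cohomology -/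
theorem quasiIso_of_largest (H : TorsHyp T) {A I : CochainComplex 𝒜 ℤ} (c : A ⟶ I)
    (hmono : ∀ j, Mono (c.f j)) (hA : ∀ j, T (A.X j))
    (hfac : ∀ j (P : 𝒜), T P → ∀ g : P ⟶ I.X j, ∃ l : P ⟶ A.X j, l ≫ c.f j = g)
    (hepi : ∀ j (n : ℕ), 0 < n → Epi (n • 𝟙 (I.X j)))
    (hAh : ∀ j, T (A.homology j)) (hIh : ∀ j, T (I.homology j)) : QuasiIso c := by
  have : Mono c := HomologicalComplex.mono_of_mono_f c hmono
  let S : ShortComplex (CochainComplex 𝒜 ℤ) :=
    ShortComplex.mk c (cokernel.π c) (cokernel.condition c)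
  have hS : S.ShortExact :=
    { exact := ShortComplex.exact_cokernel c
      mono_f := this
      epi_g := inferInstanceAs (Epi (cokernel.π c)) }
  have hSj : ∀ j, (S.map (HomologicalComplex.eval 𝒜 _ j)).ShortExact :=
    (HomologicalComplex.shortExact_iff_degreewise_shortExact S).1 hS
  have iso_f : ∀ (n : ℕ), 0 < n → ∀ j, IsIso (n • 𝟙 (S.X₃.X j)) := by
    intro n hn j
    have h1 : Mono (n • 𝟙 (S.X₃.X j)) := mono_nsmul_X₃ H _ (hSj j) (hA j) (hfac j) n hn
    have h2 : Epi (n • 𝟙 (S.X₃.X j)) := epi_nsmul_X₃ _ (hSj j) n (hepi j n hn)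
    exact isIso_of_mono_of_epi _
  have iso_h : ∀ (n : ℕ), 0 < n → ∀ j, IsIso (n • 𝟙 (S.X₃.homology j)) := by
    intro n hn j
    have : IsIso (n • 𝟙 S.X₃) := by
      have : ∀ j, IsIso ((n • 𝟙 S.X₃ : S.X₃ ⟶ S.X₃).f j) := by
        intro j
        rw [HomologicalComplex.nsmul_f_apply]
        exact iso_f n hn j
      exact HomologicalComplex.Hom.isIso_of_components _
    have e : n • 𝟙 (S.X₃.homology j) =
        (HomologicalComplex.homologyFunctor 𝒜 _ j).map (n • 𝟙 S.X₃) := by
      rw [Functor.map_nsmul, CategoryTheory.Functor.map_id]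
      rfl
    rw [e]
    exact Functor.map_isIso _ _
  have hQ : ∀ j, IsZero (S.X₃.homology j) := by
    intro j
    apply H.zero_of_mono
    · exact T.prop_X₂_of_exact (hS.homology_exact₃ j (j + 1) rfl) (hIh j) (hAh (j + 1))
    · intro n hn
      have := iso_h n hn j
      infer_instance
  rw [quasiIso_iff]
  intro j
  rw [quasiIsoAt_iff_isIso_homologyMap]
  have m : Mono (HomologicalComplex.homologyMap c j) :=
    (hS.homology_exact₁ (j - 1) j (by simp)).mono_g ((hQ (j - 1)).eq_of_src _ _)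
  have e : Epi (HomologicalComplex.homologyMap c j) :=
    (hS.homology_exact₂ j).epi_f ((hQ j).eq_of_tgt _ _)
  exact isIso_of_mono_of_epi _

end Groth.Agent.Lib.SerreDiv11
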