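import Mathlib

/-!
# Serre's lemma on surjectivity onto `GL₂(ℤ_p)`

`approx`: abstract successive approximation modulo powers of `π` for a homomorphism into
`GL₂(R)`; `surjective_iff`: a continuous homomorphism from a compact group to `GL₂(ℤ_p)` is
surjective iff it is surjective mod `p` and hits `1 + pⁿ(aE₁₁) mod pⁿ⁺¹` (`p ∤ a`) for all `n ≥ 1`.
-/

set_option autoImplicit false
open Matrix

namespace Groth.Agent.Lib.SerreGL2

variable {R : Type*} [CommRing R] {G : Type*} [Group G]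

/-- 2×2 matrices -/
abbrev M2 (R : Type*) := Matrix (Fin 2) (Fin 2) R

/-- elementary matrices -/
def E11 : M2 R := !![1, 0; 0, 0]
def E12 : M2 R := !![0, 1; 0, 0]
def E21 : M2 R := !![0, 0; 1, 0]
def E22 : M2 R := !![0, 0; 0, 1]

lemma decomp (X : M2 R) : X = X 0 0 • E11 + X 0 1 • E12 + X 1 0 • E21 + X 1 1 • E22 := by
  ext i j
  fin_cases i <;> fin_cases j <;> simp [E11, E12, E21, E22]

/-- The swap matrix as a unit. -/
def swapU : (M2 R)ˣ where
  val := !![0, 1; 1, 0]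
  inv := !![0, 1; 1, 0]
  val_inv := by ext i j; fin_cases i <;> fin_cases j <;> simp [Matrix.mul_apply, Fin.sum_univ_two]
  inv_val := by ext i j; fin_cases i <;> fin_cases j <;> simp [Matrix.mul_apply, Fin.sum_univ_two]

def upU : (M2 R)ˣ where
  val := !![1, 1; 0, 1]
  inv := !![1, -1; 0, 1]
  val_inv := by ext i j; fin_cases i <;> fin_cases j <;> simp [Matrix.mul_apply, Fin.sum_univ_two]
  inv_val := by ext i j; fin_cases i <;> fin_cases j <;> simp [Matrix.mul_apply, Fin.sum_univ_two]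

def loU : (M2 R)ˣ where
  val := !![1, 0; 1, 1]
  inv := !![1, 0; -1, 1]
  val_inv := by ext i j; fin_cases i <;> fin_cases j <;> simp [Matrix.mul_apply, Fin.sum_univ_two]
  inv_val := by ext i j; fin_cases i <;> fin_cases j <;> simp [Matrix.mul_apply, Fin.sum_univ_two]

lemma swap_conj (x : R) :
    (swapU : (M2 R)ˣ).val * (x • E11) * (swapU : (M2 R)ˣ).inv = x • E22 := by
  ext i j; fin_cases i <;> fin_cases j <;>
    simp [swapU, E11, E22, Matrix.mul_apply, Fin.sum_univ_two]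

lemma up_conj (x : R) :
    (upU : (M2 R)ˣ).val * (x • E11) * (upU : (M2 R)ˣ).inv = x • E11 + (-x) • E12 := by
  ext i j; fin_cases i <;> fin_cases j <;>
    simp [upU, E11, E12, Matrix.mul_apply, Fin.sum_univ_two]

lemma lo_conj (x : R) :
    (loU : (M2 R)ˣ).val * (x • E11) * (loU : (M2 R)ˣ).inv = x • E11 + x • E21 := by
  ext i j; fin_cases i <;> fin_cases j <;>
    simp [loU, E11, E21, Matrix.mul_apply, Fin.sum_univ_two]

variable (π : R) (ϕ : G →* (M2 R)ˣ)

/-- `S n X`: some `ϕ h` is `1 + π^n X` modulo `π^(n+1)`. -/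
def S (n : ℕ) (X : M2 R) : Prop :=
  ∃ (h : G) (Y : M2 R), ((ϕ h : (M2 R)ˣ) : M2 R) = 1 + π ^ n • X + π ^ (n + 1) • Y

variable {π ϕ}

lemma S_zero (n : ℕ) : S π ϕ n 0 := ⟨1, 0, by simp⟩

lemma S_add {n : ℕ} (hn : 1 ≤ n) {X X' : M2 R} (h : S π ϕ n X) (h' : S π ϕ n X') :
    S π ϕ n (X + X') := by
  obtain ⟨k, rfl⟩ := Nat.exists_eq_add_of_le' hn
  obtain ⟨g, Y, e⟩ := h
  obtain ⟨g', Y', e'⟩ := h'
  refine ⟨g * g', Y + Y' + π ^ k • (X * X') + π ^ (k + 1) • (X * Y' + Y * X') +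
    π ^ (k + 2) • (Y * Y'), ?_⟩
  rw [map_mul, Units.val_mul, e, e']
  simp only [mul_add, add_mul, mul_one, one_mul, smul_mul_assoc, mul_smul_comm, smul_smul,
    smul_add]
  module

lemma S_shift {n : ℕ} {X : M2 R} (Z : M2 R) (h : S π ϕ n X) : S π ϕ n (X + π • Z) := by
  obtain ⟨g, Y, e⟩ := h
  refine ⟨g, Y - Z, ?_⟩
  rw [e, pow_succ]
  module

lemma S_conj_map {n : ℕ} {X : M2 R} (g : G) (h : S π ϕ n X) :
    S π ϕ n ((ϕ g).val * X * (ϕ g).inv) := by
  obtain ⟨g', Y, e⟩ := h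
  refine ⟨g * g' * g⁻¹, (ϕ g).val * Y * (ϕ g).inv, ?_⟩
  rw [map_mul, map_mul, map_inv, Units.val_mul, Units.val_mul, e]
  have h1 : (ϕ g).val * (ϕ g).inv = 1 := (ϕ g).val_inv
  have h2 : ((ϕ g)⁻¹ : (M2 R)ˣ).val = (ϕ g).inv := rfl
  rw [h2]
  simp only [mul_add, add_mul, mul_one, smul_mul_assoc, mul_smul_comm, h1]

/-- Conjugation by an arbitrary invertible matrix, when `ϕ` is surjective modulo `π`. -/
lemma S_conj (H1 : ∀ P : (M2 R)ˣ, ∃ (g : G) (E : M2 R), ((ϕ g : (M2 R)ˣ) : M2 R) = P.val + π • E)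
    {n : ℕ} {X : M2 R} (P : (M2 R)ˣ) (h : S π ϕ n X) : S π ϕ n (P.val * X * P.inv) := by
  obtain ⟨g, E, hg⟩ := H1 P
  have h1 := S_conj_map g h
  set Gm := (ϕ g).val with hGm
  set Gi := (ϕ g).inv with hGi
  have hGG : Gi * Gm = 1 := (ϕ g).inv_val
  have hPP : P.val * P.inv = 1 := P.val_inv
  have hPi : P.inv = Gi + π • (Gi * E * P.inv) := by
    have : Gi * (P.val + π • E) * P.inv = P.inv := by rw [← hg, hGG, one_mul]
    rw [mul_add, add_mul, mul_assoc, hPP, mul_one, mul_smul_comm, smul_mul_assoc] at this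
    exact this.symm
  have key : P.val * X * P.inv =
      Gm * X * Gi + π • (P.val * X * (Gi * E * P.inv) - E * X * Gi) := by
    rw [hg]
    conv_lhs => rw [hPi]
    simp only [mul_add, add_mul, smul_mul_assoc, mul_smul_comm, smul_sub]
    abel
  rw [key]
  exact S_shift _ h1


section Approx

variable (H1 : ∀ P : (M2 R)ˣ, ∃ (g : G) (E : M2 R), ((ϕ g : (M2 R)ˣ) : M2 R) = P.val + π • E)
include H1

omit H1 in
lemma S_nsmul' {n : ℕ} (hn : 1 ≤ n) {X : M2 R} (h : S π ϕ n X) (m : ℕ) : S π ϕ n (m • X) := by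
  induction m with
  | zero => simpa using S_zero n
  | succ m ih => rw [succ_nsmul]; exact S_add hn ih h

lemma S_all {n : ℕ} (hn : 1 ≤ n) {a : R} (ha : ∀ x : R, ∃ (m : ℕ) (z : R), x = m * a + π * z)
    (h11 : S π ϕ n (a • E11)) (X : M2 R) : S π ϕ n X := by
  have h1 : ∀ x : R, S π ϕ n (x • E11) := by
    intro x
    obtain ⟨m, z, rfl⟩ := ha x
    have := S_shift (z • E11) (S_nsmul' hn h11 m)
    convert this using 1
    rw [add_smul, mul_smul, mul_smul, Nat.cast_smul_eq_nsmul]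
  have h22 : ∀ x : R, S π ϕ n (x • E22) := by
    intro x
    have := S_conj H1 swapU (h1 x)
    rwa [swap_conj] at this
  have h12 : ∀ x : R, S π ϕ n (x • E12) := by
    intro x
    have := S_add hn (S_conj H1 upU (h1 (-x))) (h1 x)
    rw [up_conj] at this
    convert this using 1
    rw [neg_neg, neg_smul]; abel
  have h21 : ∀ x : R, S π ϕ n (x • E21) := by
    intro x
    have := S_add hn (S_conj H1 loU (h1 x)) (h1 (-x))
    rw [lo_conj] at this
    convert this using 1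
    rw [neg_smul]; abel
  rw [decomp X]
  exact S_add hn (S_add hn (S_add hn (h1 _) (h12 _)) (h21 _)) (h22 _)

/-- **Approximation**: if `ϕ` is surjective modulo `π` and for every `n ≥ 1` hits an element
`1 + π^n (a E₁₁) mod π^(n+1)` with `a` generating `R/π` additively, then every invertible matrix
is approximated by the image of `ϕ` modulo every power of `π`. -/
theorem approx
    (H2 : ∀ n : ℕ, 1 ≤ n → ∃ (g : G) (a b c d : R),
      (∀ x : R, ∃ (m : ℕ) (z : R), x = m * a + π * z) ∧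
      ((ϕ g : (M2 R)ˣ) : M2 R) =
        !![1 + π ^ n * a, π ^ (n + 1) * b; π ^ (n + 1) * c, 1 + π ^ (n + 1) * d])
    (n : ℕ) (hn : 1 ≤ n) (T : (M2 R)ˣ) :
    ∃ (g : G) (E : M2 R), ((ϕ g : (M2 R)ˣ) : M2 R) = T.val + π ^ n • E := by
  induction n, hn using Nat.le_induction generalizing T with
  | base =>
    obtain ⟨g, E, h⟩ := H1 T
    exact ⟨g, E, by rw [h, pow_one]⟩
  | succ n hn ih =>
    obtain ⟨g₀, E, h₀⟩ := ih T
    obtain ⟨g, a, b, c, d, ha, hg⟩ := H2 n hn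
    have h11 : S π ϕ n (a • E11) := by
      refine ⟨g, !![0, b; c, d], ?_⟩
      rw [hg]
      ext i j
      fin_cases i <;> fin_cases j <;> simp [E11] 
    obtain ⟨h, Y, hh⟩ := S_all H1 hn ha h11 (-((ϕ g₀).inv * E))
    refine ⟨g₀ * h, (ϕ g₀).val * Y, ?_⟩
    rw [map_mul, Units.val_mul, hh]
    have hGG : (ϕ g₀).val * (ϕ g₀).inv = 1 := (ϕ g₀).val_inv
    simp only [mul_add, mul_one, mul_smul_comm, mul_neg, ← mul_assoc, hGG, one_mul]
    rw [h₀]
    module

end Approx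

section Padic

variable (p : ℕ) [Fact p.Prime]

/-- `GL₂(ℤ_p) → GL₂(𝔽_p)` is surjective. -/
lemma map_toZMod_surjective :
    Function.Surjective
      (Matrix.GeneralLinearGroup.map (n := Fin 2) (PadicInt.toZMod (p := p))) := by
  intro Mb
  let M : Matrix (Fin 2) (Fin 2) ℤ_[p] := Matrix.of fun i j => (((Mb i j).val : ℕ) : ℤ_[p])
  have hM : ∀ i j, PadicInt.toZMod (M i j) = Mb i j := by
    intro i j
    simp only [M, Matrix.of_apply, map_natCast, ZMod.natCast_zmod_val]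
  have hdet : IsUnit M.det := by
    have h1 : PadicInt.toZMod M.det = (Mb.val).det := by
      rw [RingHom.map_det]
      congr 1
      ext i j
      simp [hM]
    have h2 : IsUnit (Mb.val).det := (Matrix.isUnit_iff_isUnit_det _).mp Mb.isUnit
    by_contra hnu
    have h3 : M.det ∈ IsLocalRing.maximalIdeal ℤ_[p] := (IsLocalRing.mem_maximalIdeal _).mpr hnu
    rw [← PadicInt.ker_toZMod, RingHom.mem_ker, h1] at h3
    rw [h3] at h2
    exact not_isUnit_zero h2
  refine ⟨Matrix.GeneralLinearGroup.mk'' M hdet, ?_⟩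
  apply Units.ext
  ext i j
  rw [Matrix.GeneralLinearGroup.map_apply]
  exact hM i j

/-- If `p ∤ a`, multiples of `a` fill `ℤ_p / p`. -/
lemma exists_eq_nat_mul_add {a : ℤ_[p]} (ha : ¬ ((p : ℤ_[p]) ∣ a)) (x : ℤ_[p]) :
    ∃ (m : ℕ) (z : ℤ_[p]), x = m * a + (p : ℤ_[p]) * z := by
  have hau : IsUnit a := by
    by_contra hnu
    have h3 : a ∈ IsLocalRing.maximalIdeal ℤ_[p] := (IsLocalRing.mem_maximalIdeal _).mpr hnu
    rw [PadicInt.maximalIdeal_eq_span_p, Ideal.mem_span_singleton] at h3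
    exact ha h3
  obtain ⟨u, rfl⟩ := hau
  have hs := PadicInt.toZMod_spec (x * (↑u⁻¹ : ℤ_[p]))
  rw [PadicInt.maximalIdeal_eq_span_p, Ideal.mem_span_singleton] at hs
  obtain ⟨z, hz⟩ := hs
  refine ⟨(PadicInt.toZMod (x * (↑u⁻¹ : ℤ_[p]))).val, z * u, ?_⟩
  rw [ZMod.natCast_val]
  generalize (ZMod.cast (PadicInt.toZMod (x * (↑u⁻¹ : ℤ_[p]))) : ℤ_[p]) = c at hz ⊢
  have h1 : x * (↑u⁻¹ : ℤ_[p]) = c + p * z := by rw [← hz]; ring
  calc x = (x * (↑u⁻¹ : ℤ_[p])) * u := by rw [mul_assoc, Units.inv_mul, mul_one]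
    _ = (c + p * z) * u := by rw [h1]
    _ = _ := by ring


/-- **Serre's lemma** for `GL₂(ℤ_p)`. -/
theorem surjective_iff (𝔊 : Type*) [Group 𝔊] [TopologicalSpace 𝔊] [CompactSpace 𝔊]
    (ϕ : 𝔊 →* GL (Fin 2) ℤ_[p])
    (hϕ : Continuous fun g => ((ϕ g : GL (Fin 2) ℤ_[p]) : Matrix (Fin 2) (Fin 2) ℤ_[p])) :
    Function.Surjective ϕ ↔
      (Function.Surjective ((Matrix.GeneralLinearGroup.map (n := Fin 2)
          (PadicInt.toZMod (p := p))).comp ϕ) ∧
        ∀ n : ℕ, 1 ≤ n → ∃ (g : 𝔊) (a b c d : ℤ_[p]), ¬ ((p : ℤ_[p]) ∣ a) ∧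
          ((ϕ g : GL (Fin 2) ℤ_[p]) : Matrix (Fin 2) (Fin 2) ℤ_[p]) =
            !![1 + (p : ℤ_[p]) ^ n * a, (p : ℤ_[p]) ^ (n + 1) * b;
               (p : ℤ_[p]) ^ (n + 1) * c, 1 + (p : ℤ_[p]) ^ (n + 1) * d]) := by
  constructor
  · intro hsurj
    refine ⟨?_, ?_⟩
    · rw [MonoidHom.coe_comp]
      exact (map_toZMod_surjective p).comp hsurj
    · intro n hn
      let D : Matrix (Fin 2) (Fin 2) ℤ_[p] := !![1 + (p : ℤ_[p]) ^ n, 0; 0, 1]
      have hD : IsUnit D.det := by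
        have hdet : D.det = 1 + (p : ℤ_[p]) ^ n := by simp [D, Matrix.det_fin_two]
        rw [hdet]
        by_contra hnu
        have h3 : 1 + (p : ℤ_[p]) ^ n ∈ IsLocalRing.maximalIdeal ℤ_[p] :=
          (IsLocalRing.mem_maximalIdeal _).mpr hnu
        have h4 : (p : ℤ_[p]) ^ n ∈ IsLocalRing.maximalIdeal ℤ_[p] := by
          rw [PadicInt.maximalIdeal_eq_span_p, Ideal.mem_span_singleton]
          exact dvd_pow_self _ (by omega)
        have h5 : (1 : ℤ_[p]) ∈ IsLocalRing.maximalIdeal ℤ_[p] := by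
          have := (IsLocalRing.maximalIdeal ℤ_[p]).sub_mem h3 h4
          simpa using this
        exact (Ideal.ne_top_iff_one _).mp (IsLocalRing.maximalIdeal.isMaximal ℤ_[p]).ne_top h5
      obtain ⟨g, hg⟩ := hsurj (Matrix.GeneralLinearGroup.mk'' D hD)
      refine ⟨g, 1, 0, 0, 0, ?_, ?_⟩
      · exact (PadicInt.prime_p).not_dvd_one
      · rw [hg]
        simp [D]
  · rintro ⟨h1, h2⟩
    -- surjectivity modulo `p`
    have H1 : ∀ P : (M2 ℤ_[p])ˣ, ∃ (g : 𝔊) (E : M2 ℤ_[p]),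
        ((ϕ g : (M2 ℤ_[p])ˣ) : M2 ℤ_[p]) = P.val + (p : ℤ_[p]) • E := by
      intro P
      obtain ⟨g, hg⟩ := h1 (Matrix.GeneralLinearGroup.map (PadicInt.toZMod (p := p)) P)
      have hent : ∀ i j, ∃ e : ℤ_[p], (ϕ g).val i j - P.val i j = (p : ℤ_[p]) * e := by
        intro i j
        have h3 : PadicInt.toZMod ((ϕ g).val i j) = PadicInt.toZMod (P.val i j) := by
          have := congrArg (fun A : GL (Fin 2) (ZMod p) => A i j) hg
          simp [Matrix.GeneralLinearGroup.map_apply] at this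
          exact this
        have h4 : (ϕ g).val i j - P.val i j ∈ RingHom.ker (PadicInt.toZMod (p := p)) := by
          rw [RingHom.mem_ker, map_sub, h3, sub_self]
        rw [PadicInt.ker_toZMod, PadicInt.maximalIdeal_eq_span_p, Ideal.mem_span_singleton] at h4
        exact h4
      choose e he using hent
      refine ⟨g, Matrix.of e, ?_⟩
      ext i j
      simp only [Matrix.add_apply, Matrix.smul_apply, Matrix.of_apply, smul_eq_mul, ← he]
      ring
    have H2 : ∀ n : ℕ, 1 ≤ n → ∃ (g : 𝔊) (a b c d : ℤ_[p]),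
        (∀ x : ℤ_[p], ∃ (m : ℕ) (z : ℤ_[p]), x = m * a + (p : ℤ_[p]) * z) ∧
        ((ϕ g : (M2 ℤ_[p])ˣ) : M2 ℤ_[p]) =
          !![1 + (p : ℤ_[p]) ^ n * a, (p : ℤ_[p]) ^ (n + 1) * b;
             (p : ℤ_[p]) ^ (n + 1) * c, 1 + (p : ℤ_[p]) ^ (n + 1) * d] := by
      intro n hn
      obtain ⟨g, a, b, c, d, ha, hg⟩ := h2 n hn
      exact ⟨g, a, b, c, d, exists_eq_nat_mul_add p ha, hg⟩
    intro T
    have happ := fun n : ℕ => approx (π := (p : ℤ_[p])) (ϕ := ϕ) H1 H2 (n + 1) (by omega) T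
    choose g E hgE using happ
    -- the image is closed
    have hK : IsClosed (Set.range fun g => ((ϕ g : GL (Fin 2) ℤ_[p]) : Matrix (Fin 2) (Fin 2) ℤ_[p])) :=
      (isCompact_range hϕ).isClosed
    have hlim : Filter.Tendsto (fun n => ((ϕ (g n) : GL (Fin 2) ℤ_[p]) : Matrix (Fin 2) (Fin 2) ℤ_[p]))
        Filter.atTop (nhds T.val) := by
      have h0 : Filter.Tendsto (fun n => (p : ℤ_[p]) ^ (n + 1) • E n) Filter.atTop
          (nhds (0 : Matrix (Fin 2) (Fin 2) ℤ_[p])) := by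
        refine tendsto_pi_nhds.2 fun i => tendsto_pi_nhds.2 fun j => ?_
        have hb : ∀ n, ‖((p : ℤ_[p]) ^ (n + 1) • E n) i j‖ ≤ ((p : ℝ)⁻¹) ^ (n + 1) := by
          intro n
          rw [Matrix.smul_apply, smul_eq_mul, norm_mul, norm_pow, PadicInt.norm_p]
          calc ((p : ℝ)⁻¹) ^ (n + 1) * ‖E n i j‖ ≤ ((p : ℝ)⁻¹) ^ (n + 1) * 1 := by
                gcongr
                exact PadicInt.norm_le_one _
            _ = _ := mul_one _
        have hp1 : ((p : ℝ)⁻¹) < 1 := by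
          have : (1 : ℝ) < p := by exact_mod_cast (Fact.out : p.Prime).one_lt
          exact inv_lt_one_of_one_lt₀ this
        have hp0 : 0 ≤ ((p : ℝ)⁻¹) := by positivity
        have ht : Filter.Tendsto (fun n : ℕ => ((p : ℝ)⁻¹) ^ (n + 1)) Filter.atTop (nhds 0) :=
          (tendsto_pow_atTop_nhds_zero_of_lt_one hp0 hp1).comp (Filter.tendsto_add_atTop_nat 1)
        exact squeeze_zero_norm hb ht
      have h1' := (tendsto_const_nhds (x := T.val)).add h0
      rw [add_zero] at h1'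
      refine h1'.congr fun n => ?_
      exact (hgE n).symm
    obtain ⟨g₀, hg₀⟩ := hK.mem_of_tendsto hlim (Filter.Eventually.of_forall fun n => ⟨g n, rfl⟩)
    exact ⟨g₀, Units.ext hg₀⟩

end Padic

end Groth.Agent.Lib.SerreGL2
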