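import Groth.Agent.Lib.BasicElt6b
import Groth.Agent.Lib.JSpec6

/-!
# Serre's proposition on sections of modules over rings with Noetherian maximal spectrum (helper6)

Namespace `Groth.Agent.Lib.SerreProp6`. Dictionary between Serre's `V(x) = M(x)/B(x)` and evaluation
vectors in `κ(x)^(M*)`, relative ranks, and the main theorem `main` (= statement S7163).
-/

set_option autoImplicit false
open Module

namespace Groth.Agent.Lib.SerreProp6

open Groth.Agent.Lib.BasicElt6 (κ algebraMap_κ_eq_zero red red_apply red_smul)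
open Groth.Agent.Lib.JSpec6

section S1
universe u
variable {R : Type u} [CommRing R] {M : Type u} [AddCommGroup M] [Module R M]

/-- evaluation `M → R^(M*)` -/
def ev (R : Type u) [CommRing R] (M : Type u) [AddCommGroup M] [Module R M] :
    M →ₗ[R] ((M →ₗ[R] R) → R) :=
  LinearMap.pi fun φ => φ

@[simp] lemma ev_apply (m : M) (φ : M →ₗ[R] R) : ev R M m φ = φ m := rfl

/-- Serre's `B(x)` -/
def Bq (x : MaximalSpectrum R) :
    Submodule (R ⧸ x.asIdeal) (M ⧸ (x.asIdeal • ⊤ : Submodule R M)) :=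
  Submodule.span (R ⧸ x.asIdeal)
    ((x.asIdeal • ⊤ : Submodule R M).mkQ '' {m : M | ∀ φ : M →ₗ[R] R, φ m ∈ x.asIdeal})

/-- the class of `m` in Serre's `V(x)` -/
def img (x : MaximalSpectrum R) (m : M) : (M ⧸ (x.asIdeal • ⊤ : Submodule R M)) ⧸ Bq (M := M) x :=
  (Bq x).mkQ ((x.asIdeal • ⊤ : Submodule R M).mkQ m)

lemma img_add (x : MaximalSpectrum R) (m m' : M) : img x (m + m') = img x m + img x m' := by
  simp [img]

lemma mk_smul_img (x : MaximalSpectrum R) (r : R) (m : M) :
    Ideal.Quotient.mk x.asIdeal r • img x m = img x (r • m) := rfl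

lemma img_surjective (x : MaximalSpectrum R) : Function.Surjective (img (M := M) x) := by
  intro y
  obtain ⟨y', rfl⟩ := Submodule.Quotient.mk_surjective _ y
  obtain ⟨m, rfl⟩ := Submodule.Quotient.mk_surjective _ y'
  exact ⟨m, rfl⟩

/-- the submodule `{m | ∀ φ, φ m ∈ x}` -/
def Nx (x : MaximalSpectrum R) : Submodule R M where
  carrier := {m : M | ∀ φ : M →ₗ[R] R, φ m ∈ x.asIdeal}
  add_mem' := fun ha hb φ => by rw [map_add]; exact Ideal.add_mem _ (ha φ) (hb φ)
  zero_mem' := fun φ => by rw [map_zero]; exact Ideal.zero_mem _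
  smul_mem' := fun r _ ha φ => by rw [map_smul]; exact Ideal.mul_mem_left _ _ (ha φ)

lemma smul_top_le_Nx (x : MaximalSpectrum R) : (x.asIdeal • ⊤ : Submodule R M) ≤ Nx x := by
  rw [Submodule.smul_le]
  intro r hr m _ φ
  rw [map_smul]
  exact Ideal.mul_mem_right _ _ hr

lemma mem_Bq_iff (x : MaximalSpectrum R) (m : M) :
    (x.asIdeal • ⊤ : Submodule R M).mkQ m ∈ Bq (M := M) x ↔ ∀ φ : M →ₗ[R] R, φ m ∈ x.asIdeal := by
  constructor
  · intro hm
    -- the image of `Nx` is already a submodule over `R ⧸ x`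
    have hspan : ∀ y ∈ Bq (M := M) x,
        ∃ n ∈ Nx (M := M) x, (x.asIdeal • ⊤ : Submodule R M).mkQ n = y := by
      intro y hy
      induction hy using Submodule.span_induction with
      | mem y hy =>
        obtain ⟨n, hn, rfl⟩ := hy
        exact ⟨n, hn, rfl⟩
      | zero => exact ⟨0, Submodule.zero_mem _, by simp⟩
      | add a b _ _ ha hb =>
        obtain ⟨n, hn, rfl⟩ := ha
        obtain ⟨n', hn', rfl⟩ := hb
        exact ⟨n + n', Submodule.add_mem _ hn hn', by simp⟩
      | smul c a _ ha =>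
        obtain ⟨n, hn, rfl⟩ := ha
        obtain ⟨r, rfl⟩ := Ideal.Quotient.mk_surjective c
        exact ⟨r • n, Submodule.smul_mem _ _ hn, rfl⟩
    obtain ⟨n, hn, hnm⟩ := hspan _ hm
    have hdiff : m - n ∈ (x.asIdeal • ⊤ : Submodule R M) := by
      rw [← Submodule.Quotient.eq]
      exact hnm.symm
    have : m = (m - n) + n := by abel
    intro φ
    rw [this]
    exact (Nx x).add_mem (smul_top_le_Nx x hdiff) hn φ
  · intro hm
    exact Submodule.subset_span ⟨m, hm, rfl⟩

lemma img_eq_zero_iff (x : MaximalSpectrum R) (m : M) :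
    img x m = 0 ↔ ∀ φ : M →ₗ[R] R, φ m ∈ x.asIdeal := by
  rw [img, Submodule.mkQ_apply, Submodule.Quotient.mk_eq_zero]
  exact mem_Bq_iff x m

/-- the elementary condition expressing linear independence at `x` -/
def CInd (x : MaximalSpectrum R) {h : ℕ} (s : Fin h → M) : Prop :=
  ∀ r : Fin h → R, (∀ φ : M →ₗ[R] R, φ (∑ i, r i • s i) ∈ x.asIdeal) → ∀ i, r i ∈ x.asIdeal

lemma linearIndependent_img_iff (x : MaximalSpectrum R) {h : ℕ} (s : Fin h → M) :
    LinearIndependent (R ⧸ x.asIdeal) (fun i => img x (s i)) ↔ CInd x s := by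
  rw [Fintype.linearIndependent_iff]
  constructor
  · intro H r hr i
    have h1 : ∑ i, Ideal.Quotient.mk x.asIdeal (r i) • img x (s i) = 0 := by
      have : ∑ i, Ideal.Quotient.mk x.asIdeal (r i) • img x (s i) = img x (∑ i, r i • s i) := by
        simp only [mk_smul_img]
        simp [img, map_sum]
      rw [this, img_eq_zero_iff]
      exact hr
    have := H (fun i => Ideal.Quotient.mk x.asIdeal (r i)) h1 i
    exact Ideal.Quotient.eq_zero_iff_mem.mp this
  · intro H g hg i
    choose r hr using fun i => Ideal.Quotient.mk_surjective (g i)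
    have h1 : img x (∑ i, r i • s i) = 0 := by
      rw [← hg]
      simp only [← hr, mk_smul_img]
      simp [img, map_sum]
    rw [← hr i]
    exact Ideal.Quotient.eq_zero_iff_mem.mpr (H r ((img_eq_zero_iff x _).mp h1) i)

lemma le_rk_iff (x : MaximalSpectrum R) {h : ℕ} (s : Fin h → M) :
    h ≤ BasicElt6.rk (κ x.toPrimeSpectrum) (Set.range fun i => ev R M (s i)) ↔ CInd x s := by
  classical
  set K := κ x.toPrimeSpectrum
  have hsurj : Function.Surjective (algebraMap R K) :=
    Ideal.algebraMap_residueField_surjective x.asIdeal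
  have hrange : red K '' (Set.range fun i => ev R M (s i)) =
      Set.range (fun i => red K (ev R M (s i))) := by
    rw [← Set.range_comp]; rfl
  have hle : BasicElt6.rk K (Set.range fun i => ev R M (s i)) ≤ h := by
    rw [BasicElt6.rk, BasicElt6.spanK, hrange]
    have := finrank_range_le_card (R := K) (fun i => red K (ev R M (s i)))
    rwa [Fintype.card_fin] at this
  have hli : h ≤ BasicElt6.rk K (Set.range fun i => ev R M (s i)) ↔
      LinearIndependent K (fun i => red K (ev R M (s i))) := by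
    rw [linearIndependent_iff_card_eq_finrank_span, Fintype.card_fin, Set.finrank, ← hrange]
    constructor
    · intro h1; exact le_antisymm h1 hle
    · intro h1; exact h1.le
  rw [hli, Fintype.linearIndependent_iff]
  have hsum : ∀ r : Fin h → R, ∑ i, algebraMap R K (r i) • red K (ev R M (s i)) =
      red K (ev R M (∑ i, r i • s i)) := by
    intro r
    rw [map_sum, map_sum]
    refine Finset.sum_congr rfl fun i _ => ?_
    rw [map_smul, red_smul]
  have hzero : ∀ m : M, red K (ev R M m) = 0 ↔ ∀ φ : M →ₗ[R] R, φ m ∈ x.asIdeal := by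
    intro m
    constructor
    · intro h0 φ
      have := congrFun h0 φ
      rw [red_apply, Pi.zero_apply, algebraMap_κ_eq_zero] at this
      exact this
    · intro h0
      ext φ
      rw [red_apply, Pi.zero_apply, algebraMap_κ_eq_zero]
      exact h0 φ
  constructor
  · intro H r hr i
    have := H (fun i => algebraMap R K (r i)) (by rw [hsum, hzero]; exact hr) i
    exact algebraMap_κ_eq_zero.mp this
  · intro H g hg i
    choose r hr using fun i => hsurj (g i)
    have h1 : red K (ev R M (∑ i, r i • s i)) = 0 := by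
      rw [← hsum, ← hg]
      simp only [hr]
    rw [← hr i]
    exact algebraMap_κ_eq_zero.mpr (H r ((hzero _).mp h1) i)

end S1

section S2
universe u
variable {R : Type u} [CommRing R] {M : Type u} [AddCommGroup M] [Module R M]

lemma red_mem_spanK_of_mem_span (K : Type*) [Field K] [Algebra R K] {J : Type*}
    {S : Set (J → R)} {v : J → R} (hv : v ∈ Submodule.span R S) :
    red K v ∈ BasicElt6.spanK K S := by
  induction hv using Submodule.span_induction with
  | mem v hv => exact BasicElt6.red_mem_spanK K hv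
  | zero => rw [map_zero]; exact Submodule.zero_mem _
  | add a b _ _ ha hb => rw [map_add]; exact Submodule.add_mem _ ha hb
  | smul c a _ ha => rw [red_smul]; exact Submodule.smul_mem _ _ ha

lemma spanK_le_of_subset_span (K : Type*) [Field K] [Algebra R K] {J : Type*}
    {S T : Set (J → R)} (h : S ⊆ Submodule.span R T) :
    BasicElt6.spanK K S ≤ BasicElt6.spanK K T := by
  rw [BasicElt6.spanK, Submodule.span_le]
  rintro _ ⟨v, hv, rfl⟩
  exact red_mem_spanK_of_mem_span K (h hv)

lemma rk_le_of_subset_span (K : Type*) [Field K] [Algebra R K] {J : Type*}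
    {S T : Set (J → R)} (hT : T.Finite) (h : S ⊆ Submodule.span R T) :
    BasicElt6.rk K S ≤ BasicElt6.rk K T := by
  have : Finite T := hT
  exact Submodule.finrank_mono (spanK_le_of_subset_span K h)

/-- the dimension of Serre's `V(x)` bounds the rank of the evaluation vectors of generators. -/
lemma le_rk_gens (x : MaximalSpectrum R) (n : ℕ)
    (hn : n ≤ finrank (R ⧸ x.asIdeal) ((M ⧸ (x.asIdeal • ⊤ : Submodule R M)) ⧸ Bq (M := M) x))
    {T : ℕ} (g : Fin T → M) (hg : Submodule.span R (Set.range g) = ⊤) :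
    n ≤ BasicElt6.rk (κ x.toPrimeSpectrum) (Set.range fun j => ev R M (g j)) := by
  obtain ⟨f, hf⟩ := exists_linearIndependent_of_le_finrank hn
  choose m hm using fun i => img_surjective x (f i)
  have hf' : LinearIndependent (R ⧸ x.asIdeal) (fun i => img x (m i)) := by
    convert hf using 2 with i
    exact hm i
  have h1 := (le_rk_iff x m).mpr ((linearIndependent_img_iff x m).mp hf')
  refine h1.trans (rk_le_of_subset_span _ (Set.finite_range _) ?_)
  rintro _ ⟨i, rfl⟩
  have : m i ∈ Submodule.span R (Set.range g) := by rw [hg]; trivial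
  have h2 := Submodule.apply_mem_span_image_of_mem_span (ev R M) this
  rwa [← Set.range_comp] at h2

/-- rank at a j-prime is at least the rank at a closed point above it -/
lemma le_rk_of_le {J : Type*} (S : Set (J → R)) (hS : S.Finite) (n : ℕ)
    {p q : PrimeSpectrum R} (hpq : p ≤ q) (h : n ≤ BasicElt6.rk (κ q) S) :
    n ≤ BasicElt6.rk (κ p) S := by
  by_contra hlt
  rw [not_le, BasicElt6.rk_lt_iff_κ p S hS n] at hlt
  have := (BasicElt6.rk_lt_iff_κ q S hS n).mpr (hlt.trans hpq)
  omega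

end S2

section S3
section Rel

lemma finrank_map_mkQ_add {K E : Type*} [Field K] [AddCommGroup E] [Module K E]
    (T N : Submodule K E) [Module.Finite K T] [Module.Finite K N] :
    finrank K (T.map N.mkQ) + finrank K N = finrank K (T ⊔ N : Submodule K E) := by
  let f : ↥(T ⊔ N) →ₗ[K] E ⧸ N := N.mkQ ∘ₗ (T ⊔ N).subtype
  have hrange : LinearMap.range f = T.map N.mkQ := by
    rw [LinearMap.range_comp, Submodule.range_subtype, Submodule.map_sup]
    simp
  have hker : LinearMap.ker f = N.comap (T ⊔ N).subtype := by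
    rw [LinearMap.ker_comp, Submodule.ker_mkQ]
  have e : ↥(N.comap (T ⊔ N).subtype) ≃ₗ[K] N :=
    Submodule.comapSubtypeEquivOfLe (le_sup_right : N ≤ T ⊔ N)
  have := LinearMap.finrank_range_add_finrank_ker f
  rw [hrange, hker, e.finrank_eq] at this
  exact this

variable {R : Type*} [CommRing R] {J : Type*} (K : Type*) [Field K] [Algebra R K]
  (U : Set (J → R))

/-- reduction followed by the quotient by the span of `U` -/
noncomputable def ρq : (J → R) →ₗ[R] ((J → K) ⧸ BasicElt6.spanK K U) :=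
  ((BasicElt6.spanK K U).mkQ.restrictScalars R) ∘ₗ red K

lemma ρq_apply (v : J → R) : ρq K U v = (BasicElt6.spanK K U).mkQ (red K v) := rfl

lemma ρq_eq_zero_iff (v : J → R) : ρq K U v = 0 ↔ red K v ∈ BasicElt6.spanK K U := by
  rw [ρq_apply, Submodule.mkQ_apply, Submodule.Quotient.mk_eq_zero]

lemma rk_rel (hU : U.Finite) (S : Set (J → R)) (hS : S.Finite) :
    BasicElt6b.rk K (ρq K U) S + BasicElt6.rk K U = BasicElt6.rk K (U ∪ S) := by
  have : Finite U := hU
  have : Finite S := hS
  have h1 : BasicElt6b.spanK K (ρq K U) S =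
      (BasicElt6.spanK K S).map (BasicElt6.spanK K U).mkQ := by
    show Submodule.span K (ρq K U '' S) =
      (Submodule.span K (red K '' S)).map (BasicElt6.spanK K U).mkQ
    rw [Submodule.map_span, Set.image_image]
    rfl
  have h2 : BasicElt6.spanK K (U ∪ S) = BasicElt6.spanK K S ⊔ BasicElt6.spanK K U := by
    show Submodule.span K (red K '' (U ∪ S)) =
      Submodule.span K (red K '' S) ⊔ Submodule.span K (red K '' U)
    rw [Set.image_union, Submodule.span_union, sup_comm]
  rw [BasicElt6b.rk, h1, BasicElt6.rk, BasicElt6.rk, h2]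
  exact finrank_map_mkQ_add _ _

end Rel

end S3

section S4
universe u
variable {R : Type u} [CommRing R] {M : Type u} [AddCommGroup M] [Module R M]

lemma rk_range_le (K : Type*) [Field K] [Algebra R K] {J : Type*} {h : ℕ} (f : Fin h → J → R) :
    BasicElt6.rk K (Set.range f) ≤ h := by
  have hrange : red K '' (Set.range f) = Set.range (fun i => red K (f i)) := by
    rw [← Set.range_comp]; rfl
  rw [BasicElt6.rk, BasicElt6.spanK, hrange]
  have := finrank_range_le_card (R := K) (fun i => red K (f i))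
  rwa [Fintype.card_fin] at this

/-- Chinese remainder theorem for a module modulo finitely many distinct maximal ideals. -/
lemma exists_crt {n : ℕ} (xs : Fin n → MaximalSpectrum R) (hxs : Function.Injective xs)
    (v : ∀ i : Fin n, M ⧸ ((xs i).asIdeal • ⊤ : Submodule R M)) :
    ∃ t₀ : M, ∀ i, ((xs i).asIdeal • ⊤ : Submodule R M).mkQ t₀ = v i := by
  classical
  choose vt hvt using fun i => Submodule.mkQ_surjective _ (v i)
  have hcop : Pairwise (Function.onFun IsCoprime fun i => (xs i).asIdeal) := fun i j hij =>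
    MaximalSpectrum.isCoprime_of_ne (fun h => hij (hxs h))
  choose e he using fun i : Fin n =>
    Ideal.exists_forall_sub_mem_ideal hcop (fun j => if j = i then (1 : R) else 0)
  refine ⟨∑ i, e i • vt i, fun j => ?_⟩
  rw [← hvt j, map_sum, Finset.sum_eq_single j]
  · have h1 := he j j
    rw [if_pos rfl] at h1
    rw [Submodule.mkQ_apply, Submodule.mkQ_apply, Submodule.Quotient.eq]
    have : e j • vt j - vt j = (e j - 1) • vt j := by rw [sub_smul, one_smul]
    rw [this]
    exact Submodule.smul_mem_smul h1 Submodule.mem_top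
  · intro i _ hij
    have h1 := he i j
    rw [if_neg (Ne.symm hij), sub_zero] at h1
    rw [Submodule.mkQ_apply, Submodule.Quotient.mk_eq_zero]
    exact Submodule.smul_mem_smul h1 Submodule.mem_top
  · intro hj; exact absurd (Finset.mem_univ j) hj

lemma range_snoc_eq {α : Type*} {h : ℕ} (f : Fin h → α) (a : α) :
    Set.range (Fin.snoc f a : Fin (h + 1) → α) = Set.range f ∪ {a} := by
  ext y
  simp only [Set.mem_range, Set.mem_union, Set.mem_singleton_iff]
  constructor
  · rintro ⟨i, rfl⟩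
    induction i using Fin.lastCases with
    | last => right; simp
    | cast i => left; exact ⟨i, by simp⟩
  · rintro (⟨i, rfl⟩ | rfl)
    · exact ⟨i.castSucc, by simp⟩
    · exact ⟨Fin.last h, by simp⟩

end S4

section S5
universe u

set_option maxHeartbeats 1600000 in
theorem main' (R : Type u) [CommRing R] [TopologicalSpace.NoetherianSpace (MaximalSpectrum R)]
    (M : Type u) [AddCommGroup M] [Module R M]
    (h : ℕ) (s : Fin h → M) (F : Set (MaximalSpectrum R)) (hF : IsClosed F)
    (n : ℕ) (xs : Fin n → MaximalSpectrum R) (hxs : Function.Injective xs) (hxF : ∀ i, xs i ∈ F)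
    (v : ∀ i : Fin n, M ⧸ ((xs i).asIdeal • ⊤ : Submodule R M)) (k : ℕ)
    (T : ℕ) (g : Fin T → M) (hg : Submodule.span R (Set.range g) = ⊤)
    (hrank : ∀ x : MaximalSpectrum R, h + k ≤
      BasicElt6.rk (κ x.toPrimeSpectrum) (Set.range fun j => ev R M (g j)))
    (hind : ∀ x : MaximalSpectrum R,
      ¬ LinearIndependent (R ⧸ x.asIdeal) (fun i => img x (s i)) → x ∈ F) :
    ∃ (t : M) (F' : Set (MaximalSpectrum R)), IsClosed F' ∧
      (∀ i : Fin n, img (xs i) t = (Bq (xs i)).mkQ (v i)) ∧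
      (∀ x : MaximalSpectrum R,
        ¬ LinearIndependent (R ⧸ x.asIdeal) (Fin.snoc (fun i => img x (s i)) (img x t)) →
          x ∈ F ∪ F') ∧
      ∀ Z : TopologicalSpace.IrreducibleCloseds (MaximalSpectrum R),
        (Z : Set (MaximalSpectrum R)) ⊆ F' → (k : ℕ∞) ≤ Order.coheight Z := by
  classical
  obtain ⟨t₀, ht₀⟩ := exists_crt xs hxs v
  -- notation
  obtain ⟨U, hU⟩ : ∃ U : Set ((M →ₗ[R] R) → R), U = Set.range fun i => ev R M (s i) := ⟨_, rfl⟩
  have hUfin : U.Finite := hU ▸ Set.finite_range _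
  obtain ⟨uu, huu⟩ : ∃ uu : Fin T → ((M →ₗ[R] R) → R), uu = fun j => ev R M (g j) := ⟨_, rfl⟩
  obtain ⟨IF, hIF⟩ : ∃ IF : Ideal R, IF = vanI F := ⟨_, rfl⟩
  have hFz : F = zsetI IF := by rw [hIF, zsetI_vanI_of_isClosed hF]
  let X : Set (PrimeSpectrum R) :=
    {p | ∃ hp : IsJ p, ¬ IF ≤ p.asIdeal ∧ Order.coheight (zirr p hp) < (k : ℕ∞)}
  let δ : PrimeSpectrum R → ℕ := fun p =>
    if hp : IsJ p then k - 1 - (Order.coheight (zirr p hp)).toNat else 0
  -- (f2)
  have f2 : ∀ p : PrimeSpectrum R, IsJ p → h + k ≤ BasicElt6.rk (κ p) (Set.range uu) := by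
    intro p hp
    obtain ⟨x, hx⟩ := (isIrreducible_zsetI hp).nonempty
    have h1 := hrank x
    rw [huu]
    exact le_rk_of_le _ (Set.finite_range _) _ (show p ≤ x.toPrimeSpectrum from hx) h1
  -- (f1)
  have f1 : ∀ p ∈ X, BasicElt6.rk (κ p) U = h := by
    rintro p ⟨hp, hpF, -⟩
    have hex : ∃ x ∈ zsetI p.asIdeal, x ∉ F := by
      by_contra hcon
      push Not at hcon
      apply hpF
      rw [hIF]
      exact (vanI_anti hcon).trans hp
    obtain ⟨x, hx, hxF'⟩ := hex
    have hli : LinearIndependent (R ⧸ x.asIdeal) (fun i => img x (s i)) := by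
      by_contra hcon
      exact hxF' (hind x hcon)
    have h1 := (le_rk_iff x s).mpr ((linearIndependent_img_iff x s).mp hli)
    rw [← hU] at h1
    have h2 := le_rk_of_le U hUfin h (show p ≤ x.toPrimeSpectrum from hx) h1
    have h3 : BasicElt6.rk (κ p) U ≤ h := by rw [hU]; exact rk_range_le _ _
    omega
  -- (f3)
  have f3 : ∀ p ∈ X, ∀ S : Set ((M →ₗ[R] R) → R), S.Finite →
      BasicElt6b.rk (κ p) (ρq (κ p) U) S + h = BasicElt6.rk (κ p) (U ∪ S) := by
    intro p hp S hS
    rw [← f1 p hp]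
    exact rk_rel (κ p) U hUfin S hS
  have hk1 : ∀ p ∈ X, 1 ≤ k := by
    rintro p ⟨hp, -, hc⟩
    by_contra hk0
    have : k = 0 := by omega
    subst this
    simp at hc
  -- hδ
  have hδ : ∀ p ∈ X, ∀ q ∈ X, p < q → δ q < δ p := by
    rintro p ⟨hp, -, hcp⟩ q ⟨hq, -, hcq⟩ hpq
    have hlt : Order.coheight (zirr p hp) < Order.coheight (zirr q hq) :=
      Order.coheight_strictAnti (zirr_lt hp hq hpq) (hcp.trans (ENat.natCast_lt_top k))
    obtain ⟨a, ha⟩ := ENat.ne_top_iff_exists.mp (hcp.trans (ENat.natCast_lt_top k)).ne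
    obtain ⟨b, hb⟩ := ENat.ne_top_iff_exists.mp (hcq.trans (ENat.natCast_lt_top k)).ne
    simp only [δ, dif_pos hp, dif_pos hq]
    rw [← ha, ← hb] at hlt
    rw [← hb] at hcq
    rw [← ha, ← hb, ENat.toNat_natCast, ENat.toNat_natCast]
    have h1 : a < b := by exact_mod_cast hlt
    have h2 : b < k := by exact_mod_cast hcq
    omega
  -- hcl
  have hcl : ∀ (S : Set ((M →ₗ[R] R) → R)), S.Finite → ∀ m : ℕ, ∃ F₀ : Finset (PrimeSpectrum R),
      (∀ q ∈ F₀, q ∈ X ∧ BasicElt6b.rk (κ q) (ρq (κ q) U) S < m) ∧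
        ∀ p ∈ X, BasicElt6b.rk (κ p) (ρq (κ p) U) S < m → ∃ q ∈ F₀, q ≤ p := by
    intro S hS m
    obtain ⟨F₀, hF₀, hF₀'⟩ := exists_finset_coinitial (BasicElt6.minorsIdeal (U ∪ S) (m + h))
    refine ⟨F₀.filter (fun q => q ∈ X), ?_, ?_⟩
    · intro q hq
      obtain ⟨hqF, hqX⟩ := Finset.mem_filter.mp hq
      refine ⟨hqX, ?_⟩
      have h1 := (BasicElt6.rk_lt_iff_κ q (U ∪ S) (hUfin.union hS) (m + h)).mpr (hF₀ q hqF).2
      have h2 := f3 q hqX S hS
      omega
    · intro p hpX hp
      have h2 := f3 p hpX S hS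
      have h1 : BasicElt6.rk (κ p) (U ∪ S) < m + h := by omega
      obtain ⟨hpJ, hpF, hpc⟩ := hpX
      obtain ⟨q, hqF, hqp⟩ := hF₀' p hpJ
        ((BasicElt6.rk_lt_iff_κ p (U ∪ S) (hUfin.union hS) (m + h)).mp h1)
      have hqJ := (hF₀ q hqF).1
      refine ⟨q, Finset.mem_filter.mpr ⟨hqF, hqJ, fun hle => hpF (hle.trans hqp), ?_⟩, hqp⟩
      exact lt_of_le_of_lt (Order.coheight_anti (zirr_le hqJ hpJ hqp)) hpc
  -- H1
  have H1 : ∀ p ∈ X, min (T + 1) (δ p + 1) ≤
      BasicElt6b.rk (κ p) (ρq (κ p) U) (insert (ev R M t₀) (Set.range uu)) := by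
    intro p hpX
    have h2 := f3 p hpX (insert (ev R M t₀) (Set.range uu)) ((Set.finite_range _).insert _)
    have h3 : BasicElt6.rk (κ p) (Set.range uu) ≤
        BasicElt6.rk (κ p) (U ∪ insert (ev R M t₀) (Set.range uu)) :=
      BasicElt6.rk_mono (κ p) (hUfin.union ((Set.finite_range _).insert _))
        (fun y hy => Or.inr (Set.mem_insert_of_mem _ hy))
    have h4 := f2 p hpX.1
    have h5 := hk1 p hpX
    have h6 : δ p ≤ k - 1 := by
      simp only [δ, dif_pos hpX.1]
      omega
    have : min (T + 1) (δ p + 1) ≤ δ p + 1 := min_le_right _ _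
    omega
  have H2 : ∀ p ∈ X, IF ≤ p.asIdeal → ρq (κ p) U (ev R M t₀) ≠ 0 := by
    rintro p ⟨-, hpF, -⟩ hle
    exact absurd hle hpF
  obtain ⟨w, hw, hwne⟩ := BasicElt6b.core (W := fun p => ((M →ₗ[R] R) → κ p) ⧸ BasicElt6.spanK (κ p) U)
    (fun p => ρq (κ p) U) X δ hδ hcl IF T (ev R M t₀) uu H1 H2
  -- w = ev t₁
  have hspan : Submodule.span R (Set.range uu) = Submodule.map (ev R M) ⊤ := by
    rw [← hg, Submodule.map_span, ← Set.range_comp, huu]
    rfl
  rw [hspan, ← Submodule.map_smul''] at hw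
  obtain ⟨t₁, ht₁, rfl⟩ := hw
  refine ⟨t₀ + t₁, ?_⟩
  obtain ⟨F₀, hF₀, hF₀'⟩ :=
    exists_finset_coinitial (BasicElt6.minorsIdeal (U ∪ {ev R M (t₀ + t₁)}) (h + 1))
  obtain ⟨F₁, hF₁⟩ : ∃ F₁ : Finset (PrimeSpectrum R),
      F₁ = F₀.filter (fun q => ¬ IF ≤ q.asIdeal) := ⟨_, rfl⟩
  have hfinS : (U ∪ {ev R M (t₀ + t₁)}).Finite := hUfin.union (Set.finite_singleton _)
  refine ⟨⋃ q ∈ F₁, zsetI q.asIdeal, isClosed_biUnion_finset fun q _ => isClosed_zsetI _,
    ?_, ?_, ?_⟩
  · -- (a)
    intro i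
    have h1 : ((xs i).asIdeal • ⊤ : Submodule R M).mkQ t₁ = 0 := by
      rw [Submodule.mkQ_apply, Submodule.Quotient.mk_eq_zero]
      have hle : IF ≤ (xs i).asIdeal := by rw [hIF]; exact vanI_le (hxF i)
      exact Submodule.smul_mono_left hle ht₁
    show (Bq (xs i)).mkQ (((xs i).asIdeal • ⊤ : Submodule R M).mkQ (t₀ + t₁)) = _
    rw [map_add, h1, add_zero, ht₀ i]
  · -- (b)
    intro x hx
    by_cases hxF' : x ∈ F
    · exact Or.inl hxF'
    right
    have hsn : (Fin.snoc (fun i => img x (s i)) (img x (t₀ + t₁)) : Fin (h + 1) → _) =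
        fun i => img x ((Fin.snoc s (t₀ + t₁) : Fin (h + 1) → M) i) := by
      funext i
      induction i using Fin.lastCases with
      | last => simp
      | cast i => simp
    rw [hsn, linearIndependent_img_iff, ← le_rk_iff, not_le] at hx
    have hrange : (Set.range fun i => ev R M ((Fin.snoc s (t₀ + t₁) : Fin (h + 1) → M) i)) =
        U ∪ {ev R M (t₀ + t₁)} := by
      have : (fun i => ev R M ((Fin.snoc s (t₀ + t₁) : Fin (h + 1) → M) i)) =
          (Fin.snoc (fun i => ev R M (s i)) (ev R M (t₀ + t₁)) : Fin (h + 1) → _) := by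
        funext i
        induction i using Fin.lastCases with
        | last => simp
        | cast i => simp
      rw [this, range_snoc_eq, hU]
    rw [hrange, BasicElt6.rk_lt_iff_κ _ _ hfinS] at hx
    obtain ⟨q, hqF, hqx⟩ := hF₀' x.toPrimeSpectrum (isJ_toPrimeSpectrum x) hx
    have hqnot : ¬ IF ≤ q.asIdeal := by
      intro hle
      apply hxF'
      rw [hFz]
      exact hle.trans hqx
    refine Set.mem_biUnion (x := q) ?_ hqx
    rw [hF₁]
    exact Finset.mem_filter.mpr ⟨hqF, hqnot⟩
  · -- (c)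
    intro Z hZ
    have hZ' : (Z : Set (MaximalSpectrum R)) ⊆
        ⋃₀ ((F₁.image fun q => zsetI q.asIdeal : Finset (Set (MaximalSpectrum R))) :
          Set (Set (MaximalSpectrum R))) := by
      intro y hy
      obtain ⟨q, hq, hyq⟩ := Set.mem_iUnion₂.mp (hZ hy)
      exact Set.mem_sUnion.mpr ⟨_, Finset.mem_coe.mpr (Finset.mem_image_of_mem _ hq), hyq⟩
    obtain ⟨z, hz, hZz⟩ := isIrreducible_iff_sUnion_isClosed.mp Z.isIrreducible _
      (fun z hz => by
        obtain ⟨q, -, rfl⟩ := Finset.mem_image.mp hz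
        exact isClosed_zsetI _) hZ'
    obtain ⟨q, hq, rfl⟩ := Finset.mem_image.mp hz
    rw [hF₁] at hq
    obtain ⟨hqF, hqnot⟩ := Finset.mem_filter.mp hq
    obtain ⟨hqJ, hqI⟩ := hF₀ q hqF
    have hle : Z ≤ zirr q hqJ := hZz
    refine le_trans ?_ (Order.coheight_anti hle)
    by_contra hcon
    rw [not_le] at hcon
    have hqX : q ∈ X := ⟨hqJ, hqnot, hcon⟩
    have h1 := hwne q hqX
    rw [← map_add] at h1
    have h2 := f3 q hqX {ev R M (t₀ + t₁)} (Set.finite_singleton _)
    have h3 : BasicElt6b.rk (κ q) (ρq (κ q) U) {ev R M (t₀ + t₁)} = 1 := by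
      rw [BasicElt6b.rk, BasicElt6b.spanK, Set.image_singleton]
      exact finrank_span_singleton h1
    have h4 := (BasicElt6.rk_lt_iff_κ q _ hfinS (h + 1)).mpr hqI
    omega

/-- Serre's proposition (statement S7163). -/
theorem main (R : Type u) [CommRing R] [TopologicalSpace.NoetherianSpace (MaximalSpectrum R)]
    (M : Type u) [AddCommGroup M] [Module R M] [Module.Finite R M]
    (h : ℕ) (s : Fin h → M) (F : Set (MaximalSpectrum R)) (hF : IsClosed F)
    (n : ℕ) (xs : Fin n → MaximalSpectrum R) (hxs : Function.Injective xs) (hxF : ∀ i, xs i ∈ F)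
    (v : ∀ i : Fin n, M ⧸ ((xs i).asIdeal • ⊤ : Submodule R M)) (k : ℕ)
    (hrank : ∀ x : MaximalSpectrum R, h + k ≤
      finrank (R ⧸ x.asIdeal) ((M ⧸ (x.asIdeal • ⊤ : Submodule R M)) ⧸ Bq (M := M) x))
    (hind : ∀ x : MaximalSpectrum R,
      ¬ LinearIndependent (R ⧸ x.asIdeal) (fun i => img x (s i)) → x ∈ F) :
    ∃ (t : M) (F' : Set (MaximalSpectrum R)), IsClosed F' ∧
      (∀ i : Fin n, img (xs i) t = (Bq (xs i)).mkQ (v i)) ∧
      (∀ x : MaximalSpectrum R,
        ¬ LinearIndependent (R ⧸ x.asIdeal) (Fin.snoc (fun i => img x (s i)) (img x t)) →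
          x ∈ F ∪ F') ∧
      ∀ Z : TopologicalSpace.IrreducibleCloseds (MaximalSpectrum R),
        (Z : Set (MaximalSpectrum R)) ⊆ F' → (k : ℕ∞) ≤ Order.coheight Z := by
  obtain ⟨T, g, hg⟩ := Module.Finite.exists_fin (R := R) (M := M)
  exact main' R M h s F hF n xs hxs hxF v k T g hg
    (fun x => le_rk_gens x (h + k) (hrank x) g hg) hind

end S5


end Groth.Agent.Lib.SerreProp6
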