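import Mathlib
import Groth.Agent.Lib.DescRec66
import Groth.Agent.Lib.H86SubobjElem

/-!
# Subcomplexes with terms in a Serre class (Stacks 0FCL, the key claim)

Let `P` be a Serre class in an abelian category `A` with the lifting property `HasLift P`
(every epi `X ⟶ Y` with `P Y` is already epi on a subobject `X' ⊆ X` with `P X'`).
Then every cochain complex `X`, strictly bounded above and with homology in `P`, contains a
quasi-isomorphic subcomplex `Y` with all terms in `P` (`exists_subcomplex`).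
-/

set_option autoImplicit false
universe v u

open CategoryTheory CategoryTheory.Limits

namespace Groth.Agent.Lib.SerreSubcomplex66

open Groth.Agent.Lib.H86SubobjElem Groth.Agent.Lib.DescRec66

variable {A : Type u} [Category.{v} A] [Abelian A] (P : ObjectProperty A)

/-- The lifting hypothesis of Stacks 0FCL. -/
def HasLift : Prop :=
  ∀ (X Y : A) (π : X ⟶ Y), Epi π → P Y → ∃ (X' : A) (i : X' ⟶ X), Mono i ∧ P X' ∧ Epi (i ≫ π)

variable (X : CochainComplex A ℤ)

/-- Every cycle of `X` in degree `i` is, up to refinement and boundaries, in `S`. -/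
def Beta (i : ℤ) (S : Subobject (X.X i)) : Prop :=
  ∀ ⦃T : A⦄ (z : T ⟶ X.X i), z ≫ X.d i (i+1) = 0 →
    ∃ (T' : A) (π : T' ⟶ T) (_ : Epi π) (y : T' ⟶ X.X i) (w : T' ⟶ X.X (i-1)),
      S.Factors y ∧ π ≫ z = y + w ≫ X.d (i-1) i

/-- The differential maps `S` into `S'`. -/
def Compat (i k : ℤ) (S : Subobject (X.X i)) (S' : Subobject (X.X k)) : Prop :=
  S'.Factors (S.arrow ≫ X.d i k)

/-- Every element of `S'` which is a boundary is, up to refinement, a boundary of an element
of `S`. -/
def Alpha (i k : ℤ) (S : Subobject (X.X i)) (S' : Subobject (X.X k)) : Prop :=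
  ∀ ⦃T : A⦄ (y' : T ⟶ X.X k) (x : T ⟶ X.X i), S'.Factors y' → y' = x ≫ X.d i k →
    ∃ (T' : A) (π : T' ⟶ T) (_ : Epi π) (y : T' ⟶ X.X i), S.Factors y ∧ π ≫ y' = y ≫ X.d i k

variable {P X}

lemma exists_step [P.IsSerreClass] (hlift : HasLift P) (hH : ∀ n, P (X.homology n)) (i : ℤ)
    (S' : Subobject (X.X (i+1))) (hS' : P (S' : A)) :
    ∃ S : Subobject (X.X i), P (S : A) ∧ Beta X i S ∧ Compat X i (i+1) S S' ∧
      Alpha X i (i+1) S S' := by
  -- the pullback of `S'` along the differential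
  let fst : pullback S'.arrow (X.d i (i+1)) ⟶ (S' : A) := pullback.fst _ _
  let snd : pullback S'.arrow (X.d i (i+1)) ⟶ X.X i := pullback.snd _ _
  have hsq : fst ≫ S'.arrow = snd ≫ X.d i (i+1) := pullback.condition
  have hT : P (Limits.image fst) := P.prop_of_mono (image.ι fst) hS'
  obtain ⟨E, iE, hiE, hE, hEe⟩ := hlift _ _ (factorThruImage fst) inferInstance hT
  obtain ⟨C, iC, hiC, hC, hCe⟩ := hlift (X.cycles i) (X.homology i) (X.homologyπ i)
    inferInstance (hH i)
  let ε : E ⟶ X.X i := iE ≫ snd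
  let γ : C ⟶ X.X i := iC ≫ X.iCycles i
  have hεd : ε ≫ X.d i (i+1) = (iE ≫ fst) ≫ S'.arrow := by
    simp only [ε, Category.assoc, hsq]
  have hγd : γ ≫ X.d i (i+1) = 0 := by simp [γ]
  have hfacε : ∀ {T : A} (u : T ⟶ E), (imageSubobject (biprod.desc ε γ)).Factors (u ≫ ε) := by
    intro T u
    have : u ≫ ε = (u ≫ biprod.inl) ≫ biprod.desc ε γ := by simp
    rw [this]; exact imageSubobject_factors_comp_self _ _
  have hfacγ : ∀ {T : A} (u : T ⟶ C), (imageSubobject (biprod.desc ε γ)).Factors (u ≫ γ) := by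
    intro T u
    have : u ≫ γ = (u ≫ biprod.inr) ≫ biprod.desc ε γ := by simp
    rw [this]; exact imageSubobject_factors_comp_self _ _
  refine ⟨imageSubobject (biprod.desc ε γ), ?_, ?_, ?_, ?_⟩
  · -- `P S`
    have h1 : P (Limits.image (biprod.desc ε γ)) :=
      P.prop_of_epi (factorThruImage (biprod.desc ε γ)) (P.prop_biprod hE hC)
    exact P.prop_of_iso (imageSubobjectIso (biprod.desc ε γ)).symm h1
  · -- Beta
    intro T z hz
    obtain ⟨T₁, π₁, hπ₁, c, hc⟩ := surjective_up_to_refinements_of_epi (iC ≫ X.homologyπ i)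
      (X.liftCycles z (i+1) (by simp) hz ≫ X.homologyπ i)
    have h0 : (π₁ ≫ X.liftCycles z (i+1) (by simp) hz - c ≫ iC) ≫ X.homologyπ i = 0 := by
      rw [Preadditive.sub_comp, Category.assoc, hc, Category.assoc, sub_self]
    rw [X.comp_homologyπ_eq_zero_iff_up_to_refinements (i-1) i (by simp)] at h0
    obtain ⟨T₂, π₂, hπ₂, w, hw⟩ := h0
    refine ⟨T₂, π₂ ≫ π₁, epi_comp _ _, (π₂ ≫ c) ≫ γ, w, hfacγ _, ?_⟩
    have := congrArg (fun t => t ≫ X.iCycles i) hw
    simp only [Preadditive.comp_sub, Preadditive.sub_comp, Category.assoc,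
      HomologicalComplex.liftCycles_i, HomologicalComplex.toCycles_i] at this
    simp only [Category.assoc, γ]
    rw [← this]; abel
  · -- Compat
    show S'.Factors _
    apply factors_of_epi_comp S' (factorThruImageSubobject (biprod.desc ε γ))
    rw [← Category.assoc, imageSubobject_arrow_comp]
    have : biprod.desc ε γ ≫ X.d i (i+1) = biprod.desc (iE ≫ fst) 0 ≫ S'.arrow := by
      ext
      · simp [hεd]
      · simp [hγd]
    rw [this]
    exact Subobject.factors_comp_arrow _
  · -- Alpha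
    intro T y' x hy' hy'x
    let l : T ⟶ pullback S'.arrow (X.d i (i+1)) :=
      pullback.lift (S'.factorThru y' hy') x (by simp [hy'x])
    obtain ⟨T₁, π₁, hπ₁, u, hu⟩ := surjective_up_to_refinements_of_epi
      (iE ≫ factorThruImage fst) (l ≫ factorThruImage fst)
    refine ⟨T₁, π₁, hπ₁, u ≫ ε, hfacε u, ?_⟩
    have h1 := congrArg (fun t => t ≫ image.ι fst ≫ S'.arrow) hu
    simp only [Category.assoc, image.fac_assoc] at h1
    rw [Category.assoc, hεd]
    simp only [Category.assoc]
    rw [← h1]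
    have h2 : l ≫ fst = S'.factorThru y' hy' := pullback.lift_fst _ _ _
    rw [reassoc_of% h2, Subobject.factorThru_arrow]

variable (P X) in
lemma exists_family [P.IsSerreClass] (hlift : HasLift P) (hH : ∀ n, P (X.homology n)) (b : ℤ)
    [X.IsStrictlyLE b] :
    ∃ S : ∀ i, Subobject (X.X i), (∀ i, P (S i : A)) ∧ (∀ i, Beta X i (S i)) ∧
      (∀ i k, i + 1 = k → Compat X i k (S i) (S k)) ∧
      (∀ i k, i + 1 = k → Alpha X i k (S i) (S k)) := by
  obtain ⟨S, hQ, hR, -⟩ := exists_descSeq (T := fun i => Subobject (X.X i))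
    (fun i S => P (S : A) ∧ Beta X i S)
    (fun i S S' => Compat X i (i+1) S S' ∧ Alpha X i (i+1) S S') b (fun _ => ⊥)
    (by
      intro i hi
      have hz : IsZero (X.X i) := X.isZero_of_isStrictlyLE b i hi
      refine ⟨P.prop_of_isZero (IsZero.of_mono (⊥ : Subobject (X.X i)).arrow hz), ?_⟩
      intro T z _
      exact ⟨T, 𝟙 T, inferInstance, 0, 0, Subobject.factors_zero, hz.eq_of_tgt _ _⟩)
    (by
      intro i hi
      refine ⟨?_, ?_⟩
      · show (⊥ : Subobject (X.X (i+1))).Factors _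
        rw [Subobject.bot_arrow, zero_comp]
        exact Subobject.factors_zero
      · intro T y' x hy' _
        rw [Subobject.bot_factors_iff_zero] at hy'
        subst hy'
        exact ⟨T, 𝟙 T, inferInstance, 0, Subobject.factors_zero, by simp⟩)
    (by
      intro i S' hS'
      obtain ⟨S, h1, h2, h3, h4⟩ := exists_step hlift hH i S' hS'.1
      exact ⟨S, ⟨h1, h2⟩, h3, h4⟩)
  refine ⟨S, fun i => (hQ i).1, fun i => (hQ i).2, ?_, ?_⟩
  · rintro i k rfl; exact (hR i).1
  · rintro i k rfl; exact (hR i).2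

/-- The subcomplex associated with a compatible family of subobjects. -/
noncomputable def subcomplex (S : ∀ i, Subobject (X.X i))
    (hS : ∀ i, (S (i+1)).Factors ((S i).arrow ≫ X.d i (i+1))) : CochainComplex A ℤ :=
  CochainComplex.of (fun i => (S i : A)) (fun i => (S (i+1)).factorThru _ (hS i)) (by
    intro i
    apply (cancel_mono (S (i+1+1)).arrow).1
    rw [zero_comp, Category.assoc, Subobject.factorThru_arrow, ← Category.assoc,
      Subobject.factorThru_arrow, Category.assoc, X.d_comp_d, comp_zero])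

/-- The inclusion of the subcomplex. -/
noncomputable def subcomplexι (S : ∀ i, Subobject (X.X i))
    (hS : ∀ i, (S (i+1)).Factors ((S i).arrow ≫ X.d i (i+1))) : subcomplex S hS ⟶ X where
  f i := (S i).arrow
  comm' := by
    rintro i k (rfl : i + 1 = k)
    simp only [subcomplex, CochainComplex.of_d]
    rw [Subobject.factorThru_arrow]

instance (S : ∀ i, Subobject (X.X i))
    (hS : ∀ i, (S (i+1)).Factors ((S i).arrow ≫ X.d i (i+1))) (i : ℤ) : Mono ((subcomplexι S hS).f i) :=
  inferInstanceAs (Mono (S i).arrow)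

lemma exists_lift_subcomplexι (S : ∀ i, Subobject (X.X i))
    (hS : ∀ i, (S (i+1)).Factors ((S i).arrow ≫ X.d i (i+1))) (i : ℤ) {T : A} (y : T ⟶ X.X i)
    (hy : (S i).Factors y) : ∃ y' : T ⟶ (subcomplex S hS).X i, y' ≫ (subcomplexι S hS).f i = y :=
  ⟨(S i).factorThru y hy, Subobject.factorThru_arrow _ _ _⟩

lemma factors_comp_subcomplexι (S : ∀ i, Subobject (X.X i))
    (hS : ∀ i, (S (i+1)).Factors ((S i).arrow ≫ X.d i (i+1))) (i : ℤ) {T : A}
    (y' : T ⟶ (subcomplex S hS).X i) : (S i).Factors (y' ≫ (subcomplexι S hS).f i) :=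
  Subobject.factors_comp_arrow (P := S i) y'

lemma isZero_subcomplex_X (S : ∀ i, Subobject (X.X i))
    (hS : ∀ i, (S (i+1)).Factors ((S i).arrow ≫ X.d i (i+1))) (i : ℤ) (hz : IsZero (X.X i)) :
    IsZero ((subcomplex S hS).X i) :=
  IsZero.of_mono ((subcomplexι S hS).f i) hz

lemma prop_subcomplex_X (S : ∀ i, Subobject (X.X i))
    (hS : ∀ i, (S (i+1)).Factors ((S i).arrow ≫ X.d i (i+1))) (i : ℤ) (h : P (S i : A)) :
    P ((subcomplex S hS).X i) := h

variable (P X) in
/-- **Key claim** of Stacks 0FCL. -/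
theorem exists_subcomplex [P.IsSerreClass] (hlift : HasLift P) (hH : ∀ n, P (X.homology n))
    (b : ℤ) [X.IsStrictlyLE b] :
    ∃ (Y : CochainComplex A ℤ) (j : Y ⟶ X), (∀ i, Mono (j.f i)) ∧ (∀ i, P (Y.X i)) ∧
      QuasiIso j ∧ Y.IsStrictlyLE b := by
  obtain ⟨S, hP, hβ, hc, hα⟩ := exists_family P X hlift hH b
  have hS : ∀ i, (S (i+1)).Factors ((S i).arrow ≫ X.d i (i+1)) := fun i => hc i (i+1) rfl
  refine ⟨subcomplex S hS, subcomplexι S hS, fun i => inferInstance,
    fun i => prop_subcomplex_X S hS i (hP i), ?_, ?_⟩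
  · rw [quasiIso_iff]
    intro i
    rw [quasiIsoAt_iff_isIso_homologyMap]
    have hm : Mono (HomologicalComplex.homologyMap (subcomplexι S hS) i) := by
      rw [HomologicalComplex.mono_homologyMap_iff_up_to_refinements (subcomplexι S hS)
        (i-1) i (i+1) (by simp) (by simp)]
      intro T x₂ hx₂ y₁ hy₁
      obtain ⟨T', π, hπ, y, hy, hy2⟩ := hα (i-1) i (by omega) (x₂ ≫ (subcomplexι S hS).f i) y₁
        (factors_comp_subcomplexι S hS i x₂) hy₁
      obtain ⟨y', rfl⟩ := exists_lift_subcomplexι S hS (i-1) y hy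
      refine ⟨T', π, hπ, y', ?_⟩
      apply (cancel_mono ((subcomplexι S hS).f i)).1
      rw [Category.assoc, Category.assoc, ← (subcomplexι S hS).comm (i-1) i, hy2, Category.assoc]
    have he : Epi (HomologicalComplex.homologyMap (subcomplexι S hS) i) := by
      rw [HomologicalComplex.epi_homologyMap_iff_up_to_refinements (subcomplexι S hS)
        (i-1) i (i+1) (by simp) (by simp)]
      intro T y₂ hy₂
      obtain ⟨T', π, hπ, y, w, hy, hy2⟩ := hβ i y₂ hy₂
      obtain ⟨y', rfl⟩ := exists_lift_subcomplexι S hS i y hy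
      refine ⟨T', π, hπ, y', ?_, w, hy2⟩
      apply (cancel_mono ((subcomplexι S hS).f (i+1))).1
      rw [Category.assoc, ← (subcomplexι S hS).comm i (i+1), zero_comp]
      have h3 : y' ≫ (subcomplexι S hS).f i = π ≫ y₂ - w ≫ X.d (i-1) i := by rw [hy2]; abel
      rw [← Category.assoc, h3, Preadditive.sub_comp, Category.assoc, hy₂, Category.assoc,
        HomologicalComplex.d_comp_d]
      simp
    exact isIso_of_mono_of_epi _
  · rw [CochainComplex.isStrictlyLE_iff]
    intro i hi
    exact isZero_subcomplex_X S hS i (X.isZero_of_isStrictlyLE b i hi)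

end Groth.Agent.Lib.SerreSubcomplex66
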