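import Groth.Prelude.Def_W4stktopologysheavesBas
import Mathlib.Topology.Bases
import Mathlib.Topology.Sets.Opens

/-!
# Sheaves of sets on a basis (`ShB`): helper library (helper55)

* `exists_basis_mem`, `mkCover` : covers with all basis members below `V i ⊓ V j` as `W`.
* `Cofinal F C` : the hypothesis of the cofinal-systems lemma; `sep_of_cofinal`, `isSheaf_of_cofinal`.
* `Sep F` : local separatedness; `sep_of_isSheaf`.
* `germ_eq_iff` : equality of germs.
-/

set_option autoImplicit false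
universe u

namespace Groth.Agent.Lib.ShBasis

open TopologicalSpace ShB

variable {X : Type u} [TopologicalSpace X] {B : Set (Opens X)}

lemma exists_basis_mem (hB : Opens.IsBasis B) {U : Opens X} {x : X} (hx : x ∈ U) :
    ∃ D : B, x ∈ (D : Opens X) ∧ (D : Opens X) ≤ U := by
  obtain ⟨D, hD, hxD, hDU⟩ := Opens.isBasis_iff_nbhd.mp hB hx
  exact ⟨⟨D, hD⟩, hxD, hDU⟩

/-- The covering datum with all basis members below `V i ⊓ V j` as `W i j`. -/
def mkCover (hB : Opens.IsBasis B) (U : B) (ι : Type u) (V : ι → B)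
    (V_le : ∀ i, (V i : Opens X) ≤ (U : Opens X))
    (V_cover : (U : Opens X) ≤ ⨆ i, (V i : Opens X)) : Cover B where
  U := U
  ι := ι
  V := V
  V_le := V_le
  V_cover := V_cover
  κ i j := {D : B // (D : Opens X) ≤ (V i : Opens X) ⊓ (V j : Opens X)}
  W i j k := k.1
  W_le_left i j k := k.2.trans inf_le_left
  W_le_right i j k := k.2.trans inf_le_right
  W_cover i j := by
    intro x hx
    obtain ⟨D, hxD, hD⟩ := exists_basis_mem hB hx
    exact Opens.mem_iSup.mpr ⟨⟨D, hD⟩, hxD⟩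

/-- Local separatedness of a presheaf on a basis. -/
def Sep (F : Pre B) : Prop :=
  ∀ (U : B) (t t' : F.obj U),
    (∀ x ∈ (U : Opens X), ∃ (D : B) (h : (D : Opens X) ≤ (U : Opens X)),
      x ∈ (D : Opens X) ∧ F.res h t = F.res h t') → t = t'

/-- The hypotheses of the cofinal-systems lemma. -/
structure Cofinal (F : Pre B) (C : ∀ U : B, Set (Cover B)) : Prop where
  hCU : ∀ U, ∀ c ∈ C U, c.U = U
  hC : ∀ (U : B) (ι : Type u) (V : ι → B), (∀ i, (V i : Opens X) ≤ (U : Opens X)) →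
      (U : Opens X) ≤ ⨆ i, (V i : Opens X) →
      ∃ c ∈ C U, ∀ i' : c.ι, ∃ i, (c.V i' : Opens X) ≤ (V i : Opens X)
  glue : ∀ U, ∀ c ∈ C U, GluesUniquely F c

theorem sep_of_cofinal {F : Pre B} {C : ∀ U : B, Set (Cover B)} (h : Cofinal F C) : Sep F := by
  intro U t t' hloc
  obtain ⟨c, hc, href⟩ := h.hC U
    {D : B // ∃ h : (D : Opens X) ≤ (U : Opens X), F.res h t = F.res h t'}
    (fun D => D.1) (fun D => D.2.1) (by
      intro x hx
      obtain ⟨D, hDU, hxD, he⟩ := hloc x hx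
      exact Opens.mem_iSup.mpr ⟨⟨D, hDU, he⟩, hxD⟩)
  have hglue := h.glue U c hc
  have hU := h.hCU U c hc
  subst hU
  obtain ⟨t0, -, huniq⟩ := hglue (fun i' => F.res (c.V_le i') t) (by
    intro i j k; rw [F.res_comp, F.res_comp])
  have h1 := huniq t (fun i => rfl)
  have h2 := huniq t' (by
    intro i'
    obtain ⟨⟨D, hDU, he⟩, hle⟩ := href i'
    have e1 : F.res (c.V_le i') t' = F.res hle (F.res hDU t') := by rw [F.res_comp]
    have e2 : F.res (c.V_le i') t = F.res hle (F.res hDU t) := by rw [F.res_comp]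
    show F.res (c.V_le i') t' = F.res (c.V_le i') t
    rw [e1, e2, he])
  rw [h1, h2]

lemma res_eq_of_local {F : Pre B} (hsep : Sep F) {V1 V2 D : B}
    (h1 : (D : Opens X) ≤ (V1 : Opens X)) (h2 : (D : Opens X) ≤ (V2 : Opens X))
    (s : F.obj V1) (s' : F.obj V2)
    (hloc : ∀ x ∈ (D : Opens X), ∃ (D' : B) (h : (D' : Opens X) ≤ (D : Opens X)),
      x ∈ (D' : Opens X) ∧ F.res (h.trans h1) s = F.res (h.trans h2) s') :
    F.res h1 s = F.res h2 s' := by
  apply hsep
  intro x hx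
  obtain ⟨D', h, hxD', he⟩ := hloc x hx
  refine ⟨D', h, hxD', ?_⟩
  rw [F.res_comp, F.res_comp]
  exact he

theorem glue_of_cofinal (hB : Opens.IsBasis B) {F : Pre B} {C : ∀ U : B, Set (Cover B)}
    (h : Cofinal F C) (U : B) (ι : Type u) (V : ι → B)
    (V_le : ∀ i, (V i : Opens X) ≤ (U : Opens X))
    (V_cover : (U : Opens X) ≤ ⨆ i, (V i : Opens X))
    (s : ∀ i, F.obj (V i))
    (hcompat : ∀ (i j : ι) (D : B) (h1 : (D : Opens X) ≤ V i) (h2 : (D : Opens X) ≤ V j),
      F.res h1 (s i) = F.res h2 (s j)) :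
    ∃! t : F.obj U, ∀ i, F.res (V_le i) t = s i := by
  have hsep := sep_of_cofinal h
  have huniq : ∀ t t' : F.obj U, (∀ i, F.res (V_le i) t = s i) →
      (∀ i, F.res (V_le i) t' = s i) → t = t' := by
    intro t t' ht ht'
    apply hsep
    intro x hx
    obtain ⟨i, hxi⟩ := Opens.mem_iSup.mp (V_cover hx)
    exact ⟨V i, V_le i, hxi, (ht i).trans (ht' i).symm⟩
  obtain ⟨c, hc, href⟩ := h.hC U ι V V_le V_cover
  have hglue := h.glue U c hc
  have hU := h.hCU U c hc
  subst hU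
  choose α hα using href
  obtain ⟨t, ht, -⟩ := hglue (fun i' => F.res (hα i') (s (α i'))) (by
    intro i' j' k
    rw [F.res_comp, F.res_comp]
    exact hcompat _ _ _ _ _)
  refine ⟨t, ?_, fun t' ht' => ?_⟩
  · intro i
    apply hsep
    intro x hx
    obtain ⟨i', hxi'⟩ := Opens.mem_iSup.mp (c.V_cover (V_le i hx))
    obtain ⟨D', hxD', hD'⟩ := exists_basis_mem hB
      (show x ∈ (V i : Opens X) ⊓ (c.V i' : Opens X) from ⟨hx, hxi'⟩)
    refine ⟨D', hD'.trans inf_le_left, hxD', ?_⟩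
    rw [F.res_comp]
    have h2 : (D' : Opens X) ≤ c.V i' := hD'.trans inf_le_right
    have e1 : F.res ((hD'.trans inf_le_left).trans (V_le i)) t =
        F.res h2 (F.res (c.V_le i') t) := by rw [F.res_comp]
    rw [e1, ht i', F.res_comp]
    exact hcompat _ _ _ _ _
  · refine huniq t' t ht' ?_
    intro i
    apply hsep
    intro x hx
    obtain ⟨i', hxi'⟩ := Opens.mem_iSup.mp (c.V_cover (V_le i hx))
    obtain ⟨D', hxD', hD'⟩ := exists_basis_mem hB
      (show x ∈ (V i : Opens X) ⊓ (c.V i' : Opens X) from ⟨hx, hxi'⟩)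
    refine ⟨D', hD'.trans inf_le_left, hxD', ?_⟩
    rw [F.res_comp]
    have h2 : (D' : Opens X) ≤ c.V i' := hD'.trans inf_le_right
    have e1 : F.res ((hD'.trans inf_le_left).trans (V_le i)) t =
        F.res h2 (F.res (c.V_le i') t) := by rw [F.res_comp]
    rw [e1, ht i', F.res_comp]
    exact hcompat _ _ _ _ _

/-- In a separated presheaf, compatibility on a cover of `V i ⊓ V j` gives compatibility on every
member below `V i ⊓ V j`. -/
lemma compat_of_cover (hB : Opens.IsBasis B) {F : Pre B} (hsep : Sep F) (c0 : Cover B)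
    (s : ∀ i, F.obj (c0.V i))
    (hs : ∀ i j k, F.res (c0.W_le_left i j k) (s i) = F.res (c0.W_le_right i j k) (s j))
    (i j : c0.ι) (D : B) (h1 : (D : Opens X) ≤ c0.V i) (h2 : (D : Opens X) ≤ c0.V j) :
    F.res h1 (s i) = F.res h2 (s j) := by
  apply res_eq_of_local hsep
  intro x hx
  have hx' : x ∈ (c0.V i : Opens X) ⊓ (c0.V j : Opens X) := ⟨h1 hx, h2 hx⟩
  obtain ⟨k, hxk⟩ := Opens.mem_iSup.mp (c0.W_cover i j hx')
  obtain ⟨D', hxD', hD'⟩ := exists_basis_mem hB
    (show x ∈ (D : Opens X) ⊓ (c0.W i j k : Opens X) from ⟨hx, hxk⟩)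
  refine ⟨D', hD'.trans inf_le_left, hxD', ?_⟩
  have hDW : (D' : Opens X) ≤ c0.W i j k := hD'.trans inf_le_right
  have := congrArg (F.res hDW) (hs i j k)
  rwa [F.res_comp, F.res_comp] at this

/-- The cofinal-systems lemma. -/
theorem isSheaf_of_cofinal (hB : Opens.IsBasis B) {F : Pre B} {C : ∀ U : B, Set (Cover B)}
    (h : Cofinal F C) : IsSheaf F := by
  intro c0 s hs
  exact glue_of_cofinal hB h c0.U c0.ι c0.V c0.V_le c0.V_cover s
    (compat_of_cover hB (sep_of_cofinal h) c0 s hs)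

/-- A sheaf gives the (trivially) cofinal system of all covers. -/
theorem cofinal_of_isSheaf (hB : Opens.IsBasis B) {F : Pre B} (hF : IsSheaf F) :
    Cofinal F (fun U => {c | c.U = U}) where
  hCU _ _ hc := hc
  hC U ι V V_le V_cover := ⟨mkCover hB U ι V V_le V_cover, rfl, fun i' => ⟨i', le_rfl⟩⟩
  glue _ c _ := hF c

theorem sep_of_isSheaf (hB : Opens.IsBasis B) {F : Pre B} (hF : IsSheaf F) : Sep F :=
  sep_of_cofinal (cofinal_of_isSheaf hB hF)

/-- Gluing in a sheaf on a basis from a family compatible on all members below intersections. -/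
theorem glue_of_isSheaf (hB : Opens.IsBasis B) {F : Pre B} (hF : IsSheaf F)
    (U : B) (ι : Type u) (V : ι → B)
    (V_le : ∀ i, (V i : Opens X) ≤ (U : Opens X))
    (V_cover : (U : Opens X) ≤ ⨆ i, (V i : Opens X))
    (s : ∀ i, F.obj (V i))
    (hcompat : ∀ (i j : ι) (D : B) (h1 : (D : Opens X) ≤ V i) (h2 : (D : Opens X) ≤ V j),
      F.res h1 (s i) = F.res h2 (s j)) :
    ∃! t : F.obj U, ∀ i, F.res (V_le i) t = s i :=
  glue_of_cofinal hB (cofinal_of_isSheaf hB hF) U ι V V_le V_cover s hcompat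

/-! ### Germs -/

lemma stalkRel_equivalence (hB : Opens.IsBasis B) (F : Pre B) (x : X) :
    Equivalence (StalkRel F x) where
  refl a := ⟨a.1.1, a.1.2, le_rfl, le_rfl, rfl⟩
  symm := by
    rintro a b ⟨W, hxW, ha, hb, he⟩
    exact ⟨W, hxW, hb, ha, he.symm⟩
  trans := by
    rintro a b c ⟨W1, hx1, ha1, hb1, he1⟩ ⟨W2, hx2, hb2, hc2, he2⟩
    obtain ⟨D, hxD, hD⟩ := exists_basis_mem hB
      (show x ∈ (W1 : Opens X) ⊓ (W2 : Opens X) from ⟨hx1, hx2⟩)
    have hD1 : (D : Opens X) ≤ W1 := hD.trans inf_le_left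
    have hD2 : (D : Opens X) ≤ W2 := hD.trans inf_le_right
    refine ⟨D, hxD, hD1.trans ha1, hD2.trans hc2, ?_⟩
    have e1 := congrArg (F.res hD1) he1
    have e2 := congrArg (F.res hD2) he2
    rw [F.res_comp, F.res_comp] at e1 e2
    exact e1.trans e2

lemma germ_eq_iff (hB : Opens.IsBasis B) (F : Pre B) {x : X} {U V : B}
    (hxU : x ∈ (U : Opens X)) (hxV : x ∈ (V : Opens X)) (s : F.obj U) (s' : F.obj V) :
    germ F x hxU s = germ F x hxV s' ↔
      ∃ (W : B) (_ : x ∈ (W : Opens X)) (h1 : (W : Opens X) ≤ (U : Opens X))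
        (h2 : (W : Opens X) ≤ (V : Opens X)), F.res h1 s = F.res h2 s' := by
  constructor
  · intro h
    exact (stalkRel_equivalence hB F x).eqvGen_iff.mp (Quot.eqvGen_exact h)
  · rintro ⟨W, hxW, h1, h2, he⟩
    exact Quot.sound ⟨W, hxW, h1, h2, he⟩

lemma germ_res (F : Pre B) {x : X} {U V : B} (h : (V : Opens X) ≤ (U : Opens X))
    (hxV : x ∈ (V : Opens X)) (s : F.obj U) :
    germ F x hxV (F.res h s) = germ F x (h hxV) s := by
  apply Quot.sound
  exact ⟨V, hxV, le_rfl, h, by rw [F.res_comp]⟩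

lemma stalk_exists_rep (F : Pre B) {x : X} (g : Stalk F x) :
    ∃ (U : B) (hxU : x ∈ (U : Opens X)) (s : F.obj U), germ F x hxU s = g := by
  induction g using Quot.ind with
  | mk a => exact ⟨a.1.1, a.1.2, a.2, rfl⟩

end Groth.Agent.Lib.ShBasis
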