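import Groth.Agent.Lib.ShBasis
import Mathlib.Topology.Sheaves.Sheaf
import Mathlib.Topology.Sheaves.SheafCondition.UniqueGluing
import Mathlib.Topology.Sheaves.SheafCondition.Sites

/-!
# Extension of a sheaf of sets on a basis to a sheaf on the space (helper55)

* `ext F`, `ext_isSheaf`, `extSheaf`, `extIso` : the extension and its restriction to the basis.
* `homOfBasis`, `homOfBasis_app` : morphisms of sheaves from morphisms of restrictions to a basis.
* `existsUnique_hom` : uniqueness of the extension.
-/

set_option autoImplicit false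
universe u

namespace Groth.Agent.Lib.ShBasis

open TopologicalSpace ShB Opposite CategoryTheory

variable {X : Type u} [TopologicalSpace X] {B : Set (Opens X)}

/-- Sections over an open `U` of the extension of a presheaf on a basis: compatible families of
sections over the members contained in `U`. -/
def ExtObj (F : Pre B) (U : Opens X) : Type u :=
  {s : ∀ V : B, (V : Opens X) ≤ U → F.obj V //
    ∀ (V W : B) (hV : (V : Opens X) ≤ U) (hWV : (W : Opens X) ≤ (V : Opens X)),
      F.res hWV (s V hV) = s W (hWV.trans hV)}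

/-- Restriction of sections of the extension. -/
def extRes (F : Pre B) {U U' : Opens X} (h : U' ≤ U) (s : ExtObj F U) : ExtObj F U' :=
  ⟨fun V hV => s.1 V (hV.trans h), fun V W hV hWV => s.2 V W (hV.trans h) hWV⟩

/-- The extension presheaf. -/
def ext (F : Pre B) : (Opens (TopCat.of X))ᵒᵖ ⥤ Type u where
  obj U := ExtObj F U.unop
  map f := TypeCat.ofHom (extRes F f.unop.le)
  map_id U := by
    ext s
    rfl
  map_comp f g := by
    ext s
    rfl

@[simp] lemma ext_map_apply (F : Pre B) {U U' : (Opens (TopCat.of X))ᵒᵖ} (f : U ⟶ U')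
    (s : ExtObj F U.unop) : (ext F).map f s = extRes F f.unop.le s := rfl

/-- Key gluing lemma for the extension. -/
lemma ext_key (hB : Opens.IsBasis B) {F : Pre B} (hF : IsSheaf F) {ι : Type u}
    (U : ι → Opens X) (sf : ∀ i, ExtObj F (U i))
    (hsf : ∀ (i j : ι) (E : B) (hi : (E : Opens X) ≤ U i) (hj : (E : Opens X) ≤ U j),
      (sf i).1 E hi = (sf j).1 E hj)
    (V : B) (hV : (V : Opens X) ≤ iSup U) :
    ∃! t : F.obj V, ∀ (i : ι) (D : B) (hD : (D : Opens X) ≤ (V : Opens X) ⊓ U i),
      F.res (hD.trans inf_le_left) t = (sf i).1 D (hD.trans inf_le_right) := by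
  obtain ⟨t, ht, huniq⟩ := glue_of_isSheaf hB hF V
    (Σ i : ι, {D : B // (D : Opens X) ≤ (V : Opens X) ⊓ U i})
    (fun p => p.2.1) (fun p => p.2.2.trans inf_le_left)
    (by
      intro x hx
      obtain ⟨i, hxi⟩ := Opens.mem_iSup.mp (hV hx)
      obtain ⟨D, hxD, hD⟩ := exists_basis_mem hB
        (show x ∈ (V : Opens X) ⊓ U i from ⟨hx, hxi⟩)
      exact Opens.mem_iSup.mpr ⟨⟨i, D, hD⟩, hxD⟩)
    (fun p => (sf p.1).1 p.2.1 (p.2.2.trans inf_le_right))
    (by
      rintro ⟨i, D, hD⟩ ⟨j, D', hD'⟩ E h1 h2
      dsimp only at h1 h2 ⊢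
      rw [(sf i).2 D E _ h1, (sf j).2 D' E _ h2]
      exact hsf i j E _ _)
  refine ⟨t, fun i D hD => ht ⟨i, D, hD⟩, fun t' ht' => huniq t' ?_⟩
  rintro ⟨i, D, hD⟩
  exact ht' i D hD

theorem ext_isSheaf (hB : Opens.IsBasis B) {F : Pre B} (hF : IsSheaf F) :
    TopCat.Presheaf.IsSheaf (X := TopCat.of X) (ext F) := by
  apply TopCat.Presheaf.isSheaf_of_isSheafUniqueGluing_types
  intro ι U sf hcomp
  have hsf : ∀ (i j : ι) (E : B) (hi : (E : Opens X) ≤ U i) (hj : (E : Opens X) ≤ U j),
      (sf i).1 E hi = (sf j).1 E hj := by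
    intro i j E hi hj
    have := congrArg (fun s : ExtObj F (U i ⊓ U j) => s.1 E (le_inf hi hj)) (hcomp i j)
    exact this
  have key := ext_key hB hF U sf hsf
  have ex := fun V hV => (key V hV).exists
  choose t ht using ex
  have hchar : ∀ (V : B) (hV : (V : Opens X) ≤ iSup U) (t' : F.obj V),
      (∀ (i : ι) (D : B) (hD : (D : Opens X) ≤ (V : Opens X) ⊓ U i),
        F.res (hD.trans inf_le_left) t' = (sf i).1 D (hD.trans inf_le_right)) → t' = t V hV :=
    fun V hV t' ht' => (key V hV).unique ht' (ht V hV)
  let gl : ExtObj F (iSup U) := ⟨t, by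
    intro V W hV hWV
    apply hchar
    intro i D hD
    rw [F.res_comp]
    exact ht V hV i D (hD.trans (inf_le_inf_right _ hWV))⟩
  refine ⟨gl, ?_, ?_⟩
  · intro i
    apply Subtype.ext
    funext V hV
    symm
    apply hchar
    intro j D hD
    rw [(sf i).2 V D hV _]
    exact hsf i j D _ _
  · intro gl' hgl'
    apply Subtype.ext
    funext V hV
    apply hchar
    intro i D hD
    rw [gl'.2 V D hV _, ← hgl' i]
    rfl


/-- The extension sheaf. -/
def extSheaf (hB : Opens.IsBasis B) {F : Pre B} (hF : IsSheaf F) :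
    TopCat.Sheaf (Type u) (TopCat.of X) :=
  ⟨ext F, ext_isSheaf hB hF⟩

/-- The restriction of the extension is the original presheaf. -/
def extIso (F : Pre B) : ShB.Iso (ShB.restrict B (ext F)) F where
  hom :=
    { app := fun U (s : ExtObj F U) => s.1 U le_rfl
      natural := by
        intro U V h s
        exact (s : ExtObj F U).2 U V le_rfl h }
  inv :=
    { app := fun U t => (⟨fun V hV => F.res hV t, fun V W hV hWV => F.res_comp hV hWV t⟩ :
        ExtObj F U)
      natural := by
        intro U V h t
        apply Subtype.ext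
        funext W hW
        exact (F.res_comp h hW t).symm }
  hom_inv := by
    intro U s
    apply Subtype.ext
    funext V hV
    exact (s : ExtObj F U).2 U V le_rfl hV
  inv_hom := by
    intro U t
    exact F.res_id U t


section Hom

variable (hB : Opens.IsBasis B) (G G' : TopCat.Sheaf (Type u) (TopCat.of X))

/-- The basis as an indexed family. -/
abbrev basisFam (B : Set (Opens X)) : B → Opens (TopCat.of X) := Subtype.val

lemma isBasis_range (hB : Opens.IsBasis B) : Opens.IsBasis (Set.range (basisFam B)) := by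
  have : Set.range (basisFam B) = B := Subtype.range_coe
  rw [this]
  exact hB

/-- A morphism of the restrictions to the basis as a natural transformation. -/
def natOfHom (α : ShB.Hom (ShB.restrict B G.presheaf) (ShB.restrict B G'.presheaf)) :
    (inducedFunctor (basisFam B)).op ⋙ G.1 ⟶ (inducedFunctor (basisFam B)).op ⋙ G'.1 where
  app U := TypeCat.ofHom (α.app U.unop)
  naturality U V f := by
    ext s
    exact (α.natural (U := U.unop) (V := V.unop) f.unop.hom.le s).symm

/-- Extend a morphism of restrictions to the basis to a morphism of sheaves. -/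
noncomputable def homOfBasis
    (α : ShB.Hom (ShB.restrict B G.presheaf) (ShB.restrict B G'.presheaf)) : G ⟶ G' :=
  ObjectProperty.homMk (TopCat.Sheaf.restrictHomEquivHom G.1 G' (isBasis_range hB) (natOfHom G G' α))

lemma homOfBasis_app (α : ShB.Hom (ShB.restrict B G.presheaf) (ShB.restrict B G'.presheaf))
    (U : B) (s : G.presheaf.obj (op (U : Opens X))) :
    (homOfBasis hB G G' α).1.app (op (U : Opens X)) s = α.app U s := by
  have := TopCat.Sheaf.extend_hom_app G.1 G' (isBasis_range hB) (natOfHom G G' α) U
  exact ConcreteCategory.congr_hom this s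

end Hom


section Uniq

variable (hB : Opens.IsBasis B) {F : Pre B} (G G' : TopCat.Sheaf (Type u) (TopCat.of X))
  (e : ShB.Iso (ShB.restrict B G.presheaf) F) (e' : ShB.Iso (ShB.restrict B G'.presheaf) F)

/-- The composite `e'⁻¹ ∘ e` as a morphism of presheaves on the basis. -/
def transHom : ShB.Hom (ShB.restrict B G.presheaf) (ShB.restrict B G'.presheaf) where
  app U s := e'.inv.app U (e.hom.app U s)
  natural h s := by
    rw [e'.inv.natural h, e.hom.natural h]

include hB in
theorem existsUnique_hom :
    ∃! φ : G ⟶ G', IsIso φ ∧ ∀ (U : B) (s : G.presheaf.obj (op (U : Opens X))),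
        e'.hom.app U (φ.1.app (op (U : Opens X)) s) = e.hom.app U s := by
  refine ⟨homOfBasis hB G G' (transHom G G' e e'), ⟨?_, ?_⟩, ?_⟩
  · apply TopCat.Sheaf.isIso_iff_isIso_basis (isBasis_range hB)
    intro U
    rw [isIso_iff_bijective]
    have hfun : ∀ s, (homOfBasis hB G G' (transHom G G' e e')).1.app (op (U : Opens X)) s =
        e'.inv.app U (e.hom.app U s) := fun s => homOfBasis_app hB G G' _ U s
    constructor
    · intro s s' h
      have h' : e'.inv.app U (e.hom.app U s) = e'.inv.app U (e.hom.app U s') := by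
        rw [← hfun s, ← hfun s']; exact h
      have h2 := congrArg (e'.hom.app U) h'
      rw [e'.inv_hom, e'.inv_hom] at h2
      have h3 := congrArg (e.inv.app U) h2
      rwa [e.hom_inv, e.hom_inv] at h3
    · intro t
      refine ⟨e.inv.app U (e'.hom.app U t), ?_⟩
      have := hfun (e.inv.app U (e'.hom.app U t))
      rw [e.inv_hom, e'.hom_inv] at this
      exact this
  · intro U s
    rw [homOfBasis_app]
    exact e'.inv_hom U _
  · rintro ψ ⟨-, hψ⟩
    apply ObjectProperty.hom_ext
    apply TopCat.Sheaf.hom_ext G.1 G' (isBasis_range hB)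
    intro U
    ext s
    have h1 : ψ.1.app (op (U : Opens X)) s = e'.inv.app U (e.hom.app U s) := by
      rw [← hψ U s, e'.hom_inv]
    have h2 := homOfBasis_app hB G G' (transHom G G' e e') U s
    exact h1.trans h2.symm

end Uniq

end Groth.Agent.Lib.ShBasis
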