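import Mathlib
import Groth.Agent.S9460
import Groth.Agent.Lib.ShBaseChange61
import Groth.Agent.Lib.StrictHenselization
import Groth.Agent.Lib.StrictHenselizationMax
import Groth.Agent.Lib.StrictHenselizationTransport61

/-!
# Strict henselizations as strict henselizations of localizations of tensor products (helper61)

`R → S` a ring map, `q` a prime of `S` over `p`, `Rh` a strict henselization of `R_p` and `A` a
strict henselization of `S_q`.

* `exists_model`: there is a ring map `φ : Rh ⊗[R] S → A`, restricting to the structure map on `S`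
  and to a local homomorphism on `Rh`, such that `A` is a strict henselization of the localization
  of `Rh ⊗[R] S` at `Q = φ⁻¹(m_A)` (a repackaging of S9460).
* `isMaximal_comap`: if moreover `S/q` is algebraic over `R/p`, then `Q` is a maximal ideal.
-/

set_option autoImplicit false
universe u

namespace Groth.Agent.Lib.ShTensorModel61

open IsLocalRing TensorProduct

theorem exists_model (R : Type u) [CommRing R] (S : Type u) [CommRing S] [Algebra R S]
    (p : Ideal R) [p.IsPrime] (q : Ideal S) [q.IsPrime] [q.LiesOver p]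
    (Rh : Type u) [CommRing Rh] [IsLocalRing Rh] [Algebra (Localization.AtPrime p) Rh]
    [IsLocalHom (algebraMap (Localization.AtPrime p) Rh)]
    [Hensel.IsStrictHenselization (Localization.AtPrime p) Rh] [Algebra R Rh]
    [IsScalarTower R (Localization.AtPrime p) Rh]
    (A : Type u) [CommRing A] [IsLocalRing A] [Algebra (Localization.AtPrime q) A]
    [IsLocalHom (algebraMap (Localization.AtPrime q) A)]
    [Hensel.IsStrictHenselization (Localization.AtPrime q) A] :
    ∃ (φ : Rh ⊗[R] S →+* A) (Q : Ideal (Rh ⊗[R] S)) (_ : Q.IsPrime)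
      (_ : Algebra (Localization.AtPrime Q) A)
      (_ : IsLocalHom (algebraMap (Localization.AtPrime Q) A)),
      Q = Ideal.comap φ (maximalIdeal A) ∧
      (∀ s : S, φ (1 ⊗ₜ[R] s) = algebraMap (Localization.AtPrime q) A
        (algebraMap S (Localization.AtPrime q) s)) ∧
      (∀ x ∈ maximalIdeal Rh, φ (x ⊗ₜ[R] 1) ∈ maximalIdeal A) ∧
      Hensel.IsStrictHenselization (Localization.AtPrime Q) A ∧
      ∀ c : Rh ⊗[R] S, algebraMap (Localization.AtPrime Q) A
        (algebraMap (Rh ⊗[R] S) (Localization.AtPrime Q) c) = φ c := by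
  classical
  have hqp : p = q.comap (algebraMap R S) := Ideal.LiesOver.over
  let _ : Algebra S A := ((algebraMap (Localization.AtPrime q) A).comp
    (algebraMap S (Localization.AtPrime q))).toAlgebra
  have ht2 : IsScalarTower S (Localization.AtPrime q) A := IsScalarTower.of_algebraMap_eq fun _ => rfl
  let _ : Algebra R A := ((algebraMap S A).comp (algebraMap R S)).toAlgebra
  have ht3 : IsScalarTower R S A := IsScalarTower.of_algebraMap_eq fun _ => rfl
  let _ : Algebra (Localization.AtPrime p) (Localization.AtPrime q) :=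
    (Localization.localRingHom p q (algebraMap R S) hqp).toAlgebra
  have hloc1 : IsLocalHom (algebraMap (Localization.AtPrime p) (Localization.AtPrime q)) :=
    Localization.isLocalHom_localRingHom p q (algebraMap R S) hqp
  obtain ⟨γ, hγ⟩ := Groth.Agent.Lib.ShBaseChange61.exists_lift' (Localization.AtPrime p) Rh
    (Localization.AtPrime q) A
  let _ : Algebra Rh A := γ.toAlgebra
  have hγ' : ∀ x : Localization.AtPrime p, γ (algebraMap _ Rh x) =
      algebraMap (Localization.AtPrime q) A (Localization.localRingHom p q (algebraMap R S) hqp x) :=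
    fun x => congrArg (fun k : Localization.AtPrime p →+* A => k x) hγ
  have ht4 : IsScalarTower R Rh A := IsScalarTower.of_algebraMap_eq fun r => by
    change algebraMap (Localization.AtPrime q) A (algebraMap S _ (algebraMap R S r)) =
      γ (algebraMap R Rh r)
    rw [IsScalarTower.algebraMap_apply R (Localization.AtPrime p) Rh, hγ',
      Localization.localRingHom_to_map]
  have hγloc : ∀ x ∈ maximalIdeal Rh, γ x ∈ maximalIdeal A := by
    intro x hx
    rw [← Groth.Agent.Lib.StrictHenselizationMax.map_maximalIdeal_eq (Localization.AtPrime p) Rh]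
      at hx
    have hle : (maximalIdeal (Localization.AtPrime p)).map (algebraMap _ Rh) ≤
        (maximalIdeal A).comap γ := by
      rw [Ideal.map_le_iff_le_comap]
      intro y hy
      rw [Ideal.mem_comap, Ideal.mem_comap, hγ']
      have h1 : Localization.localRingHom p q (algebraMap R S) hqp y ∈
          maximalIdeal (Localization.AtPrime q) := by
        rw [mem_maximalIdeal] at hy ⊢
        exact fun hu => hy (isUnit_of_map_unit
          (algebraMap (Localization.AtPrime p) (Localization.AtPrime q)) y hu)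
      rw [mem_maximalIdeal] at h1 ⊢
      exact fun hu => h1 (isUnit_of_map_unit (algebraMap (Localization.AtPrime q) A) _ hu)
    exact hle hx
  have hQprime : (Ideal.comap (Algebra.TensorProduct.lift (IsScalarTower.toAlgHom R Rh A)
      (IsScalarTower.toAlgHom R S A) (fun _ _ => Commute.all _ _)) (maximalIdeal A)).IsPrime :=
    Ideal.comap_isPrime _ _
  obtain ⟨E, _, _, _, _, hE⟩ :=
    Groth.Agent.Lib.StrictHenselization.exists_isStrictHenselization
      (Localization.AtPrime (Ideal.comap (Algebra.TensorProduct.lift (IsScalarTower.toAlgHom R Rh A)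
        (IsScalarTower.toAlgHom R S A) (fun _ _ => Commute.all _ _)) (maximalIdeal A)))
  obtain ⟨e, he⟩ := Groth.Agent.S9460.result R S p q Rh A E
  let alg : Algebra (Localization.AtPrime (Ideal.comap (Algebra.TensorProduct.lift
      (IsScalarTower.toAlgHom R Rh A) (IsScalarTower.toAlgHom R S A)
      (fun _ _ => Commute.all _ _)) (maximalIdeal A))) A :=
    ((e : E →+* A).comp (algebraMap _ E)).toAlgebra
  have hloc : IsLocalHom (algebraMap (Localization.AtPrime (Ideal.comap
      (Algebra.TensorProduct.lift (IsScalarTower.toAlgHom R Rh A) (IsScalarTower.toAlgHom R S A)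
      (fun _ _ => Commute.all _ _)) (maximalIdeal A))) A) :=
    Groth.Agent.Lib.StrictHenselizationTransport61.isLocalHom_of_ringEquiv_top _ E A e
      (fun _ => rfl)
  refine ⟨(Algebra.TensorProduct.lift (IsScalarTower.toAlgHom R Rh A)
      (IsScalarTower.toAlgHom R S A) (fun _ _ => Commute.all _ _)).toRingHom, _, hQprime, alg, hloc,
    rfl, ?_, ?_, ?_, ?_⟩
  · intro s
    change (Algebra.TensorProduct.lift (IsScalarTower.toAlgHom R Rh A)
      (IsScalarTower.toAlgHom R S A) (fun _ _ => Commute.all _ _)) (1 ⊗ₜ[R] s) = _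
    rw [Algebra.TensorProduct.lift_tmul, map_one, one_mul]
    rfl
  · intro x hx
    change (Algebra.TensorProduct.lift (IsScalarTower.toAlgHom R Rh A)
      (IsScalarTower.toAlgHom R S A) (fun _ _ => Commute.all _ _)) (x ⊗ₜ[R] 1) ∈ _
    rw [Algebra.TensorProduct.lift_tmul, map_one, mul_one]
    exact hγloc x hx
  · exact Groth.Agent.Lib.StrictHenselizationTransport61.isStrictHenselization_of_ringEquiv_top
      _ E A e (fun _ => rfl)
  · intro c
    exact he c

section Maximal

variable (R : Type u) [CommRing R] (S : Type u) [CommRing S] [Algebra R S]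
  (p : Ideal R) [p.IsPrime] (q : Ideal S) [q.IsPrime] [q.LiesOver p]
  (Rh : Type u) [CommRing Rh] [IsLocalRing Rh] [Algebra R Rh]
  (A : Type u) [CommRing A] [IsLocalRing A] (φ : Rh ⊗[R] S →+* A)

/-- `Q ∩ Rh = m_Rh`. -/
theorem comap_includeLeft_eq (h1 : ∀ x ∈ maximalIdeal Rh, φ (x ⊗ₜ[R] 1) ∈ maximalIdeal A) :
    (Ideal.comap φ (maximalIdeal A)).comap (algebraMap Rh (Rh ⊗[R] S)) = maximalIdeal Rh := by
  ext x
  rw [Ideal.mem_comap, Ideal.mem_comap, Algebra.TensorProduct.algebraMap_apply,
    Algebra.algebraMap_self, RingHom.id_apply]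
  refine ⟨fun hx => ?_, fun hx => h1 x hx⟩
  by_contra hxm
  have hu : IsUnit x := by
    by_contra hnu
    exact hxm ((mem_maximalIdeal x).mpr hnu)
  have hu' : IsUnit (φ (x ⊗ₜ[R] (1 : S))) := by
    have h3 : IsUnit (algebraMap Rh (Rh ⊗[R] S) x) := hu.map _
    rw [Algebra.TensorProduct.algebraMap_apply, Algebra.algebraMap_self, RingHom.id_apply] at h3
    exact h3.map φ
  exact (mem_maximalIdeal _).mp hx hu'

omit [p.IsPrime] [q.IsPrime] in
/-- If `S/q` is algebraic over `R/p` then `Q = φ⁻¹(m_A)` is a maximal ideal of `Rh ⊗[R] S`. -/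
theorem isMaximal_comap [Algebra.IsAlgebraic (R ⧸ p) (S ⧸ q)]
    (hp : ∀ r ∈ p, algebraMap R Rh r ∈ maximalIdeal Rh)
    (hp' : ∀ r : R, r ∉ p → IsUnit (algebraMap R Rh r))
    (h1 : ∀ x ∈ maximalIdeal Rh, φ (x ⊗ₜ[R] 1) ∈ maximalIdeal A)
    (h2 : ∀ s ∈ q, φ (1 ⊗ₜ[R] s) ∈ maximalIdeal A) :
    (Ideal.comap φ (maximalIdeal A)).IsMaximal := by
  classical
  have hQprime : (Ideal.comap φ (maximalIdeal A)).IsPrime := Ideal.comap_isPrime _ _
  -- the residue field of `Rh` maps to the quotient
  let ι₀ : Rh →+* (Rh ⊗[R] S) ⧸ Ideal.comap φ (maximalIdeal A) :=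
    (Ideal.Quotient.mk _).comp (algebraMap Rh (Rh ⊗[R] S))
  have hι₀ : ∀ x ∈ maximalIdeal Rh, ι₀ x = 0 := by
    intro x hx
    change Ideal.Quotient.mk _ (algebraMap Rh (Rh ⊗[R] S) x) = 0
    rw [Ideal.Quotient.eq_zero_iff_mem, Ideal.mem_comap, Algebra.TensorProduct.algebraMap_apply,
      Algebra.algebraMap_self, RingHom.id_apply]
    exact h1 x hx
  let ι : ResidueField Rh →+* (Rh ⊗[R] S) ⧸ Ideal.comap φ (maximalIdeal A) :=
    Ideal.Quotient.lift (maximalIdeal Rh) ι₀ hι₀
  let _ : Algebra (ResidueField Rh) ((Rh ⊗[R] S) ⧸ Ideal.comap φ (maximalIdeal A)) := ι.toAlgebra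
  have hι : ∀ x : Rh, algebraMap (ResidueField Rh) ((Rh ⊗[R] S) ⧸ Ideal.comap φ (maximalIdeal A))
      (residue Rh x) = Ideal.Quotient.mk _ (x ⊗ₜ[R] (1 : S)) := by
    intro x
    change ι₀ x = _
    change Ideal.Quotient.mk _ (algebraMap Rh (Rh ⊗[R] S) x) = _
    rw [Algebra.TensorProduct.algebraMap_apply, Algebra.algebraMap_self, RingHom.id_apply]
  -- `R/p → κ(Rh)`
  let f : R ⧸ p →+* ResidueField Rh :=
    Ideal.Quotient.lift p ((residue Rh).comp (algebraMap R Rh)) (fun r hr => by
      rw [RingHom.comp_apply, residue_eq_zero_iff]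
      exact hp r hr)
  have hf : Function.Injective f := by
    rw [injective_iff_map_eq_zero]
    intro x hx
    obtain ⟨r, rfl⟩ := Ideal.Quotient.mk_surjective x
    change residue Rh (algebraMap R Rh r) = 0 at hx
    rw [residue_eq_zero_iff] at hx
    rw [Ideal.Quotient.eq_zero_iff_mem]
    by_contra hr
    exact (mem_maximalIdeal _).mp hx (hp' r hr)
  -- `S/q → C/Q`
  let g : S ⧸ q →+* (Rh ⊗[R] S) ⧸ Ideal.comap φ (maximalIdeal A) :=
    Ideal.Quotient.lift q ((Ideal.Quotient.mk _).comp
      (Algebra.TensorProduct.includeRight : S →ₐ[R] Rh ⊗[R] S).toRingHom) (fun s hs => by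
      rw [RingHom.comp_apply, Ideal.Quotient.eq_zero_iff_mem, Ideal.mem_comap]
      exact h2 s hs)
  have hg : ∀ s : S, g (Ideal.Quotient.mk q s) = Ideal.Quotient.mk _ ((1 : Rh) ⊗ₜ[R] s) :=
    fun s => rfl
  have hsq : (algebraMap (ResidueField Rh) ((Rh ⊗[R] S) ⧸ Ideal.comap φ (maximalIdeal A))).comp f =
      g.comp (algebraMap (R ⧸ p) (S ⧸ q)) := by
    ext r
    change algebraMap (ResidueField Rh) _ (residue Rh (algebraMap R Rh r)) =
      g (Ideal.Quotient.mk q (algebraMap R S r))
    rw [hι, hg, Algebra.algebraMap_eq_smul_one, Algebra.algebraMap_eq_smul_one,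
      TensorProduct.smul_tmul]
  have hint : Algebra.IsIntegral (ResidueField Rh)
      ((Rh ⊗[R] S) ⧸ Ideal.comap φ (maximalIdeal A)) := by
    refine ⟨fun y => ?_⟩
    obtain ⟨c, rfl⟩ := Ideal.Quotient.mk_surjective y
    induction c using TensorProduct.induction_on with
    | zero => rw [map_zero]; exact isIntegral_zero
    | tmul x s =>
      have h3 : x ⊗ₜ[R] s = (x ⊗ₜ[R] (1 : S)) * ((1 : Rh) ⊗ₜ[R] s) := by
        rw [Algebra.TensorProduct.tmul_mul_tmul, mul_one, one_mul]
      rw [h3, map_mul]
      refine IsIntegral.mul ?_ ?_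
      · rw [← hι]
        exact isIntegral_algebraMap
      · rw [← hg]
        exact ((Algebra.IsAlgebraic.isAlgebraic (R := R ⧸ p)
          (Ideal.Quotient.mk q s)).ringHom_of_comp_eq f g hf hsq).isIntegral
    | add a b ha hb => rw [map_add]; exact ha.add hb
  have hfield : IsField ((Rh ⊗[R] S) ⧸ Ideal.comap φ (maximalIdeal A)) :=
    isField_of_isIntegral_of_isField' (Field.toIsField (ResidueField Rh))
  exact Ideal.Quotient.maximal_of_isField _ hfield

end Maximal

end Groth.Agent.Lib.ShTensorModel61
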