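import Mathlib
import Groth.Agent.Lib.ShTensorModel61
import Groth.Agent.Lib.AdicDim
import Groth.Agent.S0540

/-!
# Strict henselizations of finite type algebras over a DVR at primes over the closed point (helper61)

`exists_closed_model_dvr`: `R` a DVR, `B` a finite type `R`-algebra, `𝔭` a prime of `B` over the
maximal ideal of `R`, `A` a strict henselization of `B_𝔭`. Then there are a strictly henselian DVR
`R'`, a finite type `R'`-algebra `C` and a MAXIMAL ideal `Q` of `C` over the maximal ideal of `R'`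
such that `A` is a strict henselization of `C_Q`.
-/

set_option autoImplicit false
universe u

namespace Groth.Agent.Lib.ShClosedModelDVR61

open IsLocalRing TensorProduct

theorem exists_closed_model_dvr (R : Type u) [CommRing R] [IsDomain R] [IsDiscreteValuationRing R]
    (B : Type u) [CommRing B] [Algebra R B] [Algebra.FiniteType R B] (𝔭 : Ideal B) [𝔭.IsPrime]
    [𝔭.LiesOver (maximalIdeal R)]
    (A : Type u) [CommRing A] [IsLocalRing A] [Algebra (Localization.AtPrime 𝔭) A]
    [IsLocalHom (algebraMap (Localization.AtPrime 𝔭) A)]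
    [Hensel.IsStrictHenselization (Localization.AtPrime 𝔭) A] :
    ∃ (R' : Type u) (_ : CommRing R') (_ : IsDomain R') (_ : IsDiscreteValuationRing R')
      (_ : HenselianLocalRing R') (_ : IsSepClosed (ResidueField R'))
      (C : Type u) (_ : CommRing C) (_ : Algebra R' C) (_ : Algebra.FiniteType R' C)
      (Q : Ideal C) (_ : Q.IsMaximal) (_ : Q.comap (algebraMap R' C) = maximalIdeal R')
      (_ : Algebra (Localization.AtPrime Q) A)
      (_ : IsLocalHom (algebraMap (Localization.AtPrime Q) A)),
      Hensel.IsStrictHenselization (Localization.AtPrime Q) A := by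
  classical
  -- `B/𝔭` is of finite type over the residue field `κ = R/m`
  have hftD : Algebra.FiniteType (R ⧸ maximalIdeal R) (B ⧸ 𝔭) := by
    have h1 : Algebra.FiniteType R (B ⧸ 𝔭) :=
      Algebra.FiniteType.of_surjective (Ideal.Quotient.mkₐ R 𝔭) Ideal.Quotient.mk_surjective
    exact Algebra.FiniteType.of_restrictScalars_finiteType R (R ⧸ maximalIdeal R) (B ⧸ 𝔭)
  obtain ⟨S₀, hS₀⟩ := hftD.out
  have halg0 : Algebra.IsAlgebraic (Algebra.adjoin (R ⧸ maximalIdeal R) (S₀ : Set (B ⧸ 𝔭)))
      (B ⧸ 𝔭) := by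
    refine ⟨fun d => ?_⟩
    have hd : d ∈ Algebra.adjoin (R ⧸ maximalIdeal R) (S₀ : Set (B ⧸ 𝔭)) := by
      rw [hS₀]; trivial
    exact isAlgebraic_algebraMap
      (⟨d, hd⟩ : Algebra.adjoin (R ⧸ maximalIdeal R) (S₀ : Set (B ⧸ 𝔭)))
  obtain ⟨t, htS, ht⟩ := exists_isTranscendenceBasis_subset (R := R ⧸ maximalIdeal R)
    (S₀ : Set (B ⧸ 𝔭))
  have htfin : Finite t := (S₀.finite_toSet.subset htS).to_subtype
  have hsurj : ∀ i : t, ∃ b : B, Ideal.Quotient.mk 𝔭 b = i.1 :=
    fun i => Ideal.Quotient.mk_surjective i.1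
  choose b hb using hsurj
  let _ : Algebra (MvPolynomial t R) B :=
    (MvPolynomial.aeval b : MvPolynomial t R →ₐ[R] B).toRingHom.toAlgebra
  have halg : ∀ P : MvPolynomial t R, algebraMap (MvPolynomial t R) B P = MvPolynomial.aeval b P :=
    fun _ => rfl
  have htower : IsScalarTower R (MvPolynomial t R) B := IsScalarTower.of_algebraMap_eq fun c => by
    rw [halg, MvPolynomial.algebraMap_eq, MvPolynomial.aeval_C]
  have hft : Algebra.FiniteType (MvPolynomial t R) B :=
    Algebra.FiniteType.of_restrictScalars_finiteType R (MvPolynomial t R) B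
  -- the key identity
  have hmk : ∀ P : MvPolynomial t R, Ideal.Quotient.mk 𝔭 (algebraMap (MvPolynomial t R) B P) =
      MvPolynomial.aeval ((↑) : t → B ⧸ 𝔭)
        (MvPolynomial.map (Ideal.Quotient.mk (maximalIdeal R)) P) := by
    intro P
    rw [halg]
    induction P using MvPolynomial.induction_on with
    | C r =>
      rw [MvPolynomial.aeval_C, MvPolynomial.map_C, MvPolynomial.aeval_C]
      rfl
    | add P P' hP hP' => rw [map_add, map_add, map_add, map_add, hP, hP']
    | mul_X P i hP =>
      rw [map_mul, map_mul, map_mul, map_mul, hP, MvPolynomial.aeval_X, MvPolynomial.map_X,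
        MvPolynomial.aeval_X, hb]
  have hp : 𝔭.comap (algebraMap (MvPolynomial t R) B) =
      Ideal.map (MvPolynomial.C : R →+* MvPolynomial t R) (maximalIdeal R) := by
    have h1 : Ideal.map (MvPolynomial.C : R →+* MvPolynomial t R) (maximalIdeal R) =
        RingHom.ker (MvPolynomial.map (Ideal.Quotient.mk (maximalIdeal R)) :
          MvPolynomial t R →+* MvPolynomial t (R ⧸ maximalIdeal R)) := by
      rw [MvPolynomial.ker_map, Ideal.mk_ker]
    rw [h1]
    ext P
    rw [Ideal.mem_comap, ← Ideal.Quotient.eq_zero_iff_mem, hmk, RingHom.mem_ker]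
    constructor
    · intro h
      exact ht.1 (by rw [h, map_zero])
    · intro h
      rw [h, map_zero]
  have hlies : 𝔭.LiesOver (𝔭.comap (algebraMap (MvPolynomial t R) B)) := ⟨rfl⟩
  -- `B/𝔭` is algebraic over `R[t]/p`
  have halgebraic : Algebra.IsAlgebraic
      (MvPolynomial t R ⧸ 𝔭.comap (algebraMap (MvPolynomial t R) B)) (B ⧸ 𝔭) := by
    have h1 := ht.isAlgebraic
    let f₀ : MvPolynomial t R ⧸ 𝔭.comap (algebraMap (MvPolynomial t R) B) →+*
        MvPolynomial t (R ⧸ maximalIdeal R) :=
      Ideal.Quotient.lift _ (MvPolynomial.map (Ideal.Quotient.mk (maximalIdeal R))) (by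
        intro P hP
        rw [hp, ← Ideal.mk_ker (I := maximalIdeal R), ← MvPolynomial.ker_map] at hP
        exact hP)
    have hf₀ : Function.Surjective f₀ := by
      intro y
      obtain ⟨P, rfl⟩ := MvPolynomial.map_surjective (Ideal.Quotient.mk (maximalIdeal R))
        Ideal.Quotient.mk_surjective y
      exact ⟨Ideal.Quotient.mk _ P, rfl⟩
    refine Algebra.IsAlgebraic.of_ringHom_of_comp_eq
      (S := Algebra.adjoin (R ⧸ maximalIdeal R) (Set.range ((↑) : t → B ⧸ 𝔭))) (B := B ⧸ 𝔭)
      ((ht.1.aevalEquiv : MvPolynomial t (R ⧸ maximalIdeal R) →+* _).comp f₀)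
      (RingHom.id (B ⧸ 𝔭)) (ht.1.aevalEquiv.surjective.comp hf₀) Function.injective_id ?_
    refine RingHom.ext fun P => ?_
    obtain ⟨P, rfl⟩ := Ideal.Quotient.mk_surjective P
    simp only [RingHom.comp_apply]
    change ((ht.1.aevalEquiv (MvPolynomial.map (Ideal.Quotient.mk (maximalIdeal R)) P) :
      Algebra.adjoin (R ⧸ maximalIdeal R) _) : B ⧸ 𝔭) =
      Ideal.Quotient.mk 𝔭 (algebraMap (MvPolynomial t R) B P)
    rw [AlgebraicIndependent.aevalEquiv_apply_coe, hmk]
  -- the strict henselization of `R[t]_p`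
  obtain ⟨Rh, _, _, _, _, hRh⟩ :=
    Groth.Agent.Lib.StrictHenselization.exists_isStrictHenselization
      (Localization.AtPrime (𝔭.comap (algebraMap (MvPolynomial t R) B)))
  let _ : Algebra (MvPolynomial t R) Rh :=
    ((algebraMap (Localization.AtPrime (𝔭.comap (algebraMap (MvPolynomial t R) B))) Rh).comp
      (algebraMap (MvPolynomial t R) _)).toAlgebra
  have ht1 : IsScalarTower (MvPolynomial t R)
      (Localization.AtPrime (𝔭.comap (algebraMap (MvPolynomial t R) B))) Rh :=
    IsScalarTower.of_algebraMap_eq fun _ => rfl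
  obtain ⟨φ, Q, hQprime, alg, hloc, hQ, hφS, hφR, hsh, hcompat⟩ :=
    Groth.Agent.Lib.ShTensorModel61.exists_model (MvPolynomial t R) B
      (𝔭.comap (algebraMap (MvPolynomial t R) B)) 𝔭 Rh A
  have hunit : ∀ r : MvPolynomial t R, r ∉ 𝔭.comap (algebraMap (MvPolynomial t R) B) →
      IsUnit (algebraMap (MvPolynomial t R) Rh r) := by
    intro r hr
    rw [IsScalarTower.algebraMap_apply (MvPolynomial t R)
      (Localization.AtPrime (𝔭.comap (algebraMap (MvPolynomial t R) B))) Rh]
    exact (IsLocalization.map_units _ (⟨r, hr⟩ :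
      (𝔭.comap (algebraMap (MvPolynomial t R) B)).primeCompl)).map _
  have hmem : ∀ r ∈ 𝔭.comap (algebraMap (MvPolynomial t R) B),
      algebraMap (MvPolynomial t R) Rh r ∈ maximalIdeal Rh := by
    intro r hr
    rw [IsScalarTower.algebraMap_apply (MvPolynomial t R)
      (Localization.AtPrime (𝔭.comap (algebraMap (MvPolynomial t R) B))) Rh]
    have h1 : algebraMap (MvPolynomial t R)
        (Localization.AtPrime (𝔭.comap (algebraMap (MvPolynomial t R) B))) r ∈
        maximalIdeal (Localization.AtPrime (𝔭.comap (algebraMap (MvPolynomial t R) B))) :=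
      (IsLocalization.AtPrime.to_map_mem_maximal_iff _
        (𝔭.comap (algebraMap (MvPolynomial t R) B)) _).mpr hr
    rw [mem_maximalIdeal] at h1 ⊢
    exact fun hu => h1 (isUnit_of_map_unit (algebraMap _ Rh) _ hu)
  have hφq : ∀ x ∈ 𝔭, φ ((1 : Rh) ⊗ₜ[MvPolynomial t R] x) ∈ maximalIdeal A := by
    intro x hx
    rw [hφS]
    have h1 : algebraMap B (Localization.AtPrime 𝔭) x ∈ maximalIdeal (Localization.AtPrime 𝔭) :=
      (IsLocalization.AtPrime.to_map_mem_maximal_iff (Localization.AtPrime 𝔭) 𝔭 _).mpr hx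
    rw [mem_maximalIdeal] at h1 ⊢
    exact fun hu => h1 (isUnit_of_map_unit (algebraMap (Localization.AtPrime 𝔭) A) _ hu)
  have hQmax : Q.IsMaximal := by
    rw [hQ]
    exact Groth.Agent.Lib.ShTensorModel61.isMaximal_comap (MvPolynomial t R) B
      (𝔭.comap (algebraMap (MvPolynomial t R) B)) 𝔭 Rh A φ hmem hunit hφR hφq
  have hQover : Q.comap (algebraMap Rh (Rh ⊗[MvPolynomial t R] B)) = maximalIdeal Rh := by
    rw [hQ]
    exact Groth.Agent.Lib.ShTensorModel61.comap_includeLeft_eq (MvPolynomial t R) B Rh A φ hφR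
  -- `Rh` is a strictly henselian discrete valuation ring
  have hNoeth : IsNoetherianRing Rh :=
    (Groth.Agent.S0540.result
      (Localization.AtPrime (𝔭.comap (algebraMap (MvPolynomial t R) B))) Rh).mp inferInstance
  obtain ⟨π, hπ⟩ := IsDiscreteValuationRing.exists_irreducible R
  have hπm : maximalIdeal R = Ideal.span {π} := hπ.maximalIdeal_eq
  have hmax1 : maximalIdeal (Localization.AtPrime (𝔭.comap (algebraMap (MvPolynomial t R) B))) =
      Ideal.span {algebraMap (MvPolynomial t R) _ (MvPolynomial.C π)} := by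
    rw [← IsLocalization.AtPrime.map_eq_maximalIdeal
      (𝔭.comap (algebraMap (MvPolynomial t R) B))
      (Localization.AtPrime (𝔭.comap (algebraMap (MvPolynomial t R) B)))]
    have h0 : ∀ I : Ideal (MvPolynomial t R), I = Ideal.span {MvPolynomial.C π} →
        Ideal.map (algebraMap (MvPolynomial t R)
          (Localization.AtPrime (𝔭.comap (algebraMap (MvPolynomial t R) B)))) I =
        Ideal.span {algebraMap (MvPolynomial t R) _ (MvPolynomial.C π)} :=
      fun I h => by rw [h, Ideal.map_span, Set.image_singleton]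
    refine h0 _ ?_
    rw [hp, hπm, Ideal.map_span, Set.image_singleton]
  have hmax2 : maximalIdeal Rh = Ideal.span {algebraMap (MvPolynomial t R) Rh (MvPolynomial.C π)} := by
    rw [← Groth.Agent.Lib.StrictHenselizationMax.map_maximalIdeal_eq
      (Localization.AtPrime (𝔭.comap (algebraMap (MvPolynomial t R) B))) Rh, hmax1, Ideal.map_span,
      Set.image_singleton]
    rfl
  have hinj1 : Function.Injective (algebraMap (MvPolynomial t R)
      (Localization.AtPrime (𝔭.comap (algebraMap (MvPolynomial t R) B)))) :=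
    IsLocalization.injective _
      (Ideal.primeCompl_le_nonZeroDivisors (𝔭.comap (algebraMap (MvPolynomial t R) B)))
  have hff : Module.FaithfullyFlat
      (Localization.AtPrime (𝔭.comap (algebraMap (MvPolynomial t R) B))) Rh :=
    Groth.Agent.Lib.StrictHenselization.faithfullyFlat_of_isStrictHenselization _ Rh
  have hinj2 : Function.Injective (algebraMap
      (Localization.AtPrime (𝔭.comap (algebraMap (MvPolynomial t R) B))) Rh) :=
    FaithfulSMul.algebraMap_injective _ Rh
  have hnil : ¬ IsNilpotent (algebraMap (MvPolynomial t R) Rh (MvPolynomial.C π)) := by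
    rintro ⟨n, hn⟩
    rw [← map_pow, ← map_pow, IsScalarTower.algebraMap_apply (MvPolynomial t R)
      (Localization.AtPrime (𝔭.comap (algebraMap (MvPolynomial t R) B))) Rh] at hn
    have h1 := hinj1 (hinj2 (by rw [hn, map_zero, map_zero]) :
      algebraMap (MvPolynomial t R) _ (MvPolynomial.C (π ^ n)) = algebraMap (MvPolynomial t R) _ 0)
    have h2 : π ^ n = 0 := MvPolynomial.C_injective t R (by rw [h1, map_zero])
    exact hπ.ne_zero (pow_eq_zero_iff (fun h => by rw [h, pow_zero] at h2; exact one_ne_zero h2)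
      |>.mp h2)
  obtain ⟨hdom, hdvr⟩ :=
    Groth.Agent.Lib.AdicDim.exists_isDiscreteValuationRing_of_maximalIdeal_eq_span_singleton
      hmax2 hnil
  have hhens : HenselianLocalRing Rh :=
    Hensel.IsStrictHenselization.henselian
      (R := Localization.AtPrime (𝔭.comap (algebraMap (MvPolynomial t R) B)))
  have hsc : IsSepClosed (ResidueField Rh) :=
    (Hensel.IsStrictHenselization.isSepClosure
      (R := Localization.AtPrime (𝔭.comap (algebraMap (MvPolynomial t R) B))) (S := Rh)).sep_closed
  have hftC : Algebra.FiniteType Rh (Rh ⊗[MvPolynomial t R] B) := inferInstance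
  exact ⟨Rh, inferInstance, hdom, hdvr, hhens, hsc, Rh ⊗[MvPolynomial t R] B, inferInstance,
    inferInstance, hftC, Q, hQmax, hQover, alg, hloc, hsh⟩

end Groth.Agent.Lib.ShClosedModelDVR61
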