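import Mathlib
import Groth.Agent.Lib.ShTensorModel61

/-!
# Strict henselizations of finite type algebras over a field at arbitrary primes (helper61)

`exists_closed_model_field`: `B` a finite type algebra over a field `k`, `𝔭` a prime of `B`, `A` a
strict henselization of `B_𝔭`. Then there are a separably closed field `k'`, a finite type
`k'`-algebra `C` and a MAXIMAL ideal `Q` of `C` such that `A` is a strict henselization of `C_Q`.
-/

set_option autoImplicit false
universe u

namespace Groth.Agent.Lib.ShClosedModelField61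

open IsLocalRing TensorProduct

theorem exists_closed_model_field (k : Type u) [Field k] (B : Type u) [CommRing B] [Algebra k B]
    [Algebra.FiniteType k B] (𝔭 : Ideal B) [𝔭.IsPrime]
    (A : Type u) [CommRing A] [IsLocalRing A] [Algebra (Localization.AtPrime 𝔭) A]
    [IsLocalHom (algebraMap (Localization.AtPrime 𝔭) A)]
    [Hensel.IsStrictHenselization (Localization.AtPrime 𝔭) A] :
    ∃ (k' : Type u) (_ : Field k') (_ : IsSepClosed k') (C : Type u) (_ : CommRing C)
      (_ : Algebra k' C) (_ : Algebra.FiniteType k' C) (Q : Ideal C) (_ : Q.IsMaximal)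
      (_ : Algebra (Localization.AtPrime Q) A)
      (_ : IsLocalHom (algebraMap (Localization.AtPrime Q) A)),
      Hensel.IsStrictHenselization (Localization.AtPrime Q) A := by
  classical
  -- a transcendence basis of `B/𝔭` over `k`, lifted to `B`
  obtain ⟨s, hs⟩ := exists_isTranscendenceBasis k (B ⧸ 𝔭)
  have hsurj : ∀ i : s, ∃ b : B, Ideal.Quotient.mk 𝔭 b = i.1 :=
    fun i => Ideal.Quotient.mk_surjective i.1
  choose b hb using hsurj
  let _ : Algebra (MvPolynomial s k) B := (MvPolynomial.aeval b : MvPolynomial s k →ₐ[k] B).toRingHom.toAlgebra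
  have halg : ∀ P : MvPolynomial s k, algebraMap (MvPolynomial s k) B P = MvPolynomial.aeval b P :=
    fun _ => rfl
  have htower : IsScalarTower k (MvPolynomial s k) B := IsScalarTower.of_algebraMap_eq fun c => by
    rw [halg, MvPolynomial.algebraMap_eq, MvPolynomial.aeval_C]
  have hft : Algebra.FiniteType (MvPolynomial s k) B :=
    Algebra.FiniteType.of_restrictScalars_finiteType k (MvPolynomial s k) B
  have hmk : ∀ P : MvPolynomial s k, Ideal.Quotient.mk 𝔭 (algebraMap (MvPolynomial s k) B P) =
      MvPolynomial.aeval ((↑) : s → B ⧸ 𝔭) P := by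
    intro P
    rw [halg]
    have h1 : (Ideal.Quotient.mkₐ k 𝔭).comp (MvPolynomial.aeval b) =
        MvPolynomial.aeval ((↑) : s → B ⧸ 𝔭) := by
      apply MvPolynomial.algHom_ext
      intro i
      rw [AlgHom.comp_apply, MvPolynomial.aeval_X, MvPolynomial.aeval_X]
      exact hb i
    exact congrArg (fun f : MvPolynomial s k →ₐ[k] B ⧸ 𝔭 => f P) h1
  have hp : 𝔭.comap (algebraMap (MvPolynomial s k) B) = ⊥ := by
    rw [eq_bot_iff]
    intro P hP
    rw [Ideal.mem_comap, ← Ideal.Quotient.eq_zero_iff_mem, hmk] at hP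
    rw [Ideal.mem_bot]
    exact hs.1 (by rw [hP, map_zero])
  have hlies : 𝔭.LiesOver (𝔭.comap (algebraMap (MvPolynomial s k) B)) := ⟨rfl⟩
  -- `B/𝔭` is algebraic over `k[s]/p`
  have halgebraic : Algebra.IsAlgebraic
      (MvPolynomial s k ⧸ 𝔭.comap (algebraMap (MvPolynomial s k) B)) (B ⧸ 𝔭) := by
    have h1 := hs.isAlgebraic
    have h2 : Algebra.IsAlgebraic (MvPolynomial s k) (B ⧸ 𝔭) := by
      refine Algebra.IsAlgebraic.of_ringHom_of_comp_eq
        (S := Algebra.adjoin k (Set.range ((↑) : s → B ⧸ 𝔭))) (B := B ⧸ 𝔭)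
        (hs.1.aevalEquiv : MvPolynomial s k →+* _) (RingHom.id (B ⧸ 𝔭))
        hs.1.aevalEquiv.surjective Function.injective_id ?_
      ext P
      · simp only [RingHom.comp_apply]
        change ((hs.1.aevalEquiv (MvPolynomial.C P) : Algebra.adjoin k _) : B ⧸ 𝔭) =
          Ideal.Quotient.mk 𝔭 (algebraMap (MvPolynomial s k) B (MvPolynomial.C P))
        rw [AlgebraicIndependent.aevalEquiv_apply_coe, hmk]
      · simp only [RingHom.comp_apply]
        change ((hs.1.aevalEquiv (MvPolynomial.X _) : Algebra.adjoin k _) : B ⧸ 𝔭) =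
          Ideal.Quotient.mk 𝔭 (algebraMap (MvPolynomial s k) B (MvPolynomial.X _))
        rw [AlgebraicIndependent.aevalEquiv_apply_coe, hmk]
    refine Algebra.IsAlgebraic.ringHom_of_comp_eq (R := MvPolynomial s k) (A := B ⧸ 𝔭)
      (Ideal.Quotient.mk (𝔭.comap (algebraMap (MvPolynomial s k) B))) (RingHom.id (B ⧸ 𝔭))
      ?_ Function.surjective_id ?_
    · rw [injective_iff_map_eq_zero]
      intro P hP
      rw [Ideal.Quotient.eq_zero_iff_mem, hp] at hP
      exact hP
    · ext P <;> rfl
  -- the strict henselization of `k[s]_p`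
  obtain ⟨Rh, _, _, _, _, hRh⟩ :=
    Groth.Agent.Lib.StrictHenselization.exists_isStrictHenselization
      (Localization.AtPrime (𝔭.comap (algebraMap (MvPolynomial s k) B)))
  let _ : Algebra (MvPolynomial s k) Rh :=
    ((algebraMap (Localization.AtPrime (𝔭.comap (algebraMap (MvPolynomial s k) B))) Rh).comp
      (algebraMap (MvPolynomial s k) _)).toAlgebra
  have ht1 : IsScalarTower (MvPolynomial s k)
      (Localization.AtPrime (𝔭.comap (algebraMap (MvPolynomial s k) B))) Rh :=
    IsScalarTower.of_algebraMap_eq fun _ => rfl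
  obtain ⟨φ, Q, hQprime, alg, hloc, hQ, hφS, hφR, hsh, hcompat⟩ :=
    Groth.Agent.Lib.ShTensorModel61.exists_model (MvPolynomial s k) B
      (𝔭.comap (algebraMap (MvPolynomial s k) B)) 𝔭 Rh A
  -- `Rh` is a field
  have hmax1 : maximalIdeal (Localization.AtPrime (𝔭.comap (algebraMap (MvPolynomial s k) B))) =
      ⊥ := by
    rw [← IsLocalization.AtPrime.map_eq_maximalIdeal
      (𝔭.comap (algebraMap (MvPolynomial s k) B))
      (Localization.AtPrime (𝔭.comap (algebraMap (MvPolynomial s k) B)))]
    have h0 : ∀ I : Ideal (MvPolynomial s k), I = ⊥ → Ideal.map (algebraMap (MvPolynomial s k)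
        (Localization.AtPrime (𝔭.comap (algebraMap (MvPolynomial s k) B)))) I = ⊥ :=
      fun I h => by rw [h, Ideal.map_bot]
    exact h0 _ hp
  have hmax2 : maximalIdeal Rh = ⊥ := by
    rw [← Groth.Agent.Lib.StrictHenselizationMax.map_maximalIdeal_eq
      (Localization.AtPrime (𝔭.comap (algebraMap (MvPolynomial s k) B))) Rh, hmax1, Ideal.map_bot]
  have hF : IsField Rh := IsLocalRing.isField_iff_maximalIdeal_eq.mpr hmax2
  -- `Q` is maximal
  have hunit : ∀ r : MvPolynomial s k, r ∉ 𝔭.comap (algebraMap (MvPolynomial s k) B) →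
      IsUnit (algebraMap (MvPolynomial s k) Rh r) := by
    intro r hr
    rw [IsScalarTower.algebraMap_apply (MvPolynomial s k)
      (Localization.AtPrime (𝔭.comap (algebraMap (MvPolynomial s k) B))) Rh]
    exact (IsLocalization.map_units _ (⟨r, hr⟩ :
      (𝔭.comap (algebraMap (MvPolynomial s k) B)).primeCompl)).map _
  have hmem : ∀ r ∈ 𝔭.comap (algebraMap (MvPolynomial s k) B),
      algebraMap (MvPolynomial s k) Rh r ∈ maximalIdeal Rh := by
    intro r hr
    rw [hp, Ideal.mem_bot] at hr
    rw [hr, map_zero]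
    exact Ideal.zero_mem _
  have hφq : ∀ x ∈ 𝔭, φ ((1 : Rh) ⊗ₜ[MvPolynomial s k] x) ∈ maximalIdeal A := by
    intro x hx
    rw [hφS]
    have h1 : algebraMap B (Localization.AtPrime 𝔭) x ∈ maximalIdeal (Localization.AtPrime 𝔭) :=
      (IsLocalization.AtPrime.to_map_mem_maximal_iff (Localization.AtPrime 𝔭) 𝔭 _).mpr hx
    rw [mem_maximalIdeal] at h1 ⊢
    exact fun hu => h1 (isUnit_of_map_unit (algebraMap (Localization.AtPrime 𝔭) A) _ hu)
  have hQmax : Q.IsMaximal := by
    rw [hQ]
    exact Groth.Agent.Lib.ShTensorModel61.isMaximal_comap (MvPolynomial s k) B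
      (𝔭.comap (algebraMap (MvPolynomial s k) B)) 𝔭 Rh A φ hmem hunit hφR hφq
  -- separably closed
  have hsc : IsSepClosed (ResidueField Rh) :=
    (Hensel.IsStrictHenselization.isSepClosure
      (R := Localization.AtPrime (𝔭.comap (algebraMap (MvPolynomial s k) B))) (S := Rh)).sep_closed
  have hbij : Function.Bijective (residue Rh) := by
    refine ⟨?_, residue_surjective⟩
    rw [injective_iff_map_eq_zero]
    intro x hx
    rw [residue_eq_zero_iff, hmax2, Ideal.mem_bot] at hx
    exact hx
  let _ : Field Rh := hF.toField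
  have hsc' : IsSepClosed Rh :=
    Groth.Agent.Lib.StrictHenselizationTransport61.isSepClosed_of_ringEquiv
      (RingEquiv.ofBijective (residue Rh) hbij).symm
  have hftC : Algebra.FiniteType Rh (Rh ⊗[MvPolynomial s k] B) := inferInstance
  exact ⟨Rh, hF.toField, hsc', Rh ⊗[MvPolynomial s k] B, inferInstance, inferInstance, hftC, Q, hQmax,
    alg, hloc, hsh⟩

end Groth.Agent.Lib.ShClosedModelField61
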