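import Mathlib
import Groth.Prelude.Def_Hensel
import Groth.Agent.Lib.GeomUnibranchEquiv96

/-!
# Scheme-level packaging for strict henselizations of local rings of affine schemes (helper61)

* `exists_affine_chart`: a strict henselization `A` of `𝒪_{X,x}` is a strict henselization of the
  localization of `Γ(X, U)` at the prime of `x`, `U` an affine open neighbourhood of `x`.
* `exists_stalk_spec`: a strict henselization of `C_Q` is a strict henselization of the local ring
  of `Spec C` at the point `Q`.
-/

set_option autoImplicit false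
universe u

namespace Groth.Agent.Lib.ShClosedModelSch61

open AlgebraicGeometry CategoryTheory IsLocalRing

set_option backward.isDefEq.respectTransparency.types false in
/-- A strict henselization of `C_Q` is a strict henselization of the stalk of `Spec C` at `Q`. -/
theorem exists_stalk_spec (C : Type u) [CommRing C] (Q : PrimeSpectrum C)
    (A : Type u) [CommRing A] [IsLocalRing A] [Algebra (Localization.AtPrime Q.asIdeal) A]
    [IsLocalHom (algebraMap (Localization.AtPrime Q.asIdeal) A)]
    [Hensel.IsStrictHenselization (Localization.AtPrime Q.asIdeal) A] :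
    ∃ (_ : Algebra ((Spec (CommRingCat.of C)).presheaf.stalk Q) A)
      (_ : IsLocalHom (algebraMap ((Spec (CommRingCat.of C)).presheaf.stalk Q) A)),
      Hensel.IsStrictHenselization ((Spec (CommRingCat.of C)).presheaf.stalk Q) A := by
  let k : Algebra C ↑((Spec (CommRingCat.of C)).presheaf.stalk Q) :=
    StructureSheaf.stalkAlgebra C Q
  have hloc : IsLocalization.AtPrime ↑((Spec (CommRingCat.of C)).presheaf.stalk Q) Q.asIdeal :=
    StructureSheaf.IsLocalization.to_stalk C Q
  let e : ↑((Spec (CommRingCat.of C)).presheaf.stalk Q) ≃ₐ[C] Localization.AtPrime Q.asIdeal :=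
    IsLocalization.algEquiv Q.asIdeal.primeCompl _ _
  let alg : Algebra ↑((Spec (CommRingCat.of C)).presheaf.stalk Q) A :=
    ((algebraMap (Localization.AtPrime Q.asIdeal) A).comp
      (e.toRingEquiv : ↑((Spec (CommRingCat.of C)).presheaf.stalk Q) →+* _)).toAlgebra
  have he : ∀ y, algebraMap ↑((Spec (CommRingCat.of C)).presheaf.stalk Q) A y =
      algebraMap (Localization.AtPrime Q.asIdeal) A (e.toRingEquiv y) := fun _ => rfl
  have hl : IsLocalHom (algebraMap ↑((Spec (CommRingCat.of C)).presheaf.stalk Q) A) :=
    Groth.Agent.Lib.GeomUnibranchEquiv96.isLocalHom_of_ringEquiv e.toRingEquiv he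
  exact ⟨alg, hl, Groth.Agent.Lib.GeomUnibranchEquiv96.isStrictHenselization_of_ringEquiv
    e.toRingEquiv he⟩

/-- A strict henselization of `𝒪_{X,x}` is a strict henselization of the localization of the ring
of sections over an affine open neighbourhood at the prime of `x`. -/
theorem exists_affine_chart {X : Scheme.{u}} {U : X.Opens} (hU : IsAffineOpen U) (x : X) (hx : x ∈ U)
    (A : Type u) [CommRing A] [IsLocalRing A] [Algebra (X.presheaf.stalk x) A]
    [IsLocalHom (algebraMap (X.presheaf.stalk x) A)]
    [Hensel.IsStrictHenselization (X.presheaf.stalk x) A] :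
    ∃ (_ : Algebra (Localization.AtPrime (hU.primeIdealOf ⟨x, hx⟩).asIdeal) A)
      (_ : IsLocalHom (algebraMap (Localization.AtPrime (hU.primeIdealOf ⟨x, hx⟩).asIdeal) A)),
      Hensel.IsStrictHenselization (Localization.AtPrime (hU.primeIdealOf ⟨x, hx⟩).asIdeal) A := by
  let _ : Algebra Γ(X, U) (X.presheaf.stalk x) := (X.presheaf.germ U x hx).hom.toAlgebra
  have hloc := hU.isLocalization_stalk ⟨x, hx⟩
  let e : Localization.AtPrime (hU.primeIdealOf ⟨x, hx⟩).asIdeal ≃ₐ[Γ(X, U)]
      X.presheaf.stalk x :=
    IsLocalization.algEquiv (hU.primeIdealOf ⟨x, hx⟩).asIdeal.primeCompl _ _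
  let alg : Algebra (Localization.AtPrime (hU.primeIdealOf ⟨x, hx⟩).asIdeal) A :=
    ((algebraMap (X.presheaf.stalk x) A).comp
      (e.toRingEquiv : Localization.AtPrime (hU.primeIdealOf ⟨x, hx⟩).asIdeal →+* _)).toAlgebra
  have he : ∀ y, algebraMap (Localization.AtPrime (hU.primeIdealOf ⟨x, hx⟩).asIdeal) A y =
      algebraMap (X.presheaf.stalk x) A (e.toRingEquiv y) := fun _ => rfl
  have hl : IsLocalHom (algebraMap (Localization.AtPrime (hU.primeIdealOf ⟨x, hx⟩).asIdeal) A) :=
    Groth.Agent.Lib.GeomUnibranchEquiv96.isLocalHom_of_ringEquiv e.toRingEquiv he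
  exact ⟨alg, hl, Groth.Agent.Lib.GeomUnibranchEquiv96.isStrictHenselization_of_ringEquiv
    e.toRingEquiv he⟩

end Groth.Agent.Lib.ShClosedModelSch61
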