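import Mathlib
import Groth.Agent.Lib.FinEtaleGalois61
import Groth.Prelude.Def_Hensel

/-!
# A strict henselization of `A` is a strict henselization of any unramified local `A`-algebra
mapping locally to it (helper61)
-/

set_option autoImplicit false
universe u

namespace Groth.Agent.Lib.ShUnramifiedSub61

open IsLocalRing

theorem isStrictHenselization_of_unramified (A S E : Type u) [CommRing A] [IsLocalRing A]
    [CommRing S] [IsLocalRing S] [Algebra A S] [IsLocalHom (algebraMap A S)]
    [Hensel.IsStrictHenselization A S]
    [CommRing E] [IsLocalRing E] [Algebra A E] [IsLocalHom (algebraMap A E)]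
    [Algebra E S] [IsScalarTower A E S] [IsLocalHom (algebraMap E S)]
    [Algebra.FormallyUnramified A E] [Algebra.FiniteType A E] :
    Hensel.IsStrictHenselization E S := by
  have hsc : IsSepClosure (ResidueField A) (ResidueField S) :=
    Hensel.IsStrictHenselization.isSepClosure
  have hsep : Algebra.IsSeparable (ResidueField A) (ResidueField S) := hsc.separable
  refine ⟨Hensel.IsStrictHenselization.henselian (R := A), ?_, ?_⟩
  · exact ⟨hsc.sep_closed, Algebra.isSeparable_tower_top_of_isSeparable (ResidueField A)
      (ResidueField E) (ResidueField S)⟩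
  · intro T _ _ f hf τ hτ
    let f₀ : A →+* T := f.comp (algebraMap A E)
    have hf₀ : IsLocalHom f₀ := RingHom.isLocalHom_comp f (algebraMap A E)
    have hτx : ∀ y : E, τ (residue S (algebraMap E S y)) = residue T (f y) := fun y =>
      congrArg (fun φ : ResidueField E →+* ResidueField T => φ (residue E y)) hτ
    have hτ₀ : τ.comp (ResidueField.map (algebraMap A S)) = ResidueField.map f₀ := by
      ext c
      obtain ⟨a, rfl⟩ := residue_surjective c
      rw [RingHom.comp_apply, ResidueField.map_residue, ResidueField.map_residue,
        IsScalarTower.algebraMap_apply A E S, hτx]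
      rfl
    obtain ⟨g, ⟨hg, hgres⟩, hguniq⟩ :=
      Hensel.IsStrictHenselization.universal (R := A) (S := S) T f₀ τ hτ₀
    refine ⟨g, ⟨?_, hgres⟩, ?_⟩
    · let _ : Algebra A T := f₀.toAlgebra
      let φ : E →ₐ[A] T :=
        { g.comp (algebraMap E S) with
          commutes' := fun a => by
            change g (algebraMap E S (algebraMap A E a)) = f₀ a
            rw [← IsScalarTower.algebraMap_apply A E S]
            exact congrArg (fun k : A →+* T => k a) hg }
      let ψ : E →ₐ[A] T := { f with commutes' := fun a => rfl }
      have hφψ : φ = ψ := by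
        apply Groth.Agent.Lib.FinEtaleGalois61.lift_unique (A := A) E T φ ψ
        intro x
        change residue T (g (algebraMap E S x)) = residue T (f x)
        rw [hgres, hτx]
      ext x
      exact congrArg (fun k : E →ₐ[A] T => k x) hφψ
    · rintro g' ⟨hg', hg'res⟩
      refine hguniq g' ⟨?_, hg'res⟩
      rw [IsScalarTower.algebraMap_eq A E S, ← RingHom.comp_assoc, hg']

end Groth.Agent.Lib.ShUnramifiedSub61
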