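import Mathlib
import Groth.Agent.Lib.ResidueTensorPI61
import Groth.Agent.Lib.BrnchPI98
import Groth.Agent.Lib.FiniteEtaleLocalIso61
import Groth.Agent.Lib.ShUnramifiedSub61
import Groth.Agent.Lib.HenselQFLocalization61
import Groth.Agent.Lib.HenselIntegralLocal
import Groth.Agent.Lib.ExcellentFinite61
import Groth.Agent.Lib.NormFiniteMax61
import Groth.Agent.Lib.FracEssEtale6
import Groth.Agent.Lib.QENagata51
import Groth.Agent.Lib.NagataSmoothDescent96
import Groth.Agent.S16431

/-!
# Minimal primes of a strict henselization extended from an essentially etale algebra (helper61)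

For an excellent henselian local domain `A` with local normalization `A'`, and an essentially
etale local `A`-algebra `E` mapping to the strict henselization `S`: all minimal primes of `S`
are extended from `E` iff the separable closure of `k` in the residue field of `A'` splits
completely in the residue field of `E`.
-/

set_option autoImplicit false
universe u

namespace Groth.Agent.Lib.ShEssEtaleMinPrimes61

open IsLocalRing TensorProduct

/-- A ring map from an integral local `A`-algebra `E` to a local `A`-algebra `S` with local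
structure map is local. -/
theorem isLocalHom_of_isIntegral (A E S : Type*) [CommRing A] [IsLocalRing A]
    [CommRing E] [IsLocalRing E] [Algebra A E] [Algebra.IsIntegral A E]
    [CommRing S] [IsLocalRing S] [Algebra A S] [IsLocalHom (algebraMap A S)]
    [Algebra E S] [IsScalarTower A E S] : IsLocalHom (algebraMap E S) := by
  refine ((local_hom_TFAE (algebraMap E S)).out 4 0).mp ?_
  set 𝔮 := (maximalIdeal S).comap (algebraMap E S) with h𝔮
  have hp : 𝔮.IsPrime := Ideal.comap_isPrime _ _
  have h1 : 𝔮.comap (algebraMap A E) = maximalIdeal A := by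
    rw [h𝔮, Ideal.comap_comap, ← IsScalarTower.algebraMap_eq]
    exact ((local_hom_TFAE (algebraMap A S)).out 0 4).mp (inferInstance : IsLocalHom (algebraMap A S))
  have hmax : 𝔮.IsMaximal := by
    apply Ideal.isMaximal_of_isIntegral_of_isMaximal_comap (R := A) 𝔮
    rw [h1]; infer_instance
  exact IsLocalRing.eq_maximalIdeal hmax

section Transport

variable (A E : Type u) [CommRing A] [IsDomain A] [IsNoetherianRing A]
  [CommRing E] [Algebra A E] [Algebra.Etale A E]

/-- The normalization of a finite etale algebra `E` over a Noetherian domain `A` is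
`E ⊗ A'`. -/
theorem nonempty_equiv : Nonempty (E ⊗[A] integralClosure A (FractionRing A) ≃ₐ[E]
    integralClosure E (FractionRing E)) := by
  have hmin : (minimalPrimes A).Finite := minimalPrimes.finite_of_isNoetherianRing A
  have hflat : Module.Flat A E := inferInstance
  obtain ⟨hloc, -⟩ := Groth.Agent.Lib.FracEssEtale6.main (A := A) E hmin
  have hloc' : IsLocalization ((nonZeroDivisors A).map (algebraMap A E))
      (E ⊗[A] FractionRing A) := IsLocalization.tensor _ (nonZeroDivisors A)
  let eK : FractionRing E ≃ₐ[E] E ⊗[A] FractionRing A :=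
    IsLocalization.algEquiv ((nonZeroDivisors A).map (algebraMap A E)) _ _
  let e1 : integralClosure E (FractionRing E) ≃ₐ[E] integralClosure E (E ⊗[A] FractionRing A) :=
    AlgEquiv.mapIntegralClosure eK
  let e2 : E ⊗[A] integralClosure A (FractionRing A) ≃ₐ[E]
      integralClosure E (E ⊗[A] FractionRing A) :=
    AlgEquiv.ofBijective (TensorProduct.toIntegralClosure A E (FractionRing A))
      TensorProduct.toIntegralClosure_bijective_of_smooth
  exact ⟨e2.trans e1.symm⟩

end Transport

/-- transport of the "purely inseparable residue fields" condition along an algebra iso. -/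
theorem pi_iff_of_algEquiv {E R R' : Type*} [CommRing E] [CommRing R] [CommRing R'] [Algebra E R]
    [Algebra E R'] (Ψ : R ≃ₐ[E] R') :
    (∀ (M : Ideal R') [M.IsMaximal], ∀ x : R' ⧸ M, ∃ n : ℕ,
        x ^ (ringExpChar (R' ⧸ M)) ^ n ∈ ((Ideal.Quotient.mk M).comp (algebraMap E R')).range) ↔
      (∀ (𝔐 : Ideal R) [𝔐.IsMaximal], ∀ x : R ⧸ 𝔐, ∃ n : ℕ,
        x ^ (ringExpChar (R ⧸ 𝔐)) ^ n ∈ ((Ideal.Quotient.mk 𝔐).comp (algebraMap E R)).range) := by
  constructor
  · intro h 𝔐 h𝔐
    have hmax : (𝔐.map ((Ψ : R ≃+* R') : R →+* R')).IsMaximal :=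
      (Ideal.isMaximal_map_iff_of_bijective _ (Ψ : R ≃+* R').bijective).mpr h𝔐
    exact Groth.Agent.Lib.BrnchPI98.pi_transport (Ψ : R ≃+* R') (algebraMap E R)
      (algebraMap E R') (fun a => Ψ.commutes a) 𝔐 (h _)
  · intro h M hM
    have hmax : (M.map ((Ψ.symm : R' ≃+* R) : R' →+* R)).IsMaximal :=
      (Ideal.isMaximal_map_iff_of_bijective _ (Ψ.symm : R' ≃+* R).bijective).mpr hM
    exact Groth.Agent.Lib.BrnchPI98.pi_transport (Ψ.symm : R' ≃+* R) (algebraMap E R')
      (algebraMap E R) (fun a => Ψ.symm.commutes a) M (h _)

section Main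

/-- S16437 in library form. -/
theorem main (A S E : Type u) [CommRing A] [HenselianLocalRing A] [IsDomain A]
    (hA : EGA4.IsExcellent A)
    [IsLocalRing (integralClosure A (FractionRing A))]
    [IsLocalHom (algebraMap A (integralClosure A (FractionRing A)))]
    [CommRing S] [IsLocalRing S] [Algebra A S] [IsLocalHom (algebraMap A S)]
    [Hensel.IsStrictHenselization A S]
    [CommRing E] [IsLocalRing E] [Algebra A E] [IsLocalHom (algebraMap A E)]
    (hE : EGA4loc.IsEssentiallyEtale A E) [Algebra E S] [IsScalarTower A E S] :
    (∀ Q ∈ minimalPrimes S, Q = Ideal.map (algebraMap E S) (Q.comap (algebraMap E S))) ↔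
      Nat.card (separableClosure (ResidueField A)
          (ResidueField (integralClosure A (FractionRing A))) →ₐ[ResidueField A]
          ResidueField E) =
        Module.finrank (ResidueField A)
          (separableClosure (ResidueField A)
            (ResidueField (integralClosure A (FractionRing A)))) := by
  have hN : IsNoetherianRing A := hA.1
  obtain ⟨hfin, het⟩ :=
    Groth.Agent.Lib.FiniteEtaleLocalIso61.finite_etale_of_isEssentiallyEtale A E hE
  have hint : Algebra.IsIntegral A E := inferInstance
  have hlocES : IsLocalHom (algebraMap E S) := isLocalHom_of_isIntegral A E S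
  have hsh : Hensel.IsStrictHenselization E S :=
    Groth.Agent.Lib.ShUnramifiedSub61.isStrictHenselization_of_unramified A S E
  have hhens : HenselianLocalRing E :=
    Groth.Agent.Lib.HenselIntegralLocal.henselianLocalRing_of_isIntegral A E
  have hhz : Hensel.IsHenselization E E :=
    Groth.Agent.Lib.HenselQFLocalization61.isHenselization_self E
  have hEexc : EGA4.IsExcellent E := Groth.Agent.Lib.ExcellentFinite61.isExcellent_of_finite A E hA
  have hred : IsReduced E := Groth.Agent.Lib.NormFiniteMax61.isReduced_of_essEtale A E hE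
  have h31 := Groth.Agent.S16431.result E E S hEexc
  -- finiteness of the normalization of `A`
  have hNag : CAlg.IsNagata A :=
    Groth.Agent.Lib.QENagata51.isNagata_of_isQuasiExcellent A ⟨hA.1, hA.2.2.1, hA.2.2.2⟩
  have hess : Algebra.EssFiniteType A (FractionRing A) :=
    Algebra.EssFiniteType.of_isLocalization _ (nonZeroDivisors A)
  have hfinA' : Module.Finite A (integralClosure A (FractionRing A)) :=
    Groth.Agent.Lib.NagataSmoothDescent96.finite_integralClosure_of_essFiniteType hNag _
  have hfd : FiniteDimensional (ResidueField A)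
      (ResidueField (integralClosure A (FractionRing A))) := inferInstance
  obtain ⟨Ψ⟩ := nonempty_equiv A E
  rw [← h31, pi_iff_of_algEquiv Ψ]
  exact ⟨fun H => Groth.Agent.Lib.ResidueTensorPI61.card_of_pi A E _ H,
    fun hcard 𝔐 h𝔐 x => Groth.Agent.Lib.ResidueTensorPI61.pi_of_card A E _ hcard 𝔐 x⟩

end Main

end Groth.Agent.Lib.ShEssEtaleMinPrimes61
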