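import Mathlib

/-!
# Roots of residually separable polynomials over a strictly henselian ring (helper61)

`S` henselian local with separably closed residue field, `F ∈ S[X]` monic with separable reduction:
every root of `F` in a domain over `S` comes from `S`.  Also a descent lemma for faithfully flat
algebras: if `Q = (Q ∩ B) S` then `(S/Q) ∩ Frac(B/Q∩B) = B/(Q ∩ B)`.
-/

set_option autoImplicit false

namespace Groth.Agent.Lib.StrictHenselRoot61

open Polynomial IsLocalRing

theorem exists_algebraMap_eq_of_separable (S : Type*) [CommRing S] [HenselianLocalRing S]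
    [IsSepClosed (ResidueField S)] (K : Type*) [CommRing K] [IsDomain K] (g : S →+* K) :
    ∀ (n : ℕ) (F : S[X]), F.natDegree = n → F.Monic → (F.map (residue S)).Separable →
      ∀ ω : K, F.eval₂ g ω = 0 → ∃ s : S, g s = ω := by
  intro n
  induction n with
  | zero =>
    intro F hdeg hmonic _ ω hω
    have hF1 : F = 1 := eq_one_of_monic_natDegree_zero hmonic hdeg
    rw [hF1, eval₂_one] at hω
    exact absurd hω one_ne_zero
  | succ n ih =>
    intro F hdeg hmonic hsep ω hω
    have hdeg' : (F.map (residue S)).degree ≠ 0 := by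
      rw [degree_eq_natDegree (hmonic.map _).ne_zero, hmonic.natDegree_map, hdeg]
      exact_mod_cast Nat.succ_ne_zero n
    obtain ⟨a₀, ha₀⟩ := IsSepClosed.exists_root _ hdeg' hsep
    obtain ⟨s₀, rfl⟩ := residue_surjective a₀
    have h1 : F.eval s₀ ∈ maximalIdeal S := by
      rw [← residue_eq_zero_iff, ← eval_map_apply]
      exact ha₀
    have h2 : IsUnit ((derivative F).eval s₀) := by
      by_contra hnu
      have h3 : (derivative F).eval s₀ ∈ maximalIdeal S := hnu
      rw [← residue_eq_zero_iff, ← eval_map_apply, ← derivative_map] at h3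
      exact hsep.eval₂_derivative_ne_zero (RingHom.id _) (by rw [eval₂_id]; exact ha₀)
        (by rw [eval₂_id]; exact h3)
    obtain ⟨a, haroot, -⟩ := HenselianLocalRing.is_henselian F hmonic s₀ h1 h2
    have hfac : (X - C a) * (F /ₘ (X - C a)) = F := mul_divByMonic_eq_iff_isRoot.mpr haroot
    set G := F /ₘ (X - C a) with hG
    have hGmonic : G.Monic := (monic_X_sub_C a).of_mul_monic_left (by rw [hfac]; exact hmonic)
    have hGdeg : G.natDegree = n := by
      have h4 := (monic_X_sub_C a).natDegree_mul hGmonic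
      rw [hfac, hdeg, natDegree_X_sub_C] at h4
      omega
    have hGsep : (G.map (residue S)).Separable := by
      rw [← hfac, Polynomial.map_mul] at hsep
      exact hsep.of_mul_right
    rw [← hfac, eval₂_mul, eval₂_sub, eval₂_X, eval₂_C] at hω
    rcases mul_eq_zero.mp hω with h5 | h5
    · exact ⟨a, (sub_eq_zero.mp h5).symm⟩
    · exact ih G hGdeg hGmonic hGsep ω h5

theorem exists_sub_mem_of_extended (B S : Type*) [CommRing B] [CommRing S] [Algebra B S]
    [Module.FaithfullyFlat B S] (Q : Ideal S) [Q.IsPrime]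
    (hQ : Q = (Q.comap (algebraMap B S)).map (algebraMap B S)) (s : S) (b₁ b₂ : B)
    (hb₂ : algebraMap B S b₂ ∉ Q) (h : s * algebraMap B S b₂ - algebraMap B S b₁ ∈ Q) :
    ∃ b : B, s - algebraMap B S b ∈ Q := by
  set p : Ideal B := Q.comap (algebraMap B S) with hp
  have h2 : b₁ ∈ ((Ideal.span {b₂} ⊔ p).map (algebraMap B S)).comap (algebraMap B S) := by
    rw [Ideal.mem_comap, Ideal.map_sup, Ideal.map_span, Set.image_singleton, ← hQ]
    have : algebraMap B S b₁ = algebraMap B S b₂ * s - (s * algebraMap B S b₂ - algebraMap B S b₁) := by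
      ring
    rw [this]
    exact Ideal.sub_mem _ (Ideal.mem_sup_left (Ideal.mul_mem_right _ _
      (Ideal.mem_span_singleton_self _))) (Ideal.mem_sup_right h)
  rw [Ideal.comap_map_eq_self_of_faithfullyFlat] at h2
  obtain ⟨y, hy, π, hπ, hyπ⟩ := Submodule.mem_sup.mp h2
  obtain ⟨e, rfl⟩ := Ideal.mem_span_singleton'.mp hy
  refine ⟨e, ?_⟩
  have hπQ : algebraMap B S π ∈ Q := hπ
  have h4 : algebraMap B S b₁ = algebraMap B S e * algebraMap B S b₂ + algebraMap B S π := by
    rw [← hyπ, map_add, map_mul]
  have h3 : algebraMap B S b₂ * (s - algebraMap B S e) ∈ Q := by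
    have : algebraMap B S b₂ * (s - algebraMap B S e) =
        (s * algebraMap B S b₂ - algebraMap B S b₁) + algebraMap B S π := by
      rw [h4]; ring
    rw [this]
    exact Q.add_mem h hπQ
  exact (Ideal.IsPrime.mem_or_mem inferInstance h3).resolve_left hb₂

end Groth.Agent.Lib.StrictHenselRoot61
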