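import Groth.Agent.Lib.SepClosedResidue61
import Groth.Agent.Lib.ReducedMinPrime61
import Groth.Agent.Lib.FracRho61
import Groth.Agent.Lib.StrictHenselRoot61
import Groth.Agent.Lib.HenselQuotientLift61
import Groth.Agent.Lib.HenselIntegralLocal
import Groth.Agent.Lib.HznWeaklyEtale96
import Groth.Agent.Lib.StrictHenselization
import Groth.Agent.S0540
import Mathlib

/-!
# Extended minimal primes force separably closed residue fields of the normalization (helper61)

`B` Noetherian henselian reduced local, `S = B^sh`.  If every minimal prime of `S` is generated by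
its contraction to `B`, then for every maximal ideal `M` of the integral closure `B'` of `B` in its
total ring of fractions, the image of `B` in `κ(M)` is separably closed in `κ(M)`.
-/

set_option autoImplicit false
set_option linter.unusedSectionVars false
universe u

namespace Groth.Agent.Lib.ShExtendedSepClosed61

open IsLocalRing Polynomial
open Groth.Agent.Lib.ShFracInter25 Groth.Agent.Lib.FracRho61

variable (B S : Type u) [CommRing B] [HenselianLocalRing B] [IsNoetherianRing B] [IsReduced B]
  [CommRing S] [IsLocalRing S] [Algebra B S] [IsLocalHom (algebraMap B S)]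
  [Hensel.IsStrictHenselization B S]

theorem sepClosed_of_extended
    (hext : ∀ Q ∈ minimalPrimes S, Q = (Q.comap (algebraMap B S)).map (algebraMap B S))
    (M : Ideal (integralClosure B (FractionRing B))) [M.IsMaximal] :
    separableClosure (Subfield.closure (Set.range
      ((algebraMap (integralClosure B (FractionRing B)) M.ResidueField).comp
        (algebraMap B (integralClosure B (FractionRing B)))))) M.ResidueField = ⊥ := by
  classical
  have hff : Module.FaithfullyFlat B S :=
    Groth.Agent.Lib.StrictHenselization.faithfullyFlat_of_isStrictHenselization B S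
  have hredS : IsReduced S :=
    Groth.Agent.Lib.HznWeaklyEtale96.isReduced_of_isStrictHenselization (R := B) S
  have hNS : IsNoetherianRing S := (Groth.Agent.S0540.result B S).mp inferInstance
  have hShens : HenselianLocalRing S := Hensel.IsStrictHenselization.henselian B
  have hsc : IsSepClosed (ResidueField S) :=
    (Hensel.IsStrictHenselization.isSepClosure (R := B) (S := S)).sep_closed
  have hinjBS : Function.Injective (algebraMap B S) := FaithfulSMul.algebraMap_injective B S
  have hfin : (minimalPrimes S).Finite := minimalPrimes.finite_of_isNoetherianRing S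
  have hnzS : ∀ w ∈ nonZeroDivisors B, algebraMap B S w ∈ nonZeroDivisors S := by
    intro w hw
    have h3 : IsSMulRegular S w := Module.Flat.isSMulRegular_of_nonZeroDivisors hw
    rw [mem_nonZeroDivisors_iff_right]
    intro z hz
    apply h3
    simp only [Algebra.smul_def]
    rw [mul_comm, hz, mul_zero]
  have hnz : ∀ Q ∈ minimalPrimes S, ∀ w ∈ nonZeroDivisors B, algebraMap B S w ∉ Q :=
    fun Q hQ w hw hwQ =>
      notMem_nonZeroDivisors_of_mem_mem_minimalPrimes hwQ hQ (hnzS w hw)
  have hMcomap : M.comap (algebraMap B (integralClosure B (FractionRing B))) = maximalIdeal B := by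
    have h1 : (M.comap (algebraMap B (integralClosure B (FractionRing B)))).IsMaximal :=
      Ideal.isMaximal_comap_of_isIntegral_of_isMaximal (R := B) M
    exact IsLocalRing.eq_maximalIdeal h1
  have hD : ∀ b : B, IsUnit b ∨ algebraMap B (integralClosure B (FractionRing B)) b ∈ M := by
    intro b
    by_cases hb : IsUnit b
    · exact Or.inl hb
    · right
      have h1 : b ∈ maximalIdeal B := hb
      rw [← hMcomap] at h1
      exact h1
  apply Groth.Agent.Lib.SepClosedResidue61.eq_bot_of_forall' M hD
  intro y F hFm hFsep hFy
  -- the kernels `𝔮_Q`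
  let 𝔮 : minimalPrimes S → Ideal (integralClosure B (FractionRing B)) := fun Q =>
    RingHom.ker ((@rho B S _ _ _ Q.1 Q.2.1.1 (hnz Q.1 Q.2)).comp
      (algebraMap (integralClosure B (FractionRing B)) (FractionRing B)))
  let _ : Fintype (minimalPrimes S) := hfin.fintype
  have h0 : Finset.univ.inf 𝔮 = ⊥ := by
    rw [eq_bot_iff]
    intro c hc
    rw [Ideal.mem_bot]
    obtain ⟨a, w, hw, h⟩ := exists_num_den (c : FractionRing B)
    have ha : algebraMap B S a = 0 := by
      apply Groth.Agent.Lib.ReducedMinPrime61.eq_zero_of_forall_mem_minimalPrimes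
      intro Q hQ
      have hQp : Q.IsPrime := hQ.1.1
      have hcQ : c ∈ 𝔮 ⟨Q, hQ⟩ := (Submodule.mem_finsetInf.mp hc) ⟨Q, hQ⟩ (Finset.mem_univ _)
      have h1 : rho Q (hnz Q hQ) (c : FractionRing B) = 0 := hcQ
      exact (rho_eq_zero_iff Q (hnz Q hQ) c a w hw h).mp h1
    have ha0 : a = 0 := hinjBS (by rw [ha, map_zero])
    rw [ha0, map_zero] at h
    have hunit : IsUnit (algebraMap B (FractionRing B) w) :=
      IsLocalization.map_units (FractionRing B) (⟨w, hw⟩ : nonZeroDivisors B)
    exact Subtype.ext ((hunit.mul_left_eq_zero).mp h)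
  have hMp : M.IsPrime := inferInstance
  obtain ⟨⟨Q, hQ⟩, -, hQM⟩ := (Ideal.IsPrime.inf_le' hMp).mp (h0 ▸ bot_le : Finset.univ.inf 𝔮 ≤ M)
  have hQp : Q.IsPrime := hQ.1.1
  let r : FractionRing B →+* FractionRing (S ⧸ Q) := rho Q (hnz Q hQ)
  let 𝔮₀ : Ideal (integralClosure B (FractionRing B)) :=
    RingHom.ker (r.comp (algebraMap (integralClosure B (FractionRing B)) (FractionRing B)))
  have hQM' : 𝔮₀ ≤ M := hQM
  have h𝔮₀p : 𝔮₀.IsPrime := RingHom.ker_isPrime _
  have hmem𝔮₀ : ∀ z : integralClosure B (FractionRing B), z ∈ 𝔮₀ ↔ r (z : FractionRing B) = 0 :=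
    fun z => Iff.rfl
  -- residue field evaluation
  have hκ : ∀ G : B[X],
      (G.map ((algebraMap (integralClosure B (FractionRing B)) M.ResidueField).comp
        (algebraMap B (integralClosure B (FractionRing B))))).eval
        (algebraMap (integralClosure B (FractionRing B)) M.ResidueField y) =
      algebraMap (integralClosure B (FractionRing B)) M.ResidueField
        (G.eval₂ (algebraMap B (integralClosure B (FractionRing B))) y) := by
    intro G
    rw [eval_map, hom_eval₂]
  have hF'y : (derivative F).eval₂ (algebraMap B (integralClosure B (FractionRing B))) y ∉ M := by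
    intro h3
    refine hFsep.eval₂_derivative_ne_zero (RingHom.id _)
      (x := algebraMap (integralClosure B (FractionRing B)) M.ResidueField y) ?_ ?_
    · rw [eval₂_id, hκ]
      exact Ideal.algebraMap_residueField_eq_zero.mpr hFy
    · rw [eval₂_id, derivative_map, hκ]
      exact Ideal.algebraMap_residueField_eq_zero.mpr h3
  obtain ⟨y₁, hy₁q, hy₁y⟩ := Groth.Agent.Lib.HenselQuotientLift61.hensel_of_integral B
    (integralClosure B (FractionRing B))
    (r.comp (algebraMap (integralClosure B (FractionRing B)) (FractionRing B))) M hQM' F hFm y hFy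
    hF'y
  -- the root `ω` in `Frac(S/Q)`
  have hralg : ∀ b : B, r (algebraMap B (FractionRing B) b) = toK Q (algebraMap B S b) :=
    fun b => rho_algebraMap Q (hnz Q hQ) b
  have hcompr : ((r.comp (algebraMap (integralClosure B (FractionRing B)) (FractionRing B))).comp
      (algebraMap B (integralClosure B (FractionRing B)))) = (toK Q).comp (algebraMap B S) := by
    ext b
    exact hralg b
  have hω : (F.map (algebraMap B S)).eval₂ (toK Q) (r (y₁ : FractionRing B)) = 0 := by
    rw [eval₂_map, ← hcompr]
    exact hy₁q
  -- separability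
  have hφloc : IsLocalHom ((algebraMap (integralClosure B (FractionRing B)) M.ResidueField).comp
      (algebraMap B (integralClosure B (FractionRing B)))) :=
    ⟨fun b hb => (hD b).resolve_right
      (fun hbM => hb.ne_zero (Ideal.algebraMap_residueField_eq_zero.mpr hbM))⟩
  have hφfac : ((algebraMap (integralClosure B (FractionRing B)) M.ResidueField).comp
      (algebraMap B (integralClosure B (FractionRing B)))) =
      (ResidueField.lift ((algebraMap (integralClosure B (FractionRing B)) M.ResidueField).comp
      (algebraMap B (integralClosure B (FractionRing B))))).comp (residue B) := by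
    ext b
    exact (ResidueField.lift_residue_apply _ b).symm
  have hsepB : (F.map (residue B)).Separable := by
    rw [hφfac, ← Polynomial.map_map] at hFsep
    exact (separable_map _).mp hFsep
  have hsepS : ((F.map (algebraMap B S)).map (residue S)).Separable := by
    rw [Polynomial.map_map]
    have h5 : (residue S).comp (algebraMap B S) =
        (ResidueField.map (algebraMap B S)).comp (residue B) := rfl
    rw [h5, ← Polynomial.map_map]
    exact hsepB.map
  obtain ⟨s, hs⟩ := Groth.Agent.Lib.StrictHenselRoot61.exists_algebraMap_eq_of_separable S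
    (FractionRing (S ⧸ Q)) (toK Q) _ (F.map (algebraMap B S)) rfl (hFm.map _) hsepS _ hω
  obtain ⟨b₁, b₂, hb₂, hy₁b⟩ := exists_num_den (y₁ : FractionRing B)
  have h6 : r (y₁ : FractionRing B) * toK Q (algebraMap B S b₂) = toK Q (algebraMap B S b₁) := by
    have h := congrArg r hy₁b
    rw [map_mul, hralg, hralg] at h
    exact h
  have h7 : s * algebraMap B S b₂ - algebraMap B S b₁ ∈ Q := by
    rw [← toK_eq_zero_iff, map_sub, map_mul, hs, h6, sub_self]
  obtain ⟨b, hb⟩ := Groth.Agent.Lib.StrictHenselRoot61.exists_sub_mem_of_extended B S Q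
    (hext Q hQ) s b₁ b₂ (hnz Q hQ b₂ hb₂) h7
  refine ⟨b, ?_⟩
  have h8 : y₁ - algebraMap B (integralClosure B (FractionRing B)) b ∈ M := by
    apply hQM'
    rw [hmem𝔮₀]
    have h10 : ((y₁ - algebraMap B (integralClosure B (FractionRing B)) b :
        integralClosure B (FractionRing B)) : FractionRing B) =
        (y₁ : FractionRing B) - algebraMap B (FractionRing B) b := rfl
    rw [h10, map_sub, hralg, ← hs, ← map_sub, toK_eq_zero_iff]
    exact hb
  have h9 : y - algebraMap B (integralClosure B (FractionRing B)) b =
      (y₁ - algebraMap B (integralClosure B (FractionRing B)) b) - (y₁ - y) := by ring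
  rw [h9]
  exact M.sub_mem h8 hy₁y

end Groth.Agent.Lib.ShExtendedSepClosed61
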