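import Groth.Prelude.Def_Hensel
import Groth.Agent.Lib.StrictHenselization
import Mathlib.FieldTheory.IsSepClosed
import Mathlib.RingTheory.LocalRing.ResidueField.Basic

set_option autoImplicit false
universe u
open Polynomial IsLocalRing

namespace Groth.Agent.Lib.ShFactor95

/-- field theory: a map from a separable algebraic extension `Ω₁/k` into `M` lands in the image of
any separably closed field `Ω₂` over `k` mapping to `M` compatibly. -/
theorem exists_factor_of_sepClosed {k Ω₁ Ω₂ M : Type*} [Field k] [Field Ω₁] [Field Ω₂] [Field M]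
    [Algebra k Ω₁] [Algebra.IsSeparable k Ω₁] [IsSepClosed Ω₂]
    (ι₂ : k →+* Ω₂) (σ : Ω₂ →+* M) (ψ : Ω₁ →+* M)
    (h : ψ.comp (algebraMap k Ω₁) = σ.comp ι₂) :
    ∃ θ : Ω₁ →+* Ω₂, σ.comp θ = ψ ∧ θ.comp (algebraMap k Ω₁) = ι₂ := by
  have hr : ∀ t : Ω₁, ψ t ∈ σ.range := by
    intro t
    have hsep : (minpoly k t).Separable := Algebra.IsSeparable.isSeparable k t
    have hspl : ((minpoly k t).map ι₂).Splits := IsSepClosed.splits_codomain _ hsep
    have hne : (minpoly k t).map ι₂ ≠ 0 :=
      Polynomial.map_ne_zero (minpoly.ne_zero (Algebra.IsSeparable.isIntegral k t))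
    refine hspl.mem_range_of_isRoot hne (i := σ) ?_
    rw [Polynomial.map_map, ← h, ← Polynomial.map_map, IsRoot.def, Polynomial.eval_map,
      Polynomial.eval₂_hom, Polynomial.eval_map, ← Polynomial.aeval_def, minpoly.aeval, map_zero]
  choose θ₀ hθ₀ using hr
  have hσ : Function.Injective σ := σ.injective
  let θ : Ω₁ →+* Ω₂ :=
    { toFun := θ₀
      map_one' := hσ (by rw [hθ₀, map_one, map_one])
      map_mul' := fun a b => hσ (by rw [hθ₀, map_mul, map_mul, hθ₀, hθ₀])
      map_zero' := hσ (by rw [hθ₀, map_zero, map_zero])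
      map_add' := fun a b => hσ (by rw [hθ₀, map_add, map_add, hθ₀, hθ₀]) }
  refine ⟨θ, RingHom.ext fun t => hθ₀ t, RingHom.ext fun a => hσ ?_⟩
  have := congrArg (fun f : k →+* M => f a) h
  exact (hθ₀ _).trans this


section UP

variable {A R : Type u} [CommRing A] [IsLocalRing A] [CommRing R] [IsLocalRing R] [Algebra A R]
  [IsLocalHom (algebraMap A R)] [Hensel.IsStrictHenselization A R]

lemma algebraMap_residueField_eq :
    algebraMap (ResidueField A) (ResidueField R) = ResidueField.map (algebraMap A R) :=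
  Ideal.Quotient.ringHom_ext <| RingHom.ext fun _ => rfl

/-- lift out of a strict henselization with prescribed residue map; the lift is local -/
theorem exists_lift_of_residue {T : Type u} [CommRing T] [HenselianLocalRing T]
    (f : A →+* T) [IsLocalHom f]
    (τ : ResidueField R →+* ResidueField T)
    (hτ : τ.comp (ResidueField.map (algebraMap A R)) = ResidueField.map f) :
    ∃ γ : R →+* T, IsLocalHom γ ∧ γ.comp (algebraMap A R) = f ∧
      ∀ x, residue T (γ x) = τ (residue R x) := by
  obtain ⟨γ, ⟨h1, h2⟩, -⟩ := Hensel.IsStrictHenselization.universal (R := A) (S := R) T f τ hτ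
  refine ⟨γ, ⟨fun x hx => ?_⟩, h1, h2⟩
  by_contra hx'
  have h3 : residue R x = 0 := (residue_eq_zero_iff x).2 hx'
  have h4 : residue T (γ x) = 0 := by rw [h2, h3, map_zero]
  exact ((residue_eq_zero_iff _).1 h4) hx

/-- uniqueness of local maps out of a strict henselization into a henselian local ring -/
theorem ringHom_ext_of_residue {T : Type u} [CommRing T] [HenselianLocalRing T]
    (γ₁ γ₂ : R →+* T) [IsLocalHom γ₁]
    (h1 : γ₁.comp (algebraMap A R) = γ₂.comp (algebraMap A R))
    (h2 : ∀ x, residue T (γ₁ x) = residue T (γ₂ x)) : γ₁ = γ₂ := by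
  have hτ : (ResidueField.map γ₁).comp (ResidueField.map (algebraMap A R)) =
      ResidueField.map (γ₁.comp (algebraMap A R)) := (ResidueField.map_comp _ _).symm
  obtain ⟨γ, -, hu⟩ := Hensel.IsStrictHenselization.universal (R := A) (S := R) T
    (γ₁.comp (algebraMap A R)) (ResidueField.map γ₁) hτ
  have e1 : γ₁ = γ := hu γ₁ ⟨rfl, fun x => rfl⟩
  have e2 : γ₂ = γ := hu γ₂ ⟨h1.symm, fun x => (h2 x).symm⟩
  exact e1.trans e2.symm

/-- some local lift exists when the target has separably closed residue field -/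
theorem exists_lift {T : Type u} [CommRing T] [HenselianLocalRing T]
    [IsSepClosed (ResidueField T)] (f : A →+* T) [IsLocalHom f] :
    ∃ γ : R →+* T, IsLocalHom γ ∧ γ.comp (algebraMap A R) = f := by
  letI : Algebra (ResidueField A) (ResidueField T) := (ResidueField.map f).toAlgebra
  haveI : Algebra.IsSeparable (ResidueField A) (ResidueField R) :=
    (Hensel.IsStrictHenselization.isSepClosure (R := A) (S := R)).separable
  let τ₀ : ResidueField R →ₐ[ResidueField A] ResidueField T := IsSepClosed.lift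
  have hτ : (τ₀ : ResidueField R →+* ResidueField T).comp (ResidueField.map (algebraMap A R)) =
      ResidueField.map f := by
    rw [← algebraMap_residueField_eq]
    ext x
    exact τ₀.commutes x
  obtain ⟨γ, h1, h2, -⟩ := exists_lift_of_residue (R := R) f (τ₀ : ResidueField R →+* ResidueField T) hτ
  exact ⟨γ, h1, h2⟩

end UP


section Factor

variable {AZ AY AX RZ RY RX : Type u}
  [CommRing AZ] [IsLocalRing AZ] [CommRing AY] [IsLocalRing AY] [CommRing AX] [IsLocalRing AX]
  [CommRing RZ] [IsLocalRing RZ] [Algebra AZ RZ] [IsLocalHom (algebraMap AZ RZ)]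
  [Hensel.IsStrictHenselization AZ RZ]
  [CommRing RY] [IsLocalRing RY] [Algebra AY RY] [IsLocalHom (algebraMap AY RY)]
  [Hensel.IsStrictHenselization AY RY]
  [CommRing RX] [HenselianLocalRing RX] [IsSepClosed (ResidueField RX)] [Algebra AX RX]
  [IsLocalHom (algebraMap AX RX)]

/-- a local map `RZ → RX` between strict henselizations over `AZ → AY → AX` factors through any
strict henselization `RY` of `AY`. -/
theorem exists_factor (a : AZ →+* AY) [IsLocalHom a] (b : AY →+* AX) [IsLocalHom b]
    (φ : RZ →+* RX) [IsLocalHom φ]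
    (hφ : φ.comp (algebraMap AZ RZ) = ((algebraMap AX RX).comp b).comp a) :
    ∃ (γ₁ : RZ →+* RY) (γ₂ : RY →+* RX), IsLocalHom γ₁ ∧ IsLocalHom γ₂ ∧
      γ₁.comp (algebraMap AZ RZ) = (algebraMap AY RY).comp a ∧
      γ₂.comp (algebraMap AY RY) = (algebraMap AX RX).comp b ∧ γ₂.comp γ₁ = φ := by
  haveI hHY : HenselianLocalRing RY := Hensel.IsStrictHenselization.henselian (R := AY)
  haveI hSY : IsSepClosed (ResidueField RY) :=
    (Hensel.IsStrictHenselization.isSepClosure (R := AY) (S := RY)).sep_closed
  haveI hsepZ : Algebra.IsSeparable (ResidueField AZ) (ResidueField RZ) :=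
    (Hensel.IsStrictHenselization.isSepClosure (R := AZ) (S := RZ)).separable
  obtain ⟨γ₂, hl₂, h₂⟩ := exists_lift (R := RY) ((algebraMap AX RX).comp b)
  haveI := hl₂
  -- residue field bookkeeping
  have hcond : (ResidueField.map φ).comp (algebraMap (ResidueField AZ) (ResidueField RZ)) =
      (ResidueField.map γ₂).comp (ResidueField.map ((algebraMap AY RY).comp a)) := by
    rw [algebraMap_residueField_eq]
    refine Ideal.Quotient.ringHom_ext <| RingHom.ext fun x => ?_
    change residue RX (φ (algebraMap AZ RZ x)) = residue RX (γ₂ (algebraMap AY RY (a x)))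
    have e1 := congrArg (fun f : AZ →+* RX => f x) hφ
    have e2 := congrArg (fun f : AY →+* RX => f (a x)) h₂
    simp only [RingHom.comp_apply] at e1 e2
    rw [e1, e2]
  obtain ⟨θ, hθ₁, hθ₂⟩ := exists_factor_of_sepClosed
    (ResidueField.map ((algebraMap AY RY).comp a)) (ResidueField.map γ₂) (ResidueField.map φ) hcond
  rw [algebraMap_residueField_eq] at hθ₂
  obtain ⟨γ₁, hl₁, h₁, hr₁⟩ := exists_lift_of_residue (R := RZ) ((algebraMap AY RY).comp a) θ hθ₂
  haveI := hl₁
  refine ⟨γ₁, γ₂, hl₁, hl₂, h₁, h₂, ?_⟩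
  refine ringHom_ext_of_residue (A := AZ) (γ₂.comp γ₁) φ ?_ ?_
  · rw [RingHom.comp_assoc, h₁, ← RingHom.comp_assoc, h₂, hφ]
  · intro x
    have e := congrArg (fun f : ResidueField RZ →+* ResidueField RX => f (residue RZ x)) hθ₁
    simp only [RingHom.comp_apply] at e
    change residue RX (γ₂ (γ₁ x)) = residue RX (φ x)
    rw [← ResidueField.map_residue γ₂, hr₁, e, ResidueField.map_residue]

end Factor

end Groth.Agent.Lib.ShFactor95
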