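import Groth.Agent.Lib.ShSepClosedPropU61
import Groth.Agent.Lib.ShExtendedSepClosed61
import Groth.Agent.Lib.ShUnramifiedSub61
import Groth.Agent.Lib.FiniteEtaleLiftLocal
import Mathlib

/-!
# Finite subalgebras of a strict henselization: etale + extended minimal primes iff
separably closed residue fields of the normalization (helper61)
-/

set_option autoImplicit false
set_option linter.unusedSectionVars false
universe u

namespace Groth.Agent.Lib.ShFiniteSubEtale61

open IsLocalRing Polynomial
open Groth.Agent.Lib.ShFiniteSubTrivial61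

variable (A S : Type u) [CommRing A] [HenselianLocalRing A] [IsNoetherianRing A] [IsReduced A]
  [CommRing S] [IsLocalRing S] [Algebra A S] [IsLocalHom (algebraMap A S)]
  [Hensel.IsStrictHenselization A S] (D : Subalgebra A S) [Module.Finite A D]

theorem forward (hloc : IsLocalRing D) (hlocAD : IsLocalHom (algebraMap A D))
    (hlocDS : IsLocalHom (algebraMap D S)) (hhens : HenselianLocalRing D)
    (hnoeth : IsNoetherianRing D) (hred : IsReduced D)
    (het : Algebra.Etale A D)
    (hmin : ∀ Q ∈ minimalPrimes S, Q = Ideal.map (algebraMap D S) (Q.comap (algebraMap D S)))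
    (M : Ideal (integralClosure D (FractionRing D))) [M.IsMaximal] :
    separableClosure (Subfield.closure (Set.range
      ((algebraMap (integralClosure D (FractionRing D)) M.ResidueField).comp
        (algebraMap D (integralClosure D (FractionRing D)))))) M.ResidueField = ⊥ := by
  have hsh : Hensel.IsStrictHenselization D S :=
    Groth.Agent.Lib.ShUnramifiedSub61.isStrictHenselization_of_unramified A S D
  exact Groth.Agent.Lib.ShExtendedSepClosed61.sepClosed_of_extended D S hmin M

theorem backward (hloc : IsLocalRing D) (hlocAD : IsLocalHom (algebraMap A D))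
    (hlocDS : IsLocalHom (algebraMap D S))
    (H : ∀ (M : Ideal (integralClosure D (FractionRing D))) [M.IsMaximal],
      separableClosure (Subfield.closure (Set.range
        ((algebraMap (integralClosure D (FractionRing D)) M.ResidueField).comp
          (algebraMap D (integralClosure D (FractionRing D)))))) M.ResidueField = ⊥) :
    Algebra.Etale A D ∧
      ∀ Q ∈ minimalPrimes S, Q = Ideal.map (algebraMap D S) (Q.comap (algebraMap D S)) := by
  classical
  have hredS : IsReduced S :=
    Groth.Agent.Lib.HznWeaklyEtale96.isReduced_of_isStrictHenselization (R := A) S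
  have hflatAS : Module.Flat A S :=
    (Groth.Agent.Lib.StrictHenselization.faithfullyFlat_of_isStrictHenselization A S).toFlat
  -- the residue field of `D` is finite separable over that of `A`
  have hsepS : Algebra.IsSeparable (ResidueField A) (ResidueField S) :=
    (Hensel.IsStrictHenselization.isSepClosure (R := A) (S := S)).separable
  have hsepD : Algebra.IsSeparable (ResidueField A) (ResidueField D) :=
    Algebra.isSeparable_tower_bot_of_isSeparable (ResidueField A) (ResidueField D) (ResidueField S)
  obtain ⟨E₀, _, _, _, _, hfinE₀, hetE₀, ⟨iso⟩⟩ :=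
    Groth.Agent.Lib.FiniteEtaleLiftLocal.exists_local_finite_etale A (ResidueField D)
  obtain ⟨φ, hφ⟩ := Groth.Agent.Lib.FinEtaleGalois61.exists_lift E₀ D
    (iso : ResidueField E₀ →ₐ[ResidueField A] ResidueField D)
  have hφloc : IsLocalHom (φ : E₀ →+* D) := by
    constructor
    intro x hx
    have h1 : residue D (φ x) ≠ 0 := by
      rw [Ne, residue_eq_zero_iff]
      intro h
      exact h hx
    rw [hφ] at h1
    have h2 : residue E₀ x ≠ 0 := by
      intro h
      apply h1
      rw [h]
      exact map_zero _
    rw [Ne, residue_eq_zero_iff] at h2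
    by_contra hnu
    exact h2 hnu
  let j : E₀ →ₐ[A] S := D.val.comp φ
  have hjφ : ∀ e : E₀, j e = (φ e : S) := fun _ => rfl
  let _ : Algebra E₀ S := (j : E₀ →+* S).toAlgebra
  have htower : IsScalarTower A E₀ S :=
    IsScalarTower.of_algebraMap_eq (fun r => (j.commutes r).symm)
  have hjalg : ∀ e : E₀, algebraMap E₀ S e = (φ e : S) := fun _ => rfl
  have hlocj : IsLocalHom (algebraMap E₀ S) := by
    constructor
    intro x hx
    have h1 : IsUnit (algebraMap D S (φ x)) := hx
    have h2 : IsUnit (φ x) := isUnit_of_map_unit (algebraMap D S) _ h1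
    exact isUnit_of_map_unit (φ : E₀ →+* D) x h2
  have hshE₀ : Hensel.IsStrictHenselization E₀ S :=
    Groth.Agent.Lib.ShUnramifiedSub61.isStrictHenselization_of_unramified A S E₀
  have hintE₀ : Algebra.IsIntegral A E₀ := Algebra.IsIntegral.of_finite A E₀
  have hhensE₀ : HenselianLocalRing E₀ :=
    Groth.Agent.Lib.HenselIntegralLocal.henselianLocalRing_of_isIntegral A E₀
  have hnoethE₀ : IsNoetherianRing E₀ := IsNoetherianRing.of_finite A E₀
  have hffE₀ : Module.FaithfullyFlat E₀ S :=
    Groth.Agent.Lib.StrictHenselization.faithfullyFlat_of_isStrictHenselization E₀ S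
  have hinjj : Function.Injective (algebraMap E₀ S) := FaithfulSMul.algebraMap_injective E₀ S
  have hredE₀ : IsReduced E₀ := isReduced_of_injective (algebraMap E₀ S) hinjj
  -- `D` as an `E₀`-subalgebra
  let DB : Subalgebra E₀ S :=
    { D.toSubsemiring with
      algebraMap_mem' := fun e => (φ e).2 }
  have hDBmem : ∀ s : S, s ∈ DB ↔ s ∈ D := fun s => Iff.rfl
  have hfinDB : Module.Finite E₀ DB := by
    obtain ⟨s₀, hs₀⟩ := (Module.Finite.iff_fg (N := Subalgebra.toSubmodule D)).mp inferInstance
    have hfg : (Subalgebra.toSubmodule DB).FG := by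
      refine ⟨s₀, le_antisymm ?_ ?_⟩
      · rw [Submodule.span_le]
        intro x hx
        have h1 : x ∈ Submodule.span A (s₀ : Set S) := Submodule.subset_span hx
        rw [hs₀] at h1
        exact h1
      · intro d hd
        have h1 : d ∈ Submodule.span A (s₀ : Set S) := by
          rw [hs₀]
          exact hd
        exact Submodule.span_le_restrictScalars A E₀ (s₀ : Set S) h1
    exact (Module.Finite.iff_fg (N := Subalgebra.toSubmodule DB)).mpr hfg
  have hres : ∀ d ∈ DB, ∃ b : E₀, d - algebraMap E₀ S b ∈ maximalIdeal S := by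
    intro d hd
    let d' : D := ⟨d, hd⟩
    obtain ⟨c, hc⟩ := iso.surjective (residue D d')
    obtain ⟨b, rfl⟩ := residue_surjective c
    refine ⟨b, ?_⟩
    have h1 : residue D (d' - φ b) = 0 := by
      rw [map_sub, hφ, sub_eq_zero]
      exact hc.symm
    rw [residue_eq_zero_iff] at h1
    intro hu
    have h2 : IsUnit (algebraMap D S (d' - φ b)) := hu
    exact h1 (isUnit_of_map_unit (algebraMap D S) _ h2)
  have hU : ∀ Q ∈ minimalPrimes S, PropU (DB : Set S) Q := fun Q hQ =>
    Groth.Agent.Lib.ShSepClosedPropU61.propU_of_sepClosed A S D H Q hQ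
  obtain ⟨hDeq, hQext⟩ := eq_bot_of_propU E₀ S DB hres hU
  have hφbij : Function.Bijective φ := by
    constructor
    · intro x y hxy
      apply hinjj
      rw [hjalg, hjalg, hxy]
    · intro d
      obtain ⟨b, hb⟩ := hDeq (d : S) d.2
      exact ⟨b, Subtype.ext hb⟩
  refine ⟨Algebra.Etale.of_equiv (AlgEquiv.ofBijective φ hφbij), ?_⟩
  intro Q hQ
  apply le_antisymm
  · have h1 := hQext Q hQ
    rw [h1, Ideal.map_le_iff_le_comap]
    intro e he
    rw [Ideal.mem_comap]
    have h2 : algebraMap E₀ S e = algebraMap D S (φ e) := rfl
    rw [h2]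
    apply Ideal.mem_map_of_mem
    rw [Ideal.mem_comap, ← h2, ← h1]
    exact he
  · exact Ideal.map_comap_le

theorem main :
    (Algebra.Etale A D ∧
        ∀ Q ∈ minimalPrimes S, Q = Ideal.map (algebraMap D S) (Q.comap (algebraMap D S))) ↔
      ∀ (M : Ideal (integralClosure D (FractionRing D))) [M.IsMaximal],
        separableClosure (Subfield.closure (Set.range
          ((algebraMap (integralClosure D (FractionRing D)) M.ResidueField).comp
            (algebraMap D (integralClosure D (FractionRing D)))))) M.ResidueField = ⊥ := by
  have hintAS : Algebra.IsIntegral A S :=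
    ⟨Groth.Agent.Lib.ShQuotInterExc61.isIntegral_of_isStrictHenselization A S⟩
  have hintDS : Algebra.IsIntegral D S := Algebra.IsIntegral.tower_top (R := A)
  have hlocDS : IsLocalHom (algebraMap D S) :=
    (algebraMap_isIntegral_iff.mpr hintDS).isLocalHom Subtype.val_injective
  have hloc : IsLocalRing D := (algebraMap D S).domain_isLocalRing
  have hlocAD : IsLocalHom (algebraMap A D) := by
    constructor
    intro a ha
    have h1 : IsUnit (algebraMap A S a) := ha.map (algebraMap D S)
    exact isUnit_of_map_unit (algebraMap A S) a h1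
  constructor
  · rintro ⟨het, hmin⟩ M _
    have hintAD : Algebra.IsIntegral A D := Algebra.IsIntegral.of_finite A D
    have hhens : HenselianLocalRing D :=
      Groth.Agent.Lib.HenselIntegralLocal.henselianLocalRing_of_isIntegral A D
    have hnoeth : IsNoetherianRing D := IsNoetherianRing.of_finite A D
    have hredS : IsReduced S :=
      Groth.Agent.Lib.HznWeaklyEtale96.isReduced_of_isStrictHenselization (R := A) S
    have hred : IsReduced D := isReduced_of_injective D.val Subtype.val_injective
    exact forward A S D hloc hlocAD hlocDS hhens hnoeth hred het hmin M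
  · intro H
    exact backward A S D hloc hlocAD hlocDS H

end Groth.Agent.Lib.ShFiniteSubEtale61
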