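import Groth.Agent.Lib.ShMinPrimes25

/-!
# Intersections of subfields of `Frac(S/Q)` with `S/Q`, `S` a strict henselization (helper25)

`exists_essEtale_sub_frac` : `A` Noetherian local, `S = A^sh`, `Q` a minimal prime of `S`, `t` a finite subset
of `K = Frac(S/Q)`, `F` a finite subset of `S`: there is an essentially étale local subalgebra `E ⊇ F` of `S`
dominated by `S`, over which `S` is weakly étale and faithfully flat, all minimal primes of `S` being
generated by their contractions to `E`, and such that every element of `S/Q` lying in the subfield of `K`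
generated by `A` and `t` is the class of an element of `E`.
-/

set_option autoImplicit false
universe u

namespace Groth.Agent.Lib.ShFracInter25

open IsLocalRing TensorProduct

section FracSub

variable {S : Type*} [CommRing S] (Q : Ideal S) [Q.IsPrime] (E : Subring S)

/-- the composite `S → S/Q → Frac(S/Q)` -/
noncomputable def toK : S →+* FractionRing (S ⧸ Q) :=
  (algebraMap (S ⧸ Q) (FractionRing (S ⧸ Q))).comp (Ideal.Quotient.mk Q)

theorem toK_eq_zero_iff (x : S) : toK Q x = 0 ↔ x ∈ Q := by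
  unfold toK
  rw [RingHom.comp_apply, IsFractionRing.to_map_eq_zero_iff, Ideal.Quotient.eq_zero_iff_mem]

/-- the subfield of `Frac(S/Q)` of fractions of elements of the subring `E` -/
noncomputable def fracSub : Subfield (FractionRing (S ⧸ Q)) where
  carrier := {z | ∃ a ∈ E, ∃ b ∈ E, toK Q b ≠ 0 ∧ z * toK Q b = toK Q a}
  mul_mem' := by
    rintro z w ⟨a, ha, b, hb, hb0, hz⟩ ⟨c, hc, d, hd, hd0, hw⟩
    refine ⟨a * c, E.mul_mem ha hc, b * d, E.mul_mem hb hd, ?_, ?_⟩
    · rw [map_mul]; exact mul_ne_zero hb0 hd0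
    · rw [map_mul, map_mul, ← hz, ← hw]; ring
  one_mem' := ⟨1, E.one_mem, 1, E.one_mem, by simp, by simp⟩
  add_mem' := by
    rintro z w ⟨a, ha, b, hb, hb0, hz⟩ ⟨c, hc, d, hd, hd0, hw⟩
    refine ⟨a * d + c * b, E.add_mem (E.mul_mem ha hd) (E.mul_mem hc hb), b * d,
      E.mul_mem hb hd, ?_, ?_⟩
    · rw [map_mul]; exact mul_ne_zero hb0 hd0
    · rw [map_add, map_mul, map_mul, map_mul, ← hz, ← hw]; ring
  zero_mem' := ⟨0, E.zero_mem, 1, E.one_mem, by simp, by simp⟩
  neg_mem' := by
    rintro z ⟨a, ha, b, hb, hb0, hz⟩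
    exact ⟨-a, E.neg_mem ha, b, hb, hb0, by rw [map_neg, ← hz]; ring⟩
  inv_mem' := by
    rintro z ⟨a, ha, b, hb, hb0, hz⟩
    by_cases hz0 : z = 0
    · subst hz0
      exact ⟨0, E.zero_mem, 1, E.one_mem, by simp, by simp⟩
    · have ha0 : toK Q a ≠ 0 := by rw [← hz]; exact mul_ne_zero hz0 hb0
      refine ⟨b, hb, a, ha, ha0, ?_⟩
      rw [← hz]
      field_simp

theorem mem_fracSub_iff (z : FractionRing (S ⧸ Q)) :
    z ∈ fracSub Q E ↔ ∃ a ∈ E, ∃ b ∈ E, toK Q b ≠ 0 ∧ z * toK Q b = toK Q a := Iff.rfl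

theorem toK_mem_fracSub {a : S} (ha : a ∈ E) : toK Q a ∈ fracSub Q E :=
  ⟨a, ha, 1, E.one_mem, by simp, by simp⟩

end FracSub

section Inter

variable {A S : Type u} [CommRing A] [CommRing S] [Algebra A S] (Q : Ideal S) [Q.IsPrime]
  (E : Subalgebra A S) [Module.FaithfullyFlat E S]

/-- If `Q` is generated by its contraction to `E` and `S` is faithfully flat over `E`, the elements
of `S/Q` which are fractions of elements of `E` are classes of elements of `E`. -/
theorem exists_mem_of_toK_mem_fracSub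
    (hQ : Q = (Q.comap (algebraMap E S)).map (algebraMap E S)) (x : S)
    (hx : toK Q x ∈ fracSub Q E.toSubring) :
    ∃ e ∈ E, Ideal.Quotient.mk Q e = Ideal.Quotient.mk Q x := by
  obtain ⟨a, ha, b, hb, hb0, hz⟩ := hx
  have hbQ : b ∉ Q := fun h => hb0 ((toK_eq_zero_iff Q b).mpr h)
  have h1 : x * b - a ∈ Q := by
    rw [← toK_eq_zero_iff, map_sub, map_mul, hz, sub_self]
  set p : Ideal E := Q.comap (algebraMap E S) with hp
  let a' : E := ⟨a, ha⟩
  let b' : E := ⟨b, hb⟩
  have h2 : a' ∈ ((Ideal.span {b'} ⊔ p).map (algebraMap E S)).comap (algebraMap E S) := by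
    rw [Ideal.mem_comap, Ideal.map_sup, Ideal.map_span, Set.image_singleton, ← hQ]
    have : algebraMap E S a' = algebraMap E S b' * x - (x * b - a) := by
      change a = b * x - (x * b - a)
      ring
    rw [this]
    exact Ideal.sub_mem _ (Ideal.mem_sup_left (Ideal.mul_mem_right _ _
      (Ideal.mem_span_singleton_self _))) (Ideal.mem_sup_right h1)
  rw [Ideal.comap_map_eq_self_of_faithfullyFlat] at h2
  obtain ⟨y, hy, π, hπ, hyπ⟩ := Submodule.mem_sup.mp h2
  obtain ⟨e, rfl⟩ := Ideal.mem_span_singleton'.mp hy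
  refine ⟨(e : S), e.2, ?_⟩
  rw [Ideal.Quotient.eq]
  have h3 : b * (x - (e : S)) ∈ Q := by
    have hπQ : algebraMap E S π ∈ Q := hπ
    have h4 : (a : S) = (e : S) * b + algebraMap E S π := by
      have := congrArg (algebraMap E S) hyπ
      simpa [a', b'] using this.symm
    have : b * (x - (e : S)) = (x * b - a) + algebraMap E S π := by
      rw [h4]; ring
    rw [this]
    exact Q.add_mem h1 hπQ
  have := (Ideal.IsPrime.mem_or_mem inferInstance h3).resolve_left hbQ
  have h5 : (e : S) - x = -(x - (e : S)) := by ring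
  rw [h5]
  exact Q.neg_mem this

end Inter

section Main

variable (A S : Type u) [CommRing A] [IsLocalRing A] [CommRing S] [IsLocalRing S] [Algebra A S]
  [IsLocalHom (algebraMap A S)] [Hensel.IsStrictHenselization A S]

theorem algebraMap_eq_toK (Q : Ideal S) [Q.IsPrime] (a : A) :
    algebraMap A (FractionRing (S ⧸ Q)) a = toK Q (algebraMap A S a) := by
  rw [IsScalarTower.algebraMap_apply A (S ⧸ Q) (FractionRing (S ⧸ Q))]
  rfl

theorem exists_essEtale_sub_frac [IsNoetherianRing A] (Q : Ideal S) [Q.IsPrime]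
    (t : Finset (FractionRing (S ⧸ Q))) (F : Finset S) :
    ∃ E : Subalgebra A S, (F : Set S) ⊆ (E : Set S) ∧ ∃ _ : IsLocalRing E,
      IsLocalHom (algebraMap E S) ∧ EGA4loc.IsEssentiallyEtale A E ∧
      Algebra.WeaklyEtale E S ∧ Module.FaithfullyFlat E S ∧
      (∀ P ∈ minimalPrimes S, P = (P.comap (algebraMap E S)).map (algebraMap E S)) ∧
      Subfield.closure (Set.range (algebraMap A (FractionRing (S ⧸ Q))) ∪
            (t : Set (FractionRing (S ⧸ Q)))) ≤ fracSub Q E.toSubring := by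
  classical
  -- numerators and denominators
  have hfrac : ∀ z : FractionRing (S ⧸ Q), ∃ n d : S, toK Q d ≠ 0 ∧ z * toK Q d = toK Q n := by
    intro z
    obtain ⟨⟨n, d⟩, hnd⟩ := IsLocalization.surj (nonZeroDivisors (S ⧸ Q)) z
    obtain ⟨n', rfl⟩ := Ideal.Quotient.mk_surjective n
    obtain ⟨d', hd'⟩ := Ideal.Quotient.mk_surjective (d : S ⧸ Q)
    refine ⟨n', d', ?_, ?_⟩
    · unfold toK
      rw [RingHom.comp_apply, hd']
      exact IsLocalization.to_map_ne_zero_of_mem_nonZeroDivisors _ le_rfl d.2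
    · unfold toK
      rw [RingHom.comp_apply, RingHom.comp_apply, hd']
      exact hnd
  choose nn dd hdd hnd using hfrac
  obtain ⟨E, hFE, hloc, hdom, hE, hwe, hff, hmin⟩ :=
    Groth.Agent.Lib.ShMinPrimes25.exists_essEtale_sub_sep A S (F ∪ t.image nn ∪ t.image dd)
  refine ⟨E, fun x hx => hFE (by simp [hx]), hloc, hdom, hE, hwe, hff, hmin, ?_⟩
  rw [Subfield.closure_le]
  rintro z (⟨a, rfl⟩ | hz)
  · rw [algebraMap_eq_toK]
    exact toK_mem_fracSub Q E.toSubring (E.algebraMap_mem a)
  · have hn : nn z ∈ E := hFE (by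
      simp only [Finset.coe_union, Finset.coe_image, Set.mem_union, Set.mem_image, Finset.mem_coe]
      exact Or.inl (Or.inr ⟨z, hz, rfl⟩))
    have hd : dd z ∈ E := hFE (by
      simp only [Finset.coe_union, Finset.coe_image, Set.mem_union, Set.mem_image, Finset.mem_coe]
      exact Or.inr ⟨z, hz, rfl⟩)
    exact ⟨nn z, hn, dd z, hd, hdd z, hnd z⟩

end Main

end Groth.Agent.Lib.ShFracInter25
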