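import Groth.Prelude.Def_EssEt
import Groth.Prelude.Def_Hensel
import Groth.Agent.Lib.H56ShGen
import Groth.Agent.Lib.H56ShNormal
import Groth.Agent.Lib.StrictHenselizationProps
import Groth.Agent.Lib.FracEssEtale6
import Mathlib

/-!
# Essentially étale local subalgebras of a strict henselization (helper6)

* `toLocAlg φ : Localization.AtPrime (nbhdPrime φ) →ₐ[A] S` for `φ : C →ₐ[A] S`.
* `range_toLocAlg_props`: for `C` étale and `S` flat, the range is a local subalgebra, dominated by
  `S`, and `EGA4loc.IsEssentiallyEtale`.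
* `exists_essEtale_sub`: every finite subset of a strict henselization lies in such a subalgebra.
* `essEtale_of_unramified`: an unramified, ess. f.t. local subalgebra `D` of a flat local `S`,
  dominated by `S`, is `EGA4loc.IsEssentiallyEtale`.
* `mem_range_toLocAlg_of_mul_eq`, `exists_essEtale_sub'`: descent of divisibility (`u x = e`,
  `u, e ∈ E`, `u` a non-zero-divisor of `S` ⇒ `x ∈ E`).
* `isLocalHom_algebraMap_of_essEtale`, `isLocalHom_of_essEtale_sub`.
* `le_of_essFiniteType`: a subalgebra `D`, essentially of finite type, lies in every subalgebra `E`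
  with `E → S` local which contains a certain finite set.
-/

set_option autoImplicit false
universe u

namespace Groth.Agent.Lib.ShSub6

open IsLocalRing Groth.Agent.Lib.HznNormal96 Groth.Agent.Lib.H56ShNormal

section
variable {A S : Type u} [CommRing A] [IsLocalRing A] [CommRing S] [IsLocalRing S] [Algebra A S]
  [IsLocalHom (algebraMap A S)]
variable {C : Type u} [CommRing C] [Algebra A C] (φ : C →ₐ[A] S)

/-- `toLoc` as an `A`-algebra map. -/
noncomputable def toLocAlg : Localization.AtPrime (nbhdPrime φ) →ₐ[A] S :=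
  { toLoc φ with
    commutes' := fun r => by
      change toLoc φ (algebraMap A (Localization.AtPrime (nbhdPrime φ)) r) = _
      rw [IsScalarTower.algebraMap_apply A C (Localization.AtPrime (nbhdPrime φ)),
        toLoc_algebraMap, φ.commutes] }

omit [IsLocalRing A] [IsLocalHom (algebraMap A S)] in
theorem toLocAlg_apply (x : Localization.AtPrime (nbhdPrime φ)) : toLocAlg φ x = toLoc φ x := rfl

theorem nbhdPrime_comap : (nbhdPrime φ).comap (algebraMap A C) = maximalIdeal A := by
  ext a
  simp only [nbhdPrime, Ideal.mem_comap, AlgHom.commutes]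
  constructor
  · intro h
    by_contra h'
    have : IsUnit a := by simpa [mem_maximalIdeal, mem_nonunits_iff] using h'
    exact h (this.map (algebraMap A S))
  · intro h hu
    exact h ((isUnit_map_iff (algebraMap A S) a).mp hu)

/-- The essentially étale local subalgebra of `S` attached to an étale neighbourhood. -/
theorem range_toLocAlg_props [Algebra.Etale A C] [Module.Flat A S] :
    ∃ _ : IsLocalRing (toLocAlg φ).range, IsLocalHom (algebraMap (toLocAlg φ).range S) ∧
      EGA4loc.IsEssentiallyEtale A (toLocAlg φ).range := by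
  have hinj : Function.Injective (toLocAlg φ) := toLoc_injective φ
  let e : Localization.AtPrime (nbhdPrime φ) ≃ₐ[A] (toLocAlg φ).range :=
    AlgEquiv.ofInjective (toLocAlg φ) hinj
  have hloc : IsLocalRing (toLocAlg φ).range := e.toRingEquiv.isLocalRing
  refine ⟨hloc, ⟨fun x hx => ?_⟩, ⟨C, inferInstance, inferInstance, nbhdPrime φ, inferInstance,
    inferInstance, nbhdPrime_comap φ, ⟨e.symm⟩⟩⟩
  have hx' : IsUnit (x : S) := hx
  obtain ⟨y, hy⟩ := e.surjective x
  have h1 : toLoc φ y = (x : S) := by rw [← hy]; rfl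
  have : IsUnit y := (isLocalHom_toLoc φ).map_nonunit y (h1 ▸ hx')
  rw [← hy]
  exact this.map e

end

section
variable (A S : Type u) [CommRing A] [IsLocalRing A] [CommRing S] [IsLocalRing S] [Algebra A S]
  [IsLocalHom (algebraMap A S)] [Hensel.IsStrictHenselization A S]

/-- Every finite subset of a strict henselization lies in an essentially étale local subalgebra. -/
theorem exists_essEtale_sub (F : Finset S) :
    ∃ E : Subalgebra A S, (F : Set S) ⊆ (E : Set S) ∧ ∃ _ : IsLocalRing E,
      IsLocalHom (algebraMap E S) ∧ EGA4loc.IsEssentiallyEtale A E := by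
  obtain ⟨C, _, _, _, φ, hφ⟩ := Groth.Agent.Lib.H56ShGen.exists_etale_of_finset A S F
  have : Module.FaithfullyFlat A S :=
    Groth.Agent.Lib.StrictHenselization.faithfullyFlat_of_isStrictHenselization A S
  refine ⟨(toLocAlg φ).range, ?_, range_toLocAlg_props φ⟩
  intro x hx
  obtain ⟨c, rfl⟩ := hφ x hx
  exact ⟨algebraMap C _ c, toLoc_algebraMap φ c⟩

end

/-- A local subalgebra `D` of `S`, dominated by `S` and essentially of finite type, lies in
any subalgebra `E` (with `E → S` local) containing a suitable finite set. -/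
theorem le_of_essFiniteType {A S : Type u} [CommRing A] [CommRing S] [Algebra A S]
    (D : Subalgebra A S) [Algebra.EssFiniteType A D] :
    ∃ F : Finset S, ∀ E : Subalgebra A S, (F : Set S) ⊆ (E : Set S) →
      IsLocalHom (algebraMap E S) → D ≤ E := by
  classical
  obtain ⟨σ, hσ⟩ := (Algebra.essFiniteType_iff (R := A) (S := D)).mp inferInstance
  refine ⟨σ.image Subtype.val, fun E hFE hlocal => ?_⟩
  have hadj : ∀ t ∈ Algebra.adjoin A (σ : Set D), (t : S) ∈ E := by
    intro t ht
    have h1 : (t : S) ∈ (Algebra.adjoin A (σ : Set D)).map D.val := ⟨t, ht, rfl⟩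
    rw [AlgHom.map_adjoin] at h1
    refine Algebra.adjoin_le ?_ h1
    intro x hx
    apply hFE
    simpa using hx
  intro d hd
  obtain ⟨t, ht, htu, hdt⟩ := hσ ⟨d, hd⟩
  have h1 := hadj t ht
  have h2 := hadj _ hdt
  have htS : IsUnit (t : S) := htu.map D.val
  have htE : IsUnit (⟨t, h1⟩ : E) := hlocal.map_nonunit _ htS
  obtain ⟨t', ht'⟩ := htE.exists_right_inv
  have h3 : (t : S) * (t' : S) = 1 := congrArg Subtype.val ht'
  have : d = (d * (t : S)) * t' := by rw [mul_assoc, h3, mul_one]
  rw [this]
  exact E.mul_mem h2 t'.2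

theorem toLoc_mk' {A S : Type u} [CommRing A] [CommRing S] [IsLocalRing S] [Algebra A S]
    {C : Type u} [CommRing C] [Algebra A C] (φ : C →ₐ[A] S) (c : C)
    (t : (nbhdPrime φ).primeCompl) :
    φ c = φ t * toLoc φ (IsLocalization.mk' _ c t) :=
  (IsLocalization.lift_mk'_spec _ _ _ _).1 rfl

/-- An unramified, essentially of finite type, local subalgebra `D` of a flat local `A`-algebra `S`
which is dominated by `S` is an essentially étale local `A`-algebra. -/
theorem essEtale_of_unramified {A S : Type u} [CommRing A] [IsLocalRing A] [CommRing S]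
    [IsLocalRing S] [Algebra A S] [IsLocalHom (algebraMap A S)] [Module.Flat A S]
    (D : Subalgebra A S) [IsLocalRing D] [IsLocalHom (algebraMap D S)]
    [Algebra.EssFiniteType A D] [Algebra.FormallyUnramified A D] :
    EGA4loc.IsEssentiallyEtale A D := by
  let B := Algebra.EssFiniteType.subalgebra A D
  let P : Ideal B := (maximalIdeal D).comap (algebraMap B D)
  have hP : P.IsPrime := Ideal.comap_isPrime _ _
  have hPmem : ∀ b : B, b ∈ P ↔ ¬ IsUnit (algebraMap B D b) := fun b => by
    simp [P, mem_maximalIdeal, mem_nonunits_iff]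
  have hM : Algebra.EssFiniteType.submonoid A D = P.primeCompl := by
    ext b
    rw [Ideal.mem_primeCompl_iff, hPmem, not_not]
    rfl
  have hloc : IsLocalization P.primeCompl D := by
    have := Algebra.EssFiniteType.isLocalization (R := A) (S := D)
    rwa [hM] at this
  let e : Localization.AtPrime P ≃ₐ[B] D := IsLocalization.algEquiv P.primeCompl _ _
  have hunr : Algebra.FormallyUnramified A (Localization.AtPrime P) :=
    .of_equiv (e.restrictScalars A).symm
  have : Algebra.IsUnramifiedAt A P := hunr
  obtain ⟨f, hfP, Pr, φ, hφ⟩ :=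
    Algebra.IsUnramifiedAt.exists_hasStandardEtaleSurjectionOn (R := A) P
  have hfu : IsUnit (algebraMap B D f) := by
    by_contra h; exact hfP ((hPmem f).mpr h)
  let g : Localization.Away f →ₐ[A] D :=
    IsLocalization.liftAlgHom (M := Submonoid.powers f) (f := IsScalarTower.toAlgHom A B D)
      (by rintro ⟨_, n, rfl⟩; simpa using hfu.pow n)
  have hg : ∀ b : B, g (algebraMap B (Localization.Away f) b) = algebraMap B D b := fun b => by
    simp [g]
  let ψ : Pr.Ring →ₐ[A] S := D.val.comp (g.comp φ)
  have hψD : ∀ c, ψ c ∈ D := fun c => (g (φ c)).2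
  -- every element of `B` is in the image of `ψ`
  have hψB : ∀ b : B, ∃ c, ψ c = ((b : D) : S) := fun b => by
    obtain ⟨c, hc⟩ := hφ (algebraMap B (Localization.Away f) b)
    refine ⟨c, ?_⟩
    change ((g (φ c) : D) : S) = _
    rw [hc, hg]; rfl
  have hED : (toLocAlg ψ).range = D := by
    apply le_antisymm
    · rintro _ ⟨x, rfl⟩
      obtain ⟨c, t, rfl⟩ := IsLocalization.exists_mk'_eq (nbhdPrime ψ).primeCompl x
      have h1 : ψ c = ψ t * toLoc ψ (IsLocalization.mk' _ c t) := toLoc_mk' ψ c t
      have htS : IsUnit (ψ t.1) := by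
        have h : (ψ t.1) ∉ maximalIdeal S := t.2
        simpa [mem_maximalIdeal, mem_nonunits_iff] using h
      have htD : IsUnit (⟨ψ t.1, hψD _⟩ : D) :=
        (inferInstance : IsLocalHom (algebraMap D S)).map_nonunit _ htS
      obtain ⟨t', ht'⟩ := htD.exists_right_inv
      have h3 : ψ t.1 * (t' : S) = 1 := congrArg Subtype.val ht'
      have h4 : toLoc ψ (IsLocalization.mk' _ c t) = ψ c * t' := by
        calc toLoc ψ (IsLocalization.mk' _ c t)
            = (ψ t.1 * (t' : S)) * toLoc ψ (IsLocalization.mk' _ c t) := by rw [h3, one_mul]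
          _ = (ψ t.1 * toLoc ψ (IsLocalization.mk' _ c t)) * t' := by ring
          _ = ψ c * t' := by rw [← h1]
      have key : toLoc ψ (IsLocalization.mk' _ c t) ∈ D := by
        rw [h4]
        exact D.mul_mem (hψD c) t'.2
      exact key
    · intro d hd
      obtain ⟨⟨b, t⟩, hbt⟩ := IsLocalization.surj P.primeCompl (⟨d, hd⟩ : D)
      obtain ⟨cb, hcb⟩ := hψB b
      obtain ⟨ct, hct⟩ := hψB t.1
      have htu : IsUnit (algebraMap B D t.1) := by
        by_contra h; exact t.2 ((hPmem _).mpr h)
      have htS : IsUnit (ψ ct) := by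
        rw [hct]; exact htu.map D.val
      have hctq : ct ∈ (nbhdPrime ψ).primeCompl := by
        intro hmem
        exact hmem htS
      have h1 : ψ cb = ψ ct * toLoc ψ (IsLocalization.mk' _ cb ⟨ct, hctq⟩) :=
        toLoc_mk' ψ cb ⟨ct, hctq⟩
      have h2 : d * ψ ct = ψ cb := by
        rw [hct, hcb]
        exact congrArg Subtype.val hbt
      have key : toLoc ψ (IsLocalization.mk' _ cb ⟨ct, hctq⟩) = d := by
        apply htS.mul_left_cancel
        rw [← h1, ← h2, mul_comm]
      exact ⟨IsLocalization.mk' _ cb ⟨ct, hctq⟩, key⟩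
  obtain ⟨_, _, C, _, _, q, _, hC, hq, ⟨e'⟩⟩ := range_toLocAlg_props ψ
  exact ⟨C, inferInstance, inferInstance, q, inferInstance, hC, hq,
    ⟨(Subalgebra.equivOfEq _ _ hED).symm.trans e'⟩⟩


/-- Divisibility descends to the essentially étale local subalgebra attached to an étale
neighbourhood (faithful flatness of `C_q → S`). -/
theorem mem_range_toLocAlg_of_mul_eq {A S : Type u} [CommRing A] [CommRing S] [IsLocalRing S]
    [Algebra A S] {C : Type u} [CommRing C] [Algebra A C] (φ : C →ₐ[A] S) [Algebra.Etale A C]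
    [Module.Flat A S] {u e x : S} (hu : u ∈ (toLocAlg φ).range) (he : e ∈ (toLocAlg φ).range)
    (hux : u * x = e) (hreg : u ∈ nonZeroDivisors S) : x ∈ (toLocAlg φ).range := by
  let _ : Algebra C S := (φ : C →+* S).toAlgebra
  have htower : IsScalarTower A C S :=
    IsScalarTower.of_algebraMap_eq (fun r => (φ.commutes r).symm)
  have hflatE : Module.Flat C S :=
    Groth.Agent.Lib.DiagFlat.flat_of_flat_lmul' (Algebra.WeaklyEtale.flat_lmul' A C) S
  let _ : Algebra (Localization.AtPrime (nbhdPrime φ)) S := (toLoc φ).toAlgebra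
  have htower' : IsScalarTower C (Localization.AtPrime (nbhdPrime φ)) S :=
    IsScalarTower.of_algebraMap_eq (fun e => (toLoc_algebraMap φ e).symm)
  have hflatL : Module.Flat (Localization.AtPrime (nbhdPrime φ)) S :=
    (Module.flat_iff_of_isLocalization (Localization.AtPrime (nbhdPrime φ))
      (nbhdPrime φ).primeCompl S).2 hflatE
  have hloc : IsLocalHom (algebraMap (Localization.AtPrime (nbhdPrime φ)) S) :=
    isLocalHom_toLoc φ
  have hff : Module.FaithfullyFlat (Localization.AtPrime (nbhdPrime φ)) S :=
    Module.FaithfullyFlat.of_flat_of_isLocalHom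
  obtain ⟨cu, rfl⟩ := hu
  obtain ⟨ce, rfl⟩ := he
  have h1 : ce ∈ ((Ideal.span {cu}).map
      (algebraMap (Localization.AtPrime (nbhdPrime φ)) S)).comap
      (algebraMap (Localization.AtPrime (nbhdPrime φ)) S) := by
    rw [Ideal.mem_comap, Ideal.map_span, Set.image_singleton, Ideal.mem_span_singleton]
    exact ⟨x, hux.symm⟩
  rw [Ideal.comap_map_eq_self_of_faithfullyFlat, Ideal.mem_span_singleton] at h1
  obtain ⟨c, rfl⟩ := h1
  refine ⟨c, ?_⟩
  have h2 : toLoc φ cu * x = toLoc φ cu * toLoc φ c := by
    rw [← map_mul]; exact hux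
  have h3 : toLoc φ cu * (toLoc φ c - x) = 0 := by rw [mul_sub, h2, sub_self]
  have h4 := (mem_nonZeroDivisors_iff.mp hreg).1 _ h3
  exact sub_eq_zero.mp h4



/-- The structure map of an essentially étale local algebra is local. -/
theorem isLocalHom_algebraMap_of_essEtale (A E : Type u) [CommRing A] [IsLocalRing A] [CommRing E]
    [Algebra A E] (hE : EGA4loc.IsEssentiallyEtale A E) : IsLocalHom (algebraMap A E) := by
  obtain ⟨C, _, _, q, _, hC, hq, ⟨e⟩⟩ := hE
  refine ⟨fun a ha => ?_⟩
  have h1 : IsUnit (e (algebraMap A E a)) := ha.map e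
  rw [e.commutes, IsScalarTower.algebraMap_apply A C (Localization.AtPrime q),
    IsLocalization.AtPrime.isUnit_to_map_iff (Localization.AtPrime q) q] at h1
  have h2 : a ∉ maximalIdeal A := by
    rw [← hq]; exact h1
  simpa [mem_maximalIdeal, mem_nonunits_iff] using h2

/-- An essentially étale local `A`-subalgebra of a local `A`-algebra `S` (with `A → S` local) is
dominated by `S`. -/
theorem isLocalHom_of_essEtale_sub {A S : Type u} [CommRing A] [IsLocalRing A] [CommRing S]
    [IsLocalRing S] [Algebra A S] [IsLocalHom (algebraMap A S)] (E : Subalgebra A S)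
    [IsLocalRing E] (hE : EGA4loc.IsEssentiallyEtale A E) : IsLocalHom (algebraMap E S) := by
  have := isLocalHom_algebraMap_of_essEtale A E hE
  obtain ⟨h1, h2, h3⟩ := Groth.Agent.Lib.FracEssEtale6.instances_of_essEtale A E hE
  have hm : (maximalIdeal A).map (algebraMap A E) = maximalIdeal E :=
    Algebra.FormallyUnramified.map_maximalIdeal
  refine ((local_hom_TFAE (algebraMap E S)).out 2 0).mp ?_
  rw [← hm, Ideal.map_map, ← IsScalarTower.algebraMap_eq]
  exact map_maximalIdeal_le (algebraMap A S)

section
variable (A S : Type u) [CommRing A] [IsLocalRing A] [CommRing S] [IsLocalRing S] [Algebra A S]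
  [IsLocalHom (algebraMap A S)] [Hensel.IsStrictHenselization A S]

/-- Variant of `exists_essEtale_sub` also recording descent of divisibility. -/
theorem exists_essEtale_sub' (F : Finset S) :
    ∃ E : Subalgebra A S, (F : Set S) ⊆ (E : Set S) ∧ (∃ _ : IsLocalRing E,
      IsLocalHom (algebraMap E S) ∧ EGA4loc.IsEssentiallyEtale A E) ∧
      ∀ u e x : S, u ∈ E → e ∈ E → u * x = e → u ∈ nonZeroDivisors S → x ∈ E := by
  obtain ⟨C, _, _, _, φ, hφ⟩ := Groth.Agent.Lib.H56ShGen.exists_etale_of_finset A S F
  have : Module.FaithfullyFlat A S :=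
    Groth.Agent.Lib.StrictHenselization.faithfullyFlat_of_isStrictHenselization A S
  refine ⟨(toLocAlg φ).range, ?_, range_toLocAlg_props φ, fun u e x hu he hux hreg =>
    mem_range_toLocAlg_of_mul_eq φ hu he hux hreg⟩
  intro x hx
  obtain ⟨c, rfl⟩ := hφ x hx
  exact ⟨algebraMap C _ c, toLoc_algebraMap φ c⟩

end


end Groth.Agent.Lib.ShSub6
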