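import Groth.Agent.Lib.HenselGalois61
import Groth.Agent.Lib.ShSub6
import Groth.Agent.Lib.FiniteEtaleLocalIso61
import Groth.Agent.Lib.HenselEtaleLift
import Mathlib

/-!
# Galois finite etale local covers inside a strict henselization (helper61)

`exists_galois_cover`: for a Noetherian henselian local ring `A` with strict henselization `S`,
every finite subset of `S` lies in the image of a finite etale local `A`-algebra `E'` whose residue
field is Galois over that of `A`.
-/

set_option autoImplicit false
universe u

namespace Groth.Agent.Lib.ShGaloisCover61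

open IsLocalRing Groth.Agent.Lib.FinEtaleGalois61 Groth.Agent.Lib.HenselGalois61

/-- An `A`-algebra map from an unramified local `A`-algebra to a local `A`-algebra (with local
structure maps) is local. -/
theorem isLocalHom_of_unramified {A E T : Type*} [CommRing A] [IsLocalRing A] [CommRing E]
    [IsLocalRing E] [CommRing T] [IsLocalRing T] [Algebra A E] [Algebra A T]
    [IsLocalHom (algebraMap A E)] [IsLocalHom (algebraMap A T)]
    [Algebra.FormallyUnramified A E] [Algebra.EssFiniteType A E] (φ : E →ₐ[A] T) :
    IsLocalHom (φ : E →+* T) := by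
  refine ((local_hom_TFAE (φ : E →+* T)).out 2 0).mp ?_
  have hm : (maximalIdeal A).map (algebraMap A E) = maximalIdeal E :=
    Algebra.FormallyUnramified.map_maximalIdeal
  rw [← hm, Ideal.map_map]
  have : (φ : E →+* T).comp (algebraMap A E) = algebraMap A T := φ.comp_algebraMap
  rw [this]
  exact map_maximalIdeal_le (algebraMap A T)

variable (A S : Type u) [CommRing A] [HenselianLocalRing A] [IsNoetherianRing A]
  [CommRing S] [IsLocalRing S] [Algebra A S] [IsLocalHom (algebraMap A S)]
  [Hensel.IsStrictHenselization A S]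

theorem exists_galois_cover (F : Finset S) :
    ∃ (E' : Type u) (_ : CommRing E') (_ : IsLocalRing E') (_ : Algebra A E')
      (_ : IsLocalHom (algebraMap A E')),
      Module.Finite A E' ∧ Algebra.Etale A E' ∧ IsGalois (ResidueField A) (ResidueField E') ∧
      ∃ j : E' →ₐ[A] S, IsLocalHom (j : E' →+* S) ∧ ∀ s ∈ F, s ∈ j.range := by
  obtain ⟨E₁, hF, hloc, hlocS, hess⟩ := Groth.Agent.Lib.ShSub6.exists_essEtale_sub A S F
  obtain ⟨hfin₁, het₁⟩ :=
    Groth.Agent.Lib.FiniteEtaleLocalIso61.finite_etale_of_isEssentiallyEtale A E₁ hess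
  have hlocA : IsLocalHom (algebraMap A E₁) :=
    Groth.Agent.Lib.ShSub6.isLocalHom_algebraMap_of_essEtale A E₁ hess
  let k := ResidueField A
  let k₁ := ResidueField E₁
  let kS := ResidueField S
  have hsc : IsSepClosure k kS := Hensel.IsStrictHenselization.isSepClosure
  have hhS : HenselianLocalRing S := Hensel.IsStrictHenselization.henselian A
  let kN : IntermediateField k kS := IntermediateField.normalClosure k k₁ kS
  have hgalN : IsGalois k kN := inferInstance
  have hfdN : FiniteDimensional k kN := inferInstance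
  have hsepN : Algebra.IsSeparable k kN := inferInstance
  obtain ⟨E', _, _, _, _, hfin', het', ⟨θ'⟩⟩ :=
    Groth.Agent.Lib.FiniteEtaleLiftLocal.exists_local_finite_etale A kN
  have hgal' : IsGalois k (ResidueField E') := IsGalois.of_algEquiv θ'.symm
  let σ₁ : k₁ →ₐ[k] ResidueField E' :=
    (θ'.symm : kN →ₐ[k] ResidueField E').comp (IsScalarTower.toAlgHom k k₁ kN)
  obtain ⟨u, hu⟩ := exists_lift E₁ E' σ₁
  let τ : ResidueField E' →ₐ[k] kS := kN.val.comp (θ' : ResidueField E' →ₐ[k] kN)
  let σ₀ : E' →ₐ[A] S ⧸ maximalIdeal S := (τ.restrictScalars A).comp (resAlg (A := A) E')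
  obtain ⟨j, hj⟩ := Groth.Agent.Lib.HenselEtaleLift.exists_lift_of_algebra (A := A) (S := E')
    (maximalIdeal S) σ₀
  have hjres : ∀ x, residue S (j x) = τ (residue E' x) := fun x => congr($hj x)
  have hju : j.comp u = E₁.val := by
    apply lift_unique
    intro x
    rw [AlgHom.comp_apply, hjres, hu]
    change ((θ' (θ'.symm (algebraMap k₁ kN (residue E₁ x))) : kN) : kS) = _
    rw [AlgEquiv.apply_symm_apply]
    rfl
  refine ⟨E', inferInstance, inferInstance, inferInstance, inferInstance, hfin', het', hgal', j,
    isLocalHom_of_unramified j, fun s hs => ?_⟩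
  exact ⟨u ⟨s, hF hs⟩, congr($hju ⟨s, hF hs⟩)⟩

end Groth.Agent.Lib.ShGaloisCover61
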