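import Groth.Agent.Lib.FinEtaleQuotient61
import Groth.Agent.Lib.ShGaloisCover61
import Groth.Agent.Lib.ShFracInter25
import Groth.Agent.Lib.StrictHenselization
import Mathlib

/-!
# Subfields of `Frac(S/Q)` for a minimal prime `Q` of a strict henselization (helper61)

`exists_finite_unramified_inter`: `A` Noetherian henselian local, `S = A^sh`, `Q` a minimal prime
of `S`, `t` a finite subset of `Frac(S/Q)`: the ring `(S/Q) ∩ Frac(A)(t)` is a finite, formally
unramified `A`-algebra.
-/

set_option autoImplicit false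
universe u

namespace Groth.Agent.Lib.ShQuotInter61

open IsLocalRing Pointwise
open Groth.Agent.Lib.FinEtaleGalois61 Groth.Agent.Lib.HenselGalois61
  Groth.Agent.Lib.ShGaloisCover61 Groth.Agent.Lib.FinEtaleQuotient61
  Groth.Agent.Lib.ShFracInter25

variable (A S : Type u) [CommRing A] [HenselianLocalRing A] [IsNoetherianRing A]
  [CommRing S] [IsLocalRing S] [Algebra A S] [IsLocalHom (algebraMap A S)]
  [Hensel.IsStrictHenselization A S]

attribute [local instance] FractionRing.liftAlgebra

theorem exists_finite_unramified_inter (Q : Ideal S) (hQ : Q ∈ minimalPrimes S) [Q.IsPrime]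
    (t : Finset (FractionRing (S ⧸ Q))) :
    ∃ D' : Subalgebra A (S ⧸ Q), (D' : Set (S ⧸ Q)) = (algebraMap (S ⧸ Q) (FractionRing (S ⧸ Q))) ⁻¹'
        (Subfield.closure (Set.range (algebraMap A (FractionRing (S ⧸ Q))) ∪
          (t : Set (FractionRing (S ⧸ Q)))) : Set (FractionRing (S ⧸ Q))) ∧
      Module.Finite A D' ∧ Algebra.FormallyUnramified A D' := by
  classical
  let Ω := FractionRing (S ⧸ Q)
  let M : Subfield Ω := Subfield.closure (Set.range (algebraMap A Ω) ∪ (t : Set Ω))
  obtain ⟨E₀, -, hlocE₀, hlocE₀S, hessE₀, -, hffE₀, hmin, hM⟩ :=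
    exists_essEtale_sub_frac A S Q t ∅
  obtain ⟨hfinE₀, hetE₀⟩ :=
    Groth.Agent.Lib.FiniteEtaleLocalIso61.finite_etale_of_isEssentiallyEtale A E₀ hessE₀
  obtain ⟨s₀, hs₀⟩ := (Module.Finite.fg_top : (⊤ : Submodule A E₀).FG)
  let F₀ : Finset S := s₀.image Subtype.val
  obtain ⟨E', _, _, _, _, hfin', het', hgal', j, hjloc, hjF⟩ := exists_galois_cover A S F₀
  have hE₀le : ∀ x : E₀, (x : S) ∈ j.range := by
    intro x
    have hx : x ∈ Submodule.span A (s₀ : Set E₀) := by rw [hs₀]; trivial
    induction hx using Submodule.span_induction with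
    | mem y hy => exact hjF _ (Finset.mem_image_of_mem _ hy)
    | zero => exact j.range.zero_mem
    | add y z _ _ hy hz => exact j.range.add_mem hy hz
    | smul a y _ hy => exact j.range.smul_mem hy a
  -- `j` is faithfully flat
  have hflatS : Module.FaithfullyFlat A S :=
    Groth.Agent.Lib.StrictHenselization.faithfullyFlat_of_isStrictHenselization A S
  let _ : Algebra E' S := (j : E' →+* S).toAlgebra
  have htower : IsScalarTower A E' S :=
    IsScalarTower.of_algebraMap_eq (fun r => (j.commutes r).symm)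
  have hlocj : IsLocalHom (algebraMap E' S) := hjloc
  have hffj : Module.FaithfullyFlat E' S := faithfullyFlat_of_etale (A := A)
  have hjalg : ∀ e : E', algebraMap E' S e = j e := fun _ => rfl
  -- the prime `p`
  let p : Ideal E' := Q.comap (algebraMap E' S)
  have hp : p.IsPrime := Ideal.comap_isPrime _ _
  have hQp : Q = p.map (algebraMap E' S) := by
    apply le_antisymm
    · have h1 := hmin Q hQ
      rw [h1]
      rw [Ideal.map_le_iff_le_comap]
      intro x hx
      obtain ⟨e, he⟩ := hE₀le x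
      rw [Ideal.mem_comap]
      have h2 : algebraMap E₀ S x = algebraMap E' S e := he.symm
      rw [h2]
      apply Ideal.mem_map_of_mem
      change algebraMap E' S e ∈ Q
      rw [← h2]
      exact hx
    · exact Ideal.map_comap_le
  -- the quotient map
  let jb : E' ⧸ p →ₐ[A] S ⧸ Q := Ideal.quotientMapₐ Q j (le_refl _)
  have hjb : ∀ e : E', jb (Ideal.Quotient.mk p e) = Ideal.Quotient.mk Q (j e) := fun _ => rfl
  have hjbinj : Function.Injective jb := by
    rw [injective_iff_map_eq_zero]
    intro y hy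
    obtain ⟨e, rfl⟩ := Ideal.Quotient.mk_surjective y
    rw [hjb, Ideal.Quotient.eq_zero_iff_mem] at hy
    exact Ideal.Quotient.eq_zero_iff_mem.mpr hy
  let B := E' ⧸ p
  let K₀ := FractionRing (A ⧸ p.under A)
  let K₁ := FractionRing B
  have hginj : Function.Injective ((algebraMap (S ⧸ Q) Ω).comp (jb : B →+* S ⧸ Q)) :=
    (IsFractionRing.injective (S ⧸ Q) Ω).comp hjbinj
  let jh : K₁ →+* Ω := IsFractionRing.lift hginj
  have hjh : ∀ y : B, jh (algebraMap B K₁ y) = algebraMap (S ⧸ Q) Ω (jb y) :=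
    fun y => IsFractionRing.lift_algebraMap hginj y
  have hjhA : ∀ a : A, jh (algebraMap (A ⧸ p.under A) K₁ (Ideal.Quotient.mk _ a)) =
      algebraMap A Ω a := by
    intro a
    rw [IsScalarTower.algebraMap_apply (A ⧸ p.under A) B K₁, hjh]
    have h1 : algebraMap (A ⧸ p.under A) B (Ideal.Quotient.mk _ a) =
        Ideal.Quotient.mk p (algebraMap A E' a) := rfl
    rw [h1, hjb, j.commutes, IsScalarTower.algebraMap_apply A (S ⧸ Q) Ω]
    rfl
  let L₁ : IntermediateField K₀ K₁ :=
    { M.comap jh with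
      algebraMap_mem' := fun c => by
        obtain ⟨a, b, hb, rfl⟩ := IsFractionRing.div_surjective (A ⧸ p.under A) c
        obtain ⟨a, rfl⟩ := Ideal.Quotient.mk_surjective a
        obtain ⟨b, rfl⟩ := Ideal.Quotient.mk_surjective b
        change jh (algebraMap K₀ K₁ (algebraMap (A ⧸ p.under A) K₀ (Ideal.Quotient.mk _ a) /
          algebraMap (A ⧸ p.under A) K₀ (Ideal.Quotient.mk _ b))) ∈ M
        rw [map_div₀, map_div₀, ← IsScalarTower.algebraMap_apply,
          ← IsScalarTower.algebraMap_apply, hjhA, hjhA]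
        exact M.div_mem (Subfield.subset_closure (Or.inl ⟨a, rfl⟩))
          (Subfield.subset_closure (Or.inl ⟨b, rfl⟩)) }
  have hL₁mem : ∀ l : K₁, l ∈ L₁ ↔ jh l ∈ M := fun l => Iff.rfl
  let D₁ : Subalgebra A B :=
    { carrier := {y | algebraMap B K₁ y ∈ L₁}
      mul_mem' := fun {x y} hx hy => by
        change algebraMap B K₁ (x * y) ∈ L₁
        rw [map_mul]; exact L₁.mul_mem hx hy
      add_mem' := fun {x y} hx hy => by
        change algebraMap B K₁ (x + y) ∈ L₁
        rw [map_add]; exact L₁.add_mem hx hy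
      algebraMap_mem' := fun a => by
        change algebraMap B K₁ (algebraMap A B a) ∈ L₁
        rw [hL₁mem]
        have h1 : algebraMap B K₁ (algebraMap A B a) =
            algebraMap (A ⧸ p.under A) K₁ (Ideal.Quotient.mk _ a) := by
          rw [IsScalarTower.algebraMap_apply (A ⧸ p.under A) B K₁]
          rfl
        rw [h1, hjhA]
        exact Subfield.subset_closure (Or.inl ⟨a, rfl⟩) }
  have hD₁ : ∀ y, y ∈ D₁ ↔ algebraMap B K₁ y ∈ L₁ := fun y => Iff.rfl
  obtain ⟨hfinD₁, hunrD₁⟩ := finite_unramified_of_intermediateField A E' p L₁ D₁ hD₁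
  let e : D₁ ≃ₐ[A] D₁.map jb := D₁.equivMapOfInjective jb hjbinj
  refine ⟨D₁.map jb, ?_, Module.Finite.equiv e.toLinearEquiv, Algebra.FormallyUnramified.of_equiv e⟩
  ext xb
  simp only [Subalgebra.coe_map, Set.mem_image, SetLike.mem_coe, Set.mem_preimage]
  constructor
  · rintro ⟨y, hy, rfl⟩
    rw [← hjh]
    exact (hL₁mem _).mp ((hD₁ y).mp hy)
  · intro hx
    obtain ⟨x, rfl⟩ := Ideal.Quotient.mk_surjective xb
    have hx' : toK Q x ∈ fracSub Q E₀.toSubring := hM hx
    have hQE₀ : Q = (Q.comap (algebraMap E₀ S)).map (algebraMap E₀ S) := hmin Q hQ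
    obtain ⟨e₀, he₀, he₀x⟩ := exists_mem_of_toK_mem_fracSub Q E₀ hQE₀ x hx'
    obtain ⟨e', he'⟩ := hE₀le ⟨e₀, he₀⟩
    refine ⟨Ideal.Quotient.mk p e', ?_, ?_⟩
    · rw [hD₁, hL₁mem, hjh, hjb]
      have : j e' = e₀ := he'
      rw [this, he₀x]
      exact hx
    · rw [hjb]
      have : j e' = e₀ := he'
      rw [this, he₀x]

end Groth.Agent.Lib.ShQuotInter61
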