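import Groth.Agent.Lib.FinEtaleBranch61
import Groth.Agent.Lib.ShQuotInter61
import Groth.Agent.Lib.FlatIdealInf61
import Groth.Agent.Lib.StrictHensQuotB96
import Groth.Agent.Lib.HznWeaklyEtale96
import Groth.Agent.Lib.HenselIntegralLocal
import Mathlib

/-!
# Finite subalgebras of a strict henselization with trivial residue extension (helper61)

`B` a Noetherian henselian local ring, `S = B^sh`.  For a subset `D ⊆ S` and a prime `Q` of `S`
let `PropU D Q` say: every `x ∈ S` whose class in `S/Q` is a fraction of elements of `D` is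
congruent to an element of `D` modulo `m_S`.

* `le_of_under_eq`: if `PropU (range B) Q` then every prime `Q'` of `S` with `Q' ∩ B = Q ∩ B` is
  contained in `Q`.
* `exists_sub_mem_of_propU`: `D` a finite `B`-subalgebra with trivial residue extension, `Q` a
  minimal prime with `PropU D Q`: then `D ⊆ B + Q`.
* `eq_bot_of_propU`: if moreover `B` is reduced and `PropU D Q` holds for all minimal `Q`, then
  `D = B` and every minimal prime of `S` is extended from `B`.
-/

set_option autoImplicit false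
set_option linter.unusedSectionVars false
universe u

namespace Groth.Agent.Lib.ShFiniteSubTrivial61

open IsLocalRing Pointwise
open Groth.Agent.Lib.FinEtaleGalois61 Groth.Agent.Lib.HenselGalois61
  Groth.Agent.Lib.ShGaloisCover61 Groth.Agent.Lib.FinEtaleQuotient61
  Groth.Agent.Lib.ShFracInter25 Groth.Agent.Lib.FinEtaleInvariant61

/-- Property (U). -/
def PropU {S : Type*} [CommRing S] [IsLocalRing S] (D : Set S) (Q : Ideal S) : Prop :=
  ∀ x : S, ∀ d₁ ∈ D, ∀ d₂ ∈ D, d₂ ∉ Q → x * d₂ - d₁ ∈ Q → ∃ d ∈ D, x - d ∈ maximalIdeal S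

variable (B S : Type u) [CommRing B] [HenselianLocalRing B] [IsNoetherianRing B]
  [CommRing S] [IsLocalRing S] [Algebra B S] [IsLocalHom (algebraMap B S)]
  [Hensel.IsStrictHenselization B S]

theorem le_of_under_eq (Q Q' : Ideal S) [Q.IsPrime] [Q'.IsPrime]
    (hQQ' : Q.under B = Q'.under B) (hU : PropU (Set.range (algebraMap B S)) Q) : Q' ≤ Q := by
  classical
  by_contra hle
  obtain ⟨s, hsQ', hsQ⟩ := SetLike.not_le_iff_exists.mp hle
  obtain ⟨E', _, _, _, _, hfin', het', hgal', j, hjloc, hjF⟩ := exists_galois_cover B S {s}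
  obtain ⟨e₀, he₀⟩ := hjF s (by simp)
  have he₀' : j e₀ = s := he₀
  let G := E' ≃ₐ[B] E'
  let q : Ideal E' := Q.comap (j : E' →+* S)
  let q' : Ideal E' := Q'.comap (j : E' →+* S)
  have hq : q.IsPrime := Ideal.comap_isPrime _ _
  have hq' : q'.IsPrime := Ideal.comap_isPrime _ _
  have hcomp : (j : E' →+* S).comp (algebraMap B E') = algebraMap B S := j.comp_algebraMap
  have hqu : q.under B = Q.under B := by
    change (Q.comap (j : E' →+* S)).comap (algebraMap B E') = Q.comap (algebraMap B S)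
    rw [Ideal.comap_comap, hcomp]
  have hq'u : q'.under B = Q'.under B := by
    change (Q'.comap (j : E' →+* S)).comap (algebraMap B E') = Q'.comap (algebraMap B S)
    rw [Ideal.comap_comap, hcomp]
  have hinv : Algebra.IsInvariant B E' G := isInvariant B E'
  have hfinG : Finite G := finite_aut B E'
  obtain ⟨g, hg⟩ := Algebra.IsInvariant.exists_smul_of_under_eq B E' G q q'
    (by rw [hqu, hq'u, hQQ'])
  have hgne : g • q ≠ q := by
    intro h
    have h1 : e₀ ∈ q' := by
      change j e₀ ∈ Q'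
      rw [he₀']; exact hsQ'
    rw [hg, h] at h1
    have h2 : j e₀ ∈ Q := h1
    rw [he₀'] at h2
    exact hsQ h2
  obtain ⟨x₀, b₁, b₂, hb₂, hx₀, hres⟩ :=
    Groth.Agent.Lib.FinEtaleBranch61.exists_of_smul_ne B E' q g hgne
  have hb₂' : algebraMap B S b₂ ∉ Q := by
    intro h
    apply hb₂
    rw [hqu]
    exact h
  have hx₀' : j x₀ * algebraMap B S b₂ - algebraMap B S b₁ ∈ Q := by
    have : j (x₀ * algebraMap B E' b₂ - algebraMap B E' b₁) ∈ Q := hx₀
    rwa [map_sub, map_mul, j.commutes, j.commutes] at this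
  obtain ⟨d, ⟨b, rfl⟩, hd⟩ := hU (j x₀) _ ⟨b₁, rfl⟩ _ ⟨b₂, rfl⟩ hb₂' hx₀'
  apply hres
  refine ⟨residue B b, ?_⟩
  have hjl : IsLocalHom (j : E' →+* S) := hjloc
  have hinj : Function.Injective (ResidueField.map (j : E' →+* S)) :=
    (ResidueField.map (j : E' →+* S)).injective
  apply hinj
  have h1 : residue S (j x₀) = residue S (algebraMap B S b) := by
    rw [← sub_eq_zero, ← map_sub, residue_eq_zero_iff]
    exact hd
  have h2 : ResidueField.map (j : E' →+* S) (residue E' x₀) = residue S (j x₀) :=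
    ResidueField.map_residue _ _
  have h3 : ResidueField.map (j : E' →+* S)
      (algebraMap (ResidueField B) (ResidueField E') (residue B b)) =
      residue S (algebraMap B S b) := by
    have : algebraMap (ResidueField B) (ResidueField E') (residue B b) =
        residue E' (algebraMap B E' b) := rfl
    rw [this, ResidueField.map_residue]
    congr 1
    exact j.commutes b
  rw [h3, h2, h1]

theorem exists_sub_mem_of_propU (D : Subalgebra B S) [Module.Finite B D]
    (hres : ∀ d ∈ D, ∃ b : B, d - algebraMap B S b ∈ maximalIdeal S)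
    (Q : Ideal S) (hQ : Q ∈ minimalPrimes S) [Q.IsPrime] (hU : PropU (D : Set S) Q) :
    ∀ d ∈ D, ∃ b : B, d - algebraMap B S b ∈ Q := by
  classical
  let Ω := FractionRing (S ⧸ Q)
  obtain ⟨s₀, hs₀⟩ := (Module.Finite.fg_top : (⊤ : Submodule B D).FG)
  let t : Finset Ω := s₀.image (fun d : D => toK Q (d : S))
  obtain ⟨D', hD'c, hfinD', hunrD'⟩ :=
    Groth.Agent.Lib.ShQuotInter61.exists_finite_unramified_inter B S Q hQ t
  let M : Subfield Ω := Subfield.closure (Set.range (algebraMap B Ω) ∪ (t : Set Ω))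
  have hD'mem : ∀ y : S ⧸ Q, y ∈ D' ↔ algebraMap (S ⧸ Q) Ω y ∈ M := by
    intro y
    exact Set.ext_iff.mp hD'c y
  have hMle : M ≤ fracSub Q D.toSubring := by
    rw [Subfield.closure_le]
    rintro z (⟨b, rfl⟩ | hz)
    · rw [algebraMap_eq_toK B S Q b]
      exact toK_mem_fracSub Q _ (D.algebraMap_mem b)
    · obtain ⟨d, _, rfl⟩ := Finset.mem_image.mp hz
      exact toK_mem_fracSub Q _ d.2
  have hDD' : ∀ d : D, Ideal.Quotient.mk Q (d : S) ∈ D' := by
    intro d
    have hx : d ∈ Submodule.span B (s₀ : Set D) := by rw [hs₀]; trivial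
    induction hx using Submodule.span_induction with
    | mem y hy =>
      rw [hD'mem]
      exact Subfield.subset_closure (Or.inr (Finset.mem_image_of_mem _ hy))
    | zero => simp
    | add y z _ _ hy hz =>
      have : Ideal.Quotient.mk Q ((y + z : D) : S) =
          Ideal.Quotient.mk Q (y : S) + Ideal.Quotient.mk Q (z : S) := by
        rw [← map_add]; rfl
      rw [this]
      exact D'.add_mem hy hz
    | smul a y _ hy =>
      have : Ideal.Quotient.mk Q ((a • y : D) : S) = a • Ideal.Quotient.mk Q (y : S) := by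
        rw [Algebra.smul_def, Algebra.smul_def]
        rfl
      rw [this]
      exact D'.smul_mem hy a
  have hintD' : Algebra.IsIntegral B D' := Algebra.IsIntegral.of_finite B D'
  have hlocD' : IsLocalRing D' :=
    Groth.Agent.Lib.HenselIntegralLocal.isLocalRing_of_isDomain_of_isIntegral B D'
  have hmkloc : IsLocalHom (Ideal.Quotient.mk Q) :=
    IsLocalHom.of_surjective _ Ideal.Quotient.mk_surjective
  have hlocBD' : IsLocalHom (algebraMap B D') := by
    constructor
    intro b hb
    have h1 : IsUnit (Ideal.Quotient.mk Q (algebraMap B S b)) := hb.map D'.val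
    have h2 : IsUnit (algebraMap B S b) := isUnit_of_map_unit (Ideal.Quotient.mk Q) _ h1
    exact isUnit_of_map_unit (algebraMap B S) b h2
  have hresD' : ∀ y : D', ∃ b : B, y - algebraMap B D' b ∈ maximalIdeal D' := by
    intro y
    obtain ⟨x, hx⟩ := Ideal.Quotient.mk_surjective (y : S ⧸ Q)
    have hyM : toK Q x ∈ M := by
      have h0 := (hD'mem y).mp y.2
      rw [← hx] at h0
      exact h0
    obtain ⟨a, ha, c, hc, hc0, hz⟩ := hMle hyM
    have hcQ : c ∉ Q := fun h => hc0 ((toK_eq_zero_iff Q c).mpr h)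
    have h1 : x * c - a ∈ Q := by rw [← toK_eq_zero_iff, map_sub, map_mul, hz, sub_self]
    obtain ⟨d, hd, hxd⟩ := hU x a ha c hc hcQ h1
    obtain ⟨b, hb⟩ := hres d hd
    refine ⟨b, ?_⟩
    have h2 : x - algebraMap B S b ∈ maximalIdeal S := by
      have : x - algebraMap B S b = (x - d) + (d - algebraMap B S b) := by ring
      rw [this]
      exact Ideal.add_mem _ hxd hb
    rw [mem_maximalIdeal, mem_nonunits_iff]
    intro hu
    have h3 : IsUnit (Ideal.Quotient.mk Q (x - algebraMap B S b)) := by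
      have h4 := hu.map D'.val
      have h5 : D'.val (y - algebraMap B D' b) = Ideal.Quotient.mk Q (x - algebraMap B S b) := by
        rw [map_sub, map_sub, hx]
        rfl
      rwa [h5] at h4
    exact h2 (isUnit_of_map_unit (Ideal.Quotient.mk Q) _ h3)
  have hmax : (maximalIdeal B).map (algebraMap B D') = maximalIdeal D' :=
    Algebra.FormallyUnramified.map_maximalIdeal
  have hsurj : Function.Surjective (algebraMap B D') := by
    let N : Submodule B D' := LinearMap.range (Algebra.linearMap B D')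
    have h1 : (⊤ : Submodule B D') ≤ N ⊔ (maximalIdeal B) • (⊤ : Submodule B D') := by
      intro y _
      obtain ⟨b, hb⟩ := hresD' y
      rw [← hmax] at hb
      have hy : y = algebraMap B D' b + (y - algebraMap B D' b) := by ring
      rw [hy]
      refine Submodule.add_mem_sup ⟨b, rfl⟩ ?_
      rw [Ideal.smul_top_eq_map]
      exact hb
    have h2 := Submodule.le_of_le_smul_of_le_jacobson_bot Module.Finite.fg_top
      (IsLocalRing.maximalIdeal_le_jacobson ⊥) h1
    intro y
    obtain ⟨b, hb⟩ := h2 (Submodule.mem_top : y ∈ ⊤)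
    exact ⟨b, hb⟩
  intro d hd
  obtain ⟨b, hb⟩ := hsurj ⟨_, hDD' ⟨d, hd⟩⟩
  refine ⟨b, ?_⟩
  have h1 : Ideal.Quotient.mk Q (algebraMap B S b) = Ideal.Quotient.mk Q d := by
    have := congrArg D'.val hb
    exact this
  rw [← Ideal.Quotient.eq, h1]

theorem isRadical_map_of_isPrime (𝔭 : Ideal B) [𝔭.IsPrime] :
    (𝔭.map (algebraMap B S)).IsRadical := by
  have hsurj : Function.Surjective (Ideal.Quotient.mk 𝔭) := Ideal.Quotient.mk_surjective
  have hloc : IsLocalRing (B ⧸ 𝔭) := IsLocalRing.of_surjective' _ hsurj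
  obtain ⟨S', _, _, _, _, π, hπ, hker, hcomm⟩ :=
    Groth.Agent.Lib.StrictHensQuot96.exists_quotient_data S (Ideal.Quotient.mk 𝔭) hsurj
  have hsh : Hensel.IsStrictHenselization (B ⧸ 𝔭) S' :=
    Groth.Agent.Lib.StrictHensQuot96.isStrictHenselization_of_surjective _ hsurj S' π hπ hker hcomm
  have hred : IsReduced S' :=
    Groth.Agent.Lib.HznWeaklyEtale96.isReduced_of_isStrictHenselization (R := B ⧸ 𝔭) S'
  rw [Ideal.mk_ker] at hker
  rw [← hker]
  exact (RingHom.ker_isRadical_iff_reduced_of_surjective hπ).mpr hred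

theorem eq_map_under_of_propU (Q : Ideal S) (hQ : Q ∈ minimalPrimes S) [Q.IsPrime]
    (hU : PropU (Set.range (algebraMap B S)) Q) :
    Q = (Q.under B).map (algebraMap B S) := by
  have hrad := isRadical_map_of_isPrime B S (Q.under B)
  have hff : Module.FaithfullyFlat B S :=
    Groth.Agent.Lib.StrictHenselization.faithfullyFlat_of_isStrictHenselization B S
  apply le_antisymm
  · rw [← hrad.radical, Ideal.radical_eq_sInf]
    intro x hx
    rw [Submodule.mem_sInf]
    rintro J ⟨hJle, hJp⟩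
    obtain ⟨Q', hQ'min, hQ'J⟩ := Ideal.exists_minimalPrimes_le hJle
    have hQ'p : Q'.IsPrime := hQ'min.1.1
    have h1 : Q.under B ≤ Q'.under B := Ideal.map_le_iff_le_comap.mp hQ'min.1.2
    have hlo : Q'.LiesOver (Q'.under B) := ⟨rfl⟩
    obtain ⟨P, hPQ', hPp, hPo⟩ :=
      Ideal.exists_ideal_le_liesOver_of_le (p := Q.under B) (q := Q'.under B) Q' h1
    have h2 : (Q.under B).map (algebraMap B S) ≤ P := by
      rw [Ideal.map_le_iff_le_comap]
      exact hPo.over.le
    have h3 : Q' ≤ P := hQ'min.2 ⟨hPp, h2⟩ hPQ'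
    have h4 : P = Q' := le_antisymm hPQ' h3
    have h5 : Q.under B = Q'.under B := by rw [← h4]; exact hPo.over
    have h6 : Q' ≤ Q := le_of_under_eq B S Q Q' h5 hU
    have h7 : Q ≤ Q' := hQ.2 ⟨hQ'p, bot_le⟩ h6
    exact hQ'J (h7 hx)
  · exact Ideal.map_comap_le

theorem propU_range_of_propU (D : Subalgebra B S)
    (hres : ∀ d ∈ D, ∃ b : B, d - algebraMap B S b ∈ maximalIdeal S)
    (Q : Ideal S) (hU : PropU (D : Set S) Q) : PropU (Set.range (algebraMap B S)) Q := by
  rintro x _ ⟨b₁, rfl⟩ _ ⟨b₂, rfl⟩ hb₂ hx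
  obtain ⟨d, hd, hxd⟩ := hU x _ (D.algebraMap_mem b₁) _ (D.algebraMap_mem b₂) hb₂ hx
  obtain ⟨b, hb⟩ := hres d hd
  refine ⟨_, ⟨b, rfl⟩, ?_⟩
  have : x - algebraMap B S b = (x - d) + (d - algebraMap B S b) := by ring
  rw [this]
  exact Ideal.add_mem _ hxd hb

theorem eq_bot_of_propU [IsReduced B] (D : Subalgebra B S) [Module.Finite B D]
    (hres : ∀ d ∈ D, ∃ b : B, d - algebraMap B S b ∈ maximalIdeal S)
    (hU : ∀ Q ∈ minimalPrimes S, PropU (D : Set S) Q) :
    (∀ d ∈ D, ∃ b : B, algebraMap B S b = d) ∧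
      ∀ Q ∈ minimalPrimes S, Q = (Q.comap (algebraMap B S)).map (algebraMap B S) := by
  classical
  have hff : Module.FaithfullyFlat B S :=
    Groth.Agent.Lib.StrictHenselization.faithfullyFlat_of_isStrictHenselization B S
  have hmin : ∀ Q ∈ minimalPrimes S, Q = (Q.comap (algebraMap B S)).map (algebraMap B S) := by
    intro Q hQ
    have hQp : Q.IsPrime := hQ.1.1
    exact eq_map_under_of_propU B S Q hQ (propU_range_of_propU B S D hres Q (hU Q hQ))
  refine ⟨?_, hmin⟩
  intro d hd
  have hfin : (minimalPrimes B).Finite := minimalPrimes.finite_of_isNoetherianRing B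
  obtain ⟨b, hb⟩ := Groth.Agent.Lib.FlatIdealInf61.exists_sub_mem_map_inf B S hfin.toFinset d (by
    intro 𝔭 h𝔭
    rw [Set.Finite.mem_toFinset] at h𝔭
    have h𝔭p : 𝔭.IsPrime := h𝔭.1.1
    obtain ⟨Q₁, hQ₁p, hQ₁o⟩ := Ideal.exists_isPrime_liesOver_of_faithfullyFlat (B := S) 𝔭
    obtain ⟨Q, hQ, hQQ₁⟩ := Ideal.exists_minimalPrimes_le (I := ⊥) (J := Q₁) bot_le
    have hQp : Q.IsPrime := hQ.1.1
    have h1 : Q.under B ≤ 𝔭 := by
      rw [hQ₁o.over]
      exact Ideal.comap_mono hQQ₁
    have h2 : 𝔭 ≤ Q.under B := h𝔭.2 ⟨inferInstance, bot_le⟩ h1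
    have h3 : Q.under B = 𝔭 := le_antisymm h1 h2
    obtain ⟨b, hb⟩ := exists_sub_mem_of_propU B S D hres Q hQ (hU Q hQ) d hd
    refine ⟨b, ?_⟩
    rw [← h3]
    rw [hmin Q hQ] at hb
    exact hb)
  have hinf : hfin.toFinset.inf id = ⊥ := by
    rw [Finset.inf_id_eq_sInf, Set.Finite.coe_toFinset]
    have : sInf (minimalPrimes B) = (⊥ : Ideal B).radical := Ideal.sInf_minimalPrimes
    rw [this]
    exact nilradical_eq_zero B
  rw [hinf, Ideal.map_bot, Ideal.mem_bot, sub_eq_zero] at hb
  exact ⟨b, hb.symm⟩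

end Groth.Agent.Lib.ShFiniteSubTrivial61
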