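import Groth.Agent.Lib.ShGaloisCover61
import Groth.Agent.Lib.StrictHenselization
import Mathlib

/-!
# Intersection of a strict henselization with a finitely generated subfield (helper61)

`exists_essEtale_inter`: `A` a Noetherian henselian local domain whose strict henselization `S`
is a domain; for a finite subset `t` of `Frac S`, the subring `S ∩ Frac(A)(t)` is a finite etale
local `A`-algebra (in particular essentially etale).
-/

set_option autoImplicit false
universe u

namespace Groth.Agent.Lib.ShInterSubfield61

open IsLocalRing Groth.Agent.Lib.FinEtaleGalois61 Groth.Agent.Lib.HenselGalois61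
  Groth.Agent.Lib.ShGaloisCover61

variable (A S : Type u) [CommRing A] [HenselianLocalRing A] [IsNoetherianRing A] [IsDomain A]
  [CommRing S] [IsLocalRing S] [Algebra A S] [IsLocalHom (algebraMap A S)]
  [Hensel.IsStrictHenselization A S] [IsDomain S]

theorem exists_essEtale_inter (t : Finset (FractionRing S)) :
    ∃ D : Subalgebra A S, (D : Set S) = (algebraMap S (FractionRing S)) ⁻¹'
        (Subfield.closure (Set.range (algebraMap A (FractionRing S)) ∪ (t : Set (FractionRing S))) :
          Set (FractionRing S)) ∧
      ∃ _ : IsLocalRing D, IsLocalHom (algebraMap D S) ∧ EGA4loc.IsEssentiallyEtale A D := by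
  classical
  let Ω := FractionRing S
  let M : Subfield Ω := Subfield.closure (Set.range (algebraMap A Ω) ∪ (t : Set Ω))
  have hfrac : ∀ y : Ω, ∃ a b : S, b ≠ 0 ∧ y * algebraMap S Ω b = algebraMap S Ω a := by
    intro y
    obtain ⟨a, b, hb, rfl⟩ := IsFractionRing.div_surjective S y
    have hb0 : b ≠ 0 := nonZeroDivisors.ne_zero hb
    refine ⟨a, b, hb0, ?_⟩
    have : algebraMap S Ω b ≠ 0 := by
      intro h
      exact hb0 (IsFractionRing.injective S Ω (by rw [h, map_zero]))
    exact div_mul_cancel₀ _ this
  choose num den hden hnd using hfrac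
  let F : Finset S := t.image num ∪ t.image den
  obtain ⟨E', _, _, _, _, hfin', het', hgal', j, hjloc, hjF⟩ := exists_galois_cover A S F
  have hflatS : Module.FaithfullyFlat A S :=
    Groth.Agent.Lib.StrictHenselization.faithfullyFlat_of_isStrictHenselization A S
  have hjinj : Function.Injective j := by
    let _ : Algebra E' S := (j : E' →+* S).toAlgebra
    have htower : IsScalarTower A E' S :=
      IsScalarTower.of_algebraMap_eq (fun r => (j.commutes r).symm)
    have : IsLocalHom (algebraMap E' S) := hjloc
    have hff : Module.FaithfullyFlat E' S := faithfullyFlat_of_etale (A := A)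
    exact FaithfulSMul.algebraMap_injective E' S
  have hdomE' : IsDomain E' := hjinj.isDomain (j : E' →+* S)
  -- fraction fields
  let K := FractionRing A
  let K' := FractionRing E'
  have hASinj : Function.Injective (algebraMap A S) := FaithfulSMul.algebraMap_injective A S
  have hAE'inj : Function.Injective (algebraMap A E') := by
    have : (j : E' →+* S).comp (algebraMap A E') = algebraMap A S := j.comp_algebraMap
    have h2 : Function.Injective ((j : E' →+* S).comp (algebraMap A E')) := by
      rw [this]; exact hASinj
    exact Function.Injective.of_comp h2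
  have hfaith : FaithfulSMul A E' := (faithfulSMul_iff_algebraMap_injective A E').mpr hAE'inj
  let _ : Algebra K K' := FractionRing.liftAlgebra A K'
  have htowK : IsScalarTower A K K' := FractionRing.isScalarTower_liftAlgebra A K'
  have hginj : Function.Injective ((algebraMap S Ω).comp (j : E' →+* S)) :=
    (IsFractionRing.injective S Ω).comp hjinj
  let jh : K' →+* Ω := IsFractionRing.lift hginj
  have hjh : ∀ x, jh (algebraMap E' K' x) = algebraMap S Ω (j x) :=
    fun x => IsFractionRing.lift_algebraMap hginj x
  have hjhA : ∀ a : A, jh (algebraMap A K' a) = algebraMap A Ω a := by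
    intro a
    rw [IsScalarTower.algebraMap_apply A E' K', hjh, j.commutes,
      ← IsScalarTower.algebraMap_apply]
  let L : IntermediateField K K' :=
    { M.comap jh with
      algebraMap_mem' := fun c => by
        obtain ⟨a, b, hb, rfl⟩ := IsFractionRing.div_surjective A c
        change jh (algebraMap K K' (algebraMap A K a / algebraMap A K b)) ∈ M
        rw [map_div₀, map_div₀, ← IsScalarTower.algebraMap_apply, ← IsScalarTower.algebraMap_apply,
          hjhA, hjhA]
        exact M.div_mem (Subfield.subset_closure (Or.inl ⟨a, rfl⟩))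
          (Subfield.subset_closure (Or.inl ⟨b, rfl⟩)) }
  have hLmem : ∀ l : K', l ∈ L ↔ jh l ∈ M := fun l => Iff.rfl
  obtain ⟨E, _, _, _, _, hEfin, hEet, ι, hιinj, hιL, hLι⟩ :=
    exists_sub_of_intermediateField A E' K K' L
  -- the subalgebra `D = S ∩ M`
  let D : Subalgebra A S :=
    { (M.toSubring.comap (algebraMap S Ω)).toSubsemiring with
      algebraMap_mem' := fun a => by
        change algebraMap S Ω (algebraMap A S a) ∈ M
        rw [← IsScalarTower.algebraMap_apply]
        exact Subfield.subset_closure (Or.inl ⟨a, rfl⟩) }
  have hDmem : ∀ s : S, s ∈ D ↔ algebraMap S Ω s ∈ M := fun s => Iff.rfl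
  let φ : E →ₐ[A] S := j.comp ι
  have hφinj : Function.Injective φ := hjinj.comp hιinj
  have hφloc : IsLocalHom (φ : E →+* S) := isLocalHom_of_unramified φ
  -- generators of `M` lie in the range of `jh`
  have hMle : M ≤ jh.fieldRange := by
    apply Subfield.closure_le.mpr
    rintro y (⟨a, rfl⟩ | hy)
    · exact ⟨algebraMap A K' a, hjhA a⟩
    · have hn : num y ∈ F := Finset.mem_union_left _ (Finset.mem_image_of_mem _ hy)
      have hd : den y ∈ F := Finset.mem_union_right _ (Finset.mem_image_of_mem _ hy)
      obtain ⟨n, hn'⟩ := hjF _ hn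
      obtain ⟨d, hd'⟩ := hjF _ hd
      refine ⟨algebraMap E' K' n / algebraMap E' K' d, ?_⟩
      rw [map_div₀, hjh, hjh]
      have h1 : algebraMap S Ω (den y) ≠ 0 := by
        intro h
        exact hden y (IsFractionRing.injective S Ω (by rw [h, map_zero]))
      change j n = num y at hn'
      change j d = den y at hd'
      rw [hn', hd', ← hnd y]
      exact mul_div_cancel_right₀ _ h1
  have hD : D = φ.range := by
    apply le_antisymm
    · intro s hs
      rw [hDmem] at hs
      obtain ⟨l, hl⟩ := hMle hs
      have hlL : l ∈ L := by rw [hLmem, hl]; exact hs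
      obtain ⟨x, b, hb, hxb⟩ := hLι l hlL
      have h1 : s * φ b = φ x := by
        apply IsFractionRing.injective S Ω
        rw [map_mul, ← hl]
        change jh l * algebraMap S Ω (j (ι b)) = algebraMap S Ω (j (ι x))
        rw [← hjh, ← hjh, ← map_mul, hxb]
      -- faithful flatness of `φ`
      let _ : Algebra E S := (φ : E →+* S).toAlgebra
      have htower : IsScalarTower A E S :=
        IsScalarTower.of_algebraMap_eq (fun r => (φ.commutes r).symm)
      have : IsLocalHom (algebraMap E S) := hφloc
      have hff : Module.FaithfullyFlat E S := faithfullyFlat_of_etale (A := A)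
      have h2 : x ∈ ((Ideal.span {b}).map (algebraMap E S)).comap (algebraMap E S) := by
        rw [Ideal.mem_comap, Ideal.map_span, Set.image_singleton, Ideal.mem_span_singleton]
        exact ⟨s, by rw [mul_comm]; exact h1.symm⟩
      rw [Ideal.comap_map_eq_self_of_faithfullyFlat, Ideal.mem_span_singleton] at h2
      obtain ⟨c, rfl⟩ := h2
      refine ⟨c, ?_⟩
      have hφb : φ b ≠ 0 := fun h => hb (hφinj (by rw [h, map_zero]))
      have h3 : φ b * (φ c - s) = 0 := by
        rw [mul_sub, ← map_mul, ← h1]; ring
      rcases mul_eq_zero.mp h3 with h | h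
      · exact absurd h hφb
      · exact sub_eq_zero.mp h
    · rintro _ ⟨x, rfl⟩
      rw [hDmem]
      change algebraMap S Ω (j (ι x)) ∈ M
      rw [← hjh]
      exact hιL x
  let e : E ≃ₐ[A] D :=
    (AlgEquiv.ofInjective φ hφinj).trans (Subalgebra.equivOfEq _ _ hD.symm)
  have he : ∀ y, ((e y : D) : S) = φ y := fun y => rfl
  have hlocD : IsLocalRing D := e.toRingEquiv.isLocalRing
  refine ⟨D, rfl, hlocD, ⟨fun d hd => ?_⟩, ?_⟩
  · obtain ⟨y, rfl⟩ := e.surjective d
    have h1 : IsUnit (φ y) := by rw [← he]; exact hd
    have h2 : IsUnit y := hφloc.map_nonunit y h1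
    exact h2.map e
  · have hunits : ∀ x ∈ (maximalIdeal E).primeCompl, IsUnit x := by
      intro x hx
      by_contra h
      exact hx ((mem_maximalIdeal x).mpr h)
    let e₂ : E ≃ₐ[E] Localization.AtPrime (maximalIdeal E) :=
      IsLocalization.atUnits E (maximalIdeal E).primeCompl hunits
    have hlocAE : IsLocalHom (algebraMap A E) := inferInstance
    have hcomap : (maximalIdeal E).comap (algebraMap A E) = maximalIdeal A :=
      ((local_hom_TFAE (algebraMap A E)).out 0 4).mp hlocAE
    exact ⟨E, inferInstance, inferInstance, maximalIdeal E, inferInstance, hEet, hcomap,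
      ⟨e.symm.trans (e₂.restrictScalars A)⟩⟩

end Groth.Agent.Lib.ShInterSubfield61
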