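import Groth.Prelude.Def_EtAcyc
import Groth.Agent.Lib.ShFactor95
import Groth.Agent.Lib.EtAcycComp95

set_option autoImplicit false
set_option linter.style.haveILetI false
universe u
open CategoryTheory CategoryTheory.Limits AlgebraicGeometry Opposite IsLocalRing

namespace Groth.Agent.Lib.ShLocComp95

open Groth.Agent.Lib.StrictHenselization Groth.Agent.Lib.ShFactor95

variable {X Y Z : Scheme.{u}} (g : X ⟶ Y) (h : Y ⟶ Z)

/-- a property of morphisms compatible with composition as in SGA4 XV 1.x passes to strict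
localizations -/
theorem onStrictLocalizations_comp_iff (hg : Function.Surjective g.base)
    (P : ∀ ⦃X' Y' : Scheme.{u}⦄, (X' ⟶ Y') → Prop)
    (hP : ∀ {X' Y' Z' : Scheme.{u}} (g' : X' ⟶ Y') (h' : Y' ⟶ Z'), P g' → (P h' ↔ P (g' ≫ h')))
    (hgP : EtAcyc.OnStrictLocalizations g P) :
    EtAcyc.OnStrictLocalizations h P ↔ EtAcyc.OnStrictLocalizations (g ≫ h) P := by
  constructor
  · intro hh x RZ RX _ _ _ _ aZ lZ sZ _ _ _ _ _ hc
    letI aZ' : Algebra (Z.presheaf.stalk (h.base (g.base x))) RZ := aZ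
    haveI lZ' : IsLocalHom (algebraMap (Z.presheaf.stalk (h.base (g.base x))) RZ) := lZ
    haveI sZ' : Hensel.IsStrictHenselization (Z.presheaf.stalk (h.base (g.base x))) RZ := sZ
    haveI hHX : HenselianLocalRing RX :=
      Hensel.IsStrictHenselization.henselian (R := X.presheaf.stalk x)
    haveI hSX : IsSepClosed (ResidueField RX) :=
      (Hensel.IsStrictHenselization.isSepClosure (R := X.presheaf.stalk x) (S := RX)).sep_closed
    have e1 : ((g ≫ h).stalkMap x).hom =
        (g.stalkMap x).hom.comp (h.stalkMap (g.base x)).hom := by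
      rw [Scheme.Hom.stalkMap_comp]; rfl
    have hc' : (algebraMap RZ RX).comp (algebraMap (Z.presheaf.stalk (h.base (g.base x))) RZ) =
        ((algebraMap (X.presheaf.stalk x) RX).comp (g.stalkMap x).hom).comp
          (h.stalkMap (g.base x)).hom := by
      refine hc.trans ?_
      rw [e1]
      rfl
    obtain ⟨γ₁, γ₂, hl₁, hl₂, h₁, h₂, h₃⟩ := exists_factor
      (RY := Sh (Y.presheaf.stalk (g.base x)))
      (h.stalkMap (g.base x)).hom (g.stalkMap x).hom (algebraMap RZ RX) hc'
    letI : Algebra (Sh (Y.presheaf.stalk (g.base x))) RX := γ₂.toAlgebra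
    letI : Algebra RZ (Sh (Y.presheaf.stalk (g.base x))) := γ₁.toAlgebra
    have k₂ := hgP x (Sh (Y.presheaf.stalk (g.base x))) RX h₂
    have k₁ := hh (g.base x) RZ (Sh (Y.presheaf.stalk (g.base x))) h₁
    have k₃ := (hP _ _ k₂).1 k₁
    have e : Spec.map (CommRingCat.ofHom (algebraMap (Sh (Y.presheaf.stalk (g.base x))) RX)) ≫
        Spec.map (CommRingCat.ofHom (algebraMap RZ (Sh (Y.presheaf.stalk (g.base x))))) =
        Spec.map (CommRingCat.ofHom (algebraMap RZ RX)) := by
      rw [← Spec.map_comp, ← CommRingCat.ofHom_comp]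
      congr 2
    rw [e] at k₃
    exact k₃
  · intro hgh y RZ RY _ _ _ _ aZ lZ sZ _ _ _ _ _ hc
    obtain ⟨x, rfl⟩ := hg y
    letI aZ' : Algebra (Z.presheaf.stalk ((g ≫ h).base x)) RZ := aZ
    haveI lZ' : IsLocalHom (algebraMap (Z.presheaf.stalk ((g ≫ h).base x)) RZ) := lZ
    haveI sZ' : Hensel.IsStrictHenselization (Z.presheaf.stalk ((g ≫ h).base x)) RZ := sZ
    obtain ⟨γ₂, hl₂, h₂⟩ := exists_lift (R := RY) (T := Sh (X.presheaf.stalk x))
      ((algebraMap (X.presheaf.stalk x) (Sh (X.presheaf.stalk x))).comp (g.stalkMap x).hom)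
    letI : Algebra RY (Sh (X.presheaf.stalk x)) := γ₂.toAlgebra
    letI : Algebra RZ (Sh (X.presheaf.stalk x)) := (γ₂.comp (algebraMap RZ RY)).toAlgebra
    haveI : IsLocalHom (algebraMap RZ (Sh (X.presheaf.stalk x))) :=
      RingHom.isLocalHom_comp γ₂ (algebraMap RZ RY)
    have k₂ := hgP x RY (Sh (X.presheaf.stalk x)) h₂
    have e1 : ((g ≫ h).stalkMap x).hom =
        (g.stalkMap x).hom.comp (h.stalkMap (g.base x)).hom := by
      rw [Scheme.Hom.stalkMap_comp]; rfl
    have hc' : (algebraMap RZ (Sh (X.presheaf.stalk x))).comp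
        (algebraMap (Z.presheaf.stalk ((g ≫ h).base x)) RZ) =
        (algebraMap (X.presheaf.stalk x) (Sh (X.presheaf.stalk x))).comp
          ((g ≫ h).stalkMap x).hom := by
      rw [e1]
      refine RingHom.ext fun z => ?_
      have e2 := congrArg (fun f : Z.presheaf.stalk (h.base (g.base x)) →+* RY => f z) hc
      have e3 := congrArg (fun f : Y.presheaf.stalk (g.base x) →+* Sh (X.presheaf.stalk x) =>
        f ((h.stalkMap (g.base x)).hom z)) h₂
      exact (congrArg γ₂ e2).trans e3
    have k₃ := hgh x RZ (Sh (X.presheaf.stalk x)) hc'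
    have e : Spec.map (CommRingCat.ofHom (algebraMap RY (Sh (X.presheaf.stalk x)))) ≫
        Spec.map (CommRingCat.ofHom (algebraMap RZ RY)) =
        Spec.map (CommRingCat.ofHom (algebraMap RZ (Sh (X.presheaf.stalk x)))) := by
      rw [← Spec.map_comp, ← CommRingCat.ofHom_comp]
    rw [← e] at k₃
    exact (hP _ _ k₂).2 k₃

end Groth.Agent.Lib.ShLocComp95
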