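import Groth.Agent.Lib.ShSub6
import Groth.Agent.Lib.AbsFlat
import Groth.Agent.Lib.DiagFlat
import Groth.Agent.Lib.HznWeaklyEtale96
import Groth.Agent.S9243
import Groth.Agent.S0540

/-!
# Essentially étale subalgebras of a strict henselization separating the minimal primes (helper25)

* `weaklyEtale_of_isLocalization`, `weaklyEtale_of_essEtale`
* `eq_map_comap_of_injOn` : flat `R → R'` with radical extended primes; if contraction is injective on
  minimal primes of `R'` then every minimal prime of `R'` is generated by its contraction.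
* `exists_essEtale_sub_sep` : `A` Noetherian local, `S = A^sh`, `F` finite subset of `S`: there is an
  essentially étale local subalgebra `E ⊇ F` of `S`, dominated by `S`, with `S` weakly étale and faithfully
  flat over `E`, such that every minimal prime of `S` is generated by its contraction to `E`.
-/

set_option autoImplicit false
universe u

namespace Groth.Agent.Lib.ShMinPrimes25

open IsLocalRing TensorProduct

section Loc

variable {R : Type*} [CommRing R] (M : Submonoid R) (T : Type*) [CommRing T] [Algebra R T]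
  [IsLocalization M T]

include M in
theorem lmul'_bijective_of_isLocalization :
    Function.Bijective (Algebra.TensorProduct.lmul' R (S := T)) := by
  refine ⟨?_, fun x => ⟨x ⊗ₜ 1, by simp⟩⟩
  have key : ∀ z : T ⊗[R] T, ∃ x : T, z = x ⊗ₜ[R] (1 : T) := by
    intro z
    induction z with
    | zero => exact ⟨0, by simp⟩
    | add x y hx hy =>
      obtain ⟨a, rfl⟩ := hx
      obtain ⟨b, rfl⟩ := hy
      exact ⟨a + b, by rw [TensorProduct.add_tmul]⟩
    | tmul a b =>
      obtain ⟨⟨r, m⟩, hrm⟩ := IsLocalization.surj M b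
      obtain ⟨a', ha'⟩ : ∃ a' : T, a' * algebraMap R T m = a := by
        obtain ⟨u, hu⟩ := IsLocalization.map_units T m
        exact ⟨a * ↑u⁻¹, by rw [mul_assoc, ← hu, Units.inv_mul, mul_one]⟩
      refine ⟨a' * algebraMap R T r, ?_⟩
      dsimp only at hrm
      calc a ⊗ₜ[R] b = (a' * algebraMap R T m) ⊗ₜ[R] b := by rw [ha']
        _ = ((m : R) • a') ⊗ₜ[R] b := by rw [Algebra.smul_def, mul_comm]
        _ = a' ⊗ₜ[R] ((m : R) • b) := by rw [TensorProduct.smul_tmul]
        _ = a' ⊗ₜ[R] (r • (1 : T)) := by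
            rw [Algebra.smul_def, mul_comm, hrm, Algebra.smul_def, mul_one]
        _ = (r • a') ⊗ₜ[R] (1 : T) := by rw [TensorProduct.smul_tmul]
        _ = (a' * algebraMap R T r) ⊗ₜ[R] (1 : T) := by rw [Algebra.smul_def, mul_comm]
  intro z w hzw
  obtain ⟨x, rfl⟩ := key z
  obtain ⟨y, rfl⟩ := key w
  simp only [Algebra.TensorProduct.lmul'_apply_tmul, mul_one] at hzw
  rw [hzw]

include M in
theorem weaklyEtale_of_isLocalization : Algebra.WeaklyEtale R T where
  flat := IsLocalization.flat T M
  flat_lmul' := RingHom.Flat.of_bijective (lmul'_bijective_of_isLocalization M T)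

end Loc

theorem weaklyEtale_of_essEtale (A E : Type u) [CommRing A] [IsLocalRing A] [CommRing E]
    [Algebra A E] (hE : EGA4loc.IsEssentiallyEtale A E) : Algebra.WeaklyEtale A E := by
  obtain ⟨C, _, _, q, _, hC, hq, ⟨e⟩⟩ := hE
  haveI : Algebra.WeaklyEtale C (Localization.AtPrime q) :=
    weaklyEtale_of_isLocalization q.primeCompl _
  haveI : Algebra.WeaklyEtale A (Localization.AtPrime q) :=
    Algebra.WeaklyEtale.trans A C (Localization.AtPrime q)
  exact Groth.Agent.Lib.HznWeaklyEtale96.weaklyEtale_of_algEquiv e.symm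

section GD

variable {R R' : Type*} [CommRing R] [CommRing R'] [Algebra R R'] [Module.Flat R R']

/-- If contraction is injective on the minimal primes of `R'` and extended primes are radical, every
minimal prime of `R'` is generated by its contraction. -/
theorem eq_map_comap_of_injOn
    (hrad : ∀ p : Ideal R, p.IsPrime → (p.map (algebraMap R R')).IsRadical)
    (hinj : ∀ P ∈ minimalPrimes R', ∀ P' ∈ minimalPrimes R',
      P.comap (algebraMap R R') = P'.comap (algebraMap R R') → P = P')
    {Q : Ideal R'} (hQ : Q ∈ minimalPrimes R') :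
    Q = (Q.comap (algebraMap R R')).map (algebraMap R R') := by
  have hq : Q.comap (algebraMap R R') ∈ minimalPrimes R :=
    Groth.Agent.S9243.comap_mem_minimalPrimes hQ
  haveI hqprime : (Q.comap (algebraMap R R')).IsPrime := hq.1.1
  have hmin : ((Q.comap (algebraMap R R')).map (algebraMap R R')).minimalPrimes = {Q} := by
    rw [Groth.Agent.S9243.minimalPrimes_map_eq hq]
    ext P'
    simp only [Set.mem_setOf_eq, Set.mem_singleton_iff]
    constructor
    · rintro ⟨hP'min, hP'q⟩
      exact hinj P' hP'min Q hQ hP'q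
    · intro hP'Q
      rw [hP'Q]
      exact ⟨hQ, rfl⟩
  have h3 : ((Q.comap (algebraMap R R')).map (algebraMap R R')).radical = Q := by
    rw [← Ideal.sInf_minimalPrimes, hmin, sInf_singleton]
  rw [(hrad _ hqprime).radical] at h3
  exact h3.symm

omit [Module.Flat R R'] in
theorem isRadical_map_of_weaklyEtale [Algebra.WeaklyEtale R R'] (p : Ideal R) [p.IsPrime] :
    (p.map (algebraMap R R')).IsRadical := by
  rw [Ideal.isRadical_iff_quotient_reduced]
  haveI : IsReduced ((R ⧸ p) ⊗[R] R') :=
    Groth.Agent.Lib.AbsFlat.isReduced_of_weaklyEtale (R ⧸ p) _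
  exact isReduced_of_injective
    (Algebra.TensorProduct.quotIdealMapEquivQuotTensor R' p) (AlgEquiv.injective _)

end GD

section Main

variable (A S : Type u) [CommRing A] [IsLocalRing A] [CommRing S] [IsLocalRing S] [Algebra A S]
  [IsLocalHom (algebraMap A S)] [Hensel.IsStrictHenselization A S]

theorem exists_essEtale_sub_sep [IsNoetherianRing A] (F : Finset S) :
    ∃ E : Subalgebra A S, (F : Set S) ⊆ (E : Set S) ∧ ∃ _ : IsLocalRing E,
      IsLocalHom (algebraMap E S) ∧ EGA4loc.IsEssentiallyEtale A E ∧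
      Algebra.WeaklyEtale E S ∧ Module.FaithfullyFlat E S ∧
      ∀ P ∈ minimalPrimes S, P = (P.comap (algebraMap E S)).map (algebraMap E S) := by
  classical
  have hNS : IsNoetherianRing S := (Groth.Agent.S0540.result A S).mp inferInstance
  have hfin : (minimalPrimes S).Finite := minimalPrimes.finite_of_isNoetherianRing S
  -- separating elements
  have hsep : ∀ P ∈ minimalPrimes S, ∀ P' ∈ minimalPrimes S, P ≠ P' → ∃ x : S, x ∈ P ∧ x ∉ P' := by
    intro P hP P' hP' hne
    by_contra hcon
    push_neg at hcon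
    have hle : P ≤ P' := fun x hx => hcon x hx
    exact hne (le_antisymm hle (hP'.2 hP.1 hle))
  let sepEl : Ideal S × Ideal S → S := fun PP =>
    if h : PP.1 ∈ minimalPrimes S ∧ PP.2 ∈ minimalPrimes S ∧ PP.1 ≠ PP.2 then
      (hsep PP.1 h.1 PP.2 h.2.1 h.2.2).choose else 0
  have hsepEl : ∀ P ∈ minimalPrimes S, ∀ P' ∈ minimalPrimes S, P ≠ P' →
      sepEl (P, P') ∈ P ∧ sepEl (P, P') ∉ P' := by
    intro P hP P' hP' hne
    have h : (P, P').1 ∈ minimalPrimes S ∧ (P, P').2 ∈ minimalPrimes S ∧ (P, P').1 ≠ (P, P').2 :=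
      ⟨hP, hP', hne⟩
    simp only [sepEl, dif_pos h]
    exact (hsep P hP P' hP' hne).choose_spec
  let F1 : Finset S := (hfin.toFinset ×ˢ hfin.toFinset).image sepEl
  obtain ⟨E, hFE, hloc, hdom, hE⟩ := Groth.Agent.Lib.ShSub6.exists_essEtale_sub A S (F ∪ F1)
  refine ⟨E, fun x hx => hFE (by simp [hx]), hloc, hdom, hE, ?_⟩
  haveI : Algebra.WeaklyEtale A E := weaklyEtale_of_essEtale A E hE
  haveI : Algebra.WeaklyEtale A S :=
    Groth.Agent.Lib.HznWeaklyEtale96.weaklyEtale_of_isStrictHenselization A S
  haveI hwe : Algebra.WeaklyEtale E S := Groth.Agent.Lib.DiagFlat.weaklyEtale_of_tower A E S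
  haveI : Module.Flat E S := hwe.flat
  haveI hff : Module.FaithfullyFlat E S := Module.FaithfullyFlat.of_flat_of_isLocalHom
  refine ⟨hwe, hff, fun P hP => ?_⟩
  refine eq_map_comap_of_injOn (fun p hp => isRadical_map_of_weaklyEtale p) ?_ hP
  intro P1 hP1 P2 hP2 h12
  by_contra hne
  obtain ⟨hx1, hx2⟩ := hsepEl P1 hP1 P2 hP2 hne
  have hxE : sepEl (P1, P2) ∈ E := by
    apply hFE
    simp only [Finset.coe_union, Set.mem_union, Finset.mem_coe]
    right
    exact Finset.mem_image.mpr ⟨(P1, P2), by simp [hP1, hP2], rfl⟩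
  have h1 : (⟨sepEl (P1, P2), hxE⟩ : E) ∈ P1.comap (algebraMap E S) := hx1
  rw [h12] at h1
  exact hx2 h1

end Main

end Groth.Agent.Lib.ShMinPrimes25
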