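import Mathlib
import Groth.Agent.Lib.H30UnramNormal
import Groth.Agent.Lib.ShSub6
import Groth.Agent.Lib.ShMinPrimes25
import Groth.Agent.Lib.H56ShNormal
import Groth.Agent.Lib.StrictHenselizationMax
import Groth.Agent.Lib.FracEssEtale6

/-!
# Normal intermediate rings of the strict henselization of a normal local ring (helper61)

Let `A` be a Noetherian normal local domain, `S` a strict henselization, `D ⊆ S` an `A`-subalgebra
which is a normal local domain dominated by `S`.  For a finite `s ⊆ D` the ring
`D ∩ K(s)` is an essentially etale local `A`-algebra (`exists_essEtale_sub_of_normal`).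
-/

set_option autoImplicit false
universe u

namespace Groth.Agent.Lib.ShNormalSub61

open IsLocalRing TensorProduct

section flat

/-- `R₁` a normal domain over `A`, `C` etale over `A`, `E` a domain which is a localization of the
image of `C`, with `R₁ → E` injective.  Then `E` is flat over `R₁`. -/
theorem flat_of_normal (A R₁ C E : Type u) [CommRing A] [CommRing R₁] [CommRing C] [CommRing E]
    [Algebra A R₁] [Algebra A C] [Algebra.Etale A C] [IsDomain R₁] [IsIntegrallyClosed R₁]
    [IsDomain E] [Algebra A E] [Algebra C E] [IsScalarTower A C E] [Algebra R₁ E]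
    [IsScalarTower A R₁ E] (hinj : Function.Injective (algebraMap R₁ E))
    (hsurj : ∀ x : E, ∃ c s : C, IsUnit (algebraMap C E s) ∧
      x * algebraMap C E s = algebraMap C E c) :
    Module.Flat R₁ E := by
  let g : C →ₐ[A] E := IsScalarTower.toAlgHom A C E
  let Φ : R₁ ⊗[A] C →ₐ[R₁] E :=
    Algebra.TensorProduct.lift (Algebra.ofId R₁ E) g (fun _ _ => Commute.all _ _)
  let T : Subalgebra R₁ E := Φ.range
  have hΦs : Function.Surjective Φ.rangeRestrict := Φ.rangeRestrict_surjective
  have hinjT : Function.Injective (algebraMap R₁ T) := by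
    intro x y hxy
    apply hinj
    have := congrArg (Subtype.val) hxy
    simpa using this
  have hT := Groth.Agent.Lib.H30UnramNormal.formallyEtale_flat_of_surjective R₁ (R₁ ⊗[A] C) T hinjT
    Φ.rangeRestrict hΦs
  have hflatT : Module.Flat R₁ T := hT.2
  -- `E` is a localization of `T`
  let M : Submonoid T := (IsUnit.submonoid E).comap (algebraMap T E)
  have hloc : IsLocalization M E := by
    rw [isLocalization_iff]
    refine ⟨?_, ?_, ?_⟩
    · rintro ⟨t, ht⟩; exact ht
    · intro x
      obtain ⟨c, s, hs, hx⟩ := hsurj x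
      have hcT : algebraMap C E c ∈ T := ⟨1 ⊗ₜ c, by simp [Φ, g]⟩
      have hsT : algebraMap C E s ∈ T := ⟨1 ⊗ₜ s, by simp [Φ, g]⟩
      exact ⟨(⟨algebraMap C E c, hcT⟩, ⟨⟨algebraMap C E s, hsT⟩, hs⟩), hx⟩
    · intro x y hxy
      exact ⟨1, by rw [Subtype.ext hxy]⟩
  have hflatE : Module.Flat T E := IsLocalization.flat E M
  exact Module.Flat.trans R₁ T E

end flat

section ff

variable (A S : Type u) [CommRing A] [IsLocalRing A] [IsDomain A] [IsIntegrallyClosed A]
  [IsNoetherianRing A] [CommRing S] [IsLocalRing S] [Algebra A S] [IsLocalHom (algebraMap A S)]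
  [Hensel.IsStrictHenselization A S]

/-- A normal local domain `R₁`, essentially of finite type over `A`, sitting inside the strict
henselization `S` and dominated by it: `S` is faithfully flat over `R₁`. -/
theorem faithfullyFlat_of_normal (R₁ : Type u) [CommRing R₁] [IsLocalRing R₁] [IsDomain R₁]
    [IsIntegrallyClosed R₁] [Algebra A R₁] [Algebra R₁ S] [IsScalarTower A R₁ S]
    [Algebra.EssFiniteType A R₁] [IsLocalHom (algebraMap R₁ S)]
    (hinj : Function.Injective (algebraMap R₁ S)) : Module.FaithfullyFlat R₁ S := by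
  obtain ⟨hdomS, -⟩ := Groth.Agent.Lib.H56ShNormal.normal_of_isStrictHenselization A S
  let ψ : R₁ →ₐ[A] S := IsScalarTower.toAlgHom A R₁ S
  let D₁ : Subalgebra A S := ψ.range
  let e : R₁ ≃ₐ[A] D₁ := AlgEquiv.ofInjective ψ hinj
  have : Algebra.EssFiniteType A D₁ := (Algebra.EssFiniteType.iff_of_algEquiv e).mp inferInstance
  obtain ⟨F, hF⟩ := Groth.Agent.Lib.ShSub6.le_of_essFiniteType D₁
  obtain ⟨E, hFE, hlocE, hdomE, hE, -, hffE, -⟩ :=
    Groth.Agent.Lib.ShMinPrimes25.exists_essEtale_sub_sep A S F
  have hDE : D₁ ≤ E := hF E hFE hdomE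
  obtain ⟨C, _, _, q, _, hC, hq, ⟨eE⟩⟩ := hE
  let j : R₁ →ₐ[A] E := (Subalgebra.inclusion hDE).comp e.toAlgHom
  let _ : Algebra R₁ E := j.toRingHom.toAlgebra
  have t1 : IsScalarTower A R₁ E := IsScalarTower.of_algebraMap_eq (fun a => (j.commutes a).symm)
  have t2 : IsScalarTower R₁ E S := IsScalarTower.of_algebraMap_eq (fun r => rfl)
  let gC : C →ₐ[A] E :=
    eE.symm.toAlgHom.comp (IsScalarTower.toAlgHom A C (Localization.AtPrime q))
  let _ : Algebra C E := gC.toRingHom.toAlgebra
  have t3 : IsScalarTower A C E := IsScalarTower.of_algebraMap_eq (fun a => (gC.commutes a).symm)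
  have hinjE : Function.Injective (algebraMap R₁ E) := by
    intro x y hxy
    apply hinj
    rw [IsScalarTower.algebraMap_apply R₁ E S, hxy, ← IsScalarTower.algebraMap_apply R₁ E S]
  have hsurj : ∀ x : E, ∃ c s : C, IsUnit (algebraMap C E s) ∧
      x * algebraMap C E s = algebraMap C E c := by
    intro x
    obtain ⟨⟨c, s⟩, hcs⟩ := IsLocalization.surj q.primeCompl (eE x)
    refine ⟨c, s, ?_, ?_⟩
    · exact (IsLocalization.map_units (Localization.AtPrime q) s).map eE.symm
    · apply eE.injective
      have h1 : eE (algebraMap C E s) = algebraMap C (Localization.AtPrime q) s :=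
        eE.apply_symm_apply _
      have h2 : eE (algebraMap C E c) = algebraMap C (Localization.AtPrime q) c :=
        eE.apply_symm_apply _
      rw [map_mul, h1, h2]
      exact hcs
  have hflat : Module.Flat R₁ E := flat_of_normal A R₁ C E hinjE hsurj
  have : Module.Flat R₁ S := Module.Flat.trans R₁ E S
  exact Module.FaithfullyFlat.of_flat_of_isLocalHom

end ff

section sep

variable (A S : Type u) [CommRing A] [IsLocalRing A] [IsDomain A]
  [CommRing S] [IsLocalRing S] [IsDomain S] [Algebra A S] [FaithfulSMul A S]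
  [IsLocalHom (algebraMap A S)] [Hensel.IsStrictHenselization A S]

attribute [local instance] FractionRing.liftAlgebra

/-- Elements of the strict henselization are separable over the fraction field of `A`. -/
theorem isSeparable_algebraMap (x : S) :
    IsSeparable (FractionRing A) (algebraMap S (FractionRing S) x) := by
  obtain ⟨E, hxE, hlocE, hdomE, hE⟩ := Groth.Agent.Lib.ShSub6.exists_essEtale_sub A S {x}
  obtain ⟨h1, h2, h3⟩ := Groth.Agent.Lib.FracEssEtale6.instances_of_essEtale A E hE
  have hAE : FaithfulSMul A E := by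
    rw [faithfulSMul_iff_algebraMap_injective]
    intro a b hab
    apply FaithfulSMul.algebraMap_injective A S
    exact congrArg Subtype.val hab
  let K := FractionRing A
  let K₁ := FractionRing E
  let Ω := FractionRing S
  have u1 : Algebra.FormallyUnramified A E := inferInstance
  have u2 : Algebra.FormallyUnramified E K₁ := inferInstance
  have u3 : Algebra.FormallyUnramified A K₁ := .comp A E K₁
  have u4 : Algebra.FormallyUnramified K K₁ := .of_restrictScalars A K K₁
  have e2 : Algebra.EssFiniteType E K₁ := inferInstance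
  have e3 : Algebra.EssFiniteType A K₁ := .comp A E K₁
  have e4 : Algebra.EssFiniteType K K₁ := .of_comp A K K₁
  have hsep : Algebra.IsSeparable K K₁ := Algebra.FormallyUnramified.isSeparable K K₁
  have hginj : Function.Injective ((algebraMap S Ω).comp E.val.toRingHom) :=
    (IsFractionRing.injective S Ω).comp Subtype.val_injective
  let f₀ : K₁ →+* Ω := IsFractionRing.lift hginj
  have hf₀ : ∀ y : E, f₀ (algebraMap E K₁ y) = algebraMap S Ω y :=
    fun y => IsFractionRing.lift_algebraMap hginj y
  have hcomm : f₀.comp (algebraMap K K₁) = algebraMap K Ω := by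
    apply IsLocalization.ringHom_ext (nonZeroDivisors A)
    ext a
    simp only [RingHom.comp_apply]
    rw [← IsScalarTower.algebraMap_apply A K K₁, IsScalarTower.algebraMap_apply A E K₁, hf₀,
      ← IsScalarTower.algebraMap_apply A K Ω, IsScalarTower.algebraMap_apply A S Ω]
    rfl
  let f : K₁ →ₐ[K] Ω := { f₀ with commutes' := fun k => RingHom.congr_fun hcomm k }
  have hx : x ∈ E := hxE (by simp)
  have h5 : IsSeparable K (algebraMap E K₁ ⟨x, hx⟩) := Algebra.IsSeparable.isSeparable K _
  have h6 : f (algebraMap E K₁ ⟨x, hx⟩) = algebraMap S Ω x := hf₀ ⟨x, hx⟩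
  rw [← h6]
  unfold IsSeparable at h5 ⊢
  rwa [minpoly.algHom_eq f f.injective]

end sep

section core

variable (A S : Type u) [CommRing A] [IsLocalRing A] [IsDomain A] [IsIntegrallyClosed A]
  [IsNoetherianRing A] [CommRing S] [IsLocalRing S] [IsDomain S] [Algebra A S] [FaithfulSMul A S]
  [IsLocalHom (algebraMap A S)] [Hensel.IsStrictHenselization A S]
  (D : Subalgebra A S) [IsLocalHom (algebraMap D S)] [IsIntegrallyClosed D]

attribute [local instance] FractionRing.liftAlgebra

set_option maxHeartbeats 1600000 in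
/-- **Normal intermediate rings**: for a finite subset `s` of a normal local domain `D ⊆ S` dominated
by `S`, the ring `D ∩ K(s)` is an essentially etale local `A`-subalgebra. -/
theorem exists_essEtale_sub_of_normal (s : Finset S) (hs : (s : Set S) ⊆ D) :
    ∃ D₁ : Subalgebra A S, D₁ ≤ D ∧
      (∀ d ∈ D, algebraMap S (FractionRing S) d ∈
        IntermediateField.adjoin (FractionRing A)
          ((algebraMap S (FractionRing S)) '' (s : Set S)) → d ∈ D₁) ∧
      ∃ _ : IsLocalRing D₁, IsLocalHom (algebraMap D₁ S) ∧ EGA4loc.IsEssentiallyEtale A D₁ := by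
  classical
  let K := FractionRing A
  let Ω := FractionRing S
  let L₁ : IntermediateField K Ω := IntermediateField.adjoin K ((algebraMap S Ω) '' (s : Set S))
  have hsepel : ∀ x ∈ (algebraMap S Ω) '' (s : Set S), IsSeparable K x := by
    rintro _ ⟨x, -, rfl⟩
    exact isSeparable_algebraMap A S x
  have hfd : FiniteDimensional K L₁ :=
    IntermediateField.finiteDimensional_adjoin (fun x hx => (hsepel x hx).isIntegral)
  have hsepL : Algebra.IsSeparable K L₁ :=
    (IntermediateField.isSeparable_adjoin_iff_isSeparable K Ω).mpr hsepel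
  -- the fraction field of `D` inside `Ω`
  let FD := FractionRing D
  let g : D →ₐ[A] Ω := (IsScalarTower.toAlgHom A S Ω).comp D.val
  have hg : Function.Injective g := (IsFractionRing.injective S Ω).comp Subtype.val_injective
  let ι : FD →ₐ[A] Ω := IsFractionRing.liftAlgHom hg
  have hι : ∀ d : D, ι (algebraMap D FD d) = algebraMap S Ω d :=
    fun d => IsFractionRing.lift_algebraMap hg d
  have hιinj : Function.Injective ι := ι.toRingHom.injective
  have hL₁ι : ∀ x ∈ L₁, ∃ y : FD, ι y = x := by
    have hle : L₁.toSubfield ≤ ι.toRingHom.fieldRange := by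
      rw [IntermediateField.adjoin_toSubfield, Subfield.closure_le]
      rintro x (⟨k, rfl⟩ | ⟨y, hy, rfl⟩)
      · obtain ⟨a, b, hb, rfl⟩ := IsFractionRing.div_surjective (A := A) k
        refine ⟨algebraMap A FD a / algebraMap A FD b, ?_⟩
        simp only [AlgHom.toRingHom_eq_coe, RingHom.coe_coe, map_div₀, AlgHom.commutes]
        rw [IsScalarTower.algebraMap_apply A K Ω a, IsScalarTower.algebraMap_apply A K Ω b]
      · exact ⟨algebraMap D FD ⟨y, hs hy⟩, hι _⟩
    intro x hx
    exact hle hx
  -- elements of `L₁` integral over `A` come from `D`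
  have hintD : ∀ x ∈ L₁, IsIntegral A x → ∃ d : D, algebraMap S Ω d = x := by
    intro x hx hxi
    obtain ⟨y, rfl⟩ := hL₁ι x hx
    have h1 : IsIntegral A y := (isIntegral_algHom_iff ι hιinj).mp hxi
    have h2 : IsIntegral D y := h1.tower_top
    obtain ⟨d, hd⟩ := IsIntegrallyClosed.algebraMap_eq_of_integral h2
    exact ⟨d, by rw [← hd, hι]⟩
  have hSΩ : Function.Injective (IsScalarTower.toAlgHom A S Ω) := IsFractionRing.injective S Ω
  -- the integral closure of `A` in `L₁`, as a subalgebra of `S`
  let C : Subalgebra A S := integralClosure A S ⊓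
    (L₁.toSubalgebra.restrictScalars A).comap (IsScalarTower.toAlgHom A S Ω)
  have hCmem : ∀ x : S, x ∈ C ↔ IsIntegral A x ∧ algebraMap S Ω x ∈ L₁ := fun x => Iff.rfl
  have hCD : C ≤ D := by
    intro x hx
    obtain ⟨hx1, hx2⟩ := (hCmem x).mp hx
    obtain ⟨d, hd⟩ := hintD _ hx2 (hx1.map (IsScalarTower.toAlgHom A S Ω))
    have : (d : S) = x := IsFractionRing.injective S Ω hd
    rw [← this]
    exact d.2
  let cL : C →ₐ[A] L₁ := AlgHom.codRestrict ((IsScalarTower.toAlgHom A S Ω).comp C.val)
    (L₁.toSubalgebra.restrictScalars A) (fun c => ((hCmem c).mp c.2).2)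
  let _ : Algebra C L₁ := cL.toRingHom.toAlgebra
  have tC : IsScalarTower A C L₁ := IsScalarTower.of_algebraMap_eq (fun a => (cL.commutes a).symm)
  have hcL : ∀ c : C, ((algebraMap C L₁ c : L₁) : Ω) = algebraMap S Ω c := fun c => rfl
  have hcLinj : Function.Injective (algebraMap C L₁) := by
    intro c c' h
    have h1 : algebraMap S Ω c = algebraMap S Ω c' := by rw [← hcL, ← hcL, h]
    exact Subtype.ext (IsFractionRing.injective S Ω h1)
  have hICC : IsIntegralClosure C A L₁ := by
    refine ⟨hcLinj, fun {y} => ⟨fun hy => ?_, ?_⟩⟩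
    · have hy' : IsIntegral A (y : Ω) := hy.map (L₁.val.restrictScalars A)
      obtain ⟨d, hd⟩ := hintD _ y.2 hy'
      have hdi : IsIntegral A (d : S) :=
        (isIntegral_algHom_iff (IsScalarTower.toAlgHom A S Ω) hSΩ).mp (by
          change IsIntegral A (algebraMap S Ω d); rw [hd]; exact hy')
      have hdC : (d : S) ∈ C := (hCmem _).mpr ⟨hdi, by rw [hd]; exact y.2⟩
      exact ⟨⟨d, hdC⟩, Subtype.ext hd⟩
    · rintro ⟨c, rfl⟩
      have : IsIntegral A (c : S) := ((hCmem c).mp c.2).1
      have h2 : IsIntegral A c := (isIntegral_algHom_iff C.val Subtype.val_injective).mp this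
      exact h2.map cL
  have hfinC : Module.Finite A C := IsIntegralClosure.finite A K L₁ C
  have hfracC : IsFractionRing C L₁ := IsIntegralClosure.isFractionRing_of_finite_extension A K L₁ C
  have hintC : Algebra.IsIntegral A C := IsIntegralClosure.isIntegral_algebra A L₁
  have hicC : IsIntegrallyClosed C := by
    rw [isIntegrallyClosed_iff L₁]
    intro x hx
    exact (IsIntegralClosure.isIntegral_iff (A := C) (R := A) (B := L₁)).mp (isIntegral_trans x hx)
  -- localize at the prime under the maximal ideal of `S`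
  let n : Ideal C := (maximalIdeal S).comap (algebraMap C S)
  have hn : n.IsPrime := Ideal.comap_isPrime _ _
  let R₁ := Localization.AtPrime n
  have hunitC : ∀ y : n.primeCompl, IsUnit (C.val y) := by
    intro y
    have h1 : (y : C) ∉ n := y.2
    have h2 : ¬ ((y : C) : S) ∈ maximalIdeal S := h1
    rw [mem_maximalIdeal, mem_nonunits_iff, not_not] at h2
    exact h2
  let ψ : R₁ →ₐ[A] S := IsLocalization.liftAlgHom (M := n.primeCompl) (f := C.val) hunitC
  let _ : Algebra R₁ S := ψ.toRingHom.toAlgebra
  have tR : IsScalarTower A R₁ S := IsScalarTower.of_algebraMap_eq (fun a => (ψ.commutes a).symm)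
  have hψC : ∀ c : C, algebraMap R₁ S (algebraMap C R₁ c) = c := fun c =>
    IsLocalization.lift_eq (M := n.primeCompl) hunitC c
  have hle : n.primeCompl ≤ nonZeroDivisors C := Ideal.primeCompl_le_nonZeroDivisors n
  have hdomR : IsDomain R₁ := IsLocalization.isDomain_localization hle
  have hicR : IsIntegrallyClosed R₁ := isIntegrallyClosed_of_isLocalization R₁ n.primeCompl hle
  have hmk : ∀ (c : C) (t : n.primeCompl),
      algebraMap R₁ S (IsLocalization.mk' R₁ c t) * (t : C) = c := by
    intro c t
    have h1 : IsLocalization.mk' R₁ c t * algebraMap C R₁ t = algebraMap C R₁ c :=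
      IsLocalization.mk'_spec _ _ _
    have h2 := congrArg (algebraMap R₁ S) h1
    rwa [map_mul, hψC, hψC] at h2
  have hinjR : Function.Injective (algebraMap R₁ S) := by
    rw [injective_iff_map_eq_zero]
    intro x hx
    obtain ⟨c, t, rfl⟩ := IsLocalization.exists_mk'_eq n.primeCompl x
    have h1 := hmk c t
    rw [hx, zero_mul] at h1
    have h2 : c = 0 := Subtype.ext h1.symm
    rw [h2, IsLocalization.mk'_zero]
  have hlocR : IsLocalHom (algebraMap R₁ S) := by
    refine ⟨fun x hx => ?_⟩
    obtain ⟨c, t, rfl⟩ := IsLocalization.exists_mk'_eq n.primeCompl x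
    have h1 := hmk c t
    have h2 : IsUnit ((c : C) : S) := by rw [← h1]; exact hx.mul (hunitC t)
    rw [IsLocalization.AtPrime.isUnit_mk'_iff R₁ n]
    intro hc
    have : ((c : C) : S) ∈ maximalIdeal S := hc
    exact (mem_maximalIdeal _).mp this h2
  have hessC : Algebra.EssFiniteType C R₁ := Algebra.EssFiniteType.of_isLocalization R₁ n.primeCompl
  have hessR : Algebra.EssFiniteType A R₁ := Algebra.EssFiniteType.comp A C R₁
  have hff : Module.FaithfullyFlat R₁ S := faithfullyFlat_of_normal A S R₁ hinjR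
  -- `R₁` is unramified over `A`
  have hlocAR : IsLocalHom (algebraMap A R₁) := by
    have : IsLocalHom ((algebraMap R₁ S).comp (algebraMap A R₁)) := by
      rw [← IsScalarTower.algebraMap_eq A R₁ S]; infer_instance
    exact isLocalHom_of_comp (algebraMap A R₁) (algebraMap R₁ S)
  have hsepS : Algebra.IsSeparable (ResidueField A) (ResidueField S) :=
    (Hensel.IsStrictHenselization.isSepClosure (R := A) (S := S)).separable
  have hsepR : Algebra.IsSeparable (ResidueField A) (ResidueField R₁) :=
    Algebra.isSeparable_tower_bot_of_isSeparable (ResidueField A) (ResidueField R₁)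
      (ResidueField S)
  have hmS : (maximalIdeal A).map (algebraMap A S) = maximalIdeal S :=
    Groth.Agent.Lib.StrictHenselizationMax.map_maximalIdeal_eq A S
  have hmR : (maximalIdeal A).map (algebraMap A R₁) = maximalIdeal R₁ := by
    have h0 := (local_hom_TFAE (algebraMap R₁ S)).out 0 4
    have h1 : (maximalIdeal S).comap (algebraMap R₁ S) = maximalIdeal R₁ := h0.mp hlocR
    rw [← h1, ← hmS, IsScalarTower.algebraMap_eq A R₁ S, ← Ideal.map_map,
      Ideal.comap_map_eq_self_of_faithfullyFlat]
  have hunr : Algebra.FormallyUnramified A R₁ :=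
    Algebra.FormallyUnramified.of_map_maximalIdeal hmR
  -- the image of `R₁` in `S`
  let D₁ : Subalgebra A S := ψ.range
  let e : R₁ ≃ₐ[A] D₁ := AlgEquiv.ofInjective ψ hinjR
  have hD₁D : D₁ ≤ D := by
    rintro _ ⟨x, rfl⟩
    obtain ⟨c, t, rfl⟩ := IsLocalization.exists_mk'_eq n.primeCompl x
    have h1 := hmk c t
    have htD : IsUnit (⟨((t : C) : S), hCD (t : C).2⟩ : D) := by
      apply isUnit_of_map_unit (algebraMap D S)
      exact hunitC t
    obtain ⟨u, hu⟩ := htD.exists_right_inv
    have h3 : ((t : C) : S) * (u : S) = 1 := congrArg Subtype.val hu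
    have h4 : ψ (IsLocalization.mk' R₁ c t) = ((c : C) : S) * (u : S) := by
      rw [← h1]
      change algebraMap R₁ S _ = _
      rw [mul_assoc, h3, mul_one]
    change ψ (IsLocalization.mk' R₁ c t) ∈ D
    rw [h4]
    exact D.mul_mem (hCD c.2) u.2
  have hmemD₁ : ∀ d ∈ D, algebraMap S Ω d ∈ L₁ → d ∈ D₁ := by
    intro d hd hdL
    obtain ⟨c₁, c₂, hc₂, hc⟩ :=
      IsFractionRing.div_surjective (A := C) (⟨algebraMap S Ω d, hdL⟩ : L₁)
    have hc₂0 : (c₂ : C) ≠ 0 := nonZeroDivisors.ne_zero hc₂
    have hc₂L : algebraMap C L₁ c₂ ≠ 0 := fun h => hc₂0 (hcLinj (by rw [h, map_zero]))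
    have hc' : algebraMap C L₁ c₁ = (⟨algebraMap S Ω d, hdL⟩ : L₁) * algebraMap C L₁ c₂ := by
      rw [← hc, div_mul_cancel₀ _ hc₂L]
    have h1 : ((c₁ : C) : S) = d * ((c₂ : C) : S) := by
      apply IsFractionRing.injective S Ω
      rw [map_mul, ← hcL c₂, ← hcL c₁, hc']
      rfl
    have h2 : algebraMap C R₁ c₁ ∈ ((Ideal.span {algebraMap C R₁ c₂}).map
        (algebraMap R₁ S)).comap (algebraMap R₁ S) := by
      rw [Ideal.mem_comap, Ideal.map_span, Set.image_singleton, Ideal.mem_span_singleton, hψC,
        hψC]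
      exact ⟨d, by rw [mul_comm]; exact h1⟩
    rw [Ideal.comap_map_eq_self_of_faithfullyFlat, Ideal.mem_span_singleton] at h2
    obtain ⟨r, hr⟩ := h2
    refine ⟨r, ?_⟩
    have h3 := congrArg (algebraMap R₁ S) hr
    rw [map_mul, hψC, hψC] at h3
    have hc₂S : ((c₂ : C) : S) ≠ 0 := fun h => hc₂0 (Subtype.ext h)
    apply mul_left_cancel₀ hc₂S
    change ((c₂ : C) : S) * algebraMap R₁ S r = (c₂ : C) * d
    rw [← h3, h1, mul_comm]
  have hlocD₁ : IsLocalRing D₁ := e.toRingEquiv.isLocalRing
  have hdomD₁ : IsLocalHom (algebraMap D₁ S) := by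
    refine ⟨fun x hx => ?_⟩
    obtain ⟨y, rfl⟩ := e.surjective x
    have : IsUnit (algebraMap R₁ S y) := hx
    exact (isUnit_of_map_unit (algebraMap R₁ S) y this).map e
  have hessD₁ : Algebra.EssFiniteType A D₁ := (Algebra.EssFiniteType.iff_of_algEquiv e).mp hessR
  have hunrD₁ : Algebra.FormallyUnramified A D₁ := Algebra.FormallyUnramified.of_equiv e
  have hflatAS : Module.FaithfullyFlat A S :=
    Groth.Agent.Lib.StrictHenselization.faithfullyFlat_of_isStrictHenselization A S
  exact ⟨D₁, hD₁D, hmemD₁, hlocD₁, hdomD₁, Groth.Agent.Lib.ShSub6.essEtale_of_unramified D₁⟩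

/-- Every finite subset of `D` lies in an essentially etale local subalgebra of `D`. -/
theorem exists_essEtale_sub_le (s : Finset S) (hs : (s : Set S) ⊆ D) :
    ∃ D₁ : Subalgebra A S, D₁ ≤ D ∧ (s : Set S) ⊆ (D₁ : Set S) ∧
      ∃ _ : IsLocalRing D₁, IsLocalHom (algebraMap D₁ S) ∧ EGA4loc.IsEssentiallyEtale A D₁ := by
  obtain ⟨D₁, h1, h2, h3⟩ := exists_essEtale_sub_of_normal A S D s hs
  exact ⟨D₁, h1, fun x hx => h2 x (hs hx)
    (IntermediateField.subset_adjoin _ _ ⟨x, hx, rfl⟩), h3⟩

/-- If the fraction field of `D` is finitely generated over that of `A`, then `D` itself is an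
essentially etale local `A`-algebra. -/
theorem essEtale_of_normal_of_fg
    (hfg : ∃ s : Finset D, Subfield.closure (Set.range (algebraMap A (FractionRing D)) ∪
        (algebraMap D (FractionRing D)) '' (s : Set D)) = ⊤) :
    EGA4loc.IsEssentiallyEtale A D := by
  classical
  obtain ⟨s, hs⟩ := hfg
  let K := FractionRing A
  let Ω := FractionRing S
  let FD := FractionRing D
  let s' : Finset S := s.image Subtype.val
  have hs' : (s' : Set S) ⊆ D := by
    intro x hx
    simp only [s', Finset.coe_image, Set.mem_image, Finset.mem_coe] at hx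
    obtain ⟨d, -, rfl⟩ := hx
    exact d.2
  obtain ⟨D₁, h1, h2, hloc, hdom, hE⟩ := exists_essEtale_sub_of_normal A S D s' hs'
  let g : D →ₐ[A] Ω := (IsScalarTower.toAlgHom A S Ω).comp D.val
  have hg : Function.Injective g := (IsFractionRing.injective S Ω).comp Subtype.val_injective
  let ι : FD →ₐ[A] Ω := IsFractionRing.liftAlgHom hg
  have hι : ∀ d : D, ι (algebraMap D FD d) = algebraMap S Ω d :=
    fun d => IsFractionRing.lift_algebraMap hg d
  let L₁ : IntermediateField K Ω := IntermediateField.adjoin K ((algebraMap S Ω) '' (s' : Set S))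
  have hrange : ι.toRingHom.fieldRange ≤ L₁.toSubfield := by
    rw [RingHom.fieldRange_eq_map, ← hs, RingHom.map_field_closure, Subfield.closure_le]
    rintro _ ⟨y, (⟨a, rfl⟩ | ⟨d, hd, rfl⟩), rfl⟩
    · have : ι.toRingHom (algebraMap A FD a) = algebraMap K Ω (algebraMap A K a) := by
        rw [← IsScalarTower.algebraMap_apply A K Ω]
        exact ι.commutes a
      rw [this]
      exact L₁.algebraMap_mem _
    · have : ι.toRingHom (algebraMap D FD d) = algebraMap S Ω d := hι d
      rw [this]
      refine IntermediateField.subset_adjoin _ _ ⟨(d : S), ?_, rfl⟩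
      simp only [s', Finset.coe_image, Set.mem_image, Finset.mem_coe]
      exact ⟨d, hd, rfl⟩
  have hle : D ≤ D₁ := by
    intro d hd
    refine h2 d hd (hrange ?_)
    exact ⟨algebraMap D FD ⟨d, hd⟩, hι ⟨d, hd⟩⟩
  have heq : D₁ = D := le_antisymm h1 hle
  obtain ⟨C, _, _, q, _, hC, hq, ⟨e⟩⟩ := hE
  exact ⟨C, inferInstance, inferInstance, q, inferInstance, hC, hq,
    ⟨(Subalgebra.equivOfEq D D₁ heq.symm).trans e⟩⟩

end core

end Groth.Agent.Lib.ShNormalSub61
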