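import Groth.Agent.Lib.ShQuotInter61
import Groth.Agent.Lib.ExcellentFinite61
import Groth.Agent.Lib.HenselIntegralLocal
import Mathlib

/-!
# `(S/Q) ∩ Frac(A)(t)` is an excellent henselian local ring with fraction field `Frac(A)(t)`
(helper61)
-/

set_option autoImplicit false
universe u

namespace Groth.Agent.Lib.ShQuotInterExc61

open IsLocalRing
open Groth.Agent.Lib.ShGaloisCover61 Groth.Agent.Lib.ShQuotInter61

variable (A S : Type u) [CommRing A] [HenselianLocalRing A] [IsNoetherianRing A]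
  [CommRing S] [IsLocalRing S] [Algebra A S] [IsLocalHom (algebraMap A S)]
  [Hensel.IsStrictHenselization A S]

/-- The strict henselization of a henselian local ring is integral over it. -/
theorem isIntegral_of_isStrictHenselization (x : S) : IsIntegral A x := by
  classical
  obtain ⟨E', _, _, _, _, hfin', -, -, j, -, hj⟩ := exists_galois_cover A S {x}
  obtain ⟨e, rfl⟩ := hj x (by simp)
  exact (Algebra.IsIntegral.isIntegral (R := A) e).map j

/-- Every nonzero element of `S/Q` divides the image of an element of `A` with nonzero image. -/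
theorem exists_dvd_algebraMap (Q : Ideal S) [Q.IsPrime] (y : S ⧸ Q) (hy : y ≠ 0) :
    ∃ a : A, algebraMap A (S ⧸ Q) a ≠ 0 ∧ y ∣ algebraMap A (S ⧸ Q) a := by
  let P₀ : Ideal A := Q.under A
  have : Q.LiesOver P₀ := ⟨rfl⟩
  have hyi : IsIntegral A y := by
    obtain ⟨x, rfl⟩ := Ideal.Quotient.mk_surjective y
    exact (isIntegral_of_isStrictHenselization A S x).map (Ideal.Quotient.mkₐ A Q)
  have hyi' : IsIntegral (A ⧸ P₀) y := hyi.tower_top
  obtain ⟨r, hr, hdvd⟩ := hyi'.isAlgebraic.exists_nonzero_dvd (mem_nonZeroDivisors_of_ne_zero hy)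
  obtain ⟨a, rfl⟩ := Ideal.Quotient.mk_surjective r
  refine ⟨a, ?_, ?_⟩
  · intro h
    apply hr
    apply FaithfulSMul.algebraMap_injective (A ⧸ P₀) (S ⧸ Q)
    rw [map_zero]
    exact h
  · exact hdvd

theorem exists_excellent_inter (hA : EGA4.IsExcellent A) (Q : Ideal S) (hQ : Q ∈ minimalPrimes S)
    [Q.IsPrime] (t : Finset (FractionRing (S ⧸ Q))) :
    ∃ D' : Subalgebra A (S ⧸ Q), (D' : Set (S ⧸ Q)) = (algebraMap (S ⧸ Q) (FractionRing (S ⧸ Q))) ⁻¹'
        (Subfield.closure (Set.range (algebraMap A (FractionRing (S ⧸ Q))) ∪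
          (t : Set (FractionRing (S ⧸ Q)))) : Set (FractionRing (S ⧸ Q))) ∧
      EGA4.IsExcellent D' ∧ ∃ _ : HenselianLocalRing D',
        ∀ l ∈ Subfield.closure (Set.range (algebraMap A (FractionRing (S ⧸ Q))) ∪
            (t : Set (FractionRing (S ⧸ Q)))),
          ∃ a ∈ D', ∃ b ∈ D', algebraMap (S ⧸ Q) (FractionRing (S ⧸ Q)) b ≠ 0 ∧
            l * algebraMap (S ⧸ Q) (FractionRing (S ⧸ Q)) b =
              algebraMap (S ⧸ Q) (FractionRing (S ⧸ Q)) a := by
  classical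
  obtain ⟨D', hD', hfin, hunr⟩ := exists_finite_unramified_inter A S Q hQ t
  let Ω := FractionRing (S ⧸ Q)
  let M : Subfield Ω := Subfield.closure (Set.range (algebraMap A Ω) ∪ (t : Set Ω))
  have hmem : ∀ x : S ⧸ Q, x ∈ D' ↔ algebraMap (S ⧸ Q) Ω x ∈ M := by
    intro x
    have := Set.ext_iff.mp hD' x
    exact this
  have hloc : IsLocalRing D' :=
    Groth.Agent.Lib.HenselIntegralLocal.isLocalRing_of_isDomain_of_isIntegral A D'
  have hhens : HenselianLocalRing D' :=
    Groth.Agent.Lib.HenselIntegralLocal.henselianLocalRing_of_isIntegral A D'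
  refine ⟨D', hD', Groth.Agent.Lib.ExcellentFinite61.isExcellent_of_finite A D' hA, hhens, ?_⟩
  intro l hl
  obtain ⟨x, y, hy, rfl⟩ := IsFractionRing.div_surjective (A := S ⧸ Q) l
  have hy0 : y ≠ 0 := nonZeroDivisors.ne_zero hy
  obtain ⟨a, ha0, y', hy'⟩ := exists_dvd_algebraMap A S Q y hy0
  have hyΩ : algebraMap (S ⧸ Q) Ω y ≠ 0 := by
    rw [Ne, map_eq_zero_iff _ (IsFractionRing.injective (S ⧸ Q) Ω)]
    exact hy0
  have haM : algebraMap (S ⧸ Q) Ω (algebraMap A (S ⧸ Q) a) ∈ M := by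
    rw [← IsScalarTower.algebraMap_apply A (S ⧸ Q) Ω]
    exact Subfield.subset_closure (Or.inl ⟨a, rfl⟩)
  have hkey : algebraMap (S ⧸ Q) Ω x / algebraMap (S ⧸ Q) Ω y *
      algebraMap (S ⧸ Q) Ω (algebraMap A (S ⧸ Q) a) = algebraMap (S ⧸ Q) Ω (x * y') := by
    rw [hy', map_mul, map_mul, div_mul_eq_mul_div, div_eq_iff hyΩ]
    ring
  refine ⟨x * y', ?_, algebraMap A (S ⧸ Q) a, (hmem _).mpr haM, ?_, hkey⟩
  · rw [hmem, ← hkey]
    exact M.mul_mem hl haM
  · rw [Ne, map_eq_zero_iff _ (IsFractionRing.injective (S ⧸ Q) Ω)]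
    exact ha0

end Groth.Agent.Lib.ShQuotInterExc61
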