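import Groth.Agent.Lib.ShFiniteSubTrivial61
import Groth.Agent.Lib.SepClosedResidue61
import Groth.Agent.Lib.ReducedMinPrime61
import Groth.Agent.Lib.FracRho61
import Groth.Agent.Lib.ShQuotInterExc61
import Groth.Agent.S16441
import Groth.Agent.S0540
import Mathlib

/-!
# Separably closed residue fields of the normalization give property (U) (helper61)

`A` Noetherian henselian reduced local, `S = A^sh`, `D ⊆ S` a finite `A`-subalgebra, `D'` the
integral closure of `D` in its total ring of fractions.  If for every maximal ideal `M` of `D'` the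
image of `D` is separably closed in `κ(M)`, then `PropU D Q` holds for every minimal prime `Q` of `S`.
-/

set_option autoImplicit false
set_option linter.unusedSectionVars false
universe u

namespace Groth.Agent.Lib.ShSepClosedPropU61

open IsLocalRing Polynomial
open Groth.Agent.Lib.ShFracInter25 Groth.Agent.Lib.FracRho61
  Groth.Agent.Lib.ShFiniteSubTrivial61

variable (A S : Type u) [CommRing A] [HenselianLocalRing A] [IsNoetherianRing A]
  [CommRing S] [IsLocalRing S] [Algebra A S] [IsLocalHom (algebraMap A S)]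
  [Hensel.IsStrictHenselization A S]

/-- Every element of `S` is, modulo `m_S`, a simple root of a monic polynomial over `A`. -/
theorem exists_monic_simple_root (x : S) : ∃ F₀ : A[X], F₀.Monic ∧
    F₀.eval₂ (algebraMap A S) x ∈ maximalIdeal S ∧
    (derivative F₀).eval₂ (algebraMap A S) x ∉ maximalIdeal S := by
  have hsep : Algebra.IsSeparable (ResidueField A) (ResidueField S) :=
    (Hensel.IsStrictHenselization.isSepClosure (R := A) (S := S)).separable
  have hx : IsSeparable (ResidueField A) (residue S x) := Algebra.IsSeparable.isSeparable _ _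
  have hint : IsIntegral (ResidueField A) (residue S x) := hx.isIntegral
  have hlifts : minpoly (ResidueField A) (residue S x) ∈ lifts (residue A) := by
    rw [lifts_iff_coeff_lifts]
    intro n
    exact residue_surjective _
  obtain ⟨F₀, hmap, -, hmonic⟩ := lifts_and_natDegree_eq_and_monic hlifts (minpoly.monic hint)
  have key : ∀ G : A[X], residue S (G.eval₂ (algebraMap A S) x) =
      aeval (residue S x) (G.map (residue A)) := by
    intro G
    rw [aeval_def, eval₂_map, hom_eval₂]
    rfl
  refine ⟨F₀, hmonic, ?_, ?_⟩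
  · rw [← residue_eq_zero_iff, key, hmap, minpoly.aeval]
  · rw [← residue_eq_zero_iff, key, ← derivative_map, hmap]
    exact hx.aeval_derivative_ne_zero (minpoly.aeval _ _)

theorem propU_of_sepClosed [IsReduced A] (D : Subalgebra A S) [Module.Finite A D]
    (H : ∀ (M : Ideal (integralClosure D (FractionRing D))) [M.IsMaximal],
      separableClosure (Subfield.closure (Set.range
        ((algebraMap (integralClosure D (FractionRing D)) M.ResidueField).comp
          (algebraMap D (integralClosure D (FractionRing D)))))) M.ResidueField = ⊥)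
    (Q : Ideal S) (hQ : Q ∈ minimalPrimes S) : PropU (D : Set S) Q := by
  classical
  have hQp : Q.IsPrime := hQ.1.1
  intro x d₁ hd₁ d₂ hd₂ hd₂Q hx
  -- basic facts
  have hminA : (minimalPrimes A).Finite := minimalPrimes.finite_of_isNoetherianRing A
  have hredS : IsReduced S :=
    Groth.Agent.Lib.HznWeaklyEtale96.isReduced_of_isStrictHenselization (R := A) S
  have hredD : IsReduced D := isReduced_of_injective D.val Subtype.val_injective
  have hnoethD : IsNoetherianRing D := IsNoetherianRing.of_finite A D
  have hShens : HenselianLocalRing S := Hensel.IsStrictHenselization.henselian A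
  have hflat : Module.Flat A S :=
    (Groth.Agent.Lib.StrictHenselization.faithfullyFlat_of_isStrictHenselization A S).toFlat
  have hintAS : Algebra.IsIntegral A S :=
    ⟨Groth.Agent.Lib.ShQuotInterExc61.isIntegral_of_isStrictHenselization A S⟩
  have hintDS : Algebra.IsIntegral D S := Algebra.IsIntegral.tower_top (R := A)
  have hnz : ∀ w ∈ nonZeroDivisors D, algebraMap D S w ∉ Q := by
    intro w hw hwQ
    have h1 := Groth.Agent.S16441.nzd_of_nzd_sub A S hminA D w hw
    exact notMem_nonZeroDivisors_of_mem_mem_minimalPrimes hwQ hQ h1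
  -- `p` is a minimal prime of `D`
  let p : Ideal D := Q.comap (algebraMap D S)
  have hpp : p.IsPrime := Ideal.comap_isPrime _ _
  have hmemp : ∀ a : D, a ∈ p ↔ (a : S) ∈ Q := fun a => Iff.rfl
  have hP₀ : ∀ P' : Ideal A, P'.IsPrime → P' ≤ Q.under A → Q.under A ≤ P' := by
    intro P' hP' hle
    have hlo : Q.LiesOver (Q.under A) := ⟨rfl⟩
    obtain ⟨Q', hQ'Q, hQ'p, hQ'o⟩ :=
      Ideal.exists_ideal_le_liesOver_of_le (p := P') (q := Q.under A) Q hle
    have h1 : Q ≤ Q' := hQ.2 ⟨hQ'p, bot_le⟩ hQ'Q
    have h2 : Q' = Q := le_antisymm hQ'Q h1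
    rw [hQ'o.over, h2]
  have hp : p ∈ minimalPrimes D := by
    refine ⟨⟨hpp, bot_le⟩, ?_⟩
    rintro p' ⟨hp'p, -⟩ hle
    by_contra hnle
    obtain ⟨z, hzp, hzp'⟩ := SetLike.not_le_iff_exists.mp hnle
    have hlt := Ideal.comap_lt_comap_of_integral_mem_sdiff (R := A) hle ⟨hzp, hzp'⟩
      (Algebra.IsIntegral.isIntegral z)
    have h1 : p.comap (algebraMap A D) = Q.under A := by
      change (Q.comap (algebraMap D S)).comap (algebraMap A D) = Q.comap (algebraMap A S)
      rw [Ideal.comap_comap]
      rfl
    rw [h1] at hlt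
    exact hlt.not_ge (hP₀ _ (Ideal.comap_isPrime _ _) hlt.le)
  obtain ⟨u, v, hu, hpu, hv, hnzd⟩ :=
    Groth.Agent.Lib.ReducedMinPrime61.exists_u_v D p hp
  -- the element `y`
  let d₁' : D := ⟨d₁, hd₁⟩
  let d₂' : D := ⟨d₂, hd₂⟩
  have hd₂p : d₂' ∉ p := hd₂Q
  let w' : nonZeroDivisors D := ⟨d₂' * u + v, hnzd d₂' hd₂p⟩
  let y : FractionRing D := IsLocalization.mk' (FractionRing D) (d₁' * u) w'
  have hyspec : y * algebraMap D (FractionRing D) (d₂' * u + v) =
      algebraMap D (FractionRing D) (d₁' * u) := IsLocalization.mk'_spec _ _ w'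
  have huQ : toK Q (u : S) ≠ 0 := by
    rw [Ne, toK_eq_zero_iff]
    exact hu
  have hd₂K : toK Q d₂ ≠ 0 := by
    rw [Ne, toK_eq_zero_iff]
    exact hd₂Q
  have hvQ : toK Q (v : S) = 0 := (toK_eq_zero_iff Q _).mpr hv
  have hxK : toK Q x * toK Q d₂ = toK Q d₁ := by
    rw [← map_mul, ← sub_eq_zero, ← map_sub, toK_eq_zero_iff]
    exact hx
  have hrhoy : rho Q hnz y = toK Q x := by
    have h1 := congrArg (rho Q hnz) hyspec
    rw [map_mul, rho_algebraMap, rho_algebraMap] at h1
    have h2 : algebraMap D S (d₂' * u + v) = d₂ * (u : S) + (v : S) := rfl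
    have h3 : algebraMap D S (d₁' * u) = d₁ * (u : S) := rfl
    rw [h2, h3, map_add, map_mul, map_mul, hvQ, add_zero, ← hxK] at h1
    have h4 : (rho Q hnz y - toK Q x) * (toK Q d₂ * toK Q (u : S)) = 0 := by
      rw [sub_mul, h1]
      ring
    rcases mul_eq_zero.mp h4 with h5 | h5
    · exact sub_eq_zero.mp h5
    · exact absurd h5 (mul_ne_zero hd₂K huQ)
  -- integrality of `y`
  obtain ⟨P, hPm, hP⟩ := Groth.Agent.Lib.ShQuotInterExc61.isIntegral_of_isStrictHenselization A S x
  let ιA : A →+* FractionRing D := (algebraMap D (FractionRing D)).comp (algebraMap A D)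
  let c : FractionRing D := P.eval₂ ιA y
  have hrhoc : rho Q hnz c = 0 := by
    have h1 : (rho Q hnz).comp ιA = (toK Q).comp (algebraMap A S) := by
      ext a
      simp only [RingHom.comp_apply, ιA]
      rw [rho_algebraMap]
      rfl
    change rho Q hnz (P.eval₂ ιA y) = 0
    rw [hom_eval₂, h1, hrhoy, ← hom_eval₂, hP, map_zero]
  have huc : algebraMap D (FractionRing D) u * c = 0 :=
    mul_eq_zero_of_rho_eq_zero Q hnz u (fun a ha => hpu a ha) c hrhoc
  have hyc : y * c = 0 := by
    have h1 : (y * c) * algebraMap D (FractionRing D) (d₂' * u + v) = 0 := by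
      have : (y * c) * algebraMap D (FractionRing D) (d₂' * u + v) =
          (y * algebraMap D (FractionRing D) (d₂' * u + v)) * c := by ring
      rw [this, hyspec, map_mul, mul_assoc, huc, mul_zero]
    have hunit : IsUnit (algebraMap D (FractionRing D) (d₂' * u + v)) :=
      IsLocalization.map_units (FractionRing D) w'
    exact (hunit.mul_left_eq_zero).mp h1
  have hyint : IsIntegral D y := by
    refine ⟨(X * P).map (algebraMap A D), (monic_X.mul hPm).map _, ?_⟩
    rw [eval₂_map]
    change (X * P).eval₂ ιA y = 0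
    rw [eval₂_mul, eval₂_X]
    exact hyc
  -- the local ring `N`
  let N := integralClosure (S ⧸ Q) (FractionRing (S ⧸ Q))
  have hmksurj : Function.Surjective (Ideal.Quotient.mk Q) := Ideal.Quotient.mk_surjective
  have hlocSQ : IsLocalRing (S ⧸ Q) := IsLocalRing.of_surjective' _ hmksurj
  have hintSQ : Algebra.IsIntegral S (S ⧸ Q) := Algebra.isIntegral_of_surjective hmksurj
  have hhensSQ : HenselianLocalRing (S ⧸ Q) :=
    Groth.Agent.Lib.HenselIntegralLocal.henselianLocalRing_of_isIntegral S (S ⧸ Q)
  have hlocN : IsLocalRing N :=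
    Groth.Agent.Lib.HenselIntegralLocal.isLocalRing_of_isDomain_of_isIntegral (S ⧸ Q) N
  have hmkloc : IsLocalHom (Ideal.Quotient.mk Q) := IsLocalHom.of_surjective _ hmksurj
  have hNloc : IsLocalHom (algebraMap (S ⧸ Q) N) :=
    (algebraMap_isIntegral_iff.mpr inferInstance).isLocalHom
      (FaithfulSMul.algebraMap_injective (S ⧸ Q) N)
  let lam : S →+* N := (algebraMap (S ⧸ Q) N).comp (Ideal.Quotient.mk Q)
  have hlamloc : IsLocalHom lam := RingHom.isLocalHom_comp _ _
  have hlam_mem : ∀ s : S, lam s ∈ maximalIdeal N ↔ s ∈ maximalIdeal S := by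
    intro s
    rw [mem_maximalIdeal, mem_maximalIdeal, mem_nonunits_iff, mem_nonunits_iff, not_iff_not]
    exact ⟨fun h => isUnit_of_map_unit lam s h, fun h => h.map lam⟩
  let θ : integralClosure D (FractionRing D) →+* N := theta Q hnz
  have hθalg : ∀ d : D, θ (algebraMap D (integralClosure D (FractionRing D)) d) = lam (d : S) :=
    fun d => Subtype.ext (theta_algebraMap Q hnz d)
  let M : Ideal (integralClosure D (FractionRing D)) := (maximalIdeal N).comap θ
  have hMp : M.IsPrime := Ideal.comap_isPrime _ _
  have hMmem : ∀ z, z ∈ M ↔ θ z ∈ maximalIdeal N := fun z => Iff.rfl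
  have hMcomap : M.comap (algebraMap D (integralClosure D (FractionRing D))) =
      (maximalIdeal S).comap (algebraMap D S) := by
    ext d
    constructor
    · intro h
      have h1 : θ (algebraMap D (integralClosure D (FractionRing D)) d) ∈ maximalIdeal N := h
      rw [hθalg, hlam_mem] at h1
      exact h1
    · intro h
      have h1 : (d : S) ∈ maximalIdeal S := h
      rw [← hlam_mem, ← hθalg] at h1
      exact h1
  have hMmax : M.IsMaximal := by
    have h1 : ((maximalIdeal S).comap (algebraMap D S)).IsMaximal :=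
      Ideal.isMaximal_comap_of_isIntegral_of_isMaximal (R := D) (maximalIdeal S)
    rw [← hMcomap] at h1
    exact Ideal.isMaximal_of_isIntegral_of_isMaximal_comap (R := D) M h1
  have hDM : ∀ d : D, IsUnit d ∨ algebraMap D (integralClosure D (FractionRing D)) d ∈ M := by
    intro d
    by_cases hd : (d : S) ∈ maximalIdeal S
    · right
      rw [hMmem, hθalg, hlam_mem]
      exact hd
    · left
      have h1 : IsUnit (algebraMap D S d) := by
        rw [mem_maximalIdeal, mem_nonunits_iff, not_not] at hd
        exact hd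
      have hloc : IsLocalHom (algebraMap D S) :=
        (algebraMap_isIntegral_iff.mpr hintDS).isLocalHom Subtype.val_injective
      exact isUnit_of_map_unit (algebraMap D S) d h1
  obtain ⟨F₀, hF₀m, hF₀, hF₀'⟩ := exists_monic_simple_root A S x
  let F : D[X] := F₀.map (algebraMap A D)
  let y' : integralClosure D (FractionRing D) := ⟨y, hyint⟩
  have hθy : θ y' = lam x := Subtype.ext hrhoy
  have hevalM : ∀ G : D[X], G.eval₂ (algebraMap D (integralClosure D (FractionRing D))) y' ∈ M ↔
      G.eval₂ (algebraMap D S) x ∈ maximalIdeal S := by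
    intro G
    have h1 : θ.comp (algebraMap D (integralClosure D (FractionRing D))) =
        lam.comp (algebraMap D S) := RingHom.ext fun d => hθalg d
    rw [hMmem, hom_eval₂, h1, hθy, ← hom_eval₂, hlam_mem]
  have hcompA : (algebraMap D S).comp (algebraMap A D) = algebraMap A S := rfl
  have hFM : F.eval₂ (algebraMap D (integralClosure D (FractionRing D))) y' ∈ M := by
    rw [hevalM, eval₂_map, hcompA]
    exact hF₀
  have hF'M : (derivative F).eval₂ (algebraMap D (integralClosure D (FractionRing D))) y' ∉ M := by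
    rw [hevalM, derivative_map, eval₂_map, hcompA]
    exact hF₀'
  obtain ⟨d, hd⟩ := Groth.Agent.Lib.SepClosedResidue61.exists_sub_mem M hDM (H M) y' F hFM hF'M
  refine ⟨(d : S), d.2, ?_⟩
  rw [hMmem, map_sub, hθy, hθalg, ← map_sub, hlam_mem] at hd
  exact hd

end Groth.Agent.Lib.ShSepClosedPropU61
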