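import Mathlib.CategoryTheory.Sites.Sheaf
import Mathlib.CategoryTheory.Sites.IsSheafFor

/-!
# Gluing maps of sheaves of types along a jointly locally surjective family (helper46)

Let `e i : A i ⟶ W` be a family of maps of presheaves of types on a site which is jointly locally surjective
(every section of `W` lifts, locally, to some `A i`) and let `T` be a sheaf.  A family `a i : A i ⟶ T` such that
`a i x = a k y` whenever `e i x = e k y` descends uniquely to a map `c : W ⟶ T` (`existsUnique_desc`).
-/

set_option autoImplicit false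
universe w v₁ u₁

open CategoryTheory Opposite

namespace Groth.Agent.Lib.SheafGlueFam46

variable {C : Type u₁} [Category.{v₁} C] (J : GrothendieckTopology C)
variable {ι : Type*} {W T : Cᵒᵖ ⥤ Type w} {A : ι → (Cᵒᵖ ⥤ Type w)} (e : ∀ i, A i ⟶ W) (a : ∀ i, A i ⟶ T)

/-- The sieve of arrows along which the section `s` of `W` lifts to some `A i`. -/
def liftSieve {X : C} (s : W.obj (op X)) : Sieve X where
  arrows Y g := ∃ (i : ι) (x : (A i).obj (op Y)), (e i).app _ x = W.map g.op s
  downward_closed := by
    rintro Y Z g ⟨i, x, hx⟩ h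
    refine ⟨i, (A i).map h.op x, ?_⟩
    rw [NatTrans.naturality_apply, hx, op_comp, Functor.map_comp_apply]

variable {e a}

/-- The local values of the glued map. -/
noncomputable def fam {X : C} (s : W.obj (op X)) :
    Presieve.FamilyOfElements T (liftSieve e s).arrows :=
  fun _ _ hg => (a hg.choose).app _ hg.choose_spec.choose

variable (hcompat : ∀ (X : C) (i k : ι) (x : (A i).obj (op X)) (y : (A k).obj (op X)),
      (e i).app _ x = (e k).app _ y → (a i).app _ x = (a k).app _ y)

include hcompat

theorem fam_eq {X : C} (s : W.obj (op X)) {Y : C} (g : Y ⟶ X) (hg : (liftSieve e s).arrows g)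
    (i : ι) (x : (A i).obj (op Y)) (hx : (e i).app _ x = W.map g.op s) :
    fam (e := e) (a := a) s g hg = (a i).app _ x :=
  hcompat Y _ _ _ _ (hg.choose_spec.choose_spec.trans hx.symm)

theorem fam_compatible {X : C} (s : W.obj (op X)) : (fam (e := e) (a := a) s).Compatible := by
  intro Y₁ Y₂ Z g₁ g₂ f₁ f₂ h₁ h₂ hcomm
  obtain ⟨i₁, x₁, hx₁⟩ := h₁
  obtain ⟨i₂, x₂, hx₂⟩ := h₂
  rw [fam_eq hcompat s f₁ _ i₁ x₁ hx₁, fam_eq hcompat s f₂ _ i₂ x₂ hx₂,
    ← NatTrans.naturality_apply, ← NatTrans.naturality_apply]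
  apply hcompat
  rw [NatTrans.naturality_apply, NatTrans.naturality_apply, hx₁, hx₂, ← Functor.map_comp_apply,
    ← Functor.map_comp_apply, ← op_comp, ← op_comp, hcomm]

variable (hT : Presieve.IsSheaf J T)
  (hsurj : ∀ (X : C) (s : W.obj (op X)), liftSieve e s ∈ J X)

include hT hsurj

/-- The glued map on sections. -/
noncomputable def descFun (X : C) (s : W.obj (op X)) : T.obj (op X) :=
  (hT _ (hsurj X s)).amalgamate (fam s) (fam_compatible hcompat s)

theorem map_descFun {X : C} (s : W.obj (op X)) {Y : C} (g : Y ⟶ X)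
    (i : ι) (x : (A i).obj (op Y)) (hx : (e i).app _ x = W.map g.op s) :
    T.map g.op (descFun J hcompat hT hsurj X s) = (a i).app _ x := by
  have hg : (liftSieve e s).arrows g := ⟨i, x, hx⟩
  rw [← fam_eq hcompat s g hg i x hx]
  exact Presieve.IsSheafFor.valid_glue _ _ _ hg

theorem descFun_natural {X X' : C} (k : X' ⟶ X) (s : W.obj (op X)) :
    descFun J hcompat hT hsurj X' (W.map k.op s) = T.map k.op (descFun J hcompat hT hsurj X s) := by
  refine (hT _ (hsurj X' (W.map k.op s))).isSeparatedFor.ext ?_
  rintro Y g ⟨i, x, hx⟩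
  rw [map_descFun J hcompat hT hsurj _ g i x hx, ← Functor.map_comp_apply, ← op_comp]
  refine (map_descFun J hcompat hT hsurj s (g ≫ k) i x ?_).symm
  rw [hx, ← Functor.map_comp_apply, ← op_comp]

/-- The glued map. -/
noncomputable def desc : W ⟶ T where
  app X := TypeCat.ofHom (fun s => descFun J hcompat hT hsurj X.unop s)
  naturality X Y k := by
    ext s
    exact descFun_natural J hcompat hT hsurj k.unop s

theorem desc_app {X : C} (s : W.obj (op X)) :
    (desc J hcompat hT hsurj).app (op X) s = descFun J hcompat hT hsurj X s := rfl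

theorem fac (i : ι) : e i ≫ desc J hcompat hT hsurj = a i := by
  ext X x
  obtain ⟨X⟩ := X
  change (e i ≫ desc J hcompat hT hsurj).app (op X) x = (a i).app (op X) x
  rw [NatTrans.comp_app_apply, desc_app]
  have := map_descFun J hcompat hT hsurj ((e i).app (op X) x) (𝟙 X) i x (by
    rw [op_id, Functor.map_id_apply])
  rwa [op_id, Functor.map_id_apply] at this

theorem uniq (c : W ⟶ T) (hc : ∀ i, e i ≫ c = a i) : c = desc J hcompat hT hsurj := by
  ext X s
  obtain ⟨X⟩ := X
  change c.app (op X) s = (desc J hcompat hT hsurj).app (op X) s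
  rw [desc_app]
  refine (hT _ (hsurj X s)).isSeparatedFor.ext ?_
  rintro Y g ⟨i, x, hx⟩
  rw [map_descFun J hcompat hT hsurj s g i x hx, ← NatTrans.naturality_apply, ← hx,
    ← NatTrans.comp_app_apply, hc i]

/-- **Gluing along a jointly locally surjective family.** -/
theorem existsUnique_desc : ∃! c : W ⟶ T, ∀ i, e i ≫ c = a i :=
  ⟨desc J hcompat hT hsurj, fac J hcompat hT hsurj, fun c hc => uniq J hcompat hT hsurj c hc⟩

end Groth.Agent.Lib.SheafGlueFam46
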