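import Groth.Agent.Lib.ProjFormulaFLF23
import Groth.Agent.Lib.TwistEquiv
import Groth.Agent.Lib.InvGlue42
import Groth.Agent.Lib.H4ModHom

set_option autoImplicit false
set_option linter.unusedVariables false
universe u
open CategoryTheory AlgebraicGeometry TopologicalSpace Opposite
open Groth.Agent.Lib.H90Invertible Groth.Agent.Lib.H78TensorGen Groth.Agent.Lib.H78Atlas
open Groth.Agent.Lib.InvGlue42

namespace Groth.Agent.Lib.SheafHom23

variable {X : Scheme.{u}} (M N : X.Modules)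

/-- compatible families of `O`-linear maps `Γ(M, W) → Γ(N, W)`, `W ≤ U` -/
def HomSec (U : X.Opens) : AddSubgroup (∀ W : {W : X.Opens // W ≤ U}, Γ(M, W.1) →+ Γ(N, W.1)) where
  carrier := {φ | (∀ (W : {W : X.Opens // W ≤ U}) (r : Γ(X, W.1)) (a : Γ(M, W.1)),
      φ W (r • a) = r • φ W a) ∧
    ∀ (W W' : {W : X.Opens // W ≤ U}) (h : W'.1 ≤ W.1) (a : Γ(M, W.1)),
      rs N h (φ W a) = φ W' (rs M h a)}
  add_mem' := fun {φ ψ} hφ hψ => ⟨fun W r a => by
      change φ W (r • a) + ψ W (r • a) = r • (φ W a + ψ W a)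
      rw [hφ.1, hψ.1, smul_add],
    fun W W' h a => by
      change rs N h (φ W a + ψ W a) = φ W' (rs M h a) + ψ W' (rs M h a)
      rw [← hφ.2 W W' h, ← hψ.2 W W' h]
      exact map_add _ _ _⟩
  zero_mem' := ⟨fun W r a => (smul_zero r).symm, fun W W' h a => map_zero _⟩
  neg_mem' := fun {φ} hφ => ⟨fun W r a => by
      change -(φ W (r • a)) = r • (-(φ W a))
      rw [hφ.1, smul_neg],
    fun W W' h a => by
      change rs N h (-(φ W a)) = -(φ W' (rs M h a))
      rw [← hφ.2 W W' h]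
      exact map_neg _ _⟩

variable {M N}

/-- evaluation of a family -/
noncomputable def ev {U : X.Opens} (φ : HomSec M N U) (W : X.Opens) (h : W ≤ U) (a : Γ(M, W)) : Γ(N, W) :=
  φ.1 ⟨W, h⟩ a

lemma ev_add {U : X.Opens} (φ : HomSec M N U) (W : X.Opens) (h : W ≤ U) (a b : Γ(M, W)) :
    ev φ W h (a + b) = ev φ W h a + ev φ W h b := map_add _ _ _

lemma ev_smul {U : X.Opens} (φ : HomSec M N U) (W : X.Opens) (h : W ≤ U) (r : Γ(X, W))
    (a : Γ(M, W)) : ev φ W h (r • a) = r • ev φ W h a := φ.2.1 ⟨W, h⟩ r a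

lemma ev_rs {U : X.Opens} (φ : HomSec M N U) {W W' : X.Opens} (h : W ≤ U) (h' : W' ≤ W)
    (a : Γ(M, W)) : rs N h' (ev φ W h a) = ev φ W' (h'.trans h) (rs M h' a) :=
  φ.2.2 ⟨W, h⟩ ⟨W', h'.trans h⟩ h' a

lemma hext {U : X.Opens} {φ ψ : HomSec M N U}
    (h : ∀ (W : X.Opens) (hW : W ≤ U) (a : Γ(M, W)), ev φ W hW a = ev ψ W hW a) : φ = ψ :=
  Subtype.ext (funext fun W => AddMonoidHom.ext fun a => h W.1 W.2 a)

lemma add_ev {U : X.Opens} (φ ψ : HomSec M N U) (W : X.Opens) (h : W ≤ U) (a : Γ(M, W)) :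
    ev (φ + ψ) W h a = ev φ W h a + ev ψ W h a := rfl

/-- constructor -/
noncomputable def mk' {U : X.Opens} (f : ∀ (W : X.Opens), W ≤ U → Γ(M, W) → Γ(N, W))
    (hadd : ∀ W h a b, f W h (a + b) = f W h a + f W h b)
    (hsmul : ∀ W h (r : Γ(X, W)) a, f W h (r • a) = r • f W h a)
    (hrs : ∀ (W W' : X.Opens) (h : W ≤ U) (h' : W' ≤ W) a,
      rs N h' (f W h a) = f W' (h'.trans h) (rs M h' a)) : HomSec M N U :=
  ⟨fun W => AddMonoidHom.mk' (f W.1 W.2) (hadd W.1 W.2),
    fun W r a => hsmul W.1 W.2 r a, fun W W' h a => hrs W.1 W'.1 W.2 h a⟩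

@[simp] lemma mk'_ev {U : X.Opens} (f : ∀ (W : X.Opens), W ≤ U → Γ(M, W) → Γ(N, W))
    (hadd hsmul hrs) (W : X.Opens) (h : W ≤ U) (a : Γ(M, W)) :
    ev (mk' f hadd hsmul hrs) W h a = f W h a := rfl

noncomputable instance (U : X.Opens) : Module Γ(X, U) (HomSec M N U) where
  smul r φ := mk' (fun W h a => rf h r • ev φ W h a)
    (fun W h a b => by rw [ev_add φ, smul_add])
    (fun W h s a => by rw [ev_smul φ, smul_comm])
    (fun W W' h h' a => by rw [rs_smul, rf_rf, ev_rs φ])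
  one_smul φ := hext fun W h a => by
    change rf h 1 • ev φ W h a = ev φ W h a
    rw [rf_one, one_smul]
  mul_smul r r' φ := hext fun W h a => by
    change rf h (r * r') • ev φ W h a = rf h r • (rf h r' • ev φ W h a)
    rw [rf_mul, mul_smul]
  smul_zero r := hext fun W h a => by
    change rf h r • (0 : Γ(N, W)) = 0
    rw [smul_zero]
  smul_add r φ ψ := hext fun W h a => by
    change rf h r • (ev φ W h a + ev ψ W h a) = rf h r • ev φ W h a + rf h r • ev ψ W h a
    rw [smul_add]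
  add_smul r r' φ := hext fun W h a => by
    change rf h (r + r') • ev φ W h a = rf h r • ev φ W h a + rf h r' • ev φ W h a
    rw [rf_add, add_smul]
  zero_smul φ := hext fun W h a => by
    change rf h 0 • ev φ W h a = 0
    rw [rf_zero, zero_smul]

lemma smul_ev {U : X.Opens} (r : Γ(X, U)) (φ : HomSec M N U) (W : X.Opens) (h : W ≤ U)
    (a : Γ(M, W)) : ev (r • φ) W h a = rf h r • ev φ W h a := rfl

variable (M N)

/-- restriction of families -/
noncomputable def resHom {U V : X.Opens} (h : V ≤ U) : HomSec M N U →+ HomSec M N V where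
  toFun φ := mk' (fun W hW a => ev φ W (hW.trans h) a)
    (fun W hW a b => ev_add φ _ _ _ _) (fun W hW r a => ev_smul φ _ _ _ _)
    (fun W W' hW h' a => ev_rs φ _ _ _)
  map_zero' := hext fun W hW a => rfl
  map_add' φ ψ := hext fun W hW a => rfl

lemma resHom_ev {U V : X.Opens} (h : V ≤ U) (φ : HomSec M N U) (W : X.Opens) (hW : W ≤ V)
    (a : Γ(M, W)) : ev (resHom M N h φ) W hW a = ev φ W (hW.trans h) a := rfl

/-- the underlying presheaf of abelian groups -/
noncomputable def preAb : TopCat.Presheaf Ab X where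
  obj V := AddCommGrpCat.of (HomSec M N V.unop)
  map f := AddCommGrpCat.ofHom (resHom M N (leOfHom f.unop))
  map_id V := by
    refine AddCommGrpCat.hom_ext (AddMonoidHom.ext fun φ => ?_)
    let φ' : HomSec M N V.unop := φ
    exact hext (φ := resHom M N (le_refl V.unop) φ') (ψ := φ') fun W hW a => rfl
  map_comp {U V W} f g := by
    refine AddCommGrpCat.hom_ext (AddMonoidHom.ext fun φ => ?_)
    let φ' : HomSec M N U.unop := φ
    exact hext (φ := resHom M N (leOfHom (f ≫ g).unop) φ')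
      (ψ := resHom M N (leOfHom g.unop) (resHom M N (leOfHom f.unop) φ')) fun W hW a => rfl

noncomputable instance (V : (Opens X)ᵒᵖ) : Module (X.ringCatSheaf.obj.obj V) ((preAb M N).obj V) :=
  inferInstanceAs (Module Γ(X, V.unop) (HomSec M N V.unop))

lemma preAb_map_smul ⦃V W : (Opens X)ᵒᵖ⦄ (f : V ⟶ W) (r : X.ringCatSheaf.obj.obj V)
    (m : (preAb M N).obj V) :
    (preAb M N).map f (r • m) = X.ringCatSheaf.obj.map f r • (preAb M N).map f m := by
  let m' : HomSec M N V.unop := m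
  let r' : Γ(X, V.unop) := r
  refine hext (φ := resHom M N (leOfHom f.unop) (r' • m'))
    (ψ := (rf (leOfHom f.unop) r') • resHom M N (leOfHom f.unop) m') fun T hT a => ?_
  change rf (hT.trans (leOfHom f.unop)) r' • ev m' T _ a = rf hT (rf (leOfHom f.unop) r') • ev m' T _ a
  rw [rf_rf]

/-- the presheaf of modules -/
noncomputable def prePM : PresheafOfModules X.ringCatSheaf.obj :=
  PresheafOfModules.ofPresheaf (preAb M N) (preAb_map_smul M N)


lemma rs_add (P : X.Modules) {V W : X.Opens} (h : W ≤ V) (x y : Γ(P, V)) :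
    rs P h (x + y) = rs P h x + rs P h y := (P.presheaf.map (homOfLE h).op).hom.map_add x y

lemma ev_congr {U : X.Opens} {φ ψ : HomSec M N U} (h : φ = ψ) (W : X.Opens) (hW : W ≤ U)
    (a : Γ(M, W)) : ev φ W hW a = ev ψ W hW a := by rw [h]

lemma ev_proof_irrel {U : X.Opens} (φ : HomSec M N U) {W W' : X.Opens} (hWW' : W = W')
    (hW : W ≤ U) (hW' : W' ≤ U) (a : Γ(M, W)) (a' : Γ(M, W')) (ha : HEq a a') :
    HEq (ev φ W hW a) (ev φ W' hW' a') := by
  subst hWW'
  rw [eq_of_heq ha]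

theorem isSheaf_preAb : TopCat.Presheaf.IsSheaf (preAb M N) := by
  rw [TopCat.Presheaf.isSheaf_iff_isSheafUniqueGluing]
  intro A W sf hsf
  let sf' : ∀ a, HomSec M N (W a) := sf
  have hsf' : ∀ a b, resHom M N (inf_le_left : W a ⊓ W b ≤ W a) (sf' a) =
      resHom M N (inf_le_right : W a ⊓ W b ≤ W b) (sf' b) := fun a b => hsf a b
  have hab : ∀ (a b : A) (T : X.Opens) (hTa : T ≤ W a) (hTb : T ≤ W b) (m : Γ(M, T)),
      ev (sf' a) T hTa m = ev (sf' b) T hTb m := fun a b T hTa hTb m =>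
    ev_congr M N (hsf' a b) T (le_inf hTa hTb) m
  have key : ∀ (T : X.Opens) (hT : T ≤ iSup W) (m : Γ(M, T)), ∃! n : Γ(N, T),
      ∀ a, rs N (inf_le_left : T ⊓ W a ≤ T) n =
        ev (sf' a) (T ⊓ W a) inf_le_right (rs M inf_le_left m) := by
    intro T hT m
    have hcov : T ≤ ⨆ a, T ⊓ W a := by
      rw [← inf_iSup_eq]
      exact le_inf le_rfl hT
    obtain ⟨n, hn⟩ := sec_glue N (fun a => T ⊓ W a) (fun a => inf_le_left) hcov
      (fun a => ev (sf' a) (T ⊓ W a) inf_le_right (rs M inf_le_left m)) (fun a b => by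
        rw [ev_rs, ev_rs, rs_rs, rs_rs]
        exact hab a b _ _ _ _)
    refine ⟨n, hn, fun n' hn' => ?_⟩
    refine sec_ext N _ _ fun x hx => ?_
    obtain ⟨a, ha⟩ := Opens.mem_iSup.mp (hT hx)
    exact ⟨T ⊓ W a, inf_le_left, ⟨hx, ha⟩, (hn' a).trans (hn a).symm⟩
  let gf : ∀ (T : X.Opens) (hT : T ≤ iSup W) (m : Γ(M, T)), Γ(N, T) :=
    fun T hT m => (key T hT m).exists.choose
  have gspec : ∀ T hT m a, rs N (inf_le_left : T ⊓ W a ≤ T) (gf T hT m) =
      ev (sf' a) (T ⊓ W a) inf_le_right (rs M inf_le_left m) :=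
    fun T hT m => (key T hT m).exists.choose_spec
  have guniq : ∀ T hT m (n : Γ(N, T)), (∀ a, rs N (inf_le_left : T ⊓ W a ≤ T) n =
      ev (sf' a) (T ⊓ W a) inf_le_right (rs M inf_le_left m)) → n = gf T hT m :=
    fun T hT m n hn => (key T hT m).unique hn (gspec T hT m)
  let g : HomSec M N (iSup W) := mk' gf
    (fun T hT m m' => (guniq T hT (m + m') _ fun a => by
      rw [rs_add, gspec T hT m a, gspec T hT m' a, rs_add, ev_add]).symm)
    (fun T hT r m => (guniq T hT (r • m) _ fun a => by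
      rw [rs_smul, gspec T hT m a, rs_smul, ev_smul]).symm)
    (fun T T' hT h' m => guniq T' (h'.trans hT) (rs M h' m) _ fun a => by
      have e1 : rs N (inf_le_left : T' ⊓ W a ≤ T') (rs N h' (gf T hT m)) =
          rs N (inf_le_inf_right (W a) h' : T' ⊓ W a ≤ T ⊓ W a)
            (rs N (inf_le_left : T ⊓ W a ≤ T) (gf T hT m)) := by
        rw [rs_rs, rs_rs]
      rw [e1, gspec T hT m a, ev_rs, rs_rs, rs_rs])
  refine ⟨g, fun a => ?_, fun t ht => ?_⟩
  · refine hext (φ := resHom M N (le_iSup W a) g) (ψ := sf' a) fun T hT m => ?_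
    change gf T (hT.trans (le_iSup W a)) m = ev (sf' a) T hT m
    refine (guniq T (hT.trans (le_iSup W a)) m (ev (sf' a) T hT m) fun b => ?_).symm
    rw [ev_rs]
    exact hab a b _ _ _ _
  · let t' : HomSec M N (iSup W) := t
    have ht' : ∀ a, resHom M N (le_iSup W a) t' = sf' a := fun a => ht a
    refine hext (φ := t') (ψ := g) fun T hT m => ?_
    change ev t' T hT m = gf T hT m
    refine guniq T hT m _ fun a => ?_
    rw [ev_rs]
    exact ev_congr M N (ht' a) (T ⊓ W a) inf_le_right _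

/-- the internal Hom `ℋom(M, N)` of `O_X`-modules -/
noncomputable def hom : X.Modules := ⟨prePM M N, isSheaf_preAb M N⟩

end Groth.Agent.Lib.SheafHom23
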