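/-
helper97: depth of stalks of the sheaf Hom (via the local kernel presentation).
-/
import Groth.Agent.Lib.SheafHomCoh97
import Groth.Agent.Lib.H8DepthLemma
import Groth.Agent.Lib.H47Reflexive
import Groth.Agent.Lib.DepthFlat33
import Groth.Agent.Lib.H8LocTrans
import Groth.Agent.Lib.ModStalkLin
import Groth.Agent.Lib.ModStalkCoker
import Groth.Agent.Lib.RestrictStalk
import Groth.Agent.Lib.H90DevHub2
import Groth.Agent.Lib.H90CohCenter

set_option autoImplicit false
set_option maxHeartbeats 400000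
universe u
open CategoryTheory CategoryTheory.Limits AlgebraicGeometry Opposite TopologicalSpace ZeroObject
open AlgebraicGeometry.Scheme AlgebraicGeometry.Scheme.Modules

namespace Groth.Agent.Lib.SheafHomDepth97

section Algebra

variable {R : Type u} [CommRing R] [IsLocalRing R] [IsNoetherianRing R]
variable {A B : Type u} [AddCommGroup A] [Module R A] [AddCommGroup B] [Module R B]
  [Module.Finite R A] [Module.Finite R B]

/-- depth of a kernel: `depth A ≥ n+1`, `depth B ≥ n`, `n ≤ 1` ⇒ `depth (ker u) ≥ n+1`. -/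
theorem le_depth_of_exact {K : Type u} [AddCommGroup K] [Module R K] [Module.Finite R K]
    (i : K →ₗ[R] A) (u : A →ₗ[R] B) (hi : Function.Injective i) (hiu : Function.Exact i u)
    (n : ℕ) (hn : n ≤ 1) (hA : ((n + 1 : ℕ) : ℕ∞) ≤ LocCoh.depth R A)
    (hB : (n : ℕ∞) ≤ LocCoh.depth R B) : ((n + 1 : ℕ) : ℕ∞) ≤ LocCoh.depth R K := by
  have hC : (n : ℕ∞) ≤ LocCoh.idealDepth (IsLocalRing.maximalIdeal R) (LinearMap.range u) := by
    interval_cases n
    · simp
    · rw [Nat.cast_one, Groth.Agent.Lib.H47Reflexive.one_le_idealDepth_iff]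
      have hB' : Groth.Agent.Lib.H47Reflexive.TF (IsLocalRing.maximalIdeal R) B := by
        rw [← Groth.Agent.Lib.H47Reflexive.one_le_idealDepth_iff]
        exact_mod_cast hB
      exact hB'.of_injective (LinearMap.range u).subtype (Submodule.subtype_injective _)
  refine Groth.Agent.Lib.H8DepthLemma.le_idealDepth_left (IsLocalRing.maximalIdeal R) i
    u.rangeRestrict hi ?_ u.surjective_rangeRestrict (n + 1) hA ?_
  · intro a
    rw [← hiu a]
    constructor
    · intro h
      have := congrArg Subtype.val h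
      simpa using this
    · intro h
      apply Subtype.ext
      simpa using h
  · push_cast
    exact add_le_add_left hC 1

end Algebra

section Sheaf

open Groth.Agent.Lib.ModStalkLin Groth.Agent.Lib.ModStalk Groth.Agent.Lib.H43CohProp

variable {Y : Scheme.{u}}

/-- stalks of an exact complex are exact -/
theorem stalkLin_exact_of_exact {S : ShortComplex Y.Modules} (hS : S.Exact) (y : Y) :
    Function.Exact (stalkLin S.f y) (stalkLin S.g y) :=
  (ShortComplex.ab_exact_iff_function_exact _).mp (hS.map (stalkFunctor y))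

variable [IsLocallyNoetherian Y] (y : Y)

/-- coherent modules whose stalk at `y` has depth at least `k` -/
def dP (k : ℕ) : ObjectProperty Y.Modules := fun N =>
  Coh.IsCoh N ∧ (k : ℕ∞) ≤ LocCoh.depth (Y.presheaf.stalk y) ↑(N.presheaf.stalk y)

instance (k : ℕ) : (dP y k).IsClosedUnderIsomorphisms where
  of_iso e h := ⟨Groth.Agent.Lib.H90CohRestrict.isCoh_of_iso e h.1, by
    rw [← Groth.Agent.Lib.DepthFlat33.depth_congr (stalkLinEquiv e y)]; exact h.2⟩

instance (k : ℕ) : (dP y k).ContainsZero where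
  exists_zero := ⟨0, isZero_zero _, Groth.Agent.Lib.H90DevHub2.isCoh_of_isZero (isZero_zero _), by
    haveI := Groth.Agent.Lib.H90DevHub2.subsingleton_stalk_of_isZero
      (isZero_zero Y.Modules) y
    rw [Groth.Agent.Lib.DepthFlat33.depth_eq_top_of_subsingleton]
    exact le_top⟩

theorem dP_biprod {k : ℕ} {A B : Y.Modules} (hA : dP y k A) (hB : dP y k B) :
    dP y k (A ⊞ B) := by
  refine ⟨Groth.Agent.Lib.H90CohCenter.isCoh_biprod hA.1 hB.1, ?_⟩
  have hS := (ShortComplex.Splitting.ofHasBinaryBiproduct A B).shortExact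
  obtain ⟨h1, h2, h3⟩ := stalkLin_exact hS y
  haveI := Groth.Agent.Lib.CohFinite.finite_stalk_of_isCoh A hA.1 y
  haveI := Groth.Agent.Lib.CohFinite.finite_stalk_of_isCoh B hB.1 y
  haveI := Groth.Agent.Lib.CohFinite.finite_stalk_of_isCoh (A ⊞ B)
    (Groth.Agent.Lib.H90CohCenter.isCoh_biprod hA.1 hB.1) y
  exact Groth.Agent.Lib.H8DepthLemma.le_idealDepth_middle _ _ _ h1 h2 h3 k hA.2 hB.2

instance (k : ℕ) : (dP y k).IsClosedUnderBinaryProducts where
  limitsOfShape_le := by
    rintro M ⟨p⟩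
    have hA : dP y k (p.diag.obj ⟨WalkingPair.left⟩) := p.prop_diag_obj _
    have hB : dP y k (p.diag.obj ⟨WalkingPair.right⟩) := p.prop_diag_obj _
    have h := dP_biprod y hA hB
    let e1 : p.diag ≅ pair (p.diag.obj ⟨WalkingPair.left⟩) (p.diag.obj ⟨WalkingPair.right⟩) :=
      diagramIsoPair p.diag
    let c : Cone (pair (p.diag.obj ⟨WalkingPair.left⟩) (p.diag.obj ⟨WalkingPair.right⟩)) :=
      (Cone.postcompose e1.hom).obj ⟨M, p.π⟩
    have hc : IsLimit c := (IsLimit.postcomposeHomEquiv e1 _).symm p.isLimit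
    have e : M ≅ (p.diag.obj ⟨WalkingPair.left⟩) ⊞ (p.diag.obj ⟨WalkingPair.right⟩) :=
      (IsLimit.conePointUniqueUpToIso hc (BinaryBiproduct.isLimit _ _))
    exact (dP y k).prop_of_iso e.symm h

instance (k : ℕ) : (dP y k).IsClosedUnderFiniteProducts :=
  ObjectProperty.IsClosedUnderFiniteProducts.mk'

/-- the kernel rule -/
theorem dP_kernel {A B : Y.Modules} (f : A ⟶ B) (c : KernelFork f) (hc : IsLimit c) (n : ℕ)
    (hn : n ≤ 1) (hA : dP y (n + 1) A) (hB : dP y n B) : dP y (n + 1) c.pt := by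
  have hcoh : Coh.IsCoh c.pt := (cohP Y).prop_of_isLimit_kernelFork hc hA.1 hB.1
  refine ⟨hcoh, ?_⟩
  haveI := Groth.Agent.Lib.CohFinite.finite_stalk_of_isCoh A hA.1 y
  haveI := Groth.Agent.Lib.CohFinite.finite_stalk_of_isCoh B hB.1 y
  haveI := Groth.Agent.Lib.CohFinite.finite_stalk_of_isCoh c.pt hcoh y
  haveI : Mono c.ι := Fork.IsLimit.mono hc
  have hS : (ShortComplex.mk c.ι f c.condition).Exact :=
    ShortComplex.exact_of_f_is_kernel _
      (IsLimit.ofIsoLimit hc (Fork.ext (Iso.refl _) (by simp)))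
  exact le_depth_of_exact (stalkLin c.ι y) (stalkLin f y) (stalkLin_injective_of_mono c.ι y)
    (stalkLin_exact_of_exact hS y) n hn hA.2 hB.2

end Sheaf

section Over

open Groth.Agent.Lib.SheafHomPres97 Groth.Agent.Lib.SheafHomCoh97

variable {X : Scheme.{u}} [IsLocallyNoetherian X] (V : X.Opens) (y : (V : Scheme.{u}))

/-- the depth property transported to the localized site -/
noncomputable def dOver (k : ℕ) : ObjectProperty (ModSite.Mod (X.sheaf.over V)) :=
  fun N => dP y k ((overEquiv V).functor.obj N)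

instance (k : ℕ) : (dOver V y k).IsClosedUnderIsomorphisms where
  of_iso e h := (dP y k).prop_of_iso ((overEquiv V).functor.mapIso e) h

instance (k : ℕ) : (dOver V y k).IsClosedUnderFiniteProducts where
  isClosedUnderLimitsOfShape J _ :=
    inferInstanceAs (((dP y k).inverseImage
      (overEquiv V).functor).IsClosedUnderLimitsOfShape (Discrete J))

theorem dOver_kernel {A B : ModSite.Mod (X.sheaf.over V)} (f : A ⟶ B) (c : KernelFork f)
    (hc : IsLimit c) (n : ℕ) (hn : n ≤ 1) (hA : dOver V y (n + 1) A) (hB : dOver V y n B) :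
    dOver V y (n + 1) c.pt := by
  haveI : (overEquiv V).functor.PreservesZeroMorphisms := inferInstance
  exact dP_kernel y _ _ (KernelFork.mapIsLimit c hc (overEquiv V).functor) n hn hA hB

theorem dP_mono {Y : Scheme.{u}} [IsLocallyNoetherian Y] (y : Y) {k l : ℕ} (h : k ≤ l)
    {N : Y.Modules} (hN : dP y l N) : dP y k N :=
  ⟨hN.1, le_trans (by exact_mod_cast h) hN.2⟩

/-- depth of the stalks of `ℋom(F, G)|_V` -/
theorem dP_restrict_sheafHom (F G : X.Modules) (hG : Coh.IsCoh G)
    (p : (SheafOfModules.over F V).Presentation) [p.IsFinite] (n : ℕ) (hn : n ≤ 1)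
    (hd : dP y (n + 1) ((restrictFunctor V.ι).obj G)) :
    dP y (n + 1) ((restrictFunctor V.ι).obj ((ModSite.sheafHom (O := X.sheaf) F).obj G)) := by
  haveI : Finite p.generators.I := inferInstanceAs (Finite p.generators.I)
  haveI : Finite p.relations.I := inferInstanceAs (Finite p.relations.I)
  have hN : dOver V y (n + 1) ((ModSite.restr X.sheaf V).obj G) :=
    (dP y (n + 1)).prop_of_iso ((overFunctorEquiv V).app G).symm hd
  have hN' : dOver V y n ((ModSite.restr X.sheaf V).obj G) := dP_mono y (Nat.le_succ n) hN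
  have h1 := prop_sheafHom_of_presentation₂ (dOver V y (n + 1)) (dOver V y n)
    (fun f c hc hA hB => dOver_kernel V y f c hc n hn hA hB) p
    ((ModSite.restr X.sheaf V).obj G) hN hN'
  have h2 : dOver V y (n + 1)
      ((ModSite.restr X.sheaf V).obj ((ModSite.sheafHom (O := X.sheaf) F).obj G)) :=
    (dOver V y (n + 1)).prop_of_iso
      ((Groth.Agent.Lib.ModSiteHomRestr.restrSheafHomIso X.sheaf V F).app G).symm h1
  exact (dP y (n + 1)).prop_of_iso ((overFunctorEquiv V).app _) h2

end Over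

section Final

open Groth.Agent.Lib.SheafHomPres97 Groth.Agent.Lib.SheafHomCoh97

variable {X : Scheme.{u}}

/-- the depth of a stalk of a restricted module -/
theorem depth_restrict_eq (V : X.Opens) (M : X.Modules) (y : (V : Scheme.{u})) :
    LocCoh.depth ((V : Scheme.{u}).presheaf.stalk y) ↑((M.restrict V.ι).presheaf.stalk y) =
      LocCoh.depth (X.presheaf.stalk (V.ι y)) ↑(M.presheaf.stalk (V.ι y)) :=
  Groth.Agent.Lib.H8LocTrans.depth_eq_of_ringEquiv
    (Groth.Agent.Lib.RestrictStalk.stalkRingEquiv V.ι y).symm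
    (Groth.Agent.Lib.RestrictStalk.restrictStalkAddEquiv V.ι M y)
    (Groth.Agent.Lib.RestrictStalk.restrictStalkAddEquiv_smul' V.ι M y)

/-- **depth of the stalks of the sheaf Hom** (ringed-site internal hom): for `n ≤ 1`,
`depth G_x ≥ n+1 ⇒ depth ℋom(F,G)_x ≥ n+1`. -/
theorem le_depth_stalk_sheafHom [IsLocallyNoetherian X] (F G : X.Modules) (hF : Coh.IsCoh F)
    (hG : Coh.IsCoh G) (x : X) (n : ℕ) (hn : n ≤ 1)
    (hd : ((n + 1 : ℕ) : ℕ∞) ≤ LocCoh.depth (X.presheaf.stalk x) ↑(G.presheaf.stalk x)) :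
    ((n + 1 : ℕ) : ℕ∞) ≤ LocCoh.depth (X.presheaf.stalk x)
      ↑((Scheme.Modules.presheaf (show X.Modules from (ModSite.sheafHom (O := X.sheaf) F).obj G)).stalk x) := by
  obtain ⟨V, hxV, p, hp⟩ := exists_presentation_over F (isFP_of_isCoh F hF) x
  have h := dP_restrict_sheafHom V (⟨x, hxV⟩ : (V : Scheme.{u})) F G hG p n hn
    ⟨Groth.Agent.Lib.H90CohRestrict.isCoh_restrict V.ι G hG, by
      rw [depth_restrict_eq V G ⟨x, hxV⟩]; exact hd⟩
  have h2 := h.2
  rw [depth_restrict_eq V _ ⟨x, hxV⟩] at h2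
  exact h2

end Final

end Groth.Agent.Lib.SheafHomDepth97
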