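/-
helper97: supports of the stalks of the sheaf Hom: `Supp ℋom(F,G)_x ⊆ Supp G_x` (via the local kernel
presentation), and property (S_k) for `ℋom(F,G)`, `k ≤ 2`.
-/
import Groth.Agent.Lib.SheafHomDepth97
import Mathlib.RingTheory.KrullDimension.Module

set_option autoImplicit false
set_option maxHeartbeats 400000
universe u
open CategoryTheory CategoryTheory.Limits AlgebraicGeometry Opposite TopologicalSpace ZeroObject
open AlgebraicGeometry.Scheme AlgebraicGeometry.Scheme.Modules

namespace Groth.Agent.Lib.SheafHomSupp97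

open Groth.Agent.Lib.ModStalkLin Groth.Agent.Lib.ModStalk Groth.Agent.Lib.H43CohProp
  Groth.Agent.Lib.SheafHomPres97 Groth.Agent.Lib.SheafHomCoh97 Groth.Agent.Lib.SheafHomDepth97

section Sheaf

variable {Y : Scheme.{u}} [IsLocallyNoetherian Y] (y : Y)
  (T : Set (PrimeSpectrum (Y.presheaf.stalk y)))

/-- coherent modules whose stalk at `y` has support inside `T` -/
def sP : ObjectProperty Y.Modules := fun N =>
  Coh.IsCoh N ∧ Module.support (Y.presheaf.stalk y) ↑(N.presheaf.stalk y) ⊆ T

instance : (sP y T).IsClosedUnderIsomorphisms where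
  of_iso e h := ⟨Groth.Agent.Lib.H90CohRestrict.isCoh_of_iso e h.1, by
    rw [← (stalkLinEquiv e y).support_eq]; exact h.2⟩

instance : (sP y T).ContainsZero where
  exists_zero := ⟨0, isZero_zero _, Groth.Agent.Lib.H90DevHub2.isCoh_of_isZero (isZero_zero _), by
    haveI := Groth.Agent.Lib.H90DevHub2.subsingleton_stalk_of_isZero
      (isZero_zero Y.Modules) y
    rw [Module.support_eq_empty]
    exact Set.empty_subset _⟩

theorem sP_biprod {A B : Y.Modules} (hA : sP y T A) (hB : sP y T B) : sP y T (A ⊞ B) := by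
  refine ⟨Groth.Agent.Lib.H90CohCenter.isCoh_biprod hA.1 hB.1, ?_⟩
  have hS := (ShortComplex.Splitting.ofHasBinaryBiproduct A B).shortExact
  obtain ⟨h1, h2, h3⟩ := stalkLin_exact hS y
  have := Module.support_of_exact h2 h1 h3
  change Module.support _ _ = _ at this
  rw [this]
  exact Set.union_subset hA.2 hB.2

instance : (sP y T).IsClosedUnderBinaryProducts where
  limitsOfShape_le := by
    rintro M ⟨p⟩
    have hA : sP y T (p.diag.obj ⟨WalkingPair.left⟩) := p.prop_diag_obj _
    have hB : sP y T (p.diag.obj ⟨WalkingPair.right⟩) := p.prop_diag_obj _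
    have h := sP_biprod y T hA hB
    let e1 : p.diag ≅ pair (p.diag.obj ⟨WalkingPair.left⟩) (p.diag.obj ⟨WalkingPair.right⟩) :=
      diagramIsoPair p.diag
    let c : Cone (pair (p.diag.obj ⟨WalkingPair.left⟩) (p.diag.obj ⟨WalkingPair.right⟩)) :=
      (Cone.postcompose e1.hom).obj ⟨M, p.π⟩
    have hc : IsLimit c := (IsLimit.postcomposeHomEquiv e1 _).symm p.isLimit
    have e : M ≅ (p.diag.obj ⟨WalkingPair.left⟩) ⊞ (p.diag.obj ⟨WalkingPair.right⟩) :=
      (IsLimit.conePointUniqueUpToIso hc (BinaryBiproduct.isLimit _ _))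
    exact (sP y T).prop_of_iso e.symm h

instance : (sP y T).IsClosedUnderFiniteProducts :=
  ObjectProperty.IsClosedUnderFiniteProducts.mk'

instance : (sP y T).IsClosedUnderKernels where
  kernels_le := by
    rintro _ ⟨f, c, hc, ⟨hA, hB⟩⟩
    have hcoh : Coh.IsCoh c.pt := (cohP Y).prop_of_isLimit_kernelFork hc hA.1 hB.1
    refine ⟨hcoh, ?_⟩
    haveI : Mono c.ι := Fork.IsLimit.mono hc
    exact (Module.support_subset_of_injective (stalkLin c.ι y)
      (stalkLin_injective_of_mono c.ι y)).trans hA.2

end Sheaf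

section Over

variable {X : Scheme.{u}} [IsLocallyNoetherian X] (V : X.Opens) (y : (V : Scheme.{u}))
  (T : Set (PrimeSpectrum ((V : Scheme.{u}).presheaf.stalk y)))

/-- the support property transported to the localized site -/
noncomputable def sOver : ObjectProperty (ModSite.Mod (X.sheaf.over V)) :=
  fun N => sP y T ((overEquiv V).functor.obj N)

instance : (sOver V y T).IsClosedUnderIsomorphisms where
  of_iso e h := (sP y T).prop_of_iso ((overEquiv V).functor.mapIso e) h

instance : (sOver V y T).IsClosedUnderFiniteProducts where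
  isClosedUnderLimitsOfShape J _ :=
    inferInstanceAs (((sP y T).inverseImage
      (overEquiv V).functor).IsClosedUnderLimitsOfShape (Discrete J))

instance : (sOver V y T).IsClosedUnderKernels where
  kernels_le := by
    rintro _ ⟨f, k, hk, ⟨hM, hN⟩⟩
    haveI : (overEquiv V).functor.PreservesZeroMorphisms := inferInstance
    exact (sP y T).prop_of_isLimit_kernelFork
      (KernelFork.mapIsLimit k hk (overEquiv V).functor) hM hN

theorem sP_restrict_sheafHom (F G : X.Modules) (hG : Coh.IsCoh G)
    (p : (SheafOfModules.over F V).Presentation) [p.IsFinite]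
    (hd : sP y T ((restrictFunctor V.ι).obj G)) :
    sP y T ((restrictFunctor V.ι).obj ((ModSite.sheafHom (O := X.sheaf) F).obj G)) := by
  haveI : Finite p.generators.I := inferInstanceAs (Finite p.generators.I)
  haveI : Finite p.relations.I := inferInstanceAs (Finite p.relations.I)
  have hN : sOver V y T ((ModSite.restr X.sheaf V).obj G) :=
    (sP y T).prop_of_iso ((overFunctorEquiv V).app G).symm hd
  have h1 := prop_sheafHom_of_presentation (sOver V y T) p
    ((ModSite.restr X.sheaf V).obj G) hN
  have h2 : sOver V y T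
      ((ModSite.restr X.sheaf V).obj ((ModSite.sheafHom (O := X.sheaf) F).obj G)) :=
    (sOver V y T).prop_of_iso
      ((Groth.Agent.Lib.ModSiteHomRestr.restrSheafHomIso X.sheaf V F).app G).symm h1
  exact (sP y T).prop_of_iso ((overFunctorEquiv V).app _) h2

end Over

section Final

variable {X : Scheme.{u}}

/-- the support dimension of a stalk of a restricted module -/
theorem supportDim_restrict_eq (V : X.Opens) (M : X.Modules) (y : (V : Scheme.{u})) :
    Module.supportDim ((V : Scheme.{u}).presheaf.stalk y) ↑((M.restrict V.ι).presheaf.stalk y) =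
      Module.supportDim (X.presheaf.stalk (V.ι y)) ↑(M.presheaf.stalk (V.ι y)) :=
  Groth.Agent.Lib.H8LocTrans.supportDim_eq_of_ringEquiv
    (Groth.Agent.Lib.RestrictStalk.stalkRingEquiv V.ι y).symm
    (Groth.Agent.Lib.RestrictStalk.restrictStalkAddEquiv V.ι M y)
    (Groth.Agent.Lib.RestrictStalk.restrictStalkAddEquiv_smul' V.ι M y)

/-- `dim Supp ℋom(F,G)_x ≤ dim Supp G_x` -/
theorem supportDim_stalk_sheafHom_le [IsLocallyNoetherian X] (F G : X.Modules) (hF : Coh.IsCoh F)
    (hG : Coh.IsCoh G) (x : X) :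
    Module.supportDim (X.presheaf.stalk x)
      ↑((Scheme.Modules.presheaf
        (show X.Modules from (ModSite.sheafHom (O := X.sheaf) F).obj G)).stalk x) ≤
      Module.supportDim (X.presheaf.stalk x) ↑(G.presheaf.stalk x) := by
  obtain ⟨V, hxV, p, hp⟩ := exists_presentation_over F (isFP_of_isCoh F hF) x
  have h := sP_restrict_sheafHom V (⟨x, hxV⟩ : (V : Scheme.{u}))
    (Module.support _ ↑((G.restrict V.ι).presheaf.stalk (⟨x, hxV⟩ : (V : Scheme.{u})))) F G hG p
    ⟨Groth.Agent.Lib.H90CohRestrict.isCoh_restrict V.ι G hG, subset_rfl⟩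
  have h2 : Module.supportDim _ _ ≤ Module.supportDim _ _ :=
    Order.krullDim_le_of_strictMono (fun a => ⟨a.1, h.2 a.2⟩) (fun {_ _} lt => lt)
  rw [supportDim_restrict_eq V _ ⟨x, hxV⟩, supportDim_restrict_eq V _ ⟨x, hxV⟩] at h2
  exact h2

end Final

end Groth.Agent.Lib.SheafHomSupp97
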