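import Mathlib

/-!
# `u_!` of a representable sheaf is representable

For a continuous functor `u : C ⥤ C'` between small subcanonical sites, the sheaf pullback
`u.sheafPullback (Type u) J K` (left adjoint `u_!` of restriction along `u`) sends the
representable sheaf `J.yoneda.obj X` to `K.yoneda.obj (u.obj X)`, naturally in `X`.
Consequently, if `u_!` is fully faithful then so is `u`.
-/

set_option autoImplicit false

open CategoryTheory Opposite

universe u

namespace Groth.Agent.Lib.SheafPullbackYoneda

variable {C : Type u} [SmallCategory C] {C' : Type u} [SmallCategory C'] (u : C ⥤ C')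
  (J : GrothendieckTopology C) (K : GrothendieckTopology C') [J.Subcanonical]
    [u.IsContinuous J K]

/-- Morphisms `u_! (y X) ⟶ F` correspond to elements of `F (u X)`. -/
noncomputable def homEquiv (X : C) (F : Sheaf K (Type u)) :
    ((u.sheafPullback (Type u) J K).obj (J.yoneda.obj X) ⟶ F) ≃ F.obj.obj (op (u.obj X)) :=
  ((u.sheafAdjunctionContinuous (Type u) J K).homEquiv (J.yoneda.obj X) F).trans
    (J.yonedaEquiv (F := (u.sheafPushforwardContinuous (Type u) J K).obj F))

lemma homEquiv_comp (X : C) {F G : Sheaf K (Type u)}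
    (g : (u.sheafPullback (Type u) J K).obj (J.yoneda.obj X) ⟶ F) (β : F ⟶ G) :
    homEquiv u J K X G (g ≫ β) = β.hom.app _ (homEquiv u J K X F g) := by
  simp only [homEquiv, Equiv.trans_apply, Adjunction.homEquiv_naturality_right]
  exact J.yonedaEquiv_comp _ _

lemma homEquiv_naturality {X Y : C} (f : X ⟶ Y) {F : Sheaf K (Type u)}
    (g : (u.sheafPullback (Type u) J K).obj (J.yoneda.obj Y) ⟶ F) :
    homEquiv u J K X F ((u.sheafPullback (Type u) J K).map (J.yoneda.map f) ≫ g) =
      F.obj.map (u.map f).op (homEquiv u J K Y F g) := by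
  simp only [homEquiv, Equiv.trans_apply, Adjunction.homEquiv_naturality_left]
  exact (J.yonedaEquiv_naturality _ _).symm

variable [K.Subcanonical]

/-- `u_! (y X) ≅ y (u X)`. -/
noncomputable def objIso (X : C) :
    (u.sheafPullback (Type u) J K).obj (J.yoneda.obj X) ≅ K.yoneda.obj (u.obj X) where
  hom := (homEquiv u J K X _).symm (𝟙 (u.obj X))
  inv := K.yonedaEquiv.symm (homEquiv u J K X _ (𝟙 _))
  hom_inv_id := by
    apply (homEquiv u J K X _).injective
    rw [homEquiv_comp, Equiv.apply_symm_apply]
    exact (K.yonedaEquiv_apply _).symm.trans (K.yonedaEquiv.apply_symm_apply _)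
  inv_hom_id := by
    apply K.yonedaEquiv.injective
    rw [K.yonedaEquiv_comp, Equiv.apply_symm_apply, ← homEquiv_comp, Category.id_comp,
      Equiv.apply_symm_apply]
    rfl

lemma objIso_naturality {X Y : C} (f : X ⟶ Y) :
    (u.sheafPullback (Type u) J K).map (J.yoneda.map f) ≫ (objIso u J K Y).hom =
      (objIso u J K X).hom ≫ K.yoneda.map (u.map f) := by
  apply (homEquiv u J K X _).injective
  rw [homEquiv_naturality, homEquiv_comp]
  simp only [objIso, Equiv.apply_symm_apply]
  change u.map f ≫ 𝟙 _ = 𝟙 _ ≫ u.map f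
  simp

/-- The natural isomorphism `u_! ∘ y ≅ y ∘ u`. -/
noncomputable def yonedaCompSheafPullbackIso :
    J.yoneda ⋙ u.sheafPullback (Type u) J K ≅ u ⋙ K.yoneda :=
  NatIso.ofComponents (fun X => objIso u J K X) (fun f => objIso_naturality u J K f)

/-- If `u_!` is fully faithful (for subcanonical topologies), then `u` is fully faithful. -/
theorem full_faithful_of_sheafPullback
    (h : (u.sheafPullback (Type u) J K).Full ∧ (u.sheafPullback (Type u) J K).Faithful) :
    u.Full ∧ u.Faithful := by
  obtain ⟨h1, h2⟩ := h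
  have hF : (u ⋙ K.yoneda).Full := Functor.Full.of_iso (yonedaCompSheafPullbackIso u J K)
  have hG : (u ⋙ K.yoneda).Faithful := Functor.Faithful.of_iso (yonedaCompSheafPullbackIso u J K)
  exact ⟨Functor.Full.of_comp_faithful u K.yoneda, Functor.Faithful.of_comp u K.yoneda⟩

end Groth.Agent.Lib.SheafPullbackYoneda
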