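import Mathlib

/-!
# Squares of schemes that are pushouts of ringed spaces (helper24)

If a commutative square of schemes becomes a pushout square in the category of sheafed spaces of
commutative rings, then it is jointly surjective and it is a pushout square of schemes.
-/

set_option autoImplicit false
universe u

namespace Groth.Agent.Lib.SheafedPushout24

open CategoryTheory CategoryTheory.Limits AlgebraicGeometry

/-- the forgetful functor from schemes to sheafed spaces -/
abbrev Φ : Scheme.{u} ⥤ SheafedSpace CommRingCat.{u} :=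
  Scheme.forgetToLocallyRingedSpace ⋙ LocallyRingedSpace.forgetToSheafedSpace

variable {Z X Y P : Scheme.{u}} {i : Z ⟶ X} {j : Z ⟶ Y} {a : X ⟶ P} {b : Y ⟶ P}

theorem jointly_surjective
    (hpo : IsPushout (Φ.map i) (Φ.map j) (Φ.map a) (Φ.map b)) (t : P) :
    t ∈ Set.range a ∨ t ∈ Set.range b := by
  have htop := hpo.map (SheafedSpace.forget CommRingCat.{u})
  obtain ⟨k, y, hy⟩ := Concrete.isColimit_exists_rep _ htop.isColimit t
  rcases k with _ | _ | _
  · left
    exact ⟨i y, hy⟩
  · left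
    exact ⟨y, hy⟩
  · right
    exact ⟨y, hy⟩

theorem isLocalHom_stalkMap_of_eq {A B : Scheme.{u}} (s : A ⟶ B) (m : Φ.obj A ⟶ Φ.obj B)
    (h : Φ.map s = m) (x : A) : IsLocalHom (m.hom.stalkMap x).hom := by
  subst h
  exact s.toLRSHom.prop x

/-- A square of schemes that is a pushout of sheafed spaces is a pushout of schemes. -/
theorem isPushout_of_sheafedSpace
    (hpo : IsPushout (Φ.map i) (Φ.map j) (Φ.map a) (Φ.map b)) : IsPushout i j a b := by
  have w : i ≫ a = j ≫ b := by
    apply Φ.map_injective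
    rw [Φ.map_comp, Φ.map_comp]
    exact hpo.w
  have key : ∀ {T : Scheme.{u}} (s : X ⟶ T) (r : Y ⟶ T), i ≫ s = j ≫ r →
      ∃ κ : P ⟶ T, a ≫ κ = s ∧ b ≫ κ = r := by
    intro T s r h
    have hc : Φ.map i ≫ Φ.map s = Φ.map j ≫ Φ.map r := by
      rw [← Φ.map_comp, ← Φ.map_comp, h]
    have hd1 : Φ.map a ≫ hpo.desc (Φ.map s) (Φ.map r) hc = Φ.map s := hpo.inl_desc _ _ _
    have hd2 : Φ.map b ≫ hpo.desc (Φ.map s) (Φ.map r) hc = Φ.map r := hpo.inr_desc _ _ _
    have hloc : ∀ x : P, IsLocalHom ((hpo.desc (Φ.map s) (Φ.map r) hc).hom.stalkMap x).hom := by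
      intro x
      rcases jointly_surjective hpo x with ⟨x₀, rfl⟩ | ⟨y₀, rfl⟩
      · have h1 := isLocalHom_stalkMap_of_eq s _ hd1.symm x₀
        have h2 : ((Φ.map a ≫ hpo.desc (Φ.map s) (Φ.map r) hc).hom.stalkMap x₀).hom =
            (((Φ.map a).hom.stalkMap x₀).hom).comp
              (((hpo.desc (Φ.map s) (Φ.map r) hc).hom.stalkMap (a x₀)).hom) := by
          have := PresheafedSpace.stalkMap.comp (Φ.map a).hom
            (hpo.desc (Φ.map s) (Φ.map r) hc).hom x₀
          exact congrArg CommRingCat.Hom.hom this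
        rw [h2] at h1
        exact @isLocalHom_of_comp _ _ _ _ _ _ _ _ h1
      · have h1 := isLocalHom_stalkMap_of_eq r _ hd2.symm y₀
        have h2 : ((Φ.map b ≫ hpo.desc (Φ.map s) (Φ.map r) hc).hom.stalkMap y₀).hom =
            (((Φ.map b).hom.stalkMap y₀).hom).comp
              (((hpo.desc (Φ.map s) (Φ.map r) hc).hom.stalkMap (b y₀)).hom) := by
          have := PresheafedSpace.stalkMap.comp (Φ.map b).hom
            (hpo.desc (Φ.map s) (Φ.map r) hc).hom y₀
          exact congrArg CommRingCat.Hom.hom this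
        rw [h2] at h1
        exact @isLocalHom_of_comp _ _ _ _ _ _ _ _ h1
    let κ : P ⟶ T := ⟨⟨(hpo.desc (Φ.map s) (Φ.map r) hc).hom, hloc⟩⟩
    have hκ : Φ.map κ = hpo.desc (Φ.map s) (Φ.map r) hc := rfl
    refine ⟨κ, ?_, ?_⟩
    · apply Φ.map_injective
      rw [Φ.map_comp, hκ, hd1]
    · apply Φ.map_injective
      rw [Φ.map_comp, hκ, hd2]
  have huniq : ∀ {T : Scheme.{u}} (m m' : P ⟶ T), a ≫ m = a ≫ m' → b ≫ m = b ≫ m' →
      m = m' := by
    intro T m m' h₁ h₂
    apply Φ.map_injective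
    apply hpo.hom_ext
    · rw [← Φ.map_comp, ← Φ.map_comp, h₁]
    · rw [← Φ.map_comp, ← Φ.map_comp, h₂]
  refine ⟨⟨w⟩, ⟨PushoutCocone.IsColimit.mk _
    (fun s => (key s.inl s.inr s.condition).choose)
    (fun s => (key s.inl s.inr s.condition).choose_spec.1)
    (fun s => (key s.inl s.inr s.condition).choose_spec.2) ?_⟩⟩
  intro s m hm₁ hm₂
  apply huniq
  · rw [hm₁, (key s.inl s.inr s.condition).choose_spec.1]
  · rw [hm₂, (key s.inl s.inr s.condition).choose_spec.2]

end Groth.Agent.Lib.SheafedPushout24
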