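import Mathlib
import Groth.Agent.Lib.SheafedPushout24
import Groth.Agent.Lib.RingFibreSq24

/-!
# Pushouts of schemes that are pushouts of ringed spaces (helper24)

`isPushout_sheafedSpace_of_sections`: a commutative square of schemes which is a pushout on the
level of sets, of topologies and of sections over every open is a pushout of sheafed spaces.
-/

set_option autoImplicit false
universe u

namespace Groth.Agent.Lib.SheafedPushout24

open CategoryTheory CategoryTheory.Limits AlgebraicGeometry TopologicalSpace Opposite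
open Groth.Agent.Lib.RingFibreSq24

section Ring

variable {A A' B C R : Type*} [CommRing A] [CommRing A'] [CommRing B] [CommRing C] [CommRing R]
  {π₁ : C →+* B} {π₂ : C →+* A'} {q : B →+* A} {p : A' →+* A}

/-- maps into a fibre square -/
theorem exists_ringHom_of_isFibreSq (sq : IsFibreSq π₁ π₂ q p) (u₁ : R →+* B) (u₂ : R →+* A')
    (h : ∀ r, q (u₁ r) = p (u₂ r)) : ∃ u : R →+* C, π₁.comp u = u₁ ∧ π₂.comp u = u₂ := by
  choose v hv₁ hv₂ using fun r => sq.surj (u₁ r) (u₂ r) (h r)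
  refine ⟨{ toFun := v, map_one' := ?_, map_mul' := ?_, map_zero' := ?_, map_add' := ?_ }, ?_, ?_⟩
  · apply sq.ext
    · rw [hv₁, map_one, map_one]
    · rw [hv₂, map_one, map_one]
  · intro x y
    apply sq.ext
    · rw [hv₁, map_mul, map_mul, hv₁, hv₁]
    · rw [hv₂, map_mul, map_mul, hv₂, hv₂]
  · apply sq.ext
    · rw [hv₁, map_zero, map_zero]
    · rw [hv₂, map_zero, map_zero]
  · intro x y
    apply sq.ext
    · rw [hv₁, map_add, map_add, hv₁, hv₁]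
    · rw [hv₂, map_add, map_add, hv₂, hv₂]
  · ext r
    exact hv₁ r
  · ext r
    exact hv₂ r

end Ring

section Top

variable {X Y Z P : Type*} [TopologicalSpace X] [TopologicalSpace Y]
  [TopologicalSpace P] {W : Type*} [TopologicalSpace W]
  {i : Z → X} {j : Z → Y} {a : X → P} {b : Y → P}

/-- descent of a pair of continuous maps to the set-theoretic and topological pushout -/
theorem exists_continuous_desc
    (hsurj : ∀ t : P, t ∈ Set.range a ∨ t ∈ Set.range b)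
    (hb : Function.Injective b)
    (hab : ∀ x y, a x = b y → ∃ z, i z = x ∧ j z = y)
    (ha : ∀ x x', a x = a x' → x = x' ∨ a x ∈ Set.range b)
    (hopens : ∀ (G : Set X) (H : Set Y), IsOpen G → IsOpen H → i ⁻¹' G = j ⁻¹' H →
      ∃ O : Set P, IsOpen O ∧ a ⁻¹' O = G ∧ b ⁻¹' O = H)
    (s₀ : X → W) (r₀ : Y → W) (hs₀ : Continuous s₀) (hr₀ : Continuous r₀)
    (hsr : ∀ z, s₀ (i z) = r₀ (j z)) :
    ∃ κ₀ : P → W, Continuous κ₀ ∧ (∀ x, κ₀ (a x) = s₀ x) ∧ (∀ y, κ₀ (b y) = r₀ y) := by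
  classical
  let κ₀ : P → W := fun t =>
    if ht : t ∈ Set.range b then r₀ ht.choose else s₀ ((hsurj t).resolve_right ht).choose
  have κb : ∀ y, κ₀ (b y) = r₀ y := by
    intro y
    have hy : b y ∈ Set.range b := ⟨y, rfl⟩
    show (if ht : b y ∈ Set.range b then r₀ ht.choose
      else s₀ ((hsurj (b y)).resolve_right ht).choose) = r₀ y
    rw [dif_pos hy]
    congr 1
    exact hb hy.choose_spec
  have κa : ∀ x, κ₀ (a x) = s₀ x := by
    intro x
    by_cases hx : a x ∈ Set.range b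
    · obtain ⟨y, hy⟩ := hx
      obtain ⟨z, hz1, hz2⟩ := hab x y hy.symm
      rw [← hy, κb, ← hz1, ← hz2]
      exact (hsr z).symm
    · show (if ht : a x ∈ Set.range b then r₀ ht.choose
        else s₀ ((hsurj (a x)).resolve_right ht).choose) = s₀ x
      rw [dif_neg hx]
      have hc := ((hsurj (a x)).resolve_right hx).choose_spec
      rcases ha _ _ hc with h | h
      · rw [h]
      · rw [hc] at h
        exact absurd h hx
  refine ⟨κ₀, ?_, κa, κb⟩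
  rw [continuous_def]
  intro V hV
  obtain ⟨O, hO, hOa, hOb⟩ := hopens (s₀ ⁻¹' V) (r₀ ⁻¹' V) (hV.preimage hs₀) (hV.preimage hr₀) (by
    ext z
    simp only [Set.mem_preimage]
    rw [hsr])
  have : κ₀ ⁻¹' V = O := by
    ext t
    rcases hsurj t with ⟨x, rfl⟩ | ⟨y, rfl⟩
    · have h1 : a x ∈ O ↔ x ∈ s₀ ⁻¹' V := by rw [← hOa]; rfl
      rw [h1]
      simp only [Set.mem_preimage]
      rw [κa]
    · have h1 : b y ∈ O ↔ y ∈ r₀ ⁻¹' V := by rw [← hOb]; rfl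
      rw [h1]
      simp only [Set.mem_preimage]
      rw [κb]
  rw [this]
  exact hO

end Top


section Main

variable {X Y Z P : Scheme.{u}} {i : Z ⟶ X} {j : Z ⟶ Y} {a : X ⟶ P} {b : Y ⟶ P}

theorem presheaf_map_congr {T : TopCat.{u}} (F : TopCat.Presheaf CommRingCat.{u} T)
    {U V : (Opens T)ᵒᵖ} (f g : U ⟶ V) : F.map f = F.map g := by
  rw [Subsingleton.elim f g]

theorem presheaf_map_endo {T : TopCat.{u}} (F : TopCat.Presheaf CommRingCat.{u} T)
    {U : (Opens T)ᵒᵖ} (f : U ⟶ U) : F.map f = 𝟙 _ := by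
  rw [Subsingleton.elim f (𝟙 U), F.map_id]

/-- **Uniqueness**: jointly surjective + jointly injective on sections implies jointly epi in
sheafed spaces. -/
theorem sheafedSpace_hom_ext
    (hsurj : ∀ t : P, t ∈ Set.range a ∨ t ∈ Set.range b)
    (hmono : ∀ (U : P.Opens) {R : CommRingCat.{u}} (m₁ m₂ : R ⟶ Γ(P, U)),
      m₁ ≫ a.app U = m₂ ≫ a.app U → m₁ ≫ b.app U = m₂ ≫ b.app U → m₁ = m₂)
    {W : SheafedSpace CommRingCat.{u}} (κ κ' : Φ.obj P ⟶ W)
    (h₁ : Φ.map a ≫ κ = Φ.map a ≫ κ') (h₂ : Φ.map b ≫ κ = Φ.map b ≫ κ') : κ = κ' := by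
  have hbase : κ.hom.base = κ'.hom.base := by
    ext t
    rcases hsurj t with ⟨x, rfl⟩ | ⟨y, rfl⟩
    · exact congr($(h₁).hom.base x)
    · exact congr($(h₂).hom.base y)
  obtain ⟨⟨kb, kc⟩⟩ := κ
  obtain ⟨⟨kb', kc'⟩⟩ := κ'
  change kb = kb' at hbase
  subst hbase
  have hc : kc = kc' := by
    apply NatTrans.ext
    funext V
    obtain ⟨V⟩ := V
    apply hmono ((Opens.map kb).obj V)
    · have e := SheafedSpace.congr_hom_app h₁ (op V)
      erw [presheaf_map_endo X.presheaf, Category.comp_id] at e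
      exact e
    · have e := SheafedSpace.congr_hom_app h₂ (op V)
      erw [presheaf_map_endo Y.presheaf, Category.comp_id] at e
      exact e
  rw [hc]

theorem preimage_le_of_w (w : i ≫ a = j ≫ b) (U : P.Opens) :
    i ⁻¹ᵁ a ⁻¹ᵁ U ≤ j ⁻¹ᵁ b ⁻¹ᵁ U := by
  change (i ≫ a) ⁻¹ᵁ U ≤ (j ≫ b) ⁻¹ᵁ U
  rw [w]

/-- joint monomorphy of the two restriction maps of a fibre square -/
theorem hmono_of_hsq (w : i ≫ a = j ≫ b)
    (hsq : ∀ (U : P.Opens) (h : i ⁻¹ᵁ a ⁻¹ᵁ U ≤ j ⁻¹ᵁ b ⁻¹ᵁ U),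
      IsFibreSq (b.app U).hom (a.app U).hom (j.appLE (b ⁻¹ᵁ U) (i ⁻¹ᵁ a ⁻¹ᵁ U) h).hom
        (i.app (a ⁻¹ᵁ U)).hom)
    (U : P.Opens) {R : CommRingCat.{u}} (m₁ m₂ : R ⟶ Γ(P, U))
    (h₁ : m₁ ≫ a.app U = m₂ ≫ a.app U) (h₂ : m₁ ≫ b.app U = m₂ ≫ b.app U) : m₁ = m₂ := by
  ext r
  exact (hsq U (preimage_le_of_w w U)).ext congr($(h₂).hom r) congr($(h₁).hom r)

theorem hom_mk_congr {A W : SheafedSpace CommRingCat.{u}} (kb : (A : TopCat.{u}) ⟶ W)
    (kc kc' : W.presheaf ⟶ kb _* A.presheaf)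
    (h : ∀ V : Opens W, kc.app (op V) = kc'.app (op V)) :
    (⟨⟨kb, kc⟩⟩ : A ⟶ W) = ⟨⟨kb, kc'⟩⟩ := by
  have : kc = kc' := by
    apply NatTrans.ext
    funext V
    obtain ⟨V⟩ := V
    exact h V
  rw [this]

/-- existence of the structure-sheaf part of the descended morphism -/
theorem exists_desc_aux (w : i ≫ a = j ≫ b)
    (hsq : ∀ (U : P.Opens) (h : i ⁻¹ᵁ a ⁻¹ᵁ U ≤ j ⁻¹ᵁ b ⁻¹ᵁ U),
      IsFibreSq (b.app U).hom (a.app U).hom (j.appLE (b ⁻¹ᵁ U) (i ⁻¹ᵁ a ⁻¹ᵁ U) h).hom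
        (i.app (a ⁻¹ᵁ U)).hom)
    {W : SheafedSpace CommRingCat.{u}} (κb : ((Φ.obj P : SheafedSpace CommRingCat.{u}) : TopCat.{u}) ⟶ W)
    (sc : W.presheaf ⟶ ((Φ.map a).hom.base ≫ κb) _* (Φ.obj X).presheaf)
    (rc : W.presheaf ⟶ ((Φ.map b).hom.base ≫ κb) _* (Φ.obj Y).presheaf)
    (hc : Φ.map i ≫ (⟨⟨(Φ.map a).hom.base ≫ κb, sc⟩⟩ : Φ.obj X ⟶ W) =
      Φ.map j ≫ (⟨⟨(Φ.map b).hom.base ≫ κb, rc⟩⟩ : Φ.obj Y ⟶ W)) :
    ∃ κc : W.presheaf ⟶ κb _* (Φ.obj P).presheaf,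
      Φ.map a ≫ (⟨⟨κb, κc⟩⟩ : Φ.obj P ⟶ W) = ⟨⟨(Φ.map a).hom.base ≫ κb, sc⟩⟩ ∧
      Φ.map b ≫ (⟨⟨κb, κc⟩⟩ : Φ.obj P ⟶ W) = ⟨⟨(Φ.map b).hom.base ≫ κb, rc⟩⟩ := by
  have H : ∀ V : Opens W, ∃ u : W.presheaf.obj (op V) ⟶ Γ(P, (Opens.map κb).obj V),
      u ≫ a.app ((Opens.map κb).obj V) = sc.app (op V) ∧
      u ≫ b.app ((Opens.map κb).obj V) = rc.app (op V) := by
    intro V
    have e := SheafedSpace.congr_hom_app hc (op V)
    obtain ⟨u, hu₁, hu₂⟩ := exists_ringHom_of_isFibreSq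
      (hsq ((Opens.map κb).obj V) (preimage_le_of_w w _)) (rc.app (op V)).hom (sc.app (op V)).hom (by
        intro f
        exact (congr($(e).hom f)).symm)
    refine ⟨CommRingCat.ofHom u, ?_, ?_⟩
    · ext f
      exact congr($hu₂ f)
    · ext f
      exact congr($hu₁ f)
  choose u hu₁ hu₂ using H
  let κc : W.presheaf ⟶ κb _* (Φ.obj P).presheaf :=
    { app := fun V => u V.unop
      naturality := by
        intro V₁ V₂ f
        ext x
        refine (hsq ((Opens.map κb).obj V₂.unop) (preimage_le_of_w w _)).ext ?_ ?_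
        · have h1 := congr($(hu₂ V₂.unop) ((W.presheaf.map f).hom x))
          have h2 := congr($(rc.naturality f) x)
          have h3 := congr($(hu₂ V₁.unop) x)
          have h4 := congr($(b.naturality ((Opens.map κb).op.map f)) ((u V₁.unop).hom x))
          exact h1.trans (h2.trans ((congrArg _ h3.symm).trans h4.symm))
        · have h1 := congr($(hu₁ V₂.unop) ((W.presheaf.map f).hom x))
          have h2 := congr($(sc.naturality f) x)
          have h3 := congr($(hu₁ V₁.unop) x)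
          have h4 := congr($(a.naturality ((Opens.map κb).op.map f)) ((u V₁.unop).hom x))
          exact h1.trans (h2.trans ((congrArg _ h3.symm).trans h4.symm)) }
  refine ⟨κc, ?_, ?_⟩
  · exact hom_mk_congr ((Φ.map a).hom.base ≫ κb) _ sc (fun V => hu₁ V)
  · exact hom_mk_congr ((Φ.map b).hom.base ≫ κb) _ rc (fun V => hu₂ V)

/-- **Pushouts of ringed spaces from pointwise data.** A commutative square of schemes which is a
pushout of sets, of topological spaces, and of sections over every open of the corner is a pushout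
square of sheafed spaces. -/
theorem isPushout_sheafedSpace_of_sections (w : i ≫ a = j ≫ b)
    (hsurj : ∀ t : P, t ∈ Set.range a ∨ t ∈ Set.range b)
    (hb : Function.Injective b)
    (hab : ∀ (x : X) (y : Y), a x = b y → ∃ z, i z = x ∧ j z = y)
    (ha : ∀ x x' : X, a x = a x' → x = x' ∨ a x ∈ Set.range b)
    (hopens : ∀ (G : X.Opens) (H : Y.Opens), i ⁻¹ᵁ G = j ⁻¹ᵁ H →
      ∃ O : P.Opens, a ⁻¹ᵁ O = G ∧ b ⁻¹ᵁ O = H)
    (hsq : ∀ (U : P.Opens) (h : i ⁻¹ᵁ a ⁻¹ᵁ U ≤ j ⁻¹ᵁ b ⁻¹ᵁ U),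
      IsFibreSq (b.app U).hom (a.app U).hom (j.appLE (b ⁻¹ᵁ U) (i ⁻¹ᵁ a ⁻¹ᵁ U) h).hom
        (i.app (a ⁻¹ᵁ U)).hom) :
    IsPushout (Φ.map i) (Φ.map j) (Φ.map a) (Φ.map b) := by
  have hopens' : ∀ (G : Set X) (H : Set Y), IsOpen G → IsOpen H → i ⁻¹' G = j ⁻¹' H →
      ∃ O : Set P, IsOpen O ∧ a ⁻¹' O = G ∧ b ⁻¹' O = H := by
    intro G H hG hH hGH
    obtain ⟨O, hOa, hOb⟩ := hopens ⟨G, hG⟩ ⟨H, hH⟩ (Opens.ext hGH)
    exact ⟨O.1, O.2, congrArg (fun U : X.Opens => (U : Set X)) hOa,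
      congrArg (fun U : Y.Opens => (U : Set Y)) hOb⟩
  have key : ∀ {W : SheafedSpace CommRingCat.{u}} (s : Φ.obj X ⟶ W) (r : Φ.obj Y ⟶ W),
      Φ.map i ≫ s = Φ.map j ≫ r → ∃ κ : Φ.obj P ⟶ W, Φ.map a ≫ κ = s ∧ Φ.map b ≫ κ = r := by
    intro W s r hc
    obtain ⟨⟨sb, sc⟩⟩ := s
    obtain ⟨⟨rb, rc⟩⟩ := r
    obtain ⟨κ₀, hκ₀, hκa, hκb⟩ := exists_continuous_desc (i := i) (j := j) (a := a) (b := b)
      hsurj hb hab ha hopens' sb rb sb.hom.continuous rb.hom.continuous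
      (fun z => congr($(hc).hom.base z))
    have e1 : (Φ.map a).hom.base ≫ TopCat.ofHom ⟨κ₀, hκ₀⟩ = sb := by
      ext x
      exact hκa x
    have e2 : (Φ.map b).hom.base ≫ TopCat.ofHom ⟨κ₀, hκ₀⟩ = rb := by
      ext y
      exact hκb y
    clear hκa hκb
    subst e1
    subst e2
    obtain ⟨κc, h1, h2⟩ := exists_desc_aux w hsq (TopCat.ofHom ⟨κ₀, hκ₀⟩) sc rc hc
    exact ⟨⟨⟨TopCat.ofHom ⟨κ₀, hκ₀⟩, κc⟩⟩, h1, h2⟩
  refine ⟨⟨by rw [← Φ.map_comp, ← Φ.map_comp, w]⟩, ⟨PushoutCocone.IsColimit.mk _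
    (fun s => (key s.inl s.inr s.condition).choose)
    (fun s => (key s.inl s.inr s.condition).choose_spec.1)
    (fun s => (key s.inl s.inr s.condition).choose_spec.2) ?_⟩⟩
  intro s m hm₁ hm₂
  apply sheafedSpace_hom_ext hsurj (hmono_of_hsq w hsq)
  · rw [hm₁, (key s.inl s.inr s.condition).choose_spec.1]
  · rw [hm₂, (key s.inl s.inr s.condition).choose_spec.2]

end Main

end Groth.Agent.Lib.SheafedPushout24
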