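import Mathlib
import Groth.Agent.Lib.SheafedPushout24b
import Groth.Agent.Lib.Ferrand24s

/-!
# Ferrand pushouts of schemes are pushouts of ringed spaces (helper24)

* `Good.isFibreSq_of_open` : for a good square the sections over *every* open of the corner form a
  fibre square of rings.
* `isPushout_sheafedSpace_of_ferrand` : a pushout square of schemes `Z → X → P`, `Z → T → P` with
  `Z → X` a closed immersion and `X → P`, `T → P` affine is a pushout square of sheafed spaces.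
-/

set_option autoImplicit false
universe u

namespace Groth.Agent.Lib.SheafedPushout24

open CategoryTheory CategoryTheory.Limits AlgebraicGeometry TopologicalSpace Opposite
open Groth.Agent.Lib.RingFibreSq24 Groth.Agent.Lib.Ferrand24

section Helpers

theorem app_res {A B : Scheme.{u}} (f : A ⟶ B) {V' V : B.Opens} (hV : V' ≤ V) (s : Γ(B, V)) :
    (f.app V').hom ((B.presheaf.map (homOfLE hV).op).hom s) =
      (A.presheaf.map (homOfLE (f.preimage_mono hV)).op).hom ((f.app V).hom s) :=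
  congr($(f.naturality (homOfLE hV).op) s)

theorem appLE_res_left {A B : Scheme.{u}} (f : A ⟶ B) {V' V : B.Opens} (hV : V' ≤ V)
    (W : A.Opens) (e : W ≤ f ⁻¹ᵁ V') (s : Γ(B, V)) :
    (f.appLE V' W e).hom ((B.presheaf.map (homOfLE hV).op).hom s) =
      (f.appLE V W (e.trans (f.preimage_mono hV))).hom s := by
  rw [← CommRingCat.comp_apply, Scheme.Hom.map_appLE]

theorem appLE_res_right {A B : Scheme.{u}} (f : A ⟶ B) {V : B.Opens} {W' W : A.Opens}
    (hW : W' ≤ W) (e : W ≤ f ⁻¹ᵁ V) (s : Γ(B, V)) :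
    (A.presheaf.map (homOfLE hW).op).hom ((f.appLE V W e).hom s) =
      (f.appLE V W' (hW.trans e)).hom s := by
  rw [← CommRingCat.comp_apply, Scheme.Hom.appLE_map]

theorem res_res {A : Scheme.{u}} {W'' W' W : A.Opens} (h' : W'' ≤ W') (h : W' ≤ W) (s : Γ(A, W)) :
    (A.presheaf.map (homOfLE h').op).hom ((A.presheaf.map (homOfLE h).op).hom s) =
      (A.presheaf.map (homOfLE (h'.trans h)).op).hom s := by
  rw [← CommRingCat.comp_apply, ← Functor.map_comp]
  rfl

end Helpers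

variable {X Y Z P : Scheme.{u}} {i : Z ⟶ X} {j : Z ⟶ Y} {a : X ⟶ P} {b : Y ⟶ P}
  {𝓑 : Set P.Opens}

/-- The members of `𝓑` form a basis of the corner of a good square. -/
theorem _root_.Groth.Agent.Lib.Ferrand24.Good.exists_mem_le (hG : Good i j a b 𝓑) (V : P.Opens) (t : P) (ht : t ∈ V) :
    ∃ U ∈ 𝓑, t ∈ U ∧ U ≤ V := by
  have h0 : i ⁻¹ᵁ (a ⁻¹ᵁ V) = j ⁻¹ᵁ (b ⁻¹ᵁ V) := by
    change (i ≫ a) ⁻¹ᵁ V = (j ≫ b) ⁻¹ᵁ V
    rw [hG.w]
  have h1 : (∃ x ∈ a ⁻¹ᵁ V, a x = t) ∨ (∃ y ∈ b ⁻¹ᵁ V, b y = t) := by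
    rcases hG.surj t with ⟨x, rfl⟩ | ⟨y, rfl⟩
    · exact Or.inl ⟨x, ht, rfl⟩
    · exact Or.inr ⟨y, ht, rfl⟩
  obtain ⟨U, hU, htU, hUa, hUb⟩ := hG.top _ _ h0 t h1
  refine ⟨U, hU, htU, ?_⟩
  intro t' ht'
  rcases hG.surj t' with ⟨x, rfl⟩ | ⟨y, rfl⟩
  · exact hUa ht'
  · exact hUb ht'

/-- joint injectivity on sections over every open of the corner of a good square -/
theorem _root_.Groth.Agent.Lib.Ferrand24.Good.eq_zero_of_open (hG : Good i j a b 𝓑) (V : P.Opens) (s : Γ(P, V))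
    (hs₁ : (a.app V).hom s = 0) (hs₂ : (b.app V).hom s = 0) : s = 0 := by
  refine P.IsSheaf.section_ext fun t ht => ?_
  obtain ⟨U, hU, htU, hUV⟩ := hG.exists_mem_le V t ht
  refine ⟨U, hUV, htU, ?_⟩
  rw [map_zero]
  apply (hG.sq U hU (hG.preimage_le U)).inj
  · exact (app_res b hUV s).trans (by rw [hs₂, map_zero])
  · exact (app_res a hUV s).trans (by rw [hs₁, map_zero])

/-- **Sections of a good square over an arbitrary open.** -/
theorem _root_.Groth.Agent.Lib.Ferrand24.Good.isFibreSq_of_open (hG : Good i j a b 𝓑) (U : P.Opens)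
    (h : i ⁻¹ᵁ a ⁻¹ᵁ U ≤ j ⁻¹ᵁ b ⁻¹ᵁ U) :
    IsFibreSq (b.app U).hom (a.app U).hom (j.appLE (b ⁻¹ᵁ U) (i ⁻¹ᵁ a ⁻¹ᵁ U) h).hom
      (i.app (a ⁻¹ᵁ U)).hom := by
  refine ⟨?_, ?_, ?_⟩
  · intro c
    rw [Scheme.Hom.app_eq_appLE, Scheme.Hom.app_eq_appLE, Scheme.Hom.app_eq_appLE]
    exact appLE_sq hG.w.symm _ _ _ _ _ _ _ _ c
  · intro c hc₁ hc₂
    exact hG.eq_zero_of_open U c hc₂ hc₁
  · intro β α hβα
    -- local solutions
    have hloc : ∀ k : {U' : P.Opens // U' ∈ 𝓑 ∧ U' ≤ U}, ∃ c : Γ(P, k.1),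
        (b.app k.1).hom c = (Y.presheaf.map (homOfLE (b.preimage_mono k.2.2)).op).hom β ∧
        (a.app k.1).hom c = (X.presheaf.map (homOfLE (a.preimage_mono k.2.2)).op).hom α := by
      intro k
      apply (hG.sq k.1 k.2.1 (hG.preimage_le _)).surj
      have h1 := congrArg
        (Z.presheaf.map (homOfLE (i.preimage_mono (a.preimage_mono k.2.2))).op).hom hβα
      rw [appLE_res_right, Scheme.Hom.app_eq_appLE, appLE_res_right] at h1
      rw [appLE_res_left j, Scheme.Hom.app_eq_appLE, appLE_res_left i]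
      exact h1
    choose c hc₁ hc₂ using hloc
    have hcover : U ≤ ⨆ k : {U' : P.Opens // U' ∈ 𝓑 ∧ U' ≤ U}, k.1 := by
      intro t ht
      obtain ⟨U', hU', htU', hU'U⟩ := hG.exists_mem_le U t ht
      exact Opens.mem_iSup.mpr ⟨⟨U', hU', hU'U⟩, htU'⟩
    have hcompat : TopCat.Presheaf.IsCompatible P.sheaf.1
        (fun k : {U' : P.Opens // U' ∈ 𝓑 ∧ U' ≤ U} => k.1) c := by
      intro k k'
      have key : (P.presheaf.map (homOfLE (inf_le_left : k.1 ⊓ k'.1 ≤ k.1)).op).hom (c k) =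
          (P.presheaf.map (homOfLE (inf_le_right : k.1 ⊓ k'.1 ≤ k'.1)).op).hom (c k') := by
        rw [← sub_eq_zero]
        apply hG.eq_zero_of_open (k.1 ⊓ k'.1)
        · rw [map_sub, sub_eq_zero]
          refine (app_res a inf_le_left (c k)).trans
            (Eq.trans ?_ (app_res a inf_le_right (c k')).symm)
          rw [hc₂, hc₂, res_res, res_res]
        · rw [map_sub, sub_eq_zero]
          refine (app_res b inf_le_left (c k)).trans
            (Eq.trans ?_ (app_res b inf_le_right (c k')).symm)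
          rw [hc₁, hc₁, res_res, res_res]
      exact key
    obtain ⟨s, hs, -⟩ := P.sheaf.existsUnique_gluing'
      (fun k : {U' : P.Opens // U' ∈ 𝓑 ∧ U' ≤ U} => k.1) U (fun k => homOfLE k.2.2) hcover c hcompat
    refine ⟨s, ?_, ?_⟩
    · refine Y.IsSheaf.section_ext fun y hy => ?_
      obtain ⟨U', hU', htU', hU'U⟩ := hG.exists_mem_le U (b y) hy
      refine ⟨b ⁻¹ᵁ U', b.preimage_mono hU'U, htU', ?_⟩
      exact (app_res b hU'U s).symm.trans
        ((congrArg (b.app U').hom (hs ⟨U', hU', hU'U⟩)).trans (hc₁ ⟨U', hU', hU'U⟩))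
    · refine X.IsSheaf.section_ext fun x hx => ?_
      obtain ⟨U', hU', htU', hU'U⟩ := hG.exists_mem_le U (a x) hx
      refine ⟨a ⁻¹ᵁ U', a.preimage_mono hU'U, htU', ?_⟩
      exact (app_res a hU'U s).symm.trans
        ((congrArg (a.app U').hom (hs ⟨U', hU', hU'U⟩)).trans (hc₂ ⟨U', hU', hU'U⟩))

section Ferrand

variable {X T Z P : Scheme.{u}} {ι : Z ⟶ X} {ξ : Z ⟶ T} {a : X ⟶ P} {b : T ⟶ P}

/-- **Ferrand pushouts are pushouts of ringed spaces.** A pushout square of schemes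
`Z → X → P`, `Z → T → P` with `Z → X` a closed immersion and `X → P`, `T → P` affine is a pushout
square in the category of sheafed spaces of commutative rings. -/
theorem isPushout_sheafedSpace_of_ferrand [IsClosedImmersion ι] [IsAffineHom a] [IsAffineHom b]
    (hP : IsPushout ι ξ a b) :
    IsPushout (Φ.map ι) (Φ.map ξ) (Φ.map a) (Φ.map b) := by
  obtain ⟨hX, hT⟩ := charts_of_isAffineHom hP.w
  obtain ⟨hpb, hbcl, hjs, -, -⟩ := props_of_isPushout_of_charts hX hT hP
  have hw : ∀ U : P.Opens, ι ⁻¹ᵁ a ⁻¹ᵁ U ≤ ξ ⁻¹ᵁ b ⁻¹ᵁ U := preimage_le_of_w hP.w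
  have hsqaff : ∀ (U : P.Opens), IsAffineOpen U →
      IsFibreSq (b.app U).hom (a.app U).hom (ξ.appLE (b ⁻¹ᵁ U) (ι ⁻¹ᵁ a ⁻¹ᵁ U) (hw U)).hom
        (ι.app (a ⁻¹ᵁ U)).hom :=
    fun U hU => sections_isFibreSq hX hT hP U hU (hU.preimage a) (hU.preimage b) (hw U)
  obtain ⟨𝓑, hgood⟩ : ∃ 𝓑, Good ι ξ a b 𝓑 := Good.of_local hP.w (fun t => by
    obtain ⟨_, ⟨U, hU, rfl⟩, htU, -⟩ :=
      P.isBasis_affineOpens.exists_subset_of_mem_open (Set.mem_univ t) isOpen_univ
    obtain ⟨c, hc⟩ := exists_localPiece U hU (hU.preimage a) (hU.preimage b)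
      ((hU.preimage a).preimage ι) (hw U) (hsqaff U hU) (ι.app_surjective _ (hU.preimage a))
    exact ⟨c, by rw [hc]; exact htU⟩)
  refine isPushout_sheafedSpace_of_sections hP.w hjs ?_ ?_ ?_ hgood.exists_opens
    hgood.isFibreSq_of_open
  · exact b.isClosedEmbedding.injective
  · intro x y hxy
    obtain ⟨z, hz₁, hz₂⟩ := Scheme.Pullback.exists_preimage_pullback x y hxy
    refine ⟨hpb.isoPullback.inv z, ?_, ?_⟩
    · rw [← Scheme.Hom.comp_apply, IsPullback.isoPullback_inv_fst]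
      exact hz₁
    · rw [← Scheme.Hom.comp_apply, IsPullback.isoPullback_inv_snd]
      exact hz₂
  · intro x x' hxx'
    by_cases hx : a x ∈ Set.range b
    · exact Or.inr hx
    left
    have hcl : IsClosed (Set.range b) := b.isClosedEmbedding.isClosed_range
    obtain ⟨_, ⟨U, hU, rfl⟩, hxU, hUV⟩ :=
      P.isBasis_affineOpens.exists_subset_of_mem_open (show a x ∈ (Set.range b)ᶜ from hx)
        hcl.isOpen_compl
    have hbot : b ⁻¹ᵁ U = ⊥ := by
      ext y
      simp only [Opens.coe_bot, Set.mem_empty_iff_false, iff_false]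
      intro hy
      exact hUV hy ⟨y, rfl⟩
    haveI : Subsingleton Γ(T, b ⁻¹ᵁ U) := by
      rw [hbot]
      infer_instance
    have hbij := (hsqaff U hU).bijective_snd_of_subsingleton
    haveI : IsIso (a.app U) := (ConcreteCategory.isIso_iff_bijective (a.app U)).mpr hbij
    haveI : IsIso (a ∣_ U) := (isIso_morphismRestrict_iff_isIso_app a hU).mpr inferInstance
    have hx'U : a x' ∈ U := by rw [← hxx']; exact hxU
    have hinj : Function.Injective (a ∣_ U) := (a ∣_ U).isOpenEmbedding.injective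
    have := @hinj ⟨x, hxU⟩ ⟨x', hx'U⟩ (Subtype.ext (by
      rw [morphismRestrict_base_coe, morphismRestrict_base_coe]
      exact hxx'))
    exact congrArg Subtype.val this

end Ferrand

end Groth.Agent.Lib.SheafedPushout24
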