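-- Helper: morphisms out of sheafified representables are sections; coproduct criterion.
import Mathlib.CategoryTheory.Sites.Sheafification
import Mathlib.CategoryTheory.Sites.ConcreteSheafification
import Mathlib.CategoryTheory.Sites.Types
import Mathlib.CategoryTheory.Limits.Shapes.Products
import Mathlib.CategoryTheory.Yoneda

set_option autoImplicit false
universe u

namespace Groth.Agent.Lib.SheafifyYoneda

open CategoryTheory CategoryTheory.Limits Opposite

variable {C : Type u} [SmallCategory C] (J : GrothendieckTopology C)

/-- Morphisms from the sheafification of a representable presheaf to a sheaf are the sections. -/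
noncomputable def homEquiv (Z : C) (F : Sheaf J (Type u)) :
    ((presheafToSheaf J (Type u)).obj (yoneda.obj Z) ⟶ F) ≃ F.obj.obj (op Z) :=
  ((sheafificationAdjunction J (Type u)).homEquiv (yoneda.obj Z) F).trans yonedaEquiv

lemma homEquiv_naturality {Z Z' : C} (g : Z' ⟶ Z) (F : Sheaf J (Type u))
    (m : (presheafToSheaf J (Type u)).obj (yoneda.obj Z) ⟶ F) :
    homEquiv J Z' F ((presheafToSheaf J (Type u)).map (yoneda.map g) ≫ m) =
      F.obj.map g.op (homEquiv J Z F m) := by
  simp only [homEquiv, Equiv.trans_apply]
  rw [Adjunction.homEquiv_naturality_left]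
  exact (yonedaEquiv_naturality _ g).symm

/-- The cofan of sheafified representables over `s i : Y i ⟶ X` is a coproduct iff every sheaf
turns it into a product of sections. -/
theorem isColimit_cofan_iff {X : C} {ι : Type u} (Y : ι → C) (s : ∀ i, Y i ⟶ X) :
    Nonempty (IsColimit (Cofan.mk ((presheafToSheaf J (Type u)).obj (yoneda.obj X))
      (fun i => (presheafToSheaf J (Type u)).map (yoneda.map (s i))))) ↔
    ∀ F : Sheaf J (Type u), Function.Bijective
      (fun (t : F.obj.obj (op X)) (i : ι) => F.obj.map (s i).op t) := by
  constructor
  · rintro ⟨hc⟩ F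
    constructor
    · intro t t' htt'
      obtain ⟨m, rfl⟩ := (homEquiv J X F).surjective t
      obtain ⟨m', rfl⟩ := (homEquiv J X F).surjective t'
      congr 1
      apply Cofan.IsColimit.hom_ext hc
      intro i
      apply (homEquiv J (Y i) F).injective
      have := congrFun htt' i
      simp only [← homEquiv_naturality] at this
      exact this
    · intro w
      let d : ∀ i, (presheafToSheaf J (Type u)).obj (yoneda.obj (Y i)) ⟶ F :=
        fun i => (homEquiv J (Y i) F).symm (w i)
      refine ⟨homEquiv J X F (Cofan.IsColimit.desc hc d), ?_⟩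
      funext i
      have h1 := homEquiv_naturality J (s i) F (Cofan.IsColimit.desc hc d)
      have h2 := Cofan.IsColimit.fac hc d i
      simp only [Cofan.mk_ι_app, Cofan.inj] at h2
      change F.obj.map (s i).op (homEquiv J X F (Cofan.IsColimit.desc hc d)) = w i
      rw [← h1, h2]
      simp [d]
  · intro hbij
    have hbij' : ∀ F : Sheaf J (Type u), Function.Bijective
        (fun (m : (presheafToSheaf J (Type u)).obj (yoneda.obj X) ⟶ F) (i : ι) =>
          (presheafToSheaf J (Type u)).map (yoneda.map (s i)) ≫ m) := by
      intro F
      have e : (fun (m : (presheafToSheaf J (Type u)).obj (yoneda.obj X) ⟶ F) (i : ι) =>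
          (presheafToSheaf J (Type u)).map (yoneda.map (s i)) ≫ m) =
          (fun w i => (homEquiv J (Y i) F).symm (w i)) ∘
            (fun (t : F.obj.obj (op X)) (i : ι) => F.obj.map (s i).op t) ∘ (homEquiv J X F) := by
        funext m i
        simp only [Function.comp_apply]
        rw [← homEquiv_naturality, Equiv.symm_apply_apply]
      rw [e]
      refine Function.Bijective.comp ?_ ((hbij F).comp (homEquiv J X F).bijective)
      exact (Equiv.piCongrRight (fun i => (homEquiv J (Y i) F).symm)).bijective
    refine ⟨Cofan.IsColimit.mk _ (fun c => ((hbij' c.pt).2 (fun i => c.inj i)).choose) ?_ ?_⟩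
    · intro c i
      have := ((hbij' c.pt).2 (fun i => c.inj i)).choose_spec
      exact congrFun this i
    · intro c m hm
      apply (hbij' c.pt).1
      rw [((hbij' c.pt).2 (fun i => c.inj i)).choose_spec]
      funext i
      exact hm i

end Groth.Agent.Lib.SheafifyYoneda
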