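import Groth.Prelude.Def_HopfRep
import Mathlib.RingTheory.HopfAlgebra.Basic
import Mathlib.RingTheory.TensorProduct.Basic
import Mathlib.RingTheory.Flat.Basic
import Mathlib.Algebra.GroupWithZero.NonZeroDivisors

/-!
# The shear map of a comodule algebra (helper18)

`S` a commutative `k`-algebra with a multiplicative coaction `ρ : S → S ⊗ H` of a commutative Hopf
algebra `H`.  The shear map `x ⊗ h ↦ ρ(x) (1 ⊗ h)` is a bijective multiplicative map of `S ⊗ H`;
hence `ρ` maps non-zero-divisors to non-zero-divisors when `s ↦ s ⊗ 1` does.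
-/

set_option autoImplicit false
set_option maxHeartbeats 400000
universe u
open TensorProduct

namespace Groth.Agent.Lib.ShearMap18

variable {k : Type u} [CommRing k] {H : Type u} [CommRing H] [HopfAlgebra k H]
  {S : Type u} [CommRing S] [Algebra k S]

/-- `(a ⊗ b) ⊗ h ↦ a ⊗ θ(b) h` -/
noncomputable def Xi' (θ : H →ₗ[k] H) : (S ⊗[k] H) ⊗[k] H →ₗ[k] S ⊗[k] H :=
  (LinearMap.mul' k H ∘ₗ θ.rTensor H).lTensor S ∘ₗ (TensorProduct.assoc k S H H).toLinearMap

@[simp] lemma Xi'_tmul (θ : H →ₗ[k] H) (a : S) (b h : H) :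
    Xi' θ ((a ⊗ₜ[k] b) ⊗ₜ[k] h) = a ⊗ₜ[k] (θ b * h) := by
  simp [Xi']

/-- `Xi' θ` after reassociation -/
lemma Xi'_assoc_symm (θ : H →ₗ[k] H) (v : S ⊗[k] (H ⊗[k] H)) :
    Xi' θ ((TensorProduct.assoc k S H H).symm v) =
      (LinearMap.mul' k H ∘ₗ θ.rTensor H).lTensor S v := by
  simp [Xi']

variable [HopfRep.Comod k H S]

/-- the coaction -/
noncomputable abbrev rho : S →ₗ[k] S ⊗[k] H := HopfRep.Comod.coact (k := k) (A := H)

/-- `x ⊗ h ↦ Σ x₀ ⊗ θ(x₁) h` -/
noncomputable def Xi (θ : H →ₗ[k] H) : S ⊗[k] H →ₗ[k] S ⊗[k] H :=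
  Xi' θ ∘ₗ (rho (k := k) (H := H) (S := S)).rTensor H

lemma Xi_tmul (θ : H →ₗ[k] H) (x : S) (h : H) :
    Xi θ (x ⊗ₜ[k] h) = Xi' θ (rho (k := k) (H := H) x ⊗ₜ[k] h) := by
  simp [Xi]

omit [HopfRep.Comod k H S] in
lemma Xi'_mul_right (θ : H →ₗ[k] H) (w : S ⊗[k] H) (h' h : H) :
    Xi' θ (w ⊗ₜ[k] (h' * h)) = Xi' θ (w ⊗ₜ[k] h') * ((1 : S) ⊗ₜ[k] h) := by
  induction w using TensorProduct.induction_on with
  | zero => simp
  | tmul a b => simp [mul_assoc]
  | add x y hx hy => simp only [add_tmul, map_add, hx, hy, add_mul]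

omit [HopfRep.Comod k H S] in
lemma Xi'_id_one (w : S ⊗[k] H) : Xi' (LinearMap.id) (w ⊗ₜ[k] (1 : H)) = w := by
  induction w using TensorProduct.induction_on with
  | zero => simp
  | tmul a b => simp
  | add x y hx hy => simp only [add_tmul, map_add, hx, hy]

omit [HopfRep.Comod k H S] in
lemma Xi'_one (θ : H →ₗ[k] H) (w : S ⊗[k] H) : Xi' θ (w ⊗ₜ[k] (1 : H)) = θ.lTensor S w := by
  induction w using TensorProduct.induction_on with
  | zero => simp
  | tmul a b => simp
  | add x y hx hy => simp only [add_tmul, map_add, hx, hy]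

lemma Xi_mul_right (θ : H →ₗ[k] H) (t : S ⊗[k] H) (h : H) :
    Xi θ (t * ((1 : S) ⊗ₜ[k] h)) = Xi θ t * ((1 : S) ⊗ₜ[k] h) := by
  induction t using TensorProduct.induction_on with
  | zero => simp
  | tmul x h' =>
    rw [Algebra.TensorProduct.tmul_mul_tmul, mul_one, Xi_tmul, Xi_tmul, Xi'_mul_right]
  | add x y hx hy => simp only [add_mul, map_add, hx, hy]

lemma Xi_id_tmul_one (x : S) :
    Xi (LinearMap.id) (x ⊗ₜ[k] (1 : H)) = rho (k := k) (H := H) x := by
  rw [Xi_tmul, Xi'_id_one]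

lemma Xi_tmul_one (θ : H →ₗ[k] H) (x : S) :
    Xi θ (x ⊗ₜ[k] (1 : H)) = θ.lTensor S (rho (k := k) (H := H) x) := by
  rw [Xi_tmul, Xi'_one]

/-- coassociativity, elementwise -/
lemma rTensor_rho_rho (x : S) :
    (rho (k := k) (H := H) (S := S)).rTensor H (rho (k := k) (H := H) x) =
      (TensorProduct.assoc k S H H).symm
        ((CoalgebraStruct.comul (R := k) (A := H)).lTensor S (rho (k := k) (H := H) x)) := by
  have h := LinearMap.congr_fun (HopfRep.Comod.coassoc (k := k) (A := H) (V := S)) x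
  simp only [LinearMap.comp_apply, LinearEquiv.coe_coe] at h
  rw [← h, LinearEquiv.symm_apply_apply]

/-- counitality, elementwise -/
lemma lTensor_counit_rho (x : S) :
    (CoalgebraStruct.counit (R := k) (A := H)).lTensor S (rho (k := k) (H := H) x) =
      x ⊗ₜ[k] (1 : k) := by
  have h := LinearMap.congr_fun (HopfRep.Comod.counit_comp (k := k) (A := H) (V := S)) x
  simpa using h

/-- `Σ x₀₀ ⊗ S(x₀₁) x₁ = x ⊗ 1` -/
lemma Xi_antipode_rho (x : S) :
    Xi (HopfAlgebra.antipode k (A := H)) (rho (k := k) (H := H) x) = x ⊗ₜ[k] (1 : H) := by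
  have h1 : ∀ w : S ⊗[k] H, Xi (HopfAlgebra.antipode k (A := H)) w =
      Xi' (HopfAlgebra.antipode k (A := H)) ((rho (k := k) (H := H) (S := S)).rTensor H w) :=
    fun w => rfl
  rw [h1, rTensor_rho_rho, Xi'_assoc_symm, ← LinearMap.comp_apply, ← LinearMap.lTensor_comp,
    LinearMap.comp_assoc, HopfAlgebra.mul_antipode_rTensor_comul, LinearMap.lTensor_comp,
    LinearMap.comp_apply, lTensor_counit_rho, LinearMap.lTensor_tmul]
  simp

omit [HopfRep.Comod k H S] in
lemma Xi'_id_lTensor_assoc_symm (θ : H →ₗ[k] H) (v : S ⊗[k] (H ⊗[k] H)) :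
    Xi' (LinearMap.id) (θ.lTensor (S ⊗[k] H) ((TensorProduct.assoc k S H H).symm v)) =
      (LinearMap.mul' k H ∘ₗ θ.lTensor H).lTensor S v := by
  induction v using TensorProduct.induction_on with
  | zero => simp
  | tmul a w =>
    induction w using TensorProduct.induction_on with
    | zero => simp
    | tmul b c => simp
    | add x y hx hy => simp only [tmul_add, map_add, hx, hy]
  | add x y hx hy => simp only [map_add, hx, hy]

/-- `Σ x₀₀ ⊗ x₀₁ S(x₁) = x ⊗ 1` -/
lemma Xi_id_antipode_rho (x : S) :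
    Xi (LinearMap.id) ((HopfAlgebra.antipode k (A := H)).lTensor S (rho (k := k) (H := H) x)) =
      x ⊗ₜ[k] (1 : H) := by
  have h1 : ∀ w : S ⊗[k] H, Xi (LinearMap.id : H →ₗ[k] H) w =
      Xi' (LinearMap.id) ((rho (k := k) (H := H) (S := S)).rTensor H w) :=
    fun w => rfl
  have h2 : (rho (k := k) (H := H) (S := S)).rTensor H
      ((HopfAlgebra.antipode k (A := H)).lTensor S (rho (k := k) (H := H) x)) =
      (HopfAlgebra.antipode k (A := H)).lTensor (S ⊗[k] H)
        ((rho (k := k) (H := H) (S := S)).rTensor H (rho (k := k) (H := H) x)) := by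
    generalize rho (k := k) (H := H) x = w
    rw [← LinearMap.comp_apply, LinearMap.rTensor_comp_lTensor, ← LinearMap.lTensor_comp_rTensor,
      LinearMap.comp_apply]
  rw [h1, h2, rTensor_rho_rho, Xi'_id_lTensor_assoc_symm, ← LinearMap.comp_apply,
    ← LinearMap.lTensor_comp, LinearMap.comp_assoc, HopfAlgebra.mul_antipode_lTensor_comul,
    LinearMap.lTensor_comp, LinearMap.comp_apply, lTensor_counit_rho, LinearMap.lTensor_tmul]
  simp

/-- the shear map `x ⊗ h ↦ ρ(x)(1 ⊗ h)` -/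
noncomputable abbrev Phi : S ⊗[k] H →ₗ[k] S ⊗[k] H := Xi (LinearMap.id)

/-- its inverse `x ⊗ h ↦ Σ x₀ ⊗ S(x₁) h` -/
noncomputable abbrev Psi : S ⊗[k] H →ₗ[k] S ⊗[k] H := Xi (HopfAlgebra.antipode k (A := H))

omit [HopfRep.Comod k H S] in
lemma tmul_eq_mul (x : S) (h : H) : x ⊗ₜ[k] h = (x ⊗ₜ[k] (1 : H)) * ((1 : S) ⊗ₜ[k] h) := by
  rw [Algebra.TensorProduct.tmul_mul_tmul, mul_one, one_mul]

lemma Psi_Phi (t : S ⊗[k] H) : Psi (Phi t) = t := by
  induction t using TensorProduct.induction_on with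
  | zero => simp
  | tmul x h =>
    rw [tmul_eq_mul x h, Phi, Psi, Xi_mul_right, Xi_id_tmul_one, Xi_mul_right, Xi_antipode_rho]
  | add x y hx hy => simp only [map_add, hx, hy]

lemma Phi_Psi (t : S ⊗[k] H) : Phi (Psi t) = t := by
  induction t using TensorProduct.induction_on with
  | zero => simp
  | tmul x h =>
    rw [tmul_eq_mul x h, Phi, Psi, Xi_mul_right, Xi_tmul_one, Xi_mul_right, Xi_id_antipode_rho]
  | add x y hx hy => simp only [map_add, hx, hy]

variable (hmul : ∀ x y : S, rho (k := k) (H := H) (x * y) =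
  rho (k := k) (H := H) x * rho (k := k) (H := H) y)

include hmul in
lemma Phi_mul (t t' : S ⊗[k] H) : Phi (t * t') = Phi t * Phi t' := by
  induction t using TensorProduct.induction_on with
  | zero => simp
  | tmul x h =>
    induction t' using TensorProduct.induction_on with
    | zero => simp
    | tmul x' h' =>
      rw [Algebra.TensorProduct.tmul_mul_tmul, tmul_eq_mul (x * x') (h * h'), tmul_eq_mul x h,
        tmul_eq_mul x' h', Phi, Xi_mul_right, Xi_mul_right, Xi_mul_right, Xi_id_tmul_one,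
        Xi_id_tmul_one, Xi_id_tmul_one, hmul, ← one_mul (1 : S),
        ← Algebra.TensorProduct.tmul_mul_tmul, one_mul]
      ring
    | add a b ha hb => simp only [mul_add, map_add, ha, hb]
  | add a b ha hb => simp only [add_mul, map_add, ha, hb]

include hmul in
/-- the coaction preserves non-zero-divisors as soon as `s ↦ s ⊗ 1` does -/
theorem rho_mem_nonZeroDivisors (s : S)
    (hs : s ⊗ₜ[k] (1 : H) ∈ nonZeroDivisors (S ⊗[k] H)) :
    rho (k := k) (H := H) s ∈ nonZeroDivisors (S ⊗[k] H) := by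
  rw [mem_nonZeroDivisors_iff_left] at hs ⊢
  intro y hy
  have h1 : Phi ((s ⊗ₜ[k] (1 : H)) * Psi y) = 0 := by
    rw [Phi_mul hmul, Phi_Psi, Phi, Xi_id_tmul_one]
    exact hy
  have h2 : (s ⊗ₜ[k] (1 : H)) * Psi y = 0 := by
    rw [← Psi_Phi ((s ⊗ₜ[k] (1 : H)) * Psi y), h1, map_zero]
  have h3 := hs _ h2
  rw [← Phi_Psi y, h3, map_zero]

omit [HopfRep.Comod k H S] in
/-- `s ↦ s ⊗ 1` preserves non-zero-divisors when `H` is flat over `k` -/
theorem tmul_one_mem_nonZeroDivisors [Module.Flat k H] (s : S) (hs : s ∈ nonZeroDivisors S) :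
    s ⊗ₜ[k] (1 : H) ∈ nonZeroDivisors (S ⊗[k] H) := by
  rw [mem_nonZeroDivisors_iff_left] at hs ⊢
  have hinj : Function.Injective (LinearMap.mulLeft k s) := by
    rw [injective_iff_map_eq_zero]
    intro x hx
    exact hs x hx
  have hinj' : Function.Injective ((LinearMap.mulLeft k s).rTensor H) :=
    Module.Flat.rTensor_preserves_injective_linearMap _ hinj
  have key : ∀ y : S ⊗[k] H, (s ⊗ₜ[k] (1 : H)) * y = (LinearMap.mulLeft k s).rTensor H y := by
    intro y
    induction y using TensorProduct.induction_on with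
    | zero => simp
    | tmul a b => simp
    | add a b ha hb => simp only [mul_add, map_add, ha, hb]
  intro y hy
  rw [key] at hy
  exact hinj' (hy.trans (map_zero _).symm)

end Groth.Agent.Lib.ShearMap18
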