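import Groth.Agent.Lib.ConstrPres34
import Groth.Prelude.Def_EtShriek2

/-!
# `f_!` of a constructible sheaf along an etale morphism of qcqs schemes is constructible (helper34)

* `shriekRIso f M V : f_! (j_{V!} M) ≅ j_{(V → U → X)!} M` for `f : U ⟶ X` etale, `V` etale over `U`;
* `isConstructible_extZero f F hF`: `f_! F` is constructible for `F` constructible (`U`, `X` qcqs).
-/

set_option autoImplicit false
universe u

open CategoryTheory CategoryTheory.Limits AlgebraicGeometry Opposite Topology

namespace Groth.Agent.Lib.ShriekConstr34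

open Groth.Agent.Lib.ExtZeroMV34 Groth.Agent.Lib.ExtZeroConstr34 Groth.Agent.Lib.ConstrFG34
  Groth.Agent.Lib.ConstrPres34

variable {U X : Scheme.{u}} (f : U ⟶ X) [Etale f] [EtShriek.JCont f] (M : Type) [AddCommGroup M]

/-- `Hom (f_! j_{V!} M, G) = Hom (M, G(V → U → X))` -/
noncomputable def θ (V : U.Etale) (G : EtCoh.Ab X) :
    ((EtShriek.extZero f).obj (R M V) ⟶ G) ≃
      (E.{u} M ⟶ G.obj.obj (op ((EtShriek.compEtale f).obj V))) :=
  ((EtShriek.extZeroAdj f).homEquiv (R M V) G).trans
    (repEquiv M V ((EtShriek.restrAlong f).obj G))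

lemma θ_comp (V : U.Etale) {G G' : EtCoh.Ab X} (h : (EtShriek.extZero f).obj (R M V) ⟶ G')
    (g : G' ⟶ G) :
    θ f M V G (h ≫ g) = θ f M V G' h ≫ g.hom.app (op ((EtShriek.compEtale f).obj V)) := by
  simp only [θ, Equiv.trans_apply, Adjunction.homEquiv_naturality_right]
  exact repEquiv_comp M V _ ((EtShriek.restrAlong f).map g)

/-- `f_! (j_{V!} M) ≅ j_{(V → U → X)!} M` -/
noncomputable def shriekRIso (V : U.Etale) :
    (EtShriek.extZero f).obj (R M V) ≅ R M ((EtShriek.compEtale f).obj V) where
  hom := (θ f M V _).symm (univ M ((EtShriek.compEtale f).obj V))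
  inv := (repEquiv M ((EtShriek.compEtale f).obj V) _).symm (θ f M V _ (𝟙 _))
  hom_inv_id := by
    apply (θ f M V _).injective
    rw [θ_comp, Equiv.apply_symm_apply, ← repEquiv_eq, Equiv.apply_symm_apply]
  inv_hom_id := by
    apply (repEquiv M ((EtShriek.compEtale f).obj V) _).injective
    rw [repEquiv_comp, Equiv.apply_symm_apply, ← θ_comp, Category.id_comp,
      Equiv.apply_symm_apply]
    rfl

variable [CompactSpace X] [QuasiSeparatedSpace X] [CompactSpace U] [QuasiSeparatedSpace U]

/-- `f_!` of a constructible sheaf is constructible (`f : U ⟶ X` etale, `U`, `X` qcqs). -/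
theorem isConstructible_extZero (F : EtCoh.Ab U) (hF : EtPBC.IsConstructible F) :
    EtPBC.IsConstructible ((EtShriek.extZero f).obj F) := by
  obtain ⟨a, b, V, W, n, m, hV, hW, φ, ⟨e⟩⟩ := exists_presentationV F hF
  let L := EtShriek.extZero f
  haveI : PreservesColimits L := (EtShriek.extZeroAdj f).leftAdjoint_preservesColimits
  haveI : PreservesLimits (EtShriek.restrAlong f) :=
    (EtShriek.extZeroAdj f).rightAdjoint_preservesLimits
  haveI : (EtShriek.restrAlong f).IsRightAdjoint := (EtShriek.extZeroAdj f).isRightAdjoint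
  haveI : (EtShriek.restrAlong f).Additive := Functor.additive_of_preserves_binary_products _
  haveI : L.Additive := (EtShriek.extZeroAdj f).left_adjoint_additive
  have key : ∀ {c : ℕ} (T : Fin c → U.Etale) (k : Fin c → ℕ),
      (∀ i, 0 < k i ∧ IsAffine (T i).left) →
      EtPBC.IsConstructible (L.obj (⨁ fun i => EtPBC.extZeroConst (T i) (ZMod (k i)))) := by
    intro c T k hT
    have i1 : L.obj (⨁ fun i => EtPBC.extZeroConst (T i) (ZMod (k i))) ≅
        ⨁ fun i => L.obj (EtPBC.extZeroConst (T i) (ZMod (k i))) := L.mapBiproduct _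
    refine Groth.Agent.Lib.EtConstr22.isConstructible_of_iso i1.symm
      (isConstructible_biproduct _ fun i => ?_)
    haveI := (hT i).2
    haveI : NeZero (k i) := ⟨(hT i).1.ne'⟩
    haveI : CompactSpace ((EtShriek.compEtale f).obj (T i)).left :=
      inferInstanceAs (CompactSpace (T i).left)
    haveI : QuasiSeparatedSpace ((EtShriek.compEtale f).obj (T i)).left :=
      inferInstanceAs (QuasiSeparatedSpace (T i).left)
    exact Groth.Agent.Lib.EtConstr22.isConstructible_of_iso (shriekRIso f (ZMod (k i)) (T i)).symm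
      (isConstructible_extZeroConst (M := ZMod (k i)) (U := (EtShriek.compEtale f).obj (T i)))
  have i2 : L.obj F ≅ cokernel (L.map φ) := L.mapIso e ≪≫ PreservesCokernel.iso L φ
  exact Groth.Agent.Lib.EtConstr22.isConstructible_of_iso i2.symm
    (Groth.Agent.Lib.EtConstr22.isConstructible_ker_coker (L.map φ) (key W m hW) (key V n hV)).2

end Groth.Agent.Lib.ShriekConstr34
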