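import Groth.Agent.Lib.SuppD66

/-!
# The Mayer–Vietoris triangle for extension by zero (helper66)

* `shortExact_of_bicone`: split short exactness criterion; `isIso_map_of_isZero_ker_coker`.
* `F U = j_{U!} j_U^*`, `adjFG U : F U ⊣ G U`, `isIso_restrict_ε`, `isZero_restrict_F`,
  `isIso_restrict_F_map`, `isZero_of_isZero_restrict`, `shortExact_of_restrict` (short exactness is
  local on a two-set cover).
* `shortExact_sh`: `0 → j_{U!}j_U^* j_{V!}j_V^* M → j_{U!}j_U^*M ⊕ j_{V!}j_V^*M → M → 0`.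
* `fInfIso : F (U ⊓ V) ≅ F V ⋙ F U`, `exists_shriek_mv_triangle` (= S6513).
-/

set_option autoImplicit false
universe u

open CategoryTheory CategoryTheory.Limits AlgebraicGeometry Pretriangulated
open AlgebraicGeometry.Scheme AlgebraicGeometry.Scheme.Modules

attribute [local instance] HasDerivedCategory.standard

namespace Groth.Agent.Lib.ShriekMV66

section Abstract

variable {𝒜 : Type*} [Category* 𝒜] [Abelian 𝒜]

/-- A short complex whose middle term is a biproduct `B₁ ⊞ B₂` (given by bicone data), such that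
`X₁ ⟶ B₂` and `B₁ ⟶ X₃` are isomorphisms, is (split) short exact. -/
theorem shortExact_of_bicone (S : ShortComplex 𝒜) {B₁ B₂ : 𝒜}
    (inl : B₁ ⟶ S.X₂) (inr : B₂ ⟶ S.X₂) (fst : S.X₂ ⟶ B₁) (snd : S.X₂ ⟶ B₂)
    (total : fst ≫ inl + snd ≫ inr = 𝟙 _)
    (hq : IsIso (S.f ≫ snd)) (hr : IsIso (inl ≫ S.g)) : S.ShortExact := by
  obtain ⟨q, hq'⟩ : ∃ q, q = S.f ≫ snd := ⟨_, rfl⟩
  obtain ⟨r, hr'⟩ : ∃ r, r = inl ≫ S.g := ⟨_, rfl⟩
  obtain ⟨p, hp'⟩ : ∃ p, p = S.f ≫ fst := ⟨_, rfl⟩
  obtain ⟨s, hs'⟩ : ∃ s, s = inr ≫ S.g := ⟨_, rfl⟩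
  rw [← hq'] at hq
  rw [← hr'] at hr
  have hf : S.f = p ≫ inl + q ≫ inr := by
    calc S.f = S.f ≫ (fst ≫ inl + snd ≫ inr) := by rw [total, Category.comp_id]
      _ = p ≫ inl + q ≫ inr := by
        rw [Preadditive.comp_add, ← Category.assoc, ← Category.assoc, hp', hq']
  have hg : S.g = fst ≫ r + snd ≫ s := by
    calc S.g = (fst ≫ inl + snd ≫ inr) ≫ S.g := by rw [total, Category.id_comp]
      _ = fst ≫ r + snd ≫ s := by
        rw [Preadditive.add_comp, Category.assoc, Category.assoc, hr', hs']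
  have hz : p ≫ r + q ≫ s = 0 := by
    rw [hp', hq', hr', hs']
    calc (S.f ≫ fst) ≫ inl ≫ S.g + (S.f ≫ snd) ≫ inr ≫ S.g
        = S.f ≫ (fst ≫ inl + snd ≫ inr) ≫ S.g := by
          simp only [Preadditive.comp_add, Preadditive.add_comp, Category.assoc]
      _ = 0 := by rw [total, Category.id_comp, S.zero]
  have hkey : inv q ≫ p + s ≫ inv r = 0 := by
    have : inv q ≫ (p ≫ r + q ≫ s) ≫ inv r = 0 := by rw [hz, zero_comp, comp_zero]
    simpa only [Preadditive.add_comp, Preadditive.comp_add, Category.assoc,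
      IsIso.hom_inv_id, Category.comp_id, IsIso.inv_hom_id_assoc] using this
  refine ShortComplex.Splitting.shortExact
    { r := snd ≫ inv q
      s := inv r ≫ inl
      f_r := by rw [← Category.assoc, ← hq', IsIso.hom_inv_id]
      s_g := by rw [Category.assoc, ← hr', IsIso.inv_hom_id]
      id := ?_ }
  calc (snd ≫ inv q) ≫ S.f + S.g ≫ inv r ≫ inl
      = (snd ≫ inv q) ≫ (p ≫ inl + q ≫ inr) + (fst ≫ r + snd ≫ s) ≫ inv r ≫ inl := by
        rw [← hf, ← hg]
    _ = (fst ≫ inl + snd ≫ inr) + snd ≫ (inv q ≫ p + s ≫ inv r) ≫ inl := by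
        simp only [Preadditive.comp_add, Preadditive.add_comp, Category.assoc,
          IsIso.inv_hom_id_assoc, IsIso.hom_inv_id_assoc]
        abel
    _ = 𝟙 _ := by rw [hkey, zero_comp, comp_zero, add_zero, total]

/-- an exact functor killing kernel and cokernel of `φ` sends `φ` to an isomorphism -/
theorem isIso_map_of_isZero_ker_coker {ℬ : Type*} [Category* ℬ] [Abelian ℬ] (Φ : 𝒜 ⥤ ℬ)
    [Φ.Additive] [PreservesFiniteLimits Φ] [PreservesFiniteColimits Φ] {M N : 𝒜} (φ : M ⟶ N)
    (h1 : IsZero (Φ.obj (kernel φ))) (h2 : IsZero (Φ.obj (cokernel φ))) : IsIso (Φ.map φ) := by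
  have e1 : Φ.obj (kernel φ) ≅ kernel (Φ.map φ) := PreservesKernel.iso Φ φ
  have e2 : Φ.obj (cokernel φ) ≅ cokernel (Φ.map φ) := PreservesCokernel.iso Φ φ
  have : Mono (Φ.map φ) := Preadditive.mono_of_isZero_kernel _ (h1.of_iso e1.symm)
  have : Epi (Φ.map φ) := Preadditive.epi_of_isZero_cokernel _ (h2.of_iso e2.symm)
  exact isIso_of_mono_of_epi _

end Abstract

section Scheme

variable {X : Scheme.{u}}

open Groth.Agent.Lib.MVMod66 Groth.Agent.Lib.SuppD66

/-- `j_{U!} j_U^*` -/
noncomputable abbrev F (U : X.Opens) : X.Modules ⥤ X.Modules :=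
  Scheme.Modules.restrictFunctor U.ι ⋙ CxOX.extZero U.ι

/-- the counit `j_{U!} j_U^* M ⟶ M` -/
noncomputable abbrev ε (U : X.Opens) : F U ⟶ 𝟭 X.Modules := (CxOX.extZeroAdj U.ι).counit

/-- `j_{U!} j_U^* ⊣ j_{U*} j_U^*` -/
noncomputable def adjFG (U : X.Opens) : F U ⊣ G U :=
  (Scheme.Modules.restrictAdjunction U.ι).comp (CxOX.extZeroAdj U.ι)

/-- `(j_{U!} j_U^* N ⟶ N)|_U` is an isomorphism -/
instance isIso_restrict_ε (U : X.Opens) (N : X.Modules) :
    IsIso ((Scheme.Modules.restrictFunctor U.ι).map ((ε U).app N)) := by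
  have h := (CxOX.extZeroAdj U.ι).right_triangle_components N
  have : IsIso ((CxOX.extZeroAdj U.ι).unit.app ((Scheme.Modules.restrictFunctor U.ι).obj N)) :=
    inferInstance
  exact IsIso.of_isIso_fac_left h

/-- a module vanishing on `V` has `(j_{U!} j_U^* N)|_V = 0` -/
theorem isZero_restrict_F (U V : X.Opens) (N : X.Modules)
    (hN : IsZero ((Scheme.Modules.restrictFunctor V.ι).obj N)) :
    IsZero ((Scheme.Modules.restrictFunctor V.ι).obj ((F U).obj N)) := by
  apply isZero_restrict_extZero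
  intro y hy
  apply (Groth.Agent.Lib.ModStalk.subsingleton_stalk_restrict_iff N U y).2
  exact Groth.Agent.Lib.ModStalk.subsingleton_stalk_of_isZero_restrict N V hN _ hy

/-- if `φ|_V` is an isomorphism then so is `(j_{U!} j_U^* φ)|_V` -/
theorem isIso_restrict_F_map (U V : X.Opens) {N N' : X.Modules} (φ : N ⟶ N')
    (h : IsIso ((Scheme.Modules.restrictFunctor V.ι).map φ)) :
    IsIso ((Scheme.Modules.restrictFunctor V.ι).map ((F U).map φ)) := by
  have hcU : PreservesFiniteColimits (Scheme.Modules.restrictFunctor U.ι) :=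
    ⟨fun _ _ _ => (Scheme.Modules.restrictAdjunction U.ι).leftAdjoint_preservesColimits.1⟩
  have hcV : PreservesFiniteColimits (Scheme.Modules.restrictFunctor V.ι) :=
    ⟨fun _ _ _ => (Scheme.Modules.restrictAdjunction V.ι).leftAdjoint_preservesColimits.1⟩
  let R := Scheme.Modules.restrictFunctor V.ι
  have e1 : R.obj (kernel φ) ≅ kernel (R.map φ) := PreservesKernel.iso R φ
  have e2 : R.obj (cokernel φ) ≅ cokernel (R.map φ) := PreservesCokernel.iso R φ
  have h1 : IsZero (R.obj (kernel φ)) := (isZero_kernel_of_mono (R.map φ)).of_iso e1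
  have h2 : IsZero (R.obj (cokernel φ)) := (isZero_cokernel_of_epi (R.map φ)).of_iso e2
  exact isIso_map_of_isZero_ker_coker (F U ⋙ R) φ (isZero_restrict_F U V _ h1)
    (isZero_restrict_F U V _ h2)

/-- a module vanishing on `U` and on `V` vanishes when `U ∪ V = X` -/
theorem isZero_of_isZero_restrict {U V : X.Opens} (hUV : U ⊔ V = ⊤) (N : X.Modules)
    (hU : IsZero ((Scheme.Modules.restrictFunctor U.ι).obj N))
    (hV : IsZero ((Scheme.Modules.restrictFunctor V.ι).obj N)) : IsZero N := by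
  apply Groth.Agent.Lib.H90QCohLocalization.isZero_of_stalks
  intro x
  have hx : x ∈ U ⊔ V := by rw [hUV]; trivial
  rcases hx with h | h
  · exact Groth.Agent.Lib.ModStalk.subsingleton_stalk_of_isZero_restrict N U hU x h
  · exact Groth.Agent.Lib.ModStalk.subsingleton_stalk_of_isZero_restrict N V hV x h

/-- short exactness is local on a two-set open cover -/
theorem shortExact_of_restrict {U V : X.Opens} (hUV : U ⊔ V = ⊤) (S : ShortComplex X.Modules)
    (hU : (S.map (Scheme.Modules.restrictFunctor U.ι)).ShortExact)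
    (hV : (S.map (Scheme.Modules.restrictFunctor V.ι)).ShortExact) : S.ShortExact := by
  have hcU : PreservesFiniteColimits (Scheme.Modules.restrictFunctor U.ι) :=
    ⟨fun _ _ _ => (Scheme.Modules.restrictAdjunction U.ι).leftAdjoint_preservesColimits.1⟩
  have hcV : PreservesFiniteColimits (Scheme.Modules.restrictFunctor V.ι) :=
    ⟨fun _ _ _ => (Scheme.Modules.restrictAdjunction V.ι).leftAdjoint_preservesColimits.1⟩
  have hmono : Mono S.f := by
    apply Preadditive.mono_of_isZero_kernel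
    apply isZero_of_isZero_restrict hUV
    · have : Mono ((Scheme.Modules.restrictFunctor U.ι).map S.f) := hU.mono_f
      exact (isZero_kernel_of_mono ((Scheme.Modules.restrictFunctor U.ι).map S.f)).of_iso
        (PreservesKernel.iso (Scheme.Modules.restrictFunctor U.ι) S.f)
    · have : Mono ((Scheme.Modules.restrictFunctor V.ι).map S.f) := hV.mono_f
      exact (isZero_kernel_of_mono ((Scheme.Modules.restrictFunctor V.ι).map S.f)).of_iso
        (PreservesKernel.iso (Scheme.Modules.restrictFunctor V.ι) S.f)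
  have hepi : Epi S.g := by
    apply Preadditive.epi_of_isZero_cokernel
    apply isZero_of_isZero_restrict hUV
    · have : Epi ((Scheme.Modules.restrictFunctor U.ι).map S.g) := hU.epi_g
      exact (isZero_cokernel_of_epi ((Scheme.Modules.restrictFunctor U.ι).map S.g)).of_iso
        (PreservesCokernel.iso (Scheme.Modules.restrictFunctor U.ι) S.g)
    · have : Epi ((Scheme.Modules.restrictFunctor V.ι).map S.g) := hV.epi_g
      exact (isZero_cokernel_of_epi ((Scheme.Modules.restrictFunctor V.ι).map S.g)).of_iso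
        (PreservesCokernel.iso (Scheme.Modules.restrictFunctor V.ι) S.g)
  have hex : S.Exact := by
    rw [ShortComplex.exact_iff_isZero_homology]
    apply isZero_of_isZero_restrict hUV
    · exact ((ShortComplex.exact_iff_isZero_homology _).1 hU.exact).of_iso
        (S.mapHomologyIso (Scheme.Modules.restrictFunctor U.ι)).symm
    · exact ((ShortComplex.exact_iff_isZero_homology _).1 hV.exact).of_iso
        (S.mapHomologyIso (Scheme.Modules.restrictFunctor V.ι)).symm
  exact ShortComplex.ShortExact.mk' hex hmono hepi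

/-! ### The short exact sequence `0 → j_{W!} → j_{U!} ⊕ j_{V!} → id → 0` -/

variable (U V : X.Opens)

/-- `M ↦ j_{U!} j_U^* M ⊞ j_{V!} j_V^* M` -/
noncomputable def F₂ : X.Modules ⥤ X.Modules where
  obj M := (F U).obj M ⊞ (F V).obj M
  map φ := biprod.map ((F U).map φ) ((F V).map φ)
  map_id M := by
    apply biprod.hom_ext <;> simp
  map_comp φ ψ := by
    apply biprod.hom_ext <;> simp

instance additive_F₂ : (F₂ U V).Additive where
  map_add {M N φ ψ} := by
    change biprod.map ((F U).map (φ + ψ)) ((F V).map (φ + ψ)) =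
      biprod.map ((F U).map φ) ((F V).map φ) + biprod.map ((F U).map ψ) ((F V).map ψ)
    apply biprod.hom_ext
    · simp only [biprod.map_fst, Preadditive.add_comp, Functor.map_add, Preadditive.comp_add]
    · simp only [biprod.map_snd, Preadditive.add_comp, Functor.map_add, Preadditive.comp_add]

/-- `F_U (F_V M) ⟶ F_U M ⊞ F_V M` -/
noncomputable def aSh : F V ⋙ F U ⟶ F₂ U V where
  app M := biprod.lift ((F U).map ((ε V).app M)) (-(ε U).app ((F V).obj M))
  naturality M N φ := by
    apply biprod.hom_ext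
    · simp only [F₂, Category.assoc, biprod.lift_fst, biprod.map_fst, biprod.lift_fst_assoc]
      change (F U).map ((F V).map φ) ≫ (F U).map ((ε V).app N) =
        (F U).map ((ε V).app M) ≫ (F U).map φ
      rw [← (F U).map_comp, ← (F U).map_comp]
      congr 1
      exact (ε V).naturality φ
    · simp only [F₂, Category.assoc, biprod.lift_snd, biprod.map_snd, biprod.lift_snd_assoc,
        Preadditive.comp_neg, Preadditive.neg_comp, neg_inj]
      exact (ε U).naturality ((F V).map φ)

/-- `F_U M ⊞ F_V M ⟶ M` -/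
noncomputable def bSh : F₂ U V ⟶ 𝟭 X.Modules where
  app M := biprod.desc ((ε U).app M) ((ε V).app M)
  naturality M N φ := by
    apply biprod.hom_ext'
    · simp only [F₂, biprod.inl_map_assoc, biprod.inl_desc, biprod.inl_desc_assoc]
      exact (ε U).naturality φ
    · simp only [F₂, biprod.inr_map_assoc, biprod.inr_desc, biprod.inr_desc_assoc]
      exact (ε V).naturality φ

lemma aSh_bSh (M : X.Modules) : (aSh U V).app M ≫ (bSh U V).app M = 0 := by
  change biprod.lift ((F U).map ((ε V).app M)) (-(ε U).app ((F V).obj M)) ≫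
    biprod.desc ((ε U).app M) ((ε V).app M) = 0
  rw [biprod.lift_desc, Preadditive.neg_comp, add_neg_eq_zero]
  exact (ε U).naturality ((ε V).app M)

lemma isIso_neg' {𝒞 : Type*} [Category* 𝒞] [Preadditive 𝒞] {A B : 𝒞} (f : A ⟶ B) [IsIso f] :
    IsIso (-f) :=
  ⟨-(inv f), by simp, by simp⟩

lemma map_total {𝒞 𝒟 : Type*} [Category* 𝒞] [Category* 𝒟] [Preadditive 𝒞] [Preadditive 𝒟]
    (R : 𝒞 ⥤ 𝒟) [R.Additive] {A B : 𝒞} [HasBinaryBiproduct A B] :
    R.map (biprod.fst : A ⊞ B ⟶ A) ≫ R.map biprod.inl + R.map (biprod.snd : A ⊞ B ⟶ B) ≫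
      R.map biprod.inr = 𝟙 (R.obj (A ⊞ B)) := by
  rw [← R.map_comp, ← R.map_comp, ← R.map_add, biprod.total, R.map_id]

theorem shortExact_sh (hUV : U ⊔ V = ⊤) (M : X.Modules) :
    (ShortComplex.mk ((aSh U V).app M) ((bSh U V).app M) (aSh_bSh U V M)).ShortExact := by
  have h1 : (aSh U V).app M ≫ (biprod.snd : (F U).obj M ⊞ (F V).obj M ⟶ _) =
      -(ε U).app ((F V).obj M) := biprod.lift_snd _ _
  have h2 : (biprod.inl : _ ⟶ (F U).obj M ⊞ (F V).obj M) ≫ (bSh U V).app M = (ε U).app M :=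
    biprod.inl_desc _ _
  have h3 : (aSh U V).app M ≫ (biprod.fst : (F U).obj M ⊞ (F V).obj M ⟶ _) =
      (F U).map ((ε V).app M) := biprod.lift_fst _ _
  have h4 : (biprod.inr : _ ⟶ (F U).obj M ⊞ (F V).obj M) ≫ (bSh U V).app M = (ε V).app M :=
    biprod.inr_desc _ _
  apply shortExact_of_restrict hUV
  · let R := Scheme.Modules.restrictFunctor U.ι
    refine shortExact_of_bicone _
      (R.map (biprod.inl : _ ⟶ (F U).obj M ⊞ (F V).obj M))
      (R.map (biprod.inr : _ ⟶ (F U).obj M ⊞ (F V).obj M))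
      (R.map (biprod.fst : (F U).obj M ⊞ (F V).obj M ⟶ _))
      (R.map (biprod.snd : (F U).obj M ⊞ (F V).obj M ⟶ _)) ?_ ?_ ?_
    · exact map_total R
    · have : IsIso (R.map ((aSh U V).app M ≫
          (biprod.snd : (F U).obj M ⊞ (F V).obj M ⟶ _))) := by
        rw [h1, Functor.map_neg]
        exact isIso_neg' _
      rw [R.map_comp] at this
      exact this
    · have : IsIso (R.map ((biprod.inl : _ ⟶ (F U).obj M ⊞ (F V).obj M) ≫
          (bSh U V).app M)) := by
        rw [h2]
        infer_instance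
      rw [R.map_comp] at this
      exact this
  · let R := Scheme.Modules.restrictFunctor V.ι
    refine shortExact_of_bicone _
      (R.map (biprod.inr : _ ⟶ (F U).obj M ⊞ (F V).obj M))
      (R.map (biprod.inl : _ ⟶ (F U).obj M ⊞ (F V).obj M))
      (R.map (biprod.snd : (F U).obj M ⊞ (F V).obj M ⟶ _))
      (R.map (biprod.fst : (F U).obj M ⊞ (F V).obj M ⟶ _)) ?_ ?_ ?_
    · have := map_total R (A := (F U).obj M) (B := (F V).obj M)
      rw [add_comm] at this
      exact this
    · have : IsIso (R.map ((aSh U V).app M ≫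
          (biprod.fst : (F U).obj M ⊞ (F V).obj M ⟶ _))) := by
        rw [h3]
        exact isIso_restrict_F_map U V _ (isIso_restrict_ε V M)
      rw [R.map_comp] at this
      exact this
    · have : IsIso (R.map ((biprod.inr : _ ⟶ (F U).obj M ⊞ (F V).obj M) ≫
          (bSh U V).app M)) := by
        rw [h4]
        infer_instance
      rw [R.map_comp] at this
      exact this

/-- `j_{W!} j_W^* ≅ j_{U!} j_U^* j_{V!} j_V^*` for `W = U ⊓ V` -/
noncomputable def fInfIso : F (U ⊓ V) ≅ F V ⋙ F U :=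
  Adjunction.leftAdjointUniq ((adjFG (U ⊓ V)).ofNatIsoRight (gInfIso U V))
    ((adjFG V).comp (adjFG U))

open Groth.Agent.Lib.RDFCrit66 Groth.Agent.Lib.MVDer66 in
/-- `j_!(E|_U)` computed termwise on a representing complex -/
noncomputable def extZeroDRestrictDIso (W : X.Opens) [PreservesFiniteLimits (CxOX.extZero W.ι)]
    (K : CochainComplex X.Modules ℤ) :
    (CxOX.extZeroD W.ι).obj ((DCoh.restrictD W.ι).obj (DerivedCategory.Q.obj K)) ≅
      DerivedCategory.Q.obj (((F W).mapHomologicalComplex (ComplexShape.up ℤ)).obj K) :=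
  (CxOX.extZeroD W.ι).mapIso
      ((Scheme.Modules.restrictFunctor W.ι).mapDerivedCategoryFactors.app K) ≪≫
    (CxOX.extZero W.ι).mapDerivedCategoryFactors.app _

open Groth.Agent.Lib.RDFCrit66 Groth.Agent.Lib.MVDer66 in
/-- **Mayer–Vietoris triangle for `j_!`.** -/
theorem exists_shriek_mv_triangle (hUV : U ⊔ V = ⊤)
    [PreservesFiniteLimits (CxOX.extZero U.ι)] [PreservesFiniteLimits (CxOX.extZero V.ι)]
    [PreservesFiniteLimits (CxOX.extZero (U ⊓ V).ι)] (E : DCoh.D X) :
    ∃ (a : (CxOX.extZeroD (U ⊓ V).ι).obj ((DCoh.restrictD (U ⊓ V).ι).obj E) ⟶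
        ((CxOX.extZeroD U.ι).obj ((DCoh.restrictD U.ι).obj E) ⊞
          (CxOX.extZeroD V.ι).obj ((DCoh.restrictD V.ι).obj E)))
      (b : ((CxOX.extZeroD U.ι).obj ((DCoh.restrictD U.ι).obj E) ⊞
          (CxOX.extZeroD V.ι).obj ((DCoh.restrictD V.ι).obj E)) ⟶ E)
      (c : E ⟶ ((CxOX.extZeroD (U ⊓ V).ι).obj ((DCoh.restrictD (U ⊓ V).ι).obj E))⟦(1 : ℤ)⟧),
      Triangle.mk a b c ∈ distTriang (DCoh.D X) := by
  let c := ComplexShape.up ℤ
  let K := DerivedCategory.Q.objPreimage E
  let eK : DerivedCategory.Q.obj K ≅ E := DerivedCategory.Q.objObjPreimageIso E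
  obtain ⟨δ, hT⟩ := exists_distinguished_of_ses (aSh U V) (bSh U V) (aSh_bSh U V)
    (shortExact_sh U V hUV) K
  let fstN : F₂ U V ⟶ F U := { app := fun _ => biprod.fst, naturality := fun _ _ _ => biprod.map_fst _ _ }
  let sndN : F₂ U V ⟶ F V := { app := fun _ => biprod.snd, naturality := fun _ _ _ => biprod.map_snd _ _ }
  let inlN : F U ⟶ F₂ U V :=
    { app := fun _ => biprod.inl, naturality := fun _ _ _ => (biprod.inl_map _ _).symm }
  let inrN : F V ⟶ F₂ U V :=
    { app := fun _ => biprod.inr, naturality := fun _ _ _ => (biprod.inr_map _ _).symm }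
  refine exists_triangle_of_isos _ hT ?_ ?_ ?_
  · exact (CxOX.extZeroD (U ⊓ V).ι).mapIso ((DCoh.restrictD (U ⊓ V).ι).mapIso eK.symm) ≪≫
      extZeroDRestrictDIso (U ⊓ V) K ≪≫
      DerivedCategory.Q.mapIso ((NatIso.mapHomologicalComplex (fInfIso U V) c).app K)
  · exact biprod.mapIso
        ((CxOX.extZeroD U.ι).mapIso ((DCoh.restrictD U.ι).mapIso eK.symm) ≪≫
          extZeroDRestrictDIso U K)
        ((CxOX.extZeroD V.ι).mapIso ((DCoh.restrictD V.ι).mapIso eK.symm) ≪≫
          extZeroDRestrictDIso V K) ≪≫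
      (biprodObjIso fstN sndN inlN inrN (fun _ => biprod.inl_fst) (fun _ => biprod.inl_snd)
        (fun _ => biprod.inr_fst) (fun _ => biprod.inr_snd) (fun _ => biprod.total)
        (𝟭 (DerivedCategory X.Modules)) K).symm
  · exact eK.symm ≪≫ DerivedCategory.Q.mapIso
      ((Functor.mapHomologicalComplexIdIso X.Modules c).app K).symm

end Scheme

end Groth.Agent.Lib.ShriekMV66
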