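import Mathlib

/-!
# A generic "refine one block of a shuffle" bijection

`ι₁ : Fin a → Fin n` and `ι₂ : Fin b → Fin n` are strictly monotone maps whose images cover
`Fin n`; `ext : Perm (Fin a) → Perm (Fin n)` extends a permutation of the first block by the
identity on the second block.  `B` is a predicate on maps out of `Fin a` invariant under
post-composition with strictly monotone maps (e.g. "monotone on given sub-blocks").
-/

namespace Groth.Agent.Lib.ShuffleBij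

open Equiv

section

variable {n a b : ℕ} (ι₁ : Fin a → Fin n) (ι₂ : Fin b → Fin n)
  (ext : Perm (Fin a) → Perm (Fin n))

theorem ext_mul (hcov : ∀ x, (∃ j, ι₁ j = x) ∨ (∃ i, ι₂ i = x))
    (E1 : ∀ σ j, ext σ (ι₁ j) = ι₁ (σ j)) (E2 : ∀ σ i, ext σ (ι₂ i) = ι₂ i)
    (σ ρ : Perm (Fin a)) : ext (σ * ρ) = ext σ * ext ρ := by
  refine Equiv.ext fun x => ?_
  rcases hcov x with ⟨j, rfl⟩ | ⟨i, rfl⟩
  · simp [E1]
  · simp [E2]

theorem ext_one (hcov : ∀ x, (∃ j, ι₁ j = x) ∨ (∃ i, ι₂ i = x))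
    (E1 : ∀ σ j, ext σ (ι₁ j) = ι₁ (σ j)) (E2 : ∀ σ i, ext σ (ι₂ i) = ι₂ i) :
    ext 1 = 1 := by
  refine Equiv.ext fun x => ?_
  rcases hcov x with ⟨j, rfl⟩ | ⟨i, rfl⟩
  · simp [E1]
  · simp [E2]

theorem ext_inv (hcov : ∀ x, (∃ j, ι₁ j = x) ∨ (∃ i, ι₂ i = x))
    (E1 : ∀ σ j, ext σ (ι₁ j) = ι₁ (σ j)) (E2 : ∀ σ i, ext σ (ι₂ i) = ι₂ i)
    (σ : Perm (Fin a)) : ext σ⁻¹ = (ext σ)⁻¹ := by
  apply eq_inv_of_mul_eq_one_left
  rw [← ext_mul ι₁ ι₂ ext hcov E1 E2, inv_mul_cancel, ext_one ι₁ ι₂ ext hcov E1 E2]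

theorem ext_injective (h₁ : Function.Injective ι₁)
    (E1 : ∀ σ j, ext σ (ι₁ j) = ι₁ (σ j)) : Function.Injective ext := by
  intro σ ρ h
  refine Equiv.ext fun j => h₁ ?_
  rw [← E1, ← E1, h]

theorem perm_eq_one_of_strictMono {a : ℕ} (ρ : Perm (Fin a)) (hρ : StrictMono ρ) : ρ = 1 := by
  have h : hρ.orderIsoOfSurjective ρ ρ.surjective = OrderIso.refl (Fin a) := Subsingleton.elim _ _
  refine Equiv.ext fun j => ?_
  have := congrArg (fun f : Fin a ≃o Fin a => f j) h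
  simpa using this

theorem bijOn (h₁ : StrictMono ι₁) (hcov : ∀ x, (∃ j, ι₁ j = x) ∨ (∃ i, ι₂ i = x))
    (E1 : ∀ σ j, ext σ (ι₁ j) = ι₁ (σ j)) (E2 : ∀ σ i, ext σ (ι₂ i) = ι₂ i)
    (B : ∀ {α : Type} [LinearOrder α], (Fin a → α) → Prop)
    (hB : ∀ {α β : Type} [LinearOrder α] [LinearOrder β] (g : Fin a → α) (h : α → β),
      StrictMono h → (B (h ∘ g) ↔ B g)) :
    Set.BijOn (fun p : Perm (Fin n) × Perm (Fin a) => p.1 * ext p.2)
      ({τ | Monotone (fun j => τ (ι₁ j)) ∧ Monotone (fun i => τ (ι₂ i))} ×ˢ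
        {σ | B (fun j => σ j)})
      {ν | B (fun j => ν (ι₁ j)) ∧ Monotone (fun i => ν (ι₂ i))} := by
  have hmul := ext_mul ι₁ ι₂ ext hcov E1 E2
  have hinv := ext_inv ι₁ ι₂ ext hcov E1 E2
  refine ⟨?_, ?_, ?_⟩
  · rintro ⟨τ, σ⟩ ⟨⟨hτ₁, hτ₂⟩, hσ⟩
    simp only [Set.mem_ofPred_eq] at hσ
    refine ⟨?_, ?_⟩
    · have hs : StrictMono (fun j => τ (ι₁ j)) :=
        hτ₁.strictMono_of_injective (τ.injective.comp h₁.injective)
      have : (fun j => (τ * ext σ) (ι₁ j)) = (fun j => τ (ι₁ j)) ∘ (fun j => σ j) := by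
        funext j; simp [E1]
      rw [this, hB _ _ hs]
      exact hσ
    · have : (fun i => (τ * ext σ) (ι₂ i)) = fun i => τ (ι₂ i) := by
        funext i; simp [E2]
      rw [this]; exact hτ₂
  · rintro ⟨τ₁, σ₁⟩ ⟨⟨hτ₁, -⟩, -⟩ ⟨τ₂, σ₂⟩ ⟨⟨hτ₂, -⟩, -⟩ h
    simp only at h
    have hs₁ : StrictMono (fun j => τ₁ (ι₁ j)) :=
      hτ₁.strictMono_of_injective (τ₁.injective.comp h₁.injective)
    have hs₂ : StrictMono (fun j => τ₂ (ι₁ j)) :=
      hτ₂.strictMono_of_injective (τ₂.injective.comp h₁.injective)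
    have hτ : τ₁ = τ₂ * ext (σ₂ * σ₁⁻¹) := by
      rw [hmul, hinv, ← mul_assoc, ← h, mul_inv_cancel_right]
    have hρ : StrictMono (σ₂ * σ₁⁻¹) := by
      intro i j hij
      have := hs₁ hij
      simp only [hτ, Perm.coe_mul, Function.comp_apply, E1] at this
      exact hs₂.lt_iff_lt.1 this
    have hρ1 := perm_eq_one_of_strictMono _ hρ
    have hσ : σ₂ = σ₁ := by
      rw [mul_inv_eq_one] at hρ1; exact hρ1
    rw [hρ1, ext_one ι₁ ι₂ ext hcov E1 E2, mul_one] at hτ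
    rw [hτ, hσ]
  · rintro ν ⟨hν₁, hν₂⟩
    classical
    have hinj : Function.Injective (fun j => ν (ι₁ j)) := ν.injective.comp h₁.injective
    let S : Finset (Fin n) := Finset.univ.image (fun j => ν (ι₁ j))
    have hcard : S.card = a := by
      rw [Finset.card_image_of_injective _ hinj, Finset.card_univ, Fintype.card_fin]
    let oiso : Fin a ≃o S := S.orderIsoOfFin hcard
    let e' : Fin a → S := fun j => ⟨ν (ι₁ j), Finset.mem_image_of_mem _ (Finset.mem_univ j)⟩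
    have he' : Function.Bijective e' := by
      refine ⟨fun i j hij => hinj (congrArg Subtype.val hij), ?_⟩
      rintro ⟨x, hx⟩
      obtain ⟨j, -, rfl⟩ := Finset.mem_image.1 hx
      exact ⟨j, rfl⟩
    let σ : Perm (Fin a) := (Equiv.ofBijective e' he').trans oiso.symm.toEquiv
    have hσ : ∀ j, (oiso (σ j) : Fin n) = ν (ι₁ j) := by
      intro j
      simp [σ, e']
    refine ⟨(ν * (ext σ)⁻¹, σ), ⟨⟨?_, ?_⟩, ?_⟩, ?_⟩
    · have : (fun j => (ν * (ext σ)⁻¹) (ι₁ j)) = fun j => (oiso j : Fin n) := by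
        funext j
        rw [← hinv, Perm.mul_apply, E1, ← hσ]; simp
      rw [this]
      exact fun i j hij => oiso.monotone hij
    · have : (fun i => (ν * (ext σ)⁻¹) (ι₂ i)) = fun i => ν (ι₂ i) := by
        funext i
        rw [← hinv, Perm.mul_apply, E2]
      rw [this]; exact hν₂
    · show B (fun j => σ j)
      have h1 : (fun j => σ j) = oiso.symm ∘ e' := by
        funext j; simp [σ]
      have h2 : (fun j => ν (ι₁ j)) = Subtype.val ∘ e' := rfl
      rw [h1, hB _ _ oiso.symm.strictMono]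
      rw [h2, hB _ _ (Subtype.strictMono_coe _)] at hν₁
      exact hν₁
    · simp

end

end Groth.Agent.Lib.ShuffleBij
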