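import Groth.Agent.Lib.Sib65Res

/-!
# Shifted versions of an isomorphism `singleB ⋙ F ≅ singleB ⋙ F'`
-/

universe w v u v' u'

open CategoryTheory Category Limits DerivedCategory Pretriangulated

namespace Groth.Agent.Lib.Sib65

variable {A : Type u} [Category.{v} A] [Abelian A] [HasDerivedCategory.{w} A]
  {D : Type u'} [Category.{v'} D] [HasShift D ℤ]
  (F F' : DerivedCategory.Bounded A ⥤ D) [F.CommShift ℤ] [F'.CommShift ℤ]
  (α : DEquiv.singleB A ⋙ F ≅ DEquiv.singleB A ⋙ F')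

/-- The commutation of `F` with the shift, on a single object. -/
noncomputable def FσIso (s : ℤ) (M : A) :
    F.obj ((σ A s).obj M) ≅ (F.obj ((DEquiv.singleB A).obj M))⟦s⟧ :=
  (F.commShiftIso s).app ((DEquiv.singleB A).obj M)

/-- The isomorphism `F(M⟦s⟧) ≅ F'(M⟦s⟧)` induced by `α`. -/
noncomputable def αs (s : ℤ) : σ A s ⋙ F ≅ σ A s ⋙ F' :=
  NatIso.ofComponents (fun M => (F.commShiftIso s).app ((DEquiv.singleB A).obj M) ≪≫
    (shiftFunctor D s).mapIso (α.app M) ≪≫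
    ((F'.commShiftIso s).app ((DEquiv.singleB A).obj M)).symm) (by
    intro M M' f
    have h1 := α.hom.naturality f
    dsimp [σ] at h1 ⊢
    simp only [assoc]
    rw [Functor.commShiftIso_hom_naturality_assoc, ← Functor.commShiftIso_inv_naturality,
      ← Functor.map_comp_assoc, h1, Functor.map_comp_assoc])

lemma αs_hom_app (s : ℤ) (M : A) :
    (αs F F' α s).hom.app M = (F.commShiftIso s).hom.app ((DEquiv.singleB A).obj M) ≫
      (α.hom.app M)⟦s⟧' ≫ (F'.commShiftIso s).inv.app ((DEquiv.singleB A).obj M) := rfl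

/-- `M⟦s'⟧ ≅ M⟦s⟧⟦1⟧` when `s + 1 = s'`. -/
noncomputable def σShift (s s' : ℤ) (h : s + 1 = s') (M : A) :
    (σ A s').obj M ≅ ((σ A s).obj M)⟦(1 : ℤ)⟧ :=
  (shiftFunctorAdd' (DerivedCategory.Bounded A) s 1 s' h).app ((DEquiv.singleB A).obj M)

lemma αs_shift (s s' : ℤ) (h : s + 1 = s') (M : A) :
    (αs F F' α s').hom.app M ≫ F'.map (σShift s s' h M).hom ≫
      (F'.commShiftIso (1 : ℤ)).hom.app ((σ A s).obj M) =
    F.map (σShift s s' h M).hom ≫ (F.commShiftIso (1 : ℤ)).hom.app ((σ A s).obj M) ≫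
      ((αs F F' α s).hom.app M)⟦(1 : ℤ)⟧' := by
  have hF := congr_arg (fun e => e.hom.app ((DEquiv.singleB A).obj M)) (F.commShiftIso_add' h)
  have hF' := congr_arg (fun e => e.hom.app ((DEquiv.singleB A).obj M)) (F'.commShiftIso_add' h)
  simp only [Functor.CommShift.isoAdd'_hom_app] at hF hF'
  rw [αs_hom_app, αs_hom_app]
  dsimp [σShift, σ] at hF hF' ⊢
  have key' : (F'.commShiftIso s').inv.app ((DEquiv.singleB A).obj M) ≫
      F'.map ((shiftFunctorAdd' (DerivedCategory.Bounded A) s 1 s' h).hom.app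
        ((DEquiv.singleB A).obj M)) ≫
      (F'.commShiftIso (1 : ℤ)).hom.app ((shiftFunctor (DerivedCategory.Bounded A) s).obj
        ((DEquiv.singleB A).obj M)) =
      (shiftFunctorAdd' D s 1 s' h).hom.app (F'.obj ((DEquiv.singleB A).obj M)) ≫
        (shiftFunctor D 1).map ((F'.commShiftIso s).inv.app ((DEquiv.singleB A).obj M)) := by
    rw [← cancel_epi ((F'.commShiftIso s').hom.app ((DEquiv.singleB A).obj M)),
      Iso.hom_inv_id_app_assoc, hF']
    simp only [assoc, Iso.inv_hom_id_app_assoc, ← Functor.map_comp, Iso.hom_inv_id_app]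
    erw [CategoryTheory.Functor.map_id, comp_id]
  have nat := (shiftFunctorAdd' D s 1 s' h).hom.naturality (α.hom.app M)
  dsimp at nat
  simp only [assoc]
  rw [key', hF]
  simp only [assoc, Functor.map_comp]
  rw [reassoc_of% nat]
  simp only [Iso.inv_hom_id_app_assoc]

/-- The components of `αs`, with explicit source and target. -/
noncomputable def αsApp (s : ℤ) (M : A) : F.obj ((σ A s).obj M) ≅ F'.obj ((σ A s).obj M) :=
  (αs F F' α s).app M

lemma αsApp_naturality (s : ℤ) {M M' : A} (f : M ⟶ M') :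
    F.map ((σ A s).map f) ≫ (αsApp F F' α s M').hom =
      (αsApp F F' α s M).hom ≫ F'.map ((σ A s).map f) :=
  (αs F F' α s).hom.naturality f

lemma αsApp_shift (s s' : ℤ) (h : s + 1 = s') (M : A) :
    (αsApp F F' α s' M).hom ≫ F'.map (σShift s s' h M).hom ≫
      (F'.commShiftIso (1 : ℤ)).hom.app ((σ A s).obj M) =
    F.map (σShift s s' h M).hom ≫ (F.commShiftIso (1 : ℤ)).hom.app ((σ A s).obj M) ≫
      ((αsApp F F' α s M).hom)⟦(1 : ℤ)⟧' :=
  αs_shift F F' α s s' h M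

section Vanishing

variable [Preadditive D] [∀ n : ℤ, (shiftFunctor D n).Additive]

omit [F'.CommShift ℤ] in
/-- Negative `Hom` vanishing for the images of shifted single objects. -/
lemma hom_F_σ_eq_zero
    (h2 : ∀ (X Y : A) (q : ℤ), q < 0 →
      ∀ f : F.obj ((DEquiv.singleB A).obj X) ⟶
        (shiftFunctor D q).obj (F.obj ((DEquiv.singleB A).obj Y)), f = 0)
    (s t : ℤ) (hst : t < s) (N M : A)
    (ψ : F.obj ((σ A s).obj N) ⟶ F.obj ((σ A t).obj M)) : ψ = 0 := by
  let e : (F.obj ((DEquiv.singleB A).obj M))⟦t⟧ ≅ ((F.obj ((DEquiv.singleB A).obj M))⟦t - s⟧)⟦s⟧ :=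
    (shiftFunctorAdd' D (t - s) s t (by omega)).app (F.obj ((DEquiv.singleB A).obj M))
  let ψ'' : (F.obj ((DEquiv.singleB A).obj N))⟦s⟧ ⟶
      ((F.obj ((DEquiv.singleB A).obj M))⟦t - s⟧)⟦s⟧ :=
    (FσIso F s N).inv ≫ ψ ≫ (FσIso F t M).hom ≫ e.hom
  obtain ⟨ψ₀, hψ₀⟩ := (shiftFunctor D s).map_surjective ψ''
  have h0 : ψ'' = 0 := by
    rw [← hψ₀, h2 N M (t - s) (by omega) ψ₀, Functor.map_zero]
  rw [← cancel_epi (FσIso F s N).inv, ← cancel_mono ((FσIso F t M).hom ≫ e.hom), comp_zero,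
    zero_comp, assoc]
  exact h0

end Vanishing

end Groth.Agent.Lib.Sib65
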