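import Mathlib.Algebra.Homology.DerivedCategory.TStructure
import Mathlib.Algebra.Homology.DerivedCategory.FullyFaithful
import Mathlib.Algebra.Homology.DerivedCategory.Ext.EnoughProjectives

/-!
# Effaceability of morphisms from a single object to a lower object in the derived category
-/

universe w v u

open CategoryTheory Category Limits

namespace Groth.Agent.Lib.Sib65

variable {C : Type u} [Category.{v} C] [Abelian C]

open HomologicalComplex

/-- For a cochain complex `K` with `K.X (b+1) = 0`, the inclusion of `K.X b` placed in degree `b`. -/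
noncomputable def topMap (K : CochainComplex C ℤ) (b : ℤ) [K.IsStrictlyLE b] :
    (CochainComplex.singleFunctor C b).obj (K.X b) ⟶ K :=
  mkHomFromSingle (𝟙 (K.X b)) (by
    rintro _ rfl
    apply (K.isZero_of_isStrictlyLE b (b + 1) (by simp)).eq_of_tgt)

lemma topMap_f (K : CochainComplex C ℤ) (b : ℤ) [K.IsStrictlyLE b] :
    (topMap K b).f b = (singleObjXSelf (ComplexShape.up ℤ) b (K.X b)).hom := by
  simp [topMap, CochainComplex.singleFunctor, CochainComplex.singleFunctors]

lemma epi_homologyMap_topMap (K : CochainComplex C ℤ) (b : ℤ) [K.IsStrictlyLE b] :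
    Epi (homologyMap (topMap K b) b) := by
  have h1 : IsIso (K.iCycles b) := K.isIso_iCycles b (b + 1) (by simp)
    ((K.isZero_of_isStrictlyLE b (b + 1) (by simp)).eq_of_tgt _ _)
  have h2 : IsIso (cyclesMap (topMap K b) b) := by
    have : IsIso (cyclesMap (topMap K b) b ≫ K.iCycles b) := by
      rw [cyclesMap_i, topMap_f]
      exact (singleObjCyclesSelfIso (ComplexShape.up ℤ) b (K.X b)).isIso_hom
    exact IsIso.of_isIso_comp_right _ (K.iCycles b)
  have h3 : Epi (((CochainComplex.singleFunctor C b).obj (K.X b)).homologyπ b ≫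
      homologyMap (topMap K b) b) := by
    rw [homologyπ_naturality]
    infer_instance
  exact epi_of_epi (((CochainComplex.singleFunctor C b).obj (K.X b)).homologyπ b) _

set_option backward.defeqAttrib.useBackward true in
set_option backward.isDefEq.respectTransparency false in
/-- A quasi-isomorphism (in degree `i`) from a complex `K` which is strictly `≤ i` to the
single complex of `N` in degree `i` is an epimorphism in degree `i`. -/
lemma epi_f_of_quasiIsoAt_single {N : C} {K : CochainComplex C ℤ} {i : ℤ}
    (π : K ⟶ (CochainComplex.singleFunctor C i).obj N) [K.IsStrictlyLE i] [QuasiIsoAt π i] :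
    Epi (π.f i ≫ (singleObjXSelf (ComplexShape.up ℤ) i N).hom) := by
  let e := K.iCyclesIso i (i + 1) (by simp)
    ((K.isZero_of_isStrictlyLE i (i + 1) (by simp)).eq_of_tgt _ _)
  let α := e.inv ≫ K.homologyπ i ≫ homologyMap π i ≫ (singleObjHomologySelfIso _ _ _).hom
  have : π.f i = α ≫ (singleObjXSelf (ComplexShape.up ℤ) i N).inv := by
    rw [← cancel_epi e.hom]
    dsimp [α, e]
    rw [assoc, assoc, assoc, iCyclesIso_hom_inv_id_assoc,
      homologyπ_naturality_assoc]
    dsimp [CochainComplex.singleFunctor, CochainComplex.singleFunctors]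
    rw [homologyπ_singleObjHomologySelfIso_hom_assoc,
      ← singleObjCyclesSelfIso_inv_iCycles, Iso.hom_inv_id_assoc, ← cyclesMap_i]
  rw [this, assoc, Iso.inv_hom_id, comp_id]
  dsimp [α]
  infer_instance

lemma topMap_comp_to_single {N : C} {K : CochainComplex C ℤ} {i : ℤ}
    (π : K ⟶ (CochainComplex.singleFunctor C i).obj N) [K.IsStrictlyLE i] :
    topMap K i ≫ π = (CochainComplex.singleFunctor C i).map
      (π.f i ≫ (singleObjXSelf (ComplexShape.up ℤ) i N).hom) := by
  apply HomologicalComplex.from_single_hom_ext
  rw [comp_f, topMap_f]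
  dsimp [CochainComplex.singleFunctor, CochainComplex.singleFunctors]
  rw [single_map_f_self]
  simp

end Groth.Agent.Lib.Sib65

namespace Groth.Agent.Lib.Sib65

variable {C : Type u} [Category.{v} C] [Abelian C] [HasDerivedCategory.{w} C]

open HomologicalComplex DerivedCategory

/-- Effaceability, complex level: a morphism in the derived category from a single object
in degree `i` to a complex which is strictly `≤ n` with `n < i` is killed by an epimorphism. -/
lemma exists_epi_comp_eq_zero_Q {N : C} {L : CochainComplex C ℤ} {i : ℤ}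
    (φ : Q.obj ((CochainComplex.singleFunctor C i).obj N) ⟶ Q.obj L)
    (n : ℤ) (hn : n < i) [L.IsStrictlyLE n] :
    ∃ (N' : C) (p : N' ⟶ N), Epi p ∧
      Q.map ((CochainComplex.singleFunctor C i).map p) ≫ φ = 0 := by
  obtain ⟨K, _, π, h, g, rfl⟩ := right_fac_of_isStrictlyLE φ i
  have hπ : QuasiIso π := by rwa [isIso_Q_map_iff_quasiIso] at h
  refine ⟨K.X i, π.f i ≫ (singleObjXSelf (ComplexShape.up ℤ) i N).hom,
    epi_f_of_quasiIsoAt_single π, ?_⟩
  have h₂ : topMap K i ≫ g = 0 := by
    apply HomologicalComplex.from_single_hom_ext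
    apply (L.isZero_of_isStrictlyLE n i hn).eq_of_tgt
  rw [← topMap_comp_to_single, Q.map_comp, assoc, IsIso.hom_inv_id_assoc, ← Q.map_comp, h₂,
    Q.map_zero]

/-- Effaceability: a morphism in the derived category from a single object
in degree `i` to an object which is `≤ n` with `n < i` is killed by an epimorphism. -/
lemma exists_epi_comp_eq_zero {N : C} {Z : DerivedCategory C} {i : ℤ}
    (φ : (DerivedCategory.singleFunctor C i).obj N ⟶ Z)
    (n : ℤ) (hn : n < i) [Z.IsLE n] :
    ∃ (N' : C) (p : N' ⟶ N), Epi p ∧ (DerivedCategory.singleFunctor C i).map p ≫ φ = 0 := by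
  obtain ⟨L, _, ⟨e⟩⟩ := Z.exists_iso_Q_obj_of_isLE n
  obtain ⟨N', p, hp, h⟩ := exists_epi_comp_eq_zero_Q (N := N) (i := i) (φ ≫ e.hom) n hn
  refine ⟨N', p, hp, ?_⟩
  rw [← cancel_mono e.hom, zero_comp, assoc]
  exact h

end Groth.Agent.Lib.Sib65

namespace Groth.Agent.Lib.Sib65

variable {C : Type u} [Category.{v} C] [Abelian C] [HasDerivedCategory.{w} C]

open HomologicalComplex DerivedCategory

lemma epi_homology_map_single_map {M N : C} (q : M ⟶ N) [Epi q] (b : ℤ) :
    Epi ((DerivedCategory.homologyFunctor C b).map ((DerivedCategory.singleFunctor C b).map q)) := by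
  have h := NatIso.naturality_2 (singleFunctorCompHomologyFunctorIso C b) q
  dsimp at h
  rw [← h]
  infer_instance

/-- Any object of the derived category which is `≤ b` receives a morphism from a single object
in degree `b` which is an epimorphism on `H^b`. -/
lemma exists_from_single_epi_homology (X : DerivedCategory C) (b : ℤ) [X.IsLE b] :
    ∃ (N : C) (g : (DerivedCategory.singleFunctor C b).obj N ⟶ X),
      Epi ((DerivedCategory.homologyFunctor C b).map g) := by
  obtain ⟨K, _, ⟨e⟩⟩ := X.exists_iso_Q_obj_of_isLE b
  refine ⟨K.X b, (singleFunctorIsoCompQ C b).hom.app (K.X b) ≫ Q.map (topMap K b) ≫ e.inv, ?_⟩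
  rw [Functor.map_comp, Functor.map_comp]
  have : Epi ((DerivedCategory.homologyFunctor C b).map (Q.map (topMap K b))) := by
    have h := NatIso.naturality_2 (homologyFunctorFactors C b) (topMap K b)
    dsimp at h
    rw [← h]
    have : Epi ((HomologicalComplex.homologyFunctor C (ComplexShape.up ℤ) b).map (topMap K b)) :=
      epi_homologyMap_topMap K b
    infer_instance
  infer_instance

end Groth.Agent.Lib.Sib65
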