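import Groth.Agent.Lib.Sib65Main

/-!
# Compatibility of `α` with all morphisms between shifted single objects
-/

universe w v u v' u'

open CategoryTheory Category Limits DerivedCategory Pretriangulated

namespace Groth.Agent.Lib.Sib65

variable {A : Type u} [Category.{v} A] [Abelian A] [HasDerivedCategory.{w} A]

lemma epi_homology_σ_map (s b : ℤ) (h : s + b = 0) {M N : A} (p : M ⟶ N) [Epi p] :
    Epi ((DerivedCategory.homologyFunctor A b).map ((σ A s).map p).hom) := by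
  have h1 := NatIso.naturality_2 (σHomologyIso s b h) p
  dsimp at h1
  rw [← h1]
  infer_instance

set_option backward.defeqAttrib.useBackward true in
/-- The distinguished triangle attached to an epimorphism in `A` (shifted by `s`). -/
lemma exists_ses_triangle (s : ℤ) {N' N : A} (p : N' ⟶ N) [Epi p] :
    ∃ (P : A) (i : P ⟶ N') (δ : (σ A s).obj N ⟶ ((σ A s).obj P)⟦(1 : ℤ)⟧),
      Triangle.mk ((σ A s).map i) ((σ A s).map p) δ ∈
        distTriang (DerivedCategory.Bounded A) := by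
  obtain ⟨Z, f, h, hT⟩ := distinguished_cocone_triangle₁ ((σ A s).map p)
  have hrot := rot_of_distTriang _ hT
  have hs : s + (-s) = 0 := by omega
  have := σ_isLE s (-s) hs N
  have := σ_isGE s (-s) hs N
  have : ((σ A s).obj N).obj.IsGE (-s - 1) := TStructure.t.isGE_of_ge _ (-s - 1) (-s) (by omega)
  have h1 : (Z⟦(1 : ℤ)⟧).obj.IsLE (-s - 1) :=
    cone_isLE hs ((σ A s).map p) h (-f⟦(1 : ℤ)⟧') hrot (epi_homology_σ_map s (-s) hs p)
  have h2 : (Z⟦(1 : ℤ)⟧).obj.IsGE (-s - 1) :=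
    cone_isGE hs ((σ A s).map p) h (-f⟦(1 : ℤ)⟧') hrot (-s - 1) le_rfl
  have e : (Z⟦(1 : ℤ)⟧).obj ≅ (Z.obj)⟦(1 : ℤ)⟧ := (DerivedCategory.Bounded.ι.commShiftIso (1 : ℤ)).app Z
  have h1' : ((Z.obj)⟦(1 : ℤ)⟧).IsLE (-s - 1) := TStructure.t.isLE_of_iso e _
  have h2' : ((Z.obj)⟦(1 : ℤ)⟧).IsGE (-s - 1) := TStructure.t.isGE_of_iso e _
  have h3 : Z.obj.IsLE (-s) := (TStructure.t.isLE_shift_iff Z.obj (-s) 1 (-s - 1) (by omega)).1 h1'
  have h4 : Z.obj.IsGE (-s) := (TStructure.t.isGE_shift_iff Z.obj (-s) 1 (-s - 1) (by omega)).1 h2'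
  obtain ⟨P, ⟨θ⟩⟩ := exists_iso_σ Z s (-s) hs
  obtain ⟨i, hi⟩ := (σ A s).map_surjective (θ.inv ≫ f)
  refine ⟨P, i, h ≫ θ.hom⟦(1 : ℤ)⟧', isomorphic_distinguished _ hT _
    (Triangle.isoMk _ _ θ.symm (Iso.refl _) (Iso.refl _) ?_ ?_ ?_)⟩
  · dsimp
    rw [hi, comp_id]
  · dsimp
    rw [comp_id, id_comp]
  · dsimp
    rw [id_comp, assoc, ← Functor.map_comp, Iso.hom_inv_id, CategoryTheory.Functor.map_id, comp_id]

/-- Effaceability for morphisms from a shifted single object in the bounded derived category. -/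
lemma exists_epi_σ_map_comp_eq_zero (s b : ℤ) (h : s + b = 0) {N : A}
    {K : DerivedCategory.Bounded A} (e : (σ A s).obj N ⟶ K) (n : ℤ) (hn : n < b)
    [K.obj.IsLE n] : ∃ (N' : A) (p : N' ⟶ N), Epi p ∧ (σ A s).map p ≫ e = 0 := by
  obtain ⟨N', p, hp, h₁⟩ := exists_epi_comp_eq_zero ((σIso s b h N).inv ≫ e.hom) n hn
  refine ⟨N', p, hp, ?_⟩
  ext
  have h2 := σIso_hom_naturality s b h p
  have h2' : (σIso s b h N').inv ≫ ((σ A s).map p).hom =
      (DerivedCategory.singleFunctor A b).map p ≫ (σIso s b h N).inv := by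
    rw [← cancel_mono (σIso s b h N).hom, assoc, assoc, Iso.inv_hom_id, comp_id, h2,
      Iso.inv_hom_id_assoc]
  dsimp
  rw [← cancel_epi (σIso s b h N').inv, comp_zero, reassoc_of% h2', h₁]

variable {D : Type u'} [Category.{v'} D] [Preadditive D] [HasZeroObject D] [HasShift D ℤ]
  [∀ n : ℤ, (shiftFunctor D n).Additive] [Pretriangulated D]
  (F F' : DerivedCategory.Bounded A ⥤ D) [F.CommShift ℤ] [F.IsTriangulated]
  [F'.CommShift ℤ] [F'.IsTriangulated]
  (α : DEquiv.singleB A ⋙ F ≅ DEquiv.singleB A ⋙ F')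

/-- A morphism between shifted single objects is compatible with `α`. -/
def Compat {s t : ℤ} {N M : A} (e : (σ A s).obj N ⟶ (σ A t).obj M) : Prop :=
  F.map e ≫ (αsApp F F' α t M).hom = (αsApp F F' α s N).hom ≫ F'.map e

variable {F F' α}

omit [Preadditive D] [HasZeroObject D] [∀ n : ℤ, (shiftFunctor D n).Additive] [Pretriangulated D]
  [F.IsTriangulated] [F'.IsTriangulated] in
lemma compat_σ_map (s : ℤ) {N M : A} (f : N ⟶ M) : Compat F F' α ((σ A s).map f) :=
  αsApp_naturality F F' α s f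

omit [Preadditive D] [HasZeroObject D] [∀ n : ℤ, (shiftFunctor D n).Additive] [Pretriangulated D]
  [F.IsTriangulated] [F'.IsTriangulated] in
lemma compat_comp {s t r : ℤ} {N M L : A} {e : (σ A s).obj N ⟶ (σ A t).obj M}
    {e' : (σ A t).obj M ⟶ (σ A r).obj L} (h : Compat F F' α e) (h' : Compat F F' α e') :
    Compat F F' α (e ≫ e') := by
  dsimp only [Compat] at h h' ⊢
  rw [F.map_comp, F'.map_comp, assoc, h', reassoc_of% h]

/-- The connecting morphism of a short exact sequence is compatible with `α`. -/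
lemma compat_delta (hF : NegVanishing F) (s : ℤ) {P N' N : A} (i : P ⟶ N') (p : N' ⟶ N)
    (δ : (σ A s).obj N ⟶ ((σ A s).obj P)⟦(1 : ℤ)⟧)
    (hT : Triangle.mk ((σ A s).map i) ((σ A s).map p) δ ∈
      distTriang (DerivedCategory.Bounded A)) :
    Compat F F' α (δ ≫ (σShift s (s + 1) rfl P).inv) := by
  have hT₁ := F.map_distinguished _ hT
  have hT₂ := F'.map_distinguished _ hT
  obtain ⟨c, hc₁, hc₂⟩ : ∃ c : F.obj ((σ A s).obj N) ⟶ F'.obj ((σ A s).obj N),
      F.map ((σ A s).map p) ≫ c = (αsApp F F' α s N').hom ≫ F'.map ((σ A s).map p) ∧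
      (F.map δ ≫ (F.commShiftIso (1 : ℤ)).hom.app ((σ A s).obj P)) ≫
        ((αsApp F F' α s P).hom)⟦(1 : ℤ)⟧' =
        c ≫ F'.map δ ≫ (F'.commShiftIso (1 : ℤ)).hom.app ((σ A s).obj P) :=
    complete_distinguished_triangle_morphism _ _ hT₁ hT₂ (αsApp F F' α s P).hom
      (αsApp F F' α s N').hom (αsApp_naturality F F' α s i)
  have hc : c = (αsApp F F' α s N).hom := by
    let d : F.obj ((σ A s).obj N) ⟶ F'.obj ((σ A s).obj N) := c - (αsApp F F' α s N).hom
    have h0 : F.map ((σ A s).map p) ≫ d = 0 := by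
      dsimp only [d]
      rw [Preadditive.comp_sub, hc₁, αsApp_naturality, sub_self]
    obtain ⟨x, hx⟩ : ∃ x : (F.obj ((σ A s).obj P))⟦(1 : ℤ)⟧ ⟶ F'.obj ((σ A s).obj N),
        d = (F.map δ ≫ (F.commShiftIso (1 : ℤ)).hom.app ((σ A s).obj P)) ≫ x :=
      Triangle.yoneda_exact₃ _ hT₁ d h0
    have hx0 : x = 0 := by
      have := hF (s + 1) s (by omega) P N (F.map (σShift s (s + 1) rfl P).hom ≫
        (F.commShiftIso (1 : ℤ)).hom.app ((σ A s).obj P) ≫ x ≫ (αsApp F F' α s N).inv)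
      rw [← cancel_epi ((F.commShiftIso (1 : ℤ)).hom.app ((σ A s).obj P)),
        ← cancel_epi (F.map (σShift s (s + 1) rfl P).hom),
        ← cancel_mono (αsApp F F' α s N).inv]
      simpa using this
    have hd : d = 0 := by rw [hx, hx0, comp_zero]
    exact sub_eq_zero.1 hd
  subst hc
  have hsh := αsApp_shift F F' α s (s + 1) rfl P
  dsimp only [Compat]
  rw [F.map_comp, F'.map_comp, assoc]
  have e1 : F.map (σShift s (s + 1) rfl P).inv ≫ (αsApp F F' α (s + 1) P).hom =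
      (F.commShiftIso (1 : ℤ)).hom.app ((σ A s).obj P) ≫ ((αsApp F F' α s P).hom)⟦(1 : ℤ)⟧' ≫
        (F'.commShiftIso (1 : ℤ)).inv.app ((σ A s).obj P) ≫
        F'.map (σShift s (s + 1) rfl P).inv := by
    have h' := hsh =≫ ((F'.commShiftIso (1 : ℤ)).inv.app ((σ A s).obj P) ≫
      F'.map (σShift s (s + 1) rfl P).inv)
    simp only [assoc, Iso.hom_inv_id_app_assoc, ← F'.map_comp, Iso.hom_inv_id,
      CategoryTheory.Functor.map_id, comp_id] at h'
    rw [h', ← F.map_comp_assoc, Iso.inv_hom_id, CategoryTheory.Functor.map_id, id_comp]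
  rw [e1, ← assoc, ← assoc, hc₂]
  simp only [assoc, Iso.hom_inv_id_app_assoc]

theorem compat_aux (hF : NegVanishing F) : ∀ (q : ℕ) (s t : ℤ) (_ : t = s + q) (N M : A)
    (e : (σ A s).obj N ⟶ (σ A t).obj M), Compat F F' α e := by
  intro q
  induction q with
  | zero =>
    intro s t ht N M e
    obtain rfl : t = s := by simpa using ht
    obtain ⟨f, rfl⟩ := (σ A t).map_surjective e
    exact compat_σ_map t f
  | succ q ih =>
    intro s t ht N M e
    have := σ_isLE t (-t) (by omega) M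
    obtain ⟨N', p, hp, h0⟩ := exists_epi_σ_map_comp_eq_zero s (-s) (by omega) e (-t)
      (by push_cast at ht; omega)
    obtain ⟨P, i, δ, hT⟩ := exists_ses_triangle s p
    obtain ⟨e', he'⟩ : ∃ e' : ((σ A s).obj P)⟦(1 : ℤ)⟧ ⟶ (σ A t).obj M, e = δ ≫ e' :=
      Triangle.yoneda_exact₃ _ hT e h0
    have he : e = (δ ≫ (σShift s (s + 1) rfl P).inv) ≫ ((σShift s (s + 1) rfl P).hom ≫ e') := by
      rw [assoc, Iso.inv_hom_id_assoc, he']
    rw [he]
    exact compat_comp (compat_delta hF s i p δ hT)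
      (ih (s + 1) t (by push_cast at ht; omega) P M _)

theorem compat (hF : NegVanishing F) (s t : ℤ) (N M : A)
    (e : (σ A s).obj N ⟶ (σ A t).obj M) : Compat F F' α e := by
  by_cases hst : t < s
  · have := σ_isLE s (-s) (by omega) N
    have h0 : e = 0 := hom_to_σ_eq_zero _ t (-t) (by omega) M (-s) (by omega) e
    dsimp only [Compat]
    rw [h0, F.map_zero, F'.map_zero, zero_comp, comp_zero]
  · exact compat_aux hF (t - s).toNat s t (by omega) N M e

end Groth.Agent.Lib.Sib65
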