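import Groth.Agent.Lib.Sib65Step

/-!
# Siblings of a fully faithful functor are isomorphic to it (Stacks 0FXG), part 3: assembly
-/

universe w v u v' u'

open CategoryTheory Category Limits DerivedCategory Pretriangulated ZeroObject

namespace Groth.Agent.Lib.Sib65

variable {A : Type u} [Category.{v} A] [Abelian A] [HasDerivedCategory.{w} A]
  {D : Type u'} [Category.{v'} D] [Preadditive D] [HasZeroObject D] [HasShift D ℤ]
  [∀ n : ℤ, (shiftFunctor D n).Additive] [Pretriangulated D]
  {F F' : DerivedCategory.Bounded A ⥤ D} [F.CommShift ℤ] [F.IsTriangulated]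
  [F'.CommShift ℤ] [F'.IsTriangulated]
  (α : DEquiv.singleB A ⋙ F ≅ DEquiv.singleB A ⋙ F')
  [F.Full] [F.Faithful]

lemma exists_iso_σ_of_W_one {K : DerivedCategory.Bounded A} (hK : W 1 K) :
    ∃ (s : ℤ) (M : A), Nonempty (K ≅ (σ A s).obj M) := by
  obtain ⟨a, b, h1, h2, hab⟩ := hK
  by_cases h : b < a
  · exact ⟨0, 0, ⟨(isZero_of_lt K a b h).iso ((σ A 0).map_isZero (isZero_zero A))⟩⟩
  · obtain rfl : a = b := by omega
    obtain ⟨M, hM⟩ := exists_iso_σ K (-a) a (by omega)
    exact ⟨-a, M, hM⟩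

section Base

open Classical in
variable (F F') in
/-- The family at level `1`. -/
noncomputable def baseFamily (K : DerivedCategory.Bounded A) : F.obj K ≅ F'.obj K :=
  if h : ∃ (s : ℤ) (M : A), Nonempty (K ≅ (σ A s).obj M) then
    F.mapIso h.choose_spec.choose_spec.some ≪≫ αsApp F F' α h.choose h.choose_spec.choose ≪≫
      (F'.mapIso h.choose_spec.choose_spec.some).symm
  else (exists_iso_of_negVanishing (α := α) negVanishing_of_full K).some

omit [F.Faithful] in
lemma baseFamily_hom {K : DerivedCategory.Bounded A} {s : ℤ} {M : A} (θ : K ≅ (σ A s).obj M) :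
    (baseFamily F F' α K).hom = F.map θ.hom ≫ (αsApp F F' α s M).hom ≫ F'.map θ.inv := by
  have h : ∃ (s : ℤ) (M : A), Nonempty (K ≅ (σ A s).obj M) := ⟨s, M, ⟨θ⟩⟩
  unfold baseFamily
  rw [dif_pos h]
  generalize h.choose_spec.choose_spec.some = θ'
  generalize h.choose_spec.choose = M' at θ'
  generalize h.choose = s' at θ'
  have hcomp := compat (α := α) (negVanishing_of_full (F := F)) s s' M M' (θ.inv ≫ θ'.hom)
  dsimp only [Compat] at hcomp
  dsimp
  have e1 : F.map θ'.hom = F.map θ.hom ≫ F.map (θ.inv ≫ θ'.hom) := by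
    rw [← F.map_comp, Iso.hom_inv_id_assoc]
  have e2 : F'.map θ.inv = F'.map (θ.inv ≫ θ'.hom) ≫ F'.map θ'.inv := by
    rw [← F'.map_comp, assoc, Iso.hom_inv_id, comp_id]
  rw [e1, e2, assoc, reassoc_of% hcomp]

omit [F.Faithful] in
theorem good_baseFamily : Good F F' α 1 (baseFamily F F' α) := by
  constructor
  · intro s M
    ext
    rw [baseFamily_hom α (Iso.refl _)]
    simp
  · intro K L u hK hL
    obtain ⟨s, M, ⟨θK⟩⟩ := exists_iso_σ_of_W_one hK
    obtain ⟨t, M', ⟨θL⟩⟩ := exists_iso_σ_of_W_one hL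
    rw [baseFamily_hom α θK, baseFamily_hom α θL]
    have hcomp := compat (α := α) (negVanishing_of_full (F := F)) s t M M'
      (θK.inv ≫ u ≫ θL.hom)
    dsimp only [Compat] at hcomp
    have e1 : F.map u ≫ F.map θL.hom = F.map θK.hom ≫ F.map (θK.inv ≫ u ≫ θL.hom) := by
      rw [← F.map_comp, ← F.map_comp, Iso.hom_inv_id_assoc]
    have e2 : F'.map θK.inv ≫ F'.map u = F'.map (θK.inv ≫ u ≫ θL.hom) ≫ F'.map θL.inv := by
      rw [← F'.map_comp, ← F'.map_comp, assoc, assoc, Iso.hom_inv_id, comp_id]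
    rw [reassoc_of% e1, reassoc_of% hcomp, assoc, assoc, e2]

end Base

section Uniqueness

variable (hneg : ∀ X : A, ∃ (N : A) (p : N ⟶ X), Epi p ∧ ∀ f : X ⟶ N, f = 0)

omit [Preadditive D] [HasZeroObject D] [∀ n : ℤ, (shiftFunctor D n).Additive]
  [Pretriangulated D] [F.IsTriangulated] [F'.IsTriangulated] [F.Full] [F.Faithful] in
lemma good_mono {n m : ℕ} (h : n ≤ m) {c : ∀ K : DerivedCategory.Bounded A, F.obj K ≅ F'.obj K}
    (hc : Good F F' α m c) : Good F F' α n c :=
  ⟨hc.1, fun K L u hK hL => hc.2 K L u (W_mono h hK) (W_mono h hL)⟩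

include hneg in
omit [F.Faithful] in
/-- Two good families agree on objects of width `≤ n`. -/
theorem good_unique {n : ℕ} {c c' : ∀ K : DerivedCategory.Bounded A, F.obj K ≅ F'.obj K}
    (hc : Good F F' α n c) (hc' : Good F F' α n c') :
    ∀ (m : ℕ), m ≤ n → ∀ (K : DerivedCategory.Bounded A) (a b : ℤ), K.obj.IsGE a → K.obj.IsLE b →
      b - a < m → c K = c' K := by
  intro m
  induction m with
  | zero =>
    intro _ K a b h1 h2 hab
    ext
    exact (F.map_isZero (isZero_of_lt K a b (by omega))).eq_of_src _ _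
  | succ m ih =>
    intro hm K a b h1 h2 hab
    have hn : 0 < n := by omega
    have hK : W n K := ⟨a, b, h1, h2, by omega⟩
    by_cases hz : b < a
    · ext
      exact (F.map_isZero (isZero_of_lt K a b hz)).eq_of_src _ _
    by_cases hs : a = b
    · subst hs
      obtain ⟨M, ⟨θ⟩⟩ := exists_iso_σ K (-a) a (by omega)
      have e1 := hc.2 _ _ θ.hom hK (W_σ _ _ hn)
      have e2 := hc'.2 _ _ θ.hom hK (W_σ _ _ hn)
      rw [hc.1] at e1
      rw [hc'.1] at e2
      ext
      rw [← cancel_mono (F'.map θ.hom), ← e1, ← e2]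
    · obtain ⟨R, hR⟩ := exists_negRes hneg K b ((DerivedCategory.homologyFunctor A b).obj K.obj)
      have hRC : W n R.C := W_res (a := a) hn (by omega) R
      have hC : c R.C = c' R.C := ih (by omega) R.C a (b - 1) (R.isGE a (by omega)) R.isLE (by omega)
      have e1 := hc.2 _ _ R.w hK hRC
      have e2 := hc'.2 _ _ R.w hK hRC
      rw [← hC] at e2
      ext
      exact ext_unique (α := α) R hR (c R.C).hom _ _ e1 e2

end Uniqueness

section Assembly

variable (hneg : ∀ X : A, ∃ (N : A) (p : N ⟶ X), Epi p ∧ ∀ f : X ⟶ N, f = 0)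

include hneg in
omit [F.Faithful] in
theorem exists_good : ∀ k : ℕ, ∃ c, Good F F' α (k + 1) c := by
  intro k
  induction k with
  | zero => exact ⟨_, good_baseFamily α⟩
  | succ k ih =>
    obtain ⟨c, hc⟩ := ih
    exact exists_good_succ hneg (Nat.succ_pos k) hc

omit [Preadditive D] [HasZeroObject D] [HasShift D ℤ] [∀ n : ℤ, (shiftFunctor D n).Additive]
  [Pretriangulated D] in
lemma exists_W (K : DerivedCategory.Bounded A) : ∃ k : ℕ, W (k + 1) K := by
  obtain ⟨a, b, h1, h2⟩ := exists_bounds K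
  exact ⟨(b - a).toNat, a, b, h1, h2, by push_cast; omega⟩

include hneg α in
omit [F.Faithful] in
/-- Stacks, Proposition 0FXG: siblings of a fully faithful functor are isomorphic to it, if `A`
has enough negative objects. -/
theorem nonempty_iso_of_sibling : Nonempty (F ≅ F') := by
  choose cn hcn using exists_good α hneg
  choose wd hwd using (exists_W (A := A))
  have key : ∀ (k : ℕ) (K : DerivedCategory.Bounded A), wd K ≤ k → cn k K = cn (wd K) K := by
    intro k K hk
    obtain ⟨a, b, h1, h2, hab⟩ := hwd K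
    exact good_unique α hneg (good_mono α (by omega) (hcn k)) (hcn (wd K)) (wd K + 1) le_rfl
      K a b h1 h2 hab
  refine ⟨NatIso.ofComponents (fun K => cn (wd K) K) ?_⟩
  intro K L u
  have h1 := key (max (wd K) (wd L)) K (le_max_left _ _)
  have h2 := key (max (wd K) (wd L)) L (le_max_right _ _)
  rw [← h1, ← h2]
  exact (hcn (max (wd K) (wd L))).2 K L u
    (W_mono (by have := le_max_left (wd K) (wd L); omega) (hwd K))
    (W_mono (by have := le_max_right (wd K) (wd L); omega) (hwd L))

end Assembly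

end Groth.Agent.Lib.Sib65
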