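import Groth.Agent.Lib.Sib65Alpha

/-!
# Objectwise isomorphism of two triangulated functors agreeing on the heart (Stacks 0FXA)
-/

universe w v u v' u'

open CategoryTheory Category Limits DerivedCategory Pretriangulated

namespace Groth.Agent.Lib.Sib65

variable {A : Type u} [Category.{v} A] [Abelian A] [HasDerivedCategory.{w} A]
  {D : Type u'} [Category.{v'} D] [Preadditive D] [HasZeroObject D] [HasShift D ℤ]
  [∀ n : ℤ, (shiftFunctor D n).Additive] [Pretriangulated D]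
  (F F' : DerivedCategory.Bounded A ⥤ D) [F.CommShift ℤ] [F.IsTriangulated]
  [F'.CommShift ℤ] [F'.IsTriangulated]
  (α : DEquiv.singleB A ⋙ F ≅ DEquiv.singleB A ⋙ F')

/-- Negative `Hom` vanishing between images of shifted single objects. -/
def NegVanishing : Prop :=
  ∀ (s t : ℤ), t < s → ∀ (N M : A) (ψ : F.obj ((σ A s).obj N) ⟶ F.obj ((σ A t).obj M)), ψ = 0

/-- The property proved by induction on the amplitude. -/
def GoodAt (K : DerivedCategory.Bounded A) (b : ℤ) : Prop :=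
  (∀ (t : ℤ) (M : A), t + b < 0 → ∀ ψ : F.obj K ⟶ F.obj ((σ A t).obj M), ψ = 0) ∧
  (∃ φ : F.obj K ≅ F'.obj K, ∀ (s : ℤ) (M : A), s + b = 0 → ∀ π : K ⟶ (σ A s).obj M,
    φ.hom ≫ F'.map π = F.map π ≫ (αsApp F F' α s M).hom)

variable {F F' α}

lemma goodAt_of_isZero (K : DerivedCategory.Bounded A) (b : ℤ) (hK : IsZero K) :
    GoodAt F F' α K b := by
  have h1 : IsZero (F.obj K) := F.map_isZero hK
  have h2 : IsZero (F'.obj K) := F'.map_isZero hK
  exact ⟨fun t M _ ψ => h1.eq_of_src _ _, ⟨h1.iso h2, fun s M _ π => h1.eq_of_src _ _⟩⟩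

omit [HasZeroObject D] [∀ n : ℤ, (shiftFunctor D n).Additive] [Pretriangulated D]
  [F.IsTriangulated] [F'.IsTriangulated] in
lemma goodAt_of_single (hF : NegVanishing F) (K : DerivedCategory.Bounded A) (b : ℤ)
    (h1 : K.obj.IsGE b) (h2 : K.obj.IsLE b) : GoodAt F F' α K b := by
  obtain ⟨M₀, ⟨θ⟩⟩ := exists_iso_σ K (-b) b (by omega)
  constructor
  · intro t M ht ψ
    have := hF (-b) t (by omega) M₀ M (F.map θ.inv ≫ ψ)
    rw [← cancel_epi (F.map θ.inv), this, comp_zero]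
  · refine ⟨F.mapIso θ ≪≫ αsApp F F' α (-b) M₀ ≪≫ (F'.mapIso θ).symm, ?_⟩
    intro s M hs π
    obtain rfl : s = -b := by omega
    obtain ⟨hh, hhh⟩ := (σ A (-b)).map_surjective (θ.inv ≫ π)
    have nat := αsApp_naturality F F' α (-b) hh
    dsimp at nat ⊢
    rw [hhh] at nat
    simp only [assoc, ← F'.map_comp]
    rw [← nat, ← F.map_comp_assoc, Iso.hom_inv_id_assoc]

lemma goodAt_step (hF : NegVanishing F) (K : DerivedCategory.Bounded A) (b s : ℤ)
    (h : s + b = 0) (N : A)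
    (g : (σ A s).obj N ⟶ K) (C : DerivedCategory.Bounded A) (w : K ⟶ C)
    (ξ : C ⟶ ((σ A s).obj N)⟦(1 : ℤ)⟧)
    (hT : Triangle.mk g w ξ ∈ distTriang (DerivedCategory.Bounded A))
    (hC : GoodAt F F' α C (b - 1)) : GoodAt F F' α K b := by
  have hT₁ := F.map_distinguished _ hT
  have hT₂ := F'.map_distinguished _ hT
  obtain ⟨hCv, φC, hφC⟩ := hC
  have vanish : ∀ (t : ℤ) (M : A), t + b < 0 → ∀ ψ : F.obj K ⟶ F.obj ((σ A t).obj M), ψ = 0 := by
    intro t M ht ψ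
    have h0 : F.map g ≫ ψ = 0 := hF s t (by omega) N M _
    obtain ⟨ψ', hψ'⟩ : ∃ ψ' : F.obj C ⟶ F.obj ((σ A t).obj M), ψ = F.map w ≫ ψ' :=
      Triangle.yoneda_exact₂ _ hT₁ ψ h0
    rw [hψ', hCv t M (by omega) ψ', comp_zero]
  refine ⟨vanish, ?_⟩
  -- the commutative square needed for TR3
  have comm' : F.map ξ ≫ (F.commShiftIso (1 : ℤ)).hom.app ((σ A s).obj N) ≫
      ((αsApp F F' α s N).hom)⟦(1 : ℤ)⟧' =
      φC.hom ≫ F'.map ξ ≫ (F'.commShiftIso (1 : ℤ)).hom.app ((σ A s).obj N) := by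
    have h1 := hφC (s + 1) N (by omega) (ξ ≫ (σShift s (s + 1) rfl N).inv)
    have h2 := αsApp_shift F F' α s (s + 1) rfl N
    have hξF : F.map ξ = F.map (ξ ≫ (σShift s (s + 1) rfl N).inv) ≫
        F.map (σShift s (s + 1) rfl N).hom := by
      rw [← F.map_comp, assoc, Iso.inv_hom_id, comp_id]
    have hξF' : F'.map ξ = F'.map (ξ ≫ (σShift s (s + 1) rfl N).inv) ≫
        F'.map (σShift s (s + 1) rfl N).hom := by
      rw [← F'.map_comp, assoc, Iso.inv_hom_id, comp_id]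
    rw [hξF, hξF', assoc, assoc, ← h2, reassoc_of% h1]
  have comm : (F.mapTriangle.obj (Triangle.mk g w ξ)).mor₃ ≫ ((αsApp F F' α s N).hom)⟦(1 : ℤ)⟧' =
      φC.hom ≫ (F'.mapTriangle.obj (Triangle.mk g w ξ)).mor₃ := by
    exact (assoc _ _ _).trans comm'
  obtain ⟨bb, hb₁, hb₂⟩ : ∃ bb : F.obj K ⟶ F'.obj K,
      F.map g ≫ bb = (αsApp F F' α s N).hom ≫ F'.map g ∧ F.map w ≫ φC.hom = bb ≫ F'.map w :=
    complete_distinguished_triangle_morphism₂ _ _ hT₁ hT₂ ((αsApp F F' α s N).hom) φC.hom comm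
  have hbb : IsIso bb := by
    let φ : F.mapTriangle.obj (Triangle.mk g w ξ) ⟶ F'.mapTriangle.obj (Triangle.mk g w ξ) :=
      { hom₁ := (αsApp F F' α s N).hom
        hom₂ := bb
        hom₃ := φC.hom
        comm₁ := hb₁
        comm₂ := hb₂
        comm₃ := comm }
    have i1 : IsIso φ.hom₁ := (inferInstance : IsIso ((αsApp F F' α s N).hom))
    have i3 : IsIso φ.hom₃ := (inferInstance : IsIso φC.hom)
    exact isIso₂_of_isIso₁₃ φ hT₁ hT₂ i1 i3
  refine ⟨asIso bb, ?_⟩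
  intro s' M hs' π
  obtain rfl : s' = s := by omega
  obtain ⟨hh, hhh⟩ := (σ A s').map_surjective (g ≫ π)
  have nat := αsApp_naturality F F' α s' hh
  rw [hhh] at nat
  let d : F.obj K ⟶ F'.obj ((σ A s').obj M) := bb ≫ F'.map π - F.map π ≫ (αsApp F F' α s' M).hom
  have h0 : F.map g ≫ d = 0 := by
    dsimp only [d]
    rw [Preadditive.comp_sub, reassoc_of% hb₁, ← F'.map_comp, ← F.map_comp_assoc, nat, sub_self]
  obtain ⟨d', hd'⟩ : ∃ d' : F.obj C ⟶ F'.obj ((σ A s').obj M), d = F.map w ≫ d' :=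
    Triangle.yoneda_exact₂ _ hT₁ d h0
  have hd0 : d' = 0 := by
    have := hCv s' M (by omega) (d' ≫ (αsApp F F' α s' M).inv)
    rw [← cancel_mono ((αsApp F F' α s' M).inv), this, zero_comp]
  have hd : d = 0 := by
    rw [hd', hd0, comp_zero]
  exact sub_eq_zero.1 hd

theorem goodAt (hF : NegVanishing F) (K : DerivedCategory.Bounded A) (b : ℤ) (hb : K.obj.IsLE b) :
    GoodAt F F' α K b :=
  bounded_induction' (GoodAt F F' α) goodAt_of_isZero (goodAt_of_single hF)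
    (fun K _ b s _ h _ _ N g C w ξ hT _ _ _ hC => goodAt_step hF K b s h N g C w ξ hT hC) K b hb

include α in
theorem exists_iso_of_negVanishing (hF : NegVanishing F) (K : DerivedCategory.Bounded A) :
    Nonempty (F.obj K ≅ F'.obj K) := by
  obtain ⟨_, b, _, hb⟩ := exists_bounds K
  obtain ⟨_, φ, _⟩ := goodAt (α := α) hF K b hb
  exact ⟨φ⟩

omit [HasZeroObject D] [Pretriangulated D] [F.IsTriangulated] in
lemma negVanishing_of_h2
    (h2 : ∀ (X Y : A) (q : ℤ), q < 0 →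
      ∀ f : F.obj ((DEquiv.singleB A).obj X) ⟶
        (shiftFunctor D q).obj (F.obj ((DEquiv.singleB A).obj Y)), f = 0) :
    NegVanishing F :=
  fun s t hst N M ψ => hom_F_σ_eq_zero F h2 s t hst N M ψ

end Groth.Agent.Lib.Sib65
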