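import Groth.Agent.Lib.Sib65ResB

/-!
# Siblings of a fully faithful functor are isomorphic to it (Stacks 0FXG), part 1
-/

universe w v u v' u'

open CategoryTheory Category Limits DerivedCategory Pretriangulated

namespace Groth.Agent.Lib.Sib65

variable {A : Type u} [Category.{v} A] [Abelian A] [HasDerivedCategory.{w} A]
  {D : Type u'} [Category.{v'} D] [Preadditive D] [HasZeroObject D] [HasShift D ℤ]
  [∀ n : ℤ, (shiftFunctor D n).Additive] [Pretriangulated D]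
  (F F' : DerivedCategory.Bounded A ⥤ D) [F.CommShift ℤ] [F.IsTriangulated]
  [F'.CommShift ℤ] [F'.IsTriangulated]
  (α : DEquiv.singleB A ⋙ F ≅ DEquiv.singleB A ⋙ F')

/-- `K` has cohomology in an interval of length `< n`. -/
def W (n : ℕ) (K : DerivedCategory.Bounded A) : Prop :=
  ∃ a b : ℤ, K.obj.IsGE a ∧ K.obj.IsLE b ∧ b - a < n

lemma W_mono {n m : ℕ} (h : n ≤ m) {K : DerivedCategory.Bounded A} (hK : W n K) : W m K := by
  obtain ⟨a, b, h1, h2, h3⟩ := hK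
  exact ⟨a, b, h1, h2, by omega⟩

lemma W_σ (s : ℤ) (M : A) {n : ℕ} (hn : 0 < n) : W n ((σ A s).obj M) :=
  ⟨-s, -s, σ_isGE s (-s) (by omega) M, σ_isLE s (-s) (by omega) M, by omega⟩

lemma W_res {n : ℕ} (hn : 0 < n) {K : DerivedCategory.Bounded A} {a b : ℤ}
    [K.obj.IsGE a] [K.obj.IsLE b] (hab : b - a ≤ n) (R : Res K b) : W n R.C := by
  have : K.obj.IsGE (min a (b - 1)) := TStructure.t.isGE_of_ge _ (min a (b - 1)) a (min_le_left _ _)
  exact ⟨min a (b - 1), b - 1, R.isGE _ (min_le_right _ _), R.isLE, by omega⟩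

/-- Naturality of a family of isomorphisms on objects satisfying `P`. -/
def NatOn (P : DerivedCategory.Bounded A → Prop)
    (c : ∀ K : DerivedCategory.Bounded A, F.obj K ≅ F'.obj K) : Prop :=
  ∀ (K L : DerivedCategory.Bounded A) (u : K ⟶ L), P K → P L →
    F.map u ≫ (c L).hom = (c K).hom ≫ F'.map u

/-- Normalization of a family on shifted single objects. -/
def Normalized (c : ∀ K : DerivedCategory.Bounded A, F.obj K ≅ F'.obj K) : Prop :=
  ∀ (s : ℤ) (M : A), c ((σ A s).obj M) = αsApp F F' α s M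

/-- A good family at level `n`. -/
def Good (n : ℕ) (c : ∀ K : DerivedCategory.Bounded A, F.obj K ≅ F'.obj K) : Prop :=
  Normalized F F' α c ∧ NatOn F F' (W n) c

variable {F F' α}

section Principles

omit [F.CommShift ℤ] [F.IsTriangulated] in
/-- Principle (*): naturality for `u : K ⟶ L` follows from naturality of `u ≫ w`. -/
lemma nat_of_comp_w {K L : DerivedCategory.Bounded A} (u : K ⟶ L) {b : ℤ} (R : Res L b)
    (hK : ∀ x : F.obj K ⟶ F'.obj ((σ A (-b)).obj R.N), x = 0)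
    (cK : F.obj K ⟶ F'.obj K) (cL : F.obj L ⟶ F'.obj L) (cC : F.obj R.C ⟶ F'.obj R.C)
    (h1 : F.map R.w ≫ cC = cL ≫ F'.map R.w)
    (h2 : F.map (u ≫ R.w) ≫ cC = cK ≫ F'.map (u ≫ R.w)) :
    F.map u ≫ cL = cK ≫ F'.map u := by
  have hT' := F'.map_distinguished _ R.dist
  rw [← sub_eq_zero]
  obtain ⟨x, hx⟩ : ∃ x : F.obj K ⟶ F'.obj ((σ A (-b)).obj R.N),
      F.map u ≫ cL - cK ≫ F'.map u = x ≫ F'.map R.g :=
    Triangle.coyoneda_exact₂ _ hT' (F.map u ≫ cL - cK ≫ F'.map u)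
      (show (F.map u ≫ cL - cK ≫ F'.map u) ≫ F'.map R.w = 0 by
        rw [Preadditive.sub_comp, assoc, ← h1, ← F.map_comp_assoc, h2, assoc, ← F'.map_comp,
          sub_self])
  rw [hx, hK x, zero_comp]

omit [F.CommShift ℤ] [F.IsTriangulated] [F'.CommShift ℤ] [F'.IsTriangulated] [Preadditive D]
  [HasZeroObject D] [HasShift D ℤ] [∀ n : ℤ, (shiftFunctor D n).Additive] [Pretriangulated D] in
/-- Principle (**): naturality for `u : K ⟶ L` when `u` kills a resolution of `K`. -/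
lemma nat_of_g_comp_eq_zero {K L : DerivedCategory.Bounded A} (u : K ⟶ L) {b : ℤ} (R : Res K b)
    (hu : R.g ≫ u = 0)
    (cK : F.obj K ⟶ F'.obj K) (cL : F.obj L ⟶ F'.obj L) (cC : F.obj R.C ⟶ F'.obj R.C)
    (h1 : F.map R.w ≫ cC = cK ≫ F'.map R.w)
    (h2 : ∀ u' : R.C ⟶ L, F.map u' ≫ cL = cC ≫ F'.map u') :
    F.map u ≫ cL = cK ≫ F'.map u := by
  obtain ⟨u', hu'⟩ : ∃ u' : R.C ⟶ L, u = R.w ≫ u' := Triangle.yoneda_exact₂ _ R.dist u hu
  rw [hu', F.map_comp, F'.map_comp, assoc, h2, reassoc_of% h1]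

end Principles

section TR3

/-- Completion of `(αs, φC)` to an isomorphism `F K ≅ F' K` (TR3 + five lemma). -/
lemma exists_iso_of_compat_ξ {K C : DerivedCategory.Bounded A} {s : ℤ} {N : A}
    (g : (σ A s).obj N ⟶ K) (w : K ⟶ C) (ξ : C ⟶ ((σ A s).obj N)⟦(1 : ℤ)⟧)
    (hT : Triangle.mk g w ξ ∈ distTriang (DerivedCategory.Bounded A))
    (φC : F.obj C ≅ F'.obj C)
    (h1 : φC.hom ≫ F'.map (ξ ≫ (σShift s (s + 1) rfl N).inv) =
      F.map (ξ ≫ (σShift s (s + 1) rfl N).inv) ≫ (αsApp F F' α (s + 1) N).hom) :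
    ∃ ψ : F.obj K ≅ F'.obj K,
      F.map g ≫ ψ.hom = (αsApp F F' α s N).hom ≫ F'.map g ∧
      F.map w ≫ φC.hom = ψ.hom ≫ F'.map w := by
  have hT₁ := F.map_distinguished _ hT
  have hT₂ := F'.map_distinguished _ hT
  have comm' : F.map ξ ≫ (F.commShiftIso (1 : ℤ)).hom.app ((σ A s).obj N) ≫
      ((αsApp F F' α s N).hom)⟦(1 : ℤ)⟧' =
      φC.hom ≫ F'.map ξ ≫ (F'.commShiftIso (1 : ℤ)).hom.app ((σ A s).obj N) := by
    have h2 := αsApp_shift F F' α s (s + 1) rfl N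
    have hξF : F.map ξ = F.map (ξ ≫ (σShift s (s + 1) rfl N).inv) ≫
        F.map (σShift s (s + 1) rfl N).hom := by
      rw [← F.map_comp, assoc, Iso.inv_hom_id, comp_id]
    have hξF' : F'.map ξ = F'.map (ξ ≫ (σShift s (s + 1) rfl N).inv) ≫
        F'.map (σShift s (s + 1) rfl N).hom := by
      rw [← F'.map_comp, assoc, Iso.inv_hom_id, comp_id]
    rw [hξF, hξF', assoc, assoc, ← h2, reassoc_of% h1]
  have comm : (F.mapTriangle.obj (Triangle.mk g w ξ)).mor₃ ≫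
      ((αsApp F F' α s N).hom)⟦(1 : ℤ)⟧' =
      φC.hom ≫ (F'.mapTriangle.obj (Triangle.mk g w ξ)).mor₃ := (assoc _ _ _).trans comm'
  obtain ⟨bb, hb₁, hb₂⟩ : ∃ bb : F.obj K ⟶ F'.obj K,
      F.map g ≫ bb = (αsApp F F' α s N).hom ≫ F'.map g ∧ F.map w ≫ φC.hom = bb ≫ F'.map w :=
    complete_distinguished_triangle_morphism₂ _ _ hT₁ hT₂ ((αsApp F F' α s N).hom) φC.hom comm
  have hbb : IsIso bb := by
    let φ : F.mapTriangle.obj (Triangle.mk g w ξ) ⟶ F'.mapTriangle.obj (Triangle.mk g w ξ) :=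
      { hom₁ := (αsApp F F' α s N).hom
        hom₂ := bb
        hom₃ := φC.hom
        comm₁ := hb₁
        comm₂ := hb₂
        comm₃ := comm }
    have i1 : IsIso φ.hom₁ := (inferInstance : IsIso ((αsApp F F' α s N).hom))
    have i3 : IsIso φ.hom₃ := (inferInstance : IsIso φC.hom)
    exact isIso₂_of_isIso₁₃ φ hT₁ hT₂ i1 i3
  exact ⟨asIso bb, hb₁, hb₂⟩

end TR3

section FullyFaithful

variable [F.Full] [F.Faithful]

omit [F'.IsTriangulated] [F.Faithful] in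
include α in
lemma hom_F_F'σ_eq_zero {K : DerivedCategory.Bounded A} {s : ℤ} {N : A}
    (h : ∀ d : K ⟶ (σ A s).obj N, d = 0) (x : F.obj K ⟶ F'.obj ((σ A s).obj N)) : x = 0 := by
  obtain ⟨d, hd⟩ := F.map_surjective (x ≫ (αsApp F F' α s N).inv)
  rw [h d, F.map_zero] at hd
  rw [← cancel_mono (αsApp F F' α s N).inv, zero_comp, ← hd]

omit [F.Faithful] in
include α in
/-- Uniqueness of extensions along a negative resolution. -/
lemma ext_unique {K : DerivedCategory.Bounded A} {b : ℤ} [K.obj.IsLE b] (R : Res K b)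
    (hR : ∀ φ : (DerivedCategory.homologyFunctor A b).obj K.obj ⟶ R.N, φ = 0)
    (x : F.obj R.C ⟶ F'.obj R.C) (ψ ψ' : F.obj K ⟶ F'.obj K)
    (h : F.map R.w ≫ x = ψ ≫ F'.map R.w) (h' : F.map R.w ≫ x = ψ' ≫ F'.map R.w) :
    ψ = ψ' := by
  have hT' := F'.map_distinguished _ R.dist
  rw [← sub_eq_zero]
  obtain ⟨y, hy⟩ : ∃ y : F.obj K ⟶ F'.obj ((σ A (-b)).obj R.N), ψ - ψ' = y ≫ F'.map R.g :=
    Triangle.coyoneda_exact₂ _ hT' (ψ - ψ')
      (show (ψ - ψ') ≫ F'.map R.w = 0 by rw [Preadditive.sub_comp, ← h, ← h', sub_self])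
  rw [hy, hom_F_F'σ_eq_zero (α := α)
    (fun d => hom_to_σ_eq_zero_of_neg K (-b) b (by omega) R.N hR d) y, zero_comp]

end FullyFaithful

end Groth.Agent.Lib.Sib65
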