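import Groth.Agent.Lib.Sib65Shift

/-!
# Resolutions from the top of bounded objects of the derived category
-/

universe w v u

open CategoryTheory Category Limits DerivedCategory Pretriangulated

namespace Groth.Agent.Lib.Sib65

variable {A : Type u} [Category.{v} A] [Abelian A] [HasDerivedCategory.{w} A]

section

variable {K C : DerivedCategory.Bounded A} {s b : ℤ} (h : s + b = 0) {N : A}
  (g : (σ A s).obj N ⟶ K) (w : K ⟶ C) (ξ : C ⟶ ((σ A s).obj N)⟦(1 : ℤ)⟧)
  (hT : Triangle.mk g w ξ ∈ distTriang (DerivedCategory.Bounded A))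

include h hT

lemma cone_isLE [K.obj.IsLE b] (hg : Epi ((DerivedCategory.homologyFunctor A b).map g.hom)) :
    C.obj.IsLE (b - 1) := by
  have hT' := DerivedCategory.Bounded.ι.map_distinguished _ hT
  have := σ_isLE s b h N
  rw [DerivedCategory.isLE_iff]
  intro i hi
  have hi' : b ≤ i := by omega
  have h1 : Epi ((DerivedCategory.homologyFunctor A i).map w.hom) := by
    refine (DerivedCategory.HomologySequence.epi_homologyMap_mor₂_iff _ hT' i (i + 1) rfl).2 ?_
    apply (DerivedCategory.isZero_of_isLE ((σ A s).obj N).obj b (i + 1) (by omega)).eq_of_tgt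
  have h2 : (DerivedCategory.homologyFunctor A i).map w.hom = 0 := by
    obtain rfl | hi'' := hi'.eq_or_lt
    · exact (DerivedCategory.HomologySequence.epi_homologyMap_mor₁_iff _ hT' b).1 hg
    · apply (DerivedCategory.isZero_of_isLE K.obj b i hi'').eq_of_src
  exact IsZero.of_epi_eq_zero _ h2

lemma cone_isGE (a : ℤ) (ha : a ≤ b - 1) [K.obj.IsGE a] : C.obj.IsGE a := by
  have hT' := rot_of_distTriang _ (DerivedCategory.Bounded.ι.map_distinguished _ hT)
  have := σ_isGE s b h N
  have h3 : (((σ A s).obj N).obj⟦(1 : ℤ)⟧).IsGE (b - 1) :=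
    TStructure.t.isGE_shift _ b 1 (b - 1)
  have h3' : (((σ A s).obj N).obj⟦(1 : ℤ)⟧).IsGE a := TStructure.t.isGE_of_ge _ a (b - 1) ha
  exact TStructure.t.isGE₂ _ hT' a (by assumption) h3'

end

/-- `H^b` of a single object placed in degree `b` is the object itself. -/
noncomputable def σHomologyIso (s b : ℤ) (h : s + b = 0) :
    σ A s ⋙ DerivedCategory.Bounded.ι ⋙ DerivedCategory.homologyFunctor A b ≅ 𝟭 A :=
  NatIso.ofComponents (fun M => (DerivedCategory.homologyFunctor A b).mapIso (σIso s b h M) ≪≫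
    (DerivedCategory.singleFunctorCompHomologyFunctorIso A b).app M) (by
    intro M M' f
    have h1 := σIso_hom_naturality s b h f
    have h2 := (DerivedCategory.singleFunctorCompHomologyFunctorIso A b).hom.naturality f
    dsimp at h1 h2 ⊢
    rw [assoc, ← h2, ← Functor.map_comp_assoc, ← Functor.map_comp_assoc, h1])

lemma σ_map_eq_zero_of_homology (s b : ℤ) (h : s + b = 0) {M M' : A} (f : M ⟶ M')
    (hf : (DerivedCategory.homologyFunctor A b).map ((σ A s).map f).hom = 0) : f = 0 := by
  have h1 := NatIso.naturality_1 (σHomologyIso s b h) f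
  dsimp at h1
  rw [← h1, hf, zero_comp, comp_zero]

lemma exists_res (K : DerivedCategory.Bounded A) (s b : ℤ) (h : s + b = 0) [K.obj.IsLE b] :
    ∃ (N : A) (g : (σ A s).obj N ⟶ K),
      Epi ((DerivedCategory.homologyFunctor A b).map g.hom) := by
  obtain ⟨N, g₀, hg₀⟩ := exists_from_single_epi_homology K.obj b
  refine ⟨N, ObjectProperty.homMk ((σIso s b h N).hom ≫ g₀), ?_⟩
  dsimp
  rw [Functor.map_comp]
  infer_instance

/-- Negative resolutions (Stacks, Lemma 0FXD in the bounded derived category). -/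
lemma exists_neg_res (hneg : ∀ X : A, ∃ (N : A) (p : N ⟶ X), Epi p ∧ ∀ f : X ⟶ N, f = 0)
    {K K' : DerivedCategory.Bounded A} (f : K ⟶ K') (s b : ℤ) (h : s + b = 0)
    [K.obj.IsLE b] [K'.obj.IsLE (b - 1)] (E : A) :
    ∃ (N : A) (g : (σ A s).obj N ⟶ K),
      Epi ((DerivedCategory.homologyFunctor A b).map g.hom) ∧
        (∀ φ : E ⟶ N, φ = 0) ∧ g ≫ f = 0 := by
  obtain ⟨N₀, g₀, hg₀⟩ := exists_res K s b h
  obtain ⟨N₁, p₁, hp₁, h₁⟩ := exists_epi_comp_eq_zero ((σIso s b h N₀).inv ≫ (g₀ ≫ f).hom) (b - 1)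
    (by omega)
  obtain ⟨N, p, hp, hN⟩ := hneg (N₁ ⊞ E)
  have hq : Epi (p ≫ biprod.fst ≫ p₁) := epi_comp' hp (epi_comp _ _)
  refine ⟨N, (σ A s).map (p ≫ biprod.fst ≫ p₁) ≫ g₀, ?_, ?_, ?_⟩
  · dsimp
    rw [Functor.map_comp]
    have : Epi ((DerivedCategory.homologyFunctor A b).map ((σ A s).map (p ≫ biprod.fst ≫ p₁)).hom) := by
      have h1 := NatIso.naturality_2 (σHomologyIso s b h) (p ≫ biprod.fst ≫ p₁)
      dsimp at h1
      rw [← h1]
      infer_instance
    exact epi_comp _ _
  · intro φ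
    have h' := hN (biprod.snd ≫ φ)
    rwa [← cancel_epi (biprod.snd : N₁ ⊞ E ⟶ _), comp_zero]
  · ext
    have h2 := σIso_hom_naturality s b h p₁
    have h3 : ((σ A s).map p₁).hom ≫ (g₀ ≫ f).hom = 0 := by
      rw [← cancel_epi (σIso s b h N₁).inv, comp_zero, ← h₁]
      have h2' : (σIso s b h N₁).inv ≫ ((σ A s).map p₁).hom =
          (DerivedCategory.singleFunctor A b).map p₁ ≫ (σIso s b h N₀).inv := by
        rw [← cancel_mono (σIso s b h N₀).hom, assoc, assoc, Iso.inv_hom_id, comp_id, h2,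
          Iso.inv_hom_id_assoc]
      rw [reassoc_of% h2']
    rw [Functor.map_comp, Functor.map_comp, assoc, assoc]
    dsimp at h3 ⊢
    rw [assoc, h3, comp_zero, comp_zero]

/-- If `K` is `≤ b` and `Hom(H^b(K), N) = 0`, then there is no nonzero morphism from `K`
to `N` placed in degree `b`. -/
lemma hom_to_σ_eq_zero_of_neg (K : DerivedCategory.Bounded A) (s b : ℤ) (h : s + b = 0)
    [K.obj.IsLE b] (N : A)
    (hN : ∀ φ : (DerivedCategory.homologyFunctor A b).obj K.obj ⟶ N, φ = 0)
    (d : K ⟶ (σ A s).obj N) : d = 0 := by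
  obtain ⟨N₀, g₀, hg₀⟩ := exists_res K s b h
  obtain ⟨C₀, w₀, ξ₀, hT⟩ := distinguished_cocone_triangle g₀
  have := cone_isLE h g₀ w₀ ξ₀ hT hg₀
  obtain ⟨h', hh'⟩ := (σ A s).map_surjective (g₀ ≫ d)
  have hd : (DerivedCategory.homologyFunctor A b).map d.hom = 0 := by
    have := hN ((DerivedCategory.homologyFunctor A b).map d.hom ≫ (σHomologyIso s b h).hom.app N)
    rwa [← cancel_mono ((σHomologyIso s b h).hom.app N), zero_comp]
  have h'0 : h' = 0 := σ_map_eq_zero_of_homology s b h h' (by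
    rw [hh']
    dsimp
    rw [Functor.map_comp, hd, comp_zero])
  have h0 : g₀ ≫ d = 0 := by rw [← hh', h'0, Functor.map_zero]
  obtain ⟨d', hd'⟩ := Triangle.yoneda_exact₂ _ hT d h0
  rw [hd', hom_to_σ_eq_zero C₀ s b h N (b - 1) (by omega) d']
  exact comp_zero

lemma isZero_of_lt (K : DerivedCategory.Bounded A) (a b : ℤ) (hab : b < a)
    [K.obj.IsGE a] [K.obj.IsLE b] : IsZero K := by
  have h0 : IsZero K.obj := TStructure.t.isZero K.obj b a hab
  rw [IsZero.iff_id_eq_zero]
  ext
  exact h0.eq_of_src _ _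

/-- Induction principle on bounded objects of the derived category, by resolutions from the
top degree. -/
theorem bounded_induction_aux (P : DerivedCategory.Bounded A → Prop)
    (hzero : ∀ K, IsZero K → P K)
    (hsingle : ∀ (K : DerivedCategory.Bounded A) (b : ℤ), K.obj.IsGE b → K.obj.IsLE b → P K)
    (hstep : ∀ (K : DerivedCategory.Bounded A) (a b s : ℤ) (_ : a < b) (h : s + b = 0)
      (_ : K.obj.IsGE a) (_ : K.obj.IsLE b) (N : A)
      (g : (σ A s).obj N ⟶ K) (C : DerivedCategory.Bounded A) (w : K ⟶ C)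
      (ξ : C ⟶ ((σ A s).obj N)⟦(1 : ℤ)⟧),
      Triangle.mk g w ξ ∈ distTriang (DerivedCategory.Bounded A) →
      Epi ((DerivedCategory.homologyFunctor A b).map g.hom) →
      C.obj.IsGE a → C.obj.IsLE (b - 1) → P C → P K) :
    ∀ (n : ℕ) (K : DerivedCategory.Bounded A) (a b : ℤ), K.obj.IsGE a → K.obj.IsLE b →
      b - a < n → P K := by
  intro n
  induction n with
  | zero =>
    intro K a b _ _ hn
    exact hzero K (isZero_of_lt K a b (by omega))
  | succ n ih =>
    intro K a b _ _ hn
    by_cases hab : b < a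
    · exact hzero K (isZero_of_lt K a b hab)
    by_cases hab' : a = b
    · subst hab'
      exact hsingle K a inferInstance inferInstance
    have hlt : a < b := by omega
    obtain ⟨N, g, hg⟩ := exists_res K (-b) b (by omega)
    obtain ⟨C, w, ξ, hT⟩ := distinguished_cocone_triangle g
    have h1 := cone_isLE (show -b + b = 0 by omega) g w ξ hT hg
    have h2 := cone_isGE (show -b + b = 0 by omega) g w ξ hT a (by omega)
    exact hstep K a b (-b) hlt (by omega) inferInstance inferInstance N g C w ξ hT hg h2 h1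
      (ih C a (b - 1) h2 h1 (by omega))

lemma exists_bounds (K : DerivedCategory.Bounded A) :
    ∃ (a b : ℤ), K.obj.IsGE a ∧ K.obj.IsLE b := by
  obtain ⟨⟨a, ha⟩, ⟨b, hb⟩⟩ := K.property
  exact ⟨a, b, ha, hb⟩

theorem bounded_induction (P : DerivedCategory.Bounded A → Prop)
    (hzero : ∀ K, IsZero K → P K)
    (hsingle : ∀ (K : DerivedCategory.Bounded A) (b : ℤ), K.obj.IsGE b → K.obj.IsLE b → P K)
    (hstep : ∀ (K : DerivedCategory.Bounded A) (a b s : ℤ) (_ : a < b) (h : s + b = 0)
      (_ : K.obj.IsGE a) (_ : K.obj.IsLE b) (N : A)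
      (g : (σ A s).obj N ⟶ K) (C : DerivedCategory.Bounded A) (w : K ⟶ C)
      (ξ : C ⟶ ((σ A s).obj N)⟦(1 : ℤ)⟧),
      Triangle.mk g w ξ ∈ distTriang (DerivedCategory.Bounded A) →
      Epi ((DerivedCategory.homologyFunctor A b).map g.hom) →
      C.obj.IsGE a → C.obj.IsLE (b - 1) → P C → P K)
    (K : DerivedCategory.Bounded A) : P K := by
  obtain ⟨a, b, ha, hb⟩ := exists_bounds K
  exact bounded_induction_aux P hzero hsingle hstep (b - a + 1).toNat K a b ha hb (by omega)

/-- Induction principle on bounded objects of the derived category, by resolutions from the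
top degree; version where the property depends on the upper bound. -/
theorem bounded_induction_aux' (P : DerivedCategory.Bounded A → ℤ → Prop)
    (hzero : ∀ K b, IsZero K → P K b)
    (hsingle : ∀ (K : DerivedCategory.Bounded A) (b : ℤ), K.obj.IsGE b → K.obj.IsLE b → P K b)
    (hstep : ∀ (K : DerivedCategory.Bounded A) (a b s : ℤ) (_ : a < b) (h : s + b = 0)
      (_ : K.obj.IsGE a) (_ : K.obj.IsLE b) (N : A)
      (g : (σ A s).obj N ⟶ K) (C : DerivedCategory.Bounded A) (w : K ⟶ C)
      (ξ : C ⟶ ((σ A s).obj N)⟦(1 : ℤ)⟧),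
      Triangle.mk g w ξ ∈ distTriang (DerivedCategory.Bounded A) →
      Epi ((DerivedCategory.homologyFunctor A b).map g.hom) →
      C.obj.IsGE a → C.obj.IsLE (b - 1) → P C (b - 1) → P K b) :
    ∀ (n : ℕ) (K : DerivedCategory.Bounded A) (a b : ℤ), K.obj.IsGE a → K.obj.IsLE b →
      b - a < n → P K b := by
  intro n
  induction n with
  | zero =>
    intro K a b _ _ hn
    exact hzero K b (isZero_of_lt K a b (by omega))
  | succ n ih =>
    intro K a b _ _ hn
    by_cases hab : b < a
    · exact hzero K b (isZero_of_lt K a b hab)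
    by_cases hab' : a = b
    · subst hab'
      exact hsingle K a inferInstance inferInstance
    have hlt : a < b := by omega
    obtain ⟨N, g, hg⟩ := exists_res K (-b) b (by omega)
    obtain ⟨C, w, ξ, hT⟩ := distinguished_cocone_triangle g
    have h1 := cone_isLE (show -b + b = 0 by omega) g w ξ hT hg
    have h2 := cone_isGE (show -b + b = 0 by omega) g w ξ hT a (by omega)
    exact hstep K a b (-b) hlt (by omega) inferInstance inferInstance N g C w ξ hT hg h2 h1
      (ih C a (b - 1) h2 h1 (by omega))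

theorem bounded_induction' (P : DerivedCategory.Bounded A → ℤ → Prop)
    (hzero : ∀ K b, IsZero K → P K b)
    (hsingle : ∀ (K : DerivedCategory.Bounded A) (b : ℤ), K.obj.IsGE b → K.obj.IsLE b → P K b)
    (hstep : ∀ (K : DerivedCategory.Bounded A) (a b s : ℤ) (_ : a < b) (h : s + b = 0)
      (_ : K.obj.IsGE a) (_ : K.obj.IsLE b) (N : A)
      (g : (σ A s).obj N ⟶ K) (C : DerivedCategory.Bounded A) (w : K ⟶ C)
      (ξ : C ⟶ ((σ A s).obj N)⟦(1 : ℤ)⟧),
      Triangle.mk g w ξ ∈ distTriang (DerivedCategory.Bounded A) →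
      Epi ((DerivedCategory.homologyFunctor A b).map g.hom) →
      C.obj.IsGE a → C.obj.IsLE (b - 1) → P C (b - 1) → P K b)
    (K : DerivedCategory.Bounded A) (b : ℤ) (hb : K.obj.IsLE b) : P K b := by
  obtain ⟨a, _, ha, _⟩ := exists_bounds K
  exact bounded_induction_aux' P hzero hsingle hstep (b - a + 1).toNat K a b ha hb (by omega)

end Groth.Agent.Lib.Sib65
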