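import Groth.Agent.Lib.Sib65FF

/-!
# Bundled top-degree resolutions in `D^b(A)`
-/

universe w v u v' u'

open CategoryTheory Category Limits DerivedCategory Pretriangulated

namespace Groth.Agent.Lib.Sib65

variable {A : Type u} [Category.{v} A] [Abelian A] [HasDerivedCategory.{w} A]

/-- A resolution of `K` from the top degree `b`: a morphism from a single object in degree `b`
which is an epimorphism on `H^b`, together with a choice of cone. -/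
structure Res (K : DerivedCategory.Bounded A) (b : ℤ) where
  N : A
  g : (σ A (-b)).obj N ⟶ K
  C : DerivedCategory.Bounded A
  w : K ⟶ C
  ξ : C ⟶ ((σ A (-b)).obj N)⟦(1 : ℤ)⟧
  dist : Triangle.mk g w ξ ∈ distTriang (DerivedCategory.Bounded A)
  epi : Epi ((DerivedCategory.homologyFunctor A b).map g.hom)

namespace Res

variable {K : DerivedCategory.Bounded A} {b : ℤ} (R : Res K b)

lemma gw : R.g ≫ R.w = 0 := comp_distTriang_mor_zero₁₂ _ R.dist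

lemma isLE [K.obj.IsLE b] : R.C.obj.IsLE (b - 1) :=
  cone_isLE (show -b + b = 0 by omega) R.g R.w R.ξ R.dist R.epi

lemma isGE (a : ℤ) (ha : a ≤ b - 1) [K.obj.IsGE a] : R.C.obj.IsGE a :=
  cone_isGE (show -b + b = 0 by omega) R.g R.w R.ξ R.dist a ha

end Res

variable (hneg : ∀ X : A, ∃ (N : A) (p : N ⟶ X), Epi p ∧ ∀ f : X ⟶ N, f = 0)

include hneg in
/-- Resolutions which are negative with respect to a given object `E` and kill a given morphism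
to an object which is `≤ b - 1`. -/
lemma exists_res_killing {K K' : DerivedCategory.Bounded A} (f : K ⟶ K') (b : ℤ)
    [K.obj.IsLE b] [K'.obj.IsLE (b - 1)] (E : A) :
    ∃ R : Res K b, (∀ φ : E ⟶ R.N, φ = 0) ∧ R.g ≫ f = 0 := by
  obtain ⟨N, g, hg, hN, hgf⟩ := exists_neg_res hneg f (-b) b (by omega) E
  obtain ⟨C, w, ξ, hT⟩ := distinguished_cocone_triangle g
  exact ⟨⟨N, g, C, w, ξ, hT, hg⟩, hN, hgf⟩

include hneg in
lemma exists_negRes (K : DerivedCategory.Bounded A) (b : ℤ) [K.obj.IsLE b] (E : A) :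
    ∃ R : Res K b, ∀ φ : E ⟶ R.N, φ = 0 := by
  obtain ⟨N₀, g₀, hg₀⟩ := exists_res K (-b) b (by omega)
  obtain ⟨C₀, w₀, ξ₀, hT₀⟩ := distinguished_cocone_triangle g₀
  have := cone_isLE (show -b + b = 0 by omega) g₀ w₀ ξ₀ hT₀ hg₀
  obtain ⟨R, hR, _⟩ := exists_res_killing hneg w₀ b E
  exact ⟨R, hR⟩

/-- A common refinement of two resolutions. -/
lemma exists_refinement {K : DerivedCategory.Bounded A} {b : ℤ} [K.obj.IsLE b]
    (R₁ R₂ : Res K b) :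
    ∃ (R₃ : Res K b) (γ₁ : R₃.C ⟶ R₁.C) (γ₂ : R₃.C ⟶ R₂.C),
      R₃.w ≫ γ₁ = R₁.w ∧ R₃.w ≫ γ₂ = R₂.w := by
  have := R₁.isLE
  have := R₂.isLE
  obtain ⟨N₀, g₀, hg₀⟩ := exists_res K (-b) b (by omega)
  obtain ⟨N₁, p₁, hp₁, h₁⟩ := exists_epi_σ_map_comp_eq_zero (-b) b (by omega) (g₀ ≫ R₁.w) (b - 1)
    (by omega)
  obtain ⟨N₂, p₂, hp₂, h₂⟩ := exists_epi_σ_map_comp_eq_zero (-b) b (by omega)
    ((σ A (-b)).map p₁ ≫ g₀ ≫ R₂.w) (b - 1) (by omega)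
  let g₃ : (σ A (-b)).obj N₂ ⟶ K := (σ A (-b)).map p₂ ≫ (σ A (-b)).map p₁ ≫ g₀
  have hg₃ : Epi ((DerivedCategory.homologyFunctor A b).map g₃.hom) := by
    dsimp only [g₃]
    have := epi_homology_σ_map (-b) b (by omega) p₁
    have := epi_homology_σ_map (-b) b (by omega) p₂
    rw [ObjectProperty.FullSubcategory.comp_hom, ObjectProperty.FullSubcategory.comp_hom,
      Functor.map_comp, Functor.map_comp]
    infer_instance
  obtain ⟨C₃, w₃, ξ₃, hT₃⟩ := distinguished_cocone_triangle g₃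
  have e₁ : g₃ ≫ R₁.w = 0 := by
    dsimp only [g₃]
    rw [assoc, assoc, h₁, comp_zero]
  have e₂ : g₃ ≫ R₂.w = 0 := by
    dsimp only [g₃]
    rw [assoc, assoc, h₂]
  obtain ⟨γ₁, hγ₁⟩ : ∃ γ₁ : C₃ ⟶ R₁.C, R₁.w = w₃ ≫ γ₁ := Triangle.yoneda_exact₂ _ hT₃ R₁.w e₁
  obtain ⟨γ₂, hγ₂⟩ : ∃ γ₂ : C₃ ⟶ R₂.C, R₂.w = w₃ ≫ γ₂ := Triangle.yoneda_exact₂ _ hT₃ R₂.w e₂
  exact ⟨⟨N₂, g₃, C₃, w₃, ξ₃, hT₃, hg₃⟩, γ₁, γ₂, hγ₁.symm, hγ₂.symm⟩

end Groth.Agent.Lib.Sib65
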