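import Groth.Prelude.Def_W4stkfunctorsequivSib
import Groth.Agent.Lib.Sib65Eff
import Mathlib.CategoryTheory.Triangulated.TStructure.TruncLTGE
import Mathlib.Algebra.Homology.DerivedCategory.FullyFaithful

/-!
# Shifted single objects in the bounded derived category
-/

universe w v u

open CategoryTheory Category Limits DerivedCategory Pretriangulated

namespace Groth.Agent.Lib.Sib65

variable (A : Type u) [Category.{v} A] [Abelian A] [HasDerivedCategory.{w} A]

instance singleB_full : (DEquiv.singleB A).Full := by
  unfold DEquiv.singleB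
  exact ObjectProperty.instFullFullSubcategoryLift _ _ _

instance singleB_faithful : (DEquiv.singleB A).Faithful := by
  unfold DEquiv.singleB
  exact ObjectProperty.instFaithfulFullSubcategoryLift _ _ _

instance singleB_additive : (DEquiv.singleB A).Additive := by
  have : (DEquiv.singleB A ⋙ DerivedCategory.Bounded.ι).Additive := by
    have : DEquiv.singleB A ⋙ DerivedCategory.Bounded.ι = DerivedCategory.singleFunctor A 0 := rfl
    rw [this]; infer_instance
  exact Functor.additive_of_comp_faithful (DEquiv.singleB A) DerivedCategory.Bounded.ι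

/-- The functor placing an object of `A` in degree `-s` of the bounded derived category. -/
noncomputable def σ (s : ℤ) : A ⥤ DerivedCategory.Bounded A :=
  DEquiv.singleB A ⋙ shiftFunctor (DerivedCategory.Bounded A) s

instance (s : ℤ) : (σ A s).Full := by unfold σ; infer_instance
instance (s : ℤ) : (σ A s).Faithful := by unfold σ; infer_instance
instance (s : ℤ) : (σ A s).Additive := by unfold σ; infer_instance

variable {A}

variable (A) in
/-- `singleB A ⋙ ι` is the single functor in degree `0`. -/
noncomputable def singleBCompι :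
    DEquiv.singleB A ⋙ DerivedCategory.Bounded.ι ≅ DerivedCategory.singleFunctor A 0 :=
  Iso.refl _

/-- The underlying object of `(σ A s).obj M` is the single complex in degree `b = -s`. -/
noncomputable def σIso (s b : ℤ) (h : s + b = 0) (M : A) :
    ((σ A s).obj M).obj ≅ (DerivedCategory.singleFunctor A b).obj M :=
  (DerivedCategory.Bounded.ι.commShiftIso s).app ((DEquiv.singleB A).obj M) ≪≫
    (shiftFunctor (DerivedCategory A) s).mapIso ((singleBCompι A).app M) ≪≫
    ((DerivedCategory.singleFunctors A).shiftIso s b 0 h).app M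

lemma σIso_hom_naturality (s b : ℤ) (h : s + b = 0) {M M' : A} (f : M ⟶ M') :
    ((σ A s).map f).hom ≫ (σIso s b h M').hom =
      (σIso s b h M).hom ≫ (DerivedCategory.singleFunctor A b).map f := by
  dsimp [σIso, σ]
  have h1 := (DerivedCategory.Bounded.ι.commShiftIso s).hom.naturality ((DEquiv.singleB A).map f)
  have h2 := ((DerivedCategory.singleFunctors A).shiftIso s b 0 h).hom.naturality f
  have h3 := (singleBCompι A).hom.naturality f
  dsimp at h1 h2 h3
  rw [assoc, assoc, ← h2, ← Functor.map_comp_assoc, ← h3, Functor.map_comp_assoc,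
    reassoc_of% h1]

lemma σ_isLE (s b : ℤ) (h : s + b = 0) (M : A) : ((σ A s).obj M).obj.IsLE b :=
  TStructure.t.isLE_of_iso (σIso s b h M).symm b

lemma σ_isGE (s b : ℤ) (h : s + b = 0) (M : A) : ((σ A s).obj M).obj.IsGE b :=
  TStructure.t.isGE_of_iso (σIso s b h M).symm b

lemma exists_iso_σ (K : DerivedCategory.Bounded A) (s b : ℤ) (h : s + b = 0)
    [K.obj.IsGE b] [K.obj.IsLE b] : ∃ (M : A), Nonempty (K ≅ (σ A s).obj M) := by
  obtain ⟨M, ⟨e⟩⟩ := DerivedCategory.exists_iso_singleFunctor_obj_of_isGE_of_isLE K.obj b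
  exact ⟨M, ⟨ObjectProperty.isoMk _ (e ≪≫ (σIso s b h M).symm)⟩⟩

/-- Morphisms from an object which is `≤ n₀` to a single object in degree `b > n₀` vanish. -/
lemma hom_to_σ_eq_zero (K : DerivedCategory.Bounded A) (s b : ℤ) (h : s + b = 0) (M : A)
    (n₀ : ℤ) (hn : n₀ < b) [K.obj.IsLE n₀] (f : K ⟶ (σ A s).obj M) : f = 0 := by
  have := σ_isGE s b h M
  ext
  exact TStructure.t.zero f.hom n₀ b hn

/-- Morphisms from a single object in degree `b` to an object which is `≥ n₁ > b` vanish. -/
lemma hom_from_σ_eq_zero (K : DerivedCategory.Bounded A) (s b : ℤ) (h : s + b = 0) (M : A)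
    (n₁ : ℤ) (hn : b < n₁) [K.obj.IsGE n₁] (f : (σ A s).obj M ⟶ K) : f = 0 := by
  have := σ_isLE s b h M
  ext
  exact TStructure.t.zero f.hom b n₁ hn

/-- The map induced on `H^b` by a morphism from a single object in degree `b`. -/
noncomputable def homologyOfσHom {K : DerivedCategory.Bounded A} {s : ℤ} (b : ℤ) (h : s + b = 0)
    {M : A} (g : (σ A s).obj M ⟶ K) : M ⟶ (DerivedCategory.homologyFunctor A b).obj K.obj :=
  (DerivedCategory.singleFunctorCompHomologyFunctorIso A b).inv.app M ≫
    (DerivedCategory.homologyFunctor A b).map ((σIso s b h M).inv ≫ g.hom)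

end Groth.Agent.Lib.Sib65
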