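import Groth.Agent.Lib.Sib65Nat

/-!
# Siblings of a fully faithful functor are isomorphic to it (Stacks 0FXG), part 2: the
inductive step on the width
-/

universe w v u v' u'

open CategoryTheory Category Limits DerivedCategory Pretriangulated

namespace Groth.Agent.Lib.Sib65

variable {A : Type u} [Category.{v} A] [Abelian A] [HasDerivedCategory.{w} A]
  {D : Type u'} [Category.{v'} D] [Preadditive D] [HasZeroObject D] [HasShift D ℤ]
  [∀ n : ℤ, (shiftFunctor D n).Additive] [Pretriangulated D]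
  {F F' : DerivedCategory.Bounded A ⥤ D} [F.CommShift ℤ] [F.IsTriangulated]
  [F'.CommShift ℤ] [F'.IsTriangulated]
  {α : DEquiv.singleB A ⋙ F ≅ DEquiv.singleB A ⋙ F'}
  [F.Full] [F.Faithful]
  (hneg : ∀ X : A, ∃ (N : A) (p : N ⟶ X), Epi p ∧ ∀ f : X ⟶ N, f = 0)
  {n : ℕ} (hn : 0 < n)

section

variable {c : ∀ K : DerivedCategory.Bounded A, F.obj K ≅ F'.obj K} (hc : Good F F' α n c)

include hn hc in
omit [F.Full] [F.Faithful] in
/-- TR3 from a resolution, using a good family at level `n`. -/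
lemma exists_iso_of_res (K : DerivedCategory.Bounded A) (a b : ℤ) [K.obj.IsGE a] [K.obj.IsLE b]
    (hab : b - a ≤ n) (R : Res K b) :
    ∃ ψ : F.obj K ≅ F'.obj K,
      F.map R.g ≫ ψ.hom = (αsApp F F' α (-b) R.N).hom ≫ F'.map R.g ∧
      F.map R.w ≫ (c R.C).hom = ψ.hom ≫ F'.map R.w := by
  apply exists_iso_of_compat_ξ R.g R.w R.ξ R.dist (c R.C)
  have := hc.2 _ _ (R.ξ ≫ (σShift (-b) (-b + 1) rfl R.N).inv) (W_res hn hab R) (W_σ _ _ hn)
  rw [hc.1] at this
  exact this.symm

include hn hc hneg in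
omit [F.Faithful] in
/-- Existence of the extension of a good family to an object of width `≤ n + 1`. -/
lemma exists_ext (K : DerivedCategory.Bounded A) (a b : ℤ) [K.obj.IsGE a] [K.obj.IsLE b]
    (hab : b - a ≤ n) :
    ∃ ψ : F.obj K ≅ F'.obj K, ∀ R : Res K b,
      F.map R.w ≫ (c R.C).hom = ψ.hom ≫ F'.map R.w := by
  obtain ⟨R₀, hR₀⟩ := exists_negRes hneg K b ((DerivedCategory.homologyFunctor A b).obj K.obj)
  obtain ⟨ψ₀, -, hψ₀⟩ := exists_iso_of_res hn hc K a b hab R₀
  refine ⟨ψ₀, fun R => ?_⟩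
  obtain ⟨R₃, γ₀, γ, hγ₀, hγ⟩ := exists_refinement R₀ R
  obtain ⟨ψ₃, -, hψ₃⟩ := exists_iso_of_res hn hc K a b hab R₃
  have n₀ := hc.2 _ _ γ₀ (W_res hn hab R₃) (W_res hn hab R₀)
  have n₁ := hc.2 _ _ γ (W_res hn hab R₃) (W_res hn hab R)
  have e₀ : F.map R₀.w ≫ (c R₀.C).hom = ψ₃.hom ≫ F'.map R₀.w := by
    rw [← hγ₀, F.map_comp, F'.map_comp, assoc, n₀, reassoc_of% hψ₃]
  have : ψ₃.hom = ψ₀.hom := ext_unique (α := α) R₀ hR₀ (c R₀.C).hom _ _ e₀ hψ₀
  rw [← this, ← hγ, F.map_comp, F'.map_comp, assoc, n₁, reassoc_of% hψ₃]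

end

section Level

variable (F F' n) in
/-- The key property of a family at an object `K` with bounds `[a, b]`: compatibility with the
second map of every resolution from degree `b`. -/
def KPat (c' : ∀ K : DerivedCategory.Bounded A, F.obj K ≅ F'.obj K)
    (K : DerivedCategory.Bounded A) (a b : ℤ) : Prop :=
  K.obj.IsGE a ∧ K.obj.IsLE b ∧ b - a ≤ n ∧
    ∀ R : Res K b, F.map R.w ≫ (c' R.C).hom = (c' K).hom ≫ F'.map R.w

variable (F F' α n) in
/-- A family which is good at level `n` and has the key property at level `n + 1`. -/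
structure Level (c' : ∀ K : DerivedCategory.Bounded A, F.obj K ≅ F'.obj K) : Prop where
  normalized : Normalized F F' α c'
  natOn : NatOn F F' (W n) c'
  kp : ∀ K, W (n + 1) K → ∃ a b, KPat F F' n c' K a b

variable {c' : ∀ K : DerivedCategory.Bounded A, F.obj K ≅ F'.obj K} (hL : Level F F' α n c')

include hn hL in
omit [HasZeroObject D] [∀ n : ℤ, (shiftFunctor D n).Additive] [Pretriangulated D]
  [F.IsTriangulated] [F'.IsTriangulated] [F.Full] [F.Faithful] in
lemma kpat_of_lt (K : DerivedCategory.Bounded A) (a b : ℤ) (h1 : K.obj.IsGE a)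
    (h2 : K.obj.IsLE b) (hab : b - a < n) : KPat F F' n c' K a b :=
  ⟨h1, h2, by omega, fun R =>
    hL.natOn _ _ R.w ⟨a, b, h1, h2, hab⟩ (W_res (a := a) hn (by omega) R)⟩

omit [Preadditive D] [HasZeroObject D] [HasShift D ℤ] [∀ n : ℤ, (shiftFunctor D n).Additive]
  [Pretriangulated D] [F.CommShift ℤ] [F.IsTriangulated] [F'.CommShift ℤ] [F'.IsTriangulated]
  [F.Full] [F.Faithful] in
lemma nat_comp {K X L : DerivedCategory.Bounded A} (u₁ : K ⟶ X) (u₂ : X ⟶ L)
    (h₁ : F.map u₁ ≫ (c' X).hom = (c' K).hom ≫ F'.map u₁)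
    (h₂ : F.map u₂ ≫ (c' L).hom = (c' X).hom ≫ F'.map u₂) :
    F.map (u₁ ≫ u₂) ≫ (c' L).hom = (c' K).hom ≫ F'.map (u₁ ≫ u₂) := by
  rw [F.map_comp, F'.map_comp, assoc, h₂, reassoc_of% h₁]

include hn hL hneg in
omit [F.Faithful] in
/-- Naturality with respect to morphisms to a single object in the top degree. -/
lemma nat_to_single {K : DerivedCategory.Bounded A} {a b : ℤ} (hK : KPat F F' n c' K a b)
    (M : A) (π : K ⟶ (σ A (-b)).obj M) :
    F.map π ≫ (c' ((σ A (-b)).obj M)).hom = (c' K).hom ≫ F'.map π := by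
  obtain ⟨hKa, hKb, hab, hKR⟩ := hK
  have hLb : ((σ A (-b)).obj M).obj.IsLE b := σ_isLE (-b) b (by omega) M
  have hGb : ((σ A (-b)).obj M).obj.IsGE b := σ_isGE (-b) b (by omega) M
  obtain ⟨RL, hRL⟩ := exists_negRes hneg ((σ A (-b)).obj M) b
    ((DerivedCategory.homologyFunctor A b).obj K.obj)
  have hLkp := kpat_of_lt hn hL ((σ A (-b)).obj M) b b hGb hLb (by omega)
  refine nat_of_comp_w π RL (hom_F_F'σ_eq_zero (α := α)
    (fun d => hom_to_σ_eq_zero_of_neg K (-b) b (by omega) RL.N hRL d))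
    (c' K).hom (c' ((σ A (-b)).obj M)).hom (c' RL.C).hom (hLkp.2.2.2 RL) ?_
  have : RL.C.obj.IsLE (b - 1) := RL.isLE
  obtain ⟨RK, -, hRK⟩ := exists_res_killing hneg (π ≫ RL.w) b M
  exact nat_of_g_comp_eq_zero (π ≫ RL.w) RK hRK (c' K).hom (c' RL.C).hom (c' RK.C).hom (hKR RK)
    (fun u' => hL.natOn _ _ u' (W_res hn hab RK) (W_res hn (by omega : b - b ≤ n) RL))

include hn hL hneg in
omit [F.Faithful] in
/-- Naturality for a morphism from an object of width `≤ n` which is `≤ b` to an object with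
the key property with top degree `b`. -/
lemma nat_of_W_of_isLE {K : DerivedCategory.Bounded A} (hK : W n K)
    {L : DerivedCategory.Bounded A} {a b : ℤ} (hLk : KPat F F' n c' L a b) [K.obj.IsLE b]
    (u : K ⟶ L) : F.map u ≫ (c' L).hom = (c' K).hom ≫ F'.map u := by
  obtain ⟨hLa, hLb, hab, hLR⟩ := hLk
  by_cases hlt : b - a < n
  · exact hL.natOn _ _ u hK ⟨a, b, hLa, hLb, hlt⟩
  · obtain ⟨RL, hRL⟩ := exists_negRes hneg L b ((DerivedCategory.homologyFunctor A b).obj K.obj)
    exact nat_of_comp_w u RL (hom_F_F'σ_eq_zero (α := α)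
      (fun d => hom_to_σ_eq_zero_of_neg K (-b) b (by omega) RL.N hRL d))
      (c' K).hom (c' L).hom (c' RL.C).hom (hLR RL)
      (hL.natOn _ _ (u ≫ RL.w) hK (W_res hn hab RL))

include hn hL hneg in
omit [F.Faithful] in
/-- Naturality for morphisms from a shifted single object. -/
lemma nat_from_single : ∀ (m : ℕ) {L : DerivedCategory.Bounded A} {a b : ℤ}
    (_ : KPat F F' n c' L a b) (s : ℤ) (M : A), -s - b ≤ m →
    ∀ u : (σ A s).obj M ⟶ L,
      F.map u ≫ (c' L).hom = (c' ((σ A s).obj M)).hom ≫ F'.map u := by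
  intro m
  induction m with
  | zero =>
    intro L a b hLk s M hs u
    have : ((σ A s).obj M).obj.IsLE (-s) := σ_isLE s (-s) (by omega) M
    have : ((σ A s).obj M).obj.IsLE b := TStructure.t.isLE_of_le _ (-s) b (by omega)
    exact nat_of_W_of_isLE hneg hn hL (W_σ s M hn) hLk u
  | succ m ih =>
    intro L a b hLk s M hs u
    have : ((σ A s).obj M).obj.IsLE (-s) := σ_isLE s (-s) (by omega) M
    by_cases hsb : -s ≤ b
    · have : ((σ A s).obj M).obj.IsLE b := TStructure.t.isLE_of_le _ (-s) b hsb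
      exact nat_of_W_of_isLE hneg hn hL (W_σ s M hn) hLk u
    · have := hLk.2.1
      obtain ⟨M', p, hp, h0⟩ := exists_epi_σ_map_comp_eq_zero s (-s) (by omega) u b (by omega)
      obtain ⟨P, i, δ, hT⟩ := exists_ses_triangle s p
      obtain ⟨u', hu'⟩ : ∃ u' : ((σ A s).obj P)⟦(1 : ℤ)⟧ ⟶ L, u = δ ≫ u' :=
        Triangle.yoneda_exact₃ _ hT u h0
      have he : u = (δ ≫ (σShift s (s + 1) rfl P).inv) ≫ ((σShift s (s + 1) rfl P).hom ≫ u') := by
        rw [assoc, Iso.inv_hom_id_assoc, hu']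
      rw [he]
      exact nat_comp _ _ (hL.natOn _ _ _ (W_σ s M hn) (W_σ (s + 1) P hn))
        (ih hLk (s + 1) P (by push_cast at hs; omega) _)

include hn hL hneg in
omit [F.Faithful] in
/-- Naturality for morphisms between objects having the key property. -/
lemma nat_general : ∀ (m : ℕ) {K L : DerivedCategory.Bounded A} {aK bK aL bL : ℤ}
    (_ : KPat F F' n c' K aK bK) (_ : KPat F F' n c' L aL bL),
    (bK - aK) + (bL - aL) ≤ m → ∀ u : K ⟶ L,
      F.map u ≫ (c' L).hom = (c' K).hom ≫ F'.map u := by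
  intro m
  induction m with
  | zero =>
    intro K L aK bK aL bL hK hLk hm u
    obtain ⟨hKa, hKb, habK, hKR⟩ := hK
    obtain ⟨hLa, hLb, habL, hLR⟩ := hLk
    by_cases hzK : bK < aK
    · exact (F.map_isZero (isZero_of_lt K aK bK hzK)).eq_of_src _ _
    by_cases hzL : bL < aL
    · exact (F'.map_isZero (isZero_of_lt L aL bL hzL)).eq_of_tgt _ _
    exact hL.natOn _ _ u ⟨aK, bK, hKa, hKb, by omega⟩ ⟨aL, bL, hLa, hLb, by omega⟩
  | succ m ih =>
    intro K L aK bK aL bL hK hLk hm u
    have hK' := hK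
    have hLk' := hLk
    obtain ⟨hKa, hKb, habK, hKR⟩ := hK
    obtain ⟨hLa, hLb, habL, hLR⟩ := hLk
    by_cases hzK : bK < aK
    · exact (F.map_isZero (isZero_of_lt K aK bK hzK)).eq_of_src _ _
    by_cases hzL : bL < aL
    · exact (F'.map_isZero (isZero_of_lt L aL bL hzL)).eq_of_tgt _ _
    by_cases hle : bK ≤ bL
    · by_cases hsL : aL = bL
      · -- `L` is a single object in degree `bL`
        subst hsL
        obtain ⟨M, ⟨θ⟩⟩ := exists_iso_σ L (-aL) aL (by omega)
        have hθ : F.map θ.inv ≫ (c' L).hom = (c' ((σ A (-aL)).obj M)).hom ≫ F'.map θ.inv :=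
          hL.natOn _ _ θ.inv (W_σ _ _ hn) ⟨aL, aL, hLa, hLb, by omega⟩
        by_cases hlt : bK < aL
        · have hu : u = 0 := by
            ext
            exact TStructure.t.zero u.hom bK aL hlt
          rw [hu, F.map_zero, F'.map_zero, zero_comp, comp_zero]
        · obtain rfl : bK = aL := by omega
          have h1 := nat_to_single hneg hn hL hK' M (u ≫ θ.hom)
          have h2 := nat_comp (c' := c') (u ≫ θ.hom) θ.inv h1 hθ
          simpa using h2
      · -- reduce `L` to the cone of a negative resolution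
        have : K.obj.IsLE bL := TStructure.t.isLE_of_le _ bK bL hle
        obtain ⟨RL, hRL⟩ := exists_negRes hneg L bL
          ((DerivedCategory.homologyFunctor A bL).obj K.obj)
        have hC : KPat F F' n c' RL.C aL (bL - 1) :=
          kpat_of_lt hn hL RL.C aL (bL - 1) (RL.isGE aL (by omega)) RL.isLE (by omega)
        exact nat_of_comp_w u RL (hom_F_F'σ_eq_zero (α := α)
          (fun d => hom_to_σ_eq_zero_of_neg K (-bL) bL (by omega) RL.N hRL d))
          (c' K).hom (c' L).hom (c' RL.C).hom (hLR RL)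
          (ih hK' hC (by omega) (u ≫ RL.w))
    · by_cases hsK : aK = bK
      · -- `K` is a single object in degree `bK`
        subst hsK
        obtain ⟨M, ⟨θ⟩⟩ := exists_iso_σ K (-aK) aK (by omega)
        have hθ : F.map θ.hom ≫ (c' ((σ A (-aK)).obj M)).hom = (c' K).hom ≫ F'.map θ.hom :=
          hL.natOn _ _ θ.hom ⟨aK, aK, hKa, hKb, by omega⟩ (W_σ _ _ hn)
        have h1 := nat_from_single hneg hn hL (aK - bL).toNat hLk' (-aK) M (by omega) (θ.inv ≫ u)
        have h2 := nat_comp (c' := c') θ.hom (θ.inv ≫ u) hθ h1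
        simpa using h2
      · -- reduce `K` to the cone of a resolution killing `u`
        have : L.obj.IsLE (bK - 1) := TStructure.t.isLE_of_le _ bL (bK - 1) (by omega)
        obtain ⟨RK, -, hRK⟩ := exists_res_killing hneg u bK
          ((DerivedCategory.homologyFunctor A bK).obj K.obj)
        have hC : KPat F F' n c' RK.C aK (bK - 1) :=
          kpat_of_lt hn hL RK.C aK (bK - 1) (RK.isGE aK (by omega)) RK.isLE (by omega)
        exact nat_of_g_comp_eq_zero u RK hRK (c' K).hom (c' L).hom (c' RK.C).hom (hKR RK)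
          (fun u' => ih hC hLk' (by omega) u')

include hn hL hneg in
omit [F.Faithful] in
theorem natOn_succ_of_level : NatOn F F' (W (n + 1)) c' := by
  intro K L u hK hLW
  obtain ⟨aK, bK, hK'⟩ := hL.kp K hK
  obtain ⟨aL, bL, hL'⟩ := hL.kp L hLW
  exact nat_general hneg hn hL ((bK - aK) + (bL - aL)).toNat hK' hL' (by omega) u

end Level

section Extension

variable (F F' n) in
/-- The defining property of the extension of a family `c` at an object `K`. -/
def IsExt (c : ∀ K : DerivedCategory.Bounded A, F.obj K ≅ F'.obj K)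
    (K : DerivedCategory.Bounded A) (ψ : F.obj K ≅ F'.obj K) : Prop :=
  ∃ a b : ℤ, K.obj.IsGE a ∧ K.obj.IsLE b ∧ b - a ≤ n ∧
    ∀ R : Res K b, F.map R.w ≫ (c R.C).hom = ψ.hom ≫ F'.map R.w

open Classical in
variable (F F' n) in
/-- The extension of a family from width `≤ n` to width `≤ n + 1`. -/
noncomputable def extFamily (c : ∀ K : DerivedCategory.Bounded A, F.obj K ≅ F'.obj K)
    (K : DerivedCategory.Bounded A) : F.obj K ≅ F'.obj K :=
  if W n K then c K
  else if h : ∃ ψ : F.obj K ≅ F'.obj K, IsExt F F' n c K ψ then h.choose else c K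

variable {c : ∀ K : DerivedCategory.Bounded A, F.obj K ≅ F'.obj K}

omit [Preadditive D] [HasZeroObject D] [HasShift D ℤ] [∀ n : ℤ, (shiftFunctor D n).Additive]
  [Pretriangulated D] [F.CommShift ℤ] [F.IsTriangulated] [F'.CommShift ℤ] [F'.IsTriangulated]
  [F.Full] [F.Faithful] in
lemma extFamily_of_W {K : DerivedCategory.Bounded A} (hK : W n K) :
    extFamily F F' n c K = c K := by
  unfold extFamily
  rw [if_pos hK]

omit [Preadditive D] [HasZeroObject D] [HasShift D ℤ] [∀ n : ℤ, (shiftFunctor D n).Additive]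
  [Pretriangulated D] [F.CommShift ℤ] [F.IsTriangulated] [F'.CommShift ℤ] [F'.IsTriangulated]
  [F.Full] [F.Faithful] in
lemma extFamily_spec {K : DerivedCategory.Bounded A} (hK : ¬ W n K)
    (h : ∃ ψ : F.obj K ≅ F'.obj K, IsExt F F' n c K ψ) :
    IsExt F F' n c K (extFamily F F' n c K) := by
  unfold extFamily
  rw [if_neg hK, dif_pos h]
  exact h.choose_spec

variable (hc : Good F F' α n c)

include hn hc hneg in
omit [F.Faithful] in
lemma level_extFamily : Level F F' α n (extFamily F F' n c) where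
  normalized s M := by rw [extFamily_of_W (W_σ s M hn)]; exact hc.1 s M
  natOn K L u hK hLW := by
    rw [extFamily_of_W hK, extFamily_of_W hLW]
    exact hc.2 K L u hK hLW
  kp K hK := by
    by_cases hKn : W n K
    · obtain ⟨a, b, h1, h2, hab⟩ := hKn
      refine ⟨a, b, h1, h2, by omega, fun R => ?_⟩
      have hR : W n R.C := W_res (a := a) hn (by omega) R
      rw [extFamily_of_W hR, extFamily_of_W ⟨a, b, h1, h2, hab⟩]
      exact hc.2 _ _ R.w ⟨a, b, h1, h2, hab⟩ hR
    · obtain ⟨a, b, h1, h2, hab⟩ := hK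
      obtain ⟨ψ, hψ⟩ := exists_ext hneg hn hc K a b (by omega)
      obtain ⟨a', b', h1', h2', hab', hR'⟩ :=
        extFamily_spec hKn ⟨ψ, a, b, h1, h2, by omega, hψ⟩
      refine ⟨a', b', h1', h2', hab', fun R => ?_⟩
      rw [extFamily_of_W (W_res (a := a') hn hab' R)]
      exact hR' R

include hn hc hneg in
omit [F.Faithful] in
theorem exists_good_succ : ∃ c', Good F F' α (n + 1) c' :=
  ⟨extFamily F F' n c, (level_extFamily hneg hn hc).normalized,
    natOn_succ_of_level hneg hn (level_extFamily hneg hn hc)⟩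

end Extension




end Groth.Agent.Lib.Sib65
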