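import Groth.Agent.Lib.SpectralCons33
import Mathlib.Topology.Spectral.Basic
import Mathlib.Topology.Spectral.Hom
import Mathlib.Topology.ContinuousMap.T0Sierpinski

/-!
Powers `I → Prop` of the Sierpiński space are spectral spaces, and every spectral space embeds into
one of them as a constructibly closed subset (Hochster; Stacks 0A2T-style).
-/

set_option autoImplicit false
universe u

namespace Groth.Agent.Lib.SierpinskiPow33

open Topology Set TopologicalSpace

/-- Specialization in the Sierpiński space. -/
theorem specializes_prop {a b : Prop} : a ⤳ b ↔ (b → a) := by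
  constructor
  · intro h hb
    have hmem : b ∈ ({True} : Set Prop) := by simp [hb]
    have := h.mem_open isOpen_singleton_true hmem
    simpa using this
  · intro h
    by_cases hb : b
    · have ha := h hb
      have : a = b := propext ⟨fun _ => hb, fun _ => ha⟩
      rw [this]
    · have : b = False := propext ⟨hb, False.elim⟩
      rw [this, Specializes, nhds_false]
      exact le_top

variable {I : Type*}

/-- Specialization in a power of the Sierpiński space. -/
theorem specializes_pi_prop {p q : I → Prop} : p ⤳ q ↔ ∀ i, q i → p i := by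
  rw [specializes_pi]
  exact forall_congr' fun i => specializes_prop

/-- The basic open "boxes" of the Sierpiński power. -/
def box (S : Finset I) : Set (I → Prop) := {p | ∀ i ∈ S, p i}

theorem isOpen_box (S : Finset I) : IsOpen (box S) := by
  have : box S = ⋂ i ∈ S, {p : I → Prop | p i} := by
    ext p; simp [box]
  rw [this]
  exact isOpen_biInter_finset fun i _ => continuous_Prop.mp (continuous_apply i)

theorem box_inter [DecidableEq I] (S T : Finset I) : box S ∩ box T = box (S ∪ T) := by
  ext p
  simp only [box, mem_inter_iff, mem_ofPred_eq, Finset.mem_union]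
  constructor
  · rintro ⟨h1, h2⟩ i (hi | hi)
    · exact h1 i hi
    · exact h2 i hi
  · intro h
    exact ⟨fun i hi => h i (Or.inl hi), fun i hi => h i (Or.inr hi)⟩

/-- A set with a point that every other point of the set generalizes is quasi-compact. -/
theorem isCompact_of_forall_specializes {X : Type*} [TopologicalSpace X] {s : Set X} {x₀ : X}
    (hx₀ : x₀ ∈ s) (h : ∀ y ∈ s, y ⤳ x₀) : IsCompact s := by
  rw [isCompact_iff_finite_subcover]
  intro ι U hU hsU
  obtain ⟨i, hi⟩ := mem_iUnion.mp (hsU hx₀)
  refine ⟨{i}, fun y hy => ?_⟩
  simp only [Finset.mem_singleton, iUnion_iUnion_eq_left]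
  exact (h y hy).mem_open (hU i) hi

theorem isCompact_box (S : Finset I) : IsCompact (box S) := by
  classical
  refine isCompact_of_forall_specializes (x₀ := fun i => i ∈ S) (fun i hi => hi) fun p hp => ?_
  rw [specializes_pi_prop]
  exact fun i hi => hp i hi

theorem isTopologicalBasis_box :
    IsTopologicalBasis (range (box : Finset I → Set (I → Prop))) := by
  classical
  refine isTopologicalBasis_of_isOpen_of_nhds ?_ ?_
  · rintro _ ⟨S, rfl⟩
    exact isOpen_box S
  · intro p u hpu hu
    obtain ⟨J, v, hv, hsub⟩ := isOpen_pi_iff.mp hu p hpu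
    refine ⟨box (J.filter fun a => p a), ⟨_, rfl⟩, fun i hi => (Finset.mem_filter.mp hi).2, ?_⟩
    intro q hq
    refine hsub fun a ha => ?_
    by_cases hpa : p a
    · have hqa : q a := hq a (Finset.mem_filter.mpr ⟨ha, hpa⟩)
      have : q a = p a := propext ⟨fun _ => hpa, fun _ => hqa⟩
      rw [this]
      exact (hv a ha).2
    · have hsp : q a ⤳ p a := specializes_prop.mpr fun h => absurd h hpa
      exact hsp.mem_open (hv a ha).1 (hv a ha).2

instance : PrespectralSpace (I → Prop) :=
  PrespectralSpace.of_isTopologicalBasis isTopologicalBasis_box (by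
    rintro _ ⟨S, rfl⟩
    exact isCompact_box S)

instance : QuasiSeparatedSpace (I → Prop) := by
  classical
  exact QuasiSeparatedSpace.of_isTopologicalBasis isTopologicalBasis_box fun S T => by
    rw [box_inter]; exact isCompact_box _

instance : CompactSpace (I → Prop) := by
  refine ⟨?_⟩
  have : (univ : Set (I → Prop)) = box ∅ := by
    ext p; simp [box]
  rw [this]
  exact isCompact_box ∅

instance : T0Space Prop := by
  refine ⟨fun a b hab => ?_⟩
  exact propext ⟨specializes_prop.mp hab.specializes', specializes_prop.mp hab.specializes⟩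

instance : QuasiSober (I → Prop) := by
  classical
  refine ⟨fun {Z} hZirr hZcl => ?_⟩
  refine ⟨fun i => ∃ p ∈ Z, p i, ?_⟩
  set g : I → Prop := fun i => ∃ p ∈ Z, p i with hg
  have hgZ : g ∈ Z := by
    rw [← hZcl.closure_eq, isTopologicalBasis_box.mem_closure_iff]
    rintro _ ⟨S, rfl⟩ hgS
    have := isIrreducible_iff_sInter.mp hZirr (S.image fun i => {p : I → Prop | p i})
      (by
        intro u hu
        obtain ⟨i, -, rfl⟩ := Finset.mem_image.mp hu
        exact continuous_Prop.mp (continuous_apply i))
      (by
        intro u hu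
        obtain ⟨i, hi, rfl⟩ := Finset.mem_image.mp hu
        obtain ⟨p, hpZ, hpi⟩ := hgS i hi
        exact ⟨p, hpZ, hpi⟩)
    obtain ⟨p, hpZ, hp⟩ := this
    refine ⟨p, fun i hi => ?_, hpZ⟩
    exact mem_sInter.mp hp _ (Finset.mem_coe.mpr (Finset.mem_image.mpr ⟨i, hi, rfl⟩))
  refine subset_antisymm ?_ ?_
  · exact hZcl.closure_subset_iff.mpr (singleton_subset_iff.mpr hgZ)
  · intro p hp
    rw [← specializes_iff_mem_closure, specializes_pi_prop]
    exact fun i hpi => ⟨p, hp, hpi⟩

instance : SpectralSpace (I → Prop) := { }

/-- The canonical map of a space to the Sierpiński power indexed by its quasi-compact opens. -/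
def toPow (X : Type*) [TopologicalSpace X] :
    X → ({U : Set X // IsOpen U ∧ IsCompact U} → Prop) := fun x U => x ∈ U.1

section toPow

variable (X : Type*) [TopologicalSpace X]

theorem continuous_toPow : Continuous (toPow X) :=
  continuous_pi fun U => continuous_Prop.mpr U.2.1

theorem isInducing_toPow [PrespectralSpace X] : IsInducing (toPow X) := by
  refine ⟨le_antisymm (continuous_toPow X).le_induced fun u hu => ?_⟩
  obtain ⟨S, hS, rfl⟩ := (PrespectralSpace.isTopologicalBasis (X := X)).open_eq_sUnion hu
  refine @isOpen_sUnion _ (induced (toPow X) _) _ fun s hs => ?_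
  refine isOpen_induced_iff.mpr ⟨{p | p ⟨s, hS hs⟩}, continuous_Prop.mp (continuous_apply _), ?_⟩
  ext x
  simp [toPow]

theorem isEmbedding_toPow [PrespectralSpace X] [T0Space X] : IsEmbedding (toPow X) :=
  ⟨isInducing_toPow X, fun _ _ hxy =>
    ((isInducing_toPow X).inseparable_iff.mp (hxy ▸ Inseparable.refl _)).eq⟩

theorem preimage_toPow_box (S : Finset {U : Set X // IsOpen U ∧ IsCompact U}) :
    toPow X ⁻¹' box S = ⋂ U ∈ S, (U : Set X) := by
  ext x
  simp [toPow, box]

theorem isCompact_preimage_toPow_box [CompactSpace X] [QuasiSeparatedSpace X]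
    (S : Finset {U : Set X // IsOpen U ∧ IsCompact U}) : IsCompact (toPow X ⁻¹' box S) := by
  classical
  rw [preimage_toPow_box]
  induction S using Finset.induction_on with
  | empty => simpa using isCompact_univ
  | insert U S _ ih =>
    rw [Finset.set_biInter_insert]
    refine QuasiSeparatedSpace.inter_isCompact _ _ U.2.1 U.2.2 ?_ ih
    exact isOpen_biInter_finset fun V _ => V.2.1

theorem isSpectralMap_toPow [CompactSpace X] [QuasiSeparatedSpace X] :
    IsSpectralMap (toPow X) := by
  refine ⟨continuous_toPow X, fun O hO hOc => ?_⟩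
  obtain ⟨s, hs, rfl⟩ := eq_finite_iUnion_of_isTopologicalBasis_of_isCompact_open _
    isTopologicalBasis_box O hOc hO
  rw [preimage_iUnion₂]
  exact hs.isCompact_biUnion fun S _ => isCompact_preimage_toPow_box X S

/-- The image of a spectral space in the Sierpiński power is constructibly closed. -/
theorem isClosed_cons_range_toPow [SpectralSpace X] :
    IsClosed[constructibleTopology _] (range (toPow X)) := by
  have hcomp := SpectralCons33.compactSpace_cons (X := X)
  have hcont := SpectralCons33.continuous_cons_of_isSpectralMap (isSpectralMap_toPow X)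
  have ht2 := SpectralCons33.t2Space_cons
    (X := {U : Set X // IsOpen U ∧ IsCompact U} → Prop)
  have := @IsCompact.image _ _ (constructibleTopology X) (constructibleTopology _) univ _
    (@isCompact_univ _ (constructibleTopology X) hcomp) hcont
  rw [image_univ] at this
  exact @IsCompact.isClosed _ (constructibleTopology _) ht2 _ this

end toPow

end Groth.Agent.Lib.SierpinskiPow33
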