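import Groth.Agent.Lib.CechEdgeI

/-!
# Cech `0`-cocycles of a presheaf for a family of arrows, compatible families, and morphisms out
of the sieve generated by the family
-/

set_option autoImplicit false

universe u

open CategoryTheory Limits Opposite

namespace Groth.Agent.Lib.SieveCech

open Groth.Agent.Lib.CechLow Groth.Agent.Lib.CechLES Groth.Agent.Lib.CechH0
  Groth.Agent.Lib.CochainAb Groth.Agent.Lib.CechEdgeA Groth.Agent.Lib.CechEdgeI CechEdge

variable {C : Type u} [SmallCategory C] [HasPullbacks C]
  {X : C} {ι : Type u} (Y : ι → Over X) (M : Cᵒᵖ ⥤ AddCommGrpCat.{u})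

/-- the sieve generated by the family -/
abbrev R : Sieve X := Sieve.ofArrows (fun i => (Y i).left) (fun i => (Y i).hom)

/-- compatibility of a family of sections over the members of the family -/
def Compat (x : ∀ i, M.obj (op (Y i).left)) : Prop :=
  ∀ (i j : ι) (Z : C) (gi : Z ⟶ (Y i).left) (gj : Z ⟶ (Y j).left),
    gi ≫ (Y i).hom = gj ≫ (Y j).hom → M.map gi.op (x i) = M.map gj.op (x j)

/-- the member of the sieve attached to an index -/
def gen (i : ι) : (R Y).functor.obj (op (Y i).left) :=
  ⟨(Y i).hom, Sieve.ofArrows_mk _ _ i⟩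

omit [HasPullbacks C] in
lemma mem_R {V : C} {i : ι} (a : V ⟶ (Y i).left) : (R Y) (a ≫ (Y i).hom) :=
  (R Y).downward_closed (Sieve.ofArrows_mk _ _ i) a

section Choice

variable {Y}

/-- a chosen index through which a member of the sieve factors -/
noncomputable def idx {V : C} (g : (R Y).functor.obj (op V)) : ι :=
  ((Sieve.mem_ofArrows_iff _ _ g.1).1 g.2).choose

/-- a chosen factorization of a member of the sieve -/
noncomputable def arr {V : C} (g : (R Y).functor.obj (op V)) : V ⟶ (Y (idx g)).left :=
  ((Sieve.mem_ofArrows_iff _ _ g.1).1 g.2).choose_spec.choose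

omit [HasPullbacks C] in
lemma arr_comp {V : C} (g : (R Y).functor.obj (op V)) : arr g ≫ (Y (idx g)).hom = g.1 :=
  ((Sieve.mem_ofArrows_iff _ _ g.1).1 g.2).choose_spec.choose_spec.symm

end Choice

variable {Y M}

/-- a compatible family as a morphism out of the sieve functor -/
noncomputable def natOfCompat (x : ∀ i, M.obj (op (Y i).left)) (hx : Compat Y M x) :
    (R Y).functor ⟶ M ⋙ forget AddCommGrpCat.{u} where
  app V := TypeCat.ofHom (fun g => M.map (arr g).op (x (idx g)))
  naturality V W f := by
    apply TypeCat.homEquiv.injective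
    funext g
    change M.map (arr ((R Y).functor.map f g)).op (x (idx ((R Y).functor.map f g))) =
      M.map f (M.map (arr g).op (x (idx g)))
    rw [← ConcreteCategory.comp_apply, ← M.map_comp]
    refine hx _ _ _ (arr ((R Y).functor.map f g)) (f.unop ≫ arr g) ?_
    rw [arr_comp, Category.assoc, arr_comp]
    rfl

omit [HasPullbacks C] in
lemma natOfCompat_app (x : ∀ i, M.obj (op (Y i).left)) (hx : Compat Y M x) {V : C}
    (g : (R Y).functor.obj (op V)) (i : ι) (a : V ⟶ (Y i).left) (h : a ≫ (Y i).hom = g.1) :
    (natOfCompat x hx).app (op V) g = M.map a.op (x i) :=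
  hx _ _ _ (arr g) a ((arr_comp g).trans h.symm)

omit [HasPullbacks C] in
lemma natOfCompat_gen (x : ∀ i, M.obj (op (Y i).left)) (hx : Compat Y M x) (i : ι) :
    (natOfCompat x hx).app (op (Y i).left) (gen Y i) = x i := by
  rw [natOfCompat_app x hx (gen Y i) i (𝟙 _) (Category.id_comp _)]
  change M.map (𝟙 _) (x i) = x i
  rw [M.map_id]
  rfl

omit [HasPullbacks C] in
/-- a morphism out of the sieve functor gives a compatible family -/
lemma compat_of_nat (ψ : (R Y).functor ⟶ M ⋙ forget AddCommGrpCat.{u}) :
    Compat Y M (fun i => ψ.app (op (Y i).left) (gen Y i)) := by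
  intro i j Z gi gj h
  have hi := ConcreteCategory.congr_hom (ψ.naturality gi.op) (gen Y i)
  have hj := ConcreteCategory.congr_hom (ψ.naturality gj.op) (gen Y j)
  refine hi.symm.trans (Eq.trans ?_ hj)
  change ψ.app (op Z) ((R Y).functor.map gi.op (gen Y i)) =
    ψ.app (op Z) ((R Y).functor.map gj.op (gen Y j))
  congr 1
  exact Subtype.ext h

omit [HasPullbacks C] in
/-- a morphism out of the sieve functor is determined by its values on the generators -/
lemma nat_ext (ψ ψ' : (R Y).functor ⟶ M ⋙ forget AddCommGrpCat.{u})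
    (h : ∀ i, ψ.app (op (Y i).left) (gen Y i) = ψ'.app (op (Y i).left) (gen Y i)) : ψ = ψ' := by
  apply NatTrans.ext
  funext V
  apply TypeCat.homEquiv.injective
  funext g
  have hg : g = (R Y).functor.map (arr g).op (gen Y (idx g)) := Subtype.ext (arr_comp g).symm
  have h1 := ConcreteCategory.congr_hom (ψ.naturality (arr g).op) (gen Y (idx g))
  have h2 := ConcreteCategory.congr_hom (ψ'.naturality (arr g).op) (gen Y (idx g))
  change ψ.app V g = ψ'.app V g
  rw [hg]
  refine h1.trans (Eq.trans ?_ h2.symm)
  change M.map (arr g).op (ψ.app _ (gen Y (idx g))) = M.map (arr g).op (ψ'.app _ (gen Y (idx g)))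
  rw [h]

end Groth.Agent.Lib.SieveCech
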