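import Groth.Agent.Lib.SieveCechA

/-!
# Cech `0`-cocycles of a presheaf are the compatible families
-/

set_option autoImplicit false

universe u

open CategoryTheory Limits Opposite

namespace Groth.Agent.Lib.SieveCech

open Groth.Agent.Lib.CechLow Groth.Agent.Lib.CechLES Groth.Agent.Lib.CechH0
  Groth.Agent.Lib.CochainAb Groth.Agent.Lib.CechEdgeA Groth.Agent.Lib.CechEdgeI CechEdge

variable {C : Type u} [SmallCategory C] [HasPullbacks C]
  {X : C} {ι : Type u} (Y : ι → Over X) (M : Cᵒᵖ ⥤ AddCommGrpCat.{u})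

/-- the sections of a `0`-cochain -/
noncomputable def secP (z : (cx M Y).X 0) (i : ι) : M.obj (op (Y i).left) :=
  zeroCochainSection Y (P₁ := (Over.forget X).op ⋙ M) z i

lemma secP_famCochain (x : ∀ i, M.obj (op (Y i).left)) (i : ι) :
    secP Y M (famCochain Y M x) i = x i :=
  map_lift_comp_famCochain Y M x i

lemma comp_eq_map_secP (z : (cx M Y).X 0) (a : Fin 1 → ι) :
    comp Y ((Over.forget X).op ⋙ M) 0 a z =
      ((Over.forget X).op ⋙ M).map (Pi.π (fun k => Y (a k)) 0).op (secP Y M z (a 0)) := by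
  have h := CechLow.map_comp_zero Y (P₁ := (Over.forget X).op ⋙ M) z a
    (𝟙 (∏ᶜ fun k => Y (a k)))
  rw [Category.id_comp] at h
  refine Eq.trans ?_ h
  simp
  rfl

lemma famCochain_secP (z : (cx M Y).X 0) : famCochain Y M (secP Y M z) = z := by
  apply cochain_ext Y ((Over.forget X).op ⋙ M) 0
  intro a
  rw [comp_famCochain, comp_eq_map_secP]

omit [HasPullbacks C] in
lemma map_lift_of_map_π {D : Type*} [Category D] [HasFiniteProducts D]
    (Q : Dᵒᵖ ⥤ AddCommGrpCat.{u}) (Yf : Fin 2 → D) {W' : D} (φ : ∀ k, W' ⟶ Yf k)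
    (y1 : Q.obj (op (Yf 1))) (y0 : Q.obj (op (Yf 0)))
    (h : Q.map (Pi.π Yf 1).op y1 = Q.map (Pi.π Yf 0).op y0) :
    Q.map (φ 1).op y1 = Q.map (φ 0).op y0 := by
  have h2 := congrArg (Q.map (Pi.lift φ).op) h
  rw [← ConcreteCategory.comp_apply, ← ConcreteCategory.comp_apply, ← Q.map_comp,
    ← Q.map_comp, ← op_comp, ← op_comp, Pi.lift_π, Pi.lift_π] at h2
  exact h2

/-- the sections of a `0`-cocycle form a compatible family -/
lemma compat_secP (z : (cx M Y).X 0) (hz : (cx M Y).d 0 1 z = 0) :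
    Compat Y M (secP Y M z) := by
  have hcomp : ∀ a : Fin 2 → ι,
      ((Over.forget X).op ⋙ M).map (Pi.π (fun k => Y (a k)) 1).op (secP Y M z (a 1)) =
        ((Over.forget X).op ⋙ M).map (Pi.π (fun k => Y (a k)) 0).op (secP Y M z (a 0)) := by
    intro a
    have h := congrArg (comp Y ((Over.forget X).op ⋙ M) 1 a) hz
    rw [d_comp_apply, map_zero, Fin.sum_univ_two] at h
    have key : ∀ j : Fin 2, ((Over.forget X).op ⋙ M).map (faceMap Y j a).op
        (comp Y ((Over.forget X).op ⋙ M) 0 (face j a) z) =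
        ((Over.forget X).op ⋙ M).map (Pi.π (fun k => Y (a k)) (j.succAbove 0)).op
          (zeroCochainSection Y (P₁ := (Over.forget X).op ⋙ M) z (a (j.succAbove 0))) := by
      intro j
      rw [CechLow.map_comp_zero, faceMap_π]
      rfl
    rw [key, key] at h
    have h00 : (0 : Fin 2).succAbove (0 : Fin 1) = 1 := by decide
    have h10 : (1 : Fin 2).succAbove (0 : Fin 1) = 0 := by decide
    rw [h00, h10] at h
    change ((Over.forget X).op ⋙ M).map (Pi.π (fun k => Y (a k)) 1).op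
        (zeroCochainSection Y (P₁ := (Over.forget X).op ⋙ M) z (a 1)) =
      ((Over.forget X).op ⋙ M).map (Pi.π (fun k => Y (a k)) 0).op
        (zeroCochainSection Y (P₁ := (Over.forget X).op ⋙ M) z (a 0))
    generalize ((Over.forget X).op ⋙ M).map (Pi.π (fun k => Y (a k)) 1).op
      (zeroCochainSection Y (P₁ := (Over.forget X).op ⋙ M) z (a 1)) = A at h ⊢
    generalize ((Over.forget X).op ⋙ M).map (Pi.π (fun k => Y (a k)) 0).op
      (zeroCochainSection Y (P₁ := (Over.forget X).op ⋙ M) z (a 0)) = B at h ⊢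
    have e0 : ((0 : Fin 2) : ℕ) = 0 := rfl
    have e1 : ((1 : Fin 2) : ℕ) = 1 := rfl
    rw [e0, e1, pow_zero, pow_one, one_zsmul, neg_one_zsmul] at h
    exact add_neg_eq_zero.1 h
  intro i j W gi gj hij
  let a : Fin 2 → ι := Fin.cons i (fun _ => j)
  let W' : Over X := Over.mk (gi ≫ (Y i).hom)
  let φ : ∀ k : Fin 2, W' ⟶ Y (a k) :=
    Fin.cons (α := fun k => W' ⟶ Y (a k)) (Over.homMk gi rfl) (fun _ => Over.homMk gj hij.symm)
  exact (map_lift_of_map_π ((Over.forget X).op ⋙ M) (fun k => Y (a k)) φ _ _ (hcomp a)).symm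

end Groth.Agent.Lib.SieveCech
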