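import Groth.Agent.Lib.CechAcyc6
import Mathlib.CategoryTheory.Sites.IsSheafFor
import Mathlib.CategoryTheory.Functor.Flat

/-!
# Acyclicity on objects vs. cohomology of covering sieves in presheaves (helper95)
-/

universe u

open CategoryTheory Limits Opposite Abelian

set_option linter.unusedSectionVars false

namespace Groth.Agent.Lib.SieveCoh

open Groth.Agent.Lib.CechAcyc1 Groth.Agent.Lib.CechAcyc3 Groth.Agent.Lib.CechAcyc4
  Groth.Agent.Lib.CechAcyc5 Groth.Agent.Lib.CechAcyc6

variable {C : Type u} [SmallCategory C] (J : GrothendieckTopology C)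

/-- the trivial topology -/
abbrev B : GrothendieckTopology C := ⊥

instance isContinuous_id_bot : Functor.IsContinuous (𝟭 C) (B (C := C)) J where
  op_comp_isSheaf_of_types G := (isSheaf_iff_isSheaf_of_type _ _).1 (Presheaf.isSheaf_bot _)

instance : PreservesFiniteLimits (us J (B (C := C)) (𝟭 C)) := by
  have : RepresentablyFlat (𝟭 C) := RepresentablyFlat.id
  apply Functor.sheafPullbackConstruction.preservesFiniteLimits

/-- the functor regarding an abelian sheaf as a presheaf, i.e. a sheaf for the trivial topology -/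
noncomputable abbrev P : Sheaf J AddCommGrpCat.{u} ⥤ Sheaf (B (C := C)) AddCommGrpCat.{u} :=
  CohSite.push J (B (C := C)) (𝟭 C)

lemma P_obj_eq (F : Sheaf J AddCommGrpCat.{u}) :
    (P J).obj F = ⟨F.obj, Presheaf.isSheaf_bot _⟩ := rfl

/-- a presheaf of sets as a sheaf for the trivial topology -/
abbrev Psh (R : Cᵒᵖ ⥤ Type u) : Sheaf (B (C := C)) (Type u) := ⟨R, Presheaf.isSheaf_bot _⟩

/-- morphisms from the free abelian presheaf on `R` are morphisms of presheaves of sets -/
noncomputable def homEquiv (R : Cᵒᵖ ⥤ Type u) (Ψ : Sheaf (B (C := C)) AddCommGrpCat.{u}) :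
    ((T B).obj (Psh R) ⟶ Ψ) ≃ (R ⟶ Ψ.obj ⋙ forget AddCommGrpCat.{u}) :=
  ((adj (J := B)).homEquiv (Psh R) Ψ).trans
    { toFun := fun f => f.hom
      invFun := fun f => ⟨f⟩
      left_inv := fun _ => rfl
      right_inv := fun _ => rfl }

lemma homEquiv_comp (R : Cᵒᵖ ⥤ Type u) {Ψ Ψ' : Sheaf (B (C := C)) AddCommGrpCat.{u}}
    (ψ : (T B).obj (Psh R) ⟶ Ψ) (α : Ψ ⟶ Ψ') :
    homEquiv R Ψ' (ψ ≫ α) =
      homEquiv R Ψ ψ ≫ Functor.whiskerRight α.hom (forget AddCommGrpCat.{u}) := by
  simp only [homEquiv, Equiv.trans_apply, Adjunction.homEquiv_naturality_right]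
  rfl

variable {J}

lemma isSheafFor_forget (G : Sheaf J AddCommGrpCat.{u}) {X : C} (R : Sieve X) (hR : R ∈ J X) :
    Presieve.IsSheafFor (G.obj ⋙ forget AddCommGrpCat.{u}) R.arrows :=
  ((isSheaf_iff_isSheaf_of_type J _).1
    ((sheafCompose J (forget AddCommGrpCat.{u})).obj G).2) R hR

/-- the free abelian presheaf on a sieve -/
noncomputable abbrev ZR {X : C} (R : Sieve X) : Sheaf (B (C := C)) AddCommGrpCat.{u} :=
  (T B).obj (Psh R.functor)

/-- (⇒) lifting: a morphism `ℤ[R] ⟶ Q` of presheaves lifts to `I` if `I(X) ⟶ Q(X)` is surjective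
and `R` is a covering sieve of `X`. -/
lemma exists_lift_sieve {S : ShortComplex (Sheaf J AddCommGrpCat.{u})} {X : C} (R : Sieve X)
    (hR : R ∈ J X) (hsurj : Function.Surjective (S.g.hom.app (op X)))
    (φ : ZR R ⟶ (P J).obj S.X₃) :
    ∃ ψ : ZR R ⟶ (P J).obj S.X₂, ψ ≫ (P J).map S.g = φ := by
  have h3 := isSheafFor_forget S.X₃ R hR
  obtain ⟨t, ht⟩ := hsurj (yonedaEquiv (h3.extend (homEquiv _ _ φ)))
  let g' : yoneda.obj X ⟶ S.X₂.obj ⋙ forget AddCommGrpCat.{u} := yonedaEquiv.symm t
  refine ⟨(homEquiv R.functor ((P J).obj S.X₂)).symm (R.functorInclusion ≫ g'), ?_⟩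
  apply (homEquiv R.functor ((P J).obj S.X₃)).injective
  rw [homEquiv_comp, Equiv.apply_symm_apply, Category.assoc]
  have h4 : g' ≫ Functor.whiskerRight S.g.hom (forget AddCommGrpCat.{u}) =
      h3.extend (homEquiv _ _ φ) := by
    apply yonedaEquiv.injective
    rw [yonedaEquiv_comp, Equiv.apply_symm_apply]
    exact ht
  exact (congrArg (fun k => R.functorInclusion ≫ k) h4).trans
    (h3.functorInclusion_comp_extend _)

lemma isTotallyAcyclic_P_injective (I : Sheaf J AddCommGrpCat.{u}) [Injective I] :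
    CohCx.IsTotallyAcyclic ((P J).obj I) :=
  isTotallyAcyclic_push J (B (C := C)) (𝟭 C) I (isTotallyAcyclic_of_injective I)

/-- (⇒) of S6178. -/
theorem subsingleton_ext_ZR_of_objAcyclic (q : ℕ) :
    ∀ F : Sheaf J AddCommGrpCat.{u}, ObjAcyclic J F → ∀ (X : C) (R : Sieve X), R ∈ J X →
      Subsingleton (Ext (ZR R) ((P J).obj F) (q + 1)) := by
  induction q with
  | zero =>
    intro F hF X R hR
    have hS' := shortExact_map_push (B (C := C)) (𝟭 C) (injSC_shortExact F) (fun U => hF U 0)
    refine subsingleton_ext_one' hS' (ZR R)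
      (isTotallyAcyclic_P_injective (injSC F).X₂ (Psh R.functor) 0) ?_
    intro φ
    exact exists_lift_sieve R hR
      (surjective_of_subsingleton_ext_one (injSC_shortExact F) X (hF X 0)) φ
  | succ q ih =>
    intro F hF X R hR
    have hS' := shortExact_map_push (B (C := C)) (𝟭 C) (injSC_shortExact F) (fun U => hF U 0)
    refine subsingleton_ext_succ_succ' hS' (ZR R) q (ih (injSC F).X₃ ?_ X R hR)
      (isTotallyAcyclic_P_injective (injSC F).X₂ (Psh R.functor) (q + 1))
    intro U p
    exact subsingleton_ext_succ_of_succ_succ (injSC_shortExact F) _ p (hF U (p + 1))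

/-- A monomorphism of abelian sheaves is injective on sections (as in helper92's `Lib/SiteCoh`). -/
lemma injective_app_of_mono {K : GrothendieckTopology C} {F G : Sheaf K AddCommGrpCat.{u}}
    (φ : F ⟶ G) [Mono φ] (U : C) : Function.Injective (φ.hom.app (op U)) := by
  have h1 : Mono ((sheafToPresheaf K AddCommGrpCat.{u}).map φ) := inferInstance
  have h2 : Mono (((sheafToPresheaf K AddCommGrpCat.{u}).map φ).app (op U)) := inferInstance
  exact (AddCommGrpCat.mono_iff_injective _).1 h2

section Base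

variable {S : ShortComplex (Sheaf J AddCommGrpCat.{u})} (hS : S.ShortExact)

/-- the short complex `F ⟶ I ⟶ I/F` of presheaves (cokernel taken in presheaves) -/
noncomputable def scP (S : ShortComplex (Sheaf J AddCommGrpCat.{u})) :
    ShortComplex (Sheaf (B (C := C)) AddCommGrpCat.{u}) :=
  ShortComplex.mk ((P J).map S.f) (cokernel.π ((P J).map S.f)) (cokernel.condition _)

include hS in
lemma scP_shortExact : (scP S).ShortExact := by
  have := hS.mono_f
  have h2 : Mono (scP S).f := by
    change Mono ((P J).map S.f)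
    infer_instance
  have h3 : Epi (scP S).g := by
    change Epi (cokernel.π ((P J).map S.f))
    infer_instance
  exact { exact := ShortComplex.exact_cokernel _ }

/-- the comparison `I/F ⟶ Q` of presheaves -/
noncomputable def mP (S : ShortComplex (Sheaf J AddCommGrpCat.{u})) :
    (scP S).X₃ ⟶ (P J).obj S.X₃ :=
  cokernel.desc ((P J).map S.f) ((P J).map S.g) (by rw [← Functor.map_comp, S.zero, Functor.map_zero])

lemma scP_g_mP : (scP S).g ≫ mP S = (P J).map S.g := cokernel.π_desc _ _ _

include hS in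
lemma mono_mP : Mono (mP S) := by
  have hmono := hS.mono_f
  have h1 : (S.map (P J)).Exact :=
    hS.exact.map_of_mono_of_preservesKernel (P J) hmono inferInstance
  exact (S.map (P J)).exact_iff_mono_cokernel_desc.1 h1

end Base

section Base2

variable {S : ShortComplex (Sheaf J AddCommGrpCat.{u})} (hS : S.ShortExact)

lemma mP_scP_g_apply (V : Cᵒᵖ) (t : S.X₂.obj.obj V) :
    (mP S).hom.app V ((scP S).g.hom.app V t) = S.g.hom.app V t := by
  have h := congrArg (fun k => k.hom.app V t) (scP_g_mP (S := S))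
  exact h

include hS in
/-- the family of local liftings, as a morphism of presheaves `R ⟶ I/F` -/
noncomputable def liftFam {X : C} (s : S.X₃.obj.obj (op X)) :
    (Presheaf.imageSieve S.g.hom s).functor ⟶ (scP S).X₃.obj ⋙ forget AddCommGrpCat.{u} where
  app V := ↾fun g => (scP S).g.hom.app V (Presheaf.localPreimage S.g.hom (U := op X) s g.1 g.2)
  naturality V W h := by
    ext g
    have := mono_mP hS
    apply injective_app_of_mono (mP S) W.unop
    change (mP S).hom.app W ((scP S).g.hom.app W (Presheaf.localPreimage S.g.hom (U := op X) s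
        ((Presheaf.imageSieve S.g.hom s).functor.map h g).1
        ((Presheaf.imageSieve S.g.hom s).functor.map h g).2)) =
      (mP S).hom.app W ((scP S).X₃.obj.map h ((scP S).g.hom.app V
        (Presheaf.localPreimage S.g.hom (U := op X) s g.1 g.2)))
    rw [mP_scP_g_apply, Presheaf.app_localPreimage]
    have h1 := NatTrans.naturality_apply (scP S).g.hom h
      (Presheaf.localPreimage S.g.hom (U := op X) s g.1 g.2)
    rw [← h1, mP_scP_g_apply]
    have h2 := NatTrans.naturality_apply S.g.hom h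
      (Presheaf.localPreimage S.g.hom (U := op X) s g.1 g.2)
    refine Eq.trans ?_ h2.symm
    rw [Presheaf.app_localPreimage]
    change S.X₃.obj.map (g.1.op ≫ h) s = _
    rw [Functor.map_comp, ConcreteCategory.comp_apply]

include hS in
/-- base step of (⇐): if `Ext¹(ℤ[R], F) = 0` in presheaves for all covering sieves `R` of `X`,
then `I(X) ⟶ Q(X)` is surjective. -/
lemma surjective_of_subsingleton_ext_ZR (X : C)
    (h : ∀ R : Sieve X, R ∈ J X → Subsingleton (Ext (ZR R) ((P J).obj S.X₁) 1)) :
    Function.Surjective (S.g.hom.app (op X)) := by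
  intro s
  have hepi := hS.epi_g
  have hls : Sheaf.IsLocallySurjective S.g := (Sheaf.isLocallySurjective_iff_epi' _ S.g).2 hepi
  have hR : Presheaf.imageSieve S.g.hom s ∈ J X := Presheaf.imageSieve_mem J S.g.hom (U := op X) s
  obtain ⟨τ, hτ⟩ := exists_lift_of_subsingleton_ext_one (scP_shortExact hS)
    (ZR (Presheaf.imageSieve S.g.hom s)) (h _ hR)
    ((homEquiv (Presheaf.imageSieve S.g.hom s).functor (scP S).X₃).symm (liftFam hS s))
  have h2 := isSheafFor_forget S.X₂ _ hR
  have h3 := isSheafFor_forget S.X₃ _ hR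
  refine ⟨yonedaEquiv (h2.extend (homEquiv _ ((P J).obj S.X₂) τ)), ?_⟩
  have key : h2.extend (homEquiv _ ((P J).obj S.X₂) τ) ≫
      Functor.whiskerRight S.g.hom (forget AddCommGrpCat.{u}) = yonedaEquiv.symm s := by
    refine (h3.unique_extend (f := (Presheaf.imageSieve S.g.hom s).functorInclusion ≫
      yonedaEquiv.symm s) _ ?_).trans (h3.unique_extend _ rfl).symm
    rw [← Category.assoc, h2.functorInclusion_comp_extend]
    have e1 : homEquiv _ ((P J).obj S.X₂) τ ≫
        Functor.whiskerRight S.g.hom (forget AddCommGrpCat.{u}) =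
        homEquiv _ ((P J).obj S.X₃) (τ ≫ (P J).map S.g) :=
      (homEquiv_comp _ τ ((P J).map S.g)).symm
    refine e1.trans ?_
    have e2 : τ ≫ (P J).map S.g =
        (homEquiv (Presheaf.imageSieve S.g.hom s).functor (scP S).X₃).symm (liftFam hS s) ≫
          mP S := by
      rw [← hτ, Category.assoc, scP_g_mP]
    rw [e2, homEquiv_comp, Equiv.apply_symm_apply]
    ext V g
    change (mP S).hom.app V ((scP S).g.hom.app V
      (Presheaf.localPreimage S.g.hom (U := op X) s g.1 g.2)) = S.X₃.obj.map g.1.op s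
    rw [mP_scP_g_apply, Presheaf.app_localPreimage]
  have := congrArg yonedaEquiv key
  rw [yonedaEquiv_comp, Equiv.apply_symm_apply] at this
  exact this

end Base2

section General

universe w v

variable {A : Type u} [Category.{v} A] [Abelian A] [HasExt.{w} A]
  {S : ShortComplex A} (hS : S.ShortExact) (X : A)

include hS in
/-- `Ext^{n+2}(X, F) = 0` and `Ext^{n+1}(X, I) = 0` imply `Ext^{n+1}(X, Q) = 0`. -/
lemma subsingleton_ext_succ_of_succ_succ' (n : ℕ)
    (h₁ : Subsingleton (Ext.{w} X S.X₁ (n + 2))) (h₂ : Subsingleton (Ext.{w} X S.X₂ (n + 1))) :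
    Subsingleton (Ext.{w} X S.X₃ (n + 1)) := by
  have key : ∀ x : Ext.{w} X S.X₃ (n + 1), x = 0 := by
    intro x
    obtain ⟨x₂, rfl⟩ := Ext.covariant_sequence_exact₃ X hS x (rfl : n + 1 + 1 = n + 2)
      (h₁.elim _ _)
    rw [h₂.elim x₂ 0, Ext.zero_comp]
  exact ⟨fun a b => (key a).trans (key b).symm⟩

end General

/-- vanishing of the presheaf cohomology of all covering sieves -/
def SieveAcyclic (F : Sheaf J AddCommGrpCat.{u}) : Prop :=
  ∀ (X : C) (R : Sieve X), R ∈ J X → ∀ q : ℕ, Subsingleton (Ext (ZR R) ((P J).obj F) (q + 1))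

lemma subsingleton_ext_one_of_sieveAcyclic (F : Sheaf J AddCommGrpCat.{u})
    (hF : SieveAcyclic F) (X : C) : Subsingleton (Ext (freeYoneda J X) F 1) := by
  refine subsingleton_ext_one (injSC_shortExact F) (freeYoneda J X) ?_
  intro φ
  obtain ⟨t, ht⟩ := surjective_of_subsingleton_ext_ZR (injSC_shortExact F) X
    (fun R hR => hF X R hR 0) (freeYonedaHomEquiv X _ φ)
  refine ⟨(freeYonedaHomEquiv X _).symm t, ?_⟩
  apply (freeYonedaHomEquiv X _).injective
  rw [freeYonedaHomEquiv_comp, Equiv.apply_symm_apply]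
  exact ht

lemma sieveAcyclic_quotient (F : Sheaf J AddCommGrpCat.{u}) (hF : SieveAcyclic F) :
    SieveAcyclic (injSC F).X₃ := by
  intro X R hR q
  have hS' := shortExact_map_push (B (C := C)) (𝟭 C) (injSC_shortExact F)
    (subsingleton_ext_one_of_sieveAcyclic F hF)
  exact subsingleton_ext_succ_of_succ_succ' hS' (ZR R) q (hF X R hR (q + 1))
    (isTotallyAcyclic_P_injective (injSC F).X₂ (Psh R.functor) q)

/-- (⇐) of S6178 -/
theorem objAcyclic_of_sieveAcyclic (q : ℕ) :
    ∀ F : Sheaf J AddCommGrpCat.{u}, SieveAcyclic F → ∀ X : C,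
      Subsingleton (Ext (freeYoneda J X) F (q + 1)) := by
  induction q with
  | zero => exact fun F hF X => subsingleton_ext_one_of_sieveAcyclic F hF X
  | succ q ih =>
    intro F hF X
    exact subsingleton_ext_succ_succ (injSC_shortExact F) (freeYoneda J X) q
      (ih _ (sieveAcyclic_quotient F hF) X)

theorem objAcyclic_iff_sieveAcyclic (F : Sheaf J AddCommGrpCat.{u}) :
    ObjAcyclic J F ↔ SieveAcyclic F :=
  ⟨fun h X R hR q => subsingleton_ext_ZR_of_objAcyclic q F h X R hR,
    fun h X q => objAcyclic_of_sieveAcyclic q F h X⟩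

end Groth.Agent.Lib.SieveCoh
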