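import Groth.Agent.Lib.SieveCechB
import Groth.Agent.Lib.SieveCoh
import Groth.Agent.Lib.CechEdgeD
import Groth.Agent.Lib.DeltaIso

/-!
# Cech cohomology of a presheaf with respect to a family is `Ext` out of the free abelian presheaf
on the generated sieve
-/

set_option autoImplicit false

universe u

open CategoryTheory Limits Opposite DeltaF Abelian

namespace Groth.Agent.Lib.SieveCech

open Groth.Agent.Lib.CechLow Groth.Agent.Lib.CechLES Groth.Agent.Lib.CechH0
  Groth.Agent.Lib.CochainAb Groth.Agent.Lib.CechEdgeA Groth.Agent.Lib.CechEdgeI CechEdge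
  Groth.Agent.Lib.ExtDelta Groth.Agent.Lib.CechDelta

variable {C : Type u} [SmallCategory C] [HasPullbacks C]
  {X : C} {ι : Type u} (Y : ι → Over X)

/-- the free abelian presheaf on the sieve generated by the family, as a sheaf for the trivial
topology -/
noncomputable abbrev ZR : Sheaf (⊥ : GrothendieckTopology C) AddCommGrpCat.{u} :=
  SieveCoh.ZR (R Y)

/-- presheaves as sheaves for the trivial topology -/
noncomputable abbrev E : (Cᵒᵖ ⥤ AddCommGrpCat.{u}) ⥤
    Sheaf (⊥ : GrothendieckTopology C) AddCommGrpCat.{u} :=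
  (sheafBotEquivalence AddCommGrpCat.{u}).inverse

instance : (E (C := C)).Additive where
  map_add := rfl

/-- the universal family of sections of `ℤ[R]` -/
noncomputable def uR : (R Y).functor ⟶ (ZR Y).obj ⋙ forget AddCommGrpCat.{u} :=
  SieveCoh.homEquiv (R Y).functor (ZR Y) (𝟙 _)

omit [HasPullbacks C] in
lemma homEquiv_app (Ψ : Sheaf (⊥ : GrothendieckTopology C) AddCommGrpCat.{u}) (φ : ZR Y ⟶ Ψ)
    (V : Cᵒᵖ) (r : (R Y).functor.obj V) :
    (SieveCoh.homEquiv (R Y).functor Ψ φ).app V r = φ.hom.app V ((uR Y).app V r) := by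
  have h := SieveCoh.homEquiv_comp (R Y).functor (𝟙 (ZR Y)) φ
  rw [Category.id_comp] at h
  rw [h]
  rfl

variable (M : Cᵒᵖ ⥤ AddCommGrpCat.{u})

/-- the family of sections attached to a morphism out of `ℤ[R]` -/
noncomputable def fam (φ : ZR Y ⟶ (E (C := C)).obj M) (i : ι) : M.obj (op (Y i).left) :=
  (SieveCoh.homEquiv (R Y).functor ((E (C := C)).obj M) φ).app (op (Y i).left) (gen Y i)

omit [HasPullbacks C] in
lemma compat_fam (φ : ZR Y ⟶ (E (C := C)).obj M) : Compat Y M (fam Y M φ) :=
  compat_of_nat (SieveCoh.homEquiv (R Y).functor ((E (C := C)).obj M) φ)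

omit [HasPullbacks C] in
lemma fam_eq (φ : ZR Y ⟶ (E (C := C)).obj M) (i : ι) :
    fam Y M φ i = φ.hom.app (op (Y i).left) ((uR Y).app _ (gen Y i)) :=
  homEquiv_app Y _ φ _ _

omit [HasPullbacks C] in
lemma fam_add (φ φ' : ZR Y ⟶ (E (C := C)).obj M) (i : ι) :
    fam Y M (φ + φ') i = fam Y M φ i + fam Y M φ' i := by
  rw [fam_eq, fam_eq, fam_eq, Sheaf.Hom.add_app]
  rfl

omit [HasPullbacks C] in
lemma fam_comp {M M' : Cᵒᵖ ⥤ AddCommGrpCat.{u}} (α : M ⟶ M')
    (φ : ZR Y ⟶ (E (C := C)).obj M) (i : ι) :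
    fam Y M' (φ ≫ (E (C := C)).map α) i = α.app (op (Y i).left) (fam Y M φ i) := by
  rw [fam_eq, fam_eq]
  rfl

lemma famCochain_add (x x' : ∀ i, M.obj (op (Y i).left)) :
    famCochain Y M (fun i => x i + x' i) = famCochain Y M x + famCochain Y M x' := by
  apply cochain_ext Y ((Over.forget X).op ⋙ M) 0
  intro a
  rw [map_add, comp_famCochain, comp_famCochain, comp_famCochain]
  exact map_add (ConcreteCategory.hom
    (((Over.forget X).op ⋙ M).map (Pi.π (fun k => Y (a k)) 0).op)) (x (a 0)) (x' (a 0))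

lemma map_famCochain {M M' : Cᵒᵖ ⥤ AddCommGrpCat.{u}} (α : M ⟶ M')
    (x : ∀ i, M.obj (op (Y i).left)) :
    ((cxFunctor Y).map α).f 0 (famCochain Y M x) =
      famCochain Y M' (fun i => α.app (op (Y i).left) (x i)) := by
  apply cochain_ext Y ((Over.forget X).op ⋙ M') 0
  intro a
  refine (comp_map_apply Y (Functor.whiskerLeft (Over.forget X).op α) 0 a _).trans ?_
  rw [comp_famCochain, comp_famCochain]
  exact NatTrans.naturality_apply (Functor.whiskerLeft (Over.forget X).op α) _ (x (a 0))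

lemma secP_zero (i : ι) : secP Y M 0 i = 0 := by
  unfold secP zeroCochainSection
  rw [map_zero, map_zero]
  rfl

/-- the class of the cocycle attached to a morphism out of `ℤ[R]` -/
noncomputable def θ (φ : ZR Y ⟶ (E (C := C)).obj M) : CohCx.cechH M Y 0 :=
  cls (cx M Y) 0 (famCochain Y M (fam Y M φ)) (d_famCochain Y M _ (compat_fam Y M φ))

/-- `θ` as an additive map -/
noncomputable def θHom : (ZR Y ⟶ (E (C := C)).obj M) →+ CohCx.cechH M Y 0 :=
  AddMonoidHom.mk' (θ Y M) (fun φ φ' => by
    have h : famCochain Y M (fam Y M (φ + φ')) =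
        famCochain Y M (fam Y M φ) + famCochain Y M (fam Y M φ') := by
      rw [← famCochain_add]
      exact congrArg (famCochain Y M) (funext fun i => fam_add Y M φ φ' i)
    exact (cls_congr _ 0 h _).trans (cls_add _ 0 _ _ _ _))

lemma θHom_apply (φ : ZR Y ⟶ (E (C := C)).obj M) : θHom Y M φ = θ Y M φ := rfl

lemma θ_natural {M M' : Cᵒᵖ ⥤ AddCommGrpCat.{u}} (α : M ⟶ M')
    (φ : ZR Y ⟶ (E (C := C)).obj M) :
    θ Y M' (φ ≫ (E (C := C)).map α) = cechHMap Y α 0 (θ Y M φ) := by
  have h : famCochain Y M' (fam Y M' (φ ≫ (E (C := C)).map α)) =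
      ((cxFunctor Y).map α).f 0 (famCochain Y M (fam Y M φ)) := by
    rw [map_famCochain]
    exact congrArg (famCochain Y M') (funext fun i => fam_comp Y α φ i)
  exact (cls_congr _ 0 h _).trans (homologyMap_cls 0 ((cxFunctor Y).map α) _ _).symm

theorem θHom_bijective : Function.Bijective (θHom Y M) := by
  constructor
  · rw [injective_iff_map_eq_zero]
    intro φ hφ
    have h1 : famCochain Y M (fam Y M φ) = 0 := eq_zero_of_cls_zero_eq_zero _ _ _ hφ
    have h2 : ∀ i, fam Y M φ i = 0 := by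
      intro i
      rw [← secP_famCochain Y M (fam Y M φ) i, h1]
      exact secP_zero Y M i
    have h0 : ∀ i, fam Y M 0 i = 0 := by
      intro i
      have := fam_add Y M 0 0 i
      rw [add_zero] at this
      exact left_eq_add.1 this
    apply (SieveCoh.homEquiv (R Y).functor ((E (C := C)).obj M)).injective
    apply nat_ext
    intro i
    exact (h2 i).trans (h0 i).symm
  · intro y
    obtain ⟨z, hz, rfl⟩ := exists_cls_eq (cx M Y) 0 y
    have hx := compat_secP Y M z hz
    refine ⟨(SieveCoh.homEquiv (R Y).functor ((E (C := C)).obj M)).symm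
      (natOfCompat (secP Y M z) hx), ?_⟩
    rw [θHom_apply]
    unfold θ
    apply cls_congr
    refine Eq.trans ?_ (famCochain_secP Y M z)
    congr 1
    funext i
    unfold fam
    rw [Equiv.apply_symm_apply]
    exact natOfCompat_gen (secP Y M z) hx i

end Groth.Agent.Lib.SieveCech
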