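import Groth.Agent.Lib.SieveCechC

/-!
# Cech cohomology of a presheaf with respect to a family is `Ext` out of the free abelian presheaf
on the generated sieve (main theorem)
-/

set_option autoImplicit false

universe u

open CategoryTheory Limits Opposite DeltaF Abelian

namespace Groth.Agent.Lib.SieveCech

open Groth.Agent.Lib.CechLow Groth.Agent.Lib.CechLES Groth.Agent.Lib.CechH0
  Groth.Agent.Lib.CochainAb Groth.Agent.Lib.CechEdgeA Groth.Agent.Lib.CechEdgeI CechEdge
  Groth.Agent.Lib.ExtDelta Groth.Agent.Lib.CechDelta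

variable {C : Type u} [SmallCategory C] [HasPullbacks C]
  {X : C} {ι : Type u} (Y : ι → Over X)

/-- the delta-functor `M ↦ Ext^•(ℤ[R], M)` on presheaves -/
noncomputable abbrev extR : CohDeltaFunctor (Cᵒᵖ ⥤ AddCommGrpCat.{u}) AddCommGrpCat.{u} ℕ :=
  precomp (E (C := C)) (extDelta (ZR Y))

/-- degree zero: `Ȟ^0(Y, M) ≃+ Ext^0(ℤ[R], M)` -/
noncomputable def e0 (M : Cᵒᵖ ⥤ AddCommGrpCat.{u}) :
    CohCx.cechH M Y 0 ≃+ Ext (ZR Y) ((E (C := C)).obj M) 0 :=
  ((AddEquiv.ofBijective (θHom Y M) (θHom_bijective Y M)).symm).trans Ext.addEquiv₀.symm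

lemma e0_θ (M : Cᵒᵖ ⥤ AddCommGrpCat.{u}) (φ : ZR Y ⟶ (E (C := C)).obj M) :
    e0 Y M (θ Y M φ) = Ext.mk₀ φ := by
  unfold e0
  rw [AddEquiv.trans_apply, Ext.addEquiv₀_symm_apply]
  congr 1
  exact (AddEquiv.ofBijective (θHom Y M) (θHom_bijective Y M)).symm_apply_apply φ

/-- the degree zero natural isomorphism -/
noncomputable def iso0 : (cechDelta Y).F 0 ≅ (extR Y).F 0 :=
  NatIso.ofComponents (fun M => (e0 Y M).toAddCommGrpIso) (by
    intro M M' α
    ext y
    obtain ⟨φ, rfl⟩ := (θHom_bijective Y M).2 y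
    change e0 Y M' (cechHMap Y α 0 (θ Y M φ)) =
      (hF (ZR Y) 0).map ((E (C := C)).map α) (e0 Y M (θ Y M φ))
    rw [← θ_natural, e0_θ, e0_θ]
    refine Eq.trans ?_ (hF_map_apply (ZR Y) 0 _ _).symm
    rw [Ext.mk₀_comp_mk₀])

omit [HasPullbacks C] in
lemma extR_isEffaceable : (extR Y).IsEffaceable := by
  have := Groth.Agent.Lib.FunctorialInjective.isGrothendieckAbelian_presheafAb (C := C)
  intro n M
  refine ⟨Injective.under M, Injective.ι M, inferInstance, ?_⟩
  have hI : Injective ((E (C := C)).obj (Injective.under M)) :=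
    Injective.injective_of_adjoint (sheafBotEquivalence AddCommGrpCat.{u}).toAdjunction
      (Injective.under M)
  have hz : IsZero (((extR Y).F (n + 1)).obj (Injective.under M)) := by
    have : Subsingleton (Ext (ZR Y) ((E (C := C)).obj (Injective.under M)) (n + 1)) :=
      ⟨fun x y => (Ext.eq_zero_of_injective x).trans (Ext.eq_zero_of_injective y).symm⟩
    exact AddCommGrpCat.isZero_of_subsingleton
      (AddCommGrpCat.of (Ext (ZR Y) ((E (C := C)).obj (Injective.under M)) (n + 1)))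
  exact hz.eq_of_tgt _ _

/-- **Cech cohomology of a presheaf is `Ext` out of the free abelian presheaf on the sieve.** -/
theorem nonempty_cechH_iso (M : Cᵒᵖ ⥤ AddCommGrpCat.{u}) (q : ℕ) :
    Nonempty (CohCx.cechH M Y q ≅
      AddCommGrpCat.of (Ext (ZR Y) ((E (C := C)).obj M) q)) := by
  have h1 := CechEdgeD.cechDelta_isUniversal Y
  have h2 := DeltaUniv.isUniversal_of_isEffaceable _ (extR_isEffaceable Y)
  obtain ⟨i⟩ := DeltaIso.nonempty_natIso_of_isUniversal _ _ h1 h2 (iso0 Y) q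
  exact ⟨i.app M⟩

end Groth.Agent.Lib.SieveCech
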