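import Mathlib
import Groth.Prelude.Def_W4bk4bump814p2PDiff

/-!
# The `Σ^i`/`δ_i` filtration of Kähler differentials in characteristic `p` (helper27)

`δ_i(x) = x^(p^i - 1) dx`, `Σ^0 = {0}`, `Σ^(i+1) = δ_i(A) + Σ^i`.
Key identity (from the ghost components of `[X] + [Y]` over `ℤ[X, Y]`):
`δ_n(x) + δ_n(y) = ∑_{i ≤ n} δ_{n-i}(z_i)` with `z_0 = x + y`.
-/

namespace Groth.Agent.Lib.SigmaDelta27

open MvPolynomial W4bk4bump814p2

section Universal

variable (p : ℕ) [hp : Fact p.Prime]

/-- The universal Witt vector `[X] + [Y]` over `ℤ[X, Y]`. -/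
noncomputable def S : WittVector p (MvPolynomial (Fin 2) ℤ) :=
  WittVector.teichmuller p (X 0) + WittVector.teichmuller p (X 1)

lemma S_coeff_zero : (S p).coeff 0 = X 0 + X 1 := by
  rw [S, WittVector.add_coeff_zero, WittVector.teichmuller_coeff_zero,
    WittVector.teichmuller_coeff_zero]

lemma ghost_S (n : ℕ) :
    ∑ i ∈ Finset.range (n + 1), (p : MvPolynomial (Fin 2) ℤ) ^ i * (S p).coeff i ^ p ^ (n - i) =
      ∑ w : Fin 2, (X w : MvPolynomial (Fin 2) ℤ) ^ p ^ n := by
  have h1 : WittVector.ghostComponent n (S p) = X 0 ^ p ^ n + X 1 ^ p ^ n := by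
    rw [S, map_add, WittVector.ghostComponent_teichmuller, WittVector.ghostComponent_teichmuller]
  rw [WittVector.ghostComponent_apply, aeval_wittPolynomial] at h1
  rw [h1, Fin.sum_univ_two]

lemma pderiv_identity (v : Fin 2) (n : ℕ) :
    ∑ i ∈ Finset.range (n + 1), (S p).coeff i ^ (p ^ (n - i) - 1) * pderiv v ((S p).coeff i) =
      (X v : MvPolynomial (Fin 2) ℤ) ^ (p ^ n - 1) := by
  have h := congrArg (pderiv v) (ghost_S p n)
  rw [map_sum, map_sum] at h
  have hL : ∀ i ∈ Finset.range (n + 1),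
      pderiv v ((p : MvPolynomial (Fin 2) ℤ) ^ i * (S p).coeff i ^ p ^ (n - i)) =
      (p : MvPolynomial (Fin 2) ℤ) ^ n *
        ((S p).coeff i ^ (p ^ (n - i) - 1) * pderiv v ((S p).coeff i)) := by
    intro i hi
    have hi' : i ≤ n := Nat.lt_succ_iff.mp (Finset.mem_range.mp hi)
    have hc : pderiv v ((p : MvPolynomial (Fin 2) ℤ) ^ i) = 0 := by
      rw [← Nat.cast_pow]; exact Derivation.map_natCast _ _
    rw [Derivation.leibniz, hc, smul_zero, add_zero, Derivation.leibniz_pow, smul_eq_mul,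
      nsmul_eq_mul, smul_eq_mul, Nat.cast_pow]
    have : (p : MvPolynomial (Fin 2) ℤ) ^ n = (p : MvPolynomial (Fin 2) ℤ) ^ i *
        (p : MvPolynomial (Fin 2) ℤ) ^ (n - i) := by
      rw [← pow_add, Nat.add_sub_cancel' hi']
    rw [this]; ring
  have hR : ∀ w ∈ (Finset.univ : Finset (Fin 2)),
      pderiv v ((X w : MvPolynomial (Fin 2) ℤ) ^ p ^ n) =
      (p : MvPolynomial (Fin 2) ℤ) ^ n * (if w = v then (X v) ^ (p ^ n - 1) else 0) := by
    intro w _
    rw [Derivation.leibniz_pow, pderiv_X, nsmul_eq_mul, smul_eq_mul, Nat.cast_pow]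
    by_cases hw : w = v
    · subst hw; simp
    · rw [if_neg hw, Pi.single_eq_of_ne hw]; simp
  rw [Finset.sum_congr rfl hL, Finset.sum_congr rfl hR, ← Finset.mul_sum, ← Finset.mul_sum,
    Finset.sum_ite_eq' Finset.univ v] at h
  simp only [Finset.mem_univ, if_true] at h
  have hp0 : (p : MvPolynomial (Fin 2) ℤ) ^ n ≠ 0 := by
    apply pow_ne_zero
    have : (p : MvPolynomial (Fin 2) ℤ) = C (p : ℤ) := by simp
    rw [this, Ne, C_eq_zero]
    exact_mod_cast hp.out.ne_zero
  exact mul_left_cancel₀ hp0 h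

end Universal

section ChainRule

variable {R A M : Type*} [CommRing R] [CommRing A] [Algebra R A] [AddCommGroup M] [Module A M]
  [Module R M]

/-- chain rule for integer polynomials in two variables. -/
theorem chain_rule (d : Derivation R A M) (v : Fin 2 → A) (f : MvPolynomial (Fin 2) ℤ) :
    d (aeval v f) = ∑ i, aeval v (pderiv i f) • d (v i) := by
  induction f using MvPolynomial.induction_on with
  | C a =>
    simp only [pderiv_C, map_zero, zero_smul, Finset.sum_const_zero]
    rw [aeval_C]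
    have : (algebraMap ℤ A) a = ((a : ℤ) : A) := by simp
    rw [this]
    exact Derivation.map_intCast d a
  | add f g hf hg =>
    simp only [map_add, hf, hg, add_smul, Finset.sum_add_distrib]
  | mul_X f j hf =>
    rw [map_mul, aeval_X, Derivation.leibniz, hf]
    simp only [pderiv_mul, pderiv_X, map_add, map_mul, aeval_X, add_smul, Finset.sum_add_distrib]
    rw [Finset.smul_sum, add_comm]
    congr 1
    · refine Finset.sum_congr rfl (fun i _ => ?_)
      rw [smul_smul, mul_comm]
    · rw [Finset.sum_eq_single j]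
      · simp
      · intro i _ hij
        rw [Pi.single_eq_of_ne (Ne.symm hij)]
        simp
      · intro h; exact absurd (Finset.mem_univ j) h

end ChainRule

section Main

variable (K : Type*) (A : Type*) [CommRing K] [CommRing A] [Algebra K A] (p : ℕ) [hp : Fact p.Prime]

/-- **Key identity.** -/
theorem delta_add (n : ℕ) (x y : A) :
    ∃ z : ℕ → A, z 0 = x + y ∧
      delta K A p n x + delta K A p n y =
        ∑ i ∈ Finset.range (n + 1), delta K A p (n - i) (z i) := by
  let v : Fin 2 → A := ![x, y]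
  let φ : MvPolynomial (Fin 2) ℤ →ₐ[ℤ] A := aeval v
  refine ⟨fun i => φ ((S p).coeff i), ?_, ?_⟩
  · show φ ((S p).coeff 0) = x + y
    rw [S_coeff_zero, map_add]
    simp [φ, v]
  · have h0 := congrArg φ (pderiv_identity p 0 n)
    have h1 := congrArg φ (pderiv_identity p 1 n)
    simp only [map_sum, map_mul, map_pow] at h0 h1
    have hx : φ (X 0) = x := by simp [φ, v]
    have hy : φ (X 1) = y := by simp [φ, v]
    rw [hx] at h0
    rw [hy] at h1
    simp only [delta]
    rw [← h0, ← h1, Finset.sum_smul, Finset.sum_smul, ← Finset.sum_add_distrib]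
    refine Finset.sum_congr rfl (fun i _ => ?_)
    have hch := chain_rule (KaehlerDifferential.D K A) v ((S p).coeff i)
    rw [Fin.sum_univ_two] at hch
    show _ = φ ((S p).coeff i) ^ (p ^ (n - i) - 1) • (KaehlerDifferential.D K A) (φ ((S p).coeff i))
    rw [show φ ((S p).coeff i) = aeval v ((S p).coeff i) from rfl, hch, smul_add, smul_smul, smul_smul]
    rfl

omit hp in
/-- explicit description of `Σ^n`. -/
theorem mem_sigma_iff (n : ℕ) (ω : Ω[A⁄K]) :
    ω ∈ sigma K A p n ↔ ∃ z : ℕ → A, ω = ∑ j ∈ Finset.range n, delta K A p j (z j) := by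
  induction n generalizing ω with
  | zero => simp
  | succ n ih =>
    rw [mem_sigma_succ]
    constructor
    · rintro ⟨x, hx⟩
      obtain ⟨z, hz⟩ := (ih _).1 hx
      refine ⟨fun j => if j = n then x else z j, ?_⟩
      dsimp only
      rw [Finset.sum_range_succ, if_pos rfl]
      have : ∑ j ∈ Finset.range n, delta K A p j (if j = n then x else z j) =
          ∑ j ∈ Finset.range n, delta K A p j (z j) := by
        refine Finset.sum_congr rfl (fun j hj => ?_)
        rw [if_neg (Finset.mem_range.mp hj).ne]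
      rw [this, ← hz]; abel
    · rintro ⟨z, hz⟩
      refine ⟨z n, (ih _).2 ⟨z, ?_⟩⟩
      rw [hz, Finset.sum_range_succ]; abel

omit hp in
theorem delta_zero (j : ℕ) : delta K A p j (0 : A) = 0 := by
  simp [delta]

omit hp in
theorem zero_mem_sigma (n : ℕ) : (0 : Ω[A⁄K]) ∈ sigma K A p n := by
  induction n with
  | zero => simp
  | succ n ih => exact (mem_sigma_succ K A p n 0).2 ⟨0, by rw [delta_zero, sub_zero]; exact ih⟩

omit hp in
theorem delta_mem_sigma {j n : ℕ} (hj : j < n) (x : A) : delta K A p j x ∈ sigma K A p n := by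
  rw [mem_sigma_iff]
  refine ⟨fun k => if k = j then x else 0, ?_⟩
  dsimp only
  rw [Finset.sum_eq_single j]
  · rw [if_pos rfl]
  · intro k _ hk; rw [if_neg hk, delta_zero]
  · intro h; exact absurd (Finset.mem_range.mpr hj) h

end Main

section CharP

variable (K : Type*) (A : Type*) [Field K] [CommRing A] [Algebra K A] (p : ℕ) [hp : Fact p.Prime]
  [CharP K p]

include K in
lemma neg_one_pow (j : ℕ) : (-1 : A) ^ p ^ j = -1 := by
  have h : (-1 : K) ^ p ^ j = -1 := neg_one_pow_char_pow K p j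
  have := congrArg (algebraMap K A) h
  rwa [map_pow, map_neg, map_one] at this

omit hp in
include K in
lemma p_eq_zero : (p : A) = 0 := by
  rw [← map_natCast (algebraMap K A) p, CharP.cast_eq_zero K p, map_zero]

theorem delta_neg (j : ℕ) (x : A) : delta K A p j (-x) = - delta K A p j x := by
  have hpos : 0 < p ^ j := pow_pos hp.out.pos j
  have h4 : (-1 : A) ^ (p ^ j - 1) * (-1) = -1 := by
    rw [← pow_succ, Nat.sub_add_cancel hpos]; exact neg_one_pow K A p j
  have h5 : (-1 : A) ^ (p ^ j - 1) = 1 := by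
    have := congrArg (fun t => t * (-1 : A)) h4
    simpa [mul_assoc] using this
  simp only [delta]
  rw [map_neg, smul_neg, neg_pow x (p ^ j - 1), h5, one_mul]

theorem neg_mem_sigma (n : ℕ) (ω : Ω[A⁄K]) (h : ω ∈ sigma K A p n) : -ω ∈ sigma K A p n := by
  rw [mem_sigma_iff] at h ⊢
  obtain ⟨z, rfl⟩ := h
  refine ⟨fun j => -z j, ?_⟩
  rw [← Finset.sum_neg_distrib]
  exact Finset.sum_congr rfl (fun j _ => (delta_neg K A p j (z j)).symm)

/-- S12623. -/
theorem delta_add_sub_mem (n : ℕ) (x y : A) :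
    delta K A p n (x + y) - delta K A p n x - delta K A p n y ∈ sigma K A p n := by
  obtain ⟨z, hz0, hz⟩ := delta_add K A p n x y
  have : delta K A p n (x + y) - delta K A p n x - delta K A p n y =
      - ∑ j ∈ Finset.range n, delta K A p j (z (n - j)) := by
    rw [sub_sub, hz, Finset.sum_range_succ', Nat.sub_zero, hz0]
    have : ∑ k ∈ Finset.range n, delta K A p (n - (k + 1)) (z (k + 1)) =
        ∑ j ∈ Finset.range n, delta K A p j (z (n - j)) := by
      rw [← Finset.sum_range_reflect]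
      refine Finset.sum_congr rfl (fun j hj => ?_)
      have hj' : j < n := Finset.mem_range.mp hj
      have h1 : n - (n - 1 - j + 1) = j := by omega
      have h2 : n - 1 - j + 1 = n - j := by omega
      rw [h1, h2]
    rw [this]; abel
  rw [this]
  exact neg_mem_sigma K A p n _ ((mem_sigma_iff K A p n _).2 ⟨fun j => z (n - j), rfl⟩)

theorem add_mem_sigma (n : ℕ) : ∀ (ω ω' : Ω[A⁄K]), ω ∈ sigma K A p n → ω' ∈ sigma K A p n →
    ω + ω' ∈ sigma K A p n := by
  induction n with
  | zero =>
    intro ω ω' h h'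
    simp only [sigma_zero, Set.mem_singleton_iff] at h h' ⊢
    rw [h, h', add_zero]
  | succ n ih =>
    intro ω ω' h h'
    rw [mem_sigma_succ] at h h' ⊢
    obtain ⟨x, hx⟩ := h
    obtain ⟨x', hx'⟩ := h'
    refine ⟨x + x', ?_⟩
    have h1 := neg_mem_sigma K A p n _ (delta_add_sub_mem K A p n x x')
    have : ω + ω' - delta K A p n (x + x') =
        (ω - delta K A p n x) + ((ω' - delta K A p n x') +
          -(delta K A p n (x + x') - delta K A p n x - delta K A p n x')) := by abel
    rw [this]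
    exact ih _ _ hx (ih _ _ hx' h1)

/-- scalars from the perfect field. -/
theorem smul_delta [PerfectField K] (j : ℕ) (c : K) (x : A) :
    ∃ x' : A, c • delta K A p j x = delta K A p j x' := by
  have : PerfectRing K p := PerfectField.toPerfectRing p
  obtain ⟨b, hb⟩ : ∃ b : K, b ^ p ^ j = c := by
    refine ⟨(iterateFrobeniusEquiv K p j).symm c, ?_⟩
    have := (iterateFrobeniusEquiv K p j).apply_symm_apply c
    rwa [iterateFrobeniusEquiv_def] at this
  have hpos : 0 < p ^ j := pow_pos hp.out.pos j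
  refine ⟨b • x, ?_⟩
  simp only [delta]
  rw [Derivation.map_smul, smul_pow, smul_assoc, smul_comm (x ^ (p ^ j - 1)) b, smul_smul,
    ← pow_succ, Nat.sub_add_cancel hpos, hb, smul_comm]

theorem smul_mem_sigma [PerfectField K] (n : ℕ) (c : K) (ω : Ω[A⁄K]) (h : ω ∈ sigma K A p n) :
    c • ω ∈ sigma K A p n := by
  rw [mem_sigma_iff] at h ⊢
  obtain ⟨z, rfl⟩ := h
  choose x' hx' using fun j => smul_delta K A p j c (z j)
  refine ⟨x', ?_⟩
  rw [Finset.smul_sum]
  exact Finset.sum_congr rfl (fun j _ => hx' j)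

/-- S12624. -/
noncomputable def sigmaSubmodule [PerfectField K] (n : ℕ) : Submodule K (Ω[A⁄K]) where
  carrier := sigma K A p n
  add_mem' := fun h h' => add_mem_sigma K A p n _ _ h h'
  zero_mem' := zero_mem_sigma K A p n
  smul_mem' := fun c _ h => smul_mem_sigma K A p n c _ h

/-- `x ^ (p ^ n) • δ_j(z) = δ_j(x ^ (p ^ (n - j)) * z)` for `j < n`. -/
theorem pow_smul_delta {j n : ℕ} (hj : j < n) (x z : A) :
    x ^ p ^ n • delta K A p j z = delta K A p j (x ^ p ^ (n - j) * z) := by
  have hpos : 0 < p ^ j := pow_pos hp.out.pos j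
  have hD : KaehlerDifferential.D K A (x ^ p ^ (n - j)) = 0 := by
    rw [Derivation.leibniz_pow]
    have : p ^ (n - j) = p * p ^ (n - j - 1) := by
      rw [← pow_succ', Nat.sub_add_cancel (by omega)]
    rw [this, mul_smul]
    have hp0 : ∀ m : Ω[A⁄K], p • m = 0 := by
      intro m
      rw [← Nat.cast_smul_eq_nsmul A, p_eq_zero K A p, zero_smul]
    exact hp0 _
  simp only [delta]
  rw [Derivation.leibniz, hD, smul_zero, add_zero, smul_smul, smul_smul, mul_pow, ← pow_mul]
  congr 1
  have h1 : x ^ ((p ^ (n - j)) * (p ^ j - 1)) * z ^ (p ^ j - 1) * x ^ p ^ (n - j) =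
      x ^ p ^ n * z ^ (p ^ j - 1) := by
    have : (p ^ (n - j)) * (p ^ j - 1) + p ^ (n - j) = p ^ n := by
      rw [← Nat.mul_succ, Nat.succ_eq_add_one, Nat.sub_add_cancel hpos, ← pow_add,
        Nat.sub_add_cancel hj.le]
    calc x ^ ((p ^ (n - j)) * (p ^ j - 1)) * z ^ (p ^ j - 1) * x ^ p ^ (n - j)
        = x ^ ((p ^ (n - j)) * (p ^ j - 1) + p ^ (n - j)) * z ^ (p ^ j - 1) := by
          rw [pow_add]; ring
      _ = _ := by rw [this]
  rw [h1]

/-- S12626. -/
theorem pow_smul_mem_sigma (n : ℕ) (x : A) (ω : Ω[A⁄K]) (h : ω ∈ sigma K A p n) :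
    x ^ p ^ n • ω ∈ sigma K A p n := by
  rw [mem_sigma_iff] at h ⊢
  obtain ⟨z, rfl⟩ := h
  refine ⟨fun j => x ^ p ^ (n - j) * z j, ?_⟩
  rw [Finset.smul_sum]
  exact Finset.sum_congr rfl (fun j hj => pow_smul_delta K A p (Finset.mem_range.mp hj) x (z j))

end CharP

end Groth.Agent.Lib.SigmaDelta27
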