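import Mathlib

/-!
# Semilinear endomorphisms of finite-dimensional vector spaces (helper99)

`T : V →ₛₗ[σ] V` for a ring endomorphism `σ` of a field `k`: iterates, the decreasing chain
`S T n = span (range T^[n])`, its stabilisation, injectivity on the stable part, the Fitting
decomposition when `σ` is surjective, fixed vectors (Lang-type statements under two solvability
hypotheses on `σ`).
-/

set_option autoImplicit false
universe u v

namespace Groth.Agent.Lib.SigmaLin

open Submodule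

section Basics

variable {k : Type u} [Field k] {σ : k →+* k} {V : Type v} [AddCommGroup V] [Module k V]
variable (T : V →ₛₗ[σ] V)

lemma iter_zero (n : ℕ) : (⇑T)^[n] 0 = 0 := by
  induction n with
  | zero => rfl
  | succ n ih => rw [Function.iterate_succ_apply', ih, map_zero]

lemma iter_add (n : ℕ) (x y : V) : (⇑T)^[n] (x + y) = (⇑T)^[n] x + (⇑T)^[n] y := by
  induction n with
  | zero => rfl
  | succ n ih => simp only [Function.iterate_succ_apply', ih, map_add]

lemma iter_neg (n : ℕ) (x : V) : (⇑T)^[n] (-x) = -(⇑T)^[n] x := by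
  induction n with
  | zero => rfl
  | succ n ih => simp only [Function.iterate_succ_apply', ih, map_neg]

lemma iter_sub (n : ℕ) (x y : V) : (⇑T)^[n] (x - y) = (⇑T)^[n] x - (⇑T)^[n] y := by
  rw [sub_eq_add_neg, iter_add, iter_neg, ← sub_eq_add_neg]

lemma iter_smul (n : ℕ) (c : k) (x : V) : (⇑T)^[n] (c • x) = (⇑σ)^[n] c • (⇑T)^[n] x := by
  induction n with
  | zero => rfl
  | succ n ih => simp only [Function.iterate_succ_apply', ih, map_smulₛₗ]

lemma iter_sum {ι : Type*} (n : ℕ) (s : Finset ι) (f : ι → V) :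
    (⇑T)^[n] (∑ i ∈ s, f i) = ∑ i ∈ s, (⇑T)^[n] (f i) := by
  classical
  induction s using Finset.induction_on with
  | empty => simp
  | insert a s ha ih => rw [Finset.sum_insert ha, Finset.sum_insert ha, iter_add, ih]

/-- The `k`-span of the image of the `n`-th iterate. -/
def S (n : ℕ) : Submodule k V := span k (Set.range ((⇑T)^[n]))

lemma S_def (n : ℕ) : S T n = span k (Set.range ((⇑T)^[n])) := rfl

lemma S_zero : S T 0 = ⊤ := by
  rw [S_def, Function.iterate_zero, Set.range_id, span_univ]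

lemma iter_mem_S (n : ℕ) (v : V) : (⇑T)^[n] v ∈ S T n := subset_span ⟨v, rfl⟩

lemma S_succ_le (n : ℕ) : S T (n + 1) ≤ S T n := by
  refine span_mono ?_
  rintro _ ⟨v, rfl⟩
  exact ⟨T v, (Function.iterate_succ_apply _ _ _).symm⟩

lemma S_antitone : Antitone (S T) := antitone_nat_of_succ_le (S_succ_le T)

lemma map_mem_S {n : ℕ} {v : V} (hv : v ∈ S T n) : T v ∈ S T (n + 1) := by
  have h := image_span_subset_span T (Set.range ((⇑T)^[n])) ⟨v, hv, rfl⟩
  refine span_mono ?_ h
  rintro _ ⟨_, ⟨w, rfl⟩, rfl⟩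
  exact ⟨w, Function.iterate_succ_apply' _ _ _⟩

lemma S_succ_eq (n : ℕ) : S T (n + 1) = span k (T '' (S T n : Set V)) := by
  apply le_antisymm
  · refine span_mono ?_
    rintro _ ⟨v, rfl⟩
    exact ⟨(⇑T)^[n] v, iter_mem_S T n v, (Function.iterate_succ_apply' _ _ _).symm⟩
  · rw [span_le]
    rintro _ ⟨v, hv, rfl⟩
    exact map_mem_S T hv

/-- The chain `S T n` stabilises when `V` is finite-dimensional. -/
lemma exists_S_stable [FiniteDimensional k V] : ∃ N, ∀ m, N ≤ m → S T m = S T N := by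
  obtain ⟨N, hN⟩ := IsArtinian.monotone_stabilizes
    (⟨fun n => OrderDual.toDual (S T n), fun a b h => S_antitone T h⟩ :
      ℕ →o (Submodule k V)ᵒᵈ)
  exact ⟨N, fun m hm => (congrArg OrderDual.ofDual (hN m hm)).symm⟩

lemma iInf_S_eq {N : ℕ} (hN : ∀ m, N ≤ m → S T m = S T N) : ⨅ n, S T n = S T N := by
  apply le_antisymm (iInf_le _ N)
  refine le_iInf fun n => ?_
  rcases le_total N n with h | h
  · rw [hN n h]
  · exact S_antitone T h

/-- Restriction of a semilinear endomorphism to a stable subspace. -/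
def restr (W : Submodule k V) (h : ∀ w ∈ W, T w ∈ W) : W →ₛₗ[σ] W :=
  (T.domRestrict W).codRestrict W (fun w => h w w.2)

@[simp] lemma restr_apply (W : Submodule k V) (h : ∀ w ∈ W, T w ∈ W) (w : W) :
    (restr T W h w : V) = T w := rfl

lemma restr_iterate (W : Submodule k V) (h : ∀ w ∈ W, T w ∈ W) (n : ℕ) (w : W) :
    (((⇑(restr T W h))^[n] w : W) : V) = (⇑T)^[n] w := by
  induction n with
  | zero => rfl
  | succ n ih => rw [Function.iterate_succ_apply', Function.iterate_succ_apply', restr_apply, ih]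

/-- A semilinear endomorphism of a finite-dimensional space whose image spans is injective. -/
theorem injective_of_span_range_eq_top [FiniteDimensional k V]
    (h : span k (Set.range ⇑T) = ⊤) : Function.Injective T := by
  classical
  let b := Module.finBasis k V
  have hspan : ⊤ ≤ span k (Set.range (⇑T ∘ ⇑b)) := by
    rw [← h, span_le]
    rintro _ ⟨v, rfl⟩
    have hv : v ∈ span k (Set.range ⇑b) := by rw [b.span_eq]; trivial
    have := image_span_subset_span T (Set.range ⇑b) ⟨v, hv, rfl⟩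
    rwa [← Set.range_comp] at this
  have hli : LinearIndependent k (⇑T ∘ ⇑b) :=
    linearIndependent_of_top_le_span_of_card_eq_finrank hspan (by simp)
  have hker : ∀ x, T x = 0 → x = 0 := by
    intro x hx
    have hx' : x = ∑ i, b.repr x i • b i := (b.sum_repr x).symm
    rw [hx', map_sum] at hx
    simp only [map_smulₛₗ] at hx
    have h0 := Fintype.linearIndependent_iff.mp hli (fun i => σ (b.repr x i)) hx
    have h1 : ∀ i, b.repr x i = 0 := fun i =>
      (map_eq_zero_iff σ σ.injective).mp (h0 i)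
    rw [hx']
    simp [h1]
  intro x y hxy
  have := hker (x - y) (by rw [map_sub, hxy, sub_self])
  exact sub_eq_zero.mp this

/-- `T` maps the stable part `S T N` into itself. -/
lemma map_mem_S_stable {N : ℕ} (hN : ∀ m, N ≤ m → S T m = S T N) :
    ∀ w ∈ S T N, T w ∈ S T N := fun w hw => by
  have := map_mem_S T hw
  rwa [hN (N + 1) (Nat.le_succ N)] at this

lemma span_range_restr_stable {N : ℕ} (hN : ∀ m, N ≤ m → S T m = S T N) :
    span k (Set.range ⇑(restr T (S T N) (map_mem_S_stable T hN))) = ⊤ := by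
  apply Submodule.map_injective_of_injective (S T N).injective_subtype
  rw [Submodule.map_span, Submodule.map_top, Submodule.range_subtype]
  have : (⇑(S T N).subtype '' Set.range ⇑(restr T (S T N) (map_mem_S_stable T hN))) =
      T '' (S T N : Set V) := by
    ext x
    constructor
    · rintro ⟨_, ⟨w, rfl⟩, rfl⟩
      exact ⟨w, w.2, rfl⟩
    · rintro ⟨w, hw, rfl⟩
      exact ⟨_, ⟨⟨w, hw⟩, rfl⟩, rfl⟩
  rw [this, ← S_succ_eq, hN (N + 1) (Nat.le_succ N)]

/-- `T` is injective on the stable part. -/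
theorem injOn_S_stable [FiniteDimensional k V] {N : ℕ} (hN : ∀ m, N ≤ m → S T m = S T N) :
    Set.InjOn T (S T N : Set V) := by
  have hinj := injective_of_span_range_eq_top _ (span_range_restr_stable T hN)
  intro x hx y hy hxy
  have := @hinj ⟨x, hx⟩ ⟨y, hy⟩ (Subtype.ext hxy)
  exact congrArg Subtype.val this

/-- The nilpotent part and the stable part meet in `0` (no hypothesis on `σ`). -/
theorem eq_zero_of_iterate_eq_zero_of_mem [FiniteDimensional k V] (v : V)
    (hnil : ∃ n : ℕ, (⇑T)^[n] v = 0) (hss : ∀ n : ℕ, v ∈ S T n) : v = 0 := by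
  obtain ⟨N, hN⟩ := exists_S_stable T
  obtain ⟨n, hn⟩ := hnil
  have hinj := injective_of_span_range_eq_top _ (span_range_restr_stable T hN)
  have h1 := hinj.iterate n
  have h2 : (⇑(restr T (S T N) (map_mem_S_stable T hN)))^[n] ⟨v, hss N⟩ =
      (⇑(restr T (S T N) (map_mem_S_stable T hN)))^[n] 0 := by
    apply Subtype.ext
    rw [restr_iterate, restr_iterate]
    simp [hn]
  exact congrArg Subtype.val (h1 h2)

end Basics

section Fitting

variable {k : Type u} [Field k] {σ : k →+* k} {V : Type v} [AddCommGroup V] [Module k V]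
variable (T : V →ₛₗ[σ] V)

/-- The kernel of the `n`-th iterate, a `k`-subspace. -/
def K (n : ℕ) : Submodule k V where
  carrier := {v | (⇑T)^[n] v = 0}
  add_mem' := fun {a b} ha hb => by
    show (⇑T)^[n] (a + b) = 0
    rw [iter_add, show (⇑T)^[n] a = 0 from ha, show (⇑T)^[n] b = 0 from hb, add_zero]
  zero_mem' := iter_zero T n
  smul_mem' := fun c x hx => by
    show (⇑T)^[n] (c • x) = 0
    rw [iter_smul, show (⇑T)^[n] x = 0 from hx, smul_zero]

lemma mem_K {n : ℕ} {v : V} : v ∈ K T n ↔ (⇑T)^[n] v = 0 := Iff.rfl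

lemma K_mono : Monotone (K T) := by
  refine monotone_nat_of_le_succ fun n v hv => ?_
  rw [mem_K] at hv ⊢
  rw [Function.iterate_succ_apply', hv, map_zero]

lemma exists_K_stable [FiniteDimensional k V] : ∃ N, ∀ m, N ≤ m → K T m = K T N := by
  obtain ⟨N, hN⟩ := monotone_stabilizes_iff_noetherian.mpr
    (inferInstance : IsNoetherian k V) ⟨K T, K_mono T⟩
  exact ⟨N, fun m hm => (hN m hm).symm⟩

lemma mem_K_stable_iff {N : ℕ} (hN : ∀ m, N ≤ m → K T m = K T N) {v : V} :
    v ∈ K T N ↔ ∃ n, (⇑T)^[n] v = 0 := by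
  constructor
  · intro h; exact ⟨N, h⟩
  · rintro ⟨n, hn⟩
    rcases le_total n N with h | h
    · exact K_mono T h hn
    · rw [← hN n h]; exact hn

/-- When `σ` is surjective the span of the image of an iterate is the image. -/
lemma coe_S_eq_range (hσ : Function.Surjective σ) (n : ℕ) :
    (S T n : Set V) = Set.range ((⇑T)^[n]) := by
  apply Set.Subset.antisymm _ subset_span
  intro x hx
  induction hx using span_induction with
  | mem x hx => exact hx
  | zero => exact ⟨0, iter_zero T n⟩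
  | add x y _ _ hx hy =>
    obtain ⟨a, rfl⟩ := hx
    obtain ⟨b, rfl⟩ := hy
    exact ⟨a + b, iter_add T n a b⟩
  | smul c x _ hx =>
    obtain ⟨a, rfl⟩ := hx
    obtain ⟨c', rfl⟩ := hσ.iterate n c
    exact ⟨c' • a, iter_smul T n c' a⟩

/-- Fitting: `V = (nilpotent part) + (stable part)` when `σ` is surjective. -/
lemma exists_decomp (hσ : Function.Surjective σ) [FiniteDimensional k V] {N₁ N₂ : ℕ}
    (hN₁ : ∀ m, N₁ ≤ m → K T m = K T N₁) (hN₂ : ∀ m, N₂ ≤ m → S T m = S T N₂) (v : V) :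
    ∃ a ∈ K T N₁, ∃ w ∈ S T N₂, a + w = v := by
  set N := max N₁ N₂ with hNdef
  have h1 : N₁ ≤ N := le_max_left _ _
  have h2 : N₂ ≤ N := le_max_right _ _
  have hmem : (⇑T)^[N] v ∈ (S T (N + N) : Set V) := by
    rw [SetLike.mem_coe, hN₂ (N + N) (h2.trans (Nat.le_add_right N N)), ← hN₂ N h2]
    exact iter_mem_S T N v
  rw [coe_S_eq_range T hσ] at hmem
  obtain ⟨u, hu⟩ := hmem
  rw [Function.iterate_add_apply] at hu
  refine ⟨v - (⇑T)^[N] u, ?_, (⇑T)^[N] u, ?_, sub_add_cancel _ _⟩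
  · rw [← hN₁ N h1, mem_K, iter_sub, hu, sub_self]
  · rw [← hN₂ N h2]; exact iter_mem_S T N u

theorem isCompl_K_S (hσ : Function.Surjective σ) [FiniteDimensional k V] {N₁ : ℕ}
    (hN₁ : ∀ m, N₁ ≤ m → K T m = K T N₁) : IsCompl (K T N₁) (⨅ n, S T n) := by
  obtain ⟨N₂, hN₂⟩ := exists_S_stable T
  constructor
  · rw [Submodule.disjoint_def]
    intro x hx hx'
    exact eq_zero_of_iterate_eq_zero_of_mem T x ⟨N₁, hx⟩
      (fun n => (Submodule.mem_iInf _).mp hx' n)
  · rw [codisjoint_iff, eq_top_iff]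
    intro v _
    obtain ⟨a, ha, w, hw, rfl⟩ := exists_decomp T hσ hN₁ hN₂ v
    rw [iInf_S_eq T hN₂]
    exact Submodule.add_mem_sup ha hw

lemma map_mem_iInf_S {v : V} (hv : v ∈ ⨅ n, S T n) : T v ∈ ⨅ n, S T n := by
  rw [Submodule.mem_iInf] at hv ⊢
  intro n
  exact S_succ_le T n (map_mem_S T (hv n))

theorem bijOn_iInf_S (hσ : Function.Surjective σ) [FiniteDimensional k V] :
    Set.BijOn (⇑T) ((⨅ n, S T n : Submodule k V) : Set V) ((⨅ n, S T n : Submodule k V) : Set V) := by
  obtain ⟨N, hN⟩ := exists_S_stable T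
  refine ⟨fun v hv => map_mem_iInf_S T hv, ?_, ?_⟩
  · rw [iInf_S_eq T hN]; exact injOn_S_stable T hN
  · intro w hw
    have hw' : w ∈ (S T (N + 1) : Set V) := (Submodule.mem_iInf _).mp hw (N + 1)
    rw [coe_S_eq_range T hσ] at hw'
    obtain ⟨u, rfl⟩ := hw'
    refine ⟨(⇑T)^[N] u, ?_, (Function.iterate_succ_apply' _ _ _).symm⟩
    rw [iInf_S_eq T hN]
    exact iter_mem_S T N u

end Fitting

section Orbit

variable {k : Type u} [Field k] {σ : k →+* k} {V : Type v} [AddCommGroup V] [Module k V]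
variable (T : V →ₛₗ[σ] V)

/-- Span of the first `m` vectors of the orbit of `e`. -/
def U (e : V) (m : ℕ) : Submodule k V := span k (Set.range fun i : Fin m => (⇑T)^[i.val] e)

lemma U_mono (e : V) : Monotone (U T e) := by
  intro a b h
  refine span_mono ?_
  rintro _ ⟨i, rfl⟩
  exact ⟨⟨i.val, lt_of_lt_of_le i.2 h⟩, rfl⟩

lemma iter_mem_U (e : V) {i m : ℕ} (h : i < m) : (⇑T)^[i] e ∈ U T e m :=
  subset_span ⟨⟨i, h⟩, rfl⟩

lemma U_le_span_orbit (e : V) (m : ℕ) :
    U T e m ≤ span k (Set.range fun m : ℕ => (⇑T)^[m] e) := by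
  refine span_mono ?_
  rintro _ ⟨i, rfl⟩
  exact ⟨i.val, rfl⟩

/-- The hypothesis on `σ` used to produce fixed vectors. -/
def Solvable₂ (σ : k →+* k) : Prop :=
  ∀ (n : ℕ) (b : Fin (n + 1) → k), b ≠ 0 →
    ∃ x : k, x ≠ 0 ∧ x = ∑ i : Fin (n + 1), (⇑σ)^[i.val + 1] x * (⇑σ)^[i.val] (b (Fin.rev i))

theorem exists_ne_zero_fixed_mem_span_orbit [FiniteDimensional k V]
    (h2 : Solvable₂ σ) (e : V) (he : ∀ m : ℕ, (⇑T)^[m] e ≠ 0) :
    ∃ v ∈ span k (Set.range (fun m : ℕ => (⇑T)^[m] e)), v ≠ 0 ∧ T v = v := by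
  classical
  -- a first linear dependence in the orbit
  have hex : ∃ m, (⇑T)^[m] e ∈ U T e m := by
    obtain ⟨n, hn⟩ := monotone_stabilizes_iff_noetherian.mpr
      (inferInstance : IsNoetherian k V) ⟨U T e, U_mono T e⟩
    refine ⟨n, ?_⟩
    have : U T e n = U T e (n + 1) := hn (n + 1) (Nat.le_succ n)
    rw [this]
    exact iter_mem_U T e (Nat.lt_succ_self n)
  let m := Nat.find hex
  have hm : (⇑T)^[m] e ∈ U T e m := Nat.find_spec hex
  have hmin : ∀ j < m, (⇑T)^[j] e ∉ U T e j := fun j hj => Nat.find_min hex hj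
  have hm0 : m ≠ 0 := by
    intro h0
    rw [h0] at hm
    have : U T e 0 = ⊥ := by
      rw [U, span_eq_bot]
      rintro _ ⟨i, rfl⟩
      exact i.elim0
    rw [this, mem_bot] at hm
    exact he 0 hm
  obtain ⟨n, hn⟩ : ∃ n, m = n + 1 := Nat.exists_eq_succ_of_ne_zero hm0
  rw [hn] at hm
  obtain ⟨a, ha⟩ := (mem_span_range_iff_exists_fun k).mp hm
  -- `ha : ∑ i : Fin (n+1), a i • T^[i] e = T^[n+1] e`
  have ha0 : a ≠ 0 := by
    rintro rfl
    simp only [Pi.zero_apply, zero_smul, Finset.sum_const_zero] at ha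
    exact he (n + 1) ha.symm
  obtain ⟨x, hx0, hx⟩ := h2 n a ha0
  -- extend `a` to `ℕ`
  let a' : ℕ → k := fun i => if h : i < n + 1 then a ⟨i, h⟩ else 0
  have ha' : ∑ i ∈ Finset.range (n + 1), a' i • (⇑T)^[i] e = (⇑T)^[n + 1] e := by
    rw [← ha, ← Fin.sum_univ_eq_sum_range (fun i => a' i • (⇑T)^[i] e) (n + 1)]
    refine Finset.sum_congr rfl fun i _ => ?_
    have hi := i.2
    simp only [a', dif_pos hi]
  let xs : ℕ → k := fun j => ∑ i ∈ Finset.range (j + 1), (⇑σ)^[i + 1] x * (⇑σ)^[i] (a' (j - i))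
  have hxs_n : xs n = x := by
    refine Eq.trans ?_ hx.symm
    show ∑ i ∈ Finset.range (n + 1), (⇑σ)^[i + 1] x * (⇑σ)^[i] (a' (n - i)) = _
    rw [← Fin.sum_univ_eq_sum_range (fun i => (⇑σ)^[i + 1] x * (⇑σ)^[i] (a' (n - i))) (n + 1)]
    refine Finset.sum_congr rfl fun i _ => ?_
    have : a' (n - i.val) = a (Fin.rev i) := by
      have h1 : n - i.val < n + 1 := by omega
      simp only [a', h1, dif_pos]
      congr 1
      ext
      simp [Fin.val_rev]
    rw [this]
  have hxs0 : xs 0 = σ x * a' 0 := by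
    simp [xs]
  have hxs_succ : ∀ j, xs (j + 1) = σ (xs j) + σ x * a' (j + 1) := by
    intro j
    show ∑ i ∈ Finset.range (j + 1 + 1), (⇑σ)^[i + 1] x * (⇑σ)^[i] (a' (j + 1 - i)) = _
    rw [Finset.sum_range_succ']
    congr 1
    · show _ = σ (∑ i ∈ Finset.range (j + 1), (⇑σ)^[i + 1] x * (⇑σ)^[i] (a' (j - i)))
      rw [map_sum]
      refine Finset.sum_congr rfl fun i _ => ?_
      rw [map_mul, ← Function.iterate_succ_apply' (⇑σ), ← Function.iterate_succ_apply' (⇑σ),
        Nat.succ_sub_succ]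
  let v : V := ∑ j ∈ Finset.range (n + 1), xs j • (⇑T)^[j] e
  refine ⟨v, ?_, ?_, ?_⟩
  · exact sum_mem fun j _ => smul_mem _ _ (subset_span ⟨j, rfl⟩)
  · intro hv
    have hv' : xs n • (⇑T)^[n] e = -∑ j ∈ Finset.range n, xs j • (⇑T)^[j] e := by
      have : v = ∑ j ∈ Finset.range n, xs j • (⇑T)^[j] e + xs n • (⇑T)^[n] e :=
        Finset.sum_range_succ _ n
      rw [hv] at this
      exact eq_neg_of_add_eq_zero_right this.symm
    have hmem : xs n • (⇑T)^[n] e ∈ U T e n := by
      rw [hv']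
      refine neg_mem (sum_mem fun j hj => smul_mem _ _ ?_)
      exact iter_mem_U T e (Finset.mem_range.mp hj)
    rw [hxs_n] at hmem
    have := (smul_mem_iff (U T e n) hx0).mp hmem
    exact hmin n (by omega) this
  · -- `T v = v`
    have hTv : T v = ∑ j ∈ Finset.range (n + 1), σ (xs j) • (⇑T)^[j + 1] e := by
      show T (∑ j ∈ Finset.range (n + 1), xs j • (⇑T)^[j] e) = _
      rw [map_sum]
      refine Finset.sum_congr rfl fun j _ => ?_
      rw [map_smulₛₗ, Function.iterate_succ_apply']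
    rw [hTv, Finset.sum_range_succ, hxs_n, ← ha']
    show _ = ∑ j ∈ Finset.range (n + 1), xs j • (⇑T)^[j] e
    rw [Finset.sum_range_succ' (fun j => xs j • (⇑T)^[j] e) n,
      Finset.sum_range_succ' (fun i => a' i • (⇑T)^[i] e) n, hxs0]
    have : ∀ j, σ (xs j) = xs (j + 1) - σ x * a' (j + 1) := fun j => by rw [hxs_succ]; ring
    simp only [this, sub_smul, Finset.sum_sub_distrib, smul_add, Finset.smul_sum, mul_smul,
      Function.iterate_zero, id_eq]
    abel

end Orbit

section Fixed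

variable {k : Type u} [Field k] {σ : k →+* k} {V : Type v} [AddCommGroup V] [Module k V]
variable (T : V →ₛₗ[σ] V)

/-- The second hypothesis on `σ` (Artin–Schreier type). -/
def Solvable₃ (σ : k →+* k) : Prop := ∀ c : k, ∃ y : k, σ y - y + c = 0

/-- The set of fixed vectors. -/
def Fix : Set V := {v | T v = v}

lemma mem_Fix {v : V} : v ∈ Fix T ↔ T v = v := Iff.rfl

lemma map_mem_span_Fix : ∀ w ∈ span k (Fix T), T w ∈ span k (Fix T) := by
  have := (image_span_subset T (Fix T) (span k (Fix T))).mpr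
    (fun m hm => by rw [(mem_Fix T).mp hm]; exact subset_span hm)
  intro w hw
  exact this ⟨w, hw, rfl⟩

lemma exists_sub_eq_of_mem_span_Fix (h3 : Solvable₃ σ) :
    ∀ w' ∈ span k (Fix T), ∃ w ∈ span k (Fix T), w - T w = w' := by
  intro w' hw'
  obtain ⟨n, f, g, rfl⟩ := mem_span_set'.mp hw'
  choose y hy using fun i => h3 (f i)
  refine ⟨∑ i, y i • (g i : V), sum_mem fun i _ => smul_mem _ _ (subset_span (g i).2), ?_⟩
  rw [map_sum, ← Finset.sum_sub_distrib]
  refine Finset.sum_congr rfl fun i _ => ?_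
  rw [map_smulₛₗ, (mem_Fix T).mp (g i).2, ← sub_smul]
  congr 1
  have := hy i
  linear_combination -this

theorem span_Fix_eq_top [FiniteDimensional k V] (h1 : span k (Set.range ⇑T) = ⊤)
    (h2 : Solvable₂ σ) (h3 : Solvable₃ σ) : span k (Fix T) = ⊤ := by
  by_contra hne
  set W := span k (Fix T) with hW
  have : Nontrivial (V ⧸ W) := Submodule.Quotient.nontrivial_iff.mpr hne
  let Tq : (V ⧸ W) →ₛₗ[σ] (V ⧸ W) := W.mapQ W T (fun w hw => map_mem_span_Fix T w hw)
  have hTq : ∀ v : V, Tq (W.mkQ v) = W.mkQ (T v) := fun v => rfl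
  have hspan : span k (Set.range ⇑Tq) = ⊤ := by
    rw [eq_top_iff]
    intro q _
    obtain ⟨v, rfl⟩ := W.mkQ_surjective q
    have hv : v ∈ span k (Set.range ⇑T) := by rw [h1]; trivial
    have := Submodule.mem_map_of_mem (f := W.mkQ) hv
    rw [Submodule.map_span] at this
    refine span_mono ?_ this
    rintro _ ⟨_, ⟨u, rfl⟩, rfl⟩
    exact ⟨W.mkQ u, hTq u⟩
  have hinj := injective_of_span_range_eq_top Tq hspan
  obtain ⟨ebar, hebar⟩ := exists_ne (0 : V ⧸ W)
  have he : ∀ m : ℕ, (⇑Tq)^[m] ebar ≠ 0 := by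
    intro m hm
    apply hebar
    apply hinj.iterate m
    rw [hm, iter_zero]
  obtain ⟨vbar, -, hv0, hvfix⟩ := exists_ne_zero_fixed_mem_span_orbit Tq h2 ebar he
  obtain ⟨v, rfl⟩ := W.mkQ_surjective vbar
  rw [hTq] at hvfix
  have hmem : T v - v ∈ W := (Submodule.Quotient.eq W).mp hvfix
  obtain ⟨w, hw, hw'⟩ := exists_sub_eq_of_mem_span_Fix T h3 _ hmem
  have hfix : T (v + w) = v + w := by
    rw [map_add]
    have : T v + T w - (v + w) = (T v - v) - (w - T w) := by abel
    rw [← sub_eq_zero, this, hw', sub_self]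
  have hvw : v + w ∈ W := subset_span hfix
  have : v ∈ W := by
    have := W.sub_mem hvw hw
    rwa [add_sub_cancel_right] at this
  exact hv0 ((Submodule.Quotient.mk_eq_zero W).mpr this)

theorem exists_basis_fixed_and_sub_surjective [FiniteDimensional k V]
    (h1 : span k (Set.range ⇑T) = ⊤) (h2 : Solvable₂ σ) (h3 : Solvable₃ σ) :
    (∃ b : Module.Basis (Fin (Module.finrank k V)) k V, ∀ i, T (b i) = b i) ∧
      Function.Surjective (fun v : V => v - T v) := by
  have htop := span_Fix_eq_top T h1 h2 h3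
  constructor
  · obtain ⟨b, hbF, hbspan, hbli⟩ := exists_linearIndependent k (Fix T)
    rw [htop] at hbspan
    let B : Module.Basis b k V := Module.Basis.mk hbli (by rw [Subtype.range_coe, hbspan])
    have : Fintype b := FiniteDimensional.fintypeBasisIndex B
    have hcard : Fintype.card b = Module.finrank k V := (Module.finrank_eq_card_basis B).symm
    let e : b ≃ Fin (Module.finrank k V) := Fintype.equivFinOfCardEq hcard
    refine ⟨B.reindex e, fun i => ?_⟩
    rw [Module.Basis.reindex_apply, Module.Basis.mk_apply]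
    exact hbF (e.symm i).2
  · intro w'
    obtain ⟨w, -, hw⟩ := exists_sub_eq_of_mem_span_Fix T h3 w' (by rw [htop]; trivial)
    exact ⟨w, hw⟩

end Fixed

section Lang

variable {k : Type u} [Field k] {σ : k →+* k} {V : Type v} [AddCommGroup V] [Module k V]
variable (T : V →ₛₗ[σ] V)

/-- `1 - T` is invertible on vectors killed by an iterate of `T`. -/
lemma exists_sub_eq_of_iterate_eq_zero {N : ℕ} {a : V} (ha : (⇑T)^[N] a = 0) :
    ∃ a' : V, a' - T a' = a := by
  refine ⟨∑ i ∈ Finset.range N, (⇑T)^[i] a, ?_⟩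
  rw [map_sum, ← Finset.sum_sub_distrib]
  have : ∀ i ∈ Finset.range N, (⇑T)^[i] a - T ((⇑T)^[i] a) = (⇑T)^[i] a - (⇑T)^[i + 1] a :=
    fun i _ => by rw [Function.iterate_succ_apply']
  rw [Finset.sum_congr rfl this, Finset.sum_range_sub', ha, sub_zero, Function.iterate_zero, id_eq]

theorem sub_surjective_and_exists_fixed_basis (hσ : Function.Surjective σ)
    [FiniteDimensional k V] (h2 : Solvable₂ σ) (h3 : Solvable₃ σ) :
    Function.Surjective (fun v : V => v - T v) ∧
    ∃ b : Module.Basis (Fin (Module.finrank k ↥(⨅ n : ℕ, S T n))) k ↥(⨅ n : ℕ, S T n),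
      ∀ i, T (b i : V) = (b i : V) := by
  set W : Submodule k V := ⨅ n : ℕ, S T n with hW
  let TW : W →ₛₗ[σ] W := restr T W (fun w hw => map_mem_iInf_S T hw)
  have hbij := bijOn_iInf_S T hσ
  have hTWsurj : Function.Surjective TW := by
    intro w
    obtain ⟨u, hu, huw⟩ := hbij.surjOn w.2
    exact ⟨⟨u, hu⟩, Subtype.ext huw⟩
  have hspan : span k (Set.range ⇑TW) = ⊤ := by
    rw [hTWsurj.range_eq, span_univ]
  obtain ⟨⟨b, hb⟩, hsurjW⟩ := exists_basis_fixed_and_sub_surjective TW hspan h2 h3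
  refine ⟨?_, b, fun i => congrArg Subtype.val (hb i)⟩
  intro v
  obtain ⟨N₁, hN₁⟩ := exists_K_stable T
  obtain ⟨N₂, hN₂⟩ := exists_S_stable T
  obtain ⟨a, ha, w, hw, rfl⟩ := exists_decomp T hσ hN₁ hN₂ v
  rw [← iInf_S_eq T hN₂] at hw
  obtain ⟨a', ha'⟩ := exists_sub_eq_of_iterate_eq_zero T ((mem_K T).mp ha)
  obtain ⟨w', hw'⟩ := hsurjW ⟨w, hw⟩
  have hw'' : (w' : V) - T w' = w := congrArg Subtype.val hw'
  refine ⟨a' + w', ?_⟩
  show a' + w' - T (a' + w') = a + w
  rw [map_add, ← ha', ← hw'']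
  abel

end Lang

open Polynomial

section AlgClosed

variable {K : Type u} [Field K]

/-- A polynomial over an algebraically closed field with two nonzero coefficients has a nonzero
root. -/
theorem exists_ne_zero_root [IsAlgClosed K] (P : K[X]) {a b : ℕ} (hab : a ≠ b) (ha : P.coeff a ≠ 0)
    (hb : P.coeff b ≠ 0) : ∃ x : K, x ≠ 0 ∧ P.eval x = 0 := by
  by_contra hcon
  push Not at hcon
  have hroots : ∀ r ∈ P.roots, r = 0 := by
    intro r hr
    by_contra hr0
    exact hcon r hr0 ((mem_roots'.mp hr).2)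
  have hrep : P.roots = Multiset.replicate (Multiset.card P.roots) 0 :=
    Multiset.eq_replicate.mpr ⟨rfl, hroots⟩
  have hP := (IsAlgClosed.splits P).eq_prod_roots
  rw [hrep, Multiset.map_replicate, Multiset.prod_replicate, C_0, sub_zero] at hP
  have hc : ∀ m, P.coeff m = if m = Multiset.card P.roots then P.leadingCoeff else 0 := by
    intro m
    conv_lhs => rw [hP]
    rw [coeff_C_mul_X_pow]
  have h1 := hc a
  have h2 := hc b
  by_cases haN : a = Multiset.card P.roots
  · have hbN : b ≠ Multiset.card P.roots := fun h => hab (haN.trans h.symm)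
    rw [if_neg hbN] at h2
    exact hb h2
  · rw [if_neg haN] at h1
    exact ha h1

lemma coeff_sum_C_mul_X_pow {ι : Type*} [Fintype ι] [DecidableEq ι] (c : ι → K) (e : ι → ℕ)
    (he : Function.Injective e) (i₀ : ι) :
    (∑ i, C (c i) * X ^ e i : K[X]).coeff (e i₀) = c i₀ := by
  rw [finsetSum_coeff]
  simp only [coeff_C_mul_X_pow]
  rw [Finset.sum_eq_single i₀]
  · simp
  · intro i _ hi
    rw [if_neg]
    exact fun h => hi (he h).symm
  · intro h; exact absurd (Finset.mem_univ _) h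

lemma coeff_sum_C_mul_X_pow_of_ne {ι : Type*} [Fintype ι] (c : ι → K) (e : ι → ℕ)
    (m : ℕ) (hm : ∀ i, e i ≠ m) :
    (∑ i, C (c i) * X ^ e i : K[X]).coeff m = 0 := by
  rw [finsetSum_coeff]
  refine Finset.sum_eq_zero fun i _ => ?_
  rw [coeff_C_mul_X_pow, if_neg (fun h => hm i h.symm)]

lemma eval_sum_C_mul_X_pow {ι : Type*} [Fintype ι] (c : ι → K) (e : ι → ℕ) (x : K) :
    (∑ i, C (c i) * X ^ e i : K[X]).eval x = ∑ i, c i * x ^ e i := by
  simp [eval_finsetSum]

lemma iterate_eq_pow (p : ℕ) {σ : K →+* K} (hσ : ∀ x, σ x = x ^ p) (m : ℕ) (x : K) :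
    (⇑σ)^[m] x = x ^ p ^ m := by
  induction m with
  | zero => simp
  | succ m ih => rw [Function.iterate_succ_apply', ih, hσ, ← pow_mul, ← pow_succ]

variable [IsAlgClosed K] (p : ℕ) [hp : Fact p.Prime] [CharP K p]

omit [CharP K p] in
/-- `Solvable₂` for the Frobenius of an algebraically closed field. -/
theorem solvable₂_of_pow {σ : K →+* K} (hσ : ∀ x, σ x = x ^ p) : Solvable₂ σ := by
  classical
  intro n b hb
  have hp1 : 1 < p := hp.out.one_lt
  let c : Fin (n + 1) → K := fun i => (b (Fin.rev i)) ^ p ^ i.val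
  let e : Fin (n + 1) → ℕ := fun i => p ^ (i.val + 1)
  have he : Function.Injective e := by
    intro i j hij
    have := Nat.pow_right_injective hp.out.two_le hij
    exact Fin.ext (by omega)
  have he1 : ∀ i, e i ≠ 1 := by
    intro i h
    have : p ^ (i.val + 1) = 1 := h
    rw [Nat.pow_eq_one] at this
    omega
  let P : K[X] := (∑ i, C (c i) * X ^ e i) - X
  obtain ⟨j, hj⟩ : ∃ j, b j ≠ 0 := by
    by_contra h
    push Not at h
    exact hb (funext h)
  have hc : c (Fin.rev j) ≠ 0 := by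
    show (b (Fin.rev (Fin.rev j))) ^ p ^ (Fin.rev j).val ≠ 0
    rw [Fin.rev_rev]
    exact pow_ne_zero _ hj
  have hco1 : P.coeff 1 ≠ 0 := by
    show ((∑ i, C (c i) * X ^ e i) - X : K[X]).coeff 1 ≠ 0
    rw [coeff_sub, coeff_sum_C_mul_X_pow_of_ne c e 1 he1, coeff_X_one]
    simp
  have hco2 : P.coeff (e (Fin.rev j)) ≠ 0 := by
    show ((∑ i, C (c i) * X ^ e i) - X : K[X]).coeff (e (Fin.rev j)) ≠ 0
    rw [coeff_sub, coeff_sum_C_mul_X_pow c e he, coeff_X, if_neg (he1 _).symm, sub_zero]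
    exact hc
  obtain ⟨x, hx0, hx⟩ := exists_ne_zero_root P (he1 _).symm hco1 hco2
  refine ⟨x, hx0, ?_⟩
  have hx' : (∑ i, c i * x ^ e i) - x = 0 := by
    have : P.eval x = (∑ i, c i * x ^ e i) - x := by
      show ((∑ i, C (c i) * X ^ e i) - X : K[X]).eval x = _
      rw [eval_sub, eval_sum_C_mul_X_pow, eval_X]
    rw [← this, hx]
  rw [sub_eq_zero] at hx'
  refine hx'.symm.trans ?_
  refine Finset.sum_congr rfl fun i _ => ?_
  rw [iterate_eq_pow p hσ, iterate_eq_pow p hσ, mul_comm]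

omit [CharP K p] in
/-- `Solvable₃` for the Frobenius of an algebraically closed field. -/
theorem solvable₃_of_pow {σ : K →+* K} (hσ : ∀ x, σ x = x ^ p) : Solvable₃ σ := by
  intro c
  have hp1 : 1 < p := hp.out.one_lt
  have hdeg : (X ^ p - X + C c : K[X]).degree ≠ 0 := by
    have : (X ^ p - X + C c : K[X]).natDegree = p := by
      compute_degree!
      · rw [if_neg (by omega), if_neg (by omega)]; simp
      · omega
    intro h
    have h' := natDegree_eq_zero_iff_degree_le_zero.mpr h.le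
    omega
  obtain ⟨y, hy⟩ := IsAlgClosed.exists_root _ hdeg
  refine ⟨y, ?_⟩
  rw [hσ]
  simpa using hy

omit [IsAlgClosed K] in
lemma map_pow_eq_of_pow_eq {σ : K →+* K} (hσ : ∀ x, (σ x) ^ p = x) (y : K) : σ (y ^ p) = y := by
  apply frobenius_inj K p
  rw [frobenius_def, frobenius_def, hσ]

omit [IsAlgClosed K] in
lemma iterate_pow_eq_of_pow_eq {σ : K →+* K} (hσ : ∀ x, (σ x) ^ p = x) (m : ℕ) (y : K) :
    (⇑σ)^[m] (y ^ p ^ m) = y := by
  induction m generalizing y with
  | zero => simp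
  | succ m ih =>
    rw [Function.iterate_succ_apply, pow_succ, pow_mul, map_pow_eq_of_pow_eq p hσ, ih]

/-- `Solvable₃` for the inverse Frobenius of an algebraically closed field. -/
theorem solvable₃_of_pow_eq {σ : K →+* K} (hσ : ∀ x, (σ x) ^ p = x) : Solvable₃ σ := by
  intro c
  have hp1 : 1 < p := hp.out.one_lt
  have hdeg : (X - X ^ p + C c : K[X]).degree ≠ 0 := by
    have : (X - X ^ p + C c : K[X]).natDegree = p := by
      compute_degree!
      · rw [if_neg (by omega), if_neg (by omega)]; simp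
      · omega
    intro h
    have h' := natDegree_eq_zero_iff_degree_le_zero.mpr h.le
    omega
  obtain ⟨z, hz⟩ := IsAlgClosed.exists_root _ hdeg
  refine ⟨z ^ p, ?_⟩
  rw [map_pow_eq_of_pow_eq p hσ]
  simpa using hz

/-- `Solvable₂` for the inverse Frobenius of an algebraically closed field. -/
theorem solvable₂_of_pow_eq {σ : K →+* K} (hσ : ∀ x, (σ x) ^ p = x) : Solvable₂ σ := by
  classical
  intro n b hb
  have hp1 : 1 < p := hp.out.one_lt
  let d : Fin (n + 1) → K := fun i => (⇑σ)^[i.val] (b (Fin.rev i))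
  let e : Fin (n + 1) → ℕ := fun i => p ^ (n - i.val)
  have he : Function.Injective e := by
    intro i j hij
    have := Nat.pow_right_injective hp.out.two_le hij
    have hi := i.2
    have hj := j.2
    exact Fin.ext (by omega)
  have heN : ∀ i, e i ≠ p ^ (n + 1) := by
    intro i h
    have := Nat.pow_right_injective hp.out.two_le h
    omega
  let P : K[X] := X ^ p ^ (n + 1) - ∑ i, C (d i) * X ^ e i
  obtain ⟨j, hj⟩ : ∃ j, b j ≠ 0 := by
    by_contra h
    push Not at h
    exact hb (funext h)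
  have hd : d (Fin.rev j) ≠ 0 := by
    show (⇑σ)^[(Fin.rev j).val] (b (Fin.rev (Fin.rev j))) ≠ 0
    rw [Fin.rev_rev]
    intro h
    apply hj
    apply σ.injective.iterate (Fin.rev j).val
    rw [h, iterate_map_zero]
  have hco1 : P.coeff (p ^ (n + 1)) ≠ 0 := by
    show (X ^ p ^ (n + 1) - ∑ i, C (d i) * X ^ e i : K[X]).coeff (p ^ (n + 1)) ≠ 0
    rw [coeff_sub, coeff_sum_C_mul_X_pow_of_ne d e _ heN, coeff_X_pow, if_pos rfl]
    simp
  have hco2 : P.coeff (e (Fin.rev j)) ≠ 0 := by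
    show (X ^ p ^ (n + 1) - ∑ i, C (d i) * X ^ e i : K[X]).coeff (e (Fin.rev j)) ≠ 0
    rw [coeff_sub, coeff_sum_C_mul_X_pow d e he, coeff_X_pow, if_neg (heN _), zero_sub]
    exact neg_ne_zero.mpr hd
  obtain ⟨z, hz0, hz⟩ := exists_ne_zero_root P (heN _).symm hco1 hco2
  have hz' : z ^ p ^ (n + 1) = ∑ i, d i * z ^ e i := by
    have : P.eval z = z ^ p ^ (n + 1) - ∑ i, d i * z ^ e i := by
      show (X ^ p ^ (n + 1) - ∑ i, C (d i) * X ^ e i : K[X]).eval z = _
      rw [eval_sub, eval_sum_C_mul_X_pow, eval_pow, eval_X]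
    rw [this, sub_eq_zero] at hz
    exact hz
  refine ⟨z ^ p ^ (n + 1), pow_ne_zero _ hz0, ?_⟩
  refine hz'.trans ?_
  refine Finset.sum_congr rfl fun i _ => ?_
  have hi := i.2
  have : z ^ p ^ (n + 1) = (z ^ p ^ (n - i.val)) ^ p ^ (i.val + 1) := by
    rw [← pow_mul, ← pow_add]
    congr 2
    omega
  rw [this, iterate_pow_eq_of_pow_eq p hσ, mul_comm]

end AlgClosed

end Groth.Agent.Lib.SigmaLin
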