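import Groth.Agent.Lib.SigmaLin

/-!
# Semilinear endomorphisms of finite modules over a local ring with `𝔪 = (p)`, `p^n = 0` (helper99)

Dévissage from the residue field case (`Groth.Agent.Lib.SigmaLin`): surjectivity of `1 - T` and
finite generation of the fixed points over the fixed subring.
-/

set_option autoImplicit false
universe u v

namespace Groth.Agent.Lib.SigmaLin

open IsLocalRing Submodule

section Local

variable {R : Type u} [CommRing R] [IsLocalRing R] {σ : R →+* R}
variable {M : Type v} [AddCommGroup M] [Module R M]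

/-- The reduction `M / 𝔪 M`. -/
abbrev Vb (R : Type u) [CommRing R] [IsLocalRing R] (M : Type v) [AddCommGroup M] [Module R M] :
    Type v :=
  M ⧸ (maximalIdeal R • ⊤ : Submodule R M)

/-- `M / 𝔪 M` as a vector space over the residue field. -/
@[reducible] noncomputable def moduleVb : Module (ResidueField R) (Vb R M) :=
  inferInstanceAs (Module (R ⧸ maximalIdeal R) (M ⧸ (maximalIdeal R • ⊤ : Submodule R M)))

attribute [local instance] moduleVb

/-- The quotient map, semilinear over the residue map. -/
noncomputable def quo : M →ₛₗ[residue R] Vb R M where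
  toFun := Submodule.Quotient.mk
  map_add' _ _ := rfl
  map_smul' _ _ := rfl

lemma quo_surjective : Function.Surjective (quo : M → Vb R M) :=
  Submodule.Quotient.mk_surjective _

lemma quo_eq_zero_iff {m : M} :
    (quo m : Vb R M) = 0 ↔ m ∈ (maximalIdeal R • ⊤ : Submodule R M) :=
  Submodule.Quotient.mk_eq_zero _

lemma quo_eq_iff {m m' : M} :
    (quo m : Vb R M) = quo m' ↔ m - m' ∈ (maximalIdeal R • ⊤ : Submodule R M) :=
  Submodule.Quotient.eq _

instance finite_Vb [Module.Finite R M] : Module.Finite (ResidueField R) (Vb R M) :=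
  Module.Finite.of_surjective (quo : M →ₛₗ[residue R] Vb R M) quo_surjective

variable (T : M →ₛₗ[σ] M) (σbar : ResidueField R →+* ResidueField R)
  (hσbar : ∀ r : R, σbar (residue R r) = residue R (σ r))

include hσbar in
lemma map_mem_maximalIdeal {r : R} (hr : r ∈ maximalIdeal R) : σ r ∈ maximalIdeal R := by
  rw [← residue_eq_zero_iff] at hr ⊢
  rw [← hσbar, hr, map_zero]

include hσbar in
lemma smul_top_le_comap :
    (maximalIdeal R • ⊤ : Submodule R M) ≤ (maximalIdeal R • ⊤ : Submodule R M).comap T := by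
  rw [Submodule.smul_le]
  intro r hr m _
  rw [Submodule.mem_comap, map_smulₛₗ]
  exact Submodule.smul_mem_smul (map_mem_maximalIdeal σbar hσbar hr) mem_top

/-- The reduction of `T`, semilinear over `σbar`. -/
noncomputable def Tbar : Vb R M →ₛₗ[σbar] Vb R M where
  toFun := Submodule.mapQ _ _ T (smul_top_le_comap T σbar hσbar)
  map_add' := map_add _
  map_smul' := fun c v => by
    obtain ⟨r, rfl⟩ := residue_surjective c
    obtain ⟨m, rfl⟩ := Submodule.Quotient.mk_surjective _ v
    show mapQ _ _ T (smul_top_le_comap T σbar hσbar) (Submodule.Quotient.mk (r • m)) =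
      σbar (residue R r) • mapQ _ _ T (smul_top_le_comap T σbar hσbar) (Submodule.Quotient.mk m)
    rw [mapQ_apply, mapQ_apply, map_smulₛₗ, hσbar]
    rfl

lemma Tbar_quo (m : M) : Tbar T σbar hσbar (quo m) = quo (T m) := rfl

section Surj

variable [Module.Finite R M]

include hσbar

theorem exists_sub_mem_smul_top (hsurj : Function.Surjective σbar) (h2 : Solvable₂ σbar)
    (h3 : Solvable₃ σbar) (m : M) :
    ∃ m' : M, m - (m' - T m') ∈ (maximalIdeal R • ⊤ : Submodule R M) := by
  obtain ⟨v, hv⟩ :=
    (sub_surjective_and_exists_fixed_basis (Tbar T σbar hσbar) hsurj h2 h3).1 (quo m)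
  obtain ⟨m', rfl⟩ := quo_surjective v
  refine ⟨m', ?_⟩
  rw [← quo_eq_iff, map_sub, ← Tbar_quo T σbar hσbar]
  exact hv.symm

/-- `1 - T` is surjective on a finite module over a local ring with `𝔪 = (p)`, `p^n = 0`. -/
theorem sub_surjective_of_local (p : ℕ) (hmax : maximalIdeal R = Ideal.span {(p : R)}) (n : ℕ)
    (hn : (p : R) ^ n = 0) (hsurj : Function.Surjective σbar) (h2 : Solvable₂ σbar)
    (h3 : Solvable₃ σbar) : Function.Surjective (fun m : M => m - T m) := by
  have hstep : ∀ m : M, ∃ a b : M, m = (a - T a) + (p : R) • b := by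
    intro m
    obtain ⟨a, ha⟩ := exists_sub_mem_smul_top T σbar hσbar hsurj h2 h3 m
    rw [hmax, Submodule.ideal_span_singleton_smul, Submodule.mem_smul_pointwise_iff_exists] at ha
    obtain ⟨b, -, hb⟩ := ha
    exact ⟨a, b, by rw [hb]; abel⟩
  have hσp : ∀ j : ℕ, σ ((p : R) ^ j) = (p : R) ^ j := fun j => by
    rw [map_pow, map_natCast]
  have hind : ∀ j : ℕ, ∀ m : M, ∃ a b : M, m = (a - T a) + ((p : R) ^ j) • b := by
    intro j
    induction j with
    | zero => intro m; exact ⟨0, m, by simp⟩
    | succ j ih =>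
      intro m
      obtain ⟨a, b, hab⟩ := ih m
      obtain ⟨a', b', hab'⟩ := hstep b
      refine ⟨a + ((p : R) ^ j) • a', b', ?_⟩
      rw [hab, hab', map_add, map_smulₛₗ, hσp, pow_succ, mul_smul]
      simp only [smul_add, smul_sub]
      abel
  intro m
  obtain ⟨a, b, hab⟩ := hind n m
  exact ⟨a, by rw [hab, hn, zero_smul, add_zero]⟩

end Surj

end Local

section FieldFixed

variable {k : Type u} [Field k] {σ : k →+* k} {V : Type v} [AddCommGroup V] [Module k V]
variable (T : V →ₛₗ[σ] V)

/-- Over a field (with `σ` surjective and the two solvability hypotheses) there are finitely many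
fixed vectors such that every fixed vector is a combination of them with `σ`-fixed coefficients. -/
theorem exists_fixed_family (hσ : Function.Surjective σ) [FiniteDimensional k V]
    (h2 : Solvable₂ σ) (h3 : Solvable₃ σ) :
    ∃ (d : ℕ) (b : Fin d → V), (∀ i, T (b i) = b i) ∧
      ∀ v, T v = v → ∃ c : Fin d → k, (∀ i, σ (c i) = c i) ∧ v = ∑ i, c i • b i := by
  obtain ⟨-, B, hB⟩ := sub_surjective_and_exists_fixed_basis T hσ h2 h3
  refine ⟨_, fun i => (B i : V), hB, ?_⟩
  intro v hv
  have hvW : v ∈ ⨅ n : ℕ, S T n := by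
    rw [Submodule.mem_iInf]
    intro n
    have := iter_mem_S T n v
    rwa [Function.iterate_fixed hv] at this
  let c := B.repr ⟨v, hvW⟩
  have hsum : v = ∑ i, c i • (B i : V) := by
    have := congrArg Subtype.val (B.sum_repr ⟨v, hvW⟩)
    simp only [Submodule.coe_sum, Submodule.coe_smul] at this
    exact this.symm
  have hfix : ∀ i, σ (c i) = c i := by
    have h1 : T v = ∑ i, σ (c i) • (B i : V) := by
      conv_lhs => rw [hsum]
      rw [map_sum]
      refine Finset.sum_congr rfl fun i _ => ?_
      rw [map_smulₛₗ, hB]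
    rw [hv] at h1
    have h2' : (∑ i, (σ (c i) - c i) • B i : ↥(⨅ n : ℕ, S T n)) = 0 := by
      apply Subtype.ext
      simp only [sub_smul, Finset.sum_sub_distrib]
      rw [Submodule.coe_sub, Submodule.coe_sum, Submodule.coe_sum]
      simp only [Submodule.coe_smul]
      rw [← h1, ← hsum, sub_self, Submodule.coe_zero]
    have := Fintype.linearIndependent_iff.mp B.linearIndependent _ h2'
    intro i
    exact sub_eq_zero.mp (this i)
  exact ⟨fun i => c i, hfix, hsum⟩

end FieldFixed

section LocalFixed

variable {R : Type u} [CommRing R] [IsLocalRing R] {σ : R →+* R}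
variable (σbar : ResidueField R →+* ResidueField R)
  (hσbar : ∀ r : R, σbar (residue R r) = residue R (σ r))

attribute [local instance] moduleVb

/-- Restriction of a semilinear endomorphism to a stable submodule (over a ring). -/
def restrR {M : Type v} [AddCommGroup M] [Module R M] (T : M →ₛₗ[σ] M) (N : Submodule R M)
    (h : N ≤ N.comap T) : N →ₛₗ[σ] N :=
  (T.domRestrict N).codRestrict N (fun w => h w.2)

omit [IsLocalRing R] in
@[simp] lemma restrR_apply {M : Type v} [AddCommGroup M] [Module R M] (T : M →ₛₗ[σ] M)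
    (N : Submodule R M) (h : N ≤ N.comap T) (w : N) : (restrR T N h w : M) = T w := rfl

lemma finite_smul_top (p : ℕ) (hmax : maximalIdeal R = Ideal.span {(p : R)})
    {M : Type v} [AddCommGroup M] [Module R M] [Module.Finite R M] :
    Module.Finite R ↥(maximalIdeal R • ⊤ : Submodule R M) := by
  rw [Module.Finite.iff_fg, Submodule.smul_eq_map₂]
  refine Submodule.FG.map₂ _ ?_ Module.Finite.fg_top
  rw [hmax]
  exact Submodule.fg_span_singleton _

lemma pow_smul_eq_zero_of_mem_smul_top (p : ℕ) (hmax : maximalIdeal R = Ideal.span {(p : R)})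
    {M : Type v} [AddCommGroup M] [Module R M] {j : ℕ}
    (hkill : ∀ m : M, ((p : R) ^ (j + 1)) • m = 0) {x : M}
    (hx : x ∈ (maximalIdeal R • ⊤ : Submodule R M)) : ((p : R) ^ j) • x = 0 := by
  rw [hmax, Submodule.ideal_span_singleton_smul,
    Submodule.mem_smul_pointwise_iff_exists] at hx
  obtain ⟨b, -, hb⟩ := hx
  rw [← hb, smul_smul, ← pow_succ, hkill]

include hσbar in
/-- Lifting fixed vectors of the reduction to fixed vectors. -/
lemma exists_fixed_lift (p : ℕ) (hmax : maximalIdeal R = Ideal.span {(p : R)}) (n : ℕ)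
    (hn : (p : R) ^ n = 0) (hsurj : Function.Surjective σbar) (h2 : Solvable₂ σbar)
    (h3 : Solvable₃ σbar)
    {M : Type v} [AddCommGroup M] [Module R M] [Module.Finite R M] (T : M →ₛₗ[σ] M) (m : M)
    (hm : T m - m ∈ (maximalIdeal R • ⊤ : Submodule R M)) :
    ∃ β : M, T β = β ∧ β - m ∈ (maximalIdeal R • ⊤ : Submodule R M) := by
  have := finite_smul_top p hmax (M := M)
  obtain ⟨n', hn'⟩ := sub_surjective_of_local
    (restrR T (maximalIdeal R • ⊤ : Submodule R M) (smul_top_le_comap T σbar hσbar))
    σbar hσbar p hmax n hn hsurj h2 h3 ⟨T m - m, hm⟩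
  have hn'' : (n' : M) - T n' = T m - m := congrArg Subtype.val hn'
  refine ⟨m + n', ?_, by rw [add_sub_cancel_left]; exact n'.2⟩
  rw [map_add]
  have : T (n' : M) = n' - (T m - m) := by rw [← hn'']; abel
  rw [this]; abel

include hσbar in
theorem exists_finset_fixed_span (p : ℕ) (hmax : maximalIdeal R = Ideal.span {(p : R)}) (n : ℕ)
    (hn : (p : R) ^ n = 0) (hsurj : Function.Surjective σbar) (h2 : Solvable₂ σbar)
    (h3 : Solvable₃ σbar)
    (hlift : ∀ x : ResidueField R, σbar x = x → ∃ r : R, σ r = r ∧ residue R r = x) :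
    ∀ (j : ℕ) (M : Type v) [AddCommGroup M] [Module R M] [Module.Finite R M] (T : M →ₛₗ[σ] M),
      (∀ m : M, ((p : R) ^ j) • m = 0) →
      ∃ s : Finset M, (∀ m ∈ s, T m = m) ∧
        ∀ m, T m = m → m ∈ span (RingHom.eqLocus σ (RingHom.id R)) (s : Set M) := by
  classical
  intro j
  induction j with
  | zero =>
    intro M _ _ _ T hkill
    refine ⟨∅, by simp, fun m _ => ?_⟩
    have := hkill m
    rw [pow_zero, one_smul] at this
    rw [this]
    exact zero_mem _
  | succ j ih =>
    intro M _ _ _ T hkill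
    set N : Submodule R M := maximalIdeal R • ⊤ with hN
    have hfinN : Module.Finite R N := finite_smul_top p hmax (M := M)
    let TN : N →ₛₗ[σ] N := restrR T N (smul_top_le_comap T σbar hσbar)
    have hkillN : ∀ x : N, ((p : R) ^ j) • x = 0 := by
      intro x
      apply Subtype.ext
      rw [Submodule.coe_smul, Submodule.coe_zero]
      exact pow_smul_eq_zero_of_mem_smul_top p hmax hkill x.2
    obtain ⟨sN, hsN_fix, hsN_span⟩ := ih N TN hkillN
    obtain ⟨d, b, hb_fix, hb_span⟩ := exists_fixed_family (Tbar T σbar hσbar) hsurj h2 h3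
    have hlifts : ∀ i, ∃ β : M, T β = β ∧ (quo β : Vb R M) = b i := by
      intro i
      obtain ⟨m, hm⟩ := quo_surjective (b i)
      have hmN : T m - m ∈ N := by
        rw [hN, ← quo_eq_iff, ← Tbar_quo T σbar hσbar, hm, hb_fix]
      obtain ⟨β, hβ, hβm⟩ := exists_fixed_lift σbar hσbar p hmax n hn hsurj h2 h3 T m hmN
      exact ⟨β, hβ, by rw [← hm]; exact quo_eq_iff.mpr hβm⟩
    choose β hβfix hβquo using hlifts
    refine ⟨sN.image Subtype.val ∪ Finset.univ.image β, ?_, ?_⟩
    · intro m hm
      rw [Finset.mem_union, Finset.mem_image, Finset.mem_image] at hm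
      rcases hm with ⟨x, hx, rfl⟩ | ⟨i, -, rfl⟩
      · exact congrArg Subtype.val (hsN_fix x hx)
      · exact hβfix i
    · intro m hm
      have hqfix : Tbar T σbar hσbar (quo m) = quo m := by rw [Tbar_quo, hm]
      obtain ⟨c, hcfix, hcsum⟩ := hb_span (quo m) hqfix
      choose r hrfix hrres using fun i => hlift (c i) (hcfix i)
      set m₁ : M := m - ∑ i, r i • β i with hm₁
      have hm₁N : m₁ ∈ N := by
        rw [hN, ← quo_eq_zero_iff, hm₁, map_sub, map_sum, hcsum, sub_eq_zero]
        refine Finset.sum_congr rfl fun i _ => ?_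
        rw [map_smulₛₗ, hrres, hβquo]
      have hm₁fix : T m₁ = m₁ := by
        rw [hm₁, map_sub, map_sum, hm]
        congr 1
        refine Finset.sum_congr rfl fun i _ => ?_
        rw [map_smulₛₗ, hrfix, hβfix]
      have h1 : (⟨m₁, hm₁N⟩ : N) ∈ span (RingHom.eqLocus σ (RingHom.id R)) (sN : Set N) :=
        hsN_span ⟨m₁, hm₁N⟩ (Subtype.ext hm₁fix)
      have h2' : ∀ x : N, x ∈ span (RingHom.eqLocus σ (RingHom.id R)) (sN : Set N) →
          (x : M) ∈ span (RingHom.eqLocus σ (RingHom.id R))
            ((sN.image Subtype.val ∪ Finset.univ.image β : Finset M) : Set M) := by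
        intro x hx
        induction hx using span_induction with
        | mem x hx =>
          refine subset_span ?_
          rw [Finset.mem_coe, Finset.mem_union, Finset.mem_image]
          exact Or.inl ⟨x, hx, rfl⟩
        | zero => exact zero_mem _
        | add x y _ _ hx hy => exact add_mem hx hy
        | smul a x _ hx => exact smul_mem _ a hx
      have h3' : ∑ i, r i • β i ∈ span (RingHom.eqLocus σ (RingHom.id R))
            ((sN.image Subtype.val ∪ Finset.univ.image β : Finset M) : Set M) := by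
        refine sum_mem fun i _ => ?_
        have hri : r i ∈ RingHom.eqLocus σ (RingHom.id R) := hrfix i
        have : r i • β i = (⟨r i, hri⟩ : RingHom.eqLocus σ (RingHom.id R)) • β i := rfl
        rw [this]
        refine smul_mem _ _ (subset_span ?_)
        rw [Finset.mem_coe, Finset.mem_union, Finset.mem_image, Finset.mem_image]
        exact Or.inr ⟨i, Finset.mem_univ _, rfl⟩
      have : m = m₁ + ∑ i, r i • β i := by rw [hm₁]; abel
      rw [this]
      exact add_mem (h2' _ h1) h3'

include hσbar in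
theorem fixedPoints_finite_over_fixed_subring (p : ℕ)
    (hmax : maximalIdeal R = Ideal.span {(p : R)}) (n : ℕ)
    (hn : (p : R) ^ n = 0) (hsurj : Function.Surjective σbar) (h2 : Solvable₂ σbar)
    (h3 : Solvable₃ σbar)
    (hlift : ∀ x : ResidueField R, σbar x = x → ∃ r : R, σ r = r ∧ residue R r = x)
    {M : Type v} [AddCommGroup M] [Module R M] [Module.Finite R M] (T : M →ₛₗ[σ] M) :
    ∃ s : Finset M, (∀ m ∈ s, T m = m) ∧
      ∀ m : M, T m = m → ∃ c : M → R, (∀ x ∈ s, σ (c x) = c x) ∧ m = ∑ x ∈ s, c x • x := by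
  obtain ⟨s, hs, hspan⟩ := exists_finset_fixed_span σbar hσbar p hmax n hn hsurj h2 h3 hlift n M T
    (fun m => by rw [hn, zero_smul])
  refine ⟨s, hs, fun m hm => ?_⟩
  obtain ⟨f, -, hf⟩ := Submodule.mem_span_finset.mp (hspan m hm)
  refine ⟨fun x => (f x : R), fun x _ => (f x).2, ?_⟩
  rw [← hf]
  rfl

end LocalFixed

end Groth.Agent.Lib.SigmaLin
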