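import Mathlib.Algebra.Homology.SingleHomology
import Mathlib.Algebra.Homology.ShortComplex.PreservesHomology
import Mathlib.Algebra.Homology.HomologicalComplex
import Mathlib.Algebra.Homology.ShortComplex.HomologicalComplex

/-!
# Maps out of a complex concentrated in one degree, and exact functors on cycles

* `homologyMap_mkHomFromSingle`: the map induced on homology by `mkHomFromSingle s`.
* `mapCyclesIso_hom_map_homologyπ`: compatibility of `homologyπ` with the comparison
  isomorphisms of a homology-preserving functor.
-/

set_option autoImplicit false
universe v u

open CategoryTheory CategoryTheory.Limits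

namespace Groth.Agent.Lib.SingleLift

section Single

variable {C : Type u} [Category.{v} C] [Abelian C] {ι : Type*} [DecidableEq ι]
  {c : ComplexShape ι}

/-- The homology map induced by a map out of a single-degree complex. -/
theorem homologyMap_mkHomFromSingle (F : HomologicalComplex C c) (j : ι) {A : C}
    (s : A ⟶ F.X j) (hs : ∀ k : ι, c.Rel j k → s ≫ F.d j k = 0) :
    HomologicalComplex.homologyMap (HomologicalComplex.mkHomFromSingle s hs) j =
      (HomologicalComplex.singleObjHomologySelfIso c j A).hom ≫
        F.liftCycles s (c.next j) rfl (by
          by_cases h : c.Rel j (c.next j)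
          · exact hs _ h
          · rw [F.shape _ _ h, comp_zero]) ≫ F.homologyπ j := by
  have key : HomologicalComplex.cyclesMap (HomologicalComplex.mkHomFromSingle s hs) j =
      (HomologicalComplex.singleObjCyclesSelfIso c j A).hom ≫
        F.liftCycles s (c.next j) rfl (by
          by_cases h : c.Rel j (c.next j)
          · exact hs _ h
          · rw [F.shape _ _ h, comp_zero]) := by
    rw [← cancel_mono (F.iCycles j), HomologicalComplex.cyclesMap_i, Category.assoc,
      HomologicalComplex.liftCycles_i, HomologicalComplex.mkHomFromSingle_f,
      HomologicalComplex.singleObjCyclesSelfIso_hom, Category.assoc]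
  rw [← cancel_epi (((HomologicalComplex.single C c j).obj A).homologyπ j),
    HomologicalComplex.homologyπ_naturality,
    HomologicalComplex.homologyπ_singleObjHomologySelfIso_hom_assoc, key, Category.assoc]

end Single

section Preserves

variable {C D : Type*} [Category C] [Category D] [Abelian C] [Abelian D]
  (G : C ⥤ D) [G.Additive] [PreservesFiniteLimits G] [PreservesFiniteColimits G]

/-- `homologyπ` is compatible with the comparison isomorphisms of an exact functor. -/
theorem mapCyclesIso_hom_map_homologyπ (S : ShortComplex C) :
    (S.map G).homologyπ ≫ (S.mapHomologyIso G).hom =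
      (S.mapCyclesIso G).hom ≫ G.map S.homologyπ := by
  have hl := S.leftHomologyData
  rw [hl.mapHomologyIso_eq G, hl.mapCyclesIso_eq G]
  dsimp only [Iso.trans_hom, Functor.mapIso_hom, Iso.symm_hom]
  rw [ShortComplex.LeftHomologyData.homologyπ_comp_homologyIso_hom_assoc, Category.assoc]
  congr 1
  have h := congrArg G.map hl.π_comp_homologyIso_inv
  rw [G.map_comp, G.map_comp] at h
  exact h

end Preserves

end Groth.Agent.Lib.SingleLift
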