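import Groth.Agent.Lib.OverMapShriek65
import Groth.Agent.Lib.CohPre5
import Groth.Agent.Lib.DerivedCompExact
import Groth.Agent.Lib.RightDerivedPostComp
import Groth.Agent.Lib.RightDerivedExact
import Mathlib.CategoryTheory.Sites.LocallyInjective

/-!
# Local vanishing of cohomology classes and higher direct images along relocalisation (helper65)
-/

set_option autoImplicit false
open CategoryTheory CategoryTheory.Limits Opposite
universe u

namespace Groth.Agent.Lib.SiteCmpA65

section LocallyZero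

variable {C : Type u} [SmallCategory C] (J : GrothendieckTopology C)

/-- a section of a presheaf of abelian groups which dies in the sheafification is locally zero. -/
theorem exists_sieve_of_toSheafify_eq_zero (Q : Cᵒᵖ ⥤ AddCommGrpCat.{u}) {U : C}
    (x : Q.obj (op U)) (h : ((toSheafify J Q).app (op U)).hom x = 0) :
    ∃ S ∈ J U, ∀ ⦃V : C⦄ (g : V ⟶ U), S g → (Q.map g.op).hom x = 0 := by
  have h' : ((toSheafify J Q).app (op U)) x = ((toSheafify J Q).app (op U)) 0 := by
    have h0 : ((toSheafify J Q).app (op U)).hom 0 = 0 := map_zero _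
    exact h.trans h0.symm
  refine ⟨_, Presheaf.equalizerSieve_mem J (toSheafify J Q) (X := op U) x 0 h', ?_⟩
  intro V g hg
  have : (Q.map g.op) x = (Q.map g.op) 0 := hg
  exact this.trans (map_zero (Q.map g.op).hom)

/-- if the sheafification of a presheaf of abelian groups vanishes, every section is locally
zero. -/
theorem exists_sieve_of_isZero_sheafify (Q : Cᵒᵖ ⥤ AddCommGrpCat.{u})
    (hQ : IsZero ((presheafToSheaf J AddCommGrpCat.{u}).obj Q)) {U : C} (x : Q.obj (op U)) :
    ∃ S ∈ J U, ∀ ⦃V : C⦄ (g : V ⟶ U), S g → (Q.map g.op).hom x = 0 := by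
  apply exists_sieve_of_toSheafify_eq_zero
  have hz : IsZero (((presheafToSheaf J AddCommGrpCat.{u}).obj Q).obj.obj (op U)) :=
    ((sheafToPresheaf J AddCommGrpCat.{u} ⋙ (evaluation _ _).obj (op U)).map_isZero hQ)
  exact (AddCommGrpCat.subsingleton_of_isZero hz).elim _ _

end LocallyZero

section LocalVanishing

variable {C : Type u} [SmallCategory C] (J : GrothendieckTopology C)

instance : PreservesFiniteLimits (CohSite.push J J (𝟭 C)) :=
  preservesFiniteLimits_of_natIso (Functor.sheafPushforwardContinuousId AddCommGrpCat.{u} J).symm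

instance : PreservesFiniteColimits (CohSite.push J J (𝟭 C)) :=
  preservesFiniteColimits_of_natIso (Functor.sheafPushforwardContinuousId AddCommGrpCat.{u} J).symm

/-- the sheafification of the cohomology presheaf in positive degree vanishes. -/
theorem isZero_sheafify_cohomologyPresheaf (F : Sheaf J AddCommGrpCat.{u}) (n : ℕ) :
    IsZero ((presheafToSheaf J AddCommGrpCat.{u}).obj
      ((𝟭 C).op ⋙ Sheaf.cohomologyPresheaf.{u} F (n + 1))) := by
  obtain ⟨e⟩ := Groth.Agent.Lib.CohPresheafDerived.nonempty_Rpush_natIso J J (𝟭 C) (n + 1)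
  exact (Groth.Agent.Lib.RightDerivedExact.isZero_rightDerived_succ
    (CohSite.push J J (𝟭 C)) n F).of_iso (e.app F).symm

/-- **Cohomology classes of positive degree vanish locally.** -/
theorem exists_sieve_res_eq_zero (F : Sheaf J AddCommGrpCat.{u}) (n : ℕ) {U : C}
    (θ : CohSite.HU F (n + 1) U) :
    ∃ S ∈ J U, ∀ ⦃V : C⦄ (g : V ⟶ U), S g → CohSite.res F (n + 1) g θ = 0 :=
  exists_sieve_of_isZero_sheafify J ((𝟭 C).op ⋙ Sheaf.cohomologyPresheaf.{u} F (n + 1))
    (isZero_sheafify_cohomologyPresheaf J F n) θ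

end LocalVanishing

section Reloc

open Groth.Agent.Lib.OverMapShriek65

variable {C : Type u} [SmallCategory C] (J : GrothendieckTopology C) {X Y : C} (f : X ⟶ Y)
  [HasPullbacksAlong f]

instance isContinuous_pullback : (Over.pullback f).IsContinuous (J.over Y) (J.over X) :=
  (Over.mapPullbackAdj f).isContinuous_of_isCocontinuous _ _

/-- `U ↦ (U ×_Y X ⟶ Y)` on `C/Y`. -/
noncomputable abbrev v : Over Y ⥤ Over Y := Over.pullback f ⋙ Over.map f

instance isContinuous_v : (v f).IsContinuous (J.over Y) (J.over Y) :=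
  Functor.isContinuous_comp _ _ _ (J.over X) _

/-- the relocalisation push-forward `f_* : Sh(C/X) ⥤ Sh(C/Y)` (right adjoint of restriction). -/
noncomputable abbrev fstar :
    Sheaf (J.over X) AddCommGrpCat.{u} ⥤ Sheaf (J.over Y) AddCommGrpCat.{u} :=
  (Over.map f).sheafPushforwardCocontinuous AddCommGrpCat.{u} (J.over X) (J.over Y)

instance additive_fstar : (fstar J f).Additive :=
  ((Over.map f).sheafAdjunctionCocontinuous AddCommGrpCat.{u} (J.over X)
    (J.over Y)).right_adjoint_additive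

/-- the relocalisation push-forward is precomposition with the base change functor. -/
noncomputable def fstarIso :
    fstar J f ≅ CohSite.push (J.over X) (J.over Y) (Over.pullback f) :=
  Adjunction.rightAdjointUniq
    ((Over.map f).sheafAdjunctionCocontinuous AddCommGrpCat.{u} (J.over X) (J.over Y))
    ((Over.mapPullbackAdj f).sheafPushforwardContinuous (J.over X) (J.over Y))

/-- **`R^p f_*(F'|_X)` is the sheafification of `U ↦ H^p(U ×_Y X, F')`.** -/
theorem nonempty_rightDerived_fstar_res_iso (F' : Sheaf (J.over Y) AddCommGrpCat.{u}) (p : ℕ) :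
    Nonempty (((fstar J f).rightDerived p).obj ((res J f).obj F') ≅
      (presheafToSheaf (J.over Y) AddCommGrpCat.{u}).obj
        ((v f).op ⋙ Sheaf.cohomologyPresheaf.{u} F' p)) := by
  let e1 := Groth.Agent.Lib.RightDerivedPostComp.rightDerivedIsoOfIso (fstarIso J f) p
  let e2 := Groth.Agent.Lib.DerivedCompExact.rightDerivedCompIso (res J f)
    (CohSite.push (J.over X) (J.over Y) (Over.pullback f)) (shriekMapAdj J f) p
  obtain ⟨e4⟩ := Groth.Agent.Lib.CohPresheafDerived.nonempty_Rpush_natIso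
    (J.over Y) (J.over Y) (v f) p
  exact ⟨e1.app _ ≪≫ (e2.app F').symm ≪≫ e4.app F'⟩

end Reloc

section LemmaA

variable {C : Type u} [SmallCategory C]

theorem res_comp {J : GrothendieckTopology C} (F : Sheaf J AddCommGrpCat.{u}) (n : ℕ) {U V W : C}
    (g : W ⟶ V) (h : V ⟶ U) (θ : CohSite.HU F n U) :
    CohSite.res F n (g ≫ h) θ = CohSite.res F n g (CohSite.res F n h θ) := by
  change ((Sheaf.cohomologyPresheaf.{u} F n).map (g ≫ h).op).hom θ = _
  rw [op_comp, Functor.map_comp]
  rfl

theorem res_zero {J : GrothendieckTopology C} (F : Sheaf J AddCommGrpCat.{u}) (n : ℕ) {U V : C}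
    (g : V ⟶ U) : CohSite.res F n g 0 = 0 := map_zero _

/-- the map from `X ⟶ Y` to the final object of `C/Y`. -/
def toTerm {X Y : C} (f : X ⟶ Y) : Over.mk f ⟶ Over.mk (𝟙 Y) :=
  Over.homMk (U := Over.mk f) (V := Over.mk (𝟙 Y)) f (by simp)

@[simp] theorem toTerm_left {X Y : C} (f : X ⟶ Y) : (toTerm f).left = f := rfl

/-- a presheaf on `C/Y` which is separated for a topology in which `{f : X ⟶ Y}` is a covering:
a section over the final object is zero as soon as its restriction to `X` is. -/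
theorem eq_zero_of_map_homMk_eq_zero (K : GrothendieckTopology C) {X Y : C} (f : X ⟶ Y)
    (hcov : Sieve.ofArrows (fun _ : PUnit.{u + 1} => X) (fun _ => f) ∈ K Y)
    (Q : (Over Y)ᵒᵖ ⥤ AddCommGrpCat.{u}) (hQ : Presheaf.IsSeparated (K.over Y) Q)
    (s : Q.obj (op (Over.mk (𝟙 Y))))
    (hs : (Q.map (toTerm f).op).hom s = 0) : s = 0 := by
  refine hQ (Over.mk (𝟙 Y)) ((Sieve.overEquiv (Over.mk (𝟙 Y))).symm
    (Sieve.ofArrows (fun _ : PUnit.{u + 1} => X) (fun _ => f)))
    (GrothendieckTopology.overEquiv_symm_mem_over K _ _ hcov) s 0 ?_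
  intro Z g hg
  rw [Sieve.overEquiv_symm_iff] at hg
  obtain ⟨W, k, _, ⟨⟨⟩⟩, hk⟩ := hg
  dsimp at k hk
  have hk' : k ≫ f = g.left := hk
  let k' : Z ⟶ Over.mk f := Over.homMk k (by
    have := Over.w g
    dsimp at this ⊢
    rw [hk', ← this]; simp)
  have hfac : g = k' ≫ (toTerm f) := by
    apply Over.OverMorphism.ext
    simp [k', hk']
  have h1 : (Q.map g.op) s = (Q.map k'.op) ((Q.map (toTerm f).op) s) := by
    rw [hfac, op_comp, Functor.map_comp]; rfl
  rw [h1]
  have h2 : (Q.map (toTerm f).op) s = 0 := hs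
  rw [h2]
  exact (map_zero (Q.map k'.op).hom).trans (map_zero (Q.map g.op).hom).symm

theorem res_congr {J : GrothendieckTopology C} (F : Sheaf J AddCommGrpCat.{u}) (n : ℕ) {U V : C}
    {g g' : V ⟶ U} (h : g = g') (θ : CohSite.HU F n U) :
    CohSite.res F n g θ = CohSite.res F n g' θ := by rw [h]

variable (J : GrothendieckTopology C) {X Y : C} (f : X ⟶ Y) [HasPullbacksAlong f]
  (F' : Sheaf (J.over Y) AddCommGrpCat.{u}) (n : ℕ)

/-- the presheaf `U ↦ H^{n+1}(U ×_Y X, F')` on `C/Y`. -/
noncomputable abbrev PP : (Over Y)ᵒᵖ ⥤ AddCommGrpCat.{u} :=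
  (v f).op ⋙ Sheaf.cohomologyPresheaf.{u} F' (n + 1)

/-- the associated sheaf, isomorphic to `R^{n+1} f_* (F'|_X)`. -/
noncomputable abbrev SS : Sheaf (J.over Y) AddCommGrpCat.{u} :=
  (presheafToSheaf (J.over Y) AddCommGrpCat.{u}).obj (PP J f F' n)

theorem toSheafify_naturality_apply {D : Type u} [SmallCategory D] (K : GrothendieckTopology D)
    (Q : Dᵒᵖ ⥤ AddCommGrpCat.{u}) {U V : D} (g : V ⟶ U) (x : Q.obj (op U)) :
    (((presheafToSheaf K AddCommGrpCat.{u}).obj Q).obj.map g.op).hom
        (((toSheafify K Q).app (op U)).hom x) =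
      ((toSheafify K Q).app (op V)).hom ((Q.map g.op).hom x) := by
  have h := (toSheafify K Q).naturality g.op
  exact (ConcreteCategory.congr_hom h x).symm

/-- the counit `U ×_Y X ⟶ U` as a map of `C/Y`. -/
noncomputable def vCounit (Z : Over Y) : (v f).obj Z ⟶ Z :=
  (Over.mapPullbackAdj f).counit.app Z

@[simp] theorem vCounit_left (Z : Over Y) : (vCounit f Z).left = pullback.fst Z.hom f := by
  simp [vCounit]

/-- the second projection `Y ×_Y X ⟶ X` as a map of `C/Y`. -/
noncomputable def vTermTo : (v f).obj (Over.mk (𝟙 Y)) ⟶ Over.mk f :=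
  Over.homMk (U := (v f).obj (Over.mk (𝟙 Y))) (V := Over.mk f) (pullback.snd (𝟙 Y) f) rfl

@[simp] theorem vTermTo_left : (vTermTo f).left = pullback.snd (𝟙 Y) f := rfl

theorem v_map_left {Z Z' : Over Y} (g : Z ⟶ Z') :
    ((v f).map g).left = pullback.lift (pullback.fst Z.hom f ≫ g.left) (pullback.snd Z.hom f)
      (by simp [pullback.condition]) := by
  simp [v, Over.pullback]

/-- **Stacks 0EWP (core).** An equalised class of positive degree on `X` dies locally on `Y`,
provided the sheaf `R^{n+1} f_*(F'|_X)` detects vanishing on `X ⟶ Y`. -/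
theorem lemmaA
    (hsep : ∀ s : (SS J f F' n).obj.obj (op (Over.mk (𝟙 Y))),
      ((SS J f F' n).obj.map (toTerm f).op).hom s = 0 → s = 0)
    (θ : CohSite.HU F' (n + 1) (Over.mk f))
    (hθ : ∀ (W : C) (p q : W ⟶ X) (hW : IsPullback p q f f),
      CohSite.res F' (n + 1) (Over.homMk p rfl : Over.mk (p ≫ f) ⟶ Over.mk f) θ =
        CohSite.res F' (n + 1) (Over.homMk q hW.w.symm : Over.mk (p ≫ f) ⟶ Over.mk f) θ) :
    ∃ (ι : Type u) (Z : ι → C) (g : ∀ i, Z i ⟶ Y), Sieve.ofArrows Z g ∈ J Y ∧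
      ∀ (i : ι) (W : C) (p : W ⟶ Z i) (q : W ⟶ X), IsPullback p q (g i) f →
        CohSite.res F' (n + 1) (Over.homMk q rfl : Over.mk (q ≫ f) ⟶ Over.mk f) θ = 0 := by
  let t : Over Y := Over.mk (𝟙 Y)
  let θ₁ : (PP J f F' n).obj (op t) := CohSite.res F' (n + 1) (vTermTo f) θ
  have key : ∀ (Z : Over Y) (g : Z ⟶ t), ((PP J f F' n).map g.op).hom θ₁ =
      CohSite.res F' (n + 1) ((v f).map g ≫ vTermTo f) θ :=
    fun Z g => (res_comp F' (n + 1) ((v f).map g) (vTermTo f) θ).symm
  -- the two projections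
  have hpq := hθ (pullback f f) (pullback.fst f f) (pullback.snd f f) (IsPullback.of_hasPullback f f)
  let i₁ : (v f).obj (Over.mk f) ⟶ Over.mk (pullback.fst f f ≫ f) :=
    Over.homMk (U := (v f).obj (Over.mk f)) (V := Over.mk (pullback.fst f f ≫ f)) (𝟙 _)
      (by simp [pullback.condition])
  have hq : (v f).map (toTerm f) ≫ vTermTo f =
      i₁ ≫ (Over.homMk (pullback.snd f f) (IsPullback.of_hasPullback f f).w.symm :
        Over.mk (pullback.fst f f ≫ f) ⟶ Over.mk f) := by
    apply Over.OverMorphism.ext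
    simp [i₁, v_map_left]
    exact pullback.lift_snd _ _ _
  -- the section `c θ₁` vanishes
  have hs : ((toSheafify (J.over Y) (PP J f F' n)).app (op t)).hom θ₁ = 0 := by
    apply hsep
    rw [toSheafify_naturality_apply, key, hq, res_comp, ← hpq, ← res_comp]
    obtain ⟨S, hS, hS0⟩ := exists_sieve_res_eq_zero (J.over Y) F' n θ
    refine (Sheaf.isSeparated (SS J f F' n)) (Over.mk f) S hS _ 0 ?_
    intro Z g hg
    have h1 := toSheafify_naturality_apply (J.over Y) (PP J f F' n) g
      (CohSite.res F' (n + 1) (i₁ ≫ (Over.homMk (pullback.fst f f) rfl :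
        Over.mk (pullback.fst f f ≫ f) ⟶ Over.mk f)) θ)
    refine h1.trans ?_
    have h2 : ((PP J f F' n).map g.op).hom (CohSite.res F' (n + 1) (i₁ ≫
        (Over.homMk (pullback.fst f f) rfl : Over.mk (pullback.fst f f ≫ f) ⟶ Over.mk f)) θ) = 0 := by
      have e1 : ((PP J f F' n).map g.op).hom (CohSite.res F' (n + 1) (i₁ ≫
          (Over.homMk (pullback.fst f f) rfl : Over.mk (pullback.fst f f ≫ f) ⟶ Over.mk f)) θ) =
          CohSite.res F' (n + 1) ((v f).map g ≫ i₁ ≫
            (Over.homMk (pullback.fst f f) rfl : Over.mk (pullback.fst f f ≫ f) ⟶ Over.mk f)) θ :=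
        (res_comp F' (n + 1) ((v f).map g) _ θ).symm
      rw [e1]
      have e2 : (v f).map g ≫ i₁ ≫
          (Over.homMk (pullback.fst f f) rfl : Over.mk (pullback.fst f f ≫ f) ⟶ Over.mk f) =
          vCounit f Z ≫ g := by
        apply Over.OverMorphism.ext
        simp [i₁, v_map_left]
        exact pullback.lift_fst _ _ _
      rw [e2, res_comp, hS0 g hg]
      exact res_zero F' (n + 1) _
    rw [h2]
    exact (map_zero _).trans (map_zero (((SS J f F' n).obj.map g.op).hom)).symm
  obtain ⟨S₁, hS₁, h0⟩ := exists_sieve_of_toSheafify_eq_zero (J.over Y) (PP J f F' n) θ₁ hs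
  refine ⟨Σ Z : Over Y, {g : Z ⟶ t // S₁ g}, fun i => i.1.left, fun i => i.1.hom, ?_, ?_⟩
  · have hmem : Sieve.overEquiv t S₁ ∈ J Y := (GrothendieckTopology.mem_over_iff (J := J) S₁).1 hS₁
    refine J.superset_covering ?_ hmem
    intro V k hk
    rw [Sieve.overEquiv_iff] at hk
    refine ⟨V, 𝟙 V, k ≫ 𝟙 Y, ?_, by simp⟩
    exact Presieve.ofArrows.mk (ι := Σ Z : Over Y, {g : Z ⟶ t // S₁ g})
      (Y := fun i => i.1.left) (f := fun i => i.1.hom) ⟨Over.mk (k ≫ 𝟙 Y), ⟨_, hk⟩⟩
  · rintro ⟨Zi, g, hg⟩ W p q hpb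
    have hz := h0 g hg
    rw [key] at hz
    let m : Over.mk (q ≫ f) ⟶ (v f).obj Zi :=
      Over.homMk (U := Over.mk (q ≫ f)) (V := (v f).obj Zi) hpb.isoPullback.hom (by simp)
    have hm : (Over.homMk q rfl : Over.mk (q ≫ f) ⟶ Over.mk f) = m ≫ (v f).map g ≫ vTermTo f := by
      apply Over.OverMorphism.ext
      simp [m, v_map_left]
      refine Eq.trans ?_ (congrArg (hpb.isoPullback.hom ≫ ·) (pullback.lift_snd _ _ _).symm)
      exact (IsPullback.isoPullback_hom_snd hpb).symm
    rw [hm, res_comp, hz]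
    exact res_zero F' (n + 1) _

end LemmaA

end Groth.Agent.Lib.SiteCmpA65
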