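import Groth.Agent.Lib.SiteCmpA65
import Groth.Agent.Lib.LowDeg65
import Groth.Agent.Lib.CohPre4
import Groth.Prelude.Def_SiteCmp

/-!
# Comparing two topologies, part B (helper65): `ε_*`, low-degree comparison, Stacks 0EWK–0EWS

`K' ≤ K` two topologies on a small category `D`, `eps hK : Sheaf K Ab ⥤ Sheaf K' Ab`.
-/

set_option autoImplicit false

universe u

open CategoryTheory Limits Opposite

namespace Groth.Agent.Lib.SiteCmpB65

section TwoTop

variable {D : Type u} [SmallCategory D] {K K' : GrothendieckTopology D} (hK : K' ≤ K)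

/-- `ε_*` on abelian sheaves. -/
abbrev eps : Sheaf K AddCommGrpCat.{u} ⥤ Sheaf K' AddCommGrpCat.{u} :=
  SiteCmp.epsSh hK AddCommGrpCat.{u}

instance additive_eps : (eps hK).Additive := by
  have := SiteCmp.idContinuous hK
  exact inferInstanceAs (CohSite.push K K' (𝟭 D)).Additive

instance preservesFiniteLimits_eps : PreservesFiniteLimits (eps hK) := by
  have := SiteCmp.idContinuous hK
  exact inferInstanceAs (PreservesFiniteLimits (CohSite.push K K' (𝟭 D)))

instance preservesInjectiveObjects_eps : (eps hK).PreservesInjectiveObjects := by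
  have := SiteCmp.idContinuous hK
  have : ReflectsLimits (forget AddCommGrpCat.{u}) := reflectsLimits_of_reflectsIsomorphisms
  have hlan : PreservesFiniteLimits ((𝟭 D).op.lan :
      (Dᵒᵖ ⥤ AddCommGrpCat.{u}) ⥤ (Dᵒᵖ ⥤ AddCommGrpCat.{u})) :=
    lan_preservesFiniteLimits_of_flat (E := AddCommGrpCat.{u}) (𝟭 D)
  have h1 : PreservesFiniteLimits ((𝟭 D).sheafPullback AddCommGrpCat.{u} K' K) :=
    Functor.sheafPullbackConstruction.preservesFiniteLimits _ AddCommGrpCat.{u} _ _
  have h2 : ((𝟭 D).sheafPullback AddCommGrpCat.{u} K' K).PreservesMonomorphisms :=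
    preservesMonomorphisms_of_preservesLimitsOfShape _
  exact Functor.preservesInjectiveObjects_of_adjunction_of_preservesMonomorphisms
    ((𝟭 D).sheafAdjunctionContinuous AddCommGrpCat.{u} K' K)

/-- `ε_*` does not change the underlying presheaf. -/
def epsForgetIso : eps hK ⋙ sheafToPresheaf K' AddCommGrpCat.{u} ≅
    sheafToPresheaf K AddCommGrpCat.{u} :=
  NatIso.ofComponents (fun F => NatIso.ofComponents (fun U => Iso.refl _))

/-- **Low degree comparison** (Leray for `ε`, degenerate range): if `Rʲε_*F = 0` for `1 ≤ j ≤ n`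
then the cohomology presheaves of `ε_*F` and `F` agree in degrees `≤ n`. -/
theorem nonempty_cohomologyPresheaf_iso (F : Sheaf K AddCommGrpCat.{u}) (n : ℕ)
    (hF : ∀ j, 1 ≤ j → j ≤ n → IsZero (((eps hK).rightDerived j).obj F)) (m : ℕ) (hm : m ≤ n) :
    Nonempty (Sheaf.cohomologyPresheaf.{u} ((eps hK).obj F) m ≅ Sheaf.cohomologyPresheaf.{u} F m) := by
  obtain ⟨e1⟩ := Groth.Agent.Lib.LowDeg65.D_iso (eps hK) (sheafToPresheaf K' AddCommGrpCat.{u})
    n F hF m hm
  obtain ⟨e2⟩ := Groth.Agent.Lib.CohPresheafDerived.nonempty_rightDerived_sheafToPresheaf_iso K'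
    ((eps hK).obj F) m
  obtain ⟨e3⟩ := Groth.Agent.Lib.CohPresheafDerived.nonempty_rightDerived_sheafToPresheaf_iso K F m
  exact ⟨e2.symm ≪≫ e1 ≪≫
    (Groth.Agent.Lib.RightDerivedPostComp.rightDerivedIsoOfIso (epsForgetIso hK) m).app F ≪≫ e3⟩

/-- If the `K'`-sheafification of a presheaf happens to be a `K`-sheaf, it is the
`K`-sheafification. -/
theorem nonempty_sheafify_iso (P : Dᵒᵖ ⥤ AddCommGrpCat.{u})
    (hs : Presheaf.IsSheaf K ((presheafToSheaf K' AddCommGrpCat.{u}).obj P).obj) :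
    Nonempty ((presheafToSheaf K' AddCommGrpCat.{u}).obj P ≅
      (eps hK).obj ((presheafToSheaf K AddCommGrpCat.{u}).obj P)) := by
  let S' := (presheafToSheaf K' AddCommGrpCat.{u}).obj P
  let S := (presheafToSheaf K AddCommGrpCat.{u}).obj P
  have hS' : Presheaf.IsSheaf K' S.obj := ((eps hK).obj S).property
  let φ : S.obj ⟶ S'.obj := sheafifyLift K (toSheafify K' P) hs
  let ψ : S'.obj ⟶ S.obj := sheafifyLift K' (toSheafify K P) hS'
  have h1 : φ ≫ ψ = 𝟙 _ := by
    apply sheafify_hom_ext K _ _ S.property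
    rw [← Category.assoc, toSheafify_sheafifyLift, toSheafify_sheafifyLift, Category.comp_id]
  have h2 : ψ ≫ φ = 𝟙 _ := by
    apply sheafify_hom_ext K' _ _ S'.property
    rw [← Category.assoc, toSheafify_sheafifyLift, toSheafify_sheafifyLift, Category.comp_id]
  let e : S'.obj ≅ ((eps hK).obj S).obj := ⟨ψ, φ, h2, h1⟩
  exact ⟨(fullyFaithfulSheafToPresheaf K' AddCommGrpCat.{u}).preimageIso e⟩

end TwoTop

section Reloc

open Groth.Agent.Lib.SiteCmpA65

variable {C : Type u} [SmallCategory C] (J : GrothendieckTopology C) {X Y : C} (f : X ⟶ Y)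
  [HasPullbacksAlong f]

/-- **`R^p f_* G` is the sheafification of `U ↦ H^p(U ×_Y X, G)`** (any abelian sheaf `G` on
`C/X`). -/
theorem nonempty_rightDerived_fstar_iso (G : Sheaf (J.over X) AddCommGrpCat.{u}) (p : ℕ) :
    Nonempty (((fstar J f).rightDerived p).obj G ≅
      (presheafToSheaf (J.over Y) AddCommGrpCat.{u}).obj
        ((Over.pullback f).op ⋙ Sheaf.cohomologyPresheaf.{u} G p)) := by
  let e1 := Groth.Agent.Lib.RightDerivedPostComp.rightDerivedIsoOfIso (fstarIso J f) p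
  obtain ⟨e4⟩ := Groth.Agent.Lib.CohPresheafDerived.nonempty_Rpush_natIso
    (J.over X) (J.over Y) (Over.pullback f) p
  exact ⟨e1.app G ≪≫ e4.app G⟩

end Reloc

section Compare

open Groth.Agent.Lib.SiteCmpA65

variable {C : Type u} [SmallCategory C] {J J' : GrothendieckTopology C} (h : J' ≤ J)
  {X Y : C} (f : X ⟶ Y) [HasPullbacksAlong f]

/-- **Stacks 0EWQ-type comparison (core of S9079).** If `Rʲε_{X,*}F = 0` for `1 ≤ j ≤ n` and, for
`i ≤ n`, the `τ'`-sheaf `Rⁱf_{τ',*}(ε_*F)` is a `τ`-sheaf, then it is `ε_*(Rⁱf_{τ,*}F)`. -/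
theorem nonempty_rightDerived_fstar_eps_iso (F : Sheaf (J.over X) AddCommGrpCat.{u}) (n : ℕ)
    (hF : ∀ j, 1 ≤ j → j ≤ n →
      IsZero (((eps (SiteCmp.over_le h X)).rightDerived j).obj F)) (i : ℕ) (hi : i ≤ n)
    (hs : Presheaf.IsSheaf (J.over Y)
      (((fstar J' f).rightDerived i).obj ((eps (SiteCmp.over_le h X)).obj F)).obj) :
    Nonempty (((fstar J' f).rightDerived i).obj ((eps (SiteCmp.over_le h X)).obj F) ≅
      (eps (SiteCmp.over_le h Y)).obj (((fstar J f).rightDerived i).obj F)) := by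
  obtain ⟨a1⟩ := nonempty_rightDerived_fstar_iso J' f ((eps (SiteCmp.over_le h X)).obj F) i
  obtain ⟨a2⟩ := nonempty_cohomologyPresheaf_iso (SiteCmp.over_le h X) F n hF i hi
  obtain ⟨a4⟩ := nonempty_rightDerived_fstar_iso J f F i
  let P := (Over.pullback f).op ⋙ Sheaf.cohomologyPresheaf.{u} F i
  let b : ((fstar J' f).rightDerived i).obj ((eps (SiteCmp.over_le h X)).obj F) ≅
      (presheafToSheaf (J'.over Y) AddCommGrpCat.{u}).obj P :=
    a1 ≪≫ (presheafToSheaf (J'.over Y) AddCommGrpCat.{u}).mapIso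
      (Functor.isoWhiskerLeft (Over.pullback f).op a2)
  have hs' : Presheaf.IsSheaf (J.over Y)
      ((presheafToSheaf (J'.over Y) AddCommGrpCat.{u}).obj P).obj :=
    Presheaf.isSheaf_of_iso_iff ((sheafToPresheaf _ _).mapIso b) |>.1 hs
  obtain ⟨a3⟩ := nonempty_sheafify_iso (SiteCmp.over_le h Y) P hs'
  exact ⟨b ≪≫ a3 ≪≫ (eps (SiteCmp.over_le h Y)).mapIso a4.symm⟩

end Compare

end Groth.Agent.Lib.SiteCmpB65
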