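import Groth.Agent.Lib.SiteCmpB65
import Mathlib.CategoryTheory.Sites.LocallyBijective
import Groth.Prelude.Def_WeakSerre

/-!
# Comparing two topologies, part C (helper65): the class `𝒵` of `τ'`-sheaves all of whose sections
die `τ`-locally, and the cokernel principle.
-/

set_option autoImplicit false

universe u

open CategoryTheory Limits Opposite

namespace Groth.Agent.Lib.SiteCmpC65

open Groth.Agent.Lib.SiteCmpB65 Groth.Agent.Lib.SiteCmpA65

section Zprop

variable {D : Type u} [SmallCategory D] {K K' : GrothendieckTopology D} (hK : K' ≤ K)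

/-- every section dies locally for the topology `K`. -/
def Zprop (K : GrothendieckTopology D) (N : Dᵒᵖ ⥤ AddCommGrpCat.{u}) : Prop :=
  ∀ (U : D) (s : N.obj (op U)), ∃ S ∈ K U, ∀ ⦃V : D⦄ (g : V ⟶ U), S g → (N.map g.op).hom s = 0

omit [SmallCategory D] in
lemma zprop_of_iso [SmallCategory D] (K : GrothendieckTopology D) {N N' : Dᵒᵖ ⥤ AddCommGrpCat.{u}}
    (e : N ≅ N') (h : Zprop K N) : Zprop K N' := by
  intro U s
  obtain ⟨S, hS, hS0⟩ := h U ((e.inv.app (op U)).hom s)
  refine ⟨S, hS, fun V g hg => ?_⟩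
  have h1 := hS0 g hg
  have h2 : (N'.map g.op).hom s =
      (e.hom.app (op V)).hom ((N.map g.op).hom ((e.inv.app (op U)).hom s)) := by
    have := ConcreteCategory.congr_hom (e.inv.naturality g.op) s
    simp only [ConcreteCategory.comp_apply] at this
    have h3 : (e.hom.app (op V)).hom ((e.inv.app (op V)).hom ((N'.map g.op).hom s)) =
        (N'.map g.op).hom s := by
      have := ConcreteCategory.congr_hom (e.inv_hom_id_app (op V)) ((N'.map g.op).hom s)
      simpa using this
    rw [← h3]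
    exact congrArg _ this
  rw [h2, h1]
  exact map_zero _

include hK in
/-- sections of the `K'`-sheafification of a presheaf whose sections die `K`-locally die
`K`-locally. -/
lemma zprop_sheafify (P : Dᵒᵖ ⥤ AddCommGrpCat.{u}) (hP : Zprop K P) :
    Zprop K ((presheafToSheaf K' AddCommGrpCat.{u}).obj P).obj := by
  intro U s
  let S₁ := Presheaf.imageSieve (toSheafify K' P) s
  have hS₁ : S₁ ∈ K U := hK _ (Presheaf.imageSieve_mem K' (toSheafify K' P) (U := op U) s)
  let R : ∀ ⦃V : D⦄ ⦃g : V ⟶ U⦄, S₁ g → Sieve V := fun V g hg => (hP V hg.choose).choose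
  have hR : ∀ ⦃V : D⦄ ⦃g : V ⟶ U⦄ (hg : S₁ g), R hg ∈ K V :=
    fun V g hg => (hP V hg.choose).choose_spec.1
  refine ⟨Sieve.bind S₁ R, K.bind_covering hS₁ hR, ?_⟩
  rintro W _ ⟨V, k, g, hg, hk, rfl⟩
  have h1 : ((toSheafify K' P).app (op V)).hom hg.choose =
      (((presheafToSheaf K' AddCommGrpCat.{u}).obj P).obj.map g.op).hom s := hg.choose_spec
  have h2 : (P.map k.op).hom hg.choose = 0 := (hP V hg.choose).choose_spec.2 k hk
  rw [op_comp, Functor.map_comp]
  change ((((presheafToSheaf K' AddCommGrpCat.{u}).obj P).obj.map k.op).hom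
    ((((presheafToSheaf K' AddCommGrpCat.{u}).obj P).obj.map g.op).hom s)) = 0
  rw [← h1, toSheafify_naturality_apply K' P k, h2]
  exact map_zero _

/-- **Sections of `R^{q+1}ε_* H` die `K`-locally.** -/
theorem zprop_rightDerived_eps (H : Sheaf K AddCommGrpCat.{u}) (q : ℕ) :
    Zprop K (((eps hK).rightDerived (q + 1)).obj H).obj := by
  have := SiteCmp.idContinuous hK
  obtain ⟨e⟩ := Groth.Agent.Lib.CohPresheafDerived.nonempty_Rpush_natIso K K' (𝟭 D) (q + 1)
  refine zprop_of_iso K ((sheafToPresheaf K' AddCommGrpCat.{u}).mapIso (e.app H).symm) ?_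
  apply zprop_sheafify hK
  intro U θ
  exact exists_sieve_res_eq_zero K H q θ

/-- a `K'`-sheaf all of whose sections die `K`-locally, which embeds into a `K`-separated sheaf,
vanishes; more generally for a subsheaf. -/
theorem isZero_of_zprop {M N T : Sheaf K' AddCommGrpCat.{u}} (hN : Zprop K N.obj)
    (hT : Presheaf.IsSeparated K T.obj) (i : M ⟶ N) [Mono i] (φ : M ⟶ T) [Mono φ] : IsZero M := by
  have hi : ∀ U : Dᵒᵖ, Function.Injective (i.hom.app U).hom := by
    intro U
    have h1 : Mono i.hom := (Sheaf.Hom.mono_iff_presheaf_mono K' AddCommGrpCat.{u} i).1 inferInstance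
    have h2 : Mono (i.hom.app U) := (NatTrans.mono_iff_mono_app i.hom).1 h1 U
    exact (AddCommGrpCat.mono_iff_injective _).1 h2
  have hφ : ∀ U : Dᵒᵖ, Function.Injective (φ.hom.app U).hom := by
    intro U
    have h1 : Mono φ.hom := (Sheaf.Hom.mono_iff_presheaf_mono K' AddCommGrpCat.{u} φ).1 inferInstance
    have h2 : Mono (φ.hom.app U) := (NatTrans.mono_iff_mono_app φ.hom).1 h1 U
    exact (AddCommGrpCat.mono_iff_injective _).1 h2
  have key : ∀ (U : D) (s : M.obj.obj (op U)), s = 0 := by
    intro U s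
    obtain ⟨S, hS, hS0⟩ := hN U ((i.hom.app (op U)).hom s)
    apply hφ (op U)
    rw [map_zero]
    refine hT U S hS _ 0 ?_
    intro V g hg
    have h1 : (M.obj.map g.op).hom s = 0 := by
      apply hi (op V)
      rw [map_zero]
      have := ConcreteCategory.congr_hom (i.hom.naturality g.op) s
      simp only [ConcreteCategory.comp_apply] at this
      exact this.trans (hS0 g hg)
    have h2 := ConcreteCategory.congr_hom (φ.hom.naturality g.op) s
    simp only [ConcreteCategory.comp_apply] at h2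
    have h3 : (T.obj.map g.op) ((φ.hom.app (op U)) s) = (φ.hom.app (op V)) ((M.obj.map g.op) s) :=
      h2.symm
    rw [h3]
    have h4 : (φ.hom.app (op V)) ((M.obj.map g.op) s) = 0 := by
      have : (M.obj.map g.op) s = 0 := h1
      rw [this]
      exact map_zero _
    rw [h4]
    exact (map_zero _).symm
  rw [IsZero.iff_id_eq_zero]
  apply Sheaf.hom_ext
  ext U s
  exact key U.unop s

end Zprop

section AbstractMono

variable {A : Type*} [Category A] [Abelian A] [EnoughInjectives A]
  {B : Type*} [Category B] [Abelian B] (F : A ⥤ B) [F.Additive] [PreservesFiniteLimits F]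

open Groth.Agent.Lib.LowDeg65 in
/-- for a short exact sequence `0 ⟶ X₁ ⟶ X₂ ⟶ X₃ ⟶ 0` with `F X₂ ⟶ F X₃` epi and `RʲF X₃ = 0` for
`1 ≤ j ≤ n`, the map `Rⁿ⁺¹F X₁ ⟶ Rⁿ⁺¹F X₂` is a monomorphism. -/
theorem mono_rightDerived_map_of_shortExact {S : ShortComplex A} (hS : S.ShortExact) (n : ℕ)
    (hepi : Epi (F.map S.g))
    (hQ : ∀ j, 1 ≤ j → j ≤ n → IsZero ((F.rightDerived j).obj S.X₃)) :
    Mono ((F.rightDerived (n + 1)).map S.f) := by
  cases n with
  | zero =>
    have h0 : δ' F hS = 0 := by
      rw [← cancel_epi (F.map S.g), map_g_δ', comp_zero]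
    exact (exact_δ'_f F hS).mono_g h0
  | succ n => exact mono_map_f F hS (n + 1) (hQ (n + 1) (by omega) le_rfl)

end AbstractMono

section Cokernel

variable {D : Type u} [SmallCategory D] {K K' : GrothendieckTopology D} (hK : K' ≤ K)

/-- `ε_*` is fully faithful. -/
def epsFullyFaithful : (eps hK).FullyFaithful where
  preimage {F G} φ := ObjectProperty.homMk
    { app := fun U => φ.hom.app U
      naturality := fun U V g => φ.hom.naturality g }
  map_preimage := by intros; rfl
  preimage_map := by intros; rfl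

instance : (eps hK).Full := (epsFullyFaithful hK).full
instance : (eps hK).Faithful := (epsFullyFaithful hK).faithful

/-- a `K'`-sheaf whose underlying presheaf is a `K`-sheaf, regarded as a `K`-sheaf. -/
def liftSheaf (T : Sheaf K' AddCommGrpCat.{u}) (hT : Presheaf.IsSheaf K T.obj) :
    Sheaf K AddCommGrpCat.{u} := ⟨T.obj, hT⟩

/-- `ε_* (liftSheaf T) ≅ T`. -/
def epsLiftIso (T : Sheaf K' AddCommGrpCat.{u}) (hT : Presheaf.IsSheaf K T.obj) :
    (eps hK).obj (liftSheaf T hT) ≅ T :=
  (fullyFaithfulSheafToPresheaf K' AddCommGrpCat.{u}).preimageIso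
    (NatIso.ofComponents (fun U => Iso.refl _))

/-- **Cokernel principle.** For a monomorphism `η : F ⟶ H` of `K`-sheaves with `ε_*F, ε_*H` in a
weak Serre class of `K'`-sheaves all of whose members are `K`-sheaves, there is a short exact
sequence `0 ⟶ F ⟶ H ⟶ Q ⟶ 0` with `ε_*Q` in the class and `ε_*H ⟶ ε_*Q` epi. -/
theorem exists_cokernel_of_mono (A' : ObjectProperty (Sheaf K' AddCommGrpCat.{u}))
    [WSerre.IsWeakSerre A']
    (h3 : ∀ T : Sheaf K' AddCommGrpCat.{u}, A' T → Presheaf.IsSheaf K T.obj)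
    {F H : Sheaf K AddCommGrpCat.{u}} (η : F ⟶ H) [Mono η]
    (hF : A' ((eps hK).obj F)) (hH : A' ((eps hK).obj H)) :
    ∃ (Q : Sheaf K AddCommGrpCat.{u}) (π : H ⟶ Q) (w : η ≫ π = 0),
      (ShortComplex.mk η π w).ShortExact ∧ A' ((eps hK).obj Q) ∧ Epi ((eps hK).map π) := by
  let φ' := (eps hK).map η
  let Q' := cokernel φ'
  have hQ' : A' Q' := A'.prop_cokernel φ' hF hH
  let Q := liftSheaf Q' (h3 Q' hQ')
  let eQ := epsLiftIso hK Q' (h3 Q' hQ')
  let π : H ⟶ Q := (epsFullyFaithful hK).preimage (cokernel.π φ' ≫ eQ.inv)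
  have hπ : (eps hK).map π = cokernel.π φ' ≫ eQ.inv := (epsFullyFaithful hK).map_preimage _
  have w : η ≫ π = 0 := by
    apply (eps hK).map_injective
    rw [Functor.map_comp, hπ, Functor.map_zero, cokernel.condition_assoc, zero_comp]
  have hepi : Epi ((eps hK).map π) := by rw [hπ]; infer_instance
  refine ⟨Q, π, w, ?_, A'.prop_of_iso eQ.symm hQ', hepi⟩
  have w' : φ' ≫ (eps hK).map π = 0 := by
    rw [← Functor.map_comp, w, Functor.map_zero]
  have hcolim : IsColimit (CokernelCofork.ofπ ((eps hK).map π) w') :=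
    IsColimit.ofIsoColimit (cokernelIsCokernel φ')
      (Cofork.ext eQ.symm (by simp [hπ]))
  have hlim : IsLimit (KernelFork.ofι φ' w') :=
    Abelian.monoIsKernelOfCokernel (CokernelCofork.ofπ ((eps hK).map π) w') hcolim
  have hlim' : IsLimit (KernelFork.ofι η w) :=
    isLimitOfReflects (eps hK) ((KernelFork.isLimitMapConeEquiv _ (eps hK)).symm hlim)
  exact
    { exact := ShortComplex.exact_of_f_is_kernel _ hlim'
      mono_f := inferInstance
      epi_g := (eps hK).epi_of_epi_map hepi }

end Cokernel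

end Groth.Agent.Lib.SiteCmpC65
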