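import Groth.Agent.Lib.SiteCmpC65

/-!
# Comparing two topologies, part D (helper65): the induction step `V_n ⇒ V_{n+1}` (Stacks 0EWR/0EWS)
-/

set_option autoImplicit false

universe u

open CategoryTheory Limits Opposite

namespace Groth.Agent.Lib.SiteCmpD65

open Groth.Agent.Lib.SiteCmpA65 Groth.Agent.Lib.SiteCmpB65 Groth.Agent.Lib.SiteCmpC65
  Groth.Agent.Lib.OverMapShriek65

section Basic

variable {C : Type u} [SmallCategory C] {J J' : GrothendieckTopology C} (h : J' ≤ J)
  {X Y : C} (f : X ⟶ Y)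

/-- `ε_*` on `C/X`. -/
abbrev epsO (X : C) : Sheaf (J.over X) AddCommGrpCat.{u} ⥤ Sheaf (J'.over X) AddCommGrpCat.{u} :=
  eps (SiteCmp.over_le h X)

/-- restriction commutes with `ε_*`. -/
noncomputable def resEpsIso : epsO h Y ⋙ res J' f ≅ res J f ⋙ epsO h X :=
  NatIso.ofComponents (fun F =>
    (fullyFaithfulSheafToPresheaf (J'.over X) AddCommGrpCat.{u}).preimageIso
      (NatIso.ofComponents (fun U => Iso.refl _)))

variable [HasPullbacksAlong f]

/-- push-forward along base change, `G ↦ (U ↦ G(U ×_Y X))`. -/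
noncomputable abbrev fpush (J : GrothendieckTopology C) {X Y : C} (f : X ⟶ Y) [HasPullbacksAlong f] :
    Sheaf (J.over X) AddCommGrpCat.{u} ⥤ Sheaf (J.over Y) AddCommGrpCat.{u} :=
  CohSite.push (J.over X) (J.over Y) (Over.pullback f)

/-- `fpush` commutes with `ε_*`. -/
noncomputable def fpushEpsIso : fpush J f ⋙ epsO h Y ≅ epsO h X ⋙ fpush J' f :=
  NatIso.ofComponents (fun G =>
    (fullyFaithfulSheafToPresheaf (J'.over Y) AddCommGrpCat.{u}).preimageIso
      (NatIso.ofComponents (fun U => Iso.refl _)))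

/-- the relocalisation push-forward commutes with `ε_*`. -/
noncomputable def fstarEpsIso : fstar J f ⋙ epsO h Y ≅ epsO h X ⋙ fstar J' f :=
  Functor.isoWhiskerRight (fstarIso J f) (epsO h Y) ≪≫ fpushEpsIso h f ≪≫
    Functor.isoWhiskerLeft (epsO h X) (fstarIso J' f).symm

instance preservesFiniteLimits_fstar : PreservesFiniteLimits (fstar J f) :=
  preservesFiniteLimits_of_natIso (fstarIso J f).symm

instance preservesInjectiveObjects_fstar : (fstar J f).PreservesInjectiveObjects := by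
  have : (res J f).PreservesMonomorphisms := preservesMonomorphisms_of_preservesLimitsOfShape _
  exact Functor.preservesInjectiveObjects_of_adjunction_of_preservesMonomorphisms
    ((Over.map f).sheafAdjunctionCocontinuous AddCommGrpCat.{u} (J.over X) (J.over Y))

/-- the unit `F ⟶ f_* f⁻¹ F`, `F(U) ⟶ F(U ×_Y X)`. -/
noncomputable def unitF (F : Sheaf (J.over Y) AddCommGrpCat.{u}) :
    F ⟶ (fpush J f).obj ((res J f).obj F) :=
  ObjectProperty.homMk
    { app := fun U => F.obj.map (vCounit f U.unop).op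
      naturality := fun U V g => by
        have hn : (v f).map g.unop ≫ vCounit f U.unop = vCounit f V.unop ≫ g.unop :=
          (Over.mapPullbackAdj f).counit.naturality g.unop
        change F.obj.map g ≫ F.obj.map (vCounit f V.unop).op =
          F.obj.map (vCounit f U.unop).op ≫ F.obj.map ((v f).map g.unop).op
        rw [← F.obj.map_comp, ← F.obj.map_comp]
        congr 1
        exact congrArg Quiver.Hom.op hn.symm }

/-- when `{f}` is a covering, the unit is a monomorphism. -/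
theorem mono_unitF (hcov : Sieve.ofArrows (fun _ : PUnit.{u + 1} => X) (fun _ => f) ∈ J Y)
    (F : Sheaf (J.over Y) AddCommGrpCat.{u}) : Mono (unitF f F) := by
  rw [Sheaf.Hom.mono_iff_presheaf_mono]
  rw [NatTrans.mono_iff_mono_app]
  intro U
  rw [AddCommGrpCat.mono_iff_injective]
  intro x y hxy
  have hxy' : (F.obj.map (vCounit f U.unop).op).hom x = (F.obj.map (vCounit f U.unop).op).hom y :=
    hxy
  let Sf := Sieve.ofArrows (fun _ : PUnit.{u + 1} => X) (fun _ => f)
  refine (Sheaf.isSeparated F) U.unop ((Sieve.overEquiv U.unop).symm (Sf.pullback U.unop.hom))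
    (GrothendieckTopology.overEquiv_symm_mem_over J _ _ (J.pullback_stable _ hcov)) x y ?_
  intro Z g hg
  rw [Sieve.overEquiv_symm_iff] at hg
  obtain ⟨W, l, _, ⟨⟨⟩⟩, hl⟩ := hg
  have hl' : l ≫ f = g.left ≫ U.unop.hom := hl
  let g' : Z ⟶ (v f).obj U.unop :=
    Over.homMk (U := Z) (V := (v f).obj U.unop) (pullback.lift g.left l hl'.symm) (by
      have := Over.w g
      dsimp at this ⊢
      rw [pullback.lift_snd_assoc, hl', this])
  have hfac : g = g' ≫ vCounit f U.unop := by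
    apply Over.OverMorphism.ext
    simp [g']
    exact (pullback.lift_fst _ _ _).symm
  rw [hfac, op_comp, Functor.map_comp]
  change (F.obj.map g'.op).hom ((F.obj.map (vCounit f U.unop).op).hom x) =
    (F.obj.map g'.op).hom ((F.obj.map (vCounit f U.unop).op).hom y)
  rw [hxy']

end Basic

section ClaimK

variable {C : Type u} [SmallCategory C] {J J' : GrothendieckTopology C} (h : J' ≤ J)
  {X Y : C} (f : X ⟶ Y) [HasPullbacksAlong f]
  (A'X : ObjectProperty (Sheaf (J'.over X) AddCommGrpCat.{u}))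
  (A'Y : ObjectProperty (Sheaf (J'.over Y) AddCommGrpCat.{u})) [WSerre.IsWeakSerre A'Y]
  [A'X.IsClosedUnderIsomorphisms]

/-- the edge map `Rⁿ⁺¹ε_{Y,*}(f_* G) ⟶ Rⁿ⁺¹(ε_Y f)_* G` is a monomorphism (vanishing of the
transgression). -/
theorem exists_mono_edge (n : ℕ)
    (h3Y : ∀ T, A'Y T → Presheaf.IsSheaf (J.over Y) T.obj)
    (h4 : ∀ T, A'X T → ∀ i, A'Y (((fstar J' f).rightDerived i).obj T))
    (VX : ∀ G : Sheaf (J.over X) AddCommGrpCat.{u}, A'X ((epsO h X).obj G) →
      ∀ j, 1 ≤ j → j ≤ n → IsZero (((epsO h X).rightDerived j).obj G))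
    (VY : ∀ G : Sheaf (J.over Y) AddCommGrpCat.{u}, A'Y ((epsO h Y).obj G) →
      ∀ j, 1 ≤ j → j ≤ n → IsZero (((epsO h Y).rightDerived j).obj G))
    (G : Sheaf (J.over X) AddCommGrpCat.{u}) (hG : A'X ((epsO h X).obj G)) :
    ∃ e : ((epsO h Y).rightDerived (n + 1)).obj ((fstar J f).obj G) ⟶
      ((fstar J f ⋙ epsO h Y).rightDerived (n + 1)).obj G, Mono e := by
  cases n with
  | zero => exact ⟨Groth.Agent.Lib.LowDeg65.edgeA (fstar J f) (epsO h Y) G, inferInstance⟩
  | succ m =>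
    -- `ε_Y(R^q f_* G) ∈ A'_Y` for `q ≤ m + 1`
    have hq : ∀ q, q ≤ m + 1 → A'Y ((epsO h Y).obj (((fstar J f).rightDerived q).obj G)) := by
      intro q hq
      have hR := h4 _ hG q
      obtain ⟨e⟩ := nonempty_rightDerived_fstar_eps_iso h f G (m + 1) (VX G hG) q hq (h3Y _ hR)
      exact A'Y.prop_of_iso e hR
    have hbox : Groth.Agent.Lib.LowDeg65.Box (fstar J f) (epsO h Y) (m + 1) G := by
      intro p q hp hq' hpq
      exact VY _ (hq q (by omega)) p hp (by omega)
    obtain ⟨a, t, e, ⟨w1, h1⟩, ⟨w2, h2⟩⟩ :=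
      Groth.Agent.Lib.LowDeg65.E_seq (fstar J f) (epsO h Y) m G hbox
    refine ⟨e, ?_⟩
    -- source of `a` lies in `A'_Y`
    have hsrc : A'Y (((fstar J f ⋙ epsO h Y).rightDerived (m + 1)).obj G) := by
      obtain ⟨e1⟩ := Groth.Agent.Lib.LowDeg65.D_iso (epsO h X) (fstar J' f) (m + 1) G (VX G hG)
        (m + 1) le_rfl
      have e2 := (Groth.Agent.Lib.RightDerivedPostComp.rightDerivedIsoOfIso
        (fstarEpsIso h f) (m + 1)).app G
      exact A'Y.prop_of_iso (e1 ≪≫ e2.symm) (h4 _ hG (m + 1))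
    have htgt := hq (m + 1) le_rfl
    have hM : A'Y (cokernel a) := A'Y.prop_cokernel a hsrc htgt
    have hmono : Mono (cokernel.desc a t w1) :=
      (ShortComplex.exact_iff_mono_cokernel_desc (ShortComplex.mk a t w1)).1 h1
    have hzero : IsZero (cokernel a) :=
      isZero_of_zprop
        (zprop_rightDerived_eps (SiteCmp.over_le h Y) ((fstar J f).obj G) (m + 1))
        (Presheaf.IsSheaf.isSeparated (h3Y _ hM)) (cokernel.desc a t w1) (𝟙 _)
    have ht : t = 0 := by
      rw [← cokernel.π_desc a t w1, hzero.eq_of_src (cokernel.desc a t w1) 0, comp_zero]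
    exact h2.mono_g ht

/-- **Claim K.** For a covering `f : X ⟶ Y` (for the finer topology) as in the Situation and `F` in
`A_Y`, the sheaf `Rⁿ⁺¹ε_{Y,*}F` embeds into a sheaf of the form `f_* M'`. -/
theorem claimK (n : ℕ)
    (h2 : ∀ T, A'Y T → A'X ((res J' f).obj T))
    (h3Y : ∀ T, A'Y T → Presheaf.IsSheaf (J.over Y) T.obj)
    (h4 : ∀ T, A'X T → ∀ i, A'Y (((fstar J' f).rightDerived i).obj T))
    (VX : ∀ G : Sheaf (J.over X) AddCommGrpCat.{u}, A'X ((epsO h X).obj G) →
      ∀ j, 1 ≤ j → j ≤ n → IsZero (((epsO h X).rightDerived j).obj G))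
    (VY : ∀ G : Sheaf (J.over Y) AddCommGrpCat.{u}, A'Y ((epsO h Y).obj G) →
      ∀ j, 1 ≤ j → j ≤ n → IsZero (((epsO h Y).rightDerived j).obj G))
    (hcov : Sieve.ofArrows (fun _ : PUnit.{u + 1} => X) (fun _ => f) ∈ J Y)
    (F : Sheaf (J.over Y) AddCommGrpCat.{u}) (hF : A'Y ((epsO h Y).obj F)) :
    ∃ (M' : Sheaf (J'.over X) AddCommGrpCat.{u})
      (μ : ((epsO h Y).rightDerived (n + 1)).obj F ⟶ (fpush J' f).obj M'), Mono μ := by
  let G := (res J f).obj F
  have hG : A'X ((epsO h X).obj G) := A'X.prop_of_iso ((resEpsIso h f).app F) (h2 _ hF)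
  let η : F ⟶ (fstar J f).obj G := unitF f F ≫ (fstarIso J f).inv.app G
  have hu : Mono (unitF f F) := mono_unitF f hcov F
  have hη : Mono η := mono_comp _ _
  have hH : A'Y ((epsO h Y).obj ((fstar J f).obj G)) := by
    have e1 := (fstarEpsIso h f).app G
    have e2 := ((fstar J' f).rightDerivedZeroIsoSelf).app ((epsO h X).obj G)
    exact A'Y.prop_of_iso (e2 ≪≫ e1.symm) (h4 _ hG 0)
  obtain ⟨Q, π, w, hS, hQ, hepi⟩ :=
    exists_cokernel_of_mono (SiteCmp.over_le h Y) A'Y h3Y η hF hH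
  have hm1 : Mono (((epsO h Y).rightDerived (n + 1)).map η) :=
    mono_rightDerived_map_of_shortExact (epsO h Y) hS n hepi (VY Q hQ)
  obtain ⟨e, he⟩ := exists_mono_edge h f A'X A'Y n h3Y h4 VX VY G hG
  obtain ⟨a', b', ha', wb, hab⟩ :=
    Groth.Agent.Lib.LowDeg65.D_seq (epsO h X) (fstar J' f) n G (VX G hG)
  let c := (Groth.Agent.Lib.RightDerivedPostComp.rightDerivedIsoOfIso
    (fstarEpsIso h f) (n + 1)).app G
  let α := ((epsO h Y).rightDerived (n + 1)).map η ≫ e ≫ c.hom
  have hα : Mono α := by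
    have : Mono (e ≫ c.hom) := mono_comp _ _
    exact mono_comp _ _
  have hker : IsZero (kernel (α ≫ b')) := by
    let φ := hab.lift (kernel.ι (α ≫ b') ≫ α) (by
      rw [Category.assoc]; exact kernel.condition (α ≫ b'))
    have hφ : φ ≫ a' = kernel.ι (α ≫ b') ≫ α := hab.lift_f _ _
    have hm : Mono (kernel.ι (α ≫ b') ≫ α) := mono_comp _ _
    have : Mono φ := by
      rw [← hφ] at hm
      exact mono_of_mono φ a'
    exact isZero_of_zprop (zprop_rightDerived_eps (SiteCmp.over_le h Y) F n)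
      (Presheaf.IsSheaf.isSeparated (h3Y _ (h4 _ hG (n + 1)))) (kernel.ι (α ≫ b')) φ
  have hmono : Mono (α ≫ b') := Preadditive.mono_of_kernel_zero (hker.eq_of_src _ _)
  refine ⟨((epsO h X).rightDerived (n + 1)).obj G,
    (α ≫ b') ≫ (fstarIso J' f).hom.app _, ?_⟩
  exact mono_comp _ _

end ClaimK

section Diagonal

variable {C : Type u} [SmallCategory C] (J : GrothendieckTopology C)
  {X Y : C} (f : X ⟶ Y) [HasPullbacksAlong f]

/-- the diagonal `Y ×_Y X ⟶ X ×_Y X` as a morphism of `C/X`. -/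
noncomputable def diagMap :
    (Over.pullback f).obj (Over.mk (𝟙 Y)) ⟶ (Over.pullback f).obj (Over.mk f) :=
  Over.homMk (U := (Over.pullback f).obj (Over.mk (𝟙 Y))) (V := (Over.pullback f).obj (Over.mk f))
    (pullback.lift (pullback.snd (𝟙 Y) f) (pullback.snd (𝟙 Y) f) rfl) (by
      simp [Over.pullback]
      exact pullback.lift_snd _ _ _)

theorem diagMap_comp : diagMap f ≫ (Over.pullback f).map (toTerm f) = 𝟙 _ := by
  apply Over.OverMorphism.ext
  have hl : (diagMap f ≫ (Over.pullback f).map (toTerm f)).left =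
      pullback.lift (pullback.snd (𝟙 Y) f) (pullback.snd (𝟙 Y) f) rfl ≫
        pullback.lift (pullback.fst f f ≫ f) (pullback.snd f f)
          (by simp [pullback.condition]) := by
    simp [diagMap, Over.pullback]
  rw [hl]
  have e1 : pullback.lift (pullback.fst f f ≫ f) (pullback.snd f f)
      (by simp [pullback.condition]) ≫ pullback.fst (𝟙 Y) f = pullback.fst f f ≫ f :=
    pullback.lift_fst _ _ _
  have e2 : pullback.lift (pullback.fst f f ≫ f) (pullback.snd f f)
      (by simp [pullback.condition]) ≫ pullback.snd (𝟙 Y) f = pullback.snd f f :=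
    pullback.lift_snd _ _ _
  have e3 : pullback.lift (pullback.snd (𝟙 Y) f) (pullback.snd (𝟙 Y) f) rfl ≫ pullback.fst f f =
      pullback.snd (𝟙 Y) f := pullback.lift_fst _ _ _
  have e4 : pullback.lift (pullback.snd (𝟙 Y) f) (pullback.snd (𝟙 Y) f) rfl ≫ pullback.snd f f =
      pullback.snd (𝟙 Y) f := pullback.lift_snd _ _ _
  apply pullback.hom_ext
  · change (_ ≫ _) ≫ pullback.fst (𝟙 Y) f = (𝟙 (pullback (𝟙 Y) f)) ≫ pullback.fst (𝟙 Y) f
    rw [Category.assoc, Category.id_comp]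
    refine (congrArg (pullback.lift (pullback.snd (𝟙 Y) f) (pullback.snd (𝟙 Y) f) rfl ≫ ·)
      e1).trans ?_
    refine (Category.assoc _ _ _).symm.trans ((congrArg (· ≫ f) e3).trans ?_)
    have := pullback.condition (f := 𝟙 Y) (g := f)
    rw [Category.comp_id] at this
    exact this.symm
  · change (_ ≫ _) ≫ pullback.snd (𝟙 Y) f = (𝟙 (pullback (𝟙 Y) f)) ≫ pullback.snd (𝟙 Y) f
    rw [Category.assoc, Category.id_comp]
    exact (congrArg (pullback.lift (pullback.snd (𝟙 Y) f) (pullback.snd (𝟙 Y) f) rfl ≫ ·)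
      e2).trans e4

/-- **Diagonal trick**: a section of `f_* M'` over `Y` which vanishes on `X` vanishes. -/
theorem fpush_section_eq_zero (M' : Sheaf (J.over X) AddCommGrpCat.{u})
    (t : ((fpush J f).obj M').obj.obj (op (Over.mk (𝟙 Y))))
    (ht : (((fpush J f).obj M').obj.map (toTerm f).op).hom t = 0) : t = 0 := by
  have ht' : (M'.obj.map ((Over.pullback f).map (toTerm f)).op).hom t = 0 := ht
  have h1 : (M'.obj.map (diagMap f).op).hom
      ((M'.obj.map ((Over.pullback f).map (toTerm f)).op).hom t) = t := by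
    have h2 : M'.obj.map ((Over.pullback f).map (toTerm f)).op ≫ M'.obj.map (diagMap f).op =
        𝟙 _ := by
      rw [← M'.obj.map_comp, ← op_comp, diagMap_comp, op_id, M'.obj.map_id]
    exact ConcreteCategory.congr_hom h2 t
  rw [← h1, ht']
  exact map_zero _

end Diagonal

section Localization

variable {C : Type u} [SmallCategory C] {J J' : GrothendieckTopology C} (h : J' ≤ J)
  {V Y : C} (y : V ⟶ Y)

/-- **Localization**: `(R^q ε_{Y,*} F)|_V ≅ R^q ε_{V,*}(F|_V)`. -/
theorem nonempty_res_rightDerived_eps_iso (F : Sheaf (J.over Y) AddCommGrpCat.{u}) (q : ℕ) :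
    Nonempty ((res J' y).obj (((epsO h Y).rightDerived q).obj F) ≅
      ((epsO h V).rightDerived q).obj ((res J y).obj F)) := by
  have : (shriekMap J y).PreservesMonomorphisms := preservesMonomorphisms_of_preservesLimitsOfShape _
  let e1 := (Groth.Agent.Lib.RightDerivedPostComp.rightDerivedPostCompIso (epsO h Y)
    (res J' y) q).app F
  let e2 := (Groth.Agent.Lib.RightDerivedPostComp.rightDerivedIsoOfIso (resEpsIso h y) q).app F
  let e3 := (Groth.Agent.Lib.DerivedCompExact.rightDerivedCompIso (res J y) (epsO h V)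
    (shriekMapAdj J y) q).app F
  exact ⟨e1 ≪≫ e2 ≪≫ e3⟩

end Localization

section Main

variable {C : Type u} [SmallCategory C] {J J' : GrothendieckTopology C} (h : J' ≤ J)
  (P : MorphismProperty C)
  (A' : ∀ X : C, ObjectProperty (Sheaf (J'.over X) AddCommGrpCat.{u}))
  [∀ X : C, WSerre.IsWeakSerre (A' X)]

/-- the property `V_n` of the reference. -/
def VProp (n : ℕ) : Prop :=
  ∀ (Z : C) (G : Sheaf (J.over Z) AddCommGrpCat.{u}), A' Z ((epsO h Z).obj G) →
    ∀ j, 1 ≤ j → j ≤ n → IsZero (((epsO h Z).rightDerived j).obj G)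

omit [∀ X : C, WSerre.IsWeakSerre (A' X)] in
lemma sieve_iff_overEquiv {Y : C} {U Z : Over Y} (S : Sieve U) (g : Z ⟶ U) :
    S g ↔ Sieve.overEquiv U S g.left := by
  conv_lhs => rw [← (Sieve.overEquiv U).symm_apply_apply S]
  exact Sieve.overEquiv_symm_iff _ _

/-- **Injectivity of restriction along a `P`-covering** for `N = Rⁿ⁺¹ε_{Y,*}F`, given `V_n`. -/
theorem injective_restriction
    (h1 : ∀ ⦃X Y : C⦄ (f : X ⟶ Y), P f → ∀ ⦃Y' : C⦄ (g : Y' ⟶ Y),
      ∃ (W : C) (p : W ⟶ Y') (q : W ⟶ X), IsPullback p q g f ∧ P p)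
    (h2 : ∀ ⦃X Y : C⦄ (f : X ⟶ Y) (F' : Sheaf (J'.over Y) AddCommGrpCat.{u}), A' Y F' →
      A' X ((CohSite.push (J'.over Y) (J'.over X) (Over.map f)).obj F'))
    (h3 : ∀ (X : C) (F' : Sheaf (J'.over X) AddCommGrpCat.{u}), A' X F' →
      Presheaf.IsSheaf (J.over X) F'.obj)
    (h4 : ∀ ⦃X Y : C⦄ (f : X ⟶ Y)
      [((Over.map f).sheafPushforwardCocontinuous AddCommGrpCat.{u} (J'.over X) (J'.over Y)).Additive],
      P f → ∀ (F' : Sheaf (J'.over X) AddCommGrpCat.{u}), A' X F' → ∀ i : ℕ,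
        A' Y ((((Over.map f).sheafPushforwardCocontinuous AddCommGrpCat.{u} (J'.over X)
          (J'.over Y)).rightDerived i).obj F'))
    (n : ℕ) (hV : VProp h A' n) {Y : C} (F : Sheaf (J.over Y) AddCommGrpCat.{u})
    (hF : A' Y ((epsO h Y).obj F)) {V W : C} (y : V ⟶ Y) (w : W ⟶ V) (hw : P w)
    (hwcov : Sieve.ofArrows (fun _ : PUnit.{u + 1} => W) (fun _ => w) ∈ J V)
    (x : (((epsO h Y).rightDerived (n + 1)).obj F).obj.obj (op (Over.mk y)))
    (hx : ((((epsO h Y).rightDerived (n + 1)).obj F).obj.map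
      (Over.homMk w rfl : Over.mk (w ≫ y) ⟶ Over.mk y).op).hom x = 0) : x = 0 := by
  have hpb : HasPullbacksAlong w := fun g => by
    obtain ⟨_, _, _, hpq, _⟩ := h1 w hw g
    exact hpq.hasPullback
  let N := ((epsO h Y).rightDerived (n + 1)).obj F
  let FV := (res J y).obj F
  have hFV : A' V ((epsO h V).obj FV) := (A' V).prop_of_iso ((resEpsIso h y).app F) (h2 y _ hF)
  obtain ⟨M', μ, hμ⟩ := claimK h w (A' W) (A' V) n (fun T hT => h2 w T hT) (h3 V)
    (fun T hT i => h4 w hw T hT i) (hV W) (hV V) hwcov FV hFV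
  obtain ⟨θ⟩ := nonempty_res_rightDerived_eps_iso h y F (n + 1)
  let ν : (res J' y).obj N ⟶ (fpush J' w).obj M' := θ.hom ≫ μ
  have hν : Mono ν := mono_comp _ _
  have hνinj : ∀ U, Function.Injective (ν.hom.app U).hom := by
    intro U
    have h1' : Mono ν.hom :=
      (Sheaf.Hom.mono_iff_presheaf_mono (J'.over V) AddCommGrpCat.{u} ν).1 hν
    have h2' : Mono (ν.hom.app U) := (NatTrans.mono_iff_mono_app ν.hom).1 h1' U
    exact (AddCommGrpCat.mono_iff_injective _).1 h2'
  let j₀ : (Over.map y).obj (Over.mk (𝟙 V)) ⟶ Over.mk y :=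
    Over.homMk (U := (Over.map y).obj (Over.mk (𝟙 V))) (V := Over.mk y) (𝟙 V) (by simp)
  let j₁ : Over.mk y ⟶ (Over.map y).obj (Over.mk (𝟙 V)) :=
    Over.homMk (U := Over.mk y) (V := (Over.map y).obj (Over.mk (𝟙 V))) (𝟙 V) (by simp)
  have hj : j₁ ≫ j₀ = 𝟙 _ := by
    apply Over.OverMorphism.ext
    simp [j₀, j₁]
  let x' : ((res J' y).obj N).obj.obj (op (Over.mk (𝟙 V))) := (N.obj.map j₀.op).hom x
  have hxx' : x = (N.obj.map j₁.op).hom x' := by
    have h2' : N.obj.map j₀.op ≫ N.obj.map j₁.op = 𝟙 _ := by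
      rw [← N.obj.map_comp, ← op_comp, hj, op_id, N.obj.map_id]
    exact (ConcreteCategory.congr_hom h2' x).symm
  -- `x'` restricted to `W` vanishes
  let k : (Over.map y).obj (Over.mk w) ⟶ Over.mk (w ≫ y) :=
    Over.homMk (U := (Over.map y).obj (Over.mk w)) (V := Over.mk (w ≫ y)) (𝟙 W) (by simp)
  have hk : (Over.map y).map (toTerm w) ≫ j₀ =
      k ≫ (Over.homMk w rfl : Over.mk (w ≫ y) ⟶ Over.mk y) := by
    apply Over.OverMorphism.ext
    simp [j₀, k]
  have hres : (((res J' y).obj N).obj.map (toTerm w).op).hom x' = 0 := by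
    change (N.obj.map ((Over.map y).map (toTerm w)).op).hom ((N.obj.map j₀.op).hom x) = 0
    have h3' : N.obj.map j₀.op ≫ N.obj.map ((Over.map y).map (toTerm w)).op =
        N.obj.map (Over.homMk w rfl : Over.mk (w ≫ y) ⟶ Over.mk y).op ≫ N.obj.map k.op := by
      rw [← N.obj.map_comp, ← N.obj.map_comp, ← op_comp, ← op_comp, hk]
    have h4' := ConcreteCategory.congr_hom h3' x
    simp only [ConcreteCategory.comp_apply] at h4'
    refine h4'.trans ?_
    have : (N.obj.map (Over.homMk w rfl : Over.mk (w ≫ y) ⟶ Over.mk y).op) x = 0 := hx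
    rw [this]
    exact map_zero _
  have hνx : (ν.hom.app (op (Over.mk (𝟙 V)))).hom x' = 0 := by
    apply fpush_section_eq_zero J' w M'
    have hn := ConcreteCategory.congr_hom (ν.hom.naturality (toTerm w).op) x'
    simp only [ConcreteCategory.comp_apply] at hn
    refine hn.symm.trans ?_
    have : (((res J' y).obj N).obj.map (toTerm w).op) x' = 0 := hres
    rw [this]
    exact map_zero _
  have hx' : x' = 0 := by
    apply hνinj
    rw [hνx]
    exact (map_zero _).symm
  rw [hxx', hx']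
  exact map_zero _

omit [∀ X : C, WSerre.IsWeakSerre (A' X)] in
/-- a `τ'`-sheaf on `C/Y` all of whose sections die `τ`-locally and whose restriction maps along
`P`-coverings are injective vanishes, provided `τ`-coverings are refined as in condition (5). -/
theorem isZero_of_injective_restriction
    (h5 : ∀ (U : C) (S : Sieve U), S ∈ J U → ∃ (ι : Type u) (V : ι → C) (v : ∀ j, V j ⟶ U),
      Sieve.ofArrows V v ∈ J' U ∧ ∀ j, ∃ (W : C) (w : W ⟶ V j), P w ∧
        Sieve.ofArrows (fun _ : PUnit.{u + 1} => W) (fun _ => w) ∈ J (V j) ∧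
        ∃ (κ : Type u) (Wk : κ → C) (wk : ∀ k, Wk k ⟶ W), Sieve.ofArrows Wk wk ∈ J' W ∧
          ∀ k, S.arrows (wk k ≫ w ≫ v j))
    {Y : C} (N : Sheaf (J'.over Y) AddCommGrpCat.{u}) (hZ : Zprop (J.over Y) N.obj)
    (hinj : ∀ {V W : C} (y : V ⟶ Y) (w : W ⟶ V), P w →
      Sieve.ofArrows (fun _ : PUnit.{u + 1} => W) (fun _ => w) ∈ J V →
      ∀ x : N.obj.obj (op (Over.mk y)),
        (N.obj.map (Over.homMk w rfl : Over.mk (w ≫ y) ⟶ Over.mk y).op).hom x = 0 → x = 0) :
    IsZero N := by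
  have key : ∀ (U : Over Y) (s : N.obj.obj (op U)), s = 0 := by
    intro U s
    obtain ⟨S, hS, hS0⟩ := hZ U s
    have hS' : Sieve.overEquiv U S ∈ J U.left := (GrothendieckTopology.mem_over_iff (J := J) S).1 hS
    obtain ⟨ι, V, v, hv, hj⟩ := h5 U.left _ hS'
    refine (Sheaf.isSeparated N) U ((Sieve.overEquiv U).symm (Sieve.ofArrows V v))
      (GrothendieckTopology.overEquiv_symm_mem_over J' _ _ hv) s 0 ?_
    intro Z g hg
    rw [Sieve.overEquiv_symm_iff] at hg
    obtain ⟨_, k, _, ⟨j⟩, hk⟩ := hg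
    -- the object `V j ⟶ U.left ⟶ Y` of `C/Y`
    let gj : Over.mk (v j ≫ U.hom) ⟶ U :=
      Over.homMk (U := Over.mk (v j ≫ U.hom)) (V := U) (v j) rfl
    let k' : Z ⟶ Over.mk (v j ≫ U.hom) :=
      Over.homMk (U := Z) (V := Over.mk (v j ≫ U.hom)) k (by
        have := Over.w g
        dsimp at this ⊢
        rw [← Category.assoc, hk, this])
    have hfac : g = k' ≫ gj := by
      apply Over.OverMorphism.ext
      simp [k', gj, hk]
    have hsj : (N.obj.map gj.op).hom s = 0 := by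
      obtain ⟨W, w, hPw, hwcov, κ, Wk, wk, hwk, hS2⟩ := hj j
      apply hinj (v j ≫ U.hom) w hPw hwcov
      -- vanishing on the `τ'`-covering `{Wk ⟶ W}`
      let m : Over.mk (w ≫ v j ≫ U.hom) ⟶ Over.mk (v j ≫ U.hom) := Over.homMk w rfl
      refine (Sheaf.isSeparated N) (Over.mk (w ≫ v j ≫ U.hom))
        ((Sieve.overEquiv (Over.mk (w ≫ v j ≫ U.hom))).symm (Sieve.ofArrows Wk wk))
        (GrothendieckTopology.overEquiv_symm_mem_over J' _ _ hwk) _ 0 ?_
      intro Z2 g2 hg2
      rw [Sieve.overEquiv_symm_iff] at hg2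
      obtain ⟨_, k2, _, ⟨i⟩, hk2⟩ := hg2
      have hmem : S.arrows (g2 ≫ m ≫ gj) := by
        rw [sieve_iff_overEquiv]
        have : (g2 ≫ m ≫ gj).left = k2 ≫ wk i ≫ w ≫ v j := by
          simp [m, gj, ← hk2]
        rw [this]
        exact (Sieve.overEquiv U S).downward_closed (hS2 i) k2
      have h0 := hS0 _ hmem
      have e : N.obj.map gj.op ≫ N.obj.map m.op ≫ N.obj.map g2.op =
          N.obj.map (g2 ≫ m ≫ gj).op := by
        rw [← N.obj.map_comp, ← N.obj.map_comp, ← op_comp, ← op_comp, Category.assoc]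
      have e' := ConcreteCategory.congr_hom e s
      simp only [ConcreteCategory.comp_apply] at e'
      refine e'.trans (h0.trans ?_)
      exact (map_zero _).symm
    rw [hfac, op_comp, Functor.map_comp]
    change (N.obj.map k'.op).hom ((N.obj.map gj.op).hom s) = _
    rw [hsj]
    exact (map_zero _).trans (map_zero _).symm
  rw [IsZero.iff_id_eq_zero]
  apply Sheaf.hom_ext
  ext U s
  exact key U.unop s

/-- **Stacks 0EWS**: in the Situation, `Rⁱε_{X,*}F = 0` for all `i ≥ 1` and `F` in `A_X`. -/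
theorem vProp_all
    (h1 : ∀ ⦃X Y : C⦄ (f : X ⟶ Y), P f → ∀ ⦃Y' : C⦄ (g : Y' ⟶ Y),
      ∃ (W : C) (p : W ⟶ Y') (q : W ⟶ X), IsPullback p q g f ∧ P p)
    (h2 : ∀ ⦃X Y : C⦄ (f : X ⟶ Y) (F' : Sheaf (J'.over Y) AddCommGrpCat.{u}), A' Y F' →
      A' X ((CohSite.push (J'.over Y) (J'.over X) (Over.map f)).obj F'))
    (h3 : ∀ (X : C) (F' : Sheaf (J'.over X) AddCommGrpCat.{u}), A' X F' →
      Presheaf.IsSheaf (J.over X) F'.obj)
    (h4 : ∀ ⦃X Y : C⦄ (f : X ⟶ Y)
      [((Over.map f).sheafPushforwardCocontinuous AddCommGrpCat.{u} (J'.over X) (J'.over Y)).Additive],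
      P f → ∀ (F' : Sheaf (J'.over X) AddCommGrpCat.{u}), A' X F' → ∀ i : ℕ,
        A' Y ((((Over.map f).sheafPushforwardCocontinuous AddCommGrpCat.{u} (J'.over X)
          (J'.over Y)).rightDerived i).obj F'))
    (h5 : ∀ (U : C) (S : Sieve U), S ∈ J U → ∃ (ι : Type u) (V : ι → C) (v : ∀ j, V j ⟶ U),
      Sieve.ofArrows V v ∈ J' U ∧ ∀ j, ∃ (W : C) (w : W ⟶ V j), P w ∧
        Sieve.ofArrows (fun _ : PUnit.{u + 1} => W) (fun _ => w) ∈ J (V j) ∧
        ∃ (κ : Type u) (Wk : κ → C) (wk : ∀ k, Wk k ⟶ W), Sieve.ofArrows Wk wk ∈ J' W ∧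
          ∀ k, S.arrows (wk k ≫ w ≫ v j)) (n : ℕ) : VProp h A' n := by
  induction n with
  | zero =>
    intro Z G _ j hj hj0
    omega
  | succ n ih =>
    intro Z G hG j hj hjn
    rcases Nat.lt_or_ge j (n + 1) with hlt | hge
    · exact ih Z G hG j hj (by omega)
    · obtain rfl : j = n + 1 := by omega
      exact isZero_of_injective_restriction P h5 _
        (zprop_rightDerived_eps (SiteCmp.over_le h Z) G n)
        (fun y w hw hwcov x hx =>
          injective_restriction h P A' h1 h2 h3 h4 n ih G hG y w hw hwcov x hx)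

end Main

end Groth.Agent.Lib.SiteCmpD65
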