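import Groth.Agent.Lib.SiteCmpD65

/-!
# Comparing two topologies, part E (helper65): consequences of `Rⁱε_* = 0` on `A`
(Stacks 0EWN, 0EWT): `A` is a weak Serre subcategory, `H_τ'(U, F') ≅ H_τ(U, ε⁻¹F')`.
-/

set_option autoImplicit false

universe u

open CategoryTheory Limits Opposite

namespace Groth.Agent.Lib.SiteCmpE65

open Groth.Agent.Lib.SiteCmpA65 Groth.Agent.Lib.SiteCmpB65 Groth.Agent.Lib.SiteCmpC65
  Groth.Agent.Lib.SiteCmpD65

section TwoTop

variable {D : Type u} [SmallCategory D] {K K' : GrothendieckTopology D} (hK : K' ≤ K)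
  (A' : ObjectProperty (Sheaf K' AddCommGrpCat.{u})) [WSerre.IsWeakSerre A']

/-- **Cokernel principle**, general form: the cokernel in `K`-sheaves of a map between objects of
`A` is the cokernel of `K'`-sheaves. -/
theorem exists_isColimit_cokernelCofork
    (h3 : ∀ T : Sheaf K' AddCommGrpCat.{u}, A' T → Presheaf.IsSheaf K T.obj)
    {F H : Sheaf K AddCommGrpCat.{u}} (η : F ⟶ H)
    (hF : A' ((eps hK).obj F)) (hH : A' ((eps hK).obj H)) :
    ∃ (Q : Sheaf K AddCommGrpCat.{u}) (π : H ⟶ Q) (w : η ≫ π = 0),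
      Nonempty (IsColimit (CokernelCofork.ofπ π w)) ∧ A' ((eps hK).obj Q) := by
  let φ' := (eps hK).map η
  let Q' := cokernel φ'
  have hQ' : A' Q' := A'.prop_cokernel φ' hF hH
  let Q := liftSheaf Q' (h3 Q' hQ')
  let eQ := epsLiftIso hK Q' (h3 Q' hQ')
  let π : H ⟶ Q := (epsFullyFaithful hK).preimage (cokernel.π φ' ≫ eQ.inv)
  have hπ : (eps hK).map π = cokernel.π φ' ≫ eQ.inv := (epsFullyFaithful hK).map_preimage _
  have w : η ≫ π = 0 := by
    apply (eps hK).map_injective
    rw [Functor.map_comp, hπ, Functor.map_zero, cokernel.condition_assoc, zero_comp]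
  refine ⟨Q, π, w, ⟨?_⟩, A'.prop_of_iso eQ.symm hQ'⟩
  have w' : φ' ≫ (eps hK).map π = 0 := by
    rw [← Functor.map_comp, w, Functor.map_zero]
  have hcolim : IsColimit (CokernelCofork.ofπ ((eps hK).map π) w') :=
    IsColimit.ofIsoColimit (cokernelIsCokernel φ')
      (Cofork.ext eQ.symm (by simp [hπ]))
  exact isColimitOfReflects (eps hK)
    ((CokernelCofork.isColimitMapCoconeEquiv _ (eps hK)).symm hcolim)

/-- **Stacks 0EWN (3)**: if `R¹ε_*` vanishes on `A = ε_*⁻¹(A')`, then `A` is a weak Serre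
subcategory of the `K`-sheaves. -/
theorem isWeakSerre_inverseImage
    (h3 : ∀ T : Sheaf K' AddCommGrpCat.{u}, A' T → Presheaf.IsSheaf K T.obj)
    (hR1 : ∀ G : Sheaf K AddCommGrpCat.{u}, A' ((eps hK).obj G) →
      IsZero (((eps hK).rightDerived 1).obj G)) :
    WSerre.IsWeakSerre (A'.inverseImage (eps hK)) where
  toContainsZero := inferInstance
  toIsClosedUnderKernels :=
    { kernels_le := by
        rintro _ ⟨f, k, hk, ⟨hX, hY⟩⟩
        exact A'.prop_of_isLimit_kernelFork (KernelFork.mapIsLimit k hk (eps hK)) hX hY }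
  toIsClosedUnderCokernels :=
    { cokernels_le := by
        rintro _ ⟨f, k, hk, ⟨hX, hY⟩⟩
        obtain ⟨Q, π, w, ⟨hc⟩, hQ⟩ := exists_isColimit_cokernelCofork hK A' h3 f hX hY
        let e : k.pt ≅ Q := IsColimit.coconePointUniqueUpToIso hk hc
        exact A'.prop_of_iso ((eps hK).mapIso e.symm) hQ }
  toIsClosedUnderExtensions :=
    { prop_X₂_of_shortExact := by
        intro S hS h₁ h₃
        have hepi : Epi ((eps hK).map S.g) :=
          (Groth.Agent.Lib.LowDeg65.exact_δ' (eps hK) hS).epi_f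
            ((hR1 S.X₁ h₁).eq_of_tgt _ _)
        have hSe : (S.map (eps hK)).ShortExact :=
          { exact := Groth.Agent.Lib.LowDeg65.exact_map_of_leftExact (eps hK) hS
            mono_f := Groth.Agent.Lib.LowDeg65.mono_map_f_of_leftExact (eps hK) hS
            epi_g := hepi }
        exact A'.prop_X₂_of_shortExact hSe h₁ h₃ }

end TwoTop

end Groth.Agent.Lib.SiteCmpE65
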