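import Groth.Agent.Lib.SiteCmpE65

/-!
# Comparing two topologies, part F (helper65): `H_τ'(U, F') ≅ H_τ(U, ε⁻¹F')` (Stacks 0EWT)
-/

set_option autoImplicit false

universe u

open CategoryTheory Limits Opposite

namespace Groth.Agent.Lib.SiteCmpF65

open Groth.Agent.Lib.SiteCmpA65 Groth.Agent.Lib.SiteCmpB65 Groth.Agent.Lib.SiteCmpC65
  Groth.Agent.Lib.SiteCmpD65

section TwoTop

variable {D : Type u} [SmallCategory D] {K K' : GrothendieckTopology D} (hK : K' ≤ K)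

/-- cohomology is invariant under isomorphisms of sheaves. -/
theorem nonempty_HU_addEquiv_of_iso {F G : Sheaf K AddCommGrpCat.{u}} (e : F ≅ G) (n : ℕ) (U : D) :
    Nonempty (CohSite.HU F n U ≃+ CohSite.HU G n U) :=
  ⟨(((Sheaf.cohomologyPresheafFunctor.{u} K n).mapIso e).app (op U)).addCommGroupIsoToAddEquiv⟩

/-- `ε⁻¹` of a `K'`-sheaf which is already a `K`-sheaf is that sheaf. -/
theorem nonempty_epsShInv_iso (T : Sheaf K' AddCommGrpCat.{u}) (hT : Presheaf.IsSheaf K T.obj) :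
    Nonempty ((SiteCmp.epsShInv hK AddCommGrpCat.{u}).obj T ≅ liftSheaf T hT) := by
  let adj := SiteCmp.epsShAdj hK AddCommGrpCat.{u}
  have : IsIso adj.counit := Adjunction.counit_isIso_of_R_fully_faithful adj
  exact ⟨(SiteCmp.epsShInv hK AddCommGrpCat.{u}).mapIso (epsLiftIso hK T hT).symm ≪≫
    asIso (adj.counit.app (liftSheaf T hT))⟩

/-- **Stacks 0EWT**: if `Rʲε_*` vanishes (`1 ≤ j ≤ n`) on the `K`-sheaf underlying `T`, then
`Hⁿ_{K'}(U, T) ≅ Hⁿ_K(U, ε⁻¹T)`. -/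
theorem nonempty_HU_addEquiv_epsShInv (T : Sheaf K' AddCommGrpCat.{u})
    (hT : Presheaf.IsSheaf K T.obj) (n : ℕ)
    (hV : ∀ j, 1 ≤ j → j ≤ n → IsZero (((eps hK).rightDerived j).obj (liftSheaf T hT))) (U : D) :
    Nonempty (CohSite.HU T n U ≃+
      CohSite.HU ((SiteCmp.epsShInv hK AddCommGrpCat.{u}).obj T) n U) := by
  obtain ⟨e1⟩ := nonempty_epsShInv_iso hK T hT
  obtain ⟨a1⟩ := nonempty_HU_addEquiv_of_iso e1 n U
  obtain ⟨a2⟩ := nonempty_HU_addEquiv_of_iso (epsLiftIso hK T hT) n U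
  obtain ⟨c⟩ := nonempty_cohomologyPresheaf_iso hK (liftSheaf T hT) n hV n le_rfl
  let a3 : CohSite.HU ((eps hK).obj (liftSheaf T hT)) n U ≃+ CohSite.HU (liftSheaf T hT) n U :=
    (c.app (op U)).addCommGroupIsoToAddEquiv
  exact ⟨a2.symm.trans (a3.trans a1.symm)⟩

end TwoTop

end Groth.Agent.Lib.SiteCmpF65
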