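import Groth.Agent.Lib.SiteCohCompare
import Groth.Agent.Lib.OverShriekExt
import Mathlib.CategoryTheory.Limits.Constructions.Over.Basic
import Mathlib.CategoryTheory.Limits.Comma
import Mathlib.CategoryTheory.Functor.Flat
import Mathlib.CategoryTheory.Sites.Over

/-!
# `H^p(U, u^p F) ≃ H^p(u U, F)` for `u` continuous, cocontinuous, commuting with pullbacks (helper11)

Proof by localisation: `H^p(U, -) = H^p(C/U, -|_U)` and `Over.post u : C/U ⥤ D/uU` is flat
(preserves the terminal object and pullbacks), continuous and cocontinuous.
-/

set_option autoImplicit false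
open CategoryTheory CategoryTheory.Limits Opposite
universe u

namespace Groth.Agent.Lib.SiteCohLocal

variable {C D : Type u} [SmallCategory C] [SmallCategory D] [HasPullbacks C]
  (J : GrothendieckTopology C) (K : GrothendieckTopology D) (u : C ⥤ D)
  [PreservesLimitsOfShape WalkingCospan u] (U : C)

/-- `Over.post u` sends the terminal object to a terminal object. -/
noncomputable def isTerminalPost :
    IsTerminal ((Over.post (X := U) u).obj (Over.mk (𝟙 U))) := by
  have h : (Over.post (X := U) u).obj (Over.mk (𝟙 U)) = Over.mk (𝟙 (u.obj U)) := by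
    change Over.mk (u.map (𝟙 U)) = _
    rw [u.map_id]
  rw [h]
  exact Over.mkIdTerminal

instance preservesPullbacks_post :
    PreservesLimitsOfShape WalkingCospan (Over.post (X := U) u) := by
  have : PreservesLimitsOfShape WalkingCospan (Over.post (X := U) u ⋙ Over.forget (u.obj U)) := by
    rw [Over.post_forget_eq_forget_comp]
    infer_instance
  exact preservesLimitsOfShape_of_reflects_of_preserves (Over.post (X := U) u)
    (Over.forget (u.obj U))

instance preservesTerminal_post :
    PreservesLimitsOfShape (Discrete.{0} PEmpty) (Over.post (X := U) u) := by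
  have : PreservesLimit (Functor.empty.{0} (Over U)) (Over.post (X := U) u) :=
    preservesLimit_of_preserves_limit_cone (Over.mkIdTerminal (X := U))
      ((isLimitMapConeEmptyConeEquiv _ _).symm (isTerminalPost u U))
  exact preservesLimitsOfShape_pempty_of_preservesTerminal _

instance hasFiniteLimits_over : HasFiniteLimits (Over U) :=
  hasFiniteLimits_of_hasTerminal_and_pullbacks

instance preservesFiniteLimits_post : PreservesFiniteLimits (Over.post (X := U) u) :=
  preservesFiniteLimits_of_preservesTerminal_and_pullbacks _

instance flat_post : RepresentablyFlat (Over.post (X := U) u) :=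
  flat_of_preservesFiniteLimits _

variable {J K} in
theorem isContinuous_post (hu : CoverPreserving J K u) :
    (Over.post (X := U) u).IsContinuous (J.over U) (K.over (u.obj U)) :=
  Functor.isContinuous_of_coverPreserving (compatiblePreservingOfFlat _ _) (hu.overPost U)

variable {J K} in
theorem nonempty_HU_addEquiv [u.IsContinuous J K] [u.IsCocontinuous J K]
    (hu : CoverPreserving J K u) (F : Sheaf K AddCommGrpCat.{u}) (p : ℕ) :
    Nonempty (CohSite.HU ((CohSite.push K J u).obj F) p U ≃+ CohSite.HU F p (u.obj U)) := by
  have := isContinuous_post u U hu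
  have : ReflectsLimits (forget AddCommGrpCat.{u}) := reflectsLimits_of_reflectsIsomorphisms
  have hlan : PreservesFiniteLimits ((Over.post (X := U) u).op.lan :
      ((Over U)ᵒᵖ ⥤ AddCommGrpCat.{u}) ⥤ ((Over (u.obj U))ᵒᵖ ⥤ AddCommGrpCat.{u})) :=
    lan_preservesFiniteLimits_of_flat (E := AddCommGrpCat.{u}) (Over.post (X := U) u)
  have hL : PreservesFiniteLimits ((Over.post (X := U) u).sheafPullback AddCommGrpCat.{u}
      (J.over U) (K.over (u.obj U))) :=
    Functor.sheafPullbackConstruction.preservesFiniteLimits _ AddCommGrpCat.{u} _ _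
  have hG : PreservesFiniteColimits ((Over.post (X := U) u).sheafPushforwardContinuous
      AddCommGrpCat.{u} (J.over U) (K.over (u.obj U))) := by
    have : PreservesColimitsOfSize.{0, 0} ((Over.post (X := U) u).sheafPushforwardContinuous
        AddCommGrpCat.{u} (J.over U) (K.over (u.obj U))) :=
      ((Over.post (X := U) u).sheafAdjunctionCocontinuous AddCommGrpCat.{u} (J.over U)
        (K.over (u.obj U))).leftAdjoint_preservesColimits
    exact PreservesColimitsOfSize.preservesFiniteColimits _
  obtain ⟨e₁⟩ := Groth.Agent.Lib.SiteCohCompare.nonempty_H_addEquiv.{u}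
    ((Over.post (X := U) u).sheafAdjunctionContinuous AddCommGrpCat.{u} (J.over U)
      (K.over (u.obj U))) Over.mkIdTerminal (isTerminalPost u U) (F.over (u.obj U)) p
  obtain ⟨e₂⟩ := Groth.Agent.Lib.OverShriekExt.nonempty_HU_equiv_H_over J U
    ((CohSite.push K J u).obj F) p
  obtain ⟨e₃⟩ := Groth.Agent.Lib.OverShriekExt.nonempty_HU_equiv_H_over K (u.obj U) F p
  exact ⟨e₂.trans (e₁.trans e₃.symm)⟩

end Groth.Agent.Lib.SiteCohLocal
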