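import Groth.Agent.S9319
import Mathlib.RingTheory.Finiteness.Finsupp
import Mathlib.LinearAlgebra.FiniteDimensional.Lemmas

/-!
# helper44: Euler characteristic of the six-term Jacobi–Zariski sequence for towers of fields

`chi K L = finrank Ω[L⁄K] - finrank H¹(L_{L/K})` is additive in towers of fields.
-/

set_option autoImplicit false
open Algebra KaehlerDifferential TensorProduct

universe u

namespace Groth.Agent.Lib.SixTermH44

section Generic

variable {F : Type*} [Field F] {V1 V2 V3 V4 V5 V6 : Type*}
  [AddCommGroup V1] [Module F V1] [AddCommGroup V2] [Module F V2] [AddCommGroup V3] [Module F V3]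
  [AddCommGroup V4] [Module F V4] [AddCommGroup V5] [Module F V5] [AddCommGroup V6] [Module F V6]

/-- Euler characteristic of a six-term exact sequence of vector spaces. -/
theorem six_term (a : V1 →ₗ[F] V2) (b : V2 →ₗ[F] V3) (c : V3 →ₗ[F] V4) (d : V4 →ₗ[F] V5)
    (e : V5 →ₗ[F] V6) (ha : Function.Injective a) (hab : Function.Exact a b)
    (hbc : Function.Exact b c) (hcd : Function.Exact c d) (hde : Function.Exact d e)
    (he : Function.Surjective e) [Module.Finite F V1] [Module.Finite F V3] [Module.Finite F V4]
    [Module.Finite F V6] :
    Module.Finite F V2 ∧ Module.Finite F V5 ∧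
      (Module.finrank F V5 : ℤ) - Module.finrank F V2 =
        ((Module.finrank F V4 : ℤ) - Module.finrank F V1) +
          ((Module.finrank F V6 : ℤ) - Module.finrank F V3) := by
  have f5 : Module.Finite F V5 := Module.Finite.of_exact hde he
  have f2 : Module.Finite F V2 := by
    have h1 : Function.Exact a (b.rangeRestrict) := by
      intro x
      rw [← hab x]
      constructor
      · intro h; simpa using congrArg Subtype.val h
      · intro h; exact Subtype.ext h
    exact Module.Finite.of_exact h1 b.surjective_rangeRestrict
  refine ⟨f2, f5, ?_⟩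
  have ra := LinearMap.finrank_range_of_inj ha
  have nb := LinearMap.finrank_range_add_finrank_ker b
  have nc := LinearMap.finrank_range_add_finrank_ker c
  have nd := LinearMap.finrank_range_add_finrank_ker d
  have ne := LinearMap.finrank_range_add_finrank_ker e
  rw [LinearMap.exact_iff.1 hab, ra] at nb
  rw [LinearMap.exact_iff.1 hbc] at nc
  rw [LinearMap.exact_iff.1 hcd] at nd
  rw [LinearMap.exact_iff.1 hde, LinearMap.range_eq_top.2 he, finrank_top] at ne
  omega

end Generic

section Fields

/-- the Euler characteristic `dim Ω - dim H¹` of a field extension -/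
noncomputable def chi (K L : Type u) [Field K] [Field L] [Algebra K L] : ℤ :=
  (Module.finrank L Ω[L⁄K] : ℤ) - Module.finrank L (H1Cotangent K L)

theorem tower (K L M : Type u) [Field K] [Field L] [Field M] [Algebra K L] [Algebra L M]
    [Algebra K M] [IsScalarTower K L M] [Module.Finite L Ω[L⁄K]]
    [Module.Finite L (H1Cotangent K L)] [Module.Finite M Ω[M⁄L]]
    [Module.Finite M (H1Cotangent L M)] :
    Module.Finite M Ω[M⁄K] ∧ Module.Finite M (H1Cotangent K M) ∧
      chi K M = chi K L + chi L M := by
  obtain ⟨f2, f5, h⟩ := six_term (F := M)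
    ((H1Cotangent.map K K L M).liftBaseChange M) (H1Cotangent.map K L M M)
    (H1Cotangent.δ K L M) (mapBaseChange K L M) (KaehlerDifferential.map K L M M)
    Groth.Agent.S9319.result
    (H1Cotangent.exact_liftBaseChange_map_of_flat K L M)
    (H1Cotangent.exact_map_δ K L M)
    (H1Cotangent.exact_δ_mapBaseChange K L M)
    (KaehlerDifferential.exact_mapBaseChange_map K L M)
    (KaehlerDifferential.map_surjective K L M)
  refine ⟨f5, f2, ?_⟩
  unfold chi
  rw [Module.finrank_baseChange, Module.finrank_baseChange] at h
  exact h

end Fields

end Groth.Agent.Lib.SixTermH44
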