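import Mathlib
import Groth.Agent.Lib.SkewHerm16
import Groth.Agent.Lib.AzInvSplitS16

/-!
# `2 × 2` skew-hermitian forms after adjoining square roots (helper16)

* `cg_two_gen` : over any commutative ring `K` with involution, a unimodular `2 × 2` skew-hermitian
  matrix with unit `(0,1)` entry is congruent to `J₂` as soon as `2` is a unit and there is a fixed
  `r` with `r² = 1 + α δ₁` and `1 + r` a unit (no locality needed: the last unit is forced by the
  determinant).
* `exists_unit_sqrt_data` : the unit `s` of the fixed ring and the congruence over any `B`-algebra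
  `C` containing a square root `ρ` of `s` with `1 + ρ` invertible.
* `main` : statement S17363 (cover of `B[√s, √1]` by `D(1 + X₀)`, `D(1 - X₀)`).
-/

set_option autoImplicit false
set_option linter.style.haveILetI false
set_option linter.unusedSectionVars false
set_option linter.unusedSimpArgs false
set_option linter.unusedVariables false

namespace Groth.Agent.Lib.SkewTwo16
open Matrix Groth.Agent.Lib.RInvHerm Groth.Agent.Lib.SkewHerm16

section gen
variable {K : Type*} [CommRing K] (lamK : K ≃+* K) (hlamK : Function.Involutive lamK)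

include hlamK in
/-- **`2 × 2` skew-hermitian forms are standard once a suitable square root is available**:
no locality, no fixed ring; the needed units are hypotheses. -/
theorem cg_two_gen (h2 : IsUnit (2 : K))
    (a : Matrix (Fin 2) (Fin 2) K) (ha : IsUnit a) (herm : (-1 : K) • st lamK a = a)
    (βi : K) (hββi : a 0 1 * βi = 1)
    (r zi : K) (hrfix : lamK r = r) (hz1 : (1 + r) * zi = 1)
    (hrr : r * r = 1 + a 0 0 * (lamK βi * a 1 1 * βi)) :
    Cg lamK a (J₂ : Matrix (Fin 2) (Fin 2) K) := by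
  -- entries
  set α := a 0 0 with hα
  set β := a 0 1 with hβd
  set γ := a 1 0 with hγ
  set δ := a 1 1 with hδ
  have ha' : a = !![α, β; γ, δ] := Matrix.eta_fin_two a
  have e00 : lamK α = -α := by
    have := herm_apply lamK (-1) herm 0 0
    have h' : α = -lamK α := by rw [hα]; simpa using this
    exact (neg_eq_iff_eq_neg.mpr h').symm
  have e11 : lamK δ = -δ := by
    have := herm_apply lamK (-1) herm 1 1
    have h' : δ = -lamK δ := by rw [hδ]; simpa using this
    exact (neg_eq_iff_eq_neg.mpr h').symm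
  have e10 : γ = -lamK β := by
    have := herm_apply lamK (-1) herm 1 0
    simpa using this
  -- step 1: scale
  set δ₁ : K := lamK βi * δ * βi with hδ₁
  have s1 : Cg lamK a !![α, 1; -1, δ₁] := by
    rw [ha']
    have := cg_two_of lamK 1 0 0 βi α β γ δ
      (by rw [one_mul, zero_mul, sub_zero]; exact IsUnit.of_mul_eq_one _ (by rw [mul_comm]; exact hββi))
    have h1 : lamK βi * lamK β = 1 := by rw [← map_mul, mul_comm, hββi, map_one]
    refine this.trans (Cg.of_eq lamK (two_ext ?_ ?_ ?_ ?_))
    · simp only [map_one, map_zero, mul_zero, mul_one, add_zero, zero_mul, one_mul]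
    · simp only [map_one, map_zero, mul_zero, add_zero, zero_mul, zero_add, one_mul]
      exact hββi
    · simp only [map_one, map_zero, mul_zero, mul_one, add_zero, zero_mul, zero_add]
      rw [e10, mul_neg, h1]
    · simp only [map_zero, mul_zero, zero_mul, zero_add]
      rw [hδ₁]; ring
  have eδ₁ : lamK δ₁ = -δ₁ := by
    rw [hδ₁, map_mul, map_mul, hlamK βi, e11]; ring
  set c : K := α * δ₁ with hc
  have hzifix : lamK zi = zi := by
    have h1 : lamK zi * (1 + r) = 1 := by
      have := congrArg lamK hz1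
      rw [map_mul, map_add, map_one, hrfix] at this
      rw [mul_comm]; exact this
    calc lamK zi = lamK zi * ((1 + r) * zi) := by rw [hz1, mul_one]
      _ = (lamK zi * (1 + r)) * zi := by ring
      _ = zi := by rw [h1, one_mul]
  -- step 2: an isotropic vector
  set y : K := -(α * zi) with hy
  have ey : lamK y = -y := by rw [hy, map_neg, map_mul, e00, hzifix]; ring
  have hiso : α + 2 * y - y * y * δ₁ = 0 := by
    have : α + 2 * y - y * y * δ₁ = α * (1 - 2 * zi - c * zi ^ 2) := by rw [hy, hc]; ring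
    rw [this]
    have : 1 - 2 * zi - c * zi ^ 2 = 0 := by
      linear_combination (-(1 + (r - 1) * zi)) * hz1 + zi ^ 2 * hrr
    rw [this, mul_zero]
  set μ : K := 1 - y * δ₁ with hμ
  have hμfix : lamK μ = μ := by rw [hμ, map_sub, map_one, map_mul, ey, eδ₁]; ring
  have s2 : Cg lamK !![α, 1; -1, δ₁] !![0, μ; -μ, δ₁] := by
    have := cg_two_of lamK 1 0 y 1 α 1 (-1) δ₁ (by simp)
    refine this.trans (Cg.of_eq lamK (two_ext ?_ ?_ ?_ ?_))
    · simp only [map_one, mul_one, one_mul, ey]
      linear_combination hiso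
    · simp only [map_one, mul_zero, mul_one, zero_add, one_mul, ey]
      rw [hμ]; ring
    · simp only [map_one, map_zero, mul_one, zero_mul, zero_add, one_mul]
      rw [hμ]; ring
    · simp only [map_one, map_zero, mul_zero, mul_one, zero_mul, zero_add, one_mul]
  have hμu : IsUnit μ := by
    have h3 : IsUnit (!![0, μ; -μ, δ₁] : Matrix (Fin 2) (Fin 2) K) := (s1.trans s2).isUnit ha
    rw [Matrix.isUnit_iff_isUnit_det, Matrix.det_fin_two_of] at h3
    have : (0 : K) * δ₁ - μ * -μ = μ * μ := by ring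
    rw [this] at h3
    exact isUnit_of_mul_isUnit_left h3
  -- step 3: scale
  obtain ⟨μu, hμu'⟩ := hμu
  set μi : K := ↑μu⁻¹ with hμi
  have hμμi : μ * μi = 1 := by rw [← hμu', hμi, Units.mul_inv]
  have hμifix : lamK μi = μi := by
    have h1 : lamK μi * μ = 1 := by
      have := congrArg lamK hμμi
      rw [map_mul, hμfix, map_one] at this
      rw [mul_comm]; exact this
    calc lamK μi = lamK μi * (μ * μi) := by rw [hμμi, mul_one]
      _ = (lamK μi * μ) * μi := by ring
      _ = μi := by rw [h1, one_mul]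
  set δ₃ : K := μi * δ₁ * μi with hδ₃
  have eδ₃ : lamK δ₃ = -δ₃ := by rw [hδ₃, map_mul, map_mul, hμifix, eδ₁]; ring
  have s3 : Cg lamK !![0, μ; -μ, δ₁] !![0, 1; -1, δ₃] := by
    have := cg_two_of lamK 1 0 0 μi 0 μ (-μ) δ₁
      (by rw [one_mul, zero_mul, sub_zero]; exact ⟨μu⁻¹, rfl⟩)
    refine this.trans (Cg.of_eq lamK (two_ext ?_ ?_ ?_ ?_))
    · simp only [map_zero, mul_zero, zero_mul, add_zero, mul_one]
    · simp only [map_one, map_zero, mul_zero, zero_mul, add_zero, zero_add, one_mul]
      exact hμμi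
    · simp only [map_zero, mul_zero, zero_mul, add_zero, zero_add, mul_one, hμifix]
      rw [mul_neg, mul_comm, hμμi]
    · simp only [map_zero, mul_zero, zero_mul, zero_add, hμifix]
      rw [hδ₃]; ring
  -- step 4: make the second vector isotropic
  obtain ⟨t, ht⟩ := h2.exists_left_inv
  have htfix : lamK t = t := by
    have h1 : lamK t * 2 = 1 := by
      have := congrArg lamK ht
      rwa [map_mul, map_ofNat, map_one] at this
    calc lamK t = lamK t * (t * 2) := by rw [ht, mul_one]
      _ = (lamK t * 2) * t := by ring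
      _ = t := by rw [h1, one_mul]
  set κ : K := t * δ₃ with hκ
  have eκ : lamK κ = -κ := by rw [hκ, map_mul, htfix, eδ₃]; ring
  have s4 : Cg lamK !![0, 1; -1, δ₃] (J₂ : Matrix (Fin 2) (Fin 2) K) := by
    have := cg_two_of lamK 1 κ 0 1 0 1 (-1) δ₃ (by simp)
    unfold J₂
    refine this.trans (Cg.of_eq lamK (two_ext ?_ ?_ ?_ ?_))
    · simp only [map_one, map_zero, mul_zero, mul_one, add_zero, zero_mul]
    · simp only [map_one, map_zero, mul_one, add_zero, zero_mul, zero_add, one_mul]
    · simp only [map_one, mul_zero, mul_one, add_zero, zero_mul, zero_add, one_mul, eκ]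
    · simp only [map_one, mul_one, zero_mul, zero_add, one_mul, eκ]
      have : -κ + (-1 * κ + δ₃) = (1 - t * 2) * δ₃ := by rw [hκ]; ring
      rw [this, ht, sub_self, zero_mul]
  exact s1.trans (s2.trans (s3.trans s4))

end gen
end Groth.Agent.Lib.SkewTwo16

namespace Groth.Agent.Lib.SkewTwo16
open Matrix Groth.Agent.Lib.RInvHerm Groth.Agent.Lib.SkewHerm16 Groth.Agent.Lib.RInv88
open Groth.Agent.Lib.ShDescent16
open scoped TensorProduct

section app
universe u v
variable {B : Type u} {A : Type v} [CommRing B] [CommRing A] [Algebra B A]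
  (lam : A ≃ₐ[B] A) (hlam : ∀ a, lam (lam a) = a) (hB : RInv.IsFixedRing B A lam.toRingEquiv)

include hlam hB in
/-- the unit `s` of the fixed ring whose square root standardises a `2 × 2` skew-hermitian form -/
theorem exists_unit_sqrt_data [Nontrivial A] (h2 : IsUnit (2 : A))
    (h : Matrix (Fin 2) (Fin 2) A) (hh : IsUnit h) (herm : -(h.map lam).transpose = h)
    (hJ : ∀ i j : Fin 2, h i j - Matrix.of ![![(0 : A), 1], ![-1, 0]] i j ∈ Ring.jacobson A) :
    ∃ (s : Bˣ), ∀ (C : Type u) [CommRing C] [Algebra B C] (ρ ζ : C)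
      (_ : ρ * ρ = algebraMap B C s) (_ : (1 + ρ) * ζ = 1),
      ∃ v : Matrix (Fin 2) (Fin 2) (C ⊗[B] A), IsUnit v ∧
        (v.map (Algebra.TensorProduct.congr (AlgEquiv.refl : C ≃ₐ[C] C) lam)).transpose *
            h.map (Algebra.TensorProduct.includeRight : A →ₐ[B] C ⊗[B] A) * v
          = (Matrix.of ![![(0 : A), 1], ![-1, 0]]).map
              (Algebra.TensorProduct.includeRight : A →ₐ[B] C ⊗[B] A) := by
  have hlamI : Function.Involutive lam.toRingEquiv := hlam
  have hJu : ∀ x : A, x ∈ Ring.jacobson A → ∀ y : A, IsUnit (1 + x * y) := by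
    intro x hx y
    have := (mem_jacobson_iff x).1 hx y
    rwa [add_comm] at this
  have hst : (-1 : A) • st lam.toRingEquiv h = h := by
    rw [neg_one_smul]; exact herm
  set α := h 0 0 with hα
  set β := h 0 1 with hβ
  set δ := h 1 1 with hδ
  have hαJ : α ∈ Ring.jacobson A := by
    have := hJ 0 0
    simpa using this
  have hβJ : β - 1 ∈ Ring.jacobson A := by
    have := hJ 0 1
    simpa using this
  have hβu : IsUnit β := by
    have := hJu _ hβJ 1
    have e : 1 + (β - 1) * 1 = β := by ring
    rwa [e] at this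
  obtain ⟨βu, hβu'⟩ := hβu
  set βi : A := ↑βu⁻¹ with hβi
  have hββi : β * βi = 1 := by rw [← hβu', hβi, Units.mul_inv]
  have e00 : lam α = -α := by
    have := herm_apply lam.toRingEquiv (-1) hst 0 0
    have h' : α = -lam α := by rw [hα]; simpa using this
    exact (neg_eq_iff_eq_neg.mpr h').symm
  have e11 : lam δ = -δ := by
    have := herm_apply lam.toRingEquiv (-1) hst 1 1
    have h' : δ = -lam δ := by rw [hδ]; simpa using this
    exact (neg_eq_iff_eq_neg.mpr h').symm
  set δ₁ : A := lam βi * δ * βi with hδ₁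
  have eδ₁ : lam δ₁ = -δ₁ := by
    rw [hδ₁, map_mul, map_mul, hlam βi, e11]; ring
  set c : A := α * δ₁ with hc
  have hcfix : lam.toRingEquiv c = c := by
    change lam c = c
    rw [hc, map_mul, e00, eδ₁]; ring
  obtain ⟨c₀, hc₀⟩ := (hB.2 c).1 hcfix
  have hcu : IsUnit (1 + c) := hJu α hαJ δ₁
  have hc₀u : IsUnit (1 + c₀) := by
    rw [← isUnit_algebraMap_iff lam.toRingEquiv hB, map_add, map_one, hc₀]
    exact hcu
  refine ⟨hc₀u.unit, ?_⟩
  intro C _ _ ρ ζ hρ hζ
  rw [IsUnit.unit_spec] at hρ
  -- the ring `K = C ⊗ A`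
  let ι : A →ₐ[B] C ⊗[B] A := Algebra.TensorProduct.includeRight
  have hlamK : Function.Involutive (lamT C lam).toRingEquiv := lamT_involutive C lam hlam
  have hι : ∀ a : A, (lamT C lam).toRingEquiv (ι a) = ι (lam a) := by
    intro a
    change lamT C lam ((1 : C) ⊗ₜ[B] a) = (1 : C) ⊗ₜ[B] lam a
    rw [lamT_tmul]
  have h2K : IsUnit (2 : C ⊗[B] A) := by
    have := h2.map ι
    rwa [map_ofNat] at this
  have haK : IsUnit (h.map ι) := by
    have := hh.map (RingHom.mapMatrix (ι : A →+* C ⊗[B] A))
    exact this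
  have hermK : (-1 : C ⊗[B] A) • st (lamT C lam).toRingEquiv (h.map ι) = h.map ι := by
    ext i j
    have := herm_apply lam.toRingEquiv (-1) hst i j
    rw [Matrix.smul_apply, st_apply, Matrix.map_apply, Matrix.map_apply, hι, smul_eq_mul,
      neg_one_mul, ← map_neg]
    congr 1
    rw [this]
    simp
  have key := cg_two_gen (lamT C lam).toRingEquiv hlamK h2K (h.map ι) haK hermK (ι βi)
    (by rw [Matrix.map_apply, ← map_mul, hββi, map_one])
    (ρ ⊗ₜ[B] (1 : A)) (ζ ⊗ₜ[B] (1 : A))
    (by change lamT C lam (ρ ⊗ₜ[B] (1 : A)) = _; rw [lamT_tmul, map_one])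
    (by
      have : (1 : C ⊗[B] A) = (1 : C) ⊗ₜ[B] (1 : A) := rfl
      rw [this, ← TensorProduct.add_tmul, Algebra.TensorProduct.tmul_mul_tmul, hζ, mul_one])
    (by
      rw [Matrix.map_apply, Matrix.map_apply, hι, ← map_mul, ← map_mul, ← map_mul,
        Algebra.TensorProduct.tmul_mul_tmul, hρ, mul_one]
      change _ = 1 + ι c
      rw [← hc₀, ← map_one ι, ← map_add]
      change algebraMap B C (1 + c₀) ⊗ₜ[B] (1 : A) = (1 : C) ⊗ₜ[B] (1 + algebraMap B A c₀)
      rw [Algebra.algebraMap_eq_smul_one, TensorProduct.smul_tmul, Algebra.smul_def, mul_one,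
        map_add, map_one])
  obtain ⟨v, hv, hv'⟩ := key
  refine ⟨v, hv, ?_⟩
  rw [show (v.map (Algebra.TensorProduct.congr (AlgEquiv.refl : C ≃ₐ[C] C) lam)).transpose =
    st (lamT C lam).toRingEquiv v from rfl]
  rw [show (h.map (Algebra.TensorProduct.includeRight : A →ₐ[B] C ⊗[B] A)) = h.map ι from rfl, hv']
  ext i j
  fin_cases i <;> fin_cases j <;>
    simp [J₂, ← Algebra.TensorProduct.one_def, TensorProduct.tmul_neg]

end app
end Groth.Agent.Lib.SkewTwo16

namespace Groth.Agent.Lib.SkewTwo16
open Matrix Groth.Agent.Lib.RInvHerm Groth.Agent.Lib.SkewHerm16 Groth.Agent.Lib.RInv88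
open Groth.Agent.Lib.ShDescent16
open scoped TensorProduct

section main
universe u v

theorem main (B : Type u) (A : Type v) [CommRing B] [CommRing A]
    [Algebra B A] (lam : A ≃ₐ[B] A) (hlam : ∀ a, lam (lam a) = a) (hB : RInv.IsFixedRing B A lam.toRingEquiv)
    [IsLocalRing B] (hid : ∀ a : A, lam a - a ∈ Ring.jacobson A) (h2 : IsUnit (2 : A))
    (h : Matrix (Fin 2) (Fin 2) A) (hh : IsUnit h) (herm : -(h.map lam).transpose = h)
    (hJ : ∀ i j : Fin 2, h i j - Matrix.of ![![(0 : A), 1], ![-1, 0]] i j ∈ Ring.jacobson A) :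
    ∃ (s t : Bˣ) (r : ℕ) (f : Fin r → (MvPolynomial (Fin 2) B ⧸ Ideal.span ({MvPolynomial.X 0 ^ 2 - MvPolynomial.C (s : B), MvPolynomial.X 1 ^ 2 - MvPolynomial.C (t : B)} : Set (MvPolynomial (Fin 2) B)))),
      Ideal.span (Set.range f) = ⊤ ∧
      ∀ i : Fin r, ∃ v : Matrix (Fin 2) (Fin 2) (Localization.Away (f i) ⊗[B] A), IsUnit v ∧
        (v.map (Algebra.TensorProduct.congr (AlgEquiv.refl : Localization.Away (f i) ≃ₐ[Localization.Away (f i)] Localization.Away (f i)) lam)).transpose * h.map (Algebra.TensorProduct.includeRight : A →ₐ[B] Localization.Away (f i) ⊗[B] A) * v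
          = (Matrix.of ![![(0 : A), 1], ![-1, 0]]).map (Algebra.TensorProduct.includeRight : A →ₐ[B] Localization.Away (f i) ⊗[B] A) := by
  haveI : Nontrivial A := nontrivial_of_nontrivial lam.toRingEquiv hB
  obtain ⟨s, hs⟩ := exists_unit_sqrt_data lam hlam hB h2 h hh herm hJ
  have h2B : IsUnit (2 : B) := by
    rw [← isUnit_algebraMap_iff lam.toRingEquiv hB, map_ofNat]
    exact h2
  refine ⟨s, 1, 2, ?_⟩
  set I : Ideal (MvPolynomial (Fin 2) B) :=
    Ideal.span ({MvPolynomial.X 0 ^ 2 - MvPolynomial.C (s : B),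
      MvPolynomial.X 1 ^ 2 - MvPolynomial.C ((1 : Bˣ) : B)} : Set (MvPolynomial (Fin 2) B)) with hI
  set x : MvPolynomial (Fin 2) B ⧸ I := Ideal.Quotient.mk I (MvPolynomial.X 0) with hx
  have hxx : x * x = algebraMap B (MvPolynomial (Fin 2) B ⧸ I) s := by
    rw [hx, ← map_mul]
    change _ = Ideal.Quotient.mk I (MvPolynomial.C (s : B))
    rw [Ideal.Quotient.eq, ← pow_two]
    exact Ideal.subset_span (Set.mem_insert _ _)
  refine ⟨![1 + x, 1 - x], ?_, ?_⟩
  · rw [Ideal.eq_top_iff_one]
    obtain ⟨t, ht⟩ := h2B.exists_left_inv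
    have h1 : (1 : MvPolynomial (Fin 2) B ⧸ I) =
        algebraMap B _ t * ((1 + x) + (1 - x)) := by
      have : (1 + x) + (1 - x) = algebraMap B (MvPolynomial (Fin 2) B ⧸ I) 2 := by
        rw [map_ofNat]; ring
      rw [this, ← map_mul, ht, map_one]
    have hmem : algebraMap B _ t * ((1 + x) + (1 - x)) ∈
        Ideal.span (Set.range ![1 + x, 1 - x]) := by
      refine Ideal.mul_mem_left _ _ (Ideal.add_mem _ ?_ ?_)
      · exact Ideal.subset_span ⟨0, rfl⟩
      · exact Ideal.subset_span ⟨1, rfl⟩
    rwa [← h1] at hmem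
  · intro i
    fin_cases i
    · refine hs (Localization.Away (![1 + x, 1 - x] 0))
        (algebraMap _ _ x) (IsLocalization.Away.invSelf (![1 + x, 1 - x] 0)) ?_ ?_
      · rw [← map_mul, hxx, ← IsScalarTower.algebraMap_apply]
      · have := IsLocalization.Away.mul_invSelf (S := Localization.Away (![1 + x, 1 - x] 0))
          (![1 + x, 1 - x] 0)
        have e : (1 : Localization.Away (![1 + x, 1 - x] 0)) + algebraMap _ _ x =
            algebraMap _ _ (![1 + x, 1 - x] 0) := by
          rw [Matrix.cons_val_zero, map_add, map_one]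
        rw [e]
        exact this
    · refine hs (Localization.Away (![1 + x, 1 - x] 1))
        (-algebraMap _ _ x) (IsLocalization.Away.invSelf (![1 + x, 1 - x] 1)) ?_ ?_
      · rw [neg_mul_neg, ← map_mul, hxx, ← IsScalarTower.algebraMap_apply]
      · have := IsLocalization.Away.mul_invSelf (S := Localization.Away (![1 + x, 1 - x] 1))
          (![1 + x, 1 - x] 1)
        have e : (1 : Localization.Away (![1 + x, 1 - x] 1)) + -algebraMap _ _ x =
            algebraMap _ _ (![1 + x, 1 - x] 1) := by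
          rw [Matrix.cons_val_one, Matrix.cons_val_zero, map_sub, map_one]
          ring
        rw [e]
        exact this

end main
end Groth.Agent.Lib.SkewTwo16

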