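import Groth.Agent.Lib.CurveVB54b
import Groth.Agent.Lib.H4TwistGamma

/-!
# Slope bound for locally free submodules on an integral proper curve (helper48; for S18774)

* `finrank_H0_structureModule_pos` : `1 ≤ h^0(X, O_X)` for `X` nonempty proper over `k`.
* `deg_le_rank_mul` : `deg F ≤ r' (h^0(E) + g − 1)` for a quasi-coherent submodule `F` of a coherent `E`
  (degree computed as for rank `r' ≥ 1`).
-/

set_option autoImplicit false
set_option linter.style.haveILetI false
universe u

open CategoryTheory CategoryTheory.Limits AlgebraicGeometry TopologicalSpace Opposite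

namespace Groth.Agent.Lib.SlopeBound48

open Groth.Agent.Lib.ProperFinHyp

lemma aux1 (χF χO : ℤ) (hE hO gO r' : ℕ) (h1 : χF ≤ (hE : ℤ)) (h2 : χO = (hO : ℤ) - (gO : ℤ))
    (h3 : 1 ≤ hO) (hr : 0 < r') :
    χF - (r' : ℤ) * χO ≤ (r' : ℤ) * ((hE : ℤ) + (gO : ℤ) - 1) := by
  subst h2
  have h3' : (1 : ℤ) ≤ (hO : ℤ) := by exact_mod_cast h3
  have hr' : (1 : ℤ) ≤ (r' : ℤ) := by exact_mod_cast hr
  have hE0 : (0 : ℤ) ≤ (hE : ℤ) := Int.natCast_nonneg _
  nlinarith [mul_nonneg (sub_nonneg.mpr hr') hE0, mul_nonneg (sub_nonneg.mpr h3') (le_trans zero_le_one hr')]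

variable (H : Hyp.{u}) (k : Type u) [Field k] (X : Scheme.{u}) [X.Over (Spec (CommRingCat.of k))]
  [IsProper (X ↘ (Spec (CommRingCat.of k)))]

include H in
theorem finrank_H0_structureModule_pos [Nonempty X] :
    1 ≤ Module.finrank k (Coh.HH X (Coh.structureModule X) 0) := by
  have hcoh : Coh.IsCoh (Coh.structureModule X) :=
    Groth.Agent.Lib.H90Invertible.isCoh_of_isInvertible
      (Groth.Agent.Lib.H90Invertible.isInvertible_structureModule X)
  haveI : Module.Finite k (Coh.HH X (Coh.structureModule X) 0) := H k X _ hcoh 0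
  haveI : Nonempty (⊤ : X.Opens) := ⟨⟨Classical.arbitrary X, trivial⟩⟩
  haveI : Nontrivial Γ(X, ⊤) := inferInstance
  let e := Groth.Agent.Lib.H4Twist.h0Equiv (Coh.structureModule X)
  haveI : Nontrivial (Coh.HH X (Coh.structureModule X) 0) := by
    obtain ⟨a, b, hab⟩ := exists_pair_ne Γ(X, ⊤)
    exact ⟨⟨e.symm a, e.symm b, fun h => hab (e.symm.injective h)⟩⟩
  exact Module.finrank_pos

variable [IsIntegral X] (hdim : topologicalKrullDim X ≤ 1)

include H hdim in
theorem deg_le_rank_mul {F E : X.Modules} [F.IsQuasicoherent] (hE : Coh.IsCoh E) (i : F ⟶ E) [Mono i]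
    (r' : ℕ) (hr' : 0 < r') :
    Curv2.deg k X F r' ≤
      (r' : ℤ) * ((Module.finrank k (Coh.HH X E 0) : ℤ) + (Curv2.genus k X : ℤ) - 1) := by
  have h1 := Groth.Agent.Lib.CurveVB54b.euler_le_finrank_of_mono H k X hdim hE i
  have hcoh : Coh.IsCoh (Coh.structureModule X) :=
    Groth.Agent.Lib.H90Invertible.isCoh_of_isInvertible
      (Groth.Agent.Lib.H90Invertible.isInvertible_structureModule X)
  haveI : (Coh.structureModule X).IsQuasicoherent := hcoh.1
  have h2 := Groth.Agent.Lib.RiemannRoch54.euler_eq_sub k X hdim (Coh.structureModule X)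
  have h3 := finrank_H0_structureModule_pos H k X
  exact aux1 _ _ _ _ _ _ h1 h2 h3 hr'

end Groth.Agent.Lib.SlopeBound48
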