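import Mathlib

/-!
# Sheaves on the small étale site: Zariski + affine surjective singletons (helper52)

`K2Data W`: a family `V a ⟶ W a ⟶ W` of étale `X`-schemes with `W a ⟶ W` jointly surjective open
immersions with affine source and `V a ⟶ W a` surjective with affine source.  Such families form a
`Coverage` generating the small étale topology, and a presheaf which is a Zariski sheaf and satisfies the
sheaf condition for affine surjective singletons satisfies it for all such families.
-/

set_option autoImplicit false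
set_option linter.style.haveILetI false
set_option backward.isDefEq.respectTransparency false
set_option backward.defeqAttrib.useBackward true

universe w u
open CategoryTheory AlgebraicGeometry Limits Opposite

namespace Groth.Agent.Lib.SmallEtSheafH52

variable {X : Scheme.{u}}

/-- The Zariski topology on the small étale site. -/
noncomputable def zarTop (X : Scheme.{u}) : GrothendieckTopology X.Etale :=
  X.smallGrothendieckTopology (P := @IsOpenImmersion)

theorem zarTop_eq (X : Scheme.{u}) : zarTop X =
    (Scheme.smallPretopology (S := X) (P := @IsOpenImmersion) (Q := @Etale)).toGrothendieck := by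
  unfold zarTop
  exact Scheme.smallGrothendieckTopology_eq_toGrothendieck_smallPretopology X (fun _ _ f hf => by
    have : IsOpenImmersion f := hf
    infer_instance)

theorem mem_zarTop (W : X.Etale) (R : Sieve W) : R ∈ zarTop X W ↔
    ∀ x : W.left, ∃ (Y : X.Etale) (f : Y ⟶ W) (y : Y.left),
      R.arrows f ∧ IsOpenImmersion f.left ∧ f.left y = x := by
  rw [zarTop_eq]
  exact Scheme.mem_toGrothendieck_smallPretopology W R

theorem mem_etTop (W : X.Etale) (R : Sieve W) : R ∈ X.smallEtaleTopology W ↔
    ∀ x : W.left, ∃ (Y : X.Etale) (f : Y ⟶ W) (y : Y.left), R.arrows f ∧ f.left y = x := by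
  unfold Scheme.smallEtaleTopology
  rw [Scheme.smallGrothendieckTopology_eq_toGrothendieck_smallPretopology X le_rfl]
  refine (Scheme.mem_toGrothendieck_smallPretopology W R).trans ?_
  constructor
  · intro h x
    obtain ⟨Y, f, y, h1, h2, h3⟩ := h x
    exact ⟨Y, f, y, h1, h3⟩
  · intro h x
    obtain ⟨Y, f, y, h1, h3⟩ := h x
    exact ⟨Y, f, y, h1, inferInstance, h3⟩

theorem zarTop_le_etTop (X : Scheme.{u}) : zarTop X ≤ X.smallEtaleTopology := by
  intro W R hR
  rw [mem_zarTop] at hR
  rw [mem_etTop]
  intro x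
  obtain ⟨Y, f, y, h1, h2, h3⟩ := hR x
  exact ⟨Y, f, y, h1, h3⟩

/-- An open of an étale `X`-scheme as an étale `X`-scheme. -/
noncomputable def openObj (W : X.Etale) (O : W.left.Opens) : X.Etale :=
  Scheme.Etale.mk (O.ι ≫ W.hom)

/-- The inclusion of an open. -/
noncomputable def openHom (W : X.Etale) (O : W.left.Opens) : openObj W O ⟶ W :=
  MorphismProperty.Over.homMk O.ι rfl

@[simp] theorem openObj_left (W : X.Etale) (O : W.left.Opens) : (openObj W O).left = (O : Scheme.{u}) := rfl

@[simp] theorem openHom_left (W : X.Etale) (O : W.left.Opens) : (openHom W O).left = O.ι := rfl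

instance (W : X.Etale) (O : W.left.Opens) : IsOpenImmersion (openHom W O).left := by
  rw [openHom_left]; infer_instance

theorem isAffine_openObj (W : X.Etale) (O : W.left.Opens) (hO : IsAffineOpen O) :
    IsAffine (openObj W O).left := hO

/-- Zariski separatedness through affine opens. -/
theorem ext_of_affineOpens (F : X.Etaleᵒᵖ ⥤ Type w) (hZ : Presieve.IsSheaf (zarTop X) F)
    (Z : X.Etale) (s t : F.obj (op Z))
    (h : ∀ O : Z.left.affineOpens, F.map (openHom Z O.1).op s = F.map (openHom Z O.1).op t) :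
    s = t := by
  let R : Sieve Z :=
    { arrows := fun Y f => F.map f.op s = F.map f.op t
      downward_closed := by
        intro Y Y' f hf g
        rw [op_comp, Functor.map_comp_apply, Functor.map_comp_apply, hf] }
  have hR : R ∈ zarTop X Z := by
    rw [mem_zarTop]
    intro x
    obtain ⟨O, hO, hxO, -⟩ := TopologicalSpace.Opens.isBasis_iff_nbhd.mp (Scheme.isBasis_affineOpens Z.left)
      (show x ∈ (⊤ : Z.left.Opens) from trivial)
    refine ⟨openObj Z O, openHom Z O, ⟨x, hxO⟩, h ⟨O, hO⟩, inferInstance, rfl⟩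
  exact (hZ R hR).isSeparatedFor.ext (fun Y f hf => hf)


/-- The functor `X.Etale ⥤ Scheme` forgetting the structure morphism. -/
noncomputable def leftFunctor (X : Scheme.{u}) : X.Etale ⥤ Scheme.{u} :=
  Scheme.Etale.forget X ⋙ Over.forget X

instance (X : Scheme.{u}) : PreservesLimitsOfShape WalkingCospan (leftFunctor X) := by
  unfold leftFunctor; infer_instance

section pullback

variable {A B C : X.Etale} (f : A ⟶ C) (g : B ⟶ C)

/-- Pullbacks in `X.Etale` are computed in schemes. -/
noncomputable def pullbackLeftIso : (pullback f g).left ≅ pullback f.left g.left :=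
  PreservesPullback.iso (leftFunctor X) f g

theorem pullbackLeftIso_hom_fst :
    (pullbackLeftIso f g).hom ≫ pullback.fst f.left g.left = (pullback.fst f g).left :=
  PreservesPullback.iso_hom_fst (leftFunctor X) f g

theorem pullbackLeftIso_hom_snd :
    (pullbackLeftIso f g).hom ≫ pullback.snd f.left g.left = (pullback.snd f g).left :=
  PreservesPullback.iso_hom_snd (leftFunctor X) f g

theorem isAffine_pullback_left [IsAffine A.left] [IsAffine B.left] [IsAffine C.left] :
    IsAffine (pullback f g).left :=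
  IsAffine.of_isIso (pullbackLeftIso f g).hom

theorem surjective_snd_left [Surjective f.left] : Surjective (pullback.snd f g).left := by
  rw [← pullbackLeftIso_hom_snd]
  infer_instance

theorem surjective_fst_left [Surjective g.left] : Surjective (pullback.fst f g).left := by
  rw [← pullbackLeftIso_hom_fst]
  infer_instance

theorem exists_preimage_pullback_left (a : A.left) (b : B.left) (h : f.left a = g.left b) :
    ∃ z : (pullback f g).left, (pullback.fst f g).left z = a ∧ (pullback.snd f g).left z = b := by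
  obtain ⟨z, hz1, hz2⟩ := Scheme.Pullback.exists_preimage_pullback (f := f.left) (g := g.left) a b h
  refine ⟨(pullbackLeftIso f g).inv z, ?_, ?_⟩
  · rw [← pullbackLeftIso_hom_fst, ← Scheme.Hom.comp_apply, Iso.inv_hom_id_assoc, hz1]
  · rw [← pullbackLeftIso_hom_snd, ← Scheme.Hom.comp_apply, Iso.inv_hom_id_assoc, hz2]

end pullback


/-- A family `V a ⟶ W a ⟶ W`: jointly surjective open immersions `W a ⟶ W` with affine source, each
followed by a surjective morphism `V a ⟶ W a` with affine source. -/
structure K2Data (W : X.Etale) where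
  /-- index type -/
  A : Type u
  /-- the opens -/
  Wa : A → X.Etale
  /-- the covers of the opens -/
  Va : A → X.Etale
  /-- the open immersions -/
  j : ∀ a, Wa a ⟶ W
  /-- the surjections -/
  p : ∀ a, Va a ⟶ Wa a
  open_j : ∀ a, IsOpenImmersion (j a).left
  affW : ∀ a, IsAffine (Wa a).left
  affV : ∀ a, IsAffine (Va a).left
  surj : ∀ a, Surjective (p a).left
  cov : ∀ w : W.left, ∃ a, w ∈ Set.range (j a).left

/-- The presieve of the composites. -/
def K2Data.presieve {W : X.Etale} (D : K2Data W) : Presieve W :=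
  Presieve.ofArrows D.Va (fun a => D.p a ≫ D.j a)

/-- The affine-singleton sheaf condition. -/
def AffSingleton (F : X.Etaleᵒᵖ ⥤ Type w) : Prop :=
  ∀ (U V : X.Etale) [IsAffine U.left] [IsAffine V.left] (f : V ⟶ U) [Surjective f.left],
    Presieve.IsSheafFor F (Presieve.singleton f)

theorem AffSingleton.ext {F : X.Etaleᵒᵖ ⥤ Type w} (hA : AffSingleton F) {U V : X.Etale}
    [IsAffine U.left] [IsAffine V.left] (f : V ⟶ U) [Surjective f.left] (s t : F.obj (op U))
    (h : F.map f.op s = F.map f.op t) : s = t := by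
  refine (hA U V f).isSeparatedFor.ext ?_
  intro Y g hg
  cases hg
  exact h

/-- Key compatibility in the affine case. -/
theorem compat_affine {F : X.Etaleᵒᵖ ⥤ Type w} (hA : AffSingleton F) {W : X.Etale} (D : K2Data W)
    (x : ∀ a, F.obj (op (D.Va a)))
    (hx : Presieve.Arrows.Compatible F (fun a => D.p a ≫ D.j a) x)
    (y : ∀ a, F.obj (op (D.Wa a))) (hy : ∀ a, F.map (D.p a).op (y a) = x a)
    (a b : D.A) (Z : X.Etale) [IsAffine Z.left] (ga : Z ⟶ D.Wa a) (gb : Z ⟶ D.Wa b)
    (hg : ga ≫ D.j a = gb ≫ D.j b) : F.map ga.op (y a) = F.map gb.op (y b) := by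
  haveI := D.affW a
  haveI := D.affW b
  haveI := D.affV a
  haveI := D.affV b
  haveI := D.surj a
  haveI := D.surj b
  haveI : IsAffine (pullback (D.p a) ga).left := isAffine_pullback_left _ _
  haveI : IsAffine (pullback (D.p b) gb).left := isAffine_pullback_left _ _
  haveI : Surjective (pullback.snd (D.p a) ga).left := surjective_snd_left _ _
  haveI : Surjective (pullback.snd (D.p b) gb).left := surjective_snd_left _ _
  let Q := pullback (pullback.snd (D.p a) ga) (pullback.snd (D.p b) gb)
  haveI : IsAffine Q.left := isAffine_pullback_left _ _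
  let fstQ : Q ⟶ pullback (D.p a) ga := pullback.fst _ _
  let sndQ : Q ⟶ pullback (D.p b) gb := pullback.snd _ _
  haveI : Surjective fstQ.left := surjective_fst_left _ _
  let q : Q ⟶ Z := fstQ ≫ pullback.snd (D.p a) ga
  have hq : q = sndQ ≫ pullback.snd (D.p b) gb := pullback.condition
  haveI : Surjective q.left := by
    change Surjective (fstQ.left ≫ (pullback.snd (D.p a) ga).left)
    infer_instance
  apply hA.ext q
  have e1 : q ≫ ga = (fstQ ≫ pullback.fst (D.p a) ga) ≫ D.p a := by
    rw [Category.assoc, Category.assoc, pullback.condition]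
  have e2 : q ≫ gb = (sndQ ≫ pullback.fst (D.p b) gb) ≫ D.p b := by
    rw [hq, Category.assoc, Category.assoc, pullback.condition]
  have l : F.map q.op (F.map ga.op (y a)) = F.map (fstQ ≫ pullback.fst (D.p a) ga).op (x a) := by
    rw [← Functor.map_comp_apply, ← op_comp, e1, op_comp, Functor.map_comp_apply, hy]
  have r : F.map q.op (F.map gb.op (y b)) = F.map (sndQ ≫ pullback.fst (D.p b) gb).op (x b) := by
    rw [← Functor.map_comp_apply, ← op_comp, e2, op_comp, Functor.map_comp_apply, hy]
  rw [l, r]
  apply hx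
  change (fstQ ≫ pullback.fst (D.p a) ga) ≫ D.p a ≫ D.j a =
    (sndQ ≫ pullback.fst (D.p b) gb) ≫ D.p b ≫ D.j b
  have e3 : (fstQ ≫ pullback.fst (D.p a) ga) ≫ D.p a ≫ D.j a = q ≫ ga ≫ D.j a := by
    rw [← Category.assoc, ← e1, Category.assoc]
  have e4 : (sndQ ≫ pullback.fst (D.p b) gb) ≫ D.p b ≫ D.j b = q ≫ gb ≫ D.j b := by
    rw [← Category.assoc, ← e2, Category.assoc]
  rw [e3, e4, hg]


/-- The Zariski sheaf condition for the open cover underlying a `K2Data`. -/
theorem isSheafFor_opens {F : X.Etaleᵒᵖ ⥤ Type w} (hZ : Presieve.IsSheaf (zarTop X) F)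
    {W : X.Etale} (D : K2Data W) : Presieve.IsSheafFor F (Presieve.ofArrows D.Wa D.j) := by
  rw [Presieve.isSheafFor_iff_generate]
  apply hZ
  rw [mem_zarTop]
  intro x
  obtain ⟨a, y, hy⟩ := D.cov x
  exact ⟨D.Wa a, D.j a, y, Sieve.le_generate _ _ _ (Presieve.ofArrows.mk a), D.open_j a, hy⟩

/-- A Zariski sheaf satisfying the sheaf condition for affine surjective singletons satisfies the
sheaf condition for every `K2Data` family. -/
theorem isSheafFor_K2 {F : X.Etaleᵒᵖ ⥤ Type w} (hZ : Presieve.IsSheaf (zarTop X) F)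
    (hA : AffSingleton F) {W : X.Etale} (D : K2Data W) : Presieve.IsSheafFor F D.presieve := by
  unfold K2Data.presieve
  rw [Presieve.isSheafFor_arrows_iff]
  intro x hx
  -- step 1
  have h1 : ∀ a, ∃! y : F.obj (op (D.Wa a)), F.map (D.p a).op y = x a := by
    intro a
    haveI := D.affW a
    haveI := D.affV a
    haveI := D.surj a
    refine Presieve.isSheafFor_singleton.mp (hA (D.Wa a) (D.Va a) (D.p a)) (x a) ?_
    intro Z p₁ p₂ h
    apply hx
    change p₁ ≫ D.p a ≫ D.j a = p₂ ≫ D.p a ≫ D.j a
    rw [← Category.assoc, h, Category.assoc]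
  choose y hy hy' using h1
  -- step 2
  have h2 : Presieve.Arrows.Compatible F D.j y := by
    intro a b Z ga gb hg
    apply ext_of_affineOpens F hZ Z
    intro O
    haveI : IsAffine (openObj Z O.1).left := O.2
    rw [← Functor.map_comp_apply, ← Functor.map_comp_apply, ← op_comp, ← op_comp]
    apply compat_affine hA D x hx y hy a b (openObj Z O.1)
    rw [Category.assoc, Category.assoc, hg]
  -- step 3
  obtain ⟨t, ht, ht'⟩ := (Presieve.isSheafFor_arrows_iff F D.j).mp (isSheafFor_opens hZ D) y h2
  refine ⟨t, ?_, ?_⟩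
  · intro a
    rw [op_comp, Functor.map_comp_apply, ht a, hy a]
  · intro t' ht''
    apply ht'
    intro a
    apply hy'
    have := ht'' a
    change F.map (D.p a ≫ D.j a).op t' = x a at this
    rw [op_comp, Functor.map_comp_apply] at this
    exact this


section pullbackData

variable {W W' : X.Etale} (g : W' ⟶ W) (D : K2Data W)

/-- Index type of the pulled back family. -/
def PbIdx : Type u :=
  Σ a : D.A, {O : W'.left.affineOpens //
    Set.range (O.1.ι ≫ g.left) ⊆ Set.range (D.j a).left}

/-- The lift of an affine open of `W'` mapping into `W a`. -/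
noncomputable def pbLift (i : PbIdx g D) : openObj W' i.2.1.1 ⟶ D.Wa i.1 :=
  haveI := D.open_j i.1
  MorphismProperty.Over.homMk
    (IsOpenImmersion.lift (D.j i.1).left (i.2.1.1.ι ≫ g.left) i.2.2)
    (by
      have h1 : (D.j i.1).left ≫ W.hom = (D.Wa i.1).hom := CategoryTheory.Over.w (D.j i.1).hom
      have h2 : g.left ≫ W.hom = W'.hom := CategoryTheory.Over.w g.hom
      rw [← h1, IsOpenImmersion.lift_fac_assoc, Category.assoc, h2]
      rfl)

theorem pbLift_comp (i : PbIdx g D) : pbLift g D i ≫ D.j i.1 = openHom W' i.2.1.1 ≫ g := by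
  haveI := D.open_j i.1
  refine MorphismProperty.Over.Hom.ext ?_
  change IsOpenImmersion.lift (D.j i.1).left (i.2.1.1.ι ≫ g.left) i.2.2 ≫ (D.j i.1).left =
    i.2.1.1.ι ≫ g.left
  rw [IsOpenImmersion.lift_fac]

/-- The pulled back family. -/
noncomputable def pbData : K2Data W' where
  A := PbIdx g D
  Wa i := openObj W' i.2.1.1
  Va i := pullback (D.p i.1) (pbLift g D i)
  j i := openHom W' i.2.1.1
  p i := pullback.snd _ _
  open_j i := inferInstance
  affW i := i.2.1.2
  affV i := by
    haveI := D.affW i.1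
    haveI := D.affV i.1
    haveI : IsAffine (openObj W' i.2.1.1).left := i.2.1.2
    exact isAffine_pullback_left _ _
  surj i := by
    haveI := D.surj i.1
    exact surjective_snd_left _ _
  cov w' := by
    obtain ⟨a, ha⟩ := D.cov (g.left w')
    haveI := D.open_j a
    obtain ⟨O, hO, hxO, hle⟩ := TopologicalSpace.Opens.isBasis_iff_nbhd.mp
      (Scheme.isBasis_affineOpens W'.left)
      (show w' ∈ g.left ⁻¹ᵁ (D.j a).left.opensRange from ha)
    refine ⟨⟨a, ⟨⟨O, hO⟩, ?_⟩⟩, ⟨w', hxO⟩, rfl⟩
    rintro _ ⟨z, rfl⟩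
    exact hle z.2

theorem pbData_factors : (pbData g D).presieve.FactorsThruAlong D.presieve g := by
  intro Z t ht
  obtain ⟨i⟩ := ht
  refine ⟨D.Va i.1, pullback.fst _ _, D.p i.1 ≫ D.j i.1, Presieve.ofArrows.mk i.1, ?_⟩
  change pullback.fst (D.p i.1) (pbLift g D i) ≫ D.p i.1 ≫ D.j i.1 =
    (pullback.snd (D.p i.1) (pbLift g D i) ≫ openHom W' i.2.1.1) ≫ g
  rw [← Category.assoc, pullback.condition, Category.assoc, pbLift_comp, Category.assoc]

end pullbackData

/-- The coverage of `K2Data` families on the small étale site. -/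
def k2Coverage (X : Scheme.{u}) : Coverage X.Etale where
  coverings W := {R | ∃ D : K2Data W, R = D.presieve}
  pullback := by
    rintro W W' g R ⟨D, rfl⟩
    exact ⟨_, ⟨pbData g D, rfl⟩, pbData_factors g D⟩


section opens

/-- The morphism between open subobjects induced by a morphism. -/
noncomputable def openMap {Y W : X.Etale} (f : Y ⟶ W) (O' : Y.left.Opens) (O : W.left.Opens)
    (h : O' ≤ f.left ⁻¹ᵁ O) : openObj Y O' ⟶ openObj W O :=
  MorphismProperty.Over.homMk (f.left.resLE O O' h)
    (by
      have h2 : f.left ≫ W.hom = Y.hom := CategoryTheory.Over.w f.hom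
      change f.left.resLE O O' h ≫ O.ι ≫ W.hom = O'.ι ≫ Y.hom
      rw [Scheme.Hom.resLE_comp_ι_assoc, h2])

theorem openMap_comp {Y W : X.Etale} (f : Y ⟶ W) (O' : Y.left.Opens) (O : W.left.Opens)
    (h : O' ≤ f.left ⁻¹ᵁ O) : openMap f O' O h ≫ openHom W O = openHom Y O' ≫ f := by
  refine MorphismProperty.Over.Hom.ext ?_
  change f.left.resLE O O' h ≫ O.ι = O'.ι ≫ f.left
  rw [Scheme.Hom.resLE_comp_ι]

/-- The inclusion between open subobjects. -/
noncomputable def openIncl (W : X.Etale) (D O : W.left.Opens) (h : D ≤ O) :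
    openObj W D ⟶ openObj W O :=
  MorphismProperty.Over.homMk (W.left.homOfLE h)
    (by
      change W.left.homOfLE h ≫ O.ι ≫ W.hom = D.ι ≫ W.hom
      rw [Scheme.homOfLE_ι_assoc])

theorem openIncl_comp (W : X.Etale) (D O : W.left.Opens) (h : D ≤ O) :
    openIncl W D O h ≫ openHom W O = openHom W D := by
  refine MorphismProperty.Over.Hom.ext ?_
  change W.left.homOfLE h ≫ O.ι = D.ι
  rw [Scheme.homOfLE_ι]

theorem surjective_snd_open {Y W : X.Etale} (f : Y ⟶ W) (O' : Y.left.Opens) (D O : W.left.Opens)
    (h : O' ≤ f.left ⁻¹ᵁ O) (hD : D ≤ O) (himg : ∀ d ∈ D, ∃ y ∈ O', f.left y = d) :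
    Surjective (pullback.snd (openMap f O' O h) (openIncl W D O hD)).left := by
  refine ⟨fun d => ?_⟩
  let d' : ↥D := d
  obtain ⟨y, hy, hyd⟩ := himg d'.1 d'.2
  let a : (openObj Y O').left := (⟨y, hy⟩ : ↥O')
  have hab : (openMap f O' O h).left a = (openIncl W D O hD).left d := by
    apply O.ι.isOpenEmbedding.injective
    have e1 : O.ι ((openMap f O' O h).left a) = f.left y := by
      change O.ι ((f.left.resLE O O' h) a) = _
      rw [← Scheme.Hom.comp_apply, Scheme.Hom.resLE_comp_ι]
      rfl
    have e2 : O.ι ((openIncl W D O hD).left d) = d'.1 := by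
      change O.ι ((W.left.homOfLE hD) d) = _
      rw [← Scheme.Hom.comp_apply, Scheme.homOfLE_ι]
      rfl
    rw [e1, e2, hyd]
  obtain ⟨z, -, hz⟩ := exists_preimage_pullback_left _ _ a d hab
  exact ⟨z, hz⟩

end opens


/-- Local data at a point for an étale covering sieve. -/
theorem exists_local_data {W : X.Etale} (R : Sieve W) (hR : R ∈ X.smallEtaleTopology W)
    (w : W.left) :
    ∃ (Wa Va : X.Etale) (j : Wa ⟶ W) (p : Va ⟶ Wa), IsOpenImmersion j.left ∧ IsAffine Wa.left ∧
      IsAffine Va.left ∧ Surjective p.left ∧ w ∈ Set.range j.left ∧ R.arrows (p ≫ j) := by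
  rw [mem_etTop] at hR
  obtain ⟨Y, f, y, hRf, rfl⟩ := hR w
  obtain ⟨O, hO, hwO, -⟩ := TopologicalSpace.Opens.isBasis_iff_nbhd.mp
    (Scheme.isBasis_affineOpens W.left) (show f.left y ∈ (⊤ : W.left.Opens) from trivial)
  obtain ⟨O', hO', hyO', hle⟩ := TopologicalSpace.Opens.isBasis_iff_nbhd.mp
    (Scheme.isBasis_affineOpens Y.left) (show y ∈ f.left ⁻¹ᵁ O from hwO)
  let I : W.left.Opens := ⟨f.left '' (O' : Set Y.left), f.left.isOpenMap _ O'.2⟩
  have hwI : f.left y ∈ O ⊓ I := ⟨hwO, ⟨y, hyO', rfl⟩⟩
  obtain ⟨D, hD, hwD, hDle⟩ := TopologicalSpace.Opens.isBasis_iff_nbhd.mp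
    (Scheme.isBasis_affineOpens W.left) hwI
  have hDO : D ≤ O := fun d hd => (hDle hd).1
  have himg : ∀ d ∈ D, ∃ y ∈ O', f.left y = d := fun d hd => (hDle hd).2
  haveI : IsAffine (openObj W D).left := hD
  haveI : IsAffine (openObj W O).left := hO
  haveI : IsAffine (openObj Y O').left := hO'
  refine ⟨openObj W D, pullback (openMap f O' O hle) (openIncl W D O hDO), openHom W D,
    pullback.snd _ _, inferInstance, inferInstance, isAffine_pullback_left _ _,
    surjective_snd_open f O' D O hle hDO himg, ⟨(⟨f.left y, hwD⟩ : ↥D), rfl⟩, ?_⟩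
  have e : pullback.snd (openMap f O' O hle) (openIncl W D O hDO) ≫ openHom W D =
      (pullback.fst (openMap f O' O hle) (openIncl W D O hDO) ≫ openHom Y O') ≫ f := by
    rw [← openIncl_comp W D O hDO, ← Category.assoc, ← pullback.condition, Category.assoc,
      openMap_comp, Category.assoc]
  rw [e]
  exact R.downward_closed hRf _

/-- Every étale covering sieve contains a `K2Data` family. -/
theorem exists_K2Data_le {W : X.Etale} (R : Sieve W) (hR : R ∈ X.smallEtaleTopology W) :
    ∃ D : K2Data W, D.presieve ≤ R.arrows := by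
  choose Wa Va j p h1 h2 h3 h4 h5 h6 using exists_local_data R hR
  refine ⟨{ A := W.left, Wa := Wa, Va := Va, j := j, p := p, open_j := h1, affW := h2, affV := h3,
            surj := h4, cov := fun w => ⟨w, h5 w⟩ }, ?_⟩
  rintro Z t ⟨w⟩
  exact h6 w

theorem etTop_le_k2 (X : Scheme.{u}) : X.smallEtaleTopology ≤ (k2Coverage X).toGrothendieck := by
  intro W R hR
  obtain ⟨D, hD⟩ := exists_K2Data_le R hR
  exact Coverage.mem_toGrothendieck_sieves_of_superset _ hD ⟨D, rfl⟩

/-- **Criterion**: a presheaf on the small étale site which is a Zariski sheaf and satisfies the sheaf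
condition for surjective morphisms of affine étale `X`-schemes is an étale sheaf. -/
theorem isSheaf_of_zariski_of_affine {F : X.Etaleᵒᵖ ⥤ Type w}
    (hZ : Presieve.IsSheaf (zarTop X) F) (hA : AffSingleton F) :
    Presieve.IsSheaf X.smallEtaleTopology F := by
  refine Presieve.isSheaf_of_le F (etTop_le_k2 X) ?_
  rw [Presieve.isSheaf_coverage]
  rintro W R ⟨D, rfl⟩
  exact isSheafFor_K2 hZ hA D

/-- Conversely an étale sheaf satisfies the sheaf condition for surjective singletons. -/
theorem isSheafFor_singleton_of_isSheaf {F : X.Etaleᵒᵖ ⥤ Type w}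
    (hF : Presieve.IsSheaf X.smallEtaleTopology F) {U V : X.Etale} (f : V ⟶ U)
    [Surjective f.left] : Presieve.IsSheafFor F (Presieve.singleton f) := by
  rw [Presieve.isSheafFor_iff_generate]
  apply hF
  rw [mem_etTop]
  intro x
  obtain ⟨y, hy⟩ := f.left.surjective x
  exact ⟨V, f, y, Sieve.le_generate _ _ _ (Presieve.singleton.mk), hy⟩

end Groth.Agent.Lib.SmallEtSheafH52
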