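import Mathlib.RingTheory.Flat.Basic
import Mathlib.RingTheory.Artinian.Ring
import Mathlib.RingTheory.LocalRing.MaximalIdeal.Basic
import Mathlib.RingTheory.Ideal.Quotient.Operations
import Mathlib.RingTheory.TensorProduct.Basic
import Mathlib.LinearAlgebra.TensorProduct.Tower
import Mathlib.LinearAlgebra.TensorProduct.RightExactness
import Mathlib.LinearAlgebra.Quotient.Basic

/-!
# Modules over a small extension (helper18)

`C'` local, `J` a proper ideal killed by the maximal ideal, `M'` a `C'`-flat module with an action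
of a `C'`-algebra `A'`.  Then `M' ⊗ J → M'` is injective with image `J M'`, and
`M' ⊗ J → (M'/mM') ⊗ J` is bijective.
-/

set_option autoImplicit false
universe u
open scoped TensorProduct

namespace Groth.Agent.Lib.SmallExt18

variable {C' : Type*} [CommRing C'] (J : Ideal C')
  (A' : Type*) [CommRing A'] [Algebra C' A'] (M' : Type*) [AddCommGroup M'] [Module A' M']
  [Module C' M'] [IsScalarTower C' A' M']

/-- Multiplication `M' ⊗ J → M'`, as an `A'`-linear map. -/
noncomputable def mu : M' ⊗[C'] ↥J →ₗ[A'] M' :=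
  TensorProduct.AlgebraTensorModule.lift
    { toFun := fun x =>
        { toFun := fun j => (j : C') • x
          map_add' := fun j j' => by simp [add_smul]
          map_smul' := fun c j => by simp [mul_smul] }
      map_add' := fun x y => by ext j; simp
      map_smul' := fun a x => by
        ext j
        simp only [LinearMap.coe_mk, AddHom.coe_mk, RingHom.id_apply, LinearMap.smul_apply]
        exact smul_comm _ _ _ }

@[simp] theorem mu_tmul (x : M') (j : J) : mu J A' M' (x ⊗ₜ[C'] j) = (j : C') • x := rfl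

theorem mu_eq (z : M' ⊗[C'] ↥J) :
    mu J A' M' z = TensorProduct.rid C' M' (LinearMap.lTensor M' (Submodule.subtype J) z) := by
  induction z using TensorProduct.induction_on with
  | zero => simp
  | tmul x j => simp
  | add x y hx hy => simp only [map_add, hx, hy]

theorem mu_injective [Module.Flat C' M'] : Function.Injective (mu J A' M') := by
  have h := Module.Flat.lTensor_preserves_injective_linearMap (M := M') (Submodule.subtype J)
    Subtype.val_injective
  intro z z' hzz'
  rw [mu_eq, mu_eq] at hzz'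
  exact h ((TensorProduct.rid C' M').injective hzz')

theorem range_mu :
    LinearMap.range (mu J A' M') = (J.map (algebraMap C' A')) • (⊤ : Submodule A' M') := by
  apply le_antisymm
  · rintro _ ⟨z, rfl⟩
    induction z using TensorProduct.induction_on with
    | zero => simp
    | tmul x j =>
      rw [mu_tmul, ← algebraMap_smul A' (j : C') x]
      exact Submodule.smul_mem_smul (Ideal.mem_map_of_mem _ j.2) Submodule.mem_top
    | add x y hx hy => rw [map_add]; exact Submodule.add_mem _ hx hy
  · rw [Submodule.smul_le]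
    suffices key : ∀ r ∈ J.map (algebraMap C' A'), ∀ y : M', r • y ∈ LinearMap.range (mu J A' M')
      from fun r hr y _ => key r hr y
    intro r hr
    refine Submodule.span_induction ?_ ?_ ?_ ?_ hr
    · rintro _ ⟨j, hj, rfl⟩ y
      exact ⟨y ⊗ₜ[C'] ⟨j, hj⟩, by rw [mu_tmul, algebraMap_smul]⟩
    · intro y; rw [zero_smul]; exact Submodule.zero_mem _
    · intro r s _ _ hr hs y
      rw [add_smul]; exact Submodule.add_mem _ (hr y) (hs y)
    · intro a r _ hr y
      rw [smul_eq_mul, mul_smul]
      exact Submodule.smul_mem _ a (hr y)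

variable {M'} in
theorem tmul_eq_zero_of_mem (m : Ideal C') (hmJ : m * J = ⊥) {n : M'}
    (hn : n ∈ (m.map (algebraMap C' A')) • (⊤ : Submodule A' M')) (j : J) :
    n ⊗ₜ[C'] j = (0 : M' ⊗[C'] ↥J) := by
  have key : ∀ r ∈ m.map (algebraMap C' A'), ∀ y : M', (r • y) ⊗ₜ[C'] j = (0 : M' ⊗[C'] ↥J) := by
    intro r hr
    refine Submodule.span_induction ?_ ?_ ?_ ?_ hr
    · rintro _ ⟨ρ, hρ, rfl⟩ y
      rw [algebraMap_smul, TensorProduct.smul_tmul]
      have : ρ • j = 0 := by
        apply Subtype.ext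
        have h : ρ * (j : C') ∈ m * J := Ideal.mul_mem_mul hρ j.2
        rw [hmJ] at h
        exact h
      rw [this, TensorProduct.tmul_zero]
    · intro y; rw [zero_smul, TensorProduct.zero_tmul]
    · intro r s _ _ hr hs y
      rw [add_smul, TensorProduct.add_tmul, hr y, hs y, add_zero]
    · intro a r _ hr y
      rw [smul_eq_mul, mul_comm, mul_smul]
      exact hr _
  refine Submodule.smul_induction_on hn ?_ ?_
  · intro r hr y _
    exact key r hr y
  · intro x y hx hy
    rw [TensorProduct.add_tmul, hx, hy, add_zero]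

variable {M'}

/-- The map `M' ⊗ J → (M'/N) ⊗ J`, as an `A'`-linear map. -/
noncomputable def QA (N : Submodule A' M') : M' ⊗[C'] ↥J →ₗ[A'] (M' ⧸ N) ⊗[C'] ↥J :=
  TensorProduct.AlgebraTensorModule.map N.mkQ (LinearMap.id : ↥J →ₗ[C'] ↥J)

theorem QA_eq (N : Submodule A' M') (z : M' ⊗[C'] ↥J) :
    QA J A' N z = LinearMap.rTensor ↥J (N.mkQ.restrictScalars C') z := by
  induction z using TensorProduct.induction_on with
  | zero => simp
  | tmul x j => rfl
  | add x y hx hy => simp only [map_add, hx, hy]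

theorem bijective_QA (N : Submodule A' M')
    (hN : ∀ n ∈ N, ∀ j : J, n ⊗ₜ[C'] j = (0 : M' ⊗[C'] ↥J)) :
    Function.Bijective (QA J A' N) := by
  constructor
  · rw [injective_iff_map_eq_zero]
    intro z hz
    rw [QA_eq] at hz
    have hex : Function.Exact ((N.restrictScalars C').subtype) (N.mkQ.restrictScalars C') := by
      intro x
      simp only [LinearMap.coe_restrictScalars, Submodule.mkQ_apply, Submodule.Quotient.mk_eq_zero]
      constructor
      · intro hx; exact ⟨⟨x, hx⟩, rfl⟩
      · rintro ⟨y, rfl⟩; exact y.2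
    have hsurj : Function.Surjective (N.mkQ.restrictScalars C') := N.mkQ_surjective
    have := rTensor_exact ↥J hex hsurj
    obtain ⟨w, rfl⟩ := (this z).1 hz
    clear hz
    induction w using TensorProduct.induction_on with
    | zero => simp
    | tmul n j => exact hN n.1 n.2 j
    | add x y hx hy => rw [map_add, hx, hy, add_zero]
  · intro y
    have hsurj : Function.Surjective (N.mkQ.restrictScalars C') := N.mkQ_surjective
    obtain ⟨z, hz⟩ := LinearMap.rTensor_surjective ↥J (g := N.mkQ.restrictScalars C') hsurj y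
    exact ⟨z, by rw [QA_eq, hz]⟩

section Main

variable [IsLocalRing C'] (hJ : IsLocalRing.maximalIdeal C' * J = ⊥) (hJne : J ≠ ⊤)

variable (C' M') in
/-- `m M'` as an `A'`-submodule. -/
abbrev Nm : Submodule A' M' :=
  ((IsLocalRing.maximalIdeal C').map (algebraMap C' A')) • (⊤ : Submodule A' M')

variable (M') in
/-- `J M'` as an `A'`-submodule. -/
abbrev JM : Submodule A' M' := (J.map (algebraMap C' A')) • (⊤ : Submodule A' M')

omit [Module C' M'] [IsScalarTower C' A' M'] in
include hJne in
theorem JM_le_Nm : JM J A' M' ≤ Nm C' A' M' :=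
  Submodule.smul_mono_left (Ideal.map_mono (IsLocalRing.le_maximalIdeal hJne))

include hJ in
theorem smul_eq_zero_of_mem_JM {r : A'}
    (hr : r ∈ (IsLocalRing.maximalIdeal C').map (algebraMap C' A')) {w : M'}
    (hw : w ∈ JM J A' M') : r • w = 0 := by
  have hw' : w ∈ LinearMap.range (mu J A' M') := by rw [range_mu]; exact hw
  obtain ⟨z, rfl⟩ := hw'
  clear hw
  rw [← map_smul]
  have : r • z = 0 := by
    induction z using TensorProduct.induction_on with
    | zero => simp
    | tmul x j =>
      rw [TensorProduct.smul_tmul']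
      exact tmul_eq_zero_of_mem J A' _ hJ (Submodule.smul_mem_smul hr Submodule.mem_top) j
    | add x y hx hy => rw [smul_add, hx, hy, add_zero]
  rw [this, map_zero]

include hJ in
theorem eq_zero_of_mem_Nm (ν : M' →ₗ[A'] M') (hν : ∀ x, ν x ∈ JM J A' M') {x : M'}
    (hx : x ∈ Nm C' A' M') : ν x = 0 := by
  refine Submodule.smul_induction_on hx ?_ ?_
  · intro r hr y _
    rw [map_smul]
    exact smul_eq_zero_of_mem_JM J A' hJ hr (hν y)
  · intro x y hx hy
    rw [map_add, hx, hy, add_zero]

include hJ hJne in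
theorem bijective_of_sub_mem (σ : M' →ₗ[A'] M') (hσ : ∀ x, σ x - x ∈ JM J A' M') :
    Function.Bijective σ := by
  set ν : M' →ₗ[A'] M' := σ - LinearMap.id with hν
  have hν' : ∀ x, ν x ∈ JM J A' M' := fun x => by
    rw [hν, LinearMap.sub_apply, LinearMap.id_apply]; exact hσ x
  have hνν : ∀ x, ν (ν x) = 0 := fun x =>
    eq_zero_of_mem_Nm J A' hJ ν hν' (JM_le_Nm J A' hJne (hν' x))
  have hσν : ∀ x, σ x = x + ν x := fun x => by
    rw [hν, LinearMap.sub_apply, LinearMap.id_apply]; abel
  refine Function.bijective_iff_has_inverse.2 ⟨fun x => x - ν x, fun x => ?_, fun x => ?_⟩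
  · show σ x - ν (σ x) = x
    rw [hσν, map_add, hνν]; abel
  · show σ (x - ν x) = x
    rw [hσν, map_sub, hνν]; abel

variable [Module.Flat C' M']

/-- The unique preimage of `ν x` under `M' ⊗ J → M'`. -/
noncomputable def zf (ν : M' →ₗ[A'] M') (hν : ∀ x, ν x ∈ JM J A' M') : M' →ₗ[A'] M' ⊗[C'] ↥J :=
  (LinearEquiv.ofInjective (mu J A' M') (mu_injective J A' M')).symm.toLinearMap ∘ₗ
    ν.codRestrict (LinearMap.range (mu J A' M')) (fun x => by rw [range_mu]; exact hν x)

omit [IsLocalRing C'] in
theorem mu_zf (ν : M' →ₗ[A'] M') (hν : ∀ x, ν x ∈ JM J A' M') (x : M') :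
    mu J A' M' (zf J A' ν hν x) = ν x := by
  have := (LinearEquiv.ofInjective (mu J A' M') (mu_injective J A' M')).apply_symm_apply
    (ν.codRestrict (LinearMap.range (mu J A' M')) (fun x => by rw [range_mu]; exact hν x) x)
  exact congrArg Subtype.val this

include hJ hJne in
theorem part1 (σ : M' →ₗ[A'] M') (hσ : ∀ x, σ x - x ∈ JM J A' M') :
    Function.Bijective σ ∧
      ∃! τ : (M' ⧸ Nm C' A' M') →ₗ[A'] ((M' ⧸ Nm C' A' M') ⊗[C'] ↥J),
        ∀ (x : M') (z : M' ⊗[C'] ↥J),
          TensorProduct.rid C' M' (LinearMap.lTensor M' (Submodule.subtype J) z) = σ x - x →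
          LinearMap.rTensor ↥J ((Submodule.mkQ (Nm C' A' M')).restrictScalars C') z =
            τ (Submodule.mkQ _ x) := by
  refine ⟨bijective_of_sub_mem J A' hJ hJne σ hσ, ?_⟩
  set ν : M' →ₗ[A'] M' := σ - LinearMap.id with hν
  have hν' : ∀ x, ν x ∈ JM J A' M' := fun x => by
    rw [hν, LinearMap.sub_apply, LinearMap.id_apply]; exact hσ x
  have hνx : ∀ x, σ x - x = ν x := fun x => by rw [hν, LinearMap.sub_apply, LinearMap.id_apply]
  have hle : Nm C' A' M' ≤ LinearMap.ker (QA J A' (Nm C' A' M') ∘ₗ zf J A' ν hν') := by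
    intro x hx
    rw [LinearMap.mem_ker, LinearMap.comp_apply]
    have h0 : zf J A' ν hν' x = 0 := by
      apply mu_injective J A' M'
      rw [mu_zf, map_zero]
      exact eq_zero_of_mem_Nm J A' hJ ν hν' hx
    rw [h0, map_zero]
  have hz : ∀ (x : M') (z : M' ⊗[C'] ↥J),
      TensorProduct.rid C' M' (LinearMap.lTensor M' (Submodule.subtype J) z) = σ x - x →
      z = zf J A' ν hν' x := by
    intro x z hzx
    apply mu_injective J A' M'
    rw [mu_zf, mu_eq, hzx, hνx]
  refine ⟨(Nm C' A' M').liftQ _ hle, ?_, ?_⟩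
  · intro x z hzx
    rw [hz x z hzx, ← QA_eq J A']
    rfl
  · intro τ' hτ'
    apply LinearMap.ext
    intro y
    obtain ⟨x, rfl⟩ := (Nm C' A' M').mkQ_surjective y
    have h1 := hτ' x (zf J A' ν hν' x) (by rw [← mu_eq J A', mu_zf, hνx])
    rw [← h1, ← QA_eq J A']
    rfl

include hJ in
theorem part2 (τ : (M' ⧸ Nm C' A' M') →ₗ[A'] ((M' ⧸ Nm C' A' M') ⊗[C'] ↥J)) :
    ∃ σ : M' →ₗ[A'] M', (∀ x : M', σ x - x ∈ JM J A' M') ∧
      ∀ (x : M') (z : M' ⊗[C'] ↥J),
        TensorProduct.rid C' M' (LinearMap.lTensor M' (Submodule.subtype J) z) = σ x - x →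
        LinearMap.rTensor ↥J ((Submodule.mkQ (Nm C' A' M')).restrictScalars C') z =
          τ (Submodule.mkQ _ x) := by
  have hbij := bijective_QA J A' (Nm C' A' M') (fun n hn j => tmul_eq_zero_of_mem J A' _ hJ hn j)
  let e := LinearEquiv.ofBijective (QA J A' (Nm C' A' M')) hbij
  let ν : M' →ₗ[A'] M' := mu J A' M' ∘ₗ e.symm.toLinearMap ∘ₗ τ ∘ₗ (Nm C' A' M').mkQ
  have hνx : ∀ x, ((LinearMap.id : M' →ₗ[A'] M') + ν) x - x =
      mu J A' M' (e.symm (τ ((Nm C' A' M').mkQ x))) := by
    intro x
    simp only [LinearMap.add_apply, LinearMap.id_apply, add_sub_cancel_left]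
    rfl
  refine ⟨LinearMap.id + ν, fun x => ?_, fun x z hzx => ?_⟩
  · rw [hνx]
    have : mu J A' M' (e.symm (τ ((Nm C' A' M').mkQ x))) ∈ LinearMap.range (mu J A' M') :=
      ⟨_, rfl⟩
    rw [range_mu] at this
    exact this
  · rw [hνx, ← mu_eq J A'] at hzx
    have := mu_injective J A' M' hzx
    rw [this, ← QA_eq J A']
    exact e.apply_symm_apply _

end Main

end Groth.Agent.Lib.SmallExt18
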