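import Groth.Agent.Lib.SmallExtTorsor18

/-!
# Generators of a flat lifting of an ideal over a small extension (helper18)
-/

set_option autoImplicit false
universe u
open scoped TensorProduct

namespace Groth.Agent.Lib.SmallExtGen18

open Groth.Agent.Lib.SmallExt18 Groth.Agent.Lib.SmallExtIdeal18 Groth.Agent.Lib.SmallExtTorsor18

variable {C' : Type u} [CommRing C'] (J : Ideal C')
  (A' : Type u) [CommRing A'] [Algebra C' A'] [Module.Flat C' A']
  (I' : Ideal A') [Module.Flat C' (A' ⧸ I')]

omit [Module.Flat C' A'] in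
/-- For a flat quotient `A'/I'`, `I' ∩ JA' ⊆ (JA') I'`. -/
theorem mem_mul_of_mem_inf {y : A'} (hy : y ∈ I') (hyK : y ∈ J.map (algebraMap C' A')) :
    y ∈ J.map (algebraMap C' A') * I' := by
  obtain ⟨z, rfl⟩ := exists_mu_eq J A' (y := y) (Ideal.Quotient.eq_zero_iff_mem.2 hyK)
  have h0 : tmap J A' (Submodule.mkQ I') z = 0 := by
    apply tmap_eq_zero_of_flat
    rw [Submodule.mkQ_apply, Submodule.Quotient.mk_eq_zero]
    exact hy
  refine ker_tmap_induction J A' (Submodule.mkQ I') (Submodule.mkQ_surjective I')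
    (fun w => mu J A' A' w ∈ J.map (algebraMap C' A') * I') ?_ ?_ ?_ z h0
  · simp
  · intro k hk j
    have hk' : k ∈ I' := by
      rw [LinearMap.mem_ker, Submodule.mkQ_apply, Submodule.Quotient.mk_eq_zero] at hk
      exact hk
    show mu J A' A' (k ⊗ₜ[C'] j) ∈ _
    rw [mu_tmul, Algebra.smul_def]
    exact Ideal.mul_mem_mul (Ideal.mem_map_of_mem _ j.2) hk'
  · intro a b ha hb
    show mu J A' A' (a + b) ∈ _
    rw [map_add]
    exact Ideal.add_mem _ ha hb

omit [Module.Flat C' A'] in
theorem exists_generators (hJJ : J * J = ⊥) {r : ℕ} (a : Fin r → A' ⧸ J.map (algebraMap C' A'))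
    (hI' : I'.map (Ideal.Quotient.mk (J.map (algebraMap C' A'))) = Ideal.span (Set.range a)) :
    ∃ a' : Fin r → A', (∀ i, Ideal.Quotient.mk (J.map (algebraMap C' A')) (a' i) = a i) ∧
      I' = Ideal.span (Set.range a') := by
  have hlift : ∀ i, ∃ x ∈ I', Ideal.Quotient.mk (J.map (algebraMap C' A')) x = a i := by
    intro i
    have : a i ∈ I'.map (Ideal.Quotient.mk (J.map (algebraMap C' A'))) := by
      rw [hI']; exact Ideal.subset_span ⟨i, rfl⟩
    rwa [Ideal.mem_map_iff_of_surjective _ Ideal.Quotient.mk_surjective] at this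
  choose a' ha'mem ha' using hlift
  refine ⟨a', ha', ?_⟩
  have hle : Ideal.span (Set.range a') ≤ I' := by
    rw [Ideal.span_le]
    rintro _ ⟨i, rfl⟩
    exact ha'mem i
  have hKK : J.map (algebraMap C' A') * J.map (algebraMap C' A') = ⊥ := by
    rw [← Ideal.map_mul, hJJ, Ideal.map_bot]
  have h1 : I' ≤ Ideal.span (Set.range a') ⊔ J.map (algebraMap C' A') * I' := by
    intro x hx
    have hmk : Ideal.Quotient.mk (J.map (algebraMap C' A')) x ∈ Ideal.span (Set.range a) := by
      rw [← hI']; exact Ideal.mem_map_of_mem _ hx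
    obtain ⟨c, hc⟩ := (Ideal.mem_span_range_iff_exists_fun).1 hmk
    have hc' : ∀ i, ∃ c' : A', Ideal.Quotient.mk (J.map (algebraMap C' A')) c' = c i :=
      fun i => Ideal.Quotient.mk_surjective (c i)
    choose c' hc' using hc'
    have hs : ∑ i, c' i * a' i ∈ Ideal.span (Set.range a') :=
      Ideal.sum_mem _ fun i _ => Ideal.mul_mem_left _ _ (Ideal.subset_span ⟨i, rfl⟩)
    have hdiff : x - ∑ i, c' i * a' i ∈ J.map (algebraMap C' A') * I' := by
      apply mem_mul_of_mem_inf J A' I' (I'.sub_mem hx (hle hs))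
      rw [← Ideal.Quotient.eq_zero_iff_mem, map_sub, map_sum, ← hc]
      simp only [map_mul, hc', ha', sub_self]
    have : x = ∑ i, c' i * a' i + (x - ∑ i, c' i * a' i) := by ring
    rw [this]
    exact Submodule.add_mem_sup hs hdiff
  have h2 : J.map (algebraMap C' A') * I' ≤ Ideal.span (Set.range a') := by
    calc J.map (algebraMap C' A') * I'
        ≤ J.map (algebraMap C' A') *
          (Ideal.span (Set.range a') ⊔ J.map (algebraMap C' A') * I') := Ideal.mul_mono_right h1
      _ = J.map (algebraMap C' A') * Ideal.span (Set.range a') := by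
          rw [Ideal.mul_sup, ← mul_assoc, hKK, Ideal.bot_mul, sup_bot_eq]
      _ ≤ Ideal.span (Set.range a') := Ideal.mul_le_right
  exact le_antisymm (h1.trans (sup_le le_rfl h2)) hle

end Groth.Agent.Lib.SmallExtGen18
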