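import Groth.Agent.Lib.SmallExt18

/-!
# Difference of two flat liftings of an ideal over a small extension (helper18)
-/

set_option autoImplicit false
universe u
open scoped TensorProduct

namespace Groth.Agent.Lib.SmallExtIdeal18

open Groth.Agent.Lib.SmallExt18

section Nat

variable {C' : Type*} [CommRing C'] (J : Ideal C')
  (A' : Type*) [CommRing A'] [Algebra C' A']
  {M' : Type*} [AddCommGroup M'] [Module A' M'] [Module C' M'] [IsScalarTower C' A' M']
  {N' : Type*} [AddCommGroup N'] [Module A' N'] [Module C' N'] [IsScalarTower C' A' N']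

/-- `f ⊗ id : M' ⊗ J → N' ⊗ J` as an `A'`-linear map. -/
noncomputable def tmap (f : M' →ₗ[A'] N') : M' ⊗[C'] ↥J →ₗ[A'] N' ⊗[C'] ↥J :=
  TensorProduct.AlgebraTensorModule.map f (LinearMap.id : ↥J →ₗ[C'] ↥J)

@[simp] theorem tmap_tmul (f : M' →ₗ[A'] N') (x : M') (j : J) :
    tmap J A' f (x ⊗ₜ[C'] j) = f x ⊗ₜ[C'] j := rfl

theorem tmap_eq (f : M' →ₗ[A'] N') (z : M' ⊗[C'] ↥J) :
    tmap J A' f z = LinearMap.rTensor ↥J (f.restrictScalars C') z := by
  induction z using TensorProduct.induction_on with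
  | zero => simp
  | tmul x j => rfl
  | add x y hx hy => simp only [map_add, hx, hy]

theorem mu_tmap (f : M' →ₗ[A'] N') (z : M' ⊗[C'] ↥J) :
    mu J A' N' (tmap J A' f z) = f (mu J A' M' z) := by
  induction z using TensorProduct.induction_on with
  | zero => simp
  | tmul x j =>
    rw [tmap_tmul, mu_tmul, mu_tmul, ← algebraMap_smul A' (j : C') (f x),
      ← algebraMap_smul A' (j : C') x, map_smul]
  | add x y hx hy => simp only [map_add, hx, hy]

theorem tmap_eq_zero_of_flat [Module.Flat C' N'] (f : M' →ₗ[A'] N') (z : M' ⊗[C'] ↥J)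
    (h : f (mu J A' M' z) = 0) : tmap J A' f z = 0 := by
  apply mu_injective J A' N'
  rw [mu_tmap, h, map_zero]

theorem tmap_comp {P' : Type*} [AddCommGroup P'] [Module A' P'] [Module C' P']
    [IsScalarTower C' A' P'] (g : N' →ₗ[A'] P') (f : M' →ₗ[A'] N') (z : M' ⊗[C'] ↥J) :
    tmap J A' (g ∘ₗ f) z = tmap J A' g (tmap J A' f z) := by
  induction z using TensorProduct.induction_on with
  | zero => simp
  | tmul x j => rfl
  | add x y hx hy => simp only [map_add, hx, hy]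

end Nat

section Main

variable {C' : Type u} [CommRing C'] (J : Ideal C') (A' : Type u) [CommRing A'] [Algebra C' A']
  (I : Ideal (A' ⧸ J.map (algebraMap C' A')))

/-- The projection `A' → B = (A'/JA')/I` as an `A'`-linear map. -/
noncomputable abbrev piA : A' →ₗ[A'] ((A' ⧸ J.map (algebraMap C' A')) ⧸ I) :=
  Algebra.linearMap A' ((A' ⧸ J.map (algebraMap C' A')) ⧸ I)

theorem piA_eq_zero {I₁ : Ideal A'}
    (hI₁ : I₁.map (Ideal.Quotient.mk (J.map (algebraMap C' A'))) = I) {y : A'} (hy : y ∈ I₁) :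
    piA J A' I y = 0 := by
  show Ideal.Quotient.mk I (Ideal.Quotient.mk _ y) = 0
  rw [Ideal.Quotient.eq_zero_iff_mem, ← hI₁]
  exact Ideal.mem_map_of_mem _ hy

theorem exists_mu_eq {y : A'} (hy : Ideal.Quotient.mk (J.map (algebraMap C' A')) y = 0) :
    ∃ z : A' ⊗[C'] ↥J, mu J A' A' z = y := by
  rw [Ideal.Quotient.eq_zero_iff_mem] at hy
  have : y ∈ LinearMap.range (mu J A' A') := by
    rw [range_mu, smul_eq_mul, Ideal.mul_top]
    exact hy
  exact this

theorem tmap_piA_eq_zero {I₁ : Ideal A'} [Module.Flat C' (A' ⧸ I₁)]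
    (hI₁ : I₁.map (Ideal.Quotient.mk (J.map (algebraMap C' A'))) = I) (z : A' ⊗[C'] ↥J)
    (hz : mu J A' A' z ∈ I₁) : tmap J A' (piA J A' I) z = 0 := by
  have hle : I₁ ≤ LinearMap.ker (piA J A' I) := fun y hy =>
    LinearMap.mem_ker.2 (piA_eq_zero J A' I hI₁ hy)
  have hcomp : piA J A' I = (Submodule.liftQ I₁ (piA J A' I) hle) ∘ₗ (Submodule.mkQ I₁) := by
    ext
    rfl
  rw [hcomp, tmap_comp]
  have h0 : tmap J A' (Submodule.mkQ I₁) z = 0 := by
    apply tmap_eq_zero_of_flat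
    rw [Submodule.mkQ_apply, Submodule.Quotient.mk_eq_zero]
    exact hz
  rw [h0, map_zero]

variable [Module.Flat C' A']
  (I' I'' : Ideal A') [Module.Flat C' (A' ⧸ I')] [Module.Flat C' (A' ⧸ I'')]
  (hI' : I'.map (Ideal.Quotient.mk (J.map (algebraMap C' A'))) = I)
  (hI'' : I''.map (Ideal.Quotient.mk (J.map (algebraMap C' A'))) = I)

/-- The relation defining the difference map. -/
def Rel (x : A' ⧸ J.map (algebraMap C' A'))
    (t : ((A' ⧸ J.map (algebraMap C' A')) ⧸ I) ⊗[C'] ↥J) : Prop :=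
  ∃ x' ∈ I', ∃ x'' ∈ I'', ∃ z : A' ⊗[C'] ↥J,
    Ideal.Quotient.mk (J.map (algebraMap C' A')) x' = x ∧
    Ideal.Quotient.mk (J.map (algebraMap C' A')) x'' = x ∧
    mu J A' A' z = x'' - x' ∧ tmap J A' (piA J A' I) z = t

omit [Module.Flat C' A'] [Module.Flat C' (A' ⧸ I')] [Module.Flat C' (A' ⧸ I'')] in
include hI' hI'' in
theorem exists_rel {x : A' ⧸ J.map (algebraMap C' A')} (hx : x ∈ I) :
    ∃ t, Rel J A' I I' I'' x t := by
  have h1 := hx
  rw [← hI', Ideal.mem_map_iff_of_surjective _ Ideal.Quotient.mk_surjective] at h1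
  obtain ⟨x', hx', rfl⟩ := h1
  have h2 := hx
  rw [← hI'', Ideal.mem_map_iff_of_surjective _ Ideal.Quotient.mk_surjective] at h2
  obtain ⟨x'', hx'', hxx⟩ := h2
  obtain ⟨z, hz⟩ := exists_mu_eq J A' (y := x'' - x') (by rw [map_sub, hxx, sub_self])
  exact ⟨_, x', hx', x'', hx'', z, rfl, hxx, hz, rfl⟩

include hI' hI'' in
theorem rel_unique {x : A' ⧸ J.map (algebraMap C' A')}
    {t t' : ((A' ⧸ J.map (algebraMap C' A')) ⧸ I) ⊗[C'] ↥J}
    (h : Rel J A' I I' I'' x t) (h' : Rel J A' I I' I'' x t') : t = t' := by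
  obtain ⟨x', hx', x'', hx'', z, hx'x, hx''x, hz, rfl⟩ := h
  obtain ⟨y', hy', y'', hy'', w, hy'x, hy''x, hw, rfl⟩ := h'
  obtain ⟨z', hz'⟩ := exists_mu_eq J A' (y := x' - y') (by rw [map_sub, hx'x, hy'x, sub_self])
  obtain ⟨z'', hz''⟩ := exists_mu_eq J A' (y := x'' - y'') (by rw [map_sub, hx''x, hy''x, sub_self])
  have e : z - w = z'' - z' := by
    apply mu_injective J A' A'
    rw [map_sub, map_sub, hz, hw, hz', hz'']
    ring
  have k' : tmap J A' (piA J A' I) z' = 0 :=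
    tmap_piA_eq_zero J A' I hI' z' (by rw [hz']; exact I'.sub_mem hx' hy')
  have k'' : tmap J A' (piA J A' I) z'' = 0 :=
    tmap_piA_eq_zero J A' I hI'' z'' (by rw [hz'']; exact I''.sub_mem hx'' hy'')
  have := congrArg (tmap J A' (piA J A' I)) e
  rw [map_sub, map_sub, k', k'', sub_zero, sub_eq_zero] at this
  exact this

omit [Module.Flat C' A'] [Module.Flat C' (A' ⧸ I')] [Module.Flat C' (A' ⧸ I'')] in
theorem rel_add {x y : A' ⧸ J.map (algebraMap C' A')}
    {t s : ((A' ⧸ J.map (algebraMap C' A')) ⧸ I) ⊗[C'] ↥J}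
    (h : Rel J A' I I' I'' x t) (h' : Rel J A' I I' I'' y s) :
    Rel J A' I I' I'' (x + y) (t + s) := by
  obtain ⟨x', hx', x'', hx'', z, hx'x, hx''x, hz, rfl⟩ := h
  obtain ⟨y', hy', y'', hy'', w, hy'x, hy''x, hw, rfl⟩ := h'
  refine ⟨x' + y', I'.add_mem hx' hy', x'' + y'', I''.add_mem hx'' hy'', z + w, ?_, ?_, ?_, ?_⟩
  · rw [map_add, hx'x, hy'x]
  · rw [map_add, hx''x, hy''x]
  · rw [map_add, hz, hw]; ring
  · rw [map_add]

omit [Module.Flat C' A'] [Module.Flat C' (A' ⧸ I')] [Module.Flat C' (A' ⧸ I'')] in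
theorem rel_smul (a : A') {x : A' ⧸ J.map (algebraMap C' A')}
    {t : ((A' ⧸ J.map (algebraMap C' A')) ⧸ I) ⊗[C'] ↥J}
    (h : Rel J A' I I' I'' x t) : Rel J A' I I' I'' (a • x) (a • t) := by
  obtain ⟨x', hx', x'', hx'', z, hx'x, hx''x, hz, rfl⟩ := h
  refine ⟨a * x', I'.mul_mem_left a hx', a * x'', I''.mul_mem_left a hx'', a • z, ?_, ?_, ?_, ?_⟩
  · rw [map_mul, hx'x]; rfl
  · rw [map_mul, hx''x]; rfl
  · rw [map_smul, hz, smul_eq_mul]; ring
  · rw [map_smul]

include hI' hI'' in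
theorem main :
    ∃! φ : ↥I →ₗ[A'] (((A' ⧸ J.map (algebraMap C' A')) ⧸ I) ⊗[C'] ↥J),
      (∀ (x : (A' ⧸ J.map (algebraMap C' A'))) (hx : x ∈ I) (x' x'' : A'), x' ∈ I' → x'' ∈ I'' →
          Ideal.Quotient.mk (J.map (algebraMap C' A')) x' = x →
          Ideal.Quotient.mk (J.map (algebraMap C' A')) x'' = x →
          ∀ z : A' ⊗[C'] ↥J,
            TensorProduct.rid C' A' (LinearMap.lTensor A' (Submodule.subtype J) z) = x'' - x' →
            LinearMap.rTensor ↥J (IsScalarTower.toAlgHom C' A'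
              ((A' ⧸ J.map (algebraMap C' A')) ⧸ I)).toLinearMap z = φ ⟨x, hx⟩) := by
  classical
  have hex := fun x : ↥I => exists_rel J A' I I' I'' hI' hI'' x.2
  choose f hf using hex
  let φ : ↥I →ₗ[A'] (((A' ⧸ J.map (algebraMap C' A')) ⧸ I) ⊗[C'] ↥J) :=
    { toFun := f
      map_add' := fun x y =>
        rel_unique J A' I I' I'' hI' hI'' (hf (x + y)) (rel_add J A' I I' I'' (hf x) (hf y))
      map_smul' := fun a x =>
        rel_unique J A' I I' I'' hI' hI'' (hf (a • x)) (rel_smul J A' I I' I'' a (hf x)) }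
  have hconv : ∀ z : A' ⊗[C'] ↥J, LinearMap.rTensor ↥J (IsScalarTower.toAlgHom C' A'
      ((A' ⧸ J.map (algebraMap C' A')) ⧸ I)).toLinearMap z = tmap J A' (piA J A' I) z := by
    intro z
    rw [tmap_eq]
    rfl
  refine ⟨φ, ?_, ?_⟩
  · intro x hx x' x'' hx' hx'' hx'x hx''x z hz
    rw [hconv]
    rw [← mu_eq J A'] at hz
    exact rel_unique J A' I I' I'' hI' hI'' ⟨x', hx', x'', hx'', z, hx'x, hx''x, hz, rfl⟩
      (hf ⟨x, hx⟩)
  · intro φ₂ hφ₂
    apply LinearMap.ext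
    intro x
    obtain ⟨x', hx', x'', hx'', z, hx'x, hx''x, hz, ht⟩ := hf x
    have := hφ₂ x.1 x.2 x' x'' hx' hx'' hx'x hx''x z (by rw [← mu_eq J A', hz])
    rw [hconv, ht] at this
    exact this.symm

end Main

end Groth.Agent.Lib.SmallExtIdeal18
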