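import Mathlib.RingTheory.Henselian
import Mathlib.Algebra.Polynomial.Identities
import Mathlib.RingTheory.LocalRing.ResidueField.Basic
import Mathlib.RingTheory.LocalRing.RingHom.Basic

/-!
Square-zero thickenings of henselian local rings (helper22).

If `π : T →+* S` is surjective with square-zero kernel and `S` is (henselian) local,
then `T` is (henselian) local and `π` is a local homomorphism.
Also the fibre product ring `S ×_{B/I} B` as a subring of `S × B`.
-/

namespace Groth.Agent.Lib.SqZeroHenselLocal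

open Polynomial IsLocalRing

section

variable {T S : Type*} [CommRing T] [CommRing S] (π : T →+* S)

theorem isUnit_of_isUnit_map (hπ : Function.Surjective π)
    (hK : ∀ x y, π x = 0 → π y = 0 → x * y = 0) {t : T} (ht : IsUnit (π t)) : IsUnit t := by
  obtain ⟨y, hy⟩ := hπ (↑ht.unit⁻¹)
  have h1 : π (t * y - 1) = 0 := by
    rw [map_sub, map_mul, hy, map_one, IsUnit.mul_val_inv, sub_self]
  have h2 : (t * y - 1) * (t * y - 1) = 0 := hK _ _ h1 h1
  have h3 : t * (y * (2 - t * y)) = 1 := by
    rw [eq_comm, ← sub_eq_zero, ← h2]; ring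
  exact .of_mul_eq_one _ h3

theorem isLocalHom_of_sqZero (hπ : Function.Surjective π)
    (hK : ∀ x y, π x = 0 → π y = 0 → x * y = 0) : IsLocalHom π :=
  ⟨fun _ ha => isUnit_of_isUnit_map π hπ hK ha⟩

theorem isLocalRing_of_sqZero [IsLocalRing S] (hπ : Function.Surjective π)
    (hK : ∀ x y, π x = 0 → π y = 0 → x * y = 0) : IsLocalRing T := by
  have : Nontrivial T := π.domain_nontrivial
  refine IsLocalRing.of_nonunits_add ?_
  intro a b ha hb
  have ha' : π a ∈ nonunits S := fun h => ha (isUnit_of_isUnit_map π hπ hK h)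
  have hb' : π b ∈ nonunits S := fun h => hb (isUnit_of_isUnit_map π hπ hK h)
  have hab := IsLocalRing.nonunits_add ha' hb'
  intro h
  exact hab (by rw [← map_add]; exact h.map π)

theorem mem_maximalIdeal_iff_of_sqZero [IsLocalRing S] [IsLocalRing T]
    (hπ : Function.Surjective π)
    (hK : ∀ x y, π x = 0 → π y = 0 → x * y = 0) (t : T) :
    t ∈ maximalIdeal T ↔ π t ∈ maximalIdeal S := by
  rw [mem_maximalIdeal, mem_maximalIdeal, mem_nonunits_iff, mem_nonunits_iff]
  exact ⟨fun h h' => h (isUnit_of_isUnit_map π hπ hK h'), fun h h' => h (h'.map π)⟩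

theorem henselianLocalRing_of_sqZero [HenselianLocalRing S] (hπ : Function.Surjective π)
    (hK : ∀ x y, π x = 0 → π y = 0 → x * y = 0) : HenselianLocalRing T := by
  have : IsLocalRing T := isLocalRing_of_sqZero π hπ hK
  have hmem := mem_maximalIdeal_iff_of_sqZero π hπ hK
  refine ⟨fun f hf a₀ h₁ h₂ => ?_⟩
  obtain ⟨aS, haS, haS'⟩ := HenselianLocalRing.is_henselian (f.map π) (hf.map π) (π a₀)
    (by rw [eval_map_apply]; exact (hmem _).1 h₁)
    (by rw [derivative_map, eval_map_apply]; exact h₂.map π)
  obtain ⟨a₁, rfl⟩ := hπ aS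
  have hfa₁ : π (f.eval a₁) = 0 := by rw [← eval_map_apply]; exact haS
  have hder : IsUnit (f.derivative.eval a₁) := by
    apply isUnit_of_isUnit_map π hπ hK
    obtain ⟨z, hd⟩ := f.derivative.evalSubFactor a₁ a₀
    have hu : IsUnit (π (f.derivative.eval a₀)) := h₂.map π
    by_contra hcon0
    have hcon : π (f.derivative.eval a₁) ∈ maximalIdeal S := hcon0
    have hnu : π (f.derivative.eval a₀) ∈ maximalIdeal S := by
      have : π (f.derivative.eval a₀) = π (f.derivative.eval a₁) -
          π z * (π a₁ - π a₀) := by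
        rw [← map_sub, ← map_mul, ← map_sub, ← hd]; ring_nf
      rw [this]
      exact Ideal.sub_mem _ hcon (Ideal.mul_mem_left _ _ haS')
    exact hnu hu
  obtain ⟨u, hu⟩ := hder.exists_right_inv
  refine ⟨a₁ - f.eval a₁ * u, ?_, ?_⟩
  · obtain ⟨k, hb⟩ := f.binomExpansion a₁ (-(f.eval a₁ * u))
    have hsq : (-(f.eval a₁ * u)) ^ 2 = 0 := by
      have h0 : π (-(f.eval a₁ * u)) = 0 := by rw [map_neg, map_mul, hfa₁, zero_mul, neg_zero]
      rw [pow_two]; exact hK _ _ h0 h0
    rw [IsRoot.def, sub_eq_add_neg, hb, hsq, mul_zero, add_zero]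
    have : f.derivative.eval a₁ * -(f.eval a₁ * u) = -(f.eval a₁ * (f.derivative.eval a₁ * u)) := by
      ring
    rw [this, hu, mul_one, add_neg_cancel]
  · rw [hmem, map_sub, map_sub, map_mul, hfa₁, zero_mul, sub_zero]
    exact haS'

end

section Fibre

variable {S B : Type*} [CommRing S] [CommRing B] (I : Ideal B) (g : S →+* B ⧸ I)

/-- The fibre product ring `S ×_{B/I} B` as a subring of `S × B`. -/
def fibreRing : Subring (S × B) :=
  RingHom.eqLocus (g.comp (RingHom.fst S B)) ((Ideal.Quotient.mk I).comp (RingHom.snd S B))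

/-- First projection of the fibre product ring. -/
def fibreFst : fibreRing I g →+* S := (RingHom.fst S B).comp (fibreRing I g).subtype

/-- Second projection of the fibre product ring. -/
def fibreSnd : fibreRing I g →+* B := (RingHom.snd S B).comp (fibreRing I g).subtype

theorem fibre_compat (t : fibreRing I g) :
    g (fibreFst I g t) = Ideal.Quotient.mk I (fibreSnd I g t) := t.2

theorem fibre_ext {t t' : fibreRing I g} (h1 : fibreFst I g t = fibreFst I g t')
    (h2 : fibreSnd I g t = fibreSnd I g t') : t = t' :=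
  Subtype.ext (Prod.ext h1 h2)

theorem fibreFst_surjective : Function.Surjective (fibreFst I g) := by
  intro s
  obtain ⟨b, hb⟩ := Ideal.Quotient.mk_surjective (g s)
  exact ⟨⟨(s, b), hb.symm⟩, rfl⟩

theorem fibreFst_sqZero (hI : I ^ 2 = ⊥) (x y : fibreRing I g)
    (hx : fibreFst I g x = 0) (hy : fibreFst I g y = 0) : x * y = 0 := by
  apply fibre_ext
  · rw [map_mul, hx, zero_mul, map_zero]
  · have hx' : fibreSnd I g x ∈ I := by
      rw [← Ideal.Quotient.eq_zero_iff_mem, ← fibre_compat, hx, map_zero]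
    have hy' : fibreSnd I g y ∈ I := by
      rw [← Ideal.Quotient.eq_zero_iff_mem, ← fibre_compat, hy, map_zero]
    have : fibreSnd I g x * fibreSnd I g y ∈ I ^ 2 := by
      rw [pow_two]; exact Ideal.mul_mem_mul hx' hy'
    rw [hI, Ideal.mem_bot] at this
    rw [map_mul, this, map_zero]

/-- A compatible pair of maps gives a map to the fibre product ring. -/
def fibreLift {A : Type*} [CommRing A] (a : A →+* S) (b : A →+* B)
    (h : g.comp a = (Ideal.Quotient.mk I).comp b) : A →+* fibreRing I g :=
  (a.prod b).codRestrict (fibreRing I g) (fun x => congrArg (fun (k : A →+* B ⧸ I) => k x) h)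

@[simp]
theorem fibreFst_fibreLift {A : Type*} [CommRing A] (a : A →+* S) (b : A →+* B)
    (h : g.comp a = (Ideal.Quotient.mk I).comp b) (x : A) :
    fibreFst I g (fibreLift I g a b h x) = a x := rfl

@[simp]
theorem fibreSnd_fibreLift {A : Type*} [CommRing A] (a : A →+* S) (b : A →+* B)
    (h : g.comp a = (Ideal.Quotient.mk I).comp b) (x : A) :
    fibreSnd I g (fibreLift I g a b h x) = b x := rfl

theorem fibreRing_henselianLocalRing [HenselianLocalRing S] (hI : I ^ 2 = ⊥) :
    HenselianLocalRing (fibreRing I g) :=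
  henselianLocalRing_of_sqZero (fibreFst I g) (fibreFst_surjective I g) (fun x y hx hy =>
    fibreFst_sqZero I g hI x y hx hy)

theorem fibreFst_isLocalHom (hI : I ^ 2 = ⊥) : IsLocalHom (fibreFst I g) :=
  isLocalHom_of_sqZero (fibreFst I g) (fibreFst_surjective I g) (fun x y hx hy =>
    fibreFst_sqZero I g hI x y hx hy)

end Fibre

end Groth.Agent.Lib.SqZeroHenselLocal
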