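/-
Smoothness at a prime and lifting along small extensions of Artinian local rings.
Author: helper89
-/
import Groth.Agent.Lib.AdicDiscreteStalk
import Groth.Agent.S9316

set_option autoImplicit false

namespace Groth.Agent.Lib.SmallExtSmooth

open IsLocalRing Groth.Agent.Lib.AdicFSLocal Groth.Agent.Lib.AdicDiscreteStalk

universe u

variable {R S : Type u} [CommRing R] [CommRing S] [Algebra R S] (q : Ideal S) [q.IsPrime]

/-- Smoothness at `q` gives lifts along small extensions. -/
theorem exists_lift_of_isSmoothAt (h : Algebra.IsSmoothAt R q)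
    {B' B : Type u} [CommRing B'] [CommRing B] [IsLocalRing B'] [IsLocalRing B]
    [Algebra R B'] [Algebra R B] (π : B' →ₐ[R] B) (hπ : Function.Surjective π)
    (hker : ∃ t : B', RingHom.ker π.toRingHom = Ideal.span {t} ∧
      ∀ a ∈ maximalIdeal B', a * t = 0)
    (g : S →ₐ[R] B) (hg : (maximalIdeal B).comap g = q) :
    ∃ g' : S →ₐ[R] B', π.comp g' = g := by
  obtain ⟨t, ht, hmt⟩ := hker
  have htm : t ∈ maximalIdeal B' := by
    by_contra hu
    have hu' : IsUnit t := by rwa [mem_maximalIdeal, mem_nonunits_iff, not_not] at hu
    have h1 : π t = 0 := by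
      have : t ∈ RingHom.ker π.toRingHom := by rw [ht]; exact Ideal.mem_span_singleton_self t
      exact this
    have h2 : IsUnit (π t) := hu'.map π
    rw [h1] at h2
    exact not_isUnit_zero h2
  have hnil : IsNilpotent (RingHom.ker (π : B' →+* B)) := by
    refine ⟨2, ?_⟩
    have h1 : RingHom.ker (π : B' →+* B) = Ideal.span {t} := ht
    rw [h1, Ideal.span_singleton_pow, pow_two, hmt t htm, Ideal.zero_eq_bot,
      Ideal.span_singleton_eq_bot]
  have hunit : ∀ y : q.primeCompl, IsUnit (g y) := by
    intro y
    by_contra hy
    have h1 : (y : S) ∈ (maximalIdeal B).comap g := hy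
    rw [hg] at h1
    exact y.2 h1
  let gq : Localization.AtPrime q →ₐ[R] B := IsLocalization.liftAlgHom (M := q.primeCompl) hunit
  have hgq : ∀ s : S, gq (algebraMap S (Localization.AtPrime q) s) = g s := fun s =>
    IsLocalization.lift_eq _ s
  have hfs : Algebra.FormallySmooth R (Localization.AtPrime q) := h
  let l : Localization.AtPrime q →ₐ[R] B' := Algebra.FormallySmooth.liftOfSurjective gq π hπ hnil
  refine ⟨l.comp (IsScalarTower.toAlgHom R S (Localization.AtPrime q)), AlgHom.ext fun s => ?_⟩
  show π (l (algebraMap S (Localization.AtPrime q) s)) = g s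
  rw [Algebra.FormallySmooth.liftOfSurjective_apply, hgq]

/-- Lifting along small extensions gives smoothness at `q` (given the ring-level criterion). -/
theorem isSmoothAt_of_exists_lift (key : Key.{u}) [IsNoetherianRing R] [Algebra.FiniteType R S]
    (H : ∀ (B' B : Type u) [CommRing B'] [CommRing B] [IsLocalRing B'] [IsLocalRing B]
        [IsArtinianRing B'] [IsArtinianRing B] [Algebra R B'] [Algebra R B] (π : B' →ₐ[R] B),
        Function.Surjective π →
        (∃ t : B', RingHom.ker π.toRingHom = Ideal.span {t} ∧
          ∀ a ∈ IsLocalRing.maximalIdeal B', a * t = 0) →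
        ∀ g : S →ₐ[R] B, (IsLocalRing.maximalIdeal B).comap g = q →
          ∃ g' : S →ₐ[R] B', π.comp g' = g) :
    Algebra.IsSmoothAt R q := by
  classical
  have hfp : Algebra.FinitePresentation R S :=
    Algebra.FinitePresentation.of_finiteType.mp inferInstance
  have hNS : IsNoetherianRing S := Algebra.FiniteType.isNoetherianRing R S
  have hNSq : IsNoetherianRing (Localization.AtPrime q) :=
    IsLocalization.isNoetherianRing q.primeCompl _ hNS
  obtain ⟨g₀, hg₀, hsm⟩ := key R S q (by
    let algq : Algebra (Localization.AtPrime (Ideal.comap (algebraMap R S) q))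
        (Localization.AtPrime q) :=
      (Localization.localRingHom (Ideal.comap (algebraMap R S) q) q (algebraMap R S) rfl).toAlgebra
    have hloc : IsLocalHom (algebraMap (Localization.AtPrime (Ideal.comap (algebraMap R S) q))
        (Localization.AtPrime q)) := Localization.isLocalHom_localRingHom _ _ _ rfl
    have hst : IsScalarTower R (Localization.AtPrime (Ideal.comap (algebraMap R S) q))
        (Localization.AtPrime q) := IsScalarTower.of_algebraMap_eq (fun r => by
      show algebraMap R (Localization.AtPrime q) r =
        Localization.localRingHom (Ideal.comap (algebraMap R S) q) q (algebraMap R S) rfl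
          (algebraMap R _ r)
      rw [Localization.localRingHom_to_map]
      rfl)
    rw [Groth.Agent.S9316.result]
    intro A _ _ _ algA hlocA J hJ2 hlen _ ψ hψloc hbij
    -- `R`-algebra structures
    let algRA : Algebra R A := ((algebraMap (Localization.AtPrime (Ideal.comap (algebraMap R S) q))
      A).comp (algebraMap R _)).toAlgebra
    have hstA : IsScalarTower R (Localization.AtPrime (Ideal.comap (algebraMap R S) q)) A :=
      IsScalarTower.of_algebraMap_eq (fun _ => rfl)
    have hstAJ : IsScalarTower R (Localization.AtPrime (Ideal.comap (algebraMap R S) q)) (A ⧸ J) :=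
      IsScalarTower.of_algebraMap_eq (fun _ => rfl)
    -- the generator of `J`
    have hsimple : IsSimpleModule A J := Module.length_eq_one_iff.mp hlen
    have hnt : Nontrivial J := IsSimpleModule.nontrivial A J
    obtain ⟨t, ht0⟩ := exists_ne (0 : J)
    have htop : Submodule.span A {t} = ⊤ := IsSimpleModule.span_singleton_eq_top A ht0
    have hJspan : J = Ideal.span {(t : A)} := by
      apply le_antisymm
      · intro j hj
        have h1 : (⟨j, hj⟩ : J) ∈ Submodule.span A {t} := by rw [htop]; trivial
        obtain ⟨a, ha⟩ := Submodule.mem_span_singleton.mp h1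
        rw [Ideal.mem_span_singleton']
        refine ⟨a, ?_⟩
        have := congrArg Subtype.val ha
        simpa using this
      · rw [Ideal.span_le, Set.singleton_subset_iff]
        exact t.2
    have hann : ∀ a ∈ maximalIdeal A, a * (t : A) = 0 := by
      intro a ha
      have hmax : (Module.annihilator A J).IsMaximal := IsSimpleModule.annihilator_isMaximal
      have h1 : Module.annihilator A J = maximalIdeal A := IsLocalRing.eq_maximalIdeal hmax
      rw [← h1, Module.mem_annihilator] at ha
      have := congrArg Subtype.val (ha t)
      simpa using this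
    -- the map `g`
    let g : S →ₐ[R] A ⧸ J := (ψ.restrictScalars R).comp
      (IsScalarTower.toAlgHom R S (Localization.AtPrime q))
    have hg : ∀ s : S, g s = ψ (algebraMap S (Localization.AtPrime q) s) := fun s => rfl
    have hgq : (maximalIdeal (A ⧸ J)).comap g = q := by
      ext s
      rw [Ideal.mem_comap, hg, ← IsLocalization.AtPrime.to_map_mem_maximal_iff
        (Localization.AtPrime q) q s, mem_maximalIdeal, mem_maximalIdeal, mem_nonunits_iff,
        mem_nonunits_iff, not_iff_not]
      constructor
      · intro hu
        exact hψloc.map_nonunit _ hu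
      · intro hu
        exact hu.map ψ
    obtain ⟨g', hg'⟩ := H A (A ⧸ J) (Ideal.Quotient.mkₐ R J) Ideal.Quotient.mk_surjective
      ⟨(t : A), by
        have : RingHom.ker (Ideal.Quotient.mkₐ R J).toRingHom = J := by
          ext y
          rw [RingHom.mem_ker]
          exact Ideal.Quotient.eq_zero_iff_mem
        exact this.trans hJspan, hann⟩ g hgq
    have hg'x : ∀ s : S, Ideal.Quotient.mk J (g' s) = g s := fun s => AlgHom.congr_fun hg' s
    -- extension to the localization
    have hmkloc : IsLocalHom (Ideal.Quotient.mk J) :=
      IsLocalHom.of_surjective _ Ideal.Quotient.mk_surjective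
    have hunit : ∀ y : q.primeCompl, IsUnit (g'.toRingHom y) := by
      intro y
      apply hmkloc.map_nonunit
      show IsUnit (Ideal.Quotient.mk J (g' y))
      rw [hg'x]
      by_contra hy
      have h1 : (y : S) ∈ (maximalIdeal (A ⧸ J)).comap g := hy
      rw [hgq] at h1
      exact y.2 h1
    let χ₀ : Localization.AtPrime q →+* A := IsLocalization.lift (M := q.primeCompl) hunit
    have hχ₀ : ∀ s : S, χ₀ (algebraMap S (Localization.AtPrime q) s) = g' s := fun s =>
      IsLocalization.lift_eq _ s
    have hcomm : χ₀.comp (algebraMap (Localization.AtPrime (Ideal.comap (algebraMap R S) q))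
        (Localization.AtPrime q)) = algebraMap _ A := by
      apply IsLocalization.ringHom_ext (Ideal.comap (algebraMap R S) q).primeCompl
      ext r
      show χ₀ (Localization.localRingHom (Ideal.comap (algebraMap R S) q) q (algebraMap R S) rfl
        (algebraMap R _ r)) = algebraMap _ A (algebraMap R _ r)
      rw [Localization.localRingHom_to_map, hχ₀, AlgHom.commutes]
      rfl
    refine ⟨{ χ₀ with commutes' := fun a => RingHom.congr_fun hcomm a }, ?_⟩
    have hring : (Ideal.Quotient.mk J).comp χ₀ = ψ.toRingHom := by
      apply IsLocalization.ringHom_ext q.primeCompl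
      ext s
      show Ideal.Quotient.mk J (χ₀ (algebraMap S (Localization.AtPrime q) s)) =
        ψ (algebraMap S (Localization.AtPrime q) s)
      rw [hχ₀, hg'x, hg]
    exact AlgHom.ext fun y => RingHom.congr_fun hring y)
  have h1 := (Algebra.basicOpen_subset_smoothLocus_iff_smooth (R := R) (A := S) (f := g₀)).mpr hsm
  exact h1 (show (⟨q, inferInstance⟩ : PrimeSpectrum S) ∈ PrimeSpectrum.basicOpen g₀ from hg₀)

end Groth.Agent.Lib.SmallExtSmooth
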