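import Groth.Agent.Lib.SmallExtIdeal18
import Groth.Agent.Lib.FlatCrit

/-!
# Flat liftings of an ideal over a small extension form a torsor (helper18)

Given one flat lifting `I'` of `I` and `φ : I → B ⊗ J`, construct the unique flat lifting `I''`
whose difference from `I'` is `φ`.
-/

set_option autoImplicit false
universe u
open scoped TensorProduct

namespace Groth.Agent.Lib.SmallExtTorsor18

open Groth.Agent.Lib.SmallExt18 Groth.Agent.Lib.SmallExtIdeal18

section General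

variable {C' : Type*} [CommRing C'] (J : Ideal C')
  (A' : Type*) [CommRing A'] [Algebra C' A']
  {M' : Type*} [AddCommGroup M'] [Module A' M'] [Module C' M'] [IsScalarTower C' A' M']
  {P' : Type*} [AddCommGroup P'] [Module A' P'] [Module C' P'] [IsScalarTower C' A' P']

theorem tmap_surjective (f : M' →ₗ[A'] P') (hf : Function.Surjective f) :
    Function.Surjective (tmap J A' f) := by
  intro y
  have hsurj : Function.Surjective (f.restrictScalars C') := hf
  obtain ⟨z, hz⟩ := LinearMap.rTensor_surjective ↥J (g := f.restrictScalars C') hsurj y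
  exact ⟨z, by rw [tmap_eq, hz]⟩

/-- Induction principle for the kernel of `f ⊗ id`. -/
theorem ker_tmap_induction (f : M' →ₗ[A'] P') (hf : Function.Surjective f)
    (p : M' ⊗[C'] ↥J → Prop) (h0 : p 0)
    (hk : ∀ k ∈ LinearMap.ker f, ∀ j : J, p (k ⊗ₜ[C'] j))
    (hadd : ∀ a b, p a → p b → p (a + b))
    (w : M' ⊗[C'] ↥J) (hw : tmap J A' f w = 0) : p w := by
  rw [tmap_eq] at hw
  have hex : Function.Exact (((LinearMap.ker f).restrictScalars C').subtype)
      (f.restrictScalars C') := by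
    intro x
    simp only [LinearMap.coe_restrictScalars]
    constructor
    · intro hx; exact ⟨⟨x, hx⟩, rfl⟩
    · rintro ⟨y, rfl⟩; exact y.2
  have hsurj : Function.Surjective (f.restrictScalars C') := hf
  have := rTensor_exact ↥J hex hsurj
  obtain ⟨w', rfl⟩ := (this w).1 hw
  clear hw
  induction w' using TensorProduct.induction_on with
  | zero => simpa using h0
  | tmul n j => exact hk n.1 n.2 j
  | add x y hx hy => rw [map_add]; exact hadd _ _ hx hy

theorem tmap_injective_of_ker (f : M' →ₗ[A'] P') (hf : Function.Surjective f)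
    (h : ∀ n ∈ LinearMap.ker f, ∀ j : J, n ⊗ₜ[C'] j = (0 : M' ⊗[C'] ↥J)) :
    Function.Injective (tmap J A' f) := by
  rw [injective_iff_map_eq_zero]
  intro w hw
  refine ker_tmap_induction J A' f hf (fun w => w = 0) rfl h ?_ w hw
  intro a b ha hb
  rw [ha, hb, add_zero]

theorem one_tmul_eq_zero_of_mem {n : M'}
    (hn : n ∈ (J.map (algebraMap C' A')) • (⊤ : Submodule A' M')) :
    (1 : C' ⧸ J) ⊗ₜ[C'] n = (0 : (C' ⧸ J) ⊗[C'] M') := by
  have key : ∀ r ∈ J.map (algebraMap C' A'), ∀ y : M',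
      (1 : C' ⧸ J) ⊗ₜ[C'] (r • y) = (0 : (C' ⧸ J) ⊗[C'] M') := by
    intro r hr
    refine Submodule.span_induction ?_ ?_ ?_ ?_ hr
    · rintro _ ⟨ρ, hρ, rfl⟩ y
      rw [algebraMap_smul, ← TensorProduct.smul_tmul]
      have : ρ • (1 : C' ⧸ J) = 0 := by
        rw [Algebra.smul_def, mul_one]
        exact Ideal.Quotient.eq_zero_iff_mem.2 hρ
      rw [this, TensorProduct.zero_tmul]
    · intro y; rw [zero_smul, TensorProduct.tmul_zero]
    · intro r s _ _ hr hs y
      rw [add_smul, TensorProduct.tmul_add, hr y, hs y, add_zero]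
    · intro a r _ hr y
      rw [smul_eq_mul, mul_comm, mul_smul]
      exact hr _
  refine Submodule.smul_induction_on hn ?_ ?_
  · intro r hr y _
    exact key r hr y
  · intro x y hx hy
    rw [TensorProduct.tmul_add, hx, hy, add_zero]

/-- Injectivity of `J ⊗ M → C' ⊗ M` from injectivity of `mu`. -/
theorem rTensor_subtype_injective (h : Function.Injective (mu J A' M')) :
    Function.Injective (LinearMap.rTensor M' (Submodule.subtype J)) := by
  have hcomp : ∀ t : ↥J ⊗[C'] M', TensorProduct.lid C' M'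
      (LinearMap.rTensor M' (Submodule.subtype J) t) =
      mu J A' M' (TensorProduct.comm C' ↥J M' t) := by
    intro t
    induction t using TensorProduct.induction_on with
    | zero => simp
    | tmul j n => simp
    | add x y hx hy => simp only [map_add, hx, hy]
  intro t t' htt'
  apply (TensorProduct.comm C' ↥J M').injective
  apply h
  rw [← hcomp, ← hcomp, htt']

end General

section Main

variable {C' : Type u} [CommRing C'] (J : Ideal C')
  (A' : Type u) [CommRing A'] [Algebra C' A']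
  (I : Ideal (A' ⧸ J.map (algebraMap C' A')))

theorem piA_surjective : Function.Surjective (piA J A' I) := by
  intro b
  obtain ⟨a, rfl⟩ := Ideal.Quotient.mk_surjective b
  obtain ⟨a', rfl⟩ := Ideal.Quotient.mk_surjective a
  exact ⟨a', rfl⟩

theorem mk_mu (z : A' ⊗[C'] ↥J) :
    Ideal.Quotient.mk (J.map (algebraMap C' A')) (mu J A' A' z) = 0 := by
  have h : mu J A' A' z ∈ LinearMap.range (mu J A' A') := ⟨z, rfl⟩
  rw [range_mu, smul_eq_mul, Ideal.mul_top] at h
  exact Ideal.Quotient.eq_zero_iff_mem.2 h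

theorem exists_of_piA_eq_zero {I₂ : Ideal A'}
    (hI₂ : I₂.map (Ideal.Quotient.mk (J.map (algebraMap C' A'))) = I) {a : A'}
    (ha : piA J A' I a = 0) : ∃ i ∈ I₂, a - i ∈ J.map (algebraMap C' A') := by
  have h1 : Ideal.Quotient.mk I (Ideal.Quotient.mk _ a) = 0 := ha
  rw [Ideal.Quotient.eq_zero_iff_mem, ← hI₂,
    Ideal.mem_map_iff_of_surjective _ Ideal.Quotient.mk_surjective] at h1
  obtain ⟨i, hi, hia⟩ := h1
  exact ⟨i, hi, Ideal.Quotient.eq.1 hia.symm⟩

section Small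

variable (hJJ : J * J = ⊥)
include hJJ

theorem smul_eq_zero_of_mem_map (j : J) {y : A'} (hy : y ∈ J.map (algebraMap C' A')) :
    (j : C') • y = 0 := by
  have h : algebraMap C' A' (j : C') * y ∈ J.map (algebraMap C' A') * J.map (algebraMap C' A') :=
    Ideal.mul_mem_mul (Ideal.mem_map_of_mem _ j.2) hy
  rw [← Ideal.map_mul, hJJ, Ideal.map_bot] at h
  rw [Algebra.smul_def]
  exact h

theorem mu_mem_of_tmap_eq_zero {I₂ : Ideal A'}
    (hI₂ : I₂.map (Ideal.Quotient.mk (J.map (algebraMap C' A'))) = I) (w : A' ⊗[C'] ↥J)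
    (hw : tmap J A' (piA J A' I) w = 0) : mu J A' A' w ∈ I₂ := by
  refine ker_tmap_induction J A' (piA J A' I) (piA_surjective J A' I)
    (fun w => mu J A' A' w ∈ I₂) ?_ ?_ ?_ w hw
  · simp
  · intro k hk j
    obtain ⟨i, hi, hki⟩ := exists_of_piA_eq_zero J A' I hI₂ (LinearMap.mem_ker.1 hk)
    have h0 := smul_eq_zero_of_mem_map J A' hJJ j hki
    rw [smul_sub, sub_eq_zero] at h0
    show mu J A' A' (k ⊗ₜ[C'] j) ∈ I₂
    rw [mu_tmul, h0, Algebra.smul_def]
    exact I₂.mul_mem_left _ hi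
  · intro a b ha hb
    show mu J A' A' (a + b) ∈ I₂
    rw [map_add]
    exact I₂.add_mem ha hb

end Small

variable [Module.Flat C' A'] (I' : Ideal A') [Module.Flat C' (A' ⧸ I')]
  (hI' : I'.map (Ideal.Quotient.mk (J.map (algebraMap C' A'))) = I)
  (φ : ↥I →ₗ[A'] (((A' ⧸ J.map (algebraMap C' A')) ⧸ I) ⊗[C'] ↥J))

/-- Reduction `I' → I`. -/
def rI : ↥I' →ₗ[A'] ↥I where
  toFun x' := ⟨Ideal.Quotient.mk (J.map (algebraMap C' A')) x'.1, by
    rw [← hI']; exact Ideal.mem_map_of_mem _ x'.2⟩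
  map_add' x y := by
    apply Subtype.ext
    simp
  map_smul' a x := by
    apply Subtype.ext
    simp only [SetLike.val_smul, smul_eq_mul, map_mul, RingHom.id_apply]
    rfl

/-- The linear map cutting out the graph-like submodule. -/
noncomputable def LL : (↥I' × (A' ⊗[C'] ↥J)) →ₗ[A']
    (((A' ⧸ J.map (algebraMap C' A')) ⧸ I) ⊗[C'] ↥J) :=
  (tmap J A' (piA J A' I)) ∘ₗ (LinearMap.snd A' ↥I' (A' ⊗[C'] ↥J)) -
    φ ∘ₗ (rI J A' I I' hI') ∘ₗ (LinearMap.fst A' ↥I' (A' ⊗[C'] ↥J))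

/-- `(x', z) ↦ x' + mu z`. -/
noncomputable def EE : (↥I' × (A' ⊗[C'] ↥J)) →ₗ[A'] A' :=
  (Submodule.subtype I') ∘ₗ (LinearMap.fst A' ↥I' (A' ⊗[C'] ↥J)) +
    (mu J A' A') ∘ₗ (LinearMap.snd A' ↥I' (A' ⊗[C'] ↥J))

/-- The lifting of `I` differing from `I'` by `φ`. -/
noncomputable def I2 : Ideal A' :=
  Submodule.map (EE J A' I') (LinearMap.ker (LL J A' I I' hI' φ))

omit [Module.Flat C' A'] [Module.Flat C' (A' ⧸ I')] in
theorem mem_I2 {x'' : A'} : x'' ∈ I2 J A' I I' hI' φ ↔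
    ∃ (x' : ↥I') (z : A' ⊗[C'] ↥J),
      tmap J A' (piA J A' I) z = φ (rI J A' I I' hI' x') ∧ (x' : A') + mu J A' A' z = x'' := by
  constructor
  · rintro ⟨⟨x', z⟩, hker, rfl⟩
    refine ⟨x', z, ?_, rfl⟩
    have := LinearMap.mem_ker.1 hker
    simp only [LL, LinearMap.sub_apply, LinearMap.comp_apply, LinearMap.snd_apply,
      LinearMap.fst_apply, sub_eq_zero] at this
    exact this
  · rintro ⟨x', z, h, rfl⟩
    refine ⟨⟨x', z⟩, ?_, rfl⟩
    apply LinearMap.mem_ker.2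
    simp only [LL, LinearMap.sub_apply, LinearMap.comp_apply, LinearMap.snd_apply,
      LinearMap.fst_apply, sub_eq_zero]
    exact h

omit [Module.Flat C' A'] [Module.Flat C' (A' ⧸ I')] in
theorem map_I2 : (I2 J A' I I' hI' φ).map (Ideal.Quotient.mk (J.map (algebraMap C' A'))) = I := by
  apply le_antisymm
  · rw [Ideal.map_le_iff_le_comap]
    intro x'' hx''
    obtain ⟨x', z, -, rfl⟩ := (mem_I2 J A' I I' hI' φ).1 hx''
    rw [Ideal.mem_comap, map_add, mk_mu, add_zero]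
    exact (rI J A' I I' hI' x').2
  · intro x hx
    have h1 := hx
    rw [← hI', Ideal.mem_map_iff_of_surjective _ Ideal.Quotient.mk_surjective] at h1
    obtain ⟨x', hx', rfl⟩ := h1
    obtain ⟨z, hz⟩ := tmap_surjective J A' (piA J A' I) (piA_surjective J A' I)
      (φ (rI J A' I I' hI' ⟨x', hx'⟩))
    have hmem : x' + mu J A' A' z ∈ I2 J A' I I' hI' φ :=
      (mem_I2 J A' I I' hI' φ).2 ⟨⟨x', hx'⟩, z, hz, rfl⟩
    have := Ideal.mem_map_of_mem (Ideal.Quotient.mk (J.map (algebraMap C' A'))) hmem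
    rwa [map_add, mk_mu, add_zero] at this

theorem property_I2 (x : (A' ⧸ J.map (algebraMap C' A'))) (hx : x ∈ I) (x' x'' : A')
    (hx' : x' ∈ I') (hx'' : x'' ∈ I2 J A' I I' hI' φ)
    (hx'x : Ideal.Quotient.mk (J.map (algebraMap C' A')) x' = x)
    (hx''x : Ideal.Quotient.mk (J.map (algebraMap C' A')) x'' = x)
    (z : A' ⊗[C'] ↥J) (hz : mu J A' A' z = x'' - x') :
    tmap J A' (piA J A' I) z = φ ⟨x, hx⟩ := by
  obtain ⟨y', z₁, hz₁, rfl⟩ := (mem_I2 J A' I I' hI' φ).1 hx''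
  have hy'x : Ideal.Quotient.mk (J.map (algebraMap C' A')) (y' : A') = x := by
    rw [map_add, mk_mu, add_zero] at hx''x
    exact hx''x
  have hr : rI J A' I I' hI' y' = ⟨x, hx⟩ := Subtype.ext hy'x
  obtain ⟨z₀, hz₀⟩ := exists_mu_eq J A' (y := (y' : A') - x')
    (by rw [map_sub, hy'x, hx'x, sub_self])
  have k₀ : tmap J A' (piA J A' I) z₀ = 0 :=
    tmap_piA_eq_zero J A' I hI' z₀ (by rw [hz₀]; exact I'.sub_mem y'.2 hx')
  have e : z = z₀ + z₁ := by
    apply mu_injective J A' A'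
    rw [map_add, hz, hz₀]
    ring
  rw [e, map_add, k₀, zero_add, hz₁, hr]

section Flat

variable (hJJ : J * J = ⊥)
include hJJ

theorem flat_I2 [Module.Flat (C' ⧸ J) ((A' ⧸ J.map (algebraMap C' A')) ⧸ I)] :
    Module.Flat C' (A' ⧸ I2 J A' I I' hI' φ) := by
  have hI₂ := map_I2 J A' I I' hI' φ
  have hmem := fun x'' => mem_I2 J A' I I' hI' φ (x'' := x'')
  set I₂ : Ideal A' := I2 J A' I I' hI' φ with hI₂def
  have hle : I₂ ≤ LinearMap.ker (piA J A' I) := fun y hy =>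
    LinearMap.mem_ker.2 (piA_eq_zero J A' I hI₂ hy)
  set ρ : (A' ⧸ I₂) →ₗ[A'] ((A' ⧸ J.map (algebraMap C' A')) ⧸ I) :=
    Submodule.liftQ I₂ (piA J A' I) hle with hρ
  have hρmk : ∀ a : A', ρ (Submodule.mkQ I₂ a) = piA J A' I a := fun a => rfl
  have hρsurj : Function.Surjective ρ := by
    intro b
    obtain ⟨a, rfl⟩ := piA_surjective J A' I b
    exact ⟨Submodule.mkQ I₂ a, rfl⟩
  have hcomp : piA J A' I = ρ ∘ₗ (Submodule.mkQ I₂) := by
    ext
    rfl
  have hker : ∀ n ∈ LinearMap.ker ρ,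
      n ∈ (J.map (algebraMap C' A')) • (⊤ : Submodule A' (A' ⧸ I₂)) := by
    intro n hn
    obtain ⟨a, rfl⟩ := Submodule.mkQ_surjective I₂ n
    have h0 : piA J A' I a = 0 := LinearMap.mem_ker.1 hn
    obtain ⟨i, hi, hai⟩ := exists_of_piA_eq_zero J A' I hI₂ h0
    have : Submodule.mkQ I₂ a = (a - i) • Submodule.mkQ I₂ (1 : A') := by
      rw [← map_smul, smul_eq_mul, mul_one, map_sub, Submodule.mkQ_apply, Submodule.mkQ_apply,
        (Submodule.Quotient.mk_eq_zero _).2 hi, sub_zero]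
    rw [this]
    exact Submodule.smul_mem_smul hai Submodule.mem_top
  have hmuinj : Function.Injective (mu J A' (A' ⧸ I₂)) := by
    rw [injective_iff_map_eq_zero]
    intro z hz
    obtain ⟨zt, rfl⟩ := tmap_surjective J A' (Submodule.mkQ I₂) (Submodule.mkQ_surjective I₂) z
    have hzt : mu J A' A' zt ∈ I₂ := by
      rw [mu_tmap] at hz
      exact (Submodule.Quotient.mk_eq_zero _).1 hz
    obtain ⟨x', z₁, hz₁, hsum⟩ := (hmem _).1 hzt
    have hx'0 : Ideal.Quotient.mk (J.map (algebraMap C' A')) (x' : A') = 0 := by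
      have := congrArg (Ideal.Quotient.mk (J.map (algebraMap C' A'))) hsum
      rw [map_add, mk_mu, mk_mu, add_zero] at this
      exact this
    have hr0 : rI J A' I I' hI' x' = 0 := Subtype.ext hx'0
    rw [hr0, map_zero] at hz₁
    obtain ⟨z₀, hz₀⟩ := exists_mu_eq J A' hx'0
    have k₀ : tmap J A' (piA J A' I) z₀ = 0 :=
      tmap_piA_eq_zero J A' I hI' z₀ (by rw [hz₀]; exact x'.2)
    have e : zt = z₀ + z₁ := by
      apply mu_injective J A' A'
      rw [map_add, hz₀, hsum]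
    have h0 : tmap J A' (piA J A' I) zt = 0 := by rw [e, map_add, k₀, hz₁, add_zero]
    rw [hcomp, tmap_comp] at h0
    exact tmap_injective_of_ker J A' ρ hρsurj
      (fun n hn j => tmul_eq_zero_of_mem J A' J hJJ (hker n hn) j) (h0.trans (map_zero _).symm)
  have h1 := rTensor_subtype_injective J A' hmuinj
  -- the reduction is `B`
  let g : (C' ⧸ J) ⊗[C'] (A' ⧸ I₂) →ₗ[C' ⧸ J] ((A' ⧸ J.map (algebraMap C' A')) ⧸ I) :=
    TensorProduct.AlgebraTensorModule.lift
      (LinearMap.toSpanSingleton (C' ⧸ J)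
        ((A' ⧸ I₂) →ₗ[C'] ((A' ⧸ J.map (algebraMap C' A')) ⧸ I)) (ρ.restrictScalars C'))
  have hg : ∀ (c : C' ⧸ J) (n : A' ⧸ I₂), g (c ⊗ₜ[C'] n) = c • ρ n := fun c n => rfl
  have hone : ∀ t : (C' ⧸ J) ⊗[C'] (A' ⧸ I₂), ∃ n, t = (1 : C' ⧸ J) ⊗ₜ[C'] n := by
    intro t
    induction t using TensorProduct.induction_on with
    | zero => exact ⟨0, by simp⟩
    | tmul c n =>
      obtain ⟨c₀, rfl⟩ := Ideal.Quotient.mk_surjective c
      refine ⟨c₀ • n, ?_⟩
      rw [← TensorProduct.smul_tmul, Algebra.smul_def, mul_one]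
      rfl
    | add x y hx hy =>
      obtain ⟨n, rfl⟩ := hx
      obtain ⟨n', rfl⟩ := hy
      exact ⟨n + n', by rw [TensorProduct.tmul_add]⟩
  have hgbij : Function.Bijective g := by
    constructor
    · rw [injective_iff_map_eq_zero]
      intro t ht
      obtain ⟨n, rfl⟩ := hone t
      rw [hg, one_smul] at ht
      exact one_tmul_eq_zero_of_mem J A' (hker n (LinearMap.mem_ker.2 ht))
    · intro b
      obtain ⟨n, rfl⟩ := hρsurj b
      exact ⟨(1 : C' ⧸ J) ⊗ₜ[C'] n, by rw [hg, one_smul]⟩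
  have : Module.Flat (C' ⧸ J) ((C' ⧸ J) ⊗[C'] (A' ⧸ I₂)) :=
    Module.Flat.of_linearEquiv (LinearEquiv.ofBijective g hgbij)
  exact Groth.Agent.Lib.FlatCrit.flat_of_isNilpotent J ⟨2, by rw [pow_two, hJJ]; rfl⟩ h1

omit [Module.Flat C' A'] [Module.Flat C' (A' ⧸ I')] in
theorem eq_I2 (I₃ : Ideal A')
    (hI₃ : I₃.map (Ideal.Quotient.mk (J.map (algebraMap C' A'))) = I)
    (hprop : ∀ (x : (A' ⧸ J.map (algebraMap C' A'))) (hx : x ∈ I) (x' x'' : A'), x' ∈ I' →
      x'' ∈ I₃ → Ideal.Quotient.mk (J.map (algebraMap C' A')) x' = x →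
      Ideal.Quotient.mk (J.map (algebraMap C' A')) x'' = x →
      ∀ z : A' ⊗[C'] ↥J, mu J A' A' z = x'' - x' →
        tmap J A' (piA J A' I) z = φ ⟨x, hx⟩) :
    I₃ = I2 J A' I I' hI' φ := by
  apply le_antisymm
  · intro x₃ hx₃
    have hx : Ideal.Quotient.mk (J.map (algebraMap C' A')) x₃ ∈ I := by
      rw [← hI₃]; exact Ideal.mem_map_of_mem _ hx₃
    have hx2 := hx
    rw [← hI', Ideal.mem_map_iff_of_surjective _ Ideal.Quotient.mk_surjective] at hx2
    obtain ⟨x', hx', hx'x⟩ := hx2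
    obtain ⟨z, hz⟩ := exists_mu_eq J A' (y := x₃ - x') (by rw [map_sub, hx'x, sub_self])
    have h := hprop _ hx x' x₃ hx' hx₃ hx'x rfl z hz
    refine (mem_I2 J A' I I' hI' φ).2 ⟨⟨x', hx'⟩, z, ?_, by rw [hz]; ring⟩
    rw [h]
    exact congrArg φ (Subtype.ext hx'x.symm)
  · intro x'' hx''
    obtain ⟨x', z, hz, rfl⟩ := (mem_I2 J A' I I' hI' φ).1 hx''
    have hx : Ideal.Quotient.mk (J.map (algebraMap C' A')) (x' : A') ∈ I :=
      (rI J A' I I' hI' x').2
    have hx2 := hx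
    rw [← hI₃, Ideal.mem_map_iff_of_surjective _ Ideal.Quotient.mk_surjective] at hx2
    obtain ⟨x₃, hx₃, hx₃x⟩ := hx2
    obtain ⟨z₃, hz₃⟩ := exists_mu_eq J A' (y := x₃ - x') (by rw [map_sub, hx₃x, sub_self])
    have h3 := hprop _ hx x' x₃ x'.2 hx₃ rfl hx₃x z₃ hz₃
    have hdiff : tmap J A' (piA J A' I) (z - z₃) = 0 := by
      rw [map_sub, hz, h3]
      exact sub_self _
    have hm := mu_mem_of_tmap_eq_zero J A' I hJJ hI₃ (z - z₃) hdiff
    have e : (x' : A') + mu J A' A' z = x₃ + mu J A' A' (z - z₃) := by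
      rw [map_sub, hz₃]; ring
    rw [e]
    exact I₃.add_mem hx₃ hm

include hI' in
theorem main [Module.Flat (C' ⧸ J) ((A' ⧸ J.map (algebraMap C' A')) ⧸ I)] :
    ∃! I'' : Ideal A', Module.Flat C' (A' ⧸ I'') ∧
      I''.map (Ideal.Quotient.mk (J.map (algebraMap C' A'))) = I ∧
      (∀ (x : (A' ⧸ J.map (algebraMap C' A'))) (hx : x ∈ I) (x' x'' : A'), x' ∈ I' → x'' ∈ I'' →
          Ideal.Quotient.mk (J.map (algebraMap C' A')) x' = x →
          Ideal.Quotient.mk (J.map (algebraMap C' A')) x'' = x →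
          ∀ z : A' ⊗[C'] ↥J,
            TensorProduct.rid C' A' (LinearMap.lTensor A' (Submodule.subtype J) z) = x'' - x' →
            LinearMap.rTensor ↥J (IsScalarTower.toAlgHom C' A'
              ((A' ⧸ J.map (algebraMap C' A')) ⧸ I)).toLinearMap z = φ ⟨x, hx⟩) := by
  have hconv : ∀ z : A' ⊗[C'] ↥J, LinearMap.rTensor ↥J (IsScalarTower.toAlgHom C' A'
      ((A' ⧸ J.map (algebraMap C' A')) ⧸ I)).toLinearMap z = tmap J A' (piA J A' I) z := by
    intro z
    rw [tmap_eq]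
    rfl
  refine ⟨I2 J A' I I' hI' φ, ⟨flat_I2 J A' I I' hI' φ hJJ, map_I2 J A' I I' hI' φ, ?_⟩, ?_⟩
  · intro x hx x' x'' hx' hx'' hx'x hx''x z hz
    rw [hconv]
    rw [← mu_eq J A'] at hz
    exact property_I2 J A' I I' hI' φ x hx x' x'' hx' hx'' hx'x hx''x z hz
  · rintro I₃ ⟨-, hI₃, hprop⟩
    apply eq_I2 J A' I I' hI' φ hJJ I₃ hI₃
    intro x hx x' x'' hx' hx'' hx'x hx''x z hz
    rw [← hconv]
    exact hprop x hx x' x'' hx' hx'' hx'x hx''x z (by rw [← mu_eq J A', hz])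

end Flat

end Main

end Groth.Agent.Lib.SmallExtTorsor18
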