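import Mathlib
import Groth.Agent.Lib.SmoothBranches96C

/-!
# helper96: smooth algebra over any base: local flat model with few minimal primes

For `C` smooth over `R` and a prime `Q` of `C` over `p`, a local ring `D`, flat over `C` and
centred at `Q`, whose number of minimal primes is bounded by the number of geometric branches
(resp. branches, in the purely inseparable case) of `R_p`.
-/

set_option autoImplicit false
set_option linter.style.haveILetI false
universe u

namespace Groth.Agent.Lib.SmoothBranches96

open IsLocalRing TensorProduct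

/-- Minimal primes of the localization at `q` inject (by contraction) into the minimal primes
below `q`. -/
theorem encard_minimalPrimes_atPrime_le {B : Type*} [CommRing B] (q : Ideal B) [q.IsPrime]
    (D : Type*) [CommRing D] [Algebra B D] [IsLocalization.AtPrime D q] :
    (minimalPrimes D).encard ≤ {P : Ideal B | P ∈ minimalPrimes B ∧ P ≤ q}.encard := by
  haveI : IsLocalRing D := IsLocalization.AtPrime.isLocalRing D q
  have hmin : minimalPrimes D = Ideal.under B ⁻¹' minimalPrimes B := by
    have h := IsLocalization.minimalPrimes_map q.primeCompl D (⊥ : Ideal B)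
    rw [Ideal.map_bot] at h
    exact h
  have hmem : ∀ P' : minimalPrimes D, P'.1.comap (algebraMap B D) ∈
      {P : Ideal B | P ∈ minimalPrimes B ∧ P ≤ q} := by
    rintro ⟨P', hP'⟩
    refine ⟨?_, ?_⟩
    · rw [hmin] at hP'
      exact hP'
    · haveI : P'.IsPrime := Ideal.IsMinimalPrime.isPrime hP'
      have h1 : P' ≤ maximalIdeal D := IsLocalRing.le_maximalIdeal (Ideal.IsPrime.ne_top ‹_›)
      have h2 := Ideal.comap_mono (f := algebraMap B D) h1
      exact h2.trans (le_of_eq (IsLocalization.AtPrime.under_maximalIdeal D q))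
  refine Function.Embedding.encard_le ⟨fun P' => ⟨_, hmem P'⟩, ?_⟩
  intro P₁ P₂ h12
  have h12' : P₁.1.comap (algebraMap B D) = P₂.1.comap (algebraMap B D) :=
    congrArg Subtype.val h12
  apply Subtype.ext
  calc P₁.1 = (P₁.1.under B).map (algebraMap B D) :=
        (IsLocalization.map_under q.primeCompl D P₁.1).symm
    _ = (P₂.1.under B).map (algebraMap B D) := congrArg _ h12'
    _ = P₂.1 := IsLocalization.map_under q.primeCompl D P₂.1

attribute [local instance] Algebra.TensorProduct.rightAlgebra

section Setup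

variable (R C : Type u) [CommRing R] [CommRing C] [Algebra R C]
  (Q : Ideal C) [Q.IsPrime] (p : Ideal R) [p.IsPrime]
  (A : Type u) [CommRing A] [Algebra R A] [IsLocalization.AtPrime A p] [IsLocalRing A]

/-- The base change to the local ring at `p`: prime of `R_p ⊗ C` over `Q`. -/
theorem exists_prime_tensor_atPrime (hQp : Q.comap (algebraMap R C) = p) :
    ∃ qB : Ideal (A ⊗[R] C), qB.IsPrime ∧
      qB.comap (algebraMap C (A ⊗[R] C)) = Q ∧
      qB.comap (algebraMap A (A ⊗[R] C)) =
        maximalIdeal A ∧
      (algebraMap C (A ⊗[R] C)).Flat ∧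
      ∀ b : A ⊗[R] C, ∃ (c : C) (t : R), t ∉ p ∧
        b * algebraMap C (A ⊗[R] C) (algebraMap R C t) =
          algebraMap C (A ⊗[R] C) c := by
  let M : Submonoid C := Algebra.algebraMapSubmonoid C p.primeCompl
  haveI hloc : IsLocalization M (A ⊗[R] C) := IsLocalization.tensorRight A p.primeCompl
  have hdisj : Disjoint (M : Set C) (Q : Set C) := by
    rw [Set.disjoint_left]
    rintro _ ⟨a, ha, rfl⟩ hq
    apply ha
    rw [← hQp]
    exact hq
  let qB : Ideal (A ⊗[R] C) := Q.map (algebraMap C (A ⊗[R] C))
  have hqB : qB.IsPrime := IsLocalization.isPrime_of_isPrime_disjoint M _ _ ‹_› hdisj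
  have hqQ : qB.comap (algebraMap C (A ⊗[R] C)) = Q :=
    IsLocalization.under_map_of_isPrime_disjoint M _ ‹_› hdisj
  refine ⟨qB, hqB, hqQ, ?_, ?_, ?_⟩
  · haveI := hqB
    haveI : (qB.comap (algebraMap A (A ⊗[R] C))).IsPrime := Ideal.comap_isPrime _ _
    have h1 : (qB.comap (algebraMap A (A ⊗[R] C))).comap (algebraMap R A) = p := by
      rw [Ideal.comap_comap, ← IsScalarTower.algebraMap_eq, IsScalarTower.algebraMap_eq R C (A ⊗[R] C),
        ← Ideal.comap_comap, hqQ, hQp]
    calc qB.comap (algebraMap A (A ⊗[R] C))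
        = ((qB.comap (algebraMap A (A ⊗[R] C))).under R).map (algebraMap R A) :=
          (IsLocalization.map_under p.primeCompl A _).symm
      _ = p.map (algebraMap R A) := congrArg _ h1
      _ = maximalIdeal A := IsLocalization.AtPrime.map_eq_maximalIdeal p A
  · rw [RingHom.flat_algebraMap_iff]
    exact IsLocalization.flat (A ⊗[R] C) M
  · intro b
    obtain ⟨c, m, hm⟩ := IsLocalization.exists_mk'_eq M b
    obtain ⟨t, ht, htm⟩ := m.2
    refine ⟨c, t, ht, ?_⟩
    rw [← hm, htm]
    exact IsLocalization.mk'_spec _ c m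

end Setup

section Main

variable (R C : Type u) [CommRing R] [CommRing C] [Algebra R C] [Algebra.Smooth R C]
  (Q : Ideal C) [Q.IsPrime] (p : Ideal R) [p.IsPrime]
  (A : Type u) [CommRing A] [Algebra R A] [IsLocalization.AtPrime A p] [IsLocalRing A]

theorem exists_local_flat_encard_le_numGeomBranches (hQp : Q.comap (algebraMap R C) = p) :
    ∃ (D : Type u) (_ : CommRing D) (_ : IsLocalRing D) (σ : C →+* D), σ.Flat ∧
      (maximalIdeal D).comap σ = Q ∧
      (minimalPrimes D).encard ≤ Brnch.numGeomBranches A := by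
  obtain ⟨qB, hqB, hqQ, hqA, hflat, -⟩ := exists_prime_tensor_atPrime R C Q p A hQp
  haveI := hqB
  refine ⟨Localization.AtPrime qB, inferInstance, inferInstance,
    (algebraMap _ (Localization.AtPrime qB)).comp
      (algebraMap C (A ⊗[R] C)), ?_, ?_, ?_⟩
  · refine RingHom.Flat.comp hflat ?_
    rw [RingHom.flat_algebraMap_iff]
    exact IsLocalization.flat _ qB.primeCompl
  · have hm : (maximalIdeal (Localization.AtPrime qB)).comap
        (algebraMap (A ⊗[R] C) (Localization.AtPrime qB)) = qB :=
      IsLocalization.AtPrime.under_maximalIdeal _ qB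
    rw [← Ideal.comap_comap, hm, hqQ]
  · exact (encard_minimalPrimes_atPrime_le qB (Localization.AtPrime qB)).trans
      (encard_minimalPrimes_le_numGeomBranches A
        (A ⊗[R] C) qB hqA)

theorem exists_local_flat_encard_le_numBranches (hQp : Q.comap (algebraMap R C) = p)
    (e : ℕ) [ExpChar (ResidueField A) e]
    (hpi : ∀ c : C, ∃ (n : ℕ) (a s : R), s ∉ p ∧
      algebraMap R C s * c ^ e ^ n - algebraMap R C a ∈ Q) :
    ∃ (D : Type u) (_ : CommRing D) (_ : IsLocalRing D) (σ : C →+* D), σ.Flat ∧
      (maximalIdeal D).comap σ = Q ∧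
      (minimalPrimes D).encard ≤ Brnch.numBranches A := by
  obtain ⟨qB, hqB, hqQ, hqA, hflat, hfrac⟩ := exists_prime_tensor_atPrime R C Q p A hQp
  haveI := hqB
  refine ⟨Localization.AtPrime qB, inferInstance, inferInstance,
    (algebraMap _ (Localization.AtPrime qB)).comp
      (algebraMap C (A ⊗[R] C)), ?_, ?_, ?_⟩
  · refine RingHom.Flat.comp hflat ?_
    rw [RingHom.flat_algebraMap_iff]
    exact IsLocalization.flat _ qB.primeCompl
  · have hm : (maximalIdeal (Localization.AtPrime qB)).comap
        (algebraMap (A ⊗[R] C) (Localization.AtPrime qB)) = qB :=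
      IsLocalization.AtPrime.under_maximalIdeal _ qB
    rw [← Ideal.comap_comap, hm, hqQ]
  · refine (encard_minimalPrimes_atPrime_le qB (Localization.AtPrime qB)).trans
      (encard_minimalPrimes_le_numBranches A
        (A ⊗[R] C) qB hqA e ?_)
    intro b
    obtain ⟨c, t, ht, hbt⟩ := hfrac b
    obtain ⟨n, a, s, hs, hc⟩ := hpi c
    -- u = s * t^(e^n) is a unit of A
    have hu : IsUnit (algebraMap R A (s * t ^ e ^ n)) := by
      apply IsLocalization.map_units A (⟨s * t ^ e ^ n, ?_⟩ : p.primeCompl)
      exact (Ideal.IsPrime.mul_notMem ‹p.IsPrime› hs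
        (fun h => ht (Ideal.IsPrime.mem_of_pow_mem ‹p.IsPrime› _ h)))
    obtain ⟨w, hw⟩ := hu
    refine ⟨n, (↑w⁻¹ : A) * algebraMap R A a, ?_⟩
    -- image of the congruence in B
    have h1 : algebraMap C (A ⊗[R] C)
        (algebraMap R C s * c ^ e ^ n - algebraMap R C a) ∈ qB := by
      have : algebraMap R C s * c ^ e ^ n - algebraMap R C a ∈
          qB.comap (algebraMap C (A ⊗[R] C)) := hqQ ▸ hc
      exact this
    have eRB : ∀ r : R, algebraMap C (A ⊗[R] C) (algebraMap R C r) =
        algebraMap A (A ⊗[R] C)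
          (algebraMap R A r) := by
      intro r
      rw [← IsScalarTower.algebraMap_apply, ← IsScalarTower.algebraMap_apply]
    have h2 : algebraMap C (A ⊗[R] C)
        (algebraMap R C s * c ^ e ^ n - algebraMap R C a) =
        algebraMap A (A ⊗[R] C)
          (w : A) * b ^ e ^ n -
        algebraMap A (A ⊗[R] C)
          (algebraMap R A a) := by
      rw [hw, map_sub, map_mul, map_pow, ← hbt]
      simp only [map_mul, map_pow, eRB]
      ring
    rw [h2] at h1
    have h3 := Ideal.mul_mem_left qB
      (algebraMap A (A ⊗[R] C)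
        (↑w⁻¹ : A)) h1
    have h4 : algebraMap A (A ⊗[R] C)
          (↑w⁻¹ : A) *
        (algebraMap A (A ⊗[R] C)
          (w : A) * b ^ e ^ n -
        algebraMap A (A ⊗[R] C)
          (algebraMap R A a)) =
        b ^ e ^ n - algebraMap A (A ⊗[R] C)
          ((↑w⁻¹ : A) * algebraMap R A a) := by
      rw [mul_sub, ← mul_assoc, ← map_mul, Units.inv_mul, map_one, one_mul, map_mul]
    rwa [h4] at h3

end Main

end Groth.Agent.Lib.SmoothBranches96
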