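import Mathlib
import Groth.Agent.Lib.SmoothBranches96D
import Groth.Agent.Lib.BranchesNbhdB96
import Groth.Agent.S9721

/-!
# helper96: irreducible components through a point of a scheme smooth over `X` vs branches of `X`

* `encard_le_numGeomBranchesAt_of_smooth`: `g : V ⟶ X` smooth, `v ∈ V`: the number of irreducible
  components of `V` through `v` is at most the number of geometric branches of `X` at `g v`.
* `encard_le_numBranchesAt_of_smooth`: the same with branches if the residue field extension at `v`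
  is purely inseparable (elementwise form `ResPI`).
-/

set_option autoImplicit false
set_option linter.style.haveILetI false
universe u

namespace Groth.Agent.Lib.SmoothBranches96

open AlgebraicGeometry CategoryTheory IsLocalRing

/-- Elementwise form of "the residue field extension of `f` is purely inseparable", with `e` the
exponential characteristic. -/
def ResPI {R S : Type u} [CommRing R] [CommRing S] (f : R →+* S) (e : ℕ) : Prop :=
  ∀ a : S, ∃ (n : ℕ) (r : R), ¬ IsUnit (a ^ e ^ n - f r)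

theorem exists_affine_charts {V X : Scheme.{u}} (g : V ⟶ X) (v : V) :
    ∃ (W : X.Opens) (_ : IsAffineOpen W) (V' : V.Opens) (_ : IsAffineOpen V'),
      v ∈ V' ∧ V' ≤ g ⁻¹ᵁ W := by
  obtain ⟨W, hW, hxW⟩ : ∃ W : X.Opens, IsAffineOpen W ∧ g v ∈ W := by
    obtain ⟨_, ⟨W, hW, rfl⟩, hxW, -⟩ :=
      X.isBasis_affineOpens.exists_subset_of_mem_open (Set.mem_univ (g v)) isOpen_univ
    exact ⟨W, hW, hxW⟩
  obtain ⟨V', hV', hvV', e⟩ : ∃ V' : V.Opens, IsAffineOpen V' ∧ v ∈ V' ∧ V' ≤ g ⁻¹ᵁ W := by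
    obtain ⟨_, ⟨V', hV', rfl⟩, hvV', hle⟩ :=
      V.isBasis_affineOpens.exists_subset_of_mem_open
        (show v ∈ ((g ⁻¹ᵁ W : V.Opens) : Set V) from hxW) (g ⁻¹ᵁ W).2
    exact ⟨V', hV', hvV', hle⟩
  exact ⟨W, hW, V', hV', hvV', e⟩

theorem encard_le_numGeomBranchesAt_of_smooth {V X : Scheme.{u}} (g : V ⟶ X) [Smooth g] (v : V) :
    {Z : Set V | Z ∈ irreducibleComponents V ∧ v ∈ Z}.encard ≤
      Brnch.numGeomBranchesAt X (g v) := by
  obtain ⟨W, hW, V', hV', hvV', e⟩ := exists_affine_charts g v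
  have hsm : Smooth (V'.ι ≫ g) := inferInstance
  have hQ : (g.appLE W V' e).hom.Smooth :=
    Groth.Agent.S9721.appLE_of_ι_comp (P := @Smooth) g hV' hW e hsm
  algebraize [(g.appLE W V' e).hom]
  haveI hsmA : Algebra.Smooth Γ(X, W) Γ(V, V') := RingHom.smooth_algebraMap.mp hQ
  let p := (hW.primeIdealOf ⟨g v, e hvV'⟩).asIdeal
  let Q := (hV'.primeIdealOf ⟨v, hvV'⟩).asIdeal
  have hQp : Q.comap (algebraMap Γ(X, W) Γ(V, V')) = p :=
    congr($(IsAffineOpen.comap_primeIdealOf_appLE W hW V' hV' e hvV').1)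
  letI : Algebra Γ(X, W) (X.presheaf.stalk (g v)) :=
    X.presheaf.algebra_section_stalk ⟨g v, e hvV'⟩
  haveI : IsLocalization.AtPrime (X.presheaf.stalk (g v)) p :=
    hW.isLocalization_stalk ⟨g v, e hvV'⟩
  obtain ⟨D, _, _, σ, hσflat, hσ, hD⟩ :=
    exists_local_flat_encard_le_numGeomBranches Γ(X, W) Γ(V, V') Q p
      (X.presheaf.stalk (g v)) hQp
  exact (Groth.Agent.Lib.BranchesNbhd96.encard_le_of_flat v V' hV' hvV' D σ hσflat hσ).trans hD

theorem encard_le_numBranchesAt_of_smooth {V X : Scheme.{u}} (g : V ⟶ X) [Smooth g] (v : V)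
    (e₀ : ℕ) [ExpChar (ResidueField (X.presheaf.stalk (g v))) e₀]
    (hpi : ResPI (g.stalkMap v).hom e₀) :
    {Z : Set V | Z ∈ irreducibleComponents V ∧ v ∈ Z}.encard ≤
      Brnch.numBranchesAt X (g v) := by
  obtain ⟨W, hW, V', hV', hvV', e⟩ := exists_affine_charts g v
  have hsm : Smooth (V'.ι ≫ g) := inferInstance
  have hQ : (g.appLE W V' e).hom.Smooth :=
    Groth.Agent.S9721.appLE_of_ι_comp (P := @Smooth) g hV' hW e hsm
  algebraize [(g.appLE W V' e).hom]
  haveI hsmA : Algebra.Smooth Γ(X, W) Γ(V, V') := RingHom.smooth_algebraMap.mp hQ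
  let p := (hW.primeIdealOf ⟨g v, e hvV'⟩).asIdeal
  let Q := (hV'.primeIdealOf ⟨v, hvV'⟩).asIdeal
  have hQp : Q.comap (algebraMap Γ(X, W) Γ(V, V')) = p :=
    congr($(IsAffineOpen.comap_primeIdealOf_appLE W hW V' hV' e hvV').1)
  letI : Algebra Γ(X, W) (X.presheaf.stalk (g v)) :=
    X.presheaf.algebra_section_stalk ⟨g v, e hvV'⟩
  haveI : IsLocalization.AtPrime (X.presheaf.stalk (g v)) p :=
    hW.isLocalization_stalk ⟨g v, e hvV'⟩
  letI : Algebra Γ(V, V') (V.presheaf.stalk v) :=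
    V.presheaf.algebra_section_stalk ⟨v, hvV'⟩
  haveI : IsLocalization.AtPrime (V.presheaf.stalk v) Q :=
    hV'.isLocalization_stalk ⟨v, hvV'⟩
  have hpiC : ∀ c : Γ(V, V'), ∃ (n : ℕ) (a s : Γ(X, W)), s ∉ p ∧
      algebraMap Γ(X, W) Γ(V, V') s * c ^ e₀ ^ n - algebraMap Γ(X, W) Γ(V, V') a ∈ Q := by
    intro c
    obtain ⟨n, r, hr⟩ := hpi (algebraMap Γ(V, V') (V.presheaf.stalk v) c)
    obtain ⟨a, s, hrs⟩ := IsLocalization.exists_mk'_eq p.primeCompl r
    refine ⟨n, a, s.1, s.2, ?_⟩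
    -- compatibility of stalk map with sections
    have hcomp : ∀ t : Γ(X, W), (g.stalkMap v).hom (algebraMap Γ(X, W) (X.presheaf.stalk (g v)) t) =
        algebraMap Γ(V, V') (V.presheaf.stalk v) (algebraMap Γ(X, W) Γ(V, V') t) := by
      intro t
      simp only [RingHom.algebraMap_toAlgebra, Scheme.Hom.germ_stalkMap_apply, Scheme.Hom.appLE,
        homOfLE_leOfHom, CommRingCat.hom_comp, RingHom.coe_comp, Function.comp_apply,
        V.presheaf.germ_res_apply]
    by_contra hnot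
    have hunit : IsUnit (algebraMap Γ(V, V') (V.presheaf.stalk v)
        (algebraMap Γ(X, W) Γ(V, V') s.1 * c ^ e₀ ^ n - algebraMap Γ(X, W) Γ(V, V') a)) :=
      (IsLocalization.AtPrime.isUnit_to_map_iff (V.presheaf.stalk v) Q _).2 hnot
    apply hr
    have hs : r * algebraMap Γ(X, W) (X.presheaf.stalk (g v)) s.1 =
        algebraMap Γ(X, W) (X.presheaf.stalk (g v)) a := by
      rw [← hrs]
      exact IsLocalization.mk'_spec _ a s
    have h1 : algebraMap Γ(V, V') (V.presheaf.stalk v)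
        (algebraMap Γ(X, W) Γ(V, V') s.1 * c ^ e₀ ^ n - algebraMap Γ(X, W) Γ(V, V') a) =
        (g.stalkMap v).hom (algebraMap Γ(X, W) (X.presheaf.stalk (g v)) s.1) *
          ((algebraMap Γ(V, V') (V.presheaf.stalk v) c) ^ e₀ ^ n - (g.stalkMap v).hom r) := by
      rw [map_sub, map_mul, map_pow, ← hcomp, ← hcomp, ← hs, map_mul]
      ring
    rw [h1] at hunit
    exact isUnit_of_mul_isUnit_right hunit
  obtain ⟨D, _, _, σ, hσflat, hσ, hD⟩ :=
    exists_local_flat_encard_le_numBranches Γ(X, W) Γ(V, V') Q p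
      (X.presheaf.stalk (g v)) hQp e₀ hpiC
  exact (Groth.Agent.Lib.BranchesNbhd96.encard_le_of_flat v V' hV' hvV' D σ hσflat hσ).trans hD

end Groth.Agent.Lib.SmoothBranches96
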