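import Mathlib
import Groth.Agent.Lib.SmoothBranches96E
import Groth.Agent.S9752
import Groth.Agent.S9753
import Groth.Agent.Lib.ElemEtaleNbhd96

/-!
# helper96: (geometric) branches are invariant under smooth morphisms (scheme level)

* `numGeomBranchesAt_eq_of_smooth`: `f : Y ⟶ X` smooth: `Y` at `y` and `X` at `f y` have the same
  number of geometric branches.
* `numBranchesAt_eq_of_smooth`: the same for branches if `κ(y)/κ(f y)` is purely inseparable
  (elementwise form `ResPI`).
* `ResPI` toolbox: `resPI_comp_resSurj`, `resPI_of_ringEquiv`, `resPI_of_isPurelyInseparable`.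
* `isHenselization_of_ringEquiv`.
-/

set_option autoImplicit false
set_option linter.style.haveILetI false
universe u

namespace Groth.Agent.Lib.SmoothBranches96

open AlgebraicGeometry CategoryTheory IsLocalRing Groth.Agent.Lib.ElemEtaleNbhd96

section ResPI

theorem resPI_comp_resSurj {R S T : Type u} [CommRing R] [CommRing S] [CommRing T] [IsLocalRing T]
    (f : R →+* S) (g : S →+* T) [IsLocalHom g] (e : ℕ) (hf : ResPI f e) (hg : ResSurj g) :
    ResPI (g.comp f) e := by
  intro a
  obtain ⟨s, hs⟩ := hg a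
  obtain ⟨n, r, hr⟩ := hf s
  refine ⟨n, r, ?_⟩
  have h1 : a ^ e ^ n - (g.comp f) r = (a ^ e ^ n - (g s) ^ e ^ n) + g (s ^ e ^ n - f r) := by
    rw [map_sub, map_pow, RingHom.comp_apply]; ring
  rw [h1]
  have hm1 : a ^ e ^ n - (g s) ^ e ^ n ∈ maximalIdeal T := by
    obtain ⟨c, hc⟩ := sub_dvd_pow_sub_pow a (g s) (e ^ n)
    rw [hc]
    exact Ideal.mul_mem_right _ _ ((mem_maximalIdeal _).2 hs)
  have hm2 : g (s ^ e ^ n - f r) ∈ maximalIdeal T := by
    rw [mem_maximalIdeal, mem_nonunits_iff]
    exact fun h => hr (isUnit_of_map_unit g _ h)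
  have := (maximalIdeal T).add_mem hm1 hm2
  rwa [mem_maximalIdeal, mem_nonunits_iff] at this

theorem resPI_of_ringEquiv {R R' S S' : Type u} [CommRing R] [CommRing R'] [CommRing S]
    [CommRing S'] (f : R →+* S) (e₁ : R' ≃+* R) (e₂ : S ≃+* S') (e : ℕ) (hf : ResPI f e) :
    ResPI ((e₂ : S →+* S').comp (f.comp (e₁ : R' →+* R))) e := by
  intro a
  obtain ⟨n, r, hr⟩ := hf (e₂.symm a)
  refine ⟨n, e₁.symm r, fun hu => hr ?_⟩
  have h1 : e₂.symm (a ^ e ^ n - ((e₂ : S →+* S').comp (f.comp (e₁ : R' →+* R))) (e₁.symm r)) =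
      (e₂.symm a) ^ e ^ n - f r := by
    simp
  rw [← h1]
  exact hu.map e₂.symm

theorem resPI_of_isPurelyInseparable {A₁ A₂ : Type u} [CommRing A₁] [IsLocalRing A₁] [CommRing A₂]
    [IsLocalRing A₂] (φ : A₁ →+* A₂) [IsLocalHom φ] (e : ℕ) [ExpChar (ResidueField A₁) e]
    (h : @IsPurelyInseparable (ResidueField A₁) (ResidueField A₂) _ _
      (ResidueField.map φ).toAlgebra) : ResPI φ e := by
  letI := (ResidueField.map φ).toAlgebra
  intro a
  obtain ⟨n, k, hk⟩ := IsPurelyInseparable.pow_mem (ResidueField A₁) e (residue A₂ a)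
  obtain ⟨r, rfl⟩ := residue_surjective k
  refine ⟨n, r, ?_⟩
  have h1 : residue A₂ (a ^ e ^ n - φ r) = 0 := by
    rw [map_sub, map_pow, ← hk]
    show _ - residue A₂ (φ r) = 0
    rw [sub_eq_zero]
    exact ResidueField.map_residue φ r
  exact (residue_eq_zero_iff _).1 h1

end ResPI

section Hzn

variable {R R' S : Type u} [CommRing R] [IsLocalRing R] [CommRing R'] [IsLocalRing R']
  [CommRing S] [IsLocalRing S] [Algebra R S] [IsLocalHom (algebraMap R S)]
  [Algebra R' S] (e : R' ≃+* R)
  (he : ∀ x, algebraMap R' S x = algebraMap R S (e x))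

include he in
/-- A henselization of `R` is a henselization of any ring isomorphic to `R`. -/
theorem isHenselization_of_ringEquiv [Hensel.IsHenselization R S]
    [IsLocalHom (algebraMap R' S)] : Hensel.IsHenselization R' S where
  henselian := Hensel.IsHenselization.henselian (R := R)
  universal := by
    intro T _ _ f hf
    let f₀ : R →+* T := f.comp (e.symm : R →+* R')
    have hf₀ : IsLocalHom f₀ := inferInstance
    obtain ⟨g, hg1, huniq⟩ := Hensel.IsHenselization.universal (R := R) (S := S) T f₀ hf₀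
    refine ⟨g, ?_, ?_⟩
    · ext x
      have h1 := congrArg (fun k => k (e x)) hg1
      simp only [RingHom.comp_apply] at h1
      rw [RingHom.comp_apply, he, h1]
      change f (e.symm (e x)) = f x
      rw [RingEquiv.symm_apply_apply]
    · intro g' hg'1
      refine huniq g' ?_
      ext r
      have h1 := congrArg (fun k => k (e.symm r)) hg'1
      simp only [RingHom.comp_apply] at h1
      rw [he, RingEquiv.apply_symm_apply] at h1
      rw [RingHom.comp_apply, h1]
      rfl

end Hzn

section Scheme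

theorem encard_le_minimalPrimes_of_eq {U X : Scheme.{u}} (g : U ⟶ X) [Etale g] (u : U) (x : X)
    (hx : g u = x)
    (S : Type u) [CommRing S] [HenselianLocalRing S] [Algebra (X.presheaf.stalk x) S]
    [IsLocalHom (algebraMap (X.presheaf.stalk x) S)]
    [Module.Flat (X.presheaf.stalk x) S]
    (hb : Function.Bijective (g.residueFieldMap u) ∨ IsSepClosed (ResidueField S)) :
    {Z : Set U | Z ∈ irreducibleComponents U ∧ u ∈ Z}.encard ≤ (minimalPrimes S).encard := by
  subst hx
  exact Groth.Agent.Lib.BranchesNbhd96.encard_le_minimalPrimes g u S hb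

theorem numGeomBranchesAt_eq_of_smooth {Y X : Scheme.{u}} (f : Y ⟶ X) [Smooth f] (y : Y) :
    Brnch.numGeomBranchesAt Y y = Brnch.numGeomBranchesAt X (f y) := by
  apply le_antisymm
  · rw [Groth.Agent.S9753.result Y y]
    refine iSup_le fun V => iSup_le fun h => iSup_le fun v => iSup_le fun hh => ?_
    obtain ⟨hh, hv⟩ := hh
    haveI := hh
    subst hv
    exact encard_le_numGeomBranchesAt_of_smooth (h ≫ f) v
  · rw [Groth.Agent.S9753.result X (f y)]
    refine iSup_le fun U => iSup_le fun g => iSup_le fun u => iSup_le fun hg => ?_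
    obtain ⟨hg, hgu⟩ := hg
    haveI := hg
    have hcard : ENat.card (minimalPrimes (Groth.Agent.Lib.StrictHenselization.Sh
        (Y.presheaf.stalk y))) = Brnch.numGeomBranches (Y.presheaf.stalk y) :=
      Groth.Agent.S9238.result (Y.presheaf.stalk y) _
    show _ ≤ Brnch.numGeomBranches (Y.presheaf.stalk y)
    rw [← hcard]
    letI : Algebra (X.presheaf.stalk (f y)) (Y.presheaf.stalk y) := (f.stalkMap y).hom.toAlgebra
    letI : Algebra (X.presheaf.stalk (f y))
        (Groth.Agent.Lib.StrictHenselization.Sh (Y.presheaf.stalk y)) :=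
      ((algebraMap (Y.presheaf.stalk y) _).comp (f.stalkMap y).hom).toAlgebra
    haveI : IsScalarTower (X.presheaf.stalk (f y)) (Y.presheaf.stalk y)
        (Groth.Agent.Lib.StrictHenselization.Sh (Y.presheaf.stalk y)) :=
      IsScalarTower.of_algebraMap_eq fun _ => rfl
    haveI : IsLocalHom (algebraMap (X.presheaf.stalk (f y))
        (Groth.Agent.Lib.StrictHenselization.Sh (Y.presheaf.stalk y))) :=
      RingHom.isLocalHom_comp _ _
    haveI : Module.Flat (X.presheaf.stalk (f y)) (Y.presheaf.stalk y) := Flat.stalkMap f y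
    haveI : Module.Flat (X.presheaf.stalk (f y))
        (Groth.Agent.Lib.StrictHenselization.Sh (Y.presheaf.stalk y)) :=
      Module.Flat.trans _ (Y.presheaf.stalk y) _
    exact encard_le_minimalPrimes_of_eq g u (f y) hgu _ (Or.inr inferInstance)

theorem numBranchesAt_eq_of_smooth {Y X : Scheme.{u}} (f : Y ⟶ X) [Smooth f] (y : Y)
    (e₀ : ℕ) [ExpChar (ResidueField (X.presheaf.stalk (f y))) e₀]
    (hpi : ResPI (f.stalkMap y).hom e₀) :
    Brnch.numBranchesAt Y y = Brnch.numBranchesAt X (f y) := by
  apply le_antisymm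
  · rw [Groth.Agent.S9752.result Y y]
    refine iSup_le fun V => iSup_le fun h => iSup_le fun v => iSup_le fun hh => ?_
    obtain ⟨hh, hv, hb⟩ := hh
    haveI := hh
    have hv' : h v = y := hv
    subst hv'
    have hres : ResSurj (h.stalkMap v).hom := (bijective_residueFieldMap_iff h v).1 hb
    haveI inst' : ExpChar (ResidueField (X.presheaf.stalk ((h ≫ f) v))) e₀ :=
      ‹ExpChar (ResidueField (X.presheaf.stalk (f (h v)))) e₀›
    have hpi' : ResPI ((h ≫ f).stalkMap v).hom e₀ := by
      rw [Scheme.Hom.stalkMap_comp]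
      exact resPI_comp_resSurj (f.stalkMap (h v)).hom (h.stalkMap v).hom e₀ hpi hres
    exact encard_le_numBranchesAt_of_smooth (h ≫ f) v e₀ hpi'
  · rw [Groth.Agent.S9752.result X (f y)]
    refine iSup_le fun U => iSup_le fun g => iSup_le fun u => iSup_le fun hg => ?_
    obtain ⟨hg, hgu, hb⟩ := hg
    haveI := hg
    have hcard : ENat.card (minimalPrimes (Groth.Agent.Lib.HenselizationConstr.Hzn
        (Y.presheaf.stalk y))) = Brnch.numBranches (Y.presheaf.stalk y) :=
      Groth.Agent.S9237.result (Y.presheaf.stalk y) _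
    show _ ≤ Brnch.numBranches (Y.presheaf.stalk y)
    rw [← hcard]
    letI : Algebra (X.presheaf.stalk (f y)) (Y.presheaf.stalk y) := (f.stalkMap y).hom.toAlgebra
    letI : Algebra (X.presheaf.stalk (f y))
        (Groth.Agent.Lib.HenselizationConstr.Hzn (Y.presheaf.stalk y)) :=
      ((algebraMap (Y.presheaf.stalk y) _).comp (f.stalkMap y).hom).toAlgebra
    haveI : IsScalarTower (X.presheaf.stalk (f y)) (Y.presheaf.stalk y)
        (Groth.Agent.Lib.HenselizationConstr.Hzn (Y.presheaf.stalk y)) :=
      IsScalarTower.of_algebraMap_eq fun _ => rfl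
    haveI : IsLocalHom (algebraMap (X.presheaf.stalk (f y))
        (Groth.Agent.Lib.HenselizationConstr.Hzn (Y.presheaf.stalk y))) :=
      RingHom.isLocalHom_comp _ _
    haveI : Module.Flat (X.presheaf.stalk (f y)) (Y.presheaf.stalk y) := Flat.stalkMap f y
    haveI : Module.Flat (Y.presheaf.stalk y)
        (Groth.Agent.Lib.HenselizationConstr.Hzn (Y.presheaf.stalk y)) :=
      Groth.Agent.Lib.HenselizationFlat.flat_Hzn _
    haveI : Module.Flat (X.presheaf.stalk (f y))
        (Groth.Agent.Lib.HenselizationConstr.Hzn (Y.presheaf.stalk y)) :=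
      Module.Flat.trans _ (Y.presheaf.stalk y) _
    exact encard_le_minimalPrimes_of_eq g u (f y) hgu _ (Or.inl hb)

end Scheme

end Groth.Agent.Lib.SmoothBranches96
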