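import Mathlib
import Groth.Agent.Lib.SmoothBranches96F
import Groth.Agent.Lib.GeomUnibranchEquiv96

/-!
# helper96: bridging `Spec` stalks and localizations for branch counts

* `encard_minimalPrimes_eq_numGeomBranchesAt` / `encard_minimalPrimes_eq_numBranchesAt`: the number
  of minimal primes of a (strict) henselization of `R_p` is the number of (geometric) branches of
  `Spec R` at `p`.
* `resPI_stalkMap_SpecMap`: `ResPI` for the stalk map of `Spec S ⟶ Spec R` from `ResPI` of the
  localized ring map.
-/

set_option autoImplicit false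
set_option linter.style.haveILetI false
universe u

namespace Groth.Agent.Lib.SmoothBranches96

open AlgebraicGeometry CategoryTheory IsLocalRing Groth.Agent.Lib.ElemEtaleNbhd96

theorem resPI_of_bijective {R R' S S' : Type u} [CommRing R] [CommRing R'] [CommRing S]
    [CommRing S'] (f : R →+* S) (e₁ : R' →+* R) (he₁ : Function.Surjective e₁) (e₂ : S →+* S')
    (he₂ : Function.Bijective e₂) (e : ℕ) (hf : ResPI f e) :
    ResPI (e₂.comp (f.comp e₁)) e := by
  intro a
  obtain ⟨b, rfl⟩ := he₂.2 a
  obtain ⟨n, r, hr⟩ := hf b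
  obtain ⟨r', rfl⟩ := he₁ r
  refine ⟨n, r', fun hu => hr ?_⟩
  have h1 : e₂ b ^ e ^ n - (e₂.comp (f.comp e₁)) r' = e₂ (b ^ e ^ n - f (e₁ r')) := by
    simp
  rw [h1] at hu
  have := hu.map (RingEquiv.ofBijective e₂ he₂).symm
  rwa [show (RingEquiv.ofBijective e₂ he₂).symm (e₂ (b ^ e ^ n - f (e₁ r'))) =
    b ^ e ^ n - f (e₁ r') from (RingEquiv.ofBijective e₂ he₂).symm_apply_apply _] at this

section Spec

variable (R : Type u) [CommRing R] (p : Ideal R) [p.IsPrime] (x : ↥(Spec (CommRingCat.of R)))
  (hx : PrimeSpectrum.asIdeal (R := R) x = p)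

include hx in
set_option backward.isDefEq.respectTransparency.types false in
theorem encard_minimalPrimes_eq_numGeomBranchesAt (Ash : Type u) [CommRing Ash] [IsLocalRing Ash]
    [Algebra (Localization.AtPrime p) Ash] [IsLocalHom (algebraMap (Localization.AtPrime p) Ash)]
    [Hensel.IsStrictHenselization (Localization.AtPrime p) Ash] :
    (minimalPrimes Ash).encard = Brnch.numGeomBranchesAt (Spec (CommRingCat.of R)) x := by
  subst hx
  let e : (Spec (CommRingCat.of R)).presheaf.stalk x ≃+*
      Localization.AtPrime (PrimeSpectrum.asIdeal (R := R) x) :=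
    (Spec.stalkIso (CommRingCat.of R) x).commRingCatIsoToRingEquiv
  letI : Algebra ((Spec (CommRingCat.of R)).presheaf.stalk x) Ash :=
    ((algebraMap (Localization.AtPrime (PrimeSpectrum.asIdeal (R := R) x)) Ash).comp
      (e : (Spec (CommRingCat.of R)).presheaf.stalk x →+*
        Localization.AtPrime (PrimeSpectrum.asIdeal (R := R) x))).toAlgebra
  have he : ∀ z, algebraMap ((Spec (CommRingCat.of R)).presheaf.stalk x) Ash z =
      algebraMap (Localization.AtPrime (PrimeSpectrum.asIdeal (R := R) x)) Ash (e z) :=
    fun _ => rfl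
  haveI : IsLocalHom (algebraMap ((Spec (CommRingCat.of R)).presheaf.stalk x) Ash) :=
    Groth.Agent.Lib.GeomUnibranchEquiv96.isLocalHom_of_ringEquiv e he
  haveI : Hensel.IsStrictHenselization ((Spec (CommRingCat.of R)).presheaf.stalk x) Ash :=
    Groth.Agent.Lib.GeomUnibranchEquiv96.isStrictHenselization_of_ringEquiv e he
  exact Groth.Agent.S9238.result ((Spec (CommRingCat.of R)).presheaf.stalk x) Ash

include hx in
set_option backward.isDefEq.respectTransparency.types false in
theorem encard_minimalPrimes_eq_numBranchesAt (Ah : Type u) [CommRing Ah] [IsLocalRing Ah]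
    [Algebra (Localization.AtPrime p) Ah] [IsLocalHom (algebraMap (Localization.AtPrime p) Ah)]
    [Hensel.IsHenselization (Localization.AtPrime p) Ah] :
    (minimalPrimes Ah).encard = Brnch.numBranchesAt (Spec (CommRingCat.of R)) x := by
  subst hx
  let e : (Spec (CommRingCat.of R)).presheaf.stalk x ≃+*
      Localization.AtPrime (PrimeSpectrum.asIdeal (R := R) x) :=
    (Spec.stalkIso (CommRingCat.of R) x).commRingCatIsoToRingEquiv
  letI : Algebra ((Spec (CommRingCat.of R)).presheaf.stalk x) Ah :=
    ((algebraMap (Localization.AtPrime (PrimeSpectrum.asIdeal (R := R) x)) Ah).comp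
      (e : (Spec (CommRingCat.of R)).presheaf.stalk x →+*
        Localization.AtPrime (PrimeSpectrum.asIdeal (R := R) x))).toAlgebra
  have he : ∀ z, algebraMap ((Spec (CommRingCat.of R)).presheaf.stalk x) Ah z =
      algebraMap (Localization.AtPrime (PrimeSpectrum.asIdeal (R := R) x)) Ah (e z) :=
    fun _ => rfl
  haveI : IsLocalHom (algebraMap ((Spec (CommRingCat.of R)).presheaf.stalk x) Ah) :=
    Groth.Agent.Lib.GeomUnibranchEquiv96.isLocalHom_of_ringEquiv e he
  haveI : Hensel.IsHenselization ((Spec (CommRingCat.of R)).presheaf.stalk x) Ah :=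
    isHenselization_of_ringEquiv e he
  exact Groth.Agent.S9237.result ((Spec (CommRingCat.of R)).presheaf.stalk x) Ah

include hx in
set_option backward.isDefEq.respectTransparency.types false in
theorem expChar_residueField_stalk (e₀ : ℕ) [ExpChar p.ResidueField e₀] :
    ExpChar (ResidueField ((Spec (CommRingCat.of R)).presheaf.stalk x)) e₀ := by
  subst hx
  let e : (Spec (CommRingCat.of R)).presheaf.stalk x ≃+*
      Localization.AtPrime (PrimeSpectrum.asIdeal (R := R) x) :=
    (Spec.stalkIso (CommRingCat.of R) x).commRingCatIsoToRingEquiv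
  exact expChar_of_injective_ringHom
    (f := ResidueField.map (e.symm : Localization.AtPrime (PrimeSpectrum.asIdeal (R := R) x) →+*
      (Spec (CommRingCat.of R)).presheaf.stalk x))
    (RingHom.injective _) e₀

end Spec

section StalkMap

variable (R S : Type u) [CommRing R] [CommRing S] [Algebra R S] (q : Ideal S) [q.IsPrime]
  (p : Ideal R) [p.IsPrime] (hpq : p = q.comap (algebraMap R S))

set_option backward.isDefEq.respectTransparency.types false in
theorem resPI_stalkMap_SpecMap (e₀ : ℕ)
    (h : ResPI (Localization.localRingHom p q (algebraMap R S) hpq) e₀) :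
    ResPI ((Spec.map (CommRingCat.ofHom (algebraMap R S))).stalkMap
      (⟨q, inferInstance⟩ : PrimeSpectrum S)).hom e₀ := by
  subst hpq
  let y : PrimeSpectrum S := ⟨q, inferInstance⟩
  have key := Scheme.localRingHom_comp_stalkIso (CommRingCat.ofHom (algebraMap R S)) y
  have h1 := resPI_of_bijective
    (Localization.localRingHom (q.comap (algebraMap R S)) q (algebraMap R S) rfl)
    (Spec.stalkIso (CommRingCat.of R)
      (y.comap (CommRingCat.ofHom (algebraMap R S)).hom)).hom.hom
    (ConcreteCategory.bijective_of_isIso (Spec.stalkIso (CommRingCat.of R)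
      (y.comap (CommRingCat.ofHom (algebraMap R S)).hom)).hom).2
    (Spec.stalkIso (CommRingCat.of S) y).inv.hom
    (ConcreteCategory.bijective_of_isIso (Spec.stalkIso (CommRingCat.of S) y).inv) e₀ h
  rw [← key]
  exact h1

/-- The image of the point `q` under `Spec S ⟶ Spec R`. -/
theorem SpecMap_apply_asIdeal :
    ((Spec.map (CommRingCat.ofHom (algebraMap R S)))
      (⟨q, inferInstance⟩ : PrimeSpectrum S) : PrimeSpectrum R).asIdeal =
      q.comap (algebraMap R S) := rfl

theorem smooth_SpecMap [Algebra.Smooth R S] :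
    Smooth (Spec.map (CommRingCat.ofHom (algebraMap R S))) := by
  rw [HasRingHomProperty.Spec_iff (P := @Smooth)]
  exact RingHom.smooth_algebraMap.mpr inferInstance

end StalkMap

end Groth.Agent.Lib.SmoothBranches96
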