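import Mathlib.RingTheory.Smooth.AdicCompletion
import Mathlib.RingTheory.AdicCompletion.Completeness
import Mathlib.RingTheory.RingHom.Finite
import Groth.Agent.Lib.LimAdic2

/-!
# Lifting finite maps to adic completions of formally smooth algebras (helper22)

`exists_finite_lift`: `V` a ring, `I ⊆ V` an ideal, `A` a formally smooth `V`-algebra, `C` a
`V`-algebra with `IC` finitely generated and `IA` finitely generated, `φ₀ : A/IA → C/IC` a finite
`V`-algebra map. Then `φ₀` lifts to a finite `V`-algebra map `Â → Ĉ` of the `I`-adic completions.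
-/

namespace Groth.Agent.Lib.SmoothComplLift22

open AdicCompletion

universe u

variable {V A C : Type*} [CommRing V] [CommRing A] [Algebra V A] [CommRing C] [Algebra V C]

/-- A `V`-algebra map `A → T` sends `(IA)^n` into `(IT)^n`. -/
lemma map_map_pow {T : Type*} [CommRing T] [Algebra V T] (I : Ideal V) (n : ℕ) (θ : A →ₐ[V] T) :
    ((I.map (algebraMap V A)) ^ n).map θ = (I.map (algebraMap V T)) ^ n := by
  rw [Ideal.map_pow]
  congr 1
  have : Ideal.map θ (Ideal.map (algebraMap V A) I) =
      Ideal.map ((θ : A →+* T).comp (algebraMap V A)) I := by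
    rw [← Ideal.map_map]; rfl
  rw [this, AlgHom.comp_algebraMap]

lemma map_pow_eq_bot (I : Ideal V) (n : ℕ)
    (θ : A →ₐ[V] C ⧸ (I.map (algebraMap V C)) ^ n) :
    ((I.map (algebraMap V A)) ^ n).map θ = ⊥ := by
  rw [map_map_pow]
  have : algebraMap V (C ⧸ (I.map (algebraMap V C)) ^ n) =
      (Ideal.Quotient.mk _).comp (algebraMap V C) := rfl
  rw [this, ← Ideal.map_map,
    ← Ideal.map_pow (Ideal.Quotient.mk ((I.map (algebraMap V C)) ^ n)) (I.map (algebraMap V C)) n,
    Ideal.map_quotient_self]

section lift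

variable (I : Ideal V)

/-- The `V`-algebra map `A → C/(IC)^n` induced by `g : A → Ĉ`. -/
noncomputable def baseMap (g : A →ₐ[V] AdicCompletion (I.map (algebraMap V C)) C) (n : ℕ) :
    A →ₐ[V] C ⧸ (I.map (algebraMap V C)) ^ n :=
  ((evalₐ (I.map (algebraMap V C)) n).restrictScalars V).comp g

lemma baseMap_eq_zero (g : A →ₐ[V] AdicCompletion (I.map (algebraMap V C)) C) (n : ℕ)
    (a : A) (ha : a ∈ (I.map (algebraMap V A)) ^ n) : baseMap I g n a = 0 := by
  have h := map_pow_eq_bot I n (baseMap I g n)
  have : baseMap I g n a ∈ ((I.map (algebraMap V A)) ^ n).map (baseMap I g n) :=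
    Ideal.mem_map_of_mem _ ha
  rw [h] at this
  simpa using this

/-- The level-`n` map `Â → C/(IC)^n` induced by `g : A → Ĉ`. -/
noncomputable def levelMap (g : A →ₐ[V] AdicCompletion (I.map (algebraMap V C)) C) (n : ℕ) :
    AdicCompletion (I.map (algebraMap V A)) A →ₐ[V] C ⧸ (I.map (algebraMap V C)) ^ n :=
  (Ideal.Quotient.liftₐ ((I.map (algebraMap V A)) ^ n) (baseMap I g n)
      (baseMap_eq_zero I g n)).comp
    ((evalₐ (I.map (algebraMap V A)) n).restrictScalars V)

lemma levelMap_apply (g : A →ₐ[V] AdicCompletion (I.map (algebraMap V C)) C) (n : ℕ)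
    (x : AdicCompletion (I.map (algebraMap V A)) A) (a : A)
    (ha : evalₐ (I.map (algebraMap V A)) n x = Ideal.Quotient.mk _ a) :
    levelMap I g n x = evalₐ (I.map (algebraMap V C)) n (g a) := by
  simp only [levelMap, AlgHom.comp_apply, AlgHom.restrictScalars_apply, ha]
  rfl

lemma factor_evalₐ (J : Ideal A) {m n : ℕ} (hmn : m ≤ n) (x : AdicCompletion J A) :
    Ideal.Quotient.factor (Ideal.pow_le_pow_right hmn) (evalₐ J n x) = evalₐ J m x := by
  induction x using AdicCompletion.induction_on with
  | h f =>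
    rw [evalₐ_mk, evalₐ_mk, Ideal.Quotient.factor_mk, Ideal.Quotient.eq]
    have h := f.property hmn
    rw [SModEq.sub_mem] at h
    have h2 : f.val m - f.val n ∈ (J ^ m • ⊤ : Ideal A) := h
    rw [← neg_sub] at h2
    simpa using neg_mem h2

lemma levelMap_compat (g : A →ₐ[V] AdicCompletion (I.map (algebraMap V C)) C) {m n : ℕ}
    (hmn : m ≤ n) :
    (Ideal.Quotient.factorₐ V (Ideal.pow_le_pow_right hmn)).comp (levelMap I g n) =
      levelMap I g m := by
  ext x
  obtain ⟨a, ha⟩ := Ideal.Quotient.mk_surjective (evalₐ (I.map (algebraMap V A)) n x)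
  have ha' : evalₐ (I.map (algebraMap V A)) m x = Ideal.Quotient.mk _ a := by
    rw [← factor_evalₐ _ hmn, ← ha, Ideal.Quotient.factor_mk]
  rw [AlgHom.comp_apply, levelMap_apply I g n x a ha.symm, levelMap_apply I g m x a ha']
  exact factor_evalₐ _ hmn (g a)

/-- The induced map of completions. -/
noncomputable def complMap (g : A →ₐ[V] AdicCompletion (I.map (algebraMap V C)) C) :
    AdicCompletion (I.map (algebraMap V A)) A →ₐ[V] AdicCompletion (I.map (algebraMap V C)) C :=
  AdicCompletion.liftAlgHom _ (levelMap I g) (fun hmn => levelMap_compat I g hmn)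

lemma evalₐ_complMap (g : A →ₐ[V] AdicCompletion (I.map (algebraMap V C)) C) (n : ℕ)
    (x : AdicCompletion (I.map (algebraMap V A)) A) :
    evalₐ _ n (complMap I g x) = levelMap I g n x :=
  evalₐ_liftAlgHom _ _ _ _ _

lemma evalₐ_complMap_of (g : A →ₐ[V] AdicCompletion (I.map (algebraMap V C)) C) (n : ℕ)
    (a : A) :
    evalₐ _ n (complMap I g (algebraMap A _ a)) = evalₐ _ n (g a) := by
  rw [evalₐ_complMap, levelMap_apply I g n _ a]
  exact evalₐ_of _ _ _

lemma complMap_of (g : A →ₐ[V] AdicCompletion (I.map (algebraMap V C)) C) (a : A) :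
    complMap I g (algebraMap A _ a) = g a :=
  ext_evalₐ fun n => evalₐ_complMap_of I g n a

lemma evalOneₐ_complMap (g : A →ₐ[V] AdicCompletion (I.map (algebraMap V C)) C)
    (x : AdicCompletion (I.map (algebraMap V A)) A) (a : A)
    (ha : evalOneₐ (I.map (algebraMap V A)) x = Ideal.Quotient.mk _ a) :
    evalOneₐ _ (complMap I g x) = evalOneₐ _ (g a) := by
  obtain ⟨b, hb⟩ := Ideal.Quotient.mk_surjective (evalₐ (I.map (algebraMap V A)) 1 x)
  have h1 : evalOneₐ (I.map (algebraMap V A)) x = Ideal.Quotient.mk _ b := by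
    rw [← factorₐ_evalₐ_one, ← hb, Ideal.Quotient.factor_mk]
  have hab : a - b ∈ (I.map (algebraMap V A)) ^ 1 := by
    rw [pow_one, ← Ideal.Quotient.eq, ← ha, ← h1]
  rw [← factorₐ_evalₐ_one, ← factorₐ_evalₐ_one, evalₐ_complMap,
    levelMap_apply I g 1 x b hb.symm]
  congr 1
  have := baseMap_eq_zero I g 1 (a - b) hab
  rw [map_sub, sub_eq_zero] at this
  exact this.symm

end lift

section finite

variable {R S : Type*} [CommRing R] [CommRing S]

/-- A ring map `φ : R^ → S` from the `J`-adic completion (`J` f.g.) is finite as soon as `S` is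
`JS`-adically separated and `S/JS` is generated over `R` by finitely many elements. -/
theorem finite_of_separated (J : Ideal R) (hJ : J.FG) (φ : AdicCompletion J R →+* S)
    (hsep : ∀ x : S,
      (∀ n, x ∈ (J.map (φ.comp (algebraMap R (AdicCompletion J R)))) ^ n) → x = 0)
    (hfin : ∃ (k : ℕ) (y : Fin k → S), ∀ x : S, ∃ c : Fin k → R,
      x - ∑ i, φ (algebraMap R _ (c i)) * y i ∈
        J.map (φ.comp (algebraMap R (AdicCompletion J R)))) :
    φ.Finite := by
  let := φ.toAlgebra
  let : Algebra R S := (φ.comp (algebraMap R (AdicCompletion J R))).toAlgebra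
  have : IsScalarTower R (AdicCompletion J R) S := IsScalarTower.of_algebraMap_eq (fun _ => rfl)
  have hsm : ∀ n (x : S), x ∈ (J ^ n • ⊤ : Submodule R S) ↔
      x ∈ (J.map (φ.comp (algebraMap R (AdicCompletion J R)))) ^ n := by
    intro n x
    rw [Ideal.smul_top_eq_map, Ideal.map_pow]
    rfl
  have : IsHausdorff J S := ⟨fun x hx => hsep x (fun n => by
    have := hx n
    rw [SModEq.zero] at this
    exact (hsm n x).1 this)⟩
  have h : Module.Finite R (S ⧸ (J • ⊤ : Submodule R S)) := by
    obtain ⟨k, y, hy⟩ := hfin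
    refine Module.Finite.of_surjective
      ((Submodule.mkQ (J • ⊤ : Submodule R S)).comp (Fintype.linearCombination R y)) ?_
    intro x
    obtain ⟨x, rfl⟩ := Submodule.mkQ_surjective _ x
    obtain ⟨c, hc⟩ := hy x
    refine ⟨c, ?_⟩
    rw [LinearMap.comp_apply, Fintype.linearCombination_apply, eq_comm, Submodule.mkQ_apply,
      Submodule.mkQ_apply, Submodule.Quotient.eq]
    have := (hsm 1 (x - ∑ i, φ (algebraMap R _ (c i)) * y i)).2 (by simpa using hc)
    rw [pow_one] at this
    have e : ∑ i, c i • y i = ∑ i, φ (algebraMap R _ (c i)) * y i :=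
      Finset.sum_congr rfl fun i _ => rfl
    rw [e]
    exact this
  exact Groth.Agent.Lib.LimAdic2.finite_adicCompletion_of_finite_quotient J hJ h

end finite

section main

variable (I : Ideal V) [Algebra.FormallySmooth V A]

omit [Algebra.FormallySmooth V A] in
lemma map_comp_eq (φ : AdicCompletion (I.map (algebraMap V A)) A →ₐ[V]
      AdicCompletion (I.map (algebraMap V C)) C) :
    (I.map (algebraMap V A)).map (φ.toRingHom.comp (algebraMap A (AdicCompletion _ A))) =
      (I.map (algebraMap V C)).map (algebraMap C (AdicCompletion (I.map (algebraMap V C)) C)) := by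
  rw [Ideal.map_map, Ideal.map_map]
  congr 1
  ext v
  simp only [RingHom.comp_apply, AlgHom.toRingHom_eq_coe, RingHom.coe_coe]
  rw [← IsScalarTower.algebraMap_apply, ← IsScalarTower.algebraMap_apply, AlgHom.commutes]

theorem exists_finite_lift
    (hA : (I.map (algebraMap V A)).FG) (hC : (I.map (algebraMap V C)).FG)
    (φ₀ : (A ⧸ I.map (algebraMap V A)) →ₐ[V] (C ⧸ I.map (algebraMap V C)))
    (hφ₀ : φ₀.toRingHom.Finite) :
    ∃ φ : AdicCompletion (I.map (algebraMap V A)) A →ₐ[V]
        AdicCompletion (I.map (algebraMap V C)) C,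
      φ.toRingHom.Finite ∧
      (AdicCompletion.evalOneₐ (I.map (algebraMap V C))).toRingHom.comp φ.toRingHom =
        φ₀.toRingHom.comp (AdicCompletion.evalOneₐ (I.map (algebraMap V A))).toRingHom := by
  obtain ⟨g, hg⟩ := Algebra.FormallySmooth.exists_adicCompletionEvalOneₐ_comp_eq
    (φ₀.comp (Ideal.Quotient.mkₐ V (I.map (algebraMap V A))))
  have hcomm : ∀ x, evalOneₐ (I.map (algebraMap V C)) (complMap I g x) =
      φ₀ (evalOneₐ (I.map (algebraMap V A)) x) := by
    intro x
    obtain ⟨a, ha⟩ := Ideal.Quotient.mk_surjective (evalOneₐ (I.map (algebraMap V A)) x)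
    rw [evalOneₐ_complMap I g x a ha.symm, ← ha]
    exact congr($hg a)
  refine ⟨complMap I g, ?_, RingHom.ext hcomm⟩
  apply finite_of_separated (I.map (algebraMap V A)) hA (complMap I g).toRingHom
  · intro x hx
    refine ext_evalₐ fun n => ?_
    rw [_root_.map_zero]
    have hle : ((I.map (algebraMap V A)).map
        ((complMap I g).toRingHom.comp (algebraMap A (AdicCompletion _ A)))) ^ n ≤
        RingHom.ker (evalₐ (I.map (algebraMap V C)) n) := by
      rw [← Ideal.map_pow, Ideal.map_le_iff_le_comap]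
      intro a ha
      rw [Ideal.mem_comap, RingHom.mem_ker]
      change evalₐ _ n (complMap I g (algebraMap A _ a)) = 0
      rw [evalₐ_complMap_of]
      exact baseMap_eq_zero I g n a ha
    exact hle (hx n)
  · let := φ₀.toRingHom.toAlgebra
    have hfin : Module.Finite (A ⧸ I.map (algebraMap V A)) (C ⧸ I.map (algebraMap V C)) := hφ₀
    obtain ⟨k, s, hs⟩ := Module.Finite.exists_fin (R := A ⧸ I.map (algebraMap V A))
      (M := C ⧸ I.map (algebraMap V C))
    choose y hy using fun i => evalOneₐ_surjective (I.map (algebraMap V C)) (s i)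
    refine ⟨k, y, fun x => ?_⟩
    have hx : evalOneₐ (I.map (algebraMap V C)) x ∈
        Submodule.span (A ⧸ I.map (algebraMap V A)) (Set.range s) := by
      rw [hs]; trivial
    obtain ⟨c, hc⟩ := (Submodule.mem_span_range_iff_exists_fun _).1 hx
    choose d hd using fun i => Ideal.Quotient.mk_surjective (c i)
    refine ⟨d, ?_⟩
    rw [map_comp_eq, ← ker_evalOneₐ_eq_map _ hC, RingHom.mem_ker]
    change evalOneₐ _ _ = 0
    rw [map_sub, map_sum, ← hc, sub_eq_zero]
    refine Finset.sum_congr rfl fun i _ => ?_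
    rw [map_mul, hy]
    change _ = evalOneₐ _ (complMap I g _) * _
    rw [hcomm, Algebra.smul_def, RingHom.algebraMap_toAlgebra, ← hd]
    rfl

end main

end Groth.Agent.Lib.SmoothComplLift22
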