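import Groth.Agent.Lib.H14SmoothReg2
import Groth.Agent.Lib.RegularDimOne
import Groth.Agent.Lib.RegularLocal
import Mathlib

/-!
# Smooth connected curves are integral with principal local rings (helper67; campaign K6)

Namespace `Groth.Agent.Lib.SmoothCurve67`.

* `exists_generic_of_isDomain_stalk` : if `O_{X,x}` is a domain there is a point generizing every generization of `x`.
* `irreducibleSpace_of_isDomain_stalk` : a connected quasi-compact locally Noetherian scheme whose local rings are
  domains is irreducible.
* `isIntegral_of_isDomain_stalk` : ... and integral.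
* `isRegularLocalRing_stalk_of_smooth` : local rings of a scheme smooth over a field are regular.
* `isIntegral_of_smooth` : smooth + connected + quasi-compact over a field ⇒ integral.
* `isPrincipalIdealRing_stalk_of_smooth` : smooth over a field of dimension `≤ 1` ⇒ all local rings are PIDs.
* `curve_setup` : the package used by the curve rows: `[IsProper] [Smooth] [GeometricallyConnected]` ⇒
  `IsIntegral X ∧ ∀ x, IsPrincipalIdealRing (stalk x)` (given `dim X ≤ 1`).
-/

set_option autoImplicit false
universe u
open CategoryTheory CategoryTheory.Limits AlgebraicGeometry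

namespace Groth.Agent.Lib.SmoothCurve67

variable {X : Scheme.{u}}

/-- If the local ring at `x` is a domain, some point generizes all generizations of `x`. -/
theorem exists_generic_of_isDomain_stalk (x : X) [IsDomain (X.presheaf.stalk x)] :
    ∃ ζ : X, ∀ y : X, y ⤳ x → ζ ⤳ y := by
  let b : ↥(Spec (X.presheaf.stalk x)) :=
    (⟨⊥, Ideal.isPrime_bot⟩ : PrimeSpectrum (X.presheaf.stalk x))
  refine ⟨(X.fromSpecStalk x) b, fun y hy => ?_⟩
  have hy' : y ∈ Set.range (X.fromSpecStalk x) := by
    rw [Scheme.range_fromSpecStalk]; exact hy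
  obtain ⟨p, rfl⟩ := hy'
  have hbp : b ⤳ p :=
    (PrimeSpectrum.le_iff_specializes (R := X.presheaf.stalk x)
      (⟨⊥, Ideal.isPrime_bot⟩ : PrimeSpectrum (X.presheaf.stalk x)) p).mp bot_le
  exact hbp.map (X.fromSpecStalk x).continuous

/-- two irreducible components through a point with domain local ring coincide -/
theorem irreducibleComponents_eq_of_mem (x : X) [IsDomain (X.presheaf.stalk x)]
    {Z₁ Z₂ : Set X} (h₁ : Z₁ ∈ irreducibleComponents X) (h₂ : Z₂ ∈ irreducibleComponents X)
    (hx₁ : x ∈ Z₁) (hx₂ : x ∈ Z₂) : Z₁ = Z₂ := by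
  obtain ⟨ζ, hζ⟩ := exists_generic_of_isDomain_stalk x
  have key : ∀ Z ∈ irreducibleComponents X, x ∈ Z → Z = closure {ζ} := by
    intro Z hZ hxZ
    have hZirr : IsIrreducible Z := hZ.1
    have hZcl : IsClosed Z := isClosed_of_mem_irreducibleComponents Z hZ
    obtain ⟨η, hη⟩ := QuasiSober.sober hZirr hZcl
    have h1 : η ⤳ x := by
      rw [specializes_iff_mem_closure, hη.def]; exact hxZ
    have h2 : ζ ⤳ η := hζ η h1
    have h3 : Z ⊆ closure {ζ} := by
      rw [← hη.def]
      exact closure_minimal (Set.singleton_subset_iff.mpr h2.mem_closure) isClosed_closure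
    have h4 : IsIrreducible (closure ({ζ} : Set X)) := isIrreducible_singleton.closure
    exact le_antisymm h3 (hZ.2 h4 h3)
  rw [key Z₁ h₁ hx₁, key Z₂ h₂ hx₂]

/-- A connected quasi-compact locally Noetherian scheme whose local rings are domains is irreducible. -/
theorem irreducibleSpace_of_isDomain_stalk [IsLocallyNoetherian X] [CompactSpace X] [ConnectedSpace X]
    (h : ∀ x : X, IsDomain (X.presheaf.stalk x)) : IrreducibleSpace X := by
  have : AlgebraicGeometry.IsNoetherian X := {}
  obtain ⟨x₀⟩ : Nonempty X := inferInstance
  set Z₀ := irreducibleComponent x₀ with hZ₀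
  have hfin : (irreducibleComponents X).Finite :=
    TopologicalSpace.NoetherianSpace.finite_irreducibleComponents
  have hcompl : Z₀ᶜ = ⋃₀ (irreducibleComponents X \ {Z₀}) := by
    ext y
    constructor
    · intro hy
      refine ⟨irreducibleComponent y, ⟨irreducibleComponent_mem_irreducibleComponents y, ?_⟩,
        mem_irreducibleComponent⟩
      intro heq
      apply hy
      rw [Set.mem_singleton_iff] at heq
      rw [← heq]
      exact mem_irreducibleComponent
    · rintro ⟨Z, ⟨hZ, hne⟩, hyZ⟩ hy0
      have := h y
      exact hne (irreducibleComponents_eq_of_mem y hZ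
        (irreducibleComponent_mem_irreducibleComponents x₀) hyZ hy0)
  have hopen : IsOpen Z₀ := by
    rw [← isClosed_compl_iff, hcompl]
    rw [Set.sUnion_eq_biUnion]
    apply Set.Finite.isClosed_biUnion (hfin.subset Set.sdiff_subset)
    intro Z hZ
    exact isClosed_of_mem_irreducibleComponents Z hZ.1
  have hclopen : IsClopen Z₀ := ⟨isClosed_irreducibleComponent, hopen⟩
  have huniv : Z₀ = Set.univ := hclopen.eq_univ ⟨x₀, mem_irreducibleComponent⟩
  refine (irreducibleSpace_def X).mpr ?_
  rw [Set.top_eq_univ, ← huniv]
  exact isIrreducible_irreducibleComponent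

/-- A connected quasi-compact locally Noetherian scheme whose local rings are domains is integral. -/
theorem isIntegral_of_isDomain_stalk [IsLocallyNoetherian X] [CompactSpace X] [ConnectedSpace X]
    (h : ∀ x : X, IsDomain (X.presheaf.stalk x)) : IsIntegral X := by
  have := irreducibleSpace_of_isDomain_stalk h
  have : ∀ x : X, _root_.IsReduced (X.presheaf.stalk x) := fun x => by
    have := h x
    infer_instance
  have : IsReduced X := isReduced_of_isReduced_stalk X
  exact isIntegral_of_irreducibleSpace_of_isReduced X

section Smooth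


attribute [local instance] Curv2.stalkAlgebra in
/-- Local rings of a scheme smooth over a field are regular. -/
theorem isRegularLocalRing_stalk_of_smooth (k : Type u) [Field k] (X : Scheme.{u}) [X.Over (Spec (CommRingCat.of k))]
    [Smooth (X ↘ Spec (CommRingCat.of k))] (x : X) : IsRegularLocalRing (X.presheaf.stalk x) := by
  have hx : x ∈ (X ↘ Spec (CommRingCat.of k)).smoothLocus := by
    rw [Scheme.Hom.smoothLocus_eq_top]; trivial
  have := Groth.Agent.Lib.H14SmoothReg.essFiniteType_stalk k X x
  have : Algebra.FormallySmooth k (X.presheaf.stalk x) :=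
    (Groth.Agent.Lib.H14SmoothReg.mem_smoothLocus_iff k X x).mp hx
  exact Groth.Agent.Lib.H14SmoothReg.isRegularLocalRing_of_formallySmooth k _

theorem isDomain_stalk_of_smooth (k : Type u) [Field k] (X : Scheme.{u}) [X.Over (Spec (CommRingCat.of k))]
    [Smooth (X ↘ Spec (CommRingCat.of k))] (x : X) : IsDomain (X.presheaf.stalk x) := by
  have := isRegularLocalRing_stalk_of_smooth k X x
  exact Groth.Agent.Lib.RegularLocal.isDomain _

/-- smooth + connected + quasi-compact over a field ⇒ integral -/
theorem isIntegral_of_smooth (k : Type u) [Field k] (X : Scheme.{u}) [X.Over (Spec (CommRingCat.of k))]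
    [Smooth (X ↘ Spec (CommRingCat.of k))] [CompactSpace X] [ConnectedSpace X] : IsIntegral X := by
  have : IsLocallyNoetherian X :=
    LocallyOfFiniteType.isLocallyNoetherian (X ↘ Spec (CommRingCat.of k))
  exact isIntegral_of_isDomain_stalk (isDomain_stalk_of_smooth k X)

/-- smooth over a field of dimension `≤ 1` ⇒ all local rings are principal ideal rings -/
theorem isPrincipalIdealRing_stalk_of_smooth (k : Type u) [Field k] (X : Scheme.{u}) [X.Over (Spec (CommRingCat.of k))]
    [Smooth (X ↘ Spec (CommRingCat.of k))] (hdim : topologicalKrullDim X ≤ 1) (x : X) :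
    IsPrincipalIdealRing (X.presheaf.stalk x) := by
  have := isRegularLocalRing_stalk_of_smooth k X x
  have := isDomain_stalk_of_smooth k X x
  exact Groth.Agent.Lib.RegularDimOne.isPrincipalIdealRing_of_regular_of_dim_le_one _
    ((Groth.Agent.Lib.RegularDimOne.dim_stalk_le X x).trans hdim)

/-- The package for the curve rows. -/
theorem curve_setup (k : Type u) [Field k] (X : Scheme.{u}) [X.Over (Spec (CommRingCat.of k))]
    [Smooth (X ↘ Spec (CommRingCat.of k))] [IsProper (X ↘ Spec (CommRingCat.of k))]
    [GeometricallyConnected (X ↘ Spec (CommRingCat.of k))] (hdim : topologicalKrullDim X ≤ 1) :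
    IsIntegral X ∧ IsLocallyNoetherian X ∧ ∀ x : X, IsPrincipalIdealRing (X.presheaf.stalk x) := by
  have : IsLocallyNoetherian X :=
    LocallyOfFiniteType.isLocallyNoetherian (X ↘ Spec (CommRingCat.of k))
  have : CompactSpace X := by
    have : CompactSpace (Spec (CommRingCat.of k)) := inferInstance
    exact QuasiCompact.compactSpace_of_compactSpace (X ↘ Spec (CommRingCat.of k))
  have : ConnectedSpace X :=
    GeometricallyConnected.connectedSpace_of_subsingleton (X ↘ Spec (CommRingCat.of k))
  exact ⟨isIntegral_of_smooth k X, inferInstance, isPrincipalIdealRing_stalk_of_smooth k X hdim⟩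

end Smooth

end Groth.Agent.Lib.SmoothCurve67
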