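import Mathlib.AlgebraicGeometry.Morphisms.Etale
import Mathlib.RingTheory.Etale.Kaehler
import Mathlib.RingTheory.Smooth.StandardSmoothCotangent
import Mathlib.LinearAlgebra.Dimension.Free
import Mathlib.LinearAlgebra.Dimension.Constructions

/-!
# A smooth morphism that is unramified on a dense open is unramified (hence étale) (helper68)

* `formallyUnramified_of_isStandardSmooth_of_away` (ring level): `A → B` standard smooth,
  `B[1/b]` nontrivial and formally unramified over `A` ⇒ `B` formally unramified over `A`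
  (`Ω[B⁄A]` is free, and vanishes after a nontrivial localization).
* `appLE_of_ι_comp`: for a `HasRingHomProperty P Q`, `P (O.ι ≫ f)` gives `Q (f.appLE V O e)` for
  affine opens `O`, `V`.
* `formallyUnramified_of_smooth_of_dense`, `etale_of_smooth_of_dense`.
-/

set_option autoImplicit false
universe u

namespace Groth.Agent.Lib.SmoothDenseUnram68

open TensorProduct CategoryTheory AlgebraicGeometry

theorem formallyUnramified_of_isStandardSmooth_of_away {A B : Type u} [CommRing A] [CommRing B]
    [Algebra A B] [Algebra.IsStandardSmooth A B] (T : Type u) [CommRing T] [Algebra B T]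
    [Algebra A T] [IsScalarTower A B T] (b : B) [IsLocalization.Away b T] [Nontrivial T]
    [Algebra.FormallyUnramified A T] : Algebra.FormallyUnramified A B := by
  have hfe : Algebra.FormallyEtale B T := Algebra.FormallyEtale.of_isLocalization (Submonoid.powers b)
  have hB : Nontrivial B := RingHom.domain_nontrivial (algebraMap B T)
  have e := KaehlerDifferential.tensorKaehlerEquivOfFormallyEtale A B T
  have h1 : Subsingleton Ω[T⁄A] := inferInstance
  have h2 : Subsingleton (T ⊗[B] Ω[B⁄A]) := e.toEquiv.subsingleton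
  have h3 : Module.rank T (T ⊗[B] Ω[B⁄A]) = 0 := rank_subsingleton' _ _
  rw [Module.rank_baseChange, Cardinal.lift_eq_zero] at h3
  have h4 : Subsingleton Ω[B⁄A] := Module.subsingleton_of_rank_zero h3
  exact ⟨h4⟩

/-- From a property of `O.ι ≫ f` to the corresponding property of the ring map `f.appLE V O e`. -/
theorem appLE_of_ι_comp {P : MorphismProperty Scheme.{u}} {Q : ∀ {R S : Type u} [CommRing R]
    [CommRing S], (R →+* S) → Prop} [HasRingHomProperty P Q] {X S : Scheme.{u}} (f : X ⟶ S)
    {V : S.Opens} (hV : IsAffineOpen V) {O : X.Opens} (hO : IsAffineOpen O) (e : O ≤ f ⁻¹ᵁ V)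
    (h : P (O.ι ≫ f)) : Q (f.appLE V O e).hom := by
  have hOa : IsAffine O.toScheme := hO
  have h1 := HasRingHomProperty.appLE P (O.ι ≫ f) h ⟨V, hV⟩ ⟨⊤, isAffineOpen_top _⟩ (by
      rw [Scheme.Hom.comp_preimage]
      exact le_top.trans (O.ι_preimage_self.ge.trans (O.ι.preimage_mono e)))
  rw [← Scheme.Hom.appLE_comp_appLE O.ι f V O ⊤ e O.ι_preimage_self.ge] at h1
  exact ((HasRingHomProperty.isLocal_ringHomProperty P).respectsIso.cancel_right_isIso _ _).mp h1

/-- A smooth morphism which is formally unramified on a dense open subset of the source is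
formally unramified. -/
theorem formallyUnramified_of_smooth_of_dense {X S : Scheme.{u}} (f : X ⟶ S) [Smooth f]
    (U : X.Opens) (hU : Dense (U : Set X)) (hfU : FormallyUnramified (U.ι ≫ f)) :
    FormallyUnramified f := by
  rw [HasRingHomProperty.iff_exists_appLE (P := @FormallyUnramified)
    (RingHom.FormallyUnramified.stableUnderComposition.stableUnderCompositionWithLocalizationAway
      RingHom.FormallyUnramified.holdsForLocalizationAway).left]
  intro x
  obtain ⟨V₀, hV₀, W, hW, hxW, e, hss⟩ := Smooth.exists_isStandardSmooth f x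
  refine ⟨⟨V₀, hV₀⟩, ⟨W, hW⟩, hxW, e, ?_⟩
  obtain ⟨y, hyW, hyU⟩ := hU.inter_open_nonempty W.1 W.2 ⟨x, hxW⟩
  obtain ⟨b, hb1, hb2⟩ := hW.exists_basicOpen_le (V := W ⊓ U) ⟨y, ⟨hyW, hyU⟩⟩ hyW
  have hO : IsAffineOpen (X.basicOpen b) := hW.basicOpen b
  have hOW : X.basicOpen b ≤ W := X.basicOpen_le b
  have hOU : X.basicOpen b ≤ U := hb1.trans inf_le_right
  have hne : Nonempty (X.basicOpen b) := ⟨⟨y, hb2⟩⟩
  have hfO : FormallyUnramified ((X.basicOpen b).ι ≫ f) := by
    have : (X.basicOpen b).ι ≫ f = X.homOfLE hOU ≫ U.ι ≫ f := by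
      rw [Scheme.homOfLE_ι_assoc]
    rw [this]
    exact IsZariskiLocalAtSource.comp hfU _
  have hun : (f.appLE V₀ (X.basicOpen b) (hOW.trans e)).hom.FormallyUnramified :=
    appLE_of_ι_comp (P := @FormallyUnramified) f hV₀ hO (hOW.trans e) hfO
  algebraize [(f.appLE V₀ W e).hom, (f.appLE V₀ (X.basicOpen b) (hOW.trans e)).hom]
  have hloc : IsLocalization.Away b Γ(X, X.basicOpen b) := hW.isLocalization_basicOpen b
  have htower : IsScalarTower Γ(S, V₀) Γ(X, W) Γ(X, X.basicOpen b) := by
    refine IsScalarTower.of_algebraMap_eq' ?_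
    change (f.appLE V₀ (X.basicOpen b) (hOW.trans e)).hom =
      (X.presheaf.map (homOfLE hOW).op).hom.comp (f.appLE V₀ W e).hom
    rw [← CommRingCat.hom_comp, Scheme.Hom.appLE_map]
  have hnt : Nontrivial Γ(X, X.basicOpen b) := inferInstance
  exact formallyUnramified_of_isStandardSmooth_of_away (A := Γ(S, V₀)) (B := Γ(X, W))
    Γ(X, X.basicOpen b) b

/-- A smooth morphism which is formally unramified on a dense open subset of the source is
étale. -/
theorem etale_of_smooth_of_dense {X S : Scheme.{u}} (f : X ⟶ S) [Smooth f]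
    (U : X.Opens) (hU : Dense (U : Set X)) (hfU : FormallyUnramified (U.ι ≫ f)) : Etale f := by
  have := formallyUnramified_of_smooth_of_dense f U hU hfU
  exact Etale.of_formallyUnramified_of_flat f

end Groth.Agent.Lib.SmoothDenseUnram68
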