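import Groth.Agent.Lib.H56FibDimSmooth2
import Groth.Agent.Lib.H86DimAt
import Groth.Agent.Lib.H30FibBC
import Groth.Agent.S7408
import Groth.Agent.S9359

set_option autoImplicit false
universe u
open CategoryTheory CategoryTheory.Limits AlgebraicGeometry Opposite

namespace Groth.Agent.Lib.SmoothDim91

/-- The relative dimension of a smooth morphism is locally constant on the source (with finite values). -/
theorem exists_opens_fibreDimAt_const {U V : Scheme.{u}} (h : U ⟶ V) [Smooth h] (u : U) :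
    ∃ (W : U.Opens) (n : ℕ), u ∈ W ∧ ∀ w ∈ W, FlatMor.fibreDimAt h w = (n : WithBot ℕ∞) := by
  obtain ⟨U₀, hU₀, V₀, hV₀, huV₀, e, hstd⟩ := Smooth.exists_isStandardSmooth h u
  let _ : Algebra Γ(V, U₀) Γ(U, V₀) := (h.appLE U₀ V₀ e).hom.toAlgebra
  have hstd' : Algebra.IsStandardSmooth Γ(V, U₀) Γ(U, V₀) := hstd
  obtain ⟨ι, σ, hσ, hι, ⟨P⟩⟩ := hstd'.out
  have hn : (algebraMap Γ(V, U₀) Γ(U, V₀)).IsStandardSmoothOfRelativeDimension P.dimension := by
    rw [RingHom.isStandardSmoothOfRelativeDimension_algebraMap]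
    exact ⟨ι, σ, hσ, hι, P, rfl⟩
  refine ⟨V₀, P.dimension, huV₀, fun w hw => ?_⟩
  have hwr : w ∈ Set.range hV₀.fromSpec.base := by
    rw [hV₀.range_fromSpec]; exact hw
  obtain ⟨q, rfl⟩ := hwr
  have hkey : FlatMor.fibreDimAt h (hV₀.fromSpec.base q) =
      Groth.Agent.Lib.H56LocDim.fibLocDim (PrimeSpectrum.comap (algebraMap Γ(V, U₀) Γ(U, V₀))) q :=
    Groth.Agent.Lib.H56LocDim.fibreDimAt_fromSpec h hV₀ hU₀ e q
  rw [hkey]
  exact Groth.Agent.Lib.H56LocDim.fibLocDim_of_isStandardSmoothOfRelativeDimension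
    Γ(V, U₀) Γ(U, V₀) P.dimension hn q

/-- **Dimension formula for smooth morphisms of locally Noetherian schemes.** -/
theorem localDim_eq_add_of_smooth {U V : Scheme.{u}} [IsLocallyNoetherian U] [IsLocallyNoetherian V]
    (h : U ⟶ V) [Smooth h] (u : U) :
    FlatMor.localDim ↥U u = FlatMor.localDim ↥V (h u) + FlatMor.fibreDimAt h u := by
  obtain ⟨W, n, huW, hW⟩ := exists_opens_fibreDimAt_const h u
  have hrel : Cyc.HasRelDim (W.ι ≫ h) n := by
    rw [Groth.Agent.Lib.H30FibBC.hasRelDim_iff]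
    intro w
    rw [← Groth.Agent.S7408.result h (W.ι ≫ h) W.ι (𝟙 V) (Category.comp_id _) w]
    exact hW _ w.2
  have key := Groth.Agent.S9359.result (W.ι ≫ h) n hrel ⟨u, huW⟩
  rw [Groth.Agent.Lib.H86DimAt.localDim_eq_of_etale W.ι ⟨u, huW⟩] at key
  rw [hW u huW]
  exact key

end Groth.Agent.Lib.SmoothDim91
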