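import Mathlib.RingTheory.Smooth.Fiber
import Mathlib.RingTheory.Smooth.Locus
import Mathlib.RingTheory.Smooth.Local
import Mathlib.RingTheory.Localization.BaseChange
import Mathlib.RingTheory.Kaehler.TensorProduct
import Mathlib.RingTheory.Flat.Equalizer
import Mathlib.RingTheory.RingHom.Smooth

/-!
# Relative fibre criterion for smoothness (EGA IV 17.8.2), ring level (helper37)

Let `R → A → B` be ring maps, `q` a prime of `B` such that `B_q` is flat over `R`, and let `k` be
"the residue field of `R` at `p = q ∩ R`" (any `R`-algebra in which `R ∖ p` becomes invertible and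
all of whose elements are fractions `r / t`, `t ∉ p`). If `k ⊗[R] B` is smooth over `k ⊗[R] A` at a
prime `q'` over `q`, then `B` is smooth over `A` at `q`.  This is a port of Mathlib's
`Algebra.FormallySmooth.of_formallySmooth_residueField_tensor` (the case `A = R`) to the relative
setting; flatness of `B_q` over `A` is a consequence, not a hypothesis.

* `formallySmooth_of_flat_of_tensor_aux`, `formallySmooth_of_flat_of_tensor`: local forms.
* `isSmoothAt_of_flat_of_tensor`, `mem_smoothLocus_of_flat_of_tensor`: at a prime, literal tensors.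
* `mem_smoothLocus_of_flat_of_isPushout`: `Algebra.IsPushout` form (for charts of schemes).
-/

set_option autoImplicit false

open TensorProduct IsLocalRing

namespace Groth.Agent.Lib.SmoothFibreRel


variable (R k : Type*) [CommRing R] [CommRing k] [Algebra R k]

/-- The algebra structure `k ⊗[R] A → k ⊗[R] B` induced by `A → B`. -/
@[reducible] noncomputable def tensorAlgebra (A B : Type*) [CommRing A] [CommRing B] [Algebra R A]
    [Algebra R B] [Algebra A B] [IsScalarTower R A B] : Algebra (k ⊗[R] A) (k ⊗[R] B) :=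
  (Algebra.TensorProduct.map (AlgHom.id k k) (IsScalarTower.toAlgHom R A B)).toRingHom.toAlgebra

lemma tensorAlgebra_algebraMap_tmul (A B : Type*) [CommRing A] [CommRing B] [Algebra R A]
    [Algebra R B] [Algebra A B] [IsScalarTower R A B] (c : k) (a : A) :
    letI := tensorAlgebra R k A B
    algebraMap (k ⊗[R] A) (k ⊗[R] B) (c ⊗ₜ a) = c ⊗ₜ algebraMap A B a := rfl

variable {A P S : Type*} [CommRing A] [CommRing P] [CommRing S]
  [Algebra R A] [Algebra R P] [Algebra R S] [Algebra A P] [Algebra A S] [Algebra P S]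
  [IsScalarTower R A P] [IsScalarTower R A S] [IsScalarTower R P S] [IsScalarTower A P S]

lemma isScalarTower_tensorAlgebra :
    letI := tensorAlgebra R k A P
    letI := tensorAlgebra R k P S
    letI := tensorAlgebra R k A S
    IsScalarTower (k ⊗[R] A) (k ⊗[R] P) (k ⊗[R] S) := by
  letI := tensorAlgebra R k A P
  letI := tensorAlgebra R k P S
  letI := tensorAlgebra R k A S
  refine .of_algebraMap_eq fun a ↦ ?_
  induction a using TensorProduct.induction_on with
  | zero => simp
  | add x y hx hy => simp only [map_add, hx, hy]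
  | tmul x y =>
    rw [tensorAlgebra_algebraMap_tmul, tensorAlgebra_algebraMap_tmul, tensorAlgebra_algebraMap_tmul,
      ← IsScalarTower.algebraMap_apply]


local notation "𝓀[" R "]" => ResidueField R
local notation "𝓂[" R "]" => maximalIdeal R

attribute [local instance] Algebra.TensorProduct.rightAlgebra in
/-- `k ⊗[R] B = B ⊗[A] (k ⊗[R] A)`. -/
lemma isPushout_tensor (A B : Type*) [CommRing A] [CommRing B] [Algebra R A]
    [Algebra R B] [Algebra A B] [IsScalarTower R A B]
    [Algebra (k ⊗[R] A) (k ⊗[R] B)] [Algebra A (k ⊗[R] B)]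
    [IsScalarTower A (k ⊗[R] A) (k ⊗[R] B)] [IsScalarTower A B (k ⊗[R] B)]
    [IsScalarTower k (k ⊗[R] A) (k ⊗[R] B)] :
    Algebra.IsPushout A B (k ⊗[R] A) (k ⊗[R] B) := by
  have : IsScalarTower R A (k ⊗[R] B) :=
    .of_algebraMap_eq' <| by
      rw [IsScalarTower.algebraMap_eq A B (k ⊗[R] B), RingHom.comp_assoc,
        ← IsScalarTower.algebraMap_eq, IsScalarTower.algebraMap_eq R B]
  have : IsScalarTower R (k ⊗[R] A) (k ⊗[R] B) := .to₁₃₄ _ A _ _
  rw [← Algebra.IsPushout.comp_iff R _ k]
  infer_instance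

set_option backward.defeqAttrib.useBackward true in
set_option backward.isDefEq.respectTransparency false in
attribute [local instance] Algebra.TensorProduct.rightAlgebra in
theorem formallySmooth_of_flat_of_tensor_aux [IsLocalRing S] [Module.Flat R S]
    (hk : Function.Surjective (Algebra.TensorProduct.includeRight : S →ₐ[R] k ⊗[R] S))
    [Nontrivial (k ⊗[R] S)]
    (hsm : letI := tensorAlgebra R k A S; Algebra.FormallySmooth (k ⊗[R] A) (k ⊗[R] S))
    [Algebra.FormallySmooth A P] [Module.Free P Ω[P⁄A]] [Module.Finite P Ω[P⁄A]]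
    (h₁ : Function.Surjective (algebraMap P S)) (h₂ : (RingHom.ker (algebraMap P S)).FG) :
    Algebra.FormallySmooth A S := by
  let Ap := k ⊗[R] A
  let Sp := k ⊗[R] S
  let Pp := k ⊗[R] P
  let φ : Pp →ₐ[k] Sp := Algebra.TensorProduct.map (.id _ _) (IsScalarTower.toAlgHom _ _ _)
  let _ : Algebra Ap Sp := tensorAlgebra R k A S
  let _ : Algebra Ap Pp := tensorAlgebra R k A P
  let _ : Algebra Pp Sp := tensorAlgebra R k P S
  have : IsLocalRing Sp :=
    IsLocalRing.of_surjective' (Algebra.TensorProduct.includeRight : S →ₐ[R] k ⊗[R] S).toRingHom hk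
  let K := 𝓀[Sp]
  let _ : Algebra A Pp := .compHom _ (algebraMap A P)
  let _ : Algebra A Sp := .compHom _ (algebraMap A S)
  let _ : Algebra P Sp := .compHom _ (algebraMap P S)
  have : IsScalarTower A Ap Pp := .of_algebraMap_eq fun a ↦ by
    change (1 : k) ⊗ₜ[R] algebraMap A P a = algebraMap Ap Pp ((1 : k) ⊗ₜ[R] a)
    rw [tensorAlgebra_algebraMap_tmul]
  have : IsScalarTower A P Pp := .of_algebraMap_eq' rfl
  have : IsScalarTower k Ap Pp := .of_algebraMap_eq fun a ↦ by
    change a ⊗ₜ[R] (1 : P) = algebraMap Ap Pp (a ⊗ₜ[R] (1 : A))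
    rw [tensorAlgebra_algebraMap_tmul, map_one]
  have : IsScalarTower k Pp Sp := .of_algebraMap_eq fun a ↦ by
    change a ⊗ₜ[R] (1 : S) = algebraMap Pp Sp (a ⊗ₜ[R] (1 : P))
    rw [tensorAlgebra_algebraMap_tmul, map_one]
  have : IsScalarTower Ap Pp Sp := isScalarTower_tensorAlgebra R k
  have : IsScalarTower P S Sp := .of_algebraMap_eq' rfl
  have : IsScalarTower P Pp Sp := .of_algebraMap_eq fun a ↦ by
    change (1 : k) ⊗ₜ[R] algebraMap P S a = algebraMap Pp Sp ((1 : k) ⊗ₜ[R] a)
    rw [tensorAlgebra_algebraMap_tmul]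
  have : IsScalarTower P S K := .to₁₂₄ _ _ Sp _
  have : IsScalarTower P Pp K := .to₁₂₄ _ _ Sp _
  have : Algebra.IsPushout A Ap P Pp := (isPushout_tensor R k A P).symm
  have : Algebra.FormallySmooth Ap Pp := .of_equiv (Algebra.IsPushout.equiv A Ap P Pp)
  let e₀ : Ω[Pp⁄Ap] ≃ₗ[Pp] Pp ⊗[P] Ω[P⁄A] :=
    (KaehlerDifferential.tensorKaehlerEquiv A Ap P Pp).symm
  have : Module.Free Pp Ω[Pp⁄Ap] := .of_equiv e₀.symm
  have : Module.Finite Pp Ω[Pp⁄Ap] := .of_surjective e₀.symm.toLinearMap e₀.symm.surjective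
  let e₁ : RingHom.ker φ ≃ₗ[Pp] Pp ⊗[P] RingHom.ker (algebraMap P S) :=
    Algebra.kerTensorProductMapIdToAlgHomEquiv _ _ _ _ h₁
  have h₁' : Function.Surjective φ := LinearMap.lTensor_surjective _ h₁
  have h₂' : (RingHom.ker φ).FG := by
    suffices Module.Finite Pp (RingHom.ker φ) from (Submodule.fg_top _).mp this.1
    have : Module.Finite P (RingHom.ker (algebraMap P S)) := ⟨(Submodule.fg_top _).mpr h₂⟩
    exact .equiv e₁.symm
  have h₃ : 𝓂[S] ≤ RingHom.ker (algebraMap S K) := by
    intro x hx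
    have hloc : IsLocalHom (Algebra.TensorProduct.includeRight : S →ₐ[R] k ⊗[R] S).toRingHom :=
      IsLocalHom.of_surjective _ hk
    rw [RingHom.mem_ker, IsScalarTower.algebraMap_apply S Sp K, IsLocalRing.ResidueField.algebraMap_eq,
      IsLocalRing.residue_eq_zero_iff]
    intro hu
    exact hx (hloc.map_nonunit x hu)
  rw [Algebra.FormallySmooth.iff_injective_cotangentComplexBaseChange (R := A) P K h₁ h₂ h₃]
  have := (Algebra.FormallySmooth.iff_injective_cotangentComplexBaseChange_residueField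
    (R := Ap) (S := Sp) Pp h₁' h₂').mp hsm
  let eᵣ : K ⊗[Pp] Ω[Pp⁄Ap] ≃ₗ[S] K ⊗[P] Ω[P⁄A] :=
    (AlgebraTensorModule.congr (.refl K _) e₀).restrictScalars S ≪≫ₗ
      (AlgebraTensorModule.cancelBaseChange P Pp Sp K Ω[P⁄A]).restrictScalars S
  let eₗ : K ⊗[Pp] RingHom.ker φ ≃ₗ[S] K ⊗[P] RingHom.ker (algebraMap P S) :=
    (AlgebraTensorModule.congr (.refl K K) e₁).restrictScalars S ≪≫ₗ
      (AlgebraTensorModule.cancelBaseChange P Pp Sp K _).restrictScalars S
  convert! (eᵣ.injective.comp this).comp eₗ.symm.injective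
  ext x
  dsimp
  induction x with
  | zero => simp only [LinearEquiv.map_zero, LinearMap.map_zero]
  | add x y _ _ => simp only [LinearEquiv.map_add, LinearMap.map_add, *]
  | tmul x y =>
  dsimp [eₗ, eᵣ, e₁, KaehlerDifferential.cotangentComplexBaseChange,
    Algebra.TensorProduct.one_def, Pp, smul_tmul']
  rw [Algebra.kerTensorProductMapIdToAlgHomEquiv_symm_apply]
  have key : (KaehlerDifferential.tensorKaehlerEquiv A Ap P Pp).symm
      (KaehlerDifferential.D Ap Pp (1 ⊗ₜ[R] (y : P))) =
      1 ⊗ₜ[P] KaehlerDifferential.D A P (y : P) := by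
    rw [LinearEquiv.symm_apply_eq, KaehlerDifferential.tensorKaehlerEquiv_tmul_D, one_smul]
    rfl
  simp [e₀, Pp, key]


section loc

variable {R k}
variable {P₀ : Type*} [CommRing P₀] [Algebra A P₀] [Algebra P₀ S] [IsScalarTower A P₀ S]

include P₀ in
theorem formallySmooth_of_flat_of_tensor [IsLocalRing S] [Module.Flat R S]
    (hk : Function.Surjective (Algebra.TensorProduct.includeRight : S →ₐ[R] k ⊗[R] S))
    [Nontrivial (k ⊗[R] S)]
    (hsm : letI := tensorAlgebra R k A S; Algebra.FormallySmooth (k ⊗[R] A) (k ⊗[R] S))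
    (M : Submonoid P₀) [IsLocalization M S] [Algebra.FinitePresentation A P₀] :
    Algebra.FormallySmooth A S := by
  obtain ⟨n, f₀, hf₀⟩ := Algebra.FiniteType.iff_quotient_mvPolynomial''.mp
    (inferInstance : Algebra.FiniteType A P₀)
  let M' := M.comap f₀
  let P' := Localization M'
  let fP : P' →ₐ[A] S := IsLocalization.liftAlgHom (M := M')
      (f := (IsScalarTower.toAlgHom A P₀ S).comp f₀) fun x ↦ by
    simpa using IsLocalization.map_units (M := M) _ ⟨f₀ x.1, x.2⟩
  have hf₁ : Function.Surjective fP := by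
    intro x
    obtain ⟨x, ⟨s, hs⟩, rfl⟩ := IsLocalization.exists_mk'_eq M x
    obtain ⟨x, rfl⟩ := hf₀ x
    obtain ⟨s, rfl⟩ := hf₀ s
    refine ⟨IsLocalization.mk' (M := M') _ x ⟨s, hs⟩, ?_⟩
    simp [fP, IsLocalization.lift_mk', Units.mul_inv_eq_iff_eq_mul, IsUnit.liftRight]
  have hfP : (RingHom.ker fP).FG := by
    have := Algebra.FinitePresentation.ker_fG_of_surjective _ hf₀
    convert! this.map (algebraMap _ P')
    refine le_antisymm ?_ (Ideal.map_le_iff_le_comap.mpr fun x hx ↦ by simp_all [fP])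
    intro x hx
    obtain ⟨x, s, rfl⟩ := IsLocalization.exists_mk'_eq M' x
    obtain ⟨a, ha, e⟩ : ∃ a ∈ M, a * f₀ x = 0 := by
      simpa [fP, IsLocalization.lift_mk', IsLocalization.map_eq_zero_iff M] using hx
    obtain ⟨a, rfl⟩ := hf₀ a
    rw [IsLocalization.mk'_mem_map_algebraMap_iff]
    exact ⟨a, ha, by simpa⟩
  algebraize [fP.toRingHom]
  have : IsScalarTower A P' S := .of_algebraMap_eq' fP.comp_algebraMap.symm
  have : IsScalarTower R A P' := .to₁₂₄ _ _ (MvPolynomial (Fin n) A) _
  have : IsScalarTower R P' S := .to₁₃₄ _ A _ _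
  have : Algebra.FormallyEtale (MvPolynomial (Fin n) A) P' := .of_isLocalization M'
  have : Algebra.FormallySmooth A P' := .comp _ (MvPolynomial (Fin n) A) _
  have : Module.Free P' Ω[P'⁄A] :=
    .of_equiv (KaehlerDifferential.tensorKaehlerEquivOfFormallyEtale A (MvPolynomial (Fin n) A) P')
  exact formallySmooth_of_flat_of_tensor_aux R k (A := A) (P := P') (S := S) hk hsm hf₁ hfP

end loc


section atPrime

variable {R k : Type*} [CommRing R] [CommRing k] [Algebra R k]
variable {A B : Type*} [CommRing A] [CommRing B] [Algebra R A] [Algebra R B] [Algebra A B]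
  [IsScalarTower R A B]

theorem isSmoothAt_of_flat_of_tensor [Algebra.FinitePresentation A B]
    (q : Ideal B) [q.IsPrime] [Module.Flat R (Localization.AtPrime q)]
    (hk : Function.Surjective (Algebra.TensorProduct.includeRight :
      Localization.AtPrime q →ₐ[R] k ⊗[R] Localization.AtPrime q))
    [Nontrivial (k ⊗[R] Localization.AtPrime q)]
    (hsm : letI := tensorAlgebra R k A (Localization.AtPrime q)
      Algebra.FormallySmooth (k ⊗[R] A) (k ⊗[R] Localization.AtPrime q)) :
    Algebra.IsSmoothAt A q :=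
  formallySmooth_of_flat_of_tensor (R := R) (k := k) (A := A) (S := Localization.AtPrime q)
    (P₀ := B) hk hsm q.primeCompl

/-- Every element of `k ⊗[R] M` is, up to a unit coming from `R ∖ p`, of the form `1 ⊗ m`. -/
theorem exists_smul_eq_one_tmul (p : Ideal R) [p.IsPrime]
    (hk2 : ∀ c : k, ∃ t ∉ p, ∃ r, algebraMap R k t * c = algebraMap R k r)
    (M : Type*) [AddCommGroup M] [Module R M] (x : k ⊗[R] M) :
    ∃ t ∉ p, ∃ m : M, algebraMap R k t • x = (1 : k) ⊗ₜ[R] m := by
  induction x using TensorProduct.induction_on with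
  | zero => exact ⟨1, by simpa using p.ne_top_iff_one.mp (Ideal.IsPrime.ne_top ‹_›), 0, by simp⟩
  | tmul c m =>
    obtain ⟨t, ht, r, hr⟩ := hk2 c
    refine ⟨t, ht, r • m, ?_⟩
    rw [TensorProduct.smul_tmul', smul_eq_mul, hr, Algebra.algebraMap_eq_smul_one,
      TensorProduct.smul_tmul]
  | add x y hx hy =>
    obtain ⟨t, ht, m, hm⟩ := hx
    obtain ⟨t', ht', m', hm'⟩ := hy
    refine ⟨t * t', ‹p.IsPrime›.mul_notMem ht ht', t' • m + t • m', ?_⟩
    have e1 : (algebraMap R k t * algebraMap R k t') • x = (1 : k) ⊗ₜ[R] (t' • m) := by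
      rw [mul_comm, mul_smul, hm, algebraMap_smul, TensorProduct.tmul_smul]
    have e2 : (algebraMap R k t * algebraMap R k t') • y = (1 : k) ⊗ₜ[R] (t • m') := by
      rw [mul_smul, hm', algebraMap_smul, TensorProduct.tmul_smul]
    rw [smul_add, map_mul, e1, e2, TensorProduct.tmul_add]

attribute [local instance] Algebra.TensorProduct.rightAlgebra in
theorem mem_smoothLocus_of_flat_of_tensor [Algebra.FinitePresentation A B]
    (p : Ideal R) [p.IsPrime]
    (hk1 : ∀ t ∉ p, IsUnit (algebraMap R k t))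
    (hk2 : ∀ c : k, ∃ t ∉ p, ∃ r, algebraMap R k t * c = algebraMap R k r)
    (q' : PrimeSpectrum (k ⊗[R] B))
    (hqp : (q'.asIdeal.comap (algebraMap B (k ⊗[R] B))).comap (algebraMap R B) ≤ p)
    [Module.Flat R (Localization.AtPrime (q'.asIdeal.comap (algebraMap B (k ⊗[R] B))))]
    (hsm : letI := tensorAlgebra R k A B; q' ∈ Algebra.smoothLocus (k ⊗[R] A) (k ⊗[R] B)) :
    PrimeSpectrum.comap (algebraMap B (k ⊗[R] B)) q' ∈ Algebra.smoothLocus A B := by
  set q : Ideal B := q'.asIdeal.comap (algebraMap B (k ⊗[R] B)) with hq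
  let S := Localization.AtPrime q
  let T := k ⊗[R] S
  let _ : Algebra (k ⊗[R] A) (k ⊗[R] B) := tensorAlgebra R k A B
  let _ : Algebra (k ⊗[R] B) T := tensorAlgebra R k B S
  let _ : Algebra (k ⊗[R] A) T := tensorAlgebra R k A S
  have : IsScalarTower (k ⊗[R] A) (k ⊗[R] B) T := isScalarTower_tensorAlgebra R k
  -- elements outside `p` act invertibly on `S`
  have hunitS : ∀ t ∉ p, IsUnit (algebraMap R S t) := by
    intro t ht
    rw [IsScalarTower.algebraMap_apply R B S]
    exact IsLocalization.map_units S (⟨algebraMap R B t, fun h ↦ ht (hqp h)⟩ : q.primeCompl)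
  -- surjectivity of `S → k ⊗ S`
  have hk : Function.Surjective (Algebra.TensorProduct.includeRight : S →ₐ[R] k ⊗[R] S) := by
    intro z
    obtain ⟨t, ht, s, hs⟩ := exists_smul_eq_one_tmul p hk2 S z
    obtain ⟨u, hu⟩ := hunitS t ht
    refine ⟨(↑u⁻¹ : S) * s, ?_⟩
    rw [← (hk1 t ht).smul_left_cancel, hs, Algebra.TensorProduct.includeRight_apply, algebraMap_smul,
      ← TensorProduct.tmul_smul, Algebra.smul_def, ← hu, ← mul_assoc, Units.mul_inv, one_mul]
  -- `T` is the localization of `k ⊗ B` at the image of `q.primeCompl`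
  have hloc : IsLocalization (q.primeCompl.map
      (Algebra.TensorProduct.includeRight (R := R) (A := k))) T :=
    IsLocalization.tensorProduct_tensorProduct_right R k q.primeCompl S (by ext; rfl)
  have hle : q.primeCompl.map (Algebra.TensorProduct.includeRight (R := R) (A := k)) ≤
      q'.asIdeal.primeCompl := by
    rintro _ ⟨b, hb, rfl⟩
    exact hb
  have : Nontrivial T := by
    by_contra hT
    rw [not_nontrivial_iff_subsingleton] at hT
    obtain ⟨c, hc⟩ := (IsLocalization.eq_iff_exists (q.primeCompl.map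
      (Algebra.TensorProduct.includeRight (R := R) (A := k))) T).1
      (Subsingleton.elim (algebraMap (k ⊗[R] B) T 1) (algebraMap (k ⊗[R] B) T 0))
    rw [mul_one, mul_zero] at hc
    exact hle c.2 (hc ▸ q'.asIdeal.zero_mem)
  have : IsLocalization.AtPrime T q'.asIdeal := by
    refine IsLocalization.of_le _ _ hle ?_
    intro y hy
    obtain ⟨t, ht, b, hb⟩ := exists_smul_eq_one_tmul p hk2 B y
    have hbq : b ∈ q.primeCompl := by
      intro hbq
      have h1 : algebraMap R k t • y ∈ q'.asIdeal := by rw [hb]; exact hbq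
      rw [Algebra.smul_def] at h1
      rcases q'.2.mem_or_mem h1 with h2 | h2
      · exact q'.2.ne_top (Ideal.eq_top_of_isUnit_mem _ h2 ((hk1 t ht).map _))
      · exact hy h2
    have h3 : IsUnit (algebraMap (k ⊗[R] B) T (algebraMap R k t • y)) := by
      rw [hb]
      exact IsLocalization.map_units T (⟨_, ⟨b, hbq, rfl⟩⟩ : q.primeCompl.map
        (Algebra.TensorProduct.includeRight (R := R) (A := k)))
    rw [Algebra.smul_def, map_mul] at h3
    exact isUnit_of_mul_isUnit_right h3
  let e : Localization.AtPrime q'.asIdeal ≃ₐ[k ⊗[R] B] T :=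
    IsLocalization.algEquiv q'.asIdeal.primeCompl _ _
  have hsm' : Algebra.FormallySmooth (k ⊗[R] A) T := by
    have : Algebra.FormallySmooth (k ⊗[R] A) (Localization.AtPrime q'.asIdeal) := hsm
    exact .of_equiv (e.restrictScalars (k ⊗[R] A))
  exact isSmoothAt_of_flat_of_tensor (R := R) (k := k) q hk hsm'

end atPrime


section pushout

theorem mem_smoothLocus_iff_of_algEquiv {S T B : Type*} [CommRing S] [CommRing T] [CommRing B]
    [Algebra S T] [Algebra S B] (e : T ≃ₐ[S] B) (q : PrimeSpectrum B) :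
    q ∈ Algebra.smoothLocus S B ↔
      PrimeSpectrum.comap (e : T →+* B) q ∈ Algebra.smoothLocus S T := by
  have H : Submonoid.map e (PrimeSpectrum.comap (e : T →+* B) q).asIdeal.primeCompl =
      q.asIdeal.primeCompl := by
    ext x
    constructor
    · rintro ⟨y, hy, rfl⟩
      exact hy
    · intro hx
      exact ⟨e.symm x, by simpa [Ideal.primeCompl] using hx, by simp⟩
  exact (Algebra.FormallySmooth.iff_of_equiv
    (IsLocalization.algEquivOfAlgEquiv
      (Localization.AtPrime (PrimeSpectrum.comap (e : T →+* B) q).asIdeal)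
      (Localization.AtPrime q.asIdeal) e H)).symm

variable {R k A B A' B' : Type*} [CommRing R] [CommRing k] [CommRing A] [CommRing B]
  [CommRing A'] [CommRing B']
  [Algebra R k] [Algebra R A] [Algebra R B] [Algebra A B] [IsScalarTower R A B]
  [Algebra R A'] [Algebra k A'] [Algebra A A'] [IsScalarTower R k A'] [IsScalarTower R A A']
  [Algebra.IsPushout R k A A']
  [Algebra A B'] [Algebra A' B'] [Algebra B B'] [IsScalarTower A A' B'] [IsScalarTower A B B']
  [Algebra.IsPushout A A' B B']

attribute [local instance] Algebra.TensorProduct.rightAlgebra in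
theorem mem_smoothLocus_of_flat_of_isPushout [Algebra.FinitePresentation A B]
    (p : Ideal R) [p.IsPrime]
    (hk1 : ∀ t ∉ p, IsUnit (algebraMap R k t))
    (hk2 : ∀ c : k, ∃ t ∉ p, ∃ r, algebraMap R k t * c = algebraMap R k r)
    (q' : PrimeSpectrum B')
    (hqp : (q'.asIdeal.comap (algebraMap B B')).comap (algebraMap R B) ≤ p)
    (hfl : Module.Flat R (Localization.AtPrime (q'.asIdeal.comap (algebraMap B B'))))
    (hsm : q' ∈ Algebra.smoothLocus A' B') :
    PrimeSpectrum.comap (algebraMap B B') q' ∈ Algebra.smoothLocus A B := by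
  let _ : Algebra R B' := Algebra.compHom B' (algebraMap R B)
  let _ : Algebra k B' := Algebra.compHom B' (algebraMap k A')
  have : IsScalarTower R B B' := .of_algebraMap_eq' rfl
  have : IsScalarTower k A' B' := .of_algebraMap_eq' rfl
  have : IsScalarTower R A B' := .of_algebraMap_eq fun r ↦ by
    rw [IsScalarTower.algebraMap_apply R B B', IsScalarTower.algebraMap_apply R A B,
      ← IsScalarTower.algebraMap_apply A B B']
  have : IsScalarTower R A' B' := .of_algebraMap_eq fun r ↦ by
    rw [IsScalarTower.algebraMap_apply R A B', IsScalarTower.algebraMap_apply A A' B',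
      ← IsScalarTower.algebraMap_apply R A A']
  have : IsScalarTower R k B' := .of_algebraMap_eq fun r ↦ by
    rw [IsScalarTower.algebraMap_apply R A' B', IsScalarTower.algebraMap_apply R k A',
      ← IsScalarTower.algebraMap_apply k A' B']
  have hp1 : Algebra.IsPushout R A k A' := Algebra.IsPushout.symm inferInstance
  have hp2 : Algebra.IsPushout A B A' B' := Algebra.IsPushout.symm inferInstance
  have hp3 : Algebra.IsPushout R k B B' :=
    Algebra.IsPushout.symm ((Algebra.IsPushout.comp_iff R A k A' (T := B) (T' := B')).2 hp2)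
  let eA : k ⊗[R] A ≃ₐ[k] A' := Algebra.IsPushout.equiv R k A A'
  let eB : k ⊗[R] B ≃ₐ[k] B' := Algebra.IsPushout.equiv R k B B'
  let _ : Algebra (k ⊗[R] A) (k ⊗[R] B) := tensorAlgebra R k A B
  let _ : Algebra (k ⊗[R] A) A' := (eA : k ⊗[R] A →+* A').toAlgebra
  let _ : Algebra (k ⊗[R] A) B' := ((algebraMap A' B').comp (eA : k ⊗[R] A →+* A')).toAlgebra
  have : IsScalarTower (k ⊗[R] A) A' B' := .of_algebraMap_eq' rfl
  have hcompat : ∀ z : k ⊗[R] A,
      eB (algebraMap (k ⊗[R] A) (k ⊗[R] B) z) = algebraMap A' B' (eA z) := by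
    intro z
    induction z using TensorProduct.induction_on with
    | zero => simp
    | add x y hx hy => simp only [map_add, hx, hy]
    | tmul c a =>
      rw [tensorAlgebra_algebraMap_tmul]
      simp only [eA, eB, Algebra.IsPushout.equiv_tmul, map_mul]
      rw [← IsScalarTower.algebraMap_apply k A' B', ← IsScalarTower.algebraMap_apply A B B',
        ← IsScalarTower.algebraMap_apply A A' B']
  let eB' : k ⊗[R] B ≃ₐ[k ⊗[R] A] B' := { eB.toRingEquiv with commutes' := hcompat }
  have hb : q' ∈ Algebra.smoothLocus (k ⊗[R] A) B' := by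
    show Algebra.FormallySmooth (k ⊗[R] A) (Localization.AtPrime q'.asIdeal)
    have h1 : Algebra.FormallySmooth A' (Localization.AtPrime q'.asIdeal) := hsm
    have h2 : Algebra.FormallySmooth (k ⊗[R] A) A' := by
      rw [← RingHom.formallySmooth_algebraMap]
      exact RingHom.FormallySmooth.of_bijective eA.bijective
    have : IsScalarTower (k ⊗[R] A) A' (Localization.AtPrime q'.asIdeal) := .to₁₂₄ _ _ B' _
    exact .comp _ A' _
  have hc := (mem_smoothLocus_iff_of_algEquiv eB' q').1 hb
  set q'' := PrimeSpectrum.comap (eB' : k ⊗[R] B →+* B') q' with hq''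
  have hI : q''.asIdeal.comap (algebraMap B (k ⊗[R] B)) = q'.asIdeal.comap (algebraMap B B') := by
    ext b
    simp only [Ideal.mem_comap, q'', PrimeSpectrum.comap_asIdeal]
    have : (eB' : k ⊗[R] B →+* B') (algebraMap B (k ⊗[R] B) b) = algebraMap B B' b := by
      show eB ((1 : k) ⊗ₜ[R] b) = _
      simp [eB, Algebra.IsPushout.equiv_tmul]
    rw [this]
  have key : ∀ (I J : Ideal B) [I.IsPrime] [J.IsPrime], I = J →
      Module.Flat R (Localization.AtPrime J) → Module.Flat R (Localization.AtPrime I) := by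
    intro I J _ _ h hJ
    subst h
    exact hJ
  have hflat : Module.Flat R
      (Localization.AtPrime (q''.asIdeal.comap (algebraMap B (k ⊗[R] B)))) :=
    key _ _ hI hfl
  have hres := mem_smoothLocus_of_flat_of_tensor (R := R) (k := k) (A := A) (B := B) p hk1 hk2 q''
    (by rw [hI]; exact hqp) hc
  convert hres using 1
  ext1
  exact hI.symm

end pushout


end Groth.Agent.Lib.SmoothFibreRel
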