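import Mathlib

/-!
# Lifting points of smooth algebras over henselian pairs: algebraic core (helper22)

* `exists_conormal_sections`: for a surjection `φ : A[x₁..xₙ] → B` onto a formally smooth `A`-algebra
  there are `g_j ∈ ker φ` with `h - Σ_j ∂_j h * g_j ∈ (ker φ)^2` for all `h ∈ ker φ`.
-/

set_option autoImplicit false
universe u

namespace Groth.Agent.Lib.SmoothLift22

open MvPolynomial KaehlerDifferential TensorProduct

section star

variable {A : Type u} [CommRing A] {n : ℕ} {B : Type u} [CommRing B] [Algebra A B]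

/-- abstract form, for an algebra structure `P → B` -/
theorem exists_conormal_sections_aux [Algebra.FormallySmooth A B]
    [Algebra (MvPolynomial (Fin n) A) B] [IsScalarTower A (MvPolynomial (Fin n) A) B]
    (hf : Function.Surjective (algebraMap (MvPolynomial (Fin n) A) B)) :
    ∃ g : Fin n → MvPolynomial (Fin n) A,
      (∀ j, g j ∈ RingHom.ker (algebraMap (MvPolynomial (Fin n) A) B)) ∧
      ∀ h ∈ RingHom.ker (algebraMap (MvPolynomial (Fin n) A) B),
        h - ∑ j, pderiv j h * g j ∈ (RingHom.ker (algebraMap (MvPolynomial (Fin n) A) B)) ^ 2 := by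
  classical
  obtain ⟨l, hl⟩ := (Algebra.FormallySmooth.iff_split_injection (R := A)
    (P := MvPolynomial (Fin n) A) (A := B) hf).mp inferInstance
  have hsurj := Ideal.toCotangent_surjective
    (RingHom.ker (algebraMap (MvPolynomial (Fin n) A) B))
  choose g hg using fun j : Fin n =>
    hsurj (l ((1 : B) ⊗ₜ[MvPolynomial (Fin n) A] D A (MvPolynomial (Fin n) A) (X j)))
  refine ⟨fun j => (g j : MvPolynomial (Fin n) A), fun j => (g j).2, ?_⟩
  intro h hh
  have hD : D A (MvPolynomial (Fin n) A) h =
      ∑ j, pderiv j h • D A (MvPolynomial (Fin n) A) (X j) := by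
    have := (mvPolynomialBasis A (Fin n)).sum_repr (D A (MvPolynomial (Fin n) A) h)
    conv_lhs => rw [← this]
    refine Finset.sum_congr rfl fun j _ => ?_
    rw [mvPolynomialBasis_repr_apply, mvPolynomialBasis_apply]
  have h1 : Ideal.toCotangent _ ⟨h, hh⟩ =
      ∑ j, pderiv j h • Ideal.toCotangent _ (g j) := by
    have h2 := LinearMap.congr_fun hl (Ideal.toCotangent _ ⟨h, hh⟩)
    rw [LinearMap.comp_apply, kerCotangentToTensor_toCotangent, LinearMap.id_apply] at h2
    rw [← h2]
    change l (1 ⊗ₜ[MvPolynomial (Fin n) A] D A (MvPolynomial (Fin n) A) h) = _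
    rw [hD, TensorProduct.tmul_sum, map_sum]
    refine Finset.sum_congr rfl fun j _ => ?_
    rw [TensorProduct.tmul_smul, map_smul, hg j]
  have h3 : Ideal.toCotangent _ ⟨h, hh⟩ =
      Ideal.toCotangent (RingHom.ker (algebraMap (MvPolynomial (Fin n) A) B))
        ⟨∑ j, pderiv j h * g j,
        Ideal.sum_mem _ fun j _ => Ideal.mul_mem_left _ _ (g j).2⟩ := by
    rw [h1]
    have : (⟨∑ j, pderiv j h * g j,
        Ideal.sum_mem _ fun j _ => Ideal.mul_mem_left _ _ (g j).2⟩ :
        RingHom.ker (algebraMap (MvPolynomial (Fin n) A) B)) = ∑ j, pderiv j h • g j := by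
      ext
      simp
    rw [this, map_sum]
    refine Finset.sum_congr rfl fun j _ => ?_
    rw [map_smul]
  have h4 := (Ideal.toCotangent_eq _).mp h3
  simpa using h4

theorem exists_conormal_sections [Algebra.FormallySmooth A B]
    (φ : MvPolynomial (Fin n) A →ₐ[A] B) (hφ : Function.Surjective φ) :
    ∃ g : Fin n → MvPolynomial (Fin n) A, (∀ j, g j ∈ RingHom.ker φ) ∧
      ∀ h ∈ RingHom.ker φ, h - ∑ j, pderiv j h * g j ∈ (RingHom.ker φ) ^ 2 := by
  letI : Algebra (MvPolynomial (Fin n) A) B := φ.toRingHom.toAlgebra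
  haveI : IsScalarTower A (MvPolynomial (Fin n) A) B :=
    IsScalarTower.of_algebraMap_eq (fun a => (φ.commutes a).symm)
  exact exists_conormal_sections_aux (A := A) (n := n) (B := B) hφ

end star

end Groth.Agent.Lib.SmoothLift22
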