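import Groth.Agent.Lib.SmoothLift22b
import Groth.Agent.Lib.HFP

/-!
# Sections of smooth algebras lift to étale neighbourhoods (helper22, Stacks 07M7)

`exists_nbhd_lift`: `I ⊆ A` any ideal, `B` smooth over `A`, `σ : B → A/I`. Then there is an étale
neighbourhood `A'` of `(A, I)` and `τ : B → A'` lifting `σ`.
-/

universe u

namespace Groth.Agent.Lib.SmoothNbhdLift22

open TensorProduct Groth.Agent.Lib.PairEtaleNbhd Groth.Agent.Lib.PairHenselization
  Groth.Agent.Lib.HFP Groth.Agent.Lib.SmoothLift22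

theorem exists_nbhd_lift {A B : Type u} [CommRing A] [CommRing B] [Algebra A B]
    [Algebra.Smooth A B] (I : Ideal A) (σ : B →ₐ[A] A ⧸ I) :
    ∃ (A' : Type u) (_ : CommRing A') (_ : Algebra A A'), IsNbhd I A' ∧
      ∃ τ : B →ₐ[A] A', ∀ b : B,
        Ideal.Quotient.mk (I.map (algebraMap A A')) (τ b) =
          Ideal.quotientMap (I.map (algebraMap A A')) (algebraMap A A') Ideal.le_comap_map
            (σ b) := by
  classical
  let H := Hzn2 A I
  have hH : Hens2.IsPairHenselization A I H := isPairHenselization A I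
  have hHens : HenselianRing H (I.map (algebraMap A H)) := hH.1
  have hq : QBij I H := qbij_of_isPairHenselization hH
  let ι : A ⧸ I →ₐ[A] H ⧸ I.map (algebraMap A H) :=
    Ideal.quotientMapₐ (I.map (algebraMap A H)) (Algebra.ofId A H) Ideal.le_comap_map
  let σH : H ⊗[A] B →ₐ[H] H ⧸ I.map (algebraMap A H) :=
    Algebra.TensorProduct.lift (Algebra.ofId H _) (ι.comp σ) (fun _ _ => Commute.all _ _)
  obtain ⟨τH, hτH⟩ := exists_lift_of_smooth (I.map (algebraMap A H)) σH
  let ρ : B →ₐ[A] H := (τH.restrictScalars A).comp Algebra.TensorProduct.includeRight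
  have hρ : ∀ b, Ideal.Quotient.mk (I.map (algebraMap A H)) (ρ b) = ι (σ b) := by
    intro b
    have := congr($hτH ((1 : H) ⊗ₜ[A] b))
    simpa [σH, ρ] using this
  obtain ⟨A', _, _, hA', φ, ρ', h1, h2⟩ := exists_factor (k := A) hH ρ
  let τ : B →ₐ[A] A' := { ρ' with commutes' := fun a => congr($h1 a) }
  refine ⟨A', inferInstance, inferInstance, hA', τ, fun b => ?_⟩
  -- compare in `H / IH`
  let φb : A' ⧸ I.map (algebraMap A A') →+* H ⧸ I.map (algebraMap A H) :=
    Ideal.quotientMap _ (φ : A' →+* H) (by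
      rw [← Ideal.map_le_iff_le_comap, Ideal.map_map]
      have : (φ : A' →+* H).comp (algebraMap A A') = algebraMap A H := φ.comp_algebraMap
      rw [this])
  have hφb : ∀ x : A ⧸ I, φb (Ideal.quotientMap (I.map (algebraMap A A')) (algebraMap A A')
      Ideal.le_comap_map x) = ι x := by
    intro x
    obtain ⟨a, rfl⟩ := Ideal.Quotient.mk_surjective x
    simp [φb, ι]
  have hinj : Function.Injective φb := by
    intro x y hxy
    obtain ⟨x', rfl⟩ := hA'.qbij.2 x
    obtain ⟨y', rfl⟩ := hA'.qbij.2 y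
    rw [hφb, hφb] at hxy
    rw [hq.1 hxy]
  apply hinj
  rw [hφb, ← hρ]
  have : φ (τ b) = ρ b := congr($h2 b)
  simp [φb, this]

end Groth.Agent.Lib.SmoothNbhdLift22
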