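import Mathlib.RingTheory.Kaehler.JacobiZariski
import Mathlib.RingTheory.Smooth.StandardSmoothOfFree
import Mathlib.RingTheory.Kaehler.Polynomial
import Mathlib.Algebra.Exact.Basic

/-!
# Smooth retracts (helper22), part a

* `formallySmooth_of_retraction`: `R → S → T` with `T` formally smooth over `R` and a retraction of
  `T ⊗[S] Ω[S⁄R] → Ω[T⁄R]`; then `T` is formally smooth over `S`.
* `isStandardSmooth_mvPolynomial`: polynomial rings in finitely many variables are standard smooth.
-/

set_option autoImplicit false
universe u

namespace Groth.Agent.Lib.SmoothRetract22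

open TensorProduct KaehlerDifferential

theorem formallySmooth_of_retraction (R S T : Type u) [CommRing R] [CommRing S] [CommRing T]
    [Algebra R S] [Algebra R T] [Algebra S T] [IsScalarTower R S T] [Algebra.FormallySmooth R T]
    (v : Ω[T⁄R] →ₗ[T] T ⊗[S] Ω[S⁄R])
    (hv : v ∘ₗ KaehlerDifferential.mapBaseChange R S T = LinearMap.id) :
    Algebra.FormallySmooth S T := by
  have hinj : Function.Injective (KaehlerDifferential.mapBaseChange R S T) := by
    intro x y hxy
    have := congr(v $hxy)
    have hx := congr($hv x)
    have hy := congr($hv y)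
    simp only [LinearMap.comp_apply, LinearMap.id_apply] at hx hy
    rw [hx, hy] at this
    exact this
  refine ⟨?_, ?_⟩
  · -- projectivity
    have hex := KaehlerDifferential.exact_mapBaseChange_map R S T
    have hsurj : Function.Surjective (KaehlerDifferential.map R S T T) :=
      KaehlerDifferential.map_surjective R S T
    obtain ⟨-, l, hl⟩ := ((Function.Exact.split_tfae' hex).out 1 0 rfl rfl).mp ⟨hsurj, v, hv⟩
    exact Module.Projective.of_split l (KaehlerDifferential.map R S T T) hl
  · -- vanishing of `H¹`
    refine ⟨fun x y => ?_⟩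
    suffices h0 : ∀ z : Algebra.H1Cotangent S T, z = 0 by rw [h0 x, h0 y]
    intro z
    have h1 : KaehlerDifferential.mapBaseChange R S T (Algebra.H1Cotangent.δ R S T z) = 0 :=
      (Algebra.H1Cotangent.exact_δ_mapBaseChange R S T _).mpr ⟨z, rfl⟩
    have h2 : Algebra.H1Cotangent.δ R S T z = 0 := hinj (by rw [h1, map_zero])
    obtain ⟨y, rfl⟩ := (Algebra.H1Cotangent.exact_map_δ R S T z).mp h2
    rw [Subsingleton.elim y 0, map_zero]

theorem isStandardSmooth_mvPolynomial (R : Type u) [CommRing R] (n : ℕ) :
    Algebra.IsStandardSmooth R (MvPolynomial (Fin n) R) := by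
  refine Algebra.IsStandardSmooth.of_basis_kaehlerDifferential
    (KaehlerDifferential.mvPolynomialBasis R (Fin n)) ?_
  rintro _ ⟨i, rfl⟩
  exact ⟨MvPolynomial.X i, (KaehlerDifferential.mvPolynomialBasis_apply R (Fin n) i).symm⟩

end Groth.Agent.Lib.SmoothRetract22
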