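import Groth.Agent.Lib.SmoothRetract22a
import Mathlib.RingTheory.Etale.Kaehler
import Mathlib.RingTheory.Nakayama
import Mathlib.RingTheory.OrzechProperty
import Mathlib.RingTheory.Finiteness.Projective

/-!
# Smooth retracts (helper22), part b

`R → A → B` with an `A`-algebra retraction `r : B → A`, `B` formally smooth over `R`, `A` of finite
type over `R`.  Then there is `g ∈ B` with `r g = 1` such that `B_g ⊗[A] Ω[A⁄R] → Ω[B_g⁄R]` has a
retraction; consequently `B_g` is formally smooth over `A`.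
-/

set_option autoImplicit false
universe u

namespace Groth.Agent.Lib.SmoothRetract22

open TensorProduct KaehlerDifferential

section

variable {R A B : Type u} [CommRing R] [CommRing A] [CommRing B] [Algebra R A] [Algebra R B]
  [Algebra A B] [IsScalarTower R A B]

/-- Step 1: an approximate retraction of `B ⊗[A] Ω[A⁄R] → Ω[B⁄R]`. -/
theorem exists_approx_retraction [Algebra.FormallySmooth R B] (r : B →ₐ[A] A) :
    ∃ v : Ω[B⁄R] →ₗ[B] B ⊗[A] Ω[A⁄R], ∀ m : B ⊗[A] Ω[A⁄R],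
      v (mapBaseChange R A B m) - m ∈
        (RingHom.ker r.toRingHom) • (⊤ : Submodule B (B ⊗[A] Ω[A⁄R])) := by
  set J : Ideal B := RingHom.ker r.toRingHom with hJdef
  set JM : Submodule B (B ⊗[A] Ω[A⁄R]) := J • ⊤ with hJM
  let q : B ⊗[A] Ω[A⁄R] →ₗ[B] (B ⊗[A] Ω[A⁄R]) ⧸ JM := JM.mkQ
  have hqJ : ∀ (b : B) (m : B ⊗[A] Ω[A⁄R]), b • q m = (algebraMap A B (r b)) • q m := by
    intro b m
    rw [← sub_eq_zero, ← sub_smul, ← map_smul]
    refine (Submodule.Quotient.mk_eq_zero JM).2 ?_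
    refine Submodule.smul_mem_smul ?_ Submodule.mem_top
    change r (b - algebraMap A B (r b)) = 0
    rw [map_sub, r.commutes]
    exact sub_self _
  have htm : ∀ (a : A) (ω : Ω[A⁄R]), ((1 : B) ⊗ₜ[A] (a • ω) : B ⊗[A] Ω[A⁄R]) =
      (algebraMap A B a) • ((1 : B) ⊗ₜ[A] ω) := by
    intro a ω
    rw [TensorProduct.tmul_smul, TensorProduct.smul_tmul', TensorProduct.smul_tmul', smul_eq_mul,
      mul_one, Algebra.smul_def, mul_one]
  -- the derivation `b ↦ q (1 ⊗ d (r b))`
  let Dbar : Derivation R B ((B ⊗[A] Ω[A⁄R]) ⧸ JM) :=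
    { toLinearMap := (q.restrictScalars R) ∘ₗ
        ((TensorProduct.mk A B Ω[A⁄R] 1).restrictScalars R) ∘ₗ (D R A).toLinearMap ∘ₗ
        (r.toLinearMap.restrictScalars R)
      map_one_eq_zero' := by
        change q ((1 : B) ⊗ₜ[A] (D R A (r 1))) = 0
        rw [map_one, Derivation.map_one_eq_zero, TensorProduct.tmul_zero, map_zero]
      leibniz' := fun b b' => by
        change q ((1 : B) ⊗ₜ[A] (D R A (r (b * b')))) =
          b • q ((1 : B) ⊗ₜ[A] (D R A (r b'))) + b' • q ((1 : B) ⊗ₜ[A] (D R A (r b)))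
        rw [map_mul, Derivation.leibniz, TensorProduct.tmul_add, htm, htm, map_add, map_smul,
          map_smul, hqJ b, hqJ b'] }
  have hDbar : ∀ b, Dbar b = q ((1 : B) ⊗ₜ[A] (D R A (r b))) := fun b => rfl
  let vbar : Ω[B⁄R] →ₗ[B] (B ⊗[A] Ω[A⁄R]) ⧸ JM := Dbar.liftKaehlerDifferential
  obtain ⟨v, hv⟩ := Module.projective_lifting_property q vbar (Submodule.mkQ_surjective _)
  refine ⟨v, ?_⟩
  have hv' : ∀ x, q (v x) = vbar x := fun x => congr($hv x)
  -- agreement on `1 ⊗ ω`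
  have h1 : ∀ ω : Ω[A⁄R], vbar (mapBaseChange R A B ((1 : B) ⊗ₜ[A] ω)) =
      q ((1 : B) ⊗ₜ[A] ω) := by
    intro ω
    have hω : ω ∈ Submodule.span A (Set.range (D R A)) := by
      rw [KaehlerDifferential.span_range_derivation]; trivial
    refine Submodule.span_induction ?_ ?_ ?_ ?_ hω
    · rintro _ ⟨a, rfl⟩
      rw [mapBaseChange_tmul, one_smul, KaehlerDifferential.map_D,
        Derivation.liftKaehlerDifferential_comp_D, hDbar, r.commutes]
      rfl
    · rw [TensorProduct.tmul_zero, map_zero, map_zero, map_zero]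
    · intro x y _ _ hx hy
      rw [TensorProduct.tmul_add, map_add, map_add, map_add, hx, hy]
    · intro a x _ hx
      rw [htm, map_smul, map_smul, map_smul, hx]
  intro m
  rw [← Submodule.Quotient.mk_eq_zero, Submodule.Quotient.mk_sub, sub_eq_zero]
  change q (v _) = q m
  rw [hv']
  induction m using TensorProduct.induction_on with
  | zero => rw [map_zero, map_zero, map_zero]
  | add x y hx hy => rw [map_add, map_add, map_add, hx, hy]
  | tmul b ω =>
    have hb : (b ⊗ₜ[A] ω : B ⊗[A] Ω[A⁄R]) = b • ((1 : B) ⊗ₜ[A] ω) := by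
      rw [TensorProduct.smul_tmul', smul_eq_mul, mul_one]
    rw [hb, map_smul, map_smul, map_smul, h1]

/-- functoriality of `KaehlerDifferential.map` along a tower -/
theorem map_map_tower {B' : Type u} [CommRing B'] [Algebra R B'] [Algebra A B'] [Algebra B B']
    [IsScalarTower R A B'] [IsScalarTower R B B'] [IsScalarTower A B B'] (ω : Ω[A⁄R]) :
    KaehlerDifferential.map R R B B' (KaehlerDifferential.map R R A B ω) =
      KaehlerDifferential.map R R A B' ω := by
  have hω : ω ∈ Submodule.span A (Set.range (D R A)) := by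
    rw [KaehlerDifferential.span_range_derivation]; trivial
  refine Submodule.span_induction ?_ ?_ ?_ ?_ hω
  · rintro _ ⟨a, rfl⟩
    rw [KaehlerDifferential.map_D, KaehlerDifferential.map_D, KaehlerDifferential.map_D,
      ← IsScalarTower.algebraMap_apply]
  · rw [map_zero, map_zero, map_zero]
  · intro x y _ _ hx hy
    rw [map_add, map_add, map_add, hx, hy]
  · intro a x _ hx
    have e1 : KaehlerDifferential.map R R A B (a • x) =
        algebraMap A B a • KaehlerDifferential.map R R A B x := by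
      rw [map_smul, algebraMap_smul]
    have e2 : KaehlerDifferential.map R R A B' (a • x) =
        algebraMap A B' a • KaehlerDifferential.map R R A B' x := by
      rw [map_smul, algebraMap_smul]
    rw [e1, e2, map_smul, hx, IsScalarTower.algebraMap_apply A B B', algebraMap_smul,
      algebraMap_smul, algebraMap_smul]

/-- Step 2: after inverting some `g` with `r g = 1` there is an honest retraction. -/
theorem exists_retraction_away [Algebra.FormallySmooth R B] [Algebra.FiniteType R A]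
    (r : B →ₐ[A] A) :
    ∃ g : B, r g = 1 ∧ ∃ v' : Ω[Localization.Away g⁄R] →ₗ[Localization.Away g]
        (Localization.Away g) ⊗[A] Ω[A⁄R],
      v' ∘ₗ mapBaseChange R A (Localization.Away g) = LinearMap.id := by
  obtain ⟨v, hv⟩ := exists_approx_retraction (R := R) r
  set J : Ideal B := RingHom.ker r.toRingHom with hJdef
  let T : B ⊗[A] Ω[A⁄R] →ₗ[B] B ⊗[A] Ω[A⁄R] := v ∘ₗ mapBaseChange R A B
  have hT : ∀ m, T m - m ∈ J • (⊤ : Submodule B (B ⊗[A] Ω[A⁄R])) := hv
  -- Nakayama on the cokernel of `T`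
  let N : Submodule B (B ⊗[A] Ω[A⁄R]) := LinearMap.range T
  have htop : (⊤ : Submodule B ((B ⊗[A] Ω[A⁄R]) ⧸ N)) ≤ J • ⊤ := by
    rintro c -
    obtain ⟨m, rfl⟩ := Submodule.Quotient.mk_surjective N c
    have h1 : Submodule.Quotient.mk (p := N) (T m) = 0 :=
      (Submodule.Quotient.mk_eq_zero N).2 ⟨m, rfl⟩
    have h2 : (Submodule.Quotient.mk m : (B ⊗[A] Ω[A⁄R]) ⧸ N) =
        - N.mkQ (T m - m) := by
      rw [map_sub, Submodule.mkQ_apply, Submodule.mkQ_apply, h1, zero_sub, neg_neg]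
    rw [h2]
    refine neg_mem ?_
    have h3 : N.mkQ (T m - m) ∈ Submodule.map N.mkQ (J • ⊤) := ⟨_, hT m, rfl⟩
    rw [Submodule.map_smul''] at h3
    exact Submodule.smul_mono le_rfl le_top h3
  obtain ⟨g, hg1, hg2⟩ := Submodule.exists_sub_one_mem_and_smul_eq_zero_of_fg_of_le_smul J
    (⊤ : Submodule B ((B ⊗[A] Ω[A⁄R]) ⧸ N)) (Module.Finite.fg_top) htop
  have hgN : ∀ m : B ⊗[A] Ω[A⁄R], ∃ m₁, T m₁ = g • m := by
    intro m
    have := hg2 (Submodule.Quotient.mk m) Submodule.mem_top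
    rw [← Submodule.Quotient.mk_smul, Submodule.Quotient.mk_eq_zero] at this
    exact this
  have hrg : r g = 1 := by
    have : r (g - 1) = 0 := hg1
    rw [map_sub, map_one, sub_eq_zero] at this
    exact this
  refine ⟨g, hrg, ?_⟩
  -- notation
  let B' := Localization.Away g
  have hgu : IsUnit (algebraMap B B' g) := IsLocalization.Away.algebraMap_isUnit g
  let e₁ : B' ⊗[B] Ω[B⁄R] ≃ₗ[B'] Ω[B'⁄R] :=
    KaehlerDifferential.tensorKaehlerEquivOfFormallyEtale R B B'
  have he₁ : ∀ x, e₁ x = mapBaseChange R B B' x := fun x => rfl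
  let ι : B ⊗[A] Ω[A⁄R] →ₗ[B] B' ⊗[A] Ω[A⁄R] :=
    TensorProduct.AlgebraTensorModule.map (Algebra.linearMap B B') LinearMap.id
  have hι : ∀ (b : B) (ω : Ω[A⁄R]), ι (b ⊗ₜ[A] ω) = (algebraMap B B' b) ⊗ₜ[A] ω :=
    fun b ω => rfl
  let v' : Ω[B'⁄R] →ₗ[B'] B' ⊗[A] Ω[A⁄R] :=
    (LinearMap.liftBaseChange B' (ι ∘ₗ v)) ∘ₗ e₁.symm.toLinearMap
  let T' : B' ⊗[A] Ω[A⁄R] →ₗ[B'] B' ⊗[A] Ω[A⁄R] := v' ∘ₗ mapBaseChange R A B'
  -- compatibility on `1 ⊗ ω`
  have hsymm : ∀ ω : Ω[A⁄R], e₁.symm (KaehlerDifferential.map R R A B' ω) =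
      (1 : B') ⊗ₜ[B] (KaehlerDifferential.map R R A B ω) := by
    intro ω
    rw [LinearEquiv.symm_apply_eq, he₁, mapBaseChange_tmul, one_smul, map_map_tower]
  have hT'1 : ∀ ω : Ω[A⁄R], T' ((1 : B') ⊗ₜ[A] ω) = ι (T ((1 : B) ⊗ₜ[A] ω)) := by
    intro ω
    change (LinearMap.liftBaseChange B' (ι ∘ₗ v)) (e₁.symm (mapBaseChange R A B' _)) = _
    rw [mapBaseChange_tmul, one_smul, hsymm, LinearMap.liftBaseChange_tmul, one_smul]
    change ι (v _) = ι (v (mapBaseChange R A B _))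
    rw [mapBaseChange_tmul, one_smul]
  have hT'ι : ∀ m : B ⊗[A] Ω[A⁄R], T' (ι m) = ι (T m) := by
    intro m
    induction m using TensorProduct.induction_on with
    | zero => rw [map_zero, map_zero, map_zero, map_zero]
    | add x y hx hy => rw [map_add, map_add, map_add, map_add, hx, hy]
    | tmul b ω =>
      have hb : (b ⊗ₜ[A] ω : B ⊗[A] Ω[A⁄R]) = b • ((1 : B) ⊗ₜ[A] ω) := by
        rw [TensorProduct.smul_tmul', smul_eq_mul, mul_one]
      have h1 : ι ((1 : B) ⊗ₜ[A] ω) = (1 : B') ⊗ₜ[A] ω := by rw [hι, map_one]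
      have e1 : ι (b • ((1 : B) ⊗ₜ[A] ω)) = b • ((1 : B') ⊗ₜ[A] ω : B' ⊗[A] Ω[A⁄R]) := by
        rw [map_smul, h1]
      have e2 : ι (T (b • ((1 : B) ⊗ₜ[A] ω))) = b • ι (T ((1 : B) ⊗ₜ[A] ω)) := by
        rw [map_smul, map_smul]
      rw [hb, e1, e2, LinearMap.map_smul_of_tower, hT'1]
  -- surjectivity of `T'`
  have hsurj : Function.Surjective T' := by
    rw [← LinearMap.range_eq_top, eq_top_iff]
    rintro x -
    induction x using TensorProduct.induction_on with
    | zero => exact zero_mem _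
    | add x y hx hy => exact add_mem hx hy
    | tmul b' ω =>
      obtain ⟨m₁, hm₁⟩ := hgN ((1 : B) ⊗ₜ[A] ω)
      have h1 : algebraMap B B' g • ((1 : B') ⊗ₜ[A] ω : B' ⊗[A] Ω[A⁄R]) = T' (ι m₁) := by
        rw [hT'ι, hm₁, map_smul, hι, map_one, algebraMap_smul]
      obtain ⟨gi, hgi⟩ := hgu.exists_left_inv
      have h2 : (b' ⊗ₜ[A] ω : B' ⊗[A] Ω[A⁄R]) = T' ((b' * gi) • ι m₁) := by
        rw [map_smul, ← h1, smul_smul, mul_assoc, hgi, mul_one, TensorProduct.smul_tmul',
          smul_eq_mul, mul_one]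
      rw [h2]
      exact ⟨_, rfl⟩
  have hinj : Function.Injective T' :=
    OrzechProperty.injective_of_surjective_endomorphism T' hsurj
  let eT : (B' ⊗[A] Ω[A⁄R]) ≃ₗ[B'] B' ⊗[A] Ω[A⁄R] := LinearEquiv.ofBijective T' ⟨hinj, hsurj⟩
  refine ⟨eT.symm.toLinearMap ∘ₗ v', ?_⟩
  apply LinearMap.ext
  intro x
  change eT.symm (T' x) = x
  exact eT.symm_apply_apply x

end

end Groth.Agent.Lib.SmoothRetract22
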