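import Groth.Agent.Lib.SmoothRetract22b
import Groth.Agent.Lib.SmoothNbhdLift22

/-!
# Smooth retracts (helper22), part c: Stacks 07CE

If `A` is smooth over `R` there is a smooth `A`-algebra `B` with an `A`-algebra retraction `B → A`
such that `B` is standard smooth over `R`.  (`B` is a principal localization of an étale
neighbourhood of `V(I)` in affine space, where `A = R[x]/I`.)
-/

set_option autoImplicit false
universe u

namespace Groth.Agent.Lib.SmoothRetract22

open TensorProduct KaehlerDifferential Groth.Agent.Lib.PairEtaleNbhd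

theorem exists_smooth_retract_isStandardSmooth {R A : Type u} [CommRing R] [CommRing A]
    [Algebra R A] [Algebra.Smooth R A] :
    ∃ (B : Type u) (_ : CommRing B) (_ : Algebra R B) (_ : Algebra A B) (_ : IsScalarTower R A B),
      Algebra.Smooth A B ∧ Nonempty (B →ₐ[A] A) ∧ Algebra.IsStandardSmooth R B := by
  classical
  obtain ⟨n, π, hπ⟩ := Algebra.FiniteType.iff_quotient_mvPolynomial''.mp
    (inferInstance : Algebra.FiniteType R A)
  let P := MvPolynomial (Fin n) R
  let I : Ideal P := RingHom.ker π.toRingHom
  let e₀ : (P ⧸ I) ≃ₐ[R] A := Ideal.quotientKerAlgEquivOfSurjective hπ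
  have he₀ : ∀ p : P, e₀ (Ideal.Quotient.mk I p) = π p := fun p => rfl
  let σ : P ⊗[R] A →ₐ[P] P ⧸ I :=
    Algebra.TensorProduct.lift (Algebra.ofId P (P ⧸ I)) (e₀.symm : A →ₐ[R] P ⧸ I)
      (fun _ _ => Commute.all _ _)
  have hσ : ∀ a : A, σ ((1 : P) ⊗ₜ[R] a) = e₀.symm a := by
    intro a
    simp [σ]
  obtain ⟨P', _, _, hnb, τ, hτ⟩ := Groth.Agent.Lib.SmoothNbhdLift22.exists_nbhd_lift I σ
  haveI := hnb.etale
  letI algRP' : Algebra R P' := ((algebraMap P P').comp (algebraMap R P)).toAlgebra
  haveI : IsScalarTower R P P' := IsScalarTower.of_algebraMap_eq fun _ => rfl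
  let ρ : A →ₐ[R] P' := (τ.restrictScalars R).comp Algebra.TensorProduct.includeRight
  have hρ : ∀ a, ρ a = τ ((1 : P) ⊗ₜ[R] a) := fun a => rfl
  letI algAP' : Algebra A P' := ρ.toRingHom.toAlgebra
  haveI : IsScalarTower R A P' := IsScalarTower.of_algebraMap_eq fun r => (ρ.commutes r).symm
  have hretr : ∀ b, hnb.qbij.retr (τ b) = σ b := by
    intro b
    have h1 : hnb.qbij.retr (τ b) =
        (RingEquiv.ofBijective _ hnb.qbij).symm (Ideal.Quotient.mk _ (τ b)) := rfl
    rw [h1, hτ b]
    exact (RingEquiv.ofBijective _ hnb.qbij).symm_apply_apply _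
  -- the retraction
  let r₀ : P' →ₐ[A] A :=
    { toRingHom := (e₀ : (P ⧸ I) →+* A).comp (hnb.qbij.retr : P' →+* P ⧸ I)
      commutes' := fun a => by
        change e₀ (hnb.qbij.retr (ρ a)) = a
        rw [hρ, hretr, hσ]
        exact e₀.apply_symm_apply a }
  haveI : Algebra.FormallySmooth R P' := Algebra.FormallySmooth.comp R P P'
  obtain ⟨g, hrg, v', hv'⟩ := exists_retraction_away (R := R) (A := A) (B := P') r₀
  -- properties of the localization
  haveI : Algebra.FormallySmooth P' (Localization.Away g) :=
    Algebra.FormallySmooth.of_isLocalization (Submonoid.powers g)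
  haveI : Algebra.FormallySmooth R (Localization.Away g) :=
    Algebra.FormallySmooth.comp R P' (Localization.Away g)
  haveI hfsA : Algebra.FormallySmooth A (Localization.Away g) :=
    formallySmooth_of_retraction R A (Localization.Away g) v' hv'
  haveI : Algebra.FinitePresentation R P' := Algebra.FinitePresentation.trans R P P'
  haveI : Algebra.FinitePresentation P' (Localization.Away g) :=
    IsLocalization.Away.finitePresentation g
  haveI : Algebra.FinitePresentation R (Localization.Away g) :=
    Algebra.FinitePresentation.trans R P' (Localization.Away g)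
  haveI hfpA : Algebra.FinitePresentation A (Localization.Away g) :=
    Algebra.FinitePresentation.of_restrict_scalars_finitePresentation R A (Localization.Away g)
  have hsm : Algebra.Smooth A (Localization.Away g) :=
    { formallySmooth := hfsA, finitePresentation := hfpA }
  -- the retraction on the localization
  have hunit : ∀ y : Submonoid.powers g, IsUnit (r₀ y) := by
    rintro ⟨_, k, rfl⟩
    change IsUnit (r₀ (g ^ k))
    rw [map_pow, hrg, one_pow]
    exact isUnit_one
  let r₁ : Localization.Away g →ₐ[A] A := IsLocalization.liftAlgHom (M := Submonoid.powers g) hunit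
  -- standard smoothness
  haveI : Algebra.Etale P' (Localization.Away g) := Algebra.Etale.of_isLocalizationAway g
  haveI : Algebra.Etale P (Localization.Away g) := Algebra.Etale.comp P P' (Localization.Away g)
  haveI : Algebra.IsStandardSmoothOfRelativeDimension 0 P (Localization.Away g) :=
    Algebra.Etale.iff_isStandardSmoothOfRelativeDimension_zero.mp inferInstance
  haveI : Algebra.IsStandardSmooth P (Localization.Away g) :=
    Algebra.IsStandardSmoothOfRelativeDimension.isStandardSmooth 0
  haveI : Algebra.IsStandardSmooth R P := isStandardSmooth_mvPolynomial R n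
  have hstd : Algebra.IsStandardSmooth R (Localization.Away g) :=
    Algebra.IsStandardSmooth.trans R P (Localization.Away g)
  exact ⟨Localization.Away g, inferInstance, inferInstance, inferInstance, inferInstance, hsm,
    ⟨r₁⟩, hstd⟩

end Groth.Agent.Lib.SmoothRetract22
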