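import Mathlib
import Groth.Agent.Lib.PrincipalMaximalIdeal

/-!
# Sections of smooth morphisms over a DVR through rational points of the special fibre

* `isMaximal_of_surjective`: `B` local, `m_B ⊆ I ∩ B`, `B → S/I` onto, `I` proper ⇒ `I` maximal.
* `dvr_localization_of_etale`: the local ring of an étale `B`-algebra (`B` a DVR) at a prime over
  `m_B` with trivial residue extension is a DVR, with `m_B` generating the maximal ideal and trivial
  residue field extension.
* `exists_dvr_of_etale_mvPolynomial`: if `A` is étale over `B[X₁..Xₙ]` and `p` is a prime over `m_B`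
  with `B → A/p` onto, then there is a DVR `B'` and `ψ : A → B'` with `ψ⁻¹(m_B') = p`, `B → B'`
  injective, unramified with trivial residue extension.
-/

set_option autoImplicit false
universe u

namespace Groth.Agent.Lib.SmoothSection6

open TensorProduct IsLocalRing

/-- If `B` is local, `m_B ≤ I ∩ B` and `B → S/I` is surjective with `I` proper, then `I` is maximal. -/
theorem isMaximal_of_surjective {B S : Type*} [CommRing B] [IsLocalRing B] [CommRing S] [Algebra B S]
    (I : Ideal S) (hI : I ≠ ⊤) (hle : maximalIdeal B ≤ I.comap (algebraMap B S))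
    (hsurj : Function.Surjective ((Ideal.Quotient.mk I).comp (algebraMap B S))) : I.IsMaximal := by
  rw [Ideal.isMaximal_iff]
  refine ⟨fun h => hI ((Ideal.eq_top_iff_one I).mpr h), ?_⟩
  intro J x hIJ hxI hxJ
  obtain ⟨β, hβ⟩ := hsurj (Ideal.Quotient.mk I x)
  have hβx : algebraMap B S β - x ∈ I := by
    rw [← Ideal.Quotient.eq]; exact hβ
  have hβu : IsUnit β := by
    by_contra hnu
    have : β ∈ maximalIdeal B := (mem_maximalIdeal β).mpr hnu
    have h1 : algebraMap B S β ∈ I := hle this
    apply hxI
    have := I.sub_mem h1 hβx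
    simpa using this
  obtain ⟨u, rfl⟩ := hβu
  have h2 : algebraMap B S (u : B) ∈ J := by
    have := J.add_mem (hIJ hβx) hxJ
    simpa using this
  have h3 : algebraMap B S ((u⁻¹ : Bˣ) : B) * algebraMap B S (u : B) ∈ J := J.mul_mem_left _ h2
  rw [← map_mul] at h3
  simpa using h3


set_option maxHeartbeats 800000 in
/-- The local ring of an étale `B`-algebra (`B` a DVR) at a prime over `m_B` with trivial residue
extension is a DVR, weakly unramified over `B`, with trivial residue field extension. -/
theorem dvr_localization_of_etale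
    (B : Type u) [CommRing B] [IsDomain B] [IsDiscreteValuationRing B]
    (C : Type u) [CommRing C] [Algebra B C] [Algebra.Etale B C]
    (q : Ideal C) [q.IsPrime] (hq : q.comap (algebraMap B C) = maximalIdeal B)
    (hsurj : Function.Surjective ((Ideal.Quotient.mk q).comp (algebraMap B C))) :
    ∃ (_ : IsDomain (Localization.AtPrime q)) (_ : IsDiscreteValuationRing (Localization.AtPrime q)),
      Function.Injective (algebraMap B (Localization.AtPrime q)) ∧
      Ideal.map (algebraMap B (Localization.AtPrime q)) (maximalIdeal B) =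
        maximalIdeal (Localization.AtPrime q) ∧
      Function.Surjective ((residue (Localization.AtPrime q)).comp
        (algebraMap B (Localization.AtPrime q))) := by
  have hqmax : q.IsMaximal :=
    isMaximal_of_surjective q (Ideal.IsPrime.ne_top ‹_›) hq.ge hsurj
  have hcomapm : (maximalIdeal (Localization.AtPrime q)).comap (algebraMap C (Localization.AtPrime q)) = q :=
    IsLocalization.AtPrime.under_maximalIdeal (Localization.AtPrime q) q
  have hcomapB : (maximalIdeal (Localization.AtPrime q)).comap (algebraMap B (Localization.AtPrime q)) =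
      maximalIdeal B := by
    rw [IsScalarTower.algebraMap_eq B C (Localization.AtPrime q), ← Ideal.comap_comap, hcomapm, hq]
  have hloc : IsLocalHom (algebraMap B (Localization.AtPrime q)) := by
    constructor
    intro x hx
    by_contra hnu
    have hxm : x ∈ maximalIdeal B := (mem_maximalIdeal x).mpr hnu
    rw [← hcomapB, Ideal.mem_comap, mem_maximalIdeal] at hxm
    exact hxm hx
  have : Module.Flat B C := inferInstance
  have : Module.Flat B (Localization.AtPrime q) := Module.Flat.trans B C (Localization.AtPrime q)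
  have : Algebra.FiniteType B C := inferInstance
  have : IsNoetherianRing C := Algebra.FiniteType.isNoetherianRing B C
  have : IsNoetherianRing (Localization.AtPrime q) :=
    IsLocalization.isNoetherianRing q.primeCompl (Localization.AtPrime q) inferInstance
  have : Algebra.FormallyUnramified C (Localization.AtPrime q) :=
    Algebra.FormallyUnramified.of_isLocalization q.primeCompl
  have : Algebra.FormallyUnramified B (Localization.AtPrime q) :=
    Algebra.FormallyUnramified.comp B C (Localization.AtPrime q)
  have : Algebra.EssFiniteType C (Localization.AtPrime q) :=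
    Algebra.EssFiniteType.of_isLocalization (Localization.AtPrime q) q.primeCompl
  have : Algebra.EssFiniteType B (Localization.AtPrime q) :=
    Algebra.EssFiniteType.comp B C (Localization.AtPrime q)
  have hmap : (maximalIdeal B).map (algebraMap B (Localization.AtPrime q)) =
      maximalIdeal (Localization.AtPrime q) :=
    Algebra.FormallyUnramified.map_maximalIdeal
  have : Module.FaithfullyFlat B (Localization.AtPrime q) :=
    Module.FaithfullyFlat.of_flat_of_isLocalHom
  have hinj : Function.Injective (algebraMap B (Localization.AtPrime q)) :=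
    FaithfulSMul.algebraMap_injective B (Localization.AtPrime q)
  obtain ⟨π, hπ⟩ := IsDiscreteValuationRing.exists_irreducible B
  have hmB : maximalIdeal B = Ideal.span {π} := hπ.maximalIdeal_eq
  have hmB' : maximalIdeal (Localization.AtPrime q) =
      Ideal.span {algebraMap B (Localization.AtPrime q) π} := by
    rw [← hmap, hmB, Ideal.map_span, Set.image_singleton]
  have hreg : algebraMap B (Localization.AtPrime q) π ∈ nonZeroDivisors (Localization.AtPrime q) := by
    have h1 : IsSMulRegular B π := by
      rw [isSMulRegular_iff_right_eq_zero_of_smul]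
      intro x hx
      rcases mul_eq_zero.mp hx with h | h
      · exact absurd h hπ.ne_zero
      · exact h
    have h2 : IsSMulRegular (Localization.AtPrime q) (algebraMap B (Localization.AtPrime q) π) :=
      h1.of_flat
    rw [mem_nonZeroDivisors_iff_right]
    intro x hx
    apply h2
    simpa [smul_eq_mul, mul_comm] using hx
  obtain ⟨hdom, hdvr⟩ :=
    Groth.Agent.Lib.PrincipalMaximalIdeal.isDiscreteValuationRing_of_maximalIdeal_eq_span _ hreg hmB'
  refine ⟨hdom, hdvr, hinj, hmap, ?_⟩
  -- residue field surjectivity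
  have hsurj2 : Function.Surjective (Ideal.quotientMap (maximalIdeal (Localization.AtPrime q))
      (algebraMap C (Localization.AtPrime q)) hcomapm.ge) :=
    IsLocalization.surjective_quotientMap_of_maximal_of_localization q.primeCompl
      (Localization.AtPrime q) (by rw [Ideal.under_def, hcomapm]; exact hqmax)
  intro y
  obtain ⟨z, rfl⟩ := Ideal.Quotient.mk_surjective y
  obtain ⟨c, hc⟩ := hsurj2 (Ideal.Quotient.mk _ z)
  obtain ⟨c, rfl⟩ := Ideal.Quotient.mk_surjective c
  obtain ⟨β, hβ⟩ := hsurj (Ideal.Quotient.mk q c)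
  refine ⟨β, ?_⟩
  rw [Ideal.quotientMap_mk] at hc
  rw [← hc]
  simp only [RingHom.comp_apply] at hβ ⊢
  rw [IsScalarTower.algebraMap_apply B C (Localization.AtPrime q)]
  change Ideal.Quotient.mk _ _ = Ideal.Quotient.mk _ _
  rw [Ideal.Quotient.eq] at hβ ⊢
  rw [← map_sub, ← Ideal.mem_comap, hcomapm]
  exact hβ


set_option maxHeartbeats 800000 in
theorem exists_dvr_of_etale_mvPolynomial
    (B : Type u) [CommRing B] [IsDomain B] [IsDiscreteValuationRing B]
    (n : ℕ) (A : Type u) [CommRing A] [Algebra B A] [Algebra (MvPolynomial (Fin n) B) A]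
    [IsScalarTower B (MvPolynomial (Fin n) B) A] [Algebra.Etale (MvPolynomial (Fin n) B) A]
    (p : Ideal A) [p.IsPrime] (hp : p.comap (algebraMap B A) = maximalIdeal B)
    (hsurj : Function.Surjective ((Ideal.Quotient.mk p).comp (algebraMap B A))) :
    ∃ (B' : Type u) (_ : CommRing B') (_ : IsDomain B') (_ : IsDiscreteValuationRing B')
      (ψ : A →+* B'),
      Ideal.comap ψ (maximalIdeal B') = p ∧
      Function.Injective (ψ.comp (algebraMap B A)) ∧
      Ideal.map (ψ.comp (algebraMap B A)) (maximalIdeal B) = maximalIdeal B' ∧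
      Function.Surjective ((residue B').comp (ψ.comp (algebraMap B A))) := by
  classical
  have hb : ∀ i : Fin n, ∃ b : B,
      algebraMap B A b - algebraMap (MvPolynomial (Fin n) B) A (MvPolynomial.X i) ∈ p := by
    intro i
    obtain ⟨b, hb⟩ := hsurj (Ideal.Quotient.mk p (algebraMap (MvPolynomial (Fin n) B) A (MvPolynomial.X i)))
    refine ⟨b, ?_⟩
    rw [← Ideal.Quotient.eq]
    exact hb
  choose b hb using hb
  let algPB : Algebra (MvPolynomial (Fin n) B) B :=
    (MvPolynomial.aeval b : MvPolynomial (Fin n) B →ₐ[B] B).toRingHom.toAlgebra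
  have halgPB : ∀ x : MvPolynomial (Fin n) B,
      algebraMap (MvPolynomial (Fin n) B) B x = MvPolynomial.aeval b x := fun x => rfl
  -- the two P-algebra maps to A ⧸ p
  let g : A →ₐ[MvPolynomial (Fin n) B] (A ⧸ p) := Ideal.Quotient.mkₐ _ p
  have hfcomm : ∀ x : MvPolynomial (Fin n) B,
      (Ideal.Quotient.mk p) (algebraMap B A (MvPolynomial.aeval b x)) =
        (Ideal.Quotient.mk p) (algebraMap (MvPolynomial (Fin n) B) A x) := by
    intro x
    have : ((Ideal.Quotient.mk p).comp ((algebraMap B A).comp
        (MvPolynomial.aeval b : MvPolynomial (Fin n) B →ₐ[B] B).toRingHom)) =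
        (Ideal.Quotient.mk p).comp (algebraMap (MvPolynomial (Fin n) B) A) := by
      apply MvPolynomial.ringHom_ext
      · intro r
        simp only [RingHom.comp_apply, AlgHom.toRingHom_eq_coe, RingHom.coe_coe,
          MvPolynomial.aeval_C]
        rw [← MvPolynomial.algebraMap_eq, ← IsScalarTower.algebraMap_apply B (MvPolynomial (Fin n) B) A]
        rfl
      · intro i
        simp only [RingHom.comp_apply, AlgHom.toRingHom_eq_coe, RingHom.coe_coe,
          MvPolynomial.aeval_X]
        rw [Ideal.Quotient.eq]
        exact hb i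
    exact congrArg (fun φ => φ x) this
  let f : B →ₐ[MvPolynomial (Fin n) B] (A ⧸ p) :=
    { toRingHom := (Ideal.Quotient.mk p).comp (algebraMap B A)
      commutes' := by
        intro x
        rw [halgPB]
        exact hfcomm x }
  let χ : B ⊗[MvPolynomial (Fin n) B] A →ₐ[MvPolynomial (Fin n) B] (A ⧸ p) :=
    Algebra.TensorProduct.productMap f g
  let ψ' : A →ₐ[MvPolynomial (Fin n) B] B ⊗[MvPolynomial (Fin n) B] A :=
    Algebra.TensorProduct.includeRight
  have hχψ : ∀ a : A, χ (ψ' a) = Ideal.Quotient.mk p a := by
    intro a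
    simp [χ, ψ', g]
  have hχB : ∀ β : B, χ (algebraMap B (B ⊗[MvPolynomial (Fin n) B] A) β) =
      Ideal.Quotient.mk p (algebraMap B A β) := by
    intro β
    rw [Algebra.TensorProduct.algebraMap_apply]
    simp [χ, f]
  have hψB : ∀ β : B, ψ' (algebraMap B A β) = algebraMap B (B ⊗[MvPolynomial (Fin n) B] A) β := by
    intro β
    rw [Algebra.TensorProduct.algebraMap_apply]
    have h1 : algebraMap B A β =
        (MvPolynomial.C β : MvPolynomial (Fin n) B) • (1 : A) := by
      rw [Algebra.smul_def, mul_one, ← MvPolynomial.algebraMap_eq,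
        ← IsScalarTower.algebraMap_apply B (MvPolynomial (Fin n) B) A]
    change (1 : B) ⊗ₜ[MvPolynomial (Fin n) B] (algebraMap B A β) = _
    rw [h1, ← TensorProduct.smul_tmul, Algebra.smul_def, mul_one, halgPB, MvPolynomial.aeval_C]
  have hχsurj : Function.Surjective χ := by
    intro y
    obtain ⟨a, rfl⟩ := Ideal.Quotient.mk_surjective y
    exact ⟨ψ' a, hχψ a⟩
  have hqprime : (RingHom.ker χ.toRingHom).IsPrime := RingHom.ker_isPrime χ.toRingHom
  have hqcomapA : (RingHom.ker χ.toRingHom).comap ψ'.toRingHom = p := by
    ext a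
    rw [Ideal.mem_comap, RingHom.mem_ker]
    change χ (ψ' a) = 0 ↔ _
    rw [hχψ, Ideal.Quotient.eq_zero_iff_mem]
  have hqcomapB : (RingHom.ker χ.toRingHom).comap
      (algebraMap B (B ⊗[MvPolynomial (Fin n) B] A)) = maximalIdeal B := by
    ext β
    rw [Ideal.mem_comap, RingHom.mem_ker]
    change χ (algebraMap B (B ⊗[MvPolynomial (Fin n) B] A) β) = 0 ↔ _
    rw [hχB, Ideal.Quotient.eq_zero_iff_mem, ← hp, Ideal.mem_comap]
  have hsurjq : Function.Surjective ((Ideal.Quotient.mk (RingHom.ker χ.toRingHom)).comp
      (algebraMap B (B ⊗[MvPolynomial (Fin n) B] A))) := by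
    intro y
    obtain ⟨c, rfl⟩ := Ideal.Quotient.mk_surjective y
    obtain ⟨β, hβ⟩ := hsurj (χ c)
    refine ⟨β, ?_⟩
    rw [RingHom.comp_apply, Ideal.Quotient.eq, RingHom.mem_ker]
    change χ (_ - _) = 0
    rw [map_sub, hχB, sub_eq_zero]
    exact hβ
  obtain ⟨hdom, hdvr, hinj, hmap, hres⟩ :=
    dvr_localization_of_etale B (B ⊗[MvPolynomial (Fin n) B] A) (RingHom.ker χ.toRingHom)
      hqcomapB hsurjq
  have hcomp : ((algebraMap (B ⊗[MvPolynomial (Fin n) B] A)
      (Localization.AtPrime (RingHom.ker χ.toRingHom))).comp ψ'.toRingHom).comp (algebraMap B A) =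
      algebraMap B (Localization.AtPrime (RingHom.ker χ.toRingHom)) := by
    ext β
    simp only [RingHom.comp_apply]
    change algebraMap _ _ (ψ' (algebraMap B A β)) = _
    rw [hψB, ← IsScalarTower.algebraMap_apply]
  refine ⟨Localization.AtPrime (RingHom.ker χ.toRingHom), inferInstance, hdom, hdvr,
    (algebraMap (B ⊗[MvPolynomial (Fin n) B] A)
      (Localization.AtPrime (RingHom.ker χ.toRingHom))).comp ψ'.toRingHom, ?_, ?_, ?_, ?_⟩
  · have h1 := IsLocalization.AtPrime.under_maximalIdeal
      (Localization.AtPrime (RingHom.ker χ.toRingHom)) (RingHom.ker χ.toRingHom)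
    rw [Ideal.under_def] at h1
    rw [← Ideal.comap_comap, h1, hqcomapA]
  · rw [hcomp]; exact hinj
  · rw [hcomp]; exact hmap
  · rw [hcomp]; exact hres

end Groth.Agent.Lib.SmoothSection6
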