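import Groth.Agent.Lib.H71SmoothSepPts
import Groth.Agent.Lib.H80DecentPt
import Groth.Agent.Lib.AlgSpQC
import Groth.Agent.Lib.AlgSpPoints

/-!
# Finite separable points are dense on a smooth algebraic space over a field (helper91)
-/

set_option autoImplicit false
set_option maxHeartbeats 400000
universe u

open CategoryTheory CategoryTheory.Limits AlgebraicGeometry Opposite

namespace Groth.Agent.Lib.SmoothSepPts91

open AlgSp

section Scheme

variable (k : Type u) [Field k] (X : Scheme.{u}) [X.Over (Spec (CommRingCat.of k))]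
  [Smooth (X ↘ Spec (CommRingCat.of k))]

/-- A nonempty affine open of a smooth `k`-scheme receives a `k`-morphism from the spectrum of a
finite separable extension of `k` (extracted from helper71's `exists_sep_point_of_affineOpen`). -/
theorem exists_sep_map_of_affineOpen (V : X.Opens) (hV : IsAffineOpen V) (x : X) (hx : x ∈ V) :
    ∃ (L : Type u) (_ : Field L) (_ : Algebra k L) (_ : FiniteDimensional k L)
      (_ : Algebra.IsSeparable k L) (g : Spec (CommRingCat.of L) ⟶ X),
      g ≫ (X ↘ Spec (CommRingCat.of k)) = Spec.map (CommRingCat.ofHom (algebraMap k L)) ∧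
        g (IsLocalRing.closedPoint L) ∈ V := by
  set f := X ↘ Spec (CommRingCat.of k) with hf
  have e : V ≤ f ⁻¹ᵁ ⊤ := le_top
  let φ : CommRingCat.of k ⟶ Γ(X, V) := (Scheme.ΓSpecIso (CommRingCat.of k)).inv ≫ f.appLE ⊤ V e
  letI : Algebra k Γ(X, V) := φ.hom.toAlgebra
  have hsm : (algebraMap k Γ(X, V)).Smooth := by
    show ((f.appLE ⊤ V e).hom.comp (Scheme.ΓSpecIso (CommRingCat.of k)).inv.hom).Smooth
    refine RingHom.Smooth.comp (RingHom.Smooth.of_bijective ?_)
      (Smooth.smooth_appLE f (isAffineOpen_top _) hV e)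
    exact (ConcreteCategory.isIso_iff_bijective _).mp inferInstance
  haveI : Algebra.Smooth k Γ(X, V) := RingHom.smooth_algebraMap.mp hsm
  haveI : Nontrivial Γ(X, V) := by
    have : Nonempty (PrimeSpectrum Γ(X, V)) := ⟨hV.primeIdealOf ⟨x, hx⟩⟩
    exact (PrimeSpectrum.nonempty_iff_nontrivial).mp this
  obtain ⟨L, iF, iA, iFD, iS, ⟨ψ⟩⟩ := Groth.Agent.Lib.H71SmoothSepPts.exists_algHom_of_smooth k Γ(X, V)
  let g : Spec (CommRingCat.of L) ⟶ X := Spec.map (CommRingCat.ofHom ψ.toRingHom) ≫ hV.fromSpec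
  have hg : g ≫ f = Spec.map (CommRingCat.ofHom (algebraMap k L)) := by
    simp only [g, Category.assoc]
    rw [← IsAffineOpen.SpecMap_appLE_fromSpec f (isAffineOpen_top _) hV e,
      IsAffineOpen.fromSpec_top, Scheme.isoSpec_Spec_inv, ← Spec.map_comp, ← Spec.map_comp]
    congr 1
    show φ ≫ CommRingCat.ofHom ψ.toRingHom = _
    ext c
    exact ψ.commutes c
  refine ⟨L, iF, iA, iFD, iS, g, hg, ?_⟩
  have : g (IsLocalRing.closedPoint L) ∈ Set.range hV.fromSpec := ⟨_, rfl⟩
  rw [hV.range_fromSpec] at this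
  exact this

end Scheme

section Sp

variable (k : Type u) [Field k]

/-- On a smooth algebraic space over a field, the points defined over finite separable extensions
are dense. -/
theorem dense_sep_points_sp {X : Sp (Spec (CommRingCat.of k))} (hX : IsAlgSpace X)
    (p : X ⟶ (yon (Spec (CommRingCat.of k))).obj (Over.mk (𝟙 _))) (hp : LocP @Smooth p) :
    Dense {x : Points X | ∃ (k' : Type u) (_ : Field k') (_ : Algebra k k'),
      Module.Finite k k' ∧ Algebra.IsSeparable k k' ∧
        ∃ v : X.obj.obj (Opposite.op (Over.mk (Spec.map (CommRingCat.ofHom (algebraMap k k'))))),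
          Points.mk ⟨k', Spec.map (CommRingCat.ofHom (algebraMap k k')), v⟩ = x} := by
  rw [dense_iff_inter_open]
  rintro W hW ⟨x, hx⟩
  obtain ⟨U, a, hae, has⟩ := hX.atlas
  obtain ⟨u, hu⟩ := Groth.Agent.Lib.AlgSpQC.surjective_ofPt_of_repWith_surjective has x
  obtain ⟨h, hh⟩ := (yon (Spec (CommRingCat.of k))).map_surjective (a ≫ p)
  have hsm : Smooth h.left :=
    hp a (𝟙 _) h hae (repWith_id _ _) (by rw [Category.comp_id, hh])
  have hUhom : h.left = U.hom := by
    have := Over.w h
    simpa using this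
  letI : U.left.Over (Spec (CommRingCat.of k)) := ⟨U.hom⟩
  haveI : Smooth (U.left ↘ Spec (CommRingCat.of k)) := by
    change Smooth U.hom
    rw [← hUhom]; exact hsm
  have hWU : IsOpen (Points.ofPt a ⁻¹' W) := hW.preimage (Points.continuous_ofPt a)
  obtain ⟨_, ⟨V, hV, rfl⟩, huV, hVW⟩ :=
    (U.left.isBasis_affineOpens).exists_subset_of_mem_open
      (show u ∈ Points.ofPt a ⁻¹' W by rw [Set.mem_preimage, hu]; exact hx) hWU
  obtain ⟨L, iF, iA, iFD, iS, g, hg, hgV⟩ := exists_sep_map_of_affineOpen k U.left V hV u huV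
  let c : Over.mk (Spec.map (CommRingCat.ofHom (algebraMap k L))) ⟶ U := Over.homMk g hg
  have key := Groth.Agent.Lib.H80DecentPt.ofPt_eq_mk_of_comp_eq a
    (Groth.Agent.Lib.H80DecentPt.ofHom (Spec.map (CommRingCat.ofHom (algebraMap k L)))
      ((yon (Spec (CommRingCat.of k))).map c ≫ a)) c
    (Groth.Agent.Lib.H80DecentPt.toHom_ofHom _ _).symm
  refine ⟨Points.ofPt a (g (IsLocalRing.closedPoint L)), hVW hgV, L, iF, iA, iFD, iS, _, key.symm⟩

end Sp

end Groth.Agent.Lib.SmoothSepPts91
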