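import Mathlib
import Groth.Prelude.Def_CotT2
import Groth.Agent.Lib.CotTIndep01

/-!
# Formal smoothness and `T¹`

* `formallySmooth_iff_T1`: `B` is formally smooth over `A` iff `T¹(P, M) = 0` for all `B`-modules `M` (any presentation
  `P` with index types in the universe of the rings);
* `projective_cotangent`: for `B` formally smooth over `A`, `I/I²` of a presentation is a projective `B`-module.
-/

set_option autoImplicit false
set_option linter.unusedVariables false
set_option linter.unusedSectionVars false
universe u
open scoped TensorProduct

namespace Groth.Agent.Lib.SmoothT1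

open CotT Groth.Agent.Lib.CotTIndep

variable {A B : Type u} [CommRing A] [CommRing B] [Algebra A B] {ι σ : Type u}
  (P : Algebra.Presentation A B ι σ)

instance formallySmooth_ring : Algebra.FormallySmooth A P.toExtension.Ring :=
  inferInstanceAs (Algebra.FormallySmooth A (MvPolynomial ι A))

theorem subsingleton_T1_of_formallySmooth [Algebra.FormallySmooth A B]
    (M : Type u) [AddCommGroup M] [Module B M] : Subsingleton (T1 P M) := by
  obtain ⟨l, hl⟩ := (Algebra.Extension.formallySmooth_iff_split_injection P.toExtension).mp inferInstance
  refine (T1equivY P M).toEquiv.subsingleton_congr.mpr ⟨fun x y => ?_⟩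
  have h0 : ∀ z : Y M P.toExtension, z = 0 := by
    intro z
    induction z using Submodule.Quotient.induction_on with
    | H v =>
      rw [Submodule.Quotient.mk_eq_zero]
      refine ⟨v ∘ₗ l, ?_⟩
      rw [LinearMap.lcomp_apply', LinearMap.comp_assoc, hl, LinearMap.comp_id]
  rw [h0 x, h0 y]

theorem formallySmooth_of_subsingleton_T1
    (h : Subsingleton (T1 P P.toExtension.Cotangent)) : Algebra.FormallySmooth A B := by
  rw [Algebra.Extension.formallySmooth_iff_split_injection P.toExtension]
  have h1 : Subsingleton (Y P.toExtension.Cotangent P.toExtension) :=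
    (T1equivY P P.toExtension.Cotangent).symm.toEquiv.subsingleton_congr.mpr h
  have h2 : (Submodule.Quotient.mk (LinearMap.id : P.toExtension.Cotangent →ₗ[B] P.toExtension.Cotangent) :
      Y P.toExtension.Cotangent P.toExtension) = 0 := h1.elim _ _
  rw [Submodule.Quotient.mk_eq_zero] at h2
  obtain ⟨l, hl⟩ := h2
  exact ⟨l, hl⟩

theorem formallySmooth_iff_T1 :
    Algebra.FormallySmooth A B ↔
      ∀ (M : Type u) [AddCommGroup M] [Module B M], Subsingleton (T1 P M) :=
  ⟨fun _ M _ _ => subsingleton_T1_of_formallySmooth P M,
    fun h => formallySmooth_of_subsingleton_T1 P (h _)⟩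

theorem projective_cotangent [Algebra.FormallySmooth A B] :
    Module.Projective B P.toExtension.Cotangent := by
  obtain ⟨l, hl⟩ := (Algebra.Extension.formallySmooth_iff_split_injection P.toExtension).mp inferInstance
  have : Module.Free B P.toExtension.CotangentSpace := Module.Free.of_basis P.cotangentSpaceBasis
  exact Module.Projective.of_split P.toExtension.cotangentComplex l hl

end Groth.Agent.Lib.SmoothT1
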