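import Mathlib
import Groth.Prelude.Def_CotT2
import Groth.Agent.Lib.T2Syz
import Groth.Agent.Lib.SyzLoc
import Groth.Agent.Lib.CotTMor
import Groth.Agent.Lib.RegularLocalKer
import Groth.Agent.S12288

/-!
# `T²(B/k, M) = 0` for a finite type algebra over a field all of whose local rings are regular

* `presOfSurj`: the presentation with no variables of a quotient `A → C` with chosen generators of the kernel;
* `local_syz`: for a surjection of regular local rings, the syzygy condition `Q ∩ IF ⊆ F₀` for any generators of the kernel;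
* `syz_of_regular`: the syzygy condition for a finite presentation `P` of `B` over a field `k`, `B` regular at all primes;
* `subsingleton_T2_of_regular`: hence `T²(P, M) = 0` provided `I/I²` is projective.
-/

set_option autoImplicit false
set_option linter.unusedVariables false
set_option linter.unusedSectionVars false
set_option linter.style.haveILetI false
universe u m
open scoped TensorProduct

namespace Groth.Agent.Lib.SmoothT2

open CotT

section Pres

variable {A C : Type u} [CommRing A] [CommRing C] [Algebra A C] {σ : Type u}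

/-- the presentation of a quotient `C` of `A` over `A` with no variables and relations a generating family `r` of the
kernel. -/
noncomputable def presOfSurj (hs : Function.Surjective (algebraMap A C)) (r : σ → A)
    (hI : RingHom.ker (algebraMap A C) = Ideal.span (Set.range r)) :
    Algebra.Presentation A C PEmpty.{u+1} σ where
  __ := Algebra.Generators.ofSurjectiveAlgebraMap hs
  relation i := MvPolynomial.C (r i)
  span_range_relation_eq_ker := by
    rw [Algebra.Generators.ker_eq_ker_aeval_val]
    ext x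
    obtain ⟨a, rfl⟩ := MvPolynomial.C_surjective PEmpty x
    rw [RingHom.mem_ker]
    have h1 : (MvPolynomial.aeval (Algebra.Generators.ofSurjectiveAlgebraMap hs).val) (MvPolynomial.C a) =
        algebraMap A C a := by
      rw [MvPolynomial.aeval_C]
    change _ ↔ (MvPolynomial.aeval (Algebra.Generators.ofSurjectiveAlgebraMap hs).val) (MvPolynomial.C a) = 0
    rw [h1, ← RingHom.mem_ker, hI]
    have hr : Set.range (fun i => (MvPolynomial.C (r i) : MvPolynomial PEmpty.{u+1} A)) =
        (MvPolynomial.C : A →+* MvPolynomial PEmpty.{u+1} A) '' Set.range r := by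
      rw [← Set.range_comp]; rfl
    have hr2 : (MvPolynomial.eval (PEmpty.elim : PEmpty.{u+1} → A)) ''
        ((MvPolynomial.C : A →+* MvPolynomial PEmpty.{u+1} A) '' Set.range r) = Set.range r := by
      rw [Set.image_image]
      simp
    change (MvPolynomial.C a : MvPolynomial PEmpty.{u+1} A) ∈
      Ideal.span (Set.range (fun i => (MvPolynomial.C (r i) : MvPolynomial PEmpty.{u+1} A))) ↔ _
    rw [hr]
    constructor
    · intro h
      have := Ideal.mem_map_of_mem (MvPolynomial.eval (PEmpty.elim : PEmpty.{u+1} → A)) h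
      rw [Ideal.map_span, MvPolynomial.eval_C, hr2] at this
      exact this
    · intro h
      have := Ideal.mem_map_of_mem (MvPolynomial.C : A →+* MvPolynomial PEmpty.{u+1} A) h
      rw [Ideal.map_span] at this
      exact this

theorem local_syz [IsRegularLocalRing A] [IsRegularLocalRing C]
    (hs : Function.Surjective (algebraMap A C)) (r : σ → A)
    (hI : RingHom.ker (algebraMap A C) = Ideal.span (Set.range r))
    (q : relMod (presOfSurj hs r hI)) (hq : q ∈ relKer (presOfSurj hs r hI))
    (hc : ∀ s, q s ∈ (presOfSurj hs r hI).toExtension.ker) : q ∈ trivRel (presOfSurj hs r hI) := by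
  obtain ⟨rs, hreg, hker⟩ := Groth.Agent.Lib.RegularLocalKer.exists_isRegular_ker_of_surjective
    (algebraMap A C) hs
  have h1 : Subsingleton (T2 (canon A C) (L2 (presOfSurj hs r hI))) :=
    Groth.Agent.S12288.result A C hs rs hreg hker _
  obtain ⟨e⟩ := Groth.Agent.Lib.CotTMor.nonempty_T2equiv (canon A C) (presOfSurj hs r hI)
    (L2 (presOfSurj hs r hI))
  have h2 : Subsingleton (T2 (presOfSurj hs r hI) (L2 (presOfSurj hs r hI))) :=
    e.symm.toEquiv.subsingleton_congr.mpr h1
  exact Groth.Agent.Lib.T2Syz.mem_trivRel_of_subsingleton_T2 _ h2 q hq hc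

theorem algebraMap_presOfSurj_C (hs : Function.Surjective (algebraMap A C)) (r : σ → A)
    (hI : RingHom.ker (algebraMap A C) = Ideal.span (Set.range r)) (a : A) :
    algebraMap (presOfSurj hs r hI).toExtension.Ring C
      (MvPolynomial.C a : (presOfSurj hs r hI).toExtension.Ring) = algebraMap A C a := by
  exact (CotT.algebraMap_toExtension (presOfSurj hs r hI) (MvPolynomial.C a)).trans (MvPolynomial.aeval_C _ a)

/-- raw form of `local_syz`. -/
theorem local_syz' [IsRegularLocalRing A] [IsRegularLocalRing C]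
    (hs : Function.Surjective (algebraMap A C)) (r : σ → A)
    (hI : RingHom.ker (algebraMap A C) = Ideal.span (Set.range r))
    (q : σ →₀ MvPolynomial PEmpty.{u+1} A)
    (hq : Finsupp.linearCombination (MvPolynomial PEmpty.{u+1} A)
      (fun s => (MvPolynomial.C (r s) : MvPolynomial PEmpty.{u+1} A)) q = 0)
    (hc : ∀ s, ∃ a : A, q s = MvPolynomial.C a ∧ algebraMap A C a = 0) :
    q ∈ Groth.Agent.Lib.SyzLoc.triv (fun s => (MvPolynomial.C (r s) : MvPolynomial PEmpty.{u+1} A)) := by
  refine local_syz hs r hI q hq ?_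
  intro s
  obtain ⟨a, ha, ha0⟩ := hc s
  change algebraMap (presOfSurj hs r hI).toExtension.Ring C (q s) = 0
  have h1 : (q s : (presOfSurj hs r hI).toExtension.Ring) =
      (MvPolynomial.C a : (presOfSurj hs r hI).toExtension.Ring) := ha
  rw [h1, algebraMap_presOfSurj_C, ha0]

end Pres

section Global

variable {k B : Type u} [Field k] [CommRing B] [Algebra k B] {ι σ : Type u}
  (P : Algebra.Presentation k B ι σ)

/-- the local ring of the polynomial ring at the preimage of a prime of `B`. -/
abbrev Aloc (𝔫 : Ideal B) [𝔫.IsPrime] : Type u :=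
  Localization.AtPrime (𝔫.comap (algebraMap P.toExtension.Ring B))

/-- the induced map on local rings. -/
noncomputable def gloc (𝔫 : Ideal B) [𝔫.IsPrime] : Aloc P 𝔫 →+* Localization.AtPrime 𝔫 :=
  Localization.localRingHom (𝔫.comap (algebraMap P.toExtension.Ring B)) 𝔫 (algebraMap P.toExtension.Ring B) rfl

@[instance_reducible]
noncomputable def algLoc (𝔫 : Ideal B) [𝔫.IsPrime] : Algebra (Aloc P 𝔫) (Localization.AtPrime 𝔫) :=
  (gloc P 𝔫).toAlgebra

attribute [local instance] algLoc

theorem gloc_surjective (𝔫 : Ideal B) [𝔫.IsPrime] : Function.Surjective (algebraMap (Aloc P 𝔫) (Localization.AtPrime 𝔫)) :=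
  RingHom.surjective_localRingHom_of_surjective (algebraMap P.toExtension.Ring B)
    P.toExtension.algebraMap_surjective 𝔫

theorem map_primeCompl (𝔫 : Ideal B) [𝔫.IsPrime] :
    Submonoid.map (algebraMap P.toExtension.Ring B) (𝔫.comap (algebraMap P.toExtension.Ring B)).primeCompl =
      𝔫.primeCompl := by
  ext x
  constructor
  · rintro ⟨r, hr, rfl⟩
    exact hr
  · intro hx
    obtain ⟨r, rfl⟩ := P.toExtension.algebraMap_surjective x
    exact ⟨r, hx, rfl⟩

theorem ker_gloc (𝔫 : Ideal B) [𝔫.IsPrime] :
    RingHom.ker (algebraMap (Aloc P 𝔫) (Localization.AtPrime 𝔫)) =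
      Ideal.span (Set.range fun s => algebraMap P.toExtension.Ring (Aloc P 𝔫) (rel P s)) := by
  have h1 := IsLocalization.ker_map (S := Aloc P 𝔫) (Localization.AtPrime 𝔫)
    (algebraMap P.toExtension.Ring B) (map_primeCompl P 𝔫)
  have h2 : RingHom.ker (algebraMap P.toExtension.Ring B) = Ideal.span (Set.range (rel P)) :=
    P.span_range_relation_eq_ker.symm
  rw [h2, Ideal.map_span, ← Set.range_comp] at h1
  exact h1

theorem isLocalization_mv (𝔫 : Ideal B) [𝔫.IsPrime] :
    IsLocalization (𝔫.comap (algebraMap P.toExtension.Ring B)).primeCompl (MvPolynomial PEmpty.{u+1} (Aloc P 𝔫)) :=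
  IsLocalization.isLocalization_of_algEquiv _
    ((MvPolynomial.isEmptyAlgEquiv (Aloc P 𝔫) PEmpty.{u+1}).symm.restrictScalars P.toExtension.Ring)

theorem trivRel_eq_triv : trivRel P = Groth.Agent.Lib.SyzLoc.triv (rel P) := rfl

theorem syz_of_regular [Finite ι]
    (hreg : ∀ (p : Ideal B) [p.IsPrime], IsRegularLocalRing (Localization.AtPrime p))
    (q : relMod P) (hq : q ∈ relKer P) (hc : ∀ s, q s ∈ P.toExtension.ker) : q ∈ trivRel P := by
  classical
  by_contra hcon
  let 𝔞 : Ideal P.toExtension.Ring :=
    { carrier := {r | r • q ∈ trivRel P}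
      add_mem' := fun {a b} ha hb => by
        change (a + b) • q ∈ trivRel P
        rw [add_smul]
        exact Submodule.add_mem _ ha hb
      zero_mem' := by
        change (0 : P.toExtension.Ring) • q ∈ trivRel P
        rw [zero_smul]
        exact Submodule.zero_mem _
      smul_mem' := fun c {a} ha => by
        change (c • a) • q ∈ trivRel P
        rw [smul_assoc]
        exact Submodule.smul_mem _ _ ha }
  have h𝔞 : ∀ r, r ∈ 𝔞 ↔ r • q ∈ trivRel P := fun r => Iff.rfl
  have hI𝔞 : RingHom.ker (algebraMap P.toExtension.Ring B) ≤ 𝔞 := by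
    intro i hi
    exact Groth.Agent.Lib.T2Syz.smul_mem_trivRel P hi hq
  have h𝔞top : 𝔞 ≠ ⊤ := by
    intro h
    have : (1 : P.toExtension.Ring) ∈ 𝔞 := h ▸ Submodule.mem_top
    rw [h𝔞, one_smul] at this
    exact hcon this
  have hmap : 𝔞.map (algebraMap P.toExtension.Ring B) ≠ ⊤ := by
    intro h
    have h1 := Ideal.comap_map_of_surjective (algebraMap P.toExtension.Ring B)
      P.toExtension.algebraMap_surjective 𝔞
    rw [h, Ideal.comap_top] at h1
    have h2 : 𝔞 ⊔ Ideal.comap (algebraMap P.toExtension.Ring B) ⊥ = 𝔞 := sup_eq_left.mpr hI𝔞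
    rw [h2] at h1
    exact h𝔞top h1.symm
  obtain ⟨𝔫, h𝔫max, h𝔫le⟩ := Ideal.exists_le_maximal _ hmap
  haveI : 𝔫.IsPrime := h𝔫max.isPrime
  have h𝔞𝔪 : 𝔞 ≤ 𝔫.comap (algebraMap P.toExtension.Ring B) := Ideal.map_le_iff_le_comap.mp h𝔫le
  haveI : IsRegularLocalRing (Localization.AtPrime 𝔫) := hreg 𝔫
  haveI : IsRegularRing P.toExtension.Ring :=
    inferInstanceAs (IsRegularRing (MvPolynomial ι k))
  haveI : IsRegularLocalRing (Aloc P 𝔫) := IsRegularRing.isRegularLocalRing_localization _
  -- the image of q
  let q'' : σ →₀ MvPolynomial PEmpty.{u+1} (Aloc P 𝔫) :=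
    Finsupp.mapRange (algebraMap P.toExtension.Ring (MvPolynomial PEmpty.{u+1} (Aloc P 𝔫))) (map_zero _) q
  have hq'' : Finsupp.linearCombination (MvPolynomial PEmpty.{u+1} (Aloc P 𝔫))
      (fun s => (MvPolynomial.C (algebraMap P.toExtension.Ring (Aloc P 𝔫) (rel P s)) :
        MvPolynomial PEmpty.{u+1} (Aloc P 𝔫))) q'' = 0 := by
    have := Groth.Agent.Lib.SyzLoc.linearCombination_mapRange (R₂ := MvPolynomial PEmpty.{u+1} (Aloc P 𝔫)) (rel P) q
    have hq0 : Finsupp.linearCombination P.toExtension.Ring (rel P) q = 0 := hq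
    rw [hq0, map_zero] at this
    exact this
  have hc'' : ∀ s, ∃ a : Aloc P 𝔫, q'' s = MvPolynomial.C a ∧
      algebraMap (Aloc P 𝔫) (Localization.AtPrime 𝔫) a = 0 := by
    intro s
    refine ⟨algebraMap P.toExtension.Ring (Aloc P 𝔫) (q s), rfl, ?_⟩
    change gloc P 𝔫 (algebraMap P.toExtension.Ring (Aloc P 𝔫) (q s)) = 0
    rw [gloc, Localization.localRingHom_to_map]
    have : algebraMap P.toExtension.Ring B (q s) = 0 := hc s
    rw [this, map_zero]
  have h3 := local_syz' (gloc_surjective P 𝔫) _ (ker_gloc P 𝔫) q'' hq'' hc''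
  haveI := isLocalization_mv P 𝔫
  obtain ⟨s, hs, hsq⟩ := Groth.Agent.Lib.SyzLoc.exists_smul_mem_triv
    (R₂ := MvPolynomial PEmpty.{u+1} (Aloc P 𝔫)) (rel P)
    (𝔫.comap (algebraMap P.toExtension.Ring B)).primeCompl q h3
  exact hs (h𝔞𝔪 ((h𝔞 s).mpr hsq))

/-- **`T² = 0` for a regular finite type algebra over a field** (given that the conormal module is projective). -/
theorem subsingleton_T2_of_regular [Finite ι]
    (hreg : ∀ (p : Ideal B) [p.IsPrime], IsRegularLocalRing (Localization.AtPrime p))
    [Module.Projective B P.toExtension.Cotangent] (M : Type m) [AddCommGroup M] [Module B M] :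
    Subsingleton (T2 P M) :=
  Groth.Agent.Lib.T2Syz.subsingleton_T2_of_syz P (syz_of_regular P hreg) M

end Global

end Groth.Agent.Lib.SmoothT2
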