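import Mathlib.RingTheory.Smooth.Basic
import Mathlib.RingTheory.Etale.Basic
import Mathlib.RingTheory.Kaehler.JacobiZariski

set_option autoImplicit false

namespace Groth.Agent.Lib.SmoothTower

open TensorProduct KaehlerDifferential

universe u₁ u₂ u₃

variable (R : Type u₁) (S : Type u₂) (T : Type u₃) [CommRing R] [CommRing S] [CommRing T]
  [Algebra R S] [Algebra R T] [Algebra S T] [IsScalarTower R S T]

/-- If `H¹(L_{T/R}) = 0`, then `H¹(L_{T/S}) = 0` iff `T ⊗[S] Ω[S⁄R] → Ω[T⁄R]` is injective. -/
theorem subsingleton_h1Cotangent_iff [Subsingleton (Algebra.H1Cotangent R T)] :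
    Subsingleton (Algebra.H1Cotangent S T) ↔ Function.Injective (mapBaseChange R S T) := by
  constructor
  · intro h
    rw [injective_iff_map_eq_zero]
    intro x hx
    obtain ⟨y, rfl⟩ := (Algebra.H1Cotangent.exact_δ_mapBaseChange R S T x).mp hx
    rw [Subsingleton.elim y 0, map_zero]
  · intro h
    refine ⟨fun a b => ?_⟩
    have hδ : ∀ y, Algebra.H1Cotangent.δ R S T y = 0 := fun y =>
      h (by rw [(Algebra.H1Cotangent.exact_δ_mapBaseChange R S T).apply_apply_eq_zero, map_zero])
    have h0 : ∀ y : Algebra.H1Cotangent S T, y = 0 := fun y => by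
      obtain ⟨z, rfl⟩ := (Algebra.H1Cotangent.exact_map_δ R S T y).mp (hδ y)
      rw [Subsingleton.elim z 0, map_zero]
    rw [h0 a, h0 b]

/-- Jacobian criterion for towers: if `T` is formally smooth over `R`, then `T` is formally
smooth over `S` iff `T ⊗[S] Ω[S⁄R] → Ω[T⁄R]` is split injective. -/
theorem formallySmooth_iff_split [Algebra.FormallySmooth R T] :
    Algebra.FormallySmooth S T ↔
      ∃ r : Ω[T⁄R] →ₗ[T] T ⊗[S] Ω[S⁄R], r ∘ₗ mapBaseChange R S T = LinearMap.id := by
  have hex := KaehlerDifferential.exact_mapBaseChange_map R S T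
  have hsurj : Function.Surjective (KaehlerDifferential.map R S T T) :=
    KaehlerDifferential.map_surjective R S T
  rw [Algebra.formallySmooth_iff]
  constructor
  · rintro ⟨hproj, hH1⟩
    have hinj := (subsingleton_h1Cotangent_iff R S T).mp hH1
    obtain ⟨l, hl⟩ := Module.projective_lifting_property (KaehlerDifferential.map R S T T)
      LinearMap.id hsurj
    exact ((hex.split_tfae'.out 0 1 rfl rfl).mp ⟨hinj, l, hl⟩).2
  · rintro ⟨r, hr⟩
    have hinj : Function.Injective (mapBaseChange R S T) := by
      intro x y hxy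
      have := congrArg r hxy
      rwa [← LinearMap.comp_apply, ← LinearMap.comp_apply, hr] at this
    obtain ⟨-, l, hl⟩ := (hex.split_tfae'.out 1 0 rfl rfl).mp ⟨hsurj, r, hr⟩
    exact ⟨Module.Projective.of_split l _ hl, (subsingleton_h1Cotangent_iff R S T).mpr hinj⟩

/-- If `T` is formally smooth over `R`, then `T` is formally etale over `S` iff
`T ⊗[S] Ω[S⁄R] → Ω[T⁄R]` is bijective. -/
theorem formallyEtale_iff_bijective [Algebra.FormallySmooth R T] :
    Algebra.FormallyEtale S T ↔ Function.Bijective (mapBaseChange R S T) := by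
  have hex := KaehlerDifferential.exact_mapBaseChange_map R S T
  have hsurj : Function.Surjective (KaehlerDifferential.map R S T T) :=
    KaehlerDifferential.map_surjective R S T
  rw [Algebra.FormallyEtale.iff_formallyUnramified_and_formallySmooth,
    Algebra.formallyUnramified_iff, Algebra.formallySmooth_iff]
  constructor
  · rintro ⟨hΩ, -, hH1⟩
    refine ⟨(subsingleton_h1Cotangent_iff R S T).mp hH1, fun x => ?_⟩
    exact (hex x).mp (Subsingleton.elim _ _)
  · rintro ⟨hinj, hsur⟩
    have hΩ : Subsingleton Ω[T⁄S] := by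
      refine ⟨fun a b => ?_⟩
      have h0 : ∀ y : Ω[T⁄S], y = 0 := fun y => by
        obtain ⟨z, rfl⟩ := hsurj y
        obtain ⟨w, rfl⟩ := hsur z
        exact hex.apply_apply_eq_zero w
      rw [h0 a, h0 b]
    exact ⟨hΩ, inferInstance, (subsingleton_h1Cotangent_iff R S T).mpr hinj⟩

end Groth.Agent.Lib.SmoothTower
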