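import Groth.Prelude.Def_W4stktopologysheavesDim
import Mathlib.Topology.Sober
import Mathlib.Topology.Spectral.Basic
import Mathlib.Topology.NoetherianSpace

set_option autoImplicit false
universe u

namespace Groth.Agent.Lib.Sob

open TopologicalSpace PtTop

variable {X : Type u} [TopologicalSpace X]

/-- View a point of the soberification as an irreducible closed subset. -/
def toIrr (Z : Sob X) : IrreducibleCloseds X := Z

/-- The set of irreducible closed subsets meeting `U`. -/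
def meet (U : Set X) : Set (Sob X) :=
  {Z : Sob X | ((toIrr Z : Set X) ∩ U).Nonempty}

lemma mem_meet {U : Set X} {Z : Sob X} :
    Z ∈ meet U ↔ ((toIrr Z : Set X) ∩ U).Nonempty := Iff.rfl

lemma meet_univ : meet (Set.univ : Set X) = Set.univ := by
  ext Z
  simp only [mem_meet, Set.inter_univ, Set.mem_univ, iff_true]
  exact (toIrr Z).isIrreducible.nonempty

lemma meet_inter {U V : Set X} (hU : IsOpen U) (hV : IsOpen V) :
    meet (U ∩ V) = meet U ∩ meet V := by
  ext Z
  constructor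
  · rintro ⟨x, hxZ, hxU, hxV⟩
    exact ⟨⟨x, hxZ, hxU⟩, ⟨x, hxZ, hxV⟩⟩
  · rintro ⟨h1, h2⟩
    have := (toIrr Z).isIrreducible.isPreirreducible U V hU hV h1 h2
    rwa [mem_meet]

lemma meet_sUnion (𝒰 : Set (Set X)) : meet (⋃₀ 𝒰) = ⋃₀ (meet '' 𝒰) := by
  ext Z
  constructor
  · rintro ⟨x, hxZ, U, hU, hxU⟩
    exact ⟨meet U, ⟨U, hU, rfl⟩, ⟨x, hxZ, hxU⟩⟩
  · rintro ⟨_, ⟨U, hU, rfl⟩, x, hxZ, hxU⟩
    exact ⟨x, hxZ, U, hU, hxU⟩

lemma meet_mono {U V : Set X} (h : U ⊆ V) : meet U ⊆ meet V := by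
  rintro Z ⟨x, hxZ, hxU⟩
  exact ⟨x, hxZ, h hxU⟩

lemma isOpen_meet {U : Set X} (hU : IsOpen U) : IsOpen (meet U) :=
  TopologicalSpace.GenerateOpen.basic _ ⟨⟨U, hU⟩, rfl⟩

lemma isOpen_iff {A : Set (Sob X)} : IsOpen A ↔ ∃ U : Set X, IsOpen U ∧ A = meet U := by
  constructor
  · intro hA
    induction hA with
    | basic s hs =>
      obtain ⟨U, rfl⟩ := hs
      exact ⟨U, U.2, rfl⟩
    | univ => exact ⟨Set.univ, isOpen_univ, meet_univ.symm⟩
    | inter s t _ _ hs ht =>
      obtain ⟨U, hU, rfl⟩ := hs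
      obtain ⟨V, hV, rfl⟩ := ht
      exact ⟨U ∩ V, hU.inter hV, (meet_inter hU hV).symm⟩
    | sUnion S _ ih =>
      choose U hU hSU using ih
      refine ⟨⋃₀ {V | ∃ (s : Set (Sob X)) (hs : s ∈ S), V = U s hs}, ?_, ?_⟩
      · apply isOpen_sUnion
        rintro V ⟨s, hs, rfl⟩
        exact hU s hs
      · rw [meet_sUnion]
        ext Z
        constructor
        · rintro ⟨s, hs, hZs⟩
          refine ⟨meet (U s hs), ⟨U s hs, ⟨s, hs, rfl⟩, rfl⟩, ?_⟩
          rw [← hSU s hs]; exact hZs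
        · rintro ⟨_, ⟨V, ⟨s, hs, rfl⟩, rfl⟩, hZ⟩
          refine ⟨s, hs, ?_⟩
          rw [hSU s hs]; exact hZ
  · rintro ⟨U, hU, rfl⟩
    exact isOpen_meet hU

lemma toSob_preimage_meet {U : Set X} (hU : IsOpen U) : toSob X ⁻¹' meet U = U := by
  ext x
  constructor
  · rintro ⟨y, hy, hyU⟩
    have hy' : y ∈ closure ({x} : Set X) := hy
    rw [mem_closure_iff] at hy'
    obtain ⟨z, hzU, hz⟩ := hy' U hU hyU
    rw [Set.mem_singleton_iff] at hz
    rwa [← hz]
  · intro hx
    exact ⟨x, subset_closure (Set.mem_singleton x), hx⟩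

lemma continuous_toSob : Continuous (toSob X) := by
  refine ⟨fun A hA => ?_⟩
  obtain ⟨U, hU, rfl⟩ := isOpen_iff.mp hA
  rw [toSob_preimage_meet hU]
  exact hU

lemma meet_injective {U V : Set X} (hU : IsOpen U) (hV : IsOpen V) (h : meet U = meet V) :
    U = V := by
  rw [← toSob_preimage_meet hU, ← toSob_preimage_meet hV, h]

/-- The closed set of irreducible closed subsets contained in `C`. -/
def within (C : Set X) : Set (Sob X) :=
  {Z : Sob X | (toIrr Z : Set X) ⊆ C}

lemma within_eq_compl_meet (C : Set X) : within C = (meet Cᶜ)ᶜ := by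
  ext Z
  simp only [within, Set.mem_compl_iff, mem_meet, Set.not_nonempty_iff_eq_empty]
  show (toIrr Z : Set X) ⊆ C ↔ _
  constructor
  · intro h
    ext x
    simp only [Set.mem_inter_iff, Set.mem_compl_iff, Set.mem_empty_iff_false, iff_false, not_and,
      not_not]
    exact fun hx => h hx
  · intro h x hx
    by_contra hxC
    have : x ∈ (toIrr Z : Set X) ∩ Cᶜ := ⟨hx, hxC⟩
    rw [h] at this
    exact this

lemma isClosed_within {C : Set X} (hC : IsClosed C) : IsClosed (within C) := by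
  rw [within_eq_compl_meet]
  exact (isOpen_meet hC.isOpen_compl).isClosed_compl

lemma isClosed_iff {A : Set (Sob X)} : IsClosed A ↔ ∃ C : Set X, IsClosed C ∧ A = within C := by
  constructor
  · intro hA
    obtain ⟨U, hU, hAU⟩ := isOpen_iff.mp hA.isOpen_compl
    refine ⟨Uᶜ, hU.isClosed_compl, ?_⟩
    rw [within_eq_compl_meet, compl_compl, ← hAU, compl_compl]
  · rintro ⟨C, hC, rfl⟩
    exact isClosed_within hC

lemma toIrr_injective : Function.Injective (toIrr : Sob X → IrreducibleCloseds X) :=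
  fun _ _ h => h

lemma ext_sob {Z Z' : Sob X} (h : (toIrr Z : Set X) = toIrr Z') : Z = Z' :=
  toIrr_injective (SetLike.coe_injective h)

theorem t0Space : T0Space (Sob X) := by
  refine ⟨fun Z Z' h => ?_⟩
  rw [inseparable_iff_forall_isOpen] at h
  have key : ∀ Z Z' : Sob X, (∀ s, IsOpen s → (Z ∈ s ↔ Z' ∈ s)) →
      (toIrr Z : Set X) ⊆ toIrr Z' := by
    intro Z Z' h x hx
    by_contra hx'
    have hU : IsOpen ((toIrr Z' : Set X)ᶜ) := (toIrr Z').isClosed.isOpen_compl
    have h1 : Z ∈ meet ((toIrr Z' : Set X)ᶜ) := ⟨x, hx, hx'⟩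
    obtain ⟨y, hy, hy'⟩ := (h _ (isOpen_meet hU)).mp h1
    exact hy' hy
  exact ext_sob (Set.Subset.antisymm (key Z Z' h) (key Z' Z fun s hs => (h s hs).symm))

theorem quasiSober : QuasiSober (Sob X) := by
  refine ⟨fun {T} hT hTc => ?_⟩
  obtain ⟨C, hC, rfl⟩ := isClosed_iff.mp hTc
  set C' : Set X := closure (⋃ Z ∈ within C, (toIrr Z : Set X)) with hC'
  have hsub : ∀ Z ∈ within C, (toIrr Z : Set X) ⊆ C' := fun Z hZ =>
    (Set.subset_biUnion_of_mem (u := fun Z : Sob X => (toIrr Z : Set X)) hZ).trans subset_closure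
  have hC'C : C' ⊆ C := closure_minimal (Set.iUnion₂_subset fun Z hZ => hZ) hC
  have hirr : IsIrreducible C' := by
    refine ⟨?_, ?_⟩
    · obtain ⟨Z₀, hZ₀⟩ := hT.nonempty
      obtain ⟨x, hx⟩ := (toIrr Z₀).isIrreducible.nonempty
      exact ⟨x, hsub Z₀ hZ₀ hx⟩
    · rw [isPreirreducible_iff_isClosed_union_isClosed]
      intro A B hA hB hAB
      have h1 : within C ⊆ within A ∪ within B := by
        intro Z hZ
        have hZAB : (toIrr Z : Set X) ⊆ A ∪ B := (hsub Z hZ).trans hAB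
        rcases (isPreirreducible_iff_isClosed_union_isClosed.mp
          (toIrr Z).isIrreducible.isPreirreducible) A B hA hB hZAB with h | h
        · exact Or.inl h
        · exact Or.inr h
      rcases (isPreirreducible_iff_isClosed_union_isClosed.mp hT.isPreirreducible)
        (within A) (within B) (isClosed_within hA) (isClosed_within hB) h1 with h | h
      · exact Or.inl (closure_minimal (Set.iUnion₂_subset fun Z hZ => h hZ) hA)
      · exact Or.inr (closure_minimal (Set.iUnion₂_subset fun Z hZ => h hZ) hB)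
  let P : Sob X := (⟨C', hirr, isClosed_closure⟩ : IrreducibleCloseds X)
  refine ⟨P, ?_⟩
  rw [isGenericPoint_iff_forall_closed (isClosed_within hC) (show P ∈ within C from hC'C)]
  intro A hA hPA
  obtain ⟨D, hD, rfl⟩ := isClosed_iff.mp hA
  intro Z hZ
  exact (hsub Z hZ).trans hPA

lemma isCompact_meet {U : Set X} (hU : IsOpen U) (hUc : IsCompact U) : IsCompact (meet U) := by
  apply isCompact_of_finite_subcover
  intro ι V hV hcov
  have hV' : ∀ i, ∃ W : Set X, IsOpen W ∧ V i = meet W := fun i => isOpen_iff.mp (hV i)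
  choose W hW hVW using hV'
  have hUW : U ⊆ ⋃ i, W i := by
    intro x hx
    have h1 : toSob X x ∈ meet U := by
      rw [← Set.mem_preimage, toSob_preimage_meet hU]; exact hx
    obtain ⟨i, hi⟩ := Set.mem_iUnion.mp (hcov h1)
    rw [hVW i, ← Set.mem_preimage, toSob_preimage_meet (hW i)] at hi
    exact Set.mem_iUnion.mpr ⟨i, hi⟩
  obtain ⟨t, ht⟩ := hUc.elim_finite_subcover W hW hUW
  refine ⟨t, ?_⟩
  rintro Z ⟨x, hxZ, hxU⟩
  obtain ⟨i, hit, hxi⟩ := Set.mem_iUnion₂.mp (ht hxU)
  refine Set.mem_iUnion₂.mpr ⟨i, hit, ?_⟩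
  rw [hVW i]
  exact ⟨x, hxZ, hxi⟩

lemma isCompact_of_isCompact_meet {U : Set X} (hU : IsOpen U) (hUc : IsCompact (meet U)) :
    IsCompact U := by
  apply isCompact_of_finite_subcover
  intro ι W hW hcov
  have hcov' : meet U ⊆ ⋃ i, meet (W i) := by
    rintro Z ⟨x, hxZ, hxU⟩
    obtain ⟨i, hi⟩ := Set.mem_iUnion.mp (hcov hxU)
    exact Set.mem_iUnion.mpr ⟨i, x, hxZ, hi⟩
  obtain ⟨t, ht⟩ := hUc.elim_finite_subcover (fun i => meet (W i)) (fun i => isOpen_meet (hW i))
    hcov'
  refine ⟨t, ?_⟩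
  intro x hx
  have h1 : toSob X x ∈ meet U := by
    rw [← Set.mem_preimage, toSob_preimage_meet hU]; exact hx
  obtain ⟨i, hit, hi⟩ := Set.mem_iUnion₂.mp (ht h1)
  rw [← Set.mem_preimage, toSob_preimage_meet (hW i)] at hi
  exact Set.mem_iUnion₂.mpr ⟨i, hit, hi⟩

theorem compactSpace [CompactSpace X] : CompactSpace (Sob X) := by
  refine ⟨?_⟩
  rw [← meet_univ]
  exact isCompact_meet isOpen_univ isCompact_univ

theorem quasiSeparatedSpace [QuasiSeparatedSpace X] : QuasiSeparatedSpace (Sob X) := by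
  rw [quasiSeparatedSpace_iff]
  intro A B hA hAc hB hBc
  obtain ⟨U, hU, rfl⟩ := isOpen_iff.mp hA
  obtain ⟨V, hV, rfl⟩ := isOpen_iff.mp hB
  rw [← meet_inter hU hV]
  refine isCompact_meet (hU.inter hV) ?_
  exact (quasiSeparatedSpace_iff X).mp inferInstance U V hU (isCompact_of_isCompact_meet hU hAc)
    hV (isCompact_of_isCompact_meet hV hBc)

theorem prespectralSpace [PrespectralSpace X] : PrespectralSpace (Sob X) := by
  refine ⟨?_⟩
  refine TopologicalSpace.isTopologicalBasis_of_isOpen_of_nhds (fun A hA => hA.1) ?_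
  intro Z A hZA hA
  obtain ⟨W, hW, rfl⟩ := isOpen_iff.mp hA
  obtain ⟨x, hxZ, hxW⟩ := hZA
  obtain ⟨U, ⟨hU, hUc⟩, hxU, hUW⟩ :=
    (PrespectralSpace.isTopologicalBasis (X := X)).exists_subset_of_mem_open hxW hW
  exact ⟨meet U, ⟨isOpen_meet hU, isCompact_meet hU hUc⟩, ⟨x, hxZ, hxU⟩, meet_mono hUW⟩

theorem spectralSpace [CompactSpace X] [PrespectralSpace X] [QuasiSeparatedSpace X] :
    SpectralSpace (Sob X) where
  __ := t0Space
  __ := compactSpace
  __ := quasiSober
  __ := quasiSeparatedSpace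
  __ := prespectralSpace

theorem noetherianSpace [NoetherianSpace X] : NoetherianSpace (Sob X) := by
  rw [noetherianSpace_iff_opens]
  intro A
  obtain ⟨U, hU, hAU⟩ := isOpen_iff.mp A.2
  show IsCompact A.carrier
  rw [hAU]
  exact isCompact_meet hU (NoetherianSpace.isCompact U)

section Lift

variable {Y : Type*} [TopologicalSpace Y] [QuasiSober Y]

/-- The extension of a continuous map to a quasi-sober space along the soberification. -/
noncomputable def lift (f : X → Y) (hf : Continuous f) : Sob X → Y := fun Z =>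
  ((toIrr Z).isIrreducible.image f hf.continuousOn).genericPoint

lemma isGenericPoint_lift (f : X → Y) (hf : Continuous f) (Z : Sob X) :
    IsGenericPoint (lift f hf Z) (closure (f '' (toIrr Z : Set X))) :=
  ((toIrr Z).isIrreducible.image f hf.continuousOn).isGenericPoint_genericPoint_closure

lemma lift_preimage (f : X → Y) (hf : Continuous f) {V : Set Y} (hV : IsOpen V) :
    lift f hf ⁻¹' V = meet (f ⁻¹' V) := by
  ext Z
  rw [Set.mem_preimage, (isGenericPoint_lift f hf Z).mem_open_set_iff hV,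
    closure_inter_open_nonempty_iff hV, mem_meet]
  constructor
  · rintro ⟨_, ⟨x, hx, rfl⟩, hxV⟩
    exact ⟨x, hx, hxV⟩
  · rintro ⟨x, hx, hxV⟩
    exact ⟨f x, ⟨x, hx, rfl⟩, hxV⟩

lemma continuous_lift (f : X → Y) (hf : Continuous f) : Continuous (lift f hf) :=
  ⟨fun V hV => by rw [lift_preimage f hf hV]; exact isOpen_meet (hV.preimage hf)⟩

lemma lift_toSob [T0Space Y] (f : X → Y) (hf : Continuous f) (x : X) :
    lift f hf (toSob X x) = f x := by
  apply (isGenericPoint_lift f hf (toSob X x)).eq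
  rw [isGenericPoint_def]
  apply Set.Subset.antisymm
  · apply closure_mono
    rw [Set.singleton_subset_iff]
    exact ⟨x, subset_closure (Set.mem_singleton x), rfl⟩
  · apply closure_minimal _ isClosed_closure
    show f '' closure ({x} : Set X) ⊆ closure {f x}
    refine (image_closure_subset_closure_image hf).trans ?_
    rw [Set.image_singleton]

end Lift

end Groth.Agent.Lib.Sob
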