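import Groth.Agent.Lib.DepthRees
import Groth.Agent.Lib.HartogsAlg

/-!
# Lifting socle elements along an injection with source of depth ≥ 2 (helper63)

* `exists_regular_pair_of_depth` : `depth P ≥ 2` ⇒ a `P`-regular pair `a, b` in the maximal ideal.
* `exists_socle_of_regular_pair` : `ψ : P → Q` injective, `a, b ∈ 𝔪` a `P`-regular pair, `g ∈ Q` not
  in the image of `ψ` but `𝔪 g ⊆ ψ(P)`; then `Q` has a nonzero element killed by `𝔪`.
-/

set_option autoImplicit false
universe u v

namespace Groth.Agent.Lib.SocleLift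

open IsLocalRing RingTheory.Sequence Pointwise

variable {A : Type u} [CommRing A] [IsLocalRing A]

theorem exists_regular_pair_of_depth (P : Type v) [AddCommGroup P] [Module A P] [Module.Finite A P]
    (h : (2 : ℕ∞) ≤ LocCoh.depth A P) :
    ∃ a ∈ maximalIdeal A, ∃ b ∈ maximalIdeal A,
      IsSMulRegular P a ∧ IsSMulRegular (QuotSMulTop a P) b := by
  rcases subsingleton_or_nontrivial P with hP | hP
  · refine ⟨0, Ideal.zero_mem _, 0, Ideal.zero_mem _, ?_, ?_⟩
    · intro u v _
      exact Subsingleton.elim u v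
    · intro u v _
      exact Subsingleton.elim u v
  · obtain ⟨rs, hlen, hmem, hreg⟩ := (DepthRees.natCast_le_depth_iff P 2).mp (by exact_mod_cast h)
    match rs, hlen with
    | [a, b], _ =>
      rw [isWeaklyRegular_cons_iff] at hreg
      obtain ⟨ha, hreg'⟩ := hreg
      rw [isWeaklyRegular_cons_iff] at hreg'
      exact ⟨a, hmem a (by simp), b, hmem b (by simp), ha, hreg'.1⟩

theorem exists_socle_of_regular_pair {P : Type v} {Q : Type v} [AddCommGroup P] [Module A P]
    [AddCommGroup Q] [Module A Q] (ψ : P →ₗ[A] Q) (hψ : Function.Injective ψ) (a b : A)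
    (ham : a ∈ maximalIdeal A) (hbm : b ∈ maximalIdeal A)
    (ha : IsSMulRegular P a) (hb : IsSMulRegular (QuotSMulTop a P) b)
    (g : Q) (hg : g ∉ LinearMap.range ψ)
    (hmg : ∀ c ∈ maximalIdeal A, c • g ∈ LinearMap.range ψ) :
    ∃ g' : Q, g' ≠ 0 ∧ ∀ c ∈ maximalIdeal A, c • g' = 0 := by
  obtain ⟨u, hu⟩ := hmg a ham
  obtain ⟨v, hv⟩ := hmg b hbm
  have h1 : b • u = a • v := by
    apply hψ
    rw [map_smul, map_smul, hu, hv, smul_smul, smul_smul, mul_comm]
  obtain ⟨f, hf⟩ := (HartogsAlg.isSMulRegular_quotSMulTop_iff a b).mp hb u ⟨v, h1⟩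
  have hag : a • (g - ψ f) = 0 := by
    rw [smul_sub, ← map_smul, ← hf, hu, sub_self]
  refine ⟨g - ψ f, ?_, ?_⟩
  · intro h0
    apply hg
    rw [sub_eq_zero] at h0
    exact ⟨f, h0.symm⟩
  · intro c hc
    obtain ⟨w, hw⟩ := hmg c hc
    have hw' : ψ (w - c • f) = c • (g - ψ f) := by
      rw [map_sub, hw, map_smul, smul_sub]
    have h2 : ψ (a • (w - c • f)) = 0 := by
      rw [map_smul, hw', smul_comm, hag, smul_zero]
    have h3 : a • (w - c • f) = 0 := hψ (h2.trans (map_zero ψ).symm)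
    have h4 : w - c • f = 0 := ha (h3.trans (smul_zero a).symm)
    rw [← hw', h4, map_zero]

end Groth.Agent.Lib.SocleLift
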