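import Mathlib

/-!
# Exchanging systems of parameters one element at a time (helper33)

`S` a Noetherian ring, `𝔪` a maximal ideal.  A family `z : ι → S` is a *system of parameters at `𝔪`*
(`IsSop 𝔪 z`) if `𝔪` is a minimal prime over the ideal spanned by `z`.

* `isSop_update`: replacing `z k` by an element `r ∈ 𝔪` avoiding the minimal primes `≠ 𝔪` of the
  ideal spanned by the other `z i` keeps the property.
* `exists_avoid`: such an `r` exists, simultaneously for two families.
* `reflTransGen_of_isSop`: two systems of parameters at `𝔪` indexed by the same finite type are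
  connected by a chain of systems of parameters, consecutive ones differing in at most one index.
-/

set_option autoImplicit false
set_option linter.unusedSectionVars false
universe u v

namespace Groth.Agent.Lib.SopChain33

variable {S : Type u} [CommRing S] (𝔪 : Ideal S)

/-- `𝔪` is a minimal prime over the ideal spanned by the family `z`. -/
def IsSop {ι : Type v} (z : ι → S) : Prop := 𝔪 ∈ (Ideal.span (Set.range z)).minimalPrimes

variable {𝔪}

theorem IsSop.mem {ι : Type v} {z : ι → S} (hz : IsSop 𝔪 z) (i : ι) : z i ∈ 𝔪 :=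
  hz.1.2 (Ideal.subset_span (Set.mem_range_self i))

variable [IsNoetherianRing S] [h𝔪 : 𝔪.IsMaximal]

/-- Krull: replacing one parameter. -/
theorem mem_minimalPrimes_insert {x r : S} {s : Set S}
    (hx : 𝔪 ∈ (Ideal.span (insert x s)).minimalPrimes) (hr : r ∈ 𝔪)
    (havoid : ∀ Q ∈ (Ideal.span s).minimalPrimes, Q ≠ 𝔪 → r ∉ Q) :
    𝔪 ∈ (Ideal.span (insert r s)).minimalPrimes := by
  have hs𝔪 : s ⊆ 𝔪 := fun y hy => hx.1.2 (Ideal.subset_span (Set.mem_insert_of_mem x hy))
  refine ⟨⟨h𝔪.isPrime, ?_⟩, ?_⟩
  · rw [Ideal.span_le, Set.insert_subset_iff]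
    exact ⟨hr, hs𝔪⟩
  · rintro P ⟨hP, hle⟩ hP𝔪
    by_contra hcon
    have hlt : P < 𝔪 := lt_of_le_of_ne hP𝔪 (fun h => hcon h.ge)
    have hsP : s ⊆ P := fun y hy => hle (Ideal.subset_span (Set.mem_insert_of_mem r hy))
    have hmin : P ∈ (Ideal.span s).minimalPrimes :=
      Ideal.mem_minimalPrimes_span_of_mem_minimalPrimes_span_insert hlt x s hx s hsP
        (fun y hy => Ideal.le_radical (Ideal.subset_span (Set.mem_insert_of_mem x hy)))
    exact havoid P hmin hlt.ne (hle (Ideal.subset_span (Set.mem_insert r s)))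

variable {ι : Type v} [DecidableEq ι]

theorem range_update (z : ι → S) (k : ι) (r : S) :
    Set.range (Function.update z k r) = insert r (z '' {i | i ≠ k}) := by
  ext y
  constructor
  · rintro ⟨i, rfl⟩
    by_cases hik : i = k
    · subst hik
      rw [Function.update_self]
      exact Set.mem_insert _ _
    · rw [Function.update_of_ne hik]
      exact Set.mem_insert_of_mem _ ⟨i, hik, rfl⟩
  · rintro (rfl | ⟨i, hik, rfl⟩)
    · exact ⟨k, Function.update_self ..⟩
    · exact ⟨i, Function.update_of_ne hik ..⟩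

theorem range_eq_insert (z : ι → S) (k : ι) :
    Set.range z = insert (z k) (z '' {i | i ≠ k}) := by
  have := range_update z k (z k)
  rwa [Function.update_eq_self] at this

/-- Replacing `z k` by a suitable `r ∈ 𝔪` keeps a system of parameters. -/
theorem isSop_update {z : ι → S} (hz : IsSop 𝔪 z) (k : ι) {r : S} (hr : r ∈ 𝔪)
    (havoid : ∀ Q ∈ (Ideal.span (z '' {i | i ≠ k})).minimalPrimes, Q ≠ 𝔪 → r ∉ Q) :
    IsSop 𝔪 (Function.update z k r) := by
  unfold IsSop at hz ⊢
  rw [range_update]
  rw [range_eq_insert z k] at hz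
  exact mem_minimalPrimes_insert hz hr havoid

/-- Prime avoidance: an element of `𝔪` outside all minimal primes `≠ 𝔪` of two ideals. -/
theorem exists_avoid (I I' : Ideal S) :
    ∃ r ∈ 𝔪, (∀ Q ∈ I.minimalPrimes, Q ≠ 𝔪 → r ∉ Q) ∧ (∀ Q ∈ I'.minimalPrimes, Q ≠ 𝔪 → r ∉ Q) := by
  classical
  by_contra hcon
  push Not at hcon
  set PP : Set (Ideal S) := {Q | (Q ∈ I.minimalPrimes ∨ Q ∈ I'.minimalPrimes) ∧ Q ≠ 𝔪} with hPP
  have hfin : PP.Finite :=
    ((Ideal.finite_minimalPrimes_of_isNoetherianRing S I).union
      (Ideal.finite_minimalPrimes_of_isNoetherianRing S I')).subset fun Q hQ => hQ.1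
  have hsub : (𝔪 : Set S) ⊆ ⋃ Q ∈ PP, (Q : Set S) := by
    intro r hr
    by_cases h1 : ∀ Q ∈ I.minimalPrimes, Q ≠ 𝔪 → r ∉ Q
    · obtain ⟨Q, hQ, hQ𝔪, hrQ⟩ := hcon r hr h1
      exact Set.mem_biUnion (show Q ∈ PP from ⟨Or.inr hQ, hQ𝔪⟩) hrQ
    · push Not at h1
      obtain ⟨Q, hQ, hQ𝔪, hrQ⟩ := h1
      exact Set.mem_biUnion (show Q ∈ PP from ⟨Or.inl hQ, hQ𝔪⟩) hrQ
  obtain ⟨Q, hQ, hle⟩ := (Ideal.subset_union_prime_finite hfin (f := id) 0 0
    fun Q hQ _ _ => by
      rcases hQ.1 with h | h
      · exact h.1.1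
      · exact h.1.1).1 hsub
  have hQprime : Q.IsPrime := by
    rcases hQ.1 with h | h
    · exact h.1.1
    · exact h.1.1
  exact hQ.2 (h𝔪.eq_of_le hQprime.ne_top hle).symm

/-- The one-step relation between systems of parameters. -/
def Step (𝔪 : Ideal S) (z z' : ι → S) : Prop :=
  IsSop 𝔪 z ∧ IsSop 𝔪 z' ∧ ∃ i, ∀ i', i' ≠ i → z i' = z' i'

variable [Fintype ι]

/-- **Exchange.** Two systems of parameters at `𝔪` are connected by one-coordinate steps. -/
theorem reflTransGen_of_isSop (z z' : ι → S) (hz : IsSop 𝔪 z) (hz' : IsSop 𝔪 z') :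
    Relation.ReflTransGen (Step 𝔪) z z' := by
  classical
  generalize hn : (Finset.univ.filter fun i => z i ≠ z' i).card = n
  induction n generalizing z z' with
  | zero =>
    have : z = z' := by
      funext i
      by_contra hne
      have : i ∈ Finset.univ.filter fun i => z i ≠ z' i := by simp [hne]
      rw [Finset.card_eq_zero] at hn
      rw [hn] at this
      exact absurd this (Finset.notMem_empty i)
    rw [this]
  | succ n ih =>
    have hpos : 0 < (Finset.univ.filter fun i => z i ≠ z' i).card := by omega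
    obtain ⟨k, hk⟩ := Finset.card_pos.mp hpos
    have hk' : z k ≠ z' k := (Finset.mem_filter.mp hk).2
    obtain ⟨r, hr, h1, h2⟩ := exists_avoid (𝔪 := 𝔪) (Ideal.span (z '' {i | i ≠ k}))
      (Ideal.span (z' '' {i | i ≠ k}))
    have hz1 := isSop_update hz k hr h1
    have hz1' := isSop_update hz' k hr h2
    have hcard : (Finset.univ.filter fun i =>
        Function.update z k r i ≠ Function.update z' k r i).card = n := by
      have : (Finset.univ.filter fun i => Function.update z k r i ≠ Function.update z' k r i) =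
          (Finset.univ.filter fun i => z i ≠ z' i).erase k := by
        ext i
        simp only [Finset.mem_filter, Finset.mem_univ, true_and, Finset.mem_erase]
        by_cases hik : i = k
        · subst hik
          simp
        · rw [Function.update_of_ne hik, Function.update_of_ne hik]
          simp [hik]
      rw [this, Finset.card_erase_of_mem hk, hn]
      rfl
    have hmid := ih _ _ hz1 hz1' hcard
    have hfirst : Step 𝔪 z (Function.update z k r) :=
      ⟨hz, hz1, k, fun i' hi' => (Function.update_of_ne hi' ..).symm⟩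
    have hlast : Step 𝔪 (Function.update z' k r) z' :=
      ⟨hz1', hz', k, fun i' hi' => Function.update_of_ne hi' ..⟩
    exact (Relation.ReflTransGen.head hfirst hmid).tail hlast

end Groth.Agent.Lib.SopChain33
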