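import Mathlib
import Groth.Agent.Lib.SopChain33a
import Groth.Agent.Lib.CMQF33i
import Groth.Agent.Lib.FTDim
import Groth.Agent.S2082

/-!
# Systems of parameters and quasi-finite flat maps to affine space, ring level (helper33)

`k` a field, `S` a finite type `k`-algebra which is also an algebra over `P = k[T_i : i ∈ ι]`
(compatibly), `𝔪` a maximal ideal of `S`, `w i` the image of `T_i` and `c i ∈ k` with
`w i - c i ∈ 𝔪`.

* `isSop_and_height_of_quasiFinite_flat`: if `S` is quasi-finite and flat over `P`, then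
  `(w i - c i)` is a system of parameters at `𝔪` and `ht 𝔪 = #ι`.
* `exists_away_quasiFinite_flat_of_isSop`: conversely if `S_𝔪` is Cohen–Macaulay of dimension `#ι`
  and `(w i - c i)` is a system of parameters at `𝔪`, then `S_r` is quasi-finite and flat over `P` for
  some `r ∉ 𝔪`.
-/

set_option autoImplicit false
set_option linter.unusedSectionVars false
universe u

namespace Groth.Agent.Lib.SopChain33

open MvPolynomial IsLocalRing Groth.Agent.Lib.CMQF33

section Poly

variable {k : Type u} [Field k] {ι : Type u}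

theorem sub_C_eval_mem (c : ι → k) (f : MvPolynomial ι k) :
    f - C (eval c f) ∈ Ideal.span (Set.range fun i => (X i - C (c i) : MvPolynomial ι k)) := by
  induction f using MvPolynomial.induction_on with
  | C a => simp
  | add p q hp hq =>
    have : p + q - C (eval c (p + q)) = (p - C (eval c p)) + (q - C (eval c q)) := by
      rw [map_add, map_add]; ring
    rw [this]
    exact Ideal.add_mem _ hp hq
  | mul_X p i hp =>
    have : p * X i - C (eval c (p * X i)) =
        (p - C (eval c p)) * X i + C (eval c p) * (X i - C (c i)) := by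
      rw [map_mul, eval_X, map_mul]; ring
    rw [this]
    exact Ideal.add_mem _ (Ideal.mul_mem_right _ _ hp)
      (Ideal.mul_mem_left _ _ (Ideal.subset_span (Set.mem_range_self i)))

theorem span_X_sub_C_eq_ker (c : ι → k) :
    Ideal.span (Set.range fun i => (X i - C (c i) : MvPolynomial ι k)) =
      RingHom.ker (eval c : MvPolynomial ι k →+* k) := by
  apply le_antisymm
  · rw [Ideal.span_le]
    rintro _ ⟨i, rfl⟩
    simp [RingHom.mem_ker]
  · intro f hf
    rw [RingHom.mem_ker] at hf
    have := sub_C_eval_mem c f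
    rwa [hf, map_zero, sub_zero] at this

theorem isMaximal_span_X_sub_C (c : ι → k) :
    (Ideal.span (Set.range fun i => (X i - C (c i) : MvPolynomial ι k))).IsMaximal := by
  rw [span_X_sub_C_eq_ker]
  exact RingHom.ker_isMaximal_of_surjective _ fun a => ⟨C a, by simp⟩

end Poly

variable {k : Type u} [Field k] {ι : Type u} [Finite ι] {S : Type u} [CommRing S] [Algebra k S]
  [Algebra (MvPolynomial ι k) S] [IsScalarTower k (MvPolynomial ι k) S] [Algebra.FiniteType k S]
  (𝔪 : Ideal S) [h𝔪 : 𝔪.IsMaximal]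

theorem algebraMap_X_sub_C (c : ι → k) (i : ι) :
    algebraMap (MvPolynomial ι k) S (X i - C (c i)) =
      algebraMap (MvPolynomial ι k) S (X i) - algebraMap k S (c i) := by
  rw [map_sub, IsScalarTower.algebraMap_apply k (MvPolynomial ι k) S, MvPolynomial.algebraMap_eq]

/-- The prime of `P` under `𝔪` is the maximal ideal `(T_i - c_i)`. -/
theorem under_eq_span (c : ι → k)
    (hwc : ∀ i, algebraMap (MvPolynomial ι k) S (X i) - algebraMap k S (c i) ∈ 𝔪) :
    𝔪.under (MvPolynomial ι k) =
      Ideal.span (Set.range fun i => (X i - C (c i) : MvPolynomial ι k)) := by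
  have hle : Ideal.span (Set.range fun i => (X i - C (c i) : MvPolynomial ι k)) ≤
      𝔪.under (MvPolynomial ι k) := by
    rw [Ideal.span_le]
    rintro _ ⟨i, rfl⟩
    change algebraMap (MvPolynomial ι k) S (X i - C (c i)) ∈ 𝔪
    rw [algebraMap_X_sub_C]
    exact hwc i
  have hne : 𝔪.under (MvPolynomial ι k) ≠ ⊤ := Ideal.IsPrime.ne_top'
  exact ((isMaximal_span_X_sub_C c).eq_of_le hne hle).symm

theorem height_under (c : ι → k)
    (hwc : ∀ i, algebraMap (MvPolynomial ι k) S (X i) - algebraMap k S (c i) ∈ 𝔪) :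
    (𝔪.under (MvPolynomial ι k)).height = (Nat.card ι : ℕ∞) := by
  have hmax : (𝔪.under (MvPolynomial ι k)).IsMaximal := by
    rw [under_eq_span 𝔪 c hwc]
    exact isMaximal_span_X_sub_C c
  obtain ⟨n, hn, hm⟩ := Groth.Agent.Lib.FTDim.exists_ringKrullDim_eq k (MvPolynomial ι k)
  rw [hm _ hmax]
  have h1 : ringKrullDim (MvPolynomial ι k) = (Nat.card ι : WithBot ℕ∞) := by
    rw [MvPolynomial.ringKrullDim_of_isNoetherianRing, ringKrullDim_eq_zero_of_field, zero_add]
  rw [hn] at h1
  exact_mod_cast h1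

instance finiteType_mvPolynomial : Algebra.FiniteType (MvPolynomial ι k) S :=
  Algebra.FiniteType.of_restrictScalars_finiteType k _ S

/-- If `S` is quasi-finite and flat over `P`, the `w i - c i` form a system of parameters at `𝔪` and
`ht 𝔪 = #ι`. -/
theorem isSop_and_height_of_quasiFinite_flat [Algebra.QuasiFinite (MvPolynomial ι k) S]
    [Module.Flat (MvPolynomial ι k) S] (c : ι → k)
    (hwc : ∀ i, algebraMap (MvPolynomial ι k) S (X i) - algebraMap k S (c i) ∈ 𝔪) :
    IsSop 𝔪 (fun i => algebraMap (MvPolynomial ι k) S (X i) - algebraMap k S (c i)) ∧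
      𝔪.height = (Nat.card ι : ℕ∞) := by
  have hNS : IsNoetherianRing S := Algebra.FiniteType.isNoetherianRing k S
  have hunder := under_eq_span 𝔪 c hwc
  have hsop : IsSop 𝔪 (fun i => algebraMap (MvPolynomial ι k) S (X i) - algebraMap k S (c i)) := by
    refine ⟨⟨h𝔪.isPrime, ?_⟩, ?_⟩
    · rw [Ideal.span_le]
      rintro _ ⟨i, rfl⟩
      exact hwc i
    · rintro q' ⟨hq', hle⟩ hq'𝔪
      have hq'under : q'.under (MvPolynomial ι k) = 𝔪.under (MvPolynomial ι k) := by
        rw [hunder]
        have hle' : Ideal.span (Set.range fun i => (X i - C (c i) : MvPolynomial ι k)) ≤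
            q'.under (MvPolynomial ι k) := by
          rw [Ideal.span_le]
          rintro _ ⟨i, rfl⟩
          change algebraMap (MvPolynomial ι k) S (X i - C (c i)) ∈ q'
          rw [algebraMap_X_sub_C]
          exact hle (Ideal.subset_span (Set.mem_range_self i))
        have hne : q'.under (MvPolynomial ι k) ≠ ⊤ := Ideal.IsPrime.ne_top'
        exact ((isMaximal_span_X_sub_C c).eq_of_le hne hle').symm
      exact (Algebra.QuasiFiniteAt.eq_of_le_of_under_eq (R := MvPolynomial ι k) hq'𝔪 hq'under).ge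
  refine ⟨hsop, ?_⟩
  have hlo : 𝔪.LiesOver (𝔪.under (MvPolynomial ι k)) := ⟨rfl⟩
  have h1 := Ideal.height_eq_height_add_of_liesOver_of_hasGoingDown
    (𝔪.under (MvPolynomial ι k)) 𝔪
  rw [height_under 𝔪 c hwc] at h1
  -- the image of `𝔪` in `S ⧸ 𝔫 S` is a minimal prime
  set I := (𝔪.under (MvPolynomial ι k)).map (algebraMap (MvPolynomial ι k) S) with hI
  have hI𝔪 : I ≤ 𝔪 := by rw [hI, Ideal.map_le_iff_le_comap]
  have hspanI : Ideal.span (Set.range fun i =>
      algebraMap (MvPolynomial ι k) S (X i) - algebraMap k S (c i)) ≤ I := by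
    rw [Ideal.span_le]
    rintro _ ⟨i, rfl⟩
    change algebraMap (MvPolynomial ι k) S (X i) - algebraMap k S (c i) ∈ _
    rw [← algebraMap_X_sub_C]
    apply Ideal.mem_map_of_mem
    rw [hunder]
    exact Ideal.subset_span (Set.mem_range_self i)
  have hprime : (𝔪.map (Ideal.Quotient.mk I)).IsPrime :=
    Ideal.map_isPrime_of_surjective Ideal.Quotient.mk_surjective (by rwa [Ideal.mk_ker])
  have h0 : (𝔪.map (Ideal.Quotient.mk I)).height = 0 := by
    rw [Ideal.height_eq_zero_iff]
    refine ⟨⟨hprime, bot_le⟩, ?_⟩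
    rintro Q ⟨hQ, -⟩ hQle
    have hQ' : (Q.comap (Ideal.Quotient.mk I)).IsPrime := Ideal.comap_isPrime _ _
    have h2 : Q.comap (Ideal.Quotient.mk I) ≤ 𝔪 := by
      have := Ideal.comap_mono (f := Ideal.Quotient.mk I) hQle
      rwa [Ideal.comap_map_of_surjective _ Ideal.Quotient.mk_surjective,
        ← RingHom.ker_eq_comap_bot, Ideal.mk_ker, sup_eq_left.mpr hI𝔪] at this
    have h3 : Ideal.span (Set.range fun i =>
        algebraMap (MvPolynomial ι k) S (X i) - algebraMap k S (c i)) ≤
        Q.comap (Ideal.Quotient.mk I) := by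
      refine hspanI.trans ?_
      intro x hx
      rw [Ideal.mem_comap, Ideal.Quotient.eq_zero_iff_mem.mpr hx]
      exact Ideal.zero_mem _
    have h4 := hsop.2 ⟨hQ', h3⟩ h2
    rw [Ideal.map_le_iff_le_comap]
    exact h4
  rw [h0, add_zero] at h1
  exact h1

/-- **From a system of parameters to a quasi-finite flat chart.** -/
theorem exists_away_quasiFinite_flat_of_isSop (c : ι → k)
    (hsop : IsSop 𝔪 (fun i => algebraMap (MvPolynomial ι k) S (X i) - algebraMap k S (c i)))
    [hCM : LocCoh.IsCohenMacaulayLocalRing (Localization.AtPrime 𝔪)]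
    (hdim : 𝔪.height = (Nat.card ι : ℕ∞)) :
    ∃ r : S, r ∉ 𝔪 ∧ Algebra.QuasiFinite (MvPolynomial ι k) (Localization.Away r) ∧
      ∀ (Q : Ideal S) [Q.IsPrime], r ∉ Q →
        Module.Flat (MvPolynomial ι k) (LocalizedModule Q.primeCompl S) := by
  have hNS : IsNoetherianRing S := Algebra.FiniteType.isNoetherianRing k S
  have hwc : ∀ i, algebraMap (MvPolynomial ι k) S (X i) - algebraMap k S (c i) ∈ 𝔪 :=
    fun i => hsop.mem i
  have hunder := under_eq_span 𝔪 c hwc
  -- quasi-finite at `𝔪`
  have hqf : Algebra.QuasiFiniteAt (MvPolynomial ι k) 𝔪 := by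
    apply quasiFiniteAt_of_forall_eq
    intro q' _ hq'under hcmp
    rcases hcmp with hle | hle
    · have h3 : Ideal.span (Set.range fun i =>
          algebraMap (MvPolynomial ι k) S (X i) - algebraMap k S (c i)) ≤ q' := by
        rw [Ideal.span_le]
        rintro _ ⟨i, rfl⟩
        change algebraMap (MvPolynomial ι k) S (X i) - algebraMap k S (c i) ∈ _
        rw [← algebraMap_X_sub_C]
        have : (X i - C (c i) : MvPolynomial ι k) ∈ q'.under (MvPolynomial ι k) := by
          rw [hq'under, hunder]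
          exact Ideal.subset_span (Set.mem_range_self i)
        exact this
      exact le_antisymm hle (hsop.2 ⟨inferInstance, h3⟩ hle)
    · exact (h𝔪.eq_of_le Ideal.IsPrime.ne_top' hle).symm
  -- flat at `𝔪` by miracle flatness
  set 𝔫 := 𝔪.under (MvPolynomial ι k) with h𝔫
  set χ := Localization.localRingHom 𝔫 𝔪 (algebraMap (MvPolynomial ι k) S) rfl with hχ
  have hχloc : IsLocalHom χ := Localization.isLocalHom_localRingHom 𝔫 𝔪 _ rfl
  have hfl : χ.Flat := by
    algebraize [χ]
    have hloc : IsLocalHom (algebraMap (Localization.AtPrime 𝔫) (Localization.AtPrime 𝔪)) := hχloc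
    have hJ3 : Ideal.map (algebraMap (Localization.AtPrime 𝔫) (Localization.AtPrime 𝔪))
        (maximalIdeal (Localization.AtPrime 𝔫)) =
        𝔫.map (algebraMap _ (Localization.AtPrime 𝔪)) := map_localRingHom_maximalIdeal 𝔫 𝔪 rfl
    obtain ⟨hl0, h0⟩ := krullDimLE_zero_of_quasiFiniteAt (P := MvPolynomial ι k) 𝔪
    have hdim0 : ringKrullDim (Localization.AtPrime 𝔪 ⧸
        Ideal.map (algebraMap (Localization.AtPrime 𝔫) (Localization.AtPrime 𝔪))
          (maximalIdeal (Localization.AtPrime 𝔫))) = 0 := by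
      rw [hJ3]
      apply le_antisymm
      · simpa using Ring.krullDimLE_iff.mp h0
      · exact ringKrullDim_nonneg_of_nontrivial
    apply Groth.Agent.S2082.result
    rw [hdim0, add_zero, IsLocalization.AtPrime.ringKrullDim_eq_height 𝔪,
      IsLocalization.AtPrime.ringKrullDim_eq_height 𝔫, hdim, height_under 𝔪 c hwc]
  -- open neighbourhoods
  obtain ⟨r₁, hr₁, hr₁qf⟩ := exists_away_quasiFinite (R := MvPolynomial ι k) 𝔪
  have hflatOpenP : IsOpen {Q : PrimeSpectrum S | Module.Flat (MvPolynomial ι k)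
      (LocalizedModule Q.asIdeal.primeCompl S)} :=
    FlatLimOpen88.isOpen_flatLocus_of_noetherian
  have hq₁fl : (⟨𝔪, h𝔪.isPrime⟩ : PrimeSpectrum S) ∈ {Q : PrimeSpectrum S |
      Module.Flat (MvPolynomial ι k) (LocalizedModule Q.asIdeal.primeCompl S)} :=
    (flat_localRingHom_iff (P := MvPolynomial ι k) 𝔪).mp hfl
  obtain ⟨_, ⟨r₂, rfl⟩, hr₂, hr₂fl⟩ :=
    PrimeSpectrum.isTopologicalBasis_basic_opens.exists_subset_of_mem_open hq₁fl hflatOpenP
  have hr₂' : r₂ ∉ 𝔪 := hr₂
  refine ⟨r₁ * r₂, ?_, quasiFinite_away_mul r₁ r₂, ?_⟩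
  · intro h
    rcases h𝔪.isPrime.mem_or_mem h with h | h
    · exact hr₁ h
    · exact hr₂' h
  · intro Q _ hQ
    have hr₂Q : r₂ ∉ Q := fun h => hQ (Q.mul_mem_left r₁ h)
    exact hr₂fl (show (⟨Q, inferInstance⟩ : PrimeSpectrum S) ∈
      (PrimeSpectrum.basicOpen r₂ : Set (PrimeSpectrum S)) from hr₂Q)

/-- Quasi-finiteness and flatness on every smaller basic open. -/
theorem exists_forall_away_quasiFinite_flat_of_isSop (c : ι → k)
    (hsop : IsSop 𝔪 (fun i => algebraMap (MvPolynomial ι k) S (X i) - algebraMap k S (c i)))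
    [hCM : LocCoh.IsCohenMacaulayLocalRing (Localization.AtPrime 𝔪)]
    (hdim : 𝔪.height = (Nat.card ι : ℕ∞)) :
    ∃ r : S, r ∉ 𝔪 ∧ ∀ r' : S,
      Algebra.QuasiFinite (MvPolynomial ι k) (Localization.Away (r * r')) ∧
        Module.Flat (MvPolynomial ι k) (Localization.Away (r * r')) := by
  obtain ⟨r, hr, hqf, hfl⟩ := exists_away_quasiFinite_flat_of_isSop 𝔪 c hsop hdim
  refine ⟨r, hr, fun r' => ⟨quasiFinite_away_mul r r', ?_⟩⟩
  refine FlatLocalModel.flat_away_of_forall (r * r') (fun Q _ hQ => ?_)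
  exact hfl Q (fun h => hQ (Q.mul_mem_right r' h))

section Wrap

variable {k : Type u} [Field k] {ι : Type u} [Finite ι] {S : Type u} [CommRing S] [Algebra k S]
  [Algebra.FiniteType k S] (𝔪 : Ideal S) [h𝔪 : 𝔪.IsMaximal]

/-- A tuple `w` is *good at `𝔪`* if after subtracting suitable constants it is a system of
parameters at `𝔪`. -/
def Good (w : ι → S) : Prop := ∃ c : ι → k, IsSop 𝔪 (fun i => w i - algebraMap k S (c i))

theorem isSop_and_height_of_aeval (w : ι → S)
    (hqf : (aeval w : MvPolynomial ι k →ₐ[k] S).toRingHom.QuasiFinite)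
    (hfl : (aeval w : MvPolynomial ι k →ₐ[k] S).toRingHom.Flat)
    (c : ι → k) (hwc : ∀ i, w i - algebraMap k S (c i) ∈ 𝔪) :
    IsSop 𝔪 (fun i => w i - algebraMap k S (c i)) ∧ 𝔪.height = (Nat.card ι : ℕ∞) := by
  let alg : Algebra (MvPolynomial ι k) S := (aeval w : MvPolynomial ι k →ₐ[k] S).toRingHom.toAlgebra
  have hst : IsScalarTower k (MvPolynomial ι k) S :=
    IsScalarTower.of_algebraMap_eq (fun x => ((aeval w : MvPolynomial ι k →ₐ[k] S).commutes x).symm)
  have hX : ∀ i, algebraMap (MvPolynomial ι k) S (X i) = w i := fun i => aeval_X w i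
  have h1 : Algebra.QuasiFinite (MvPolynomial ι k) S := RingHom.quasiFinite_algebraMap.mp hqf
  have h2 : Module.Flat (MvPolynomial ι k) S := RingHom.flat_algebraMap_iff.mp hfl
  have := isSop_and_height_of_quasiFinite_flat (k := k) (ι := ι) 𝔪 c
    (fun i => by rw [hX]; exact hwc i)
  simpa only [hX] using this

theorem exists_forall_of_good (w : ι → S) (hw : Good (k := k) 𝔪 w)
    [hCM : LocCoh.IsCohenMacaulayLocalRing (Localization.AtPrime 𝔪)]
    (hdim : 𝔪.height = (Nat.card ι : ℕ∞)) :
    ∃ r : S, r ∉ 𝔪 ∧ ∀ r' : S,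
      ((algebraMap S (Localization.Away (r * r'))).comp
        (aeval w : MvPolynomial ι k →ₐ[k] S).toRingHom).QuasiFinite ∧
      ((algebraMap S (Localization.Away (r * r'))).comp
        (aeval w : MvPolynomial ι k →ₐ[k] S).toRingHom).Flat := by
  obtain ⟨c, hc⟩ := hw
  let alg : Algebra (MvPolynomial ι k) S := (aeval w : MvPolynomial ι k →ₐ[k] S).toRingHom.toAlgebra
  have hst : IsScalarTower k (MvPolynomial ι k) S :=
    IsScalarTower.of_algebraMap_eq (fun x => ((aeval w : MvPolynomial ι k →ₐ[k] S).commutes x).symm)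
  have hX : ∀ i, algebraMap (MvPolynomial ι k) S (X i) = w i := fun i => aeval_X w i
  have hsop : IsSop 𝔪 (fun i => algebraMap (MvPolynomial ι k) S (X i) - algebraMap k S (c i)) := by
    simpa only [hX] using hc
  obtain ⟨r, hr, H⟩ := exists_forall_away_quasiFinite_flat_of_isSop 𝔪 c hsop hdim
  refine ⟨r, hr, fun r' => ?_⟩
  obtain ⟨h1, h2⟩ := H r'
  have heq : (algebraMap S (Localization.Away (r * r'))).comp
      (aeval w : MvPolynomial ι k →ₐ[k] S).toRingHom =
      algebraMap (MvPolynomial ι k) (Localization.Away (r * r')) :=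
    (IsScalarTower.algebraMap_eq (MvPolynomial ι k) S (Localization.Away (r * r'))).symm
  rw [heq]
  exact ⟨RingHom.quasiFinite_algebraMap.mpr h1, RingHom.flat_algebraMap_iff.mpr h2⟩

end Wrap

end Groth.Agent.Lib.SopChain33
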