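import Mathlib
import Groth.Agent.Lib.SopChain33b

/-!
# Chains of good tuples (helper33)

* `exists_fin_chain`: a `ReflTransGen` chain as a `Fin`-indexed sequence.
* `reflTransGen_stepG`: two tuples `u, v : ι → S` whose centred versions `u - a`, `v - b` are systems
  of parameters at `𝔪` are connected by one-coordinate steps through good tuples.
-/

set_option autoImplicit false
set_option linter.unusedSectionVars false
universe u

namespace Groth.Agent.Lib.SopChain33

theorem exists_fin_chain {α : Type*} {R : α → α → Prop} {a b : α}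
    (h : Relation.ReflTransGen R a b) :
    ∃ (m : ℕ) (Z : Fin (m + 1) → α), Z 0 = a ∧ Z (Fin.last m) = b ∧
      ∀ j : Fin m, R (Z j.castSucc) (Z j.succ) := by
  induction h with
  | refl => exact ⟨0, fun _ => a, rfl, rfl, fun j => j.elim0⟩
  | @tail b' b _ hR ih =>
    obtain ⟨m, Z, h0, hl, hstep⟩ := ih
    refine ⟨m + 1, Fin.snoc (α := fun _ => α) Z b, ?_, ?_, ?_⟩
    · rw [← Fin.castSucc_zero, Fin.snoc_castSucc]
      exact h0
    · exact Fin.snoc_last (α := fun _ => α) ..
    · intro j
      induction j using Fin.lastCases with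
      | last =>
        rw [Fin.snoc_castSucc, Fin.succ_last, Fin.snoc_last, hl]
        exact hR
      | cast j' =>
        rw [Fin.snoc_castSucc, ← Fin.castSucc_succ, Fin.snoc_castSucc]
        exact hstep j'

variable {k : Type u} [Field k] {ι : Type u} [Fintype ι] [DecidableEq ι] {S : Type u} [CommRing S]
  [Algebra k S] [Algebra.FiniteType k S] (𝔪 : Ideal S) [h𝔪 : 𝔪.IsMaximal]

/-- One-coordinate steps between good tuples. -/
def StepG (w w' : ι → S) : Prop :=
  Good (k := k) 𝔪 w ∧ Good (k := k) 𝔪 w' ∧ ∃ i, ∀ i', i' ≠ i → w i' = w' i'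

theorem reflTransGen_stepG (u v : ι → S) (a b : ι → k)
    (hu : IsSop 𝔪 (fun i => u i - algebraMap k S (a i)))
    (hv : IsSop 𝔪 (fun i => v i - algebraMap k S (b i))) :
    Relation.ReflTransGen (StepG (k := k) 𝔪) u v := by
  have hNS : IsNoetherianRing S := Algebra.FiniteType.isNoetherianRing k S
  -- first part: move the centred tuples
  have h1 := reflTransGen_of_isSop (𝔪 := 𝔪) _ _ hu hv
  have h2 : Relation.ReflTransGen (StepG (k := k) 𝔪)
      ((fun z : ι → S => fun i => z i + algebraMap k S (a i)) (fun i => u i - algebraMap k S (a i)))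
      ((fun z : ι → S => fun i => z i + algebraMap k S (a i))
        (fun i => v i - algebraMap k S (b i))) := by
    refine Relation.ReflTransGen.lift
      (fun z : ι → S => fun i => z i + algebraMap k S (a i)) ?_ _ _ h1
    rintro z₁ z₂ ⟨hz₁, hz₂, i, hi⟩
    refine ⟨⟨a, ?_⟩, ⟨a, ?_⟩, i, fun i' hi' => ?_⟩
    · simpa using hz₁
    · simpa using hz₂
    · simp only [hi i' hi']
  have hu' : ((fun z : ι → S => fun i => z i + algebraMap k S (a i))
      (fun i => u i - algebraMap k S (a i))) = u := by
    funext i; simp
  rw [hu'] at h2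
  -- second part: move the constants
  let g : Finset ι → ι → S := fun F i =>
    v i - algebraMap k S (b i) + algebraMap k S (if i ∈ F then b i else a i)
  have hgood : ∀ F, Good (k := k) 𝔪 (g F) := by
    intro F
    refine ⟨fun i => if i ∈ F then b i else a i, ?_⟩
    simpa [g] using hv
  have h3 : ∀ F : Finset ι, Relation.ReflTransGen (StepG (k := k) 𝔪) (g ∅) (g F) := by
    intro F
    induction F using Finset.induction_on with
    | empty => exact Relation.ReflTransGen.refl
    | insert i F hi ih =>
      refine ih.tail ⟨hgood F, hgood _, i, fun i' hi' => ?_⟩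
      simp only [g, Finset.mem_insert, hi', false_or]
  have hg0 : g ∅ = ((fun z : ι → S => fun i => z i + algebraMap k S (a i))
      (fun i => v i - algebraMap k S (b i))) := by
    funext i; simp [g]
  have hg1 : g Finset.univ = v := by
    funext i; simp [g]
  have h4 := h3 Finset.univ
  rw [hg0, hg1] at h4
  exact h2.trans h4

end Groth.Agent.Lib.SopChain33
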