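import Mathlib

/-!
# Morphisms from affine schemes to affine space given by tuples (helper33)

For `σ' : K ⟶ S'` in `CommRingCat` and a tuple `t : ι → S'`, `G K σ' t : Spec S' ⟶ 𝔸(ι; Spec K)` is the
`Spec K`-morphism with coordinates `t`.
-/

set_option autoImplicit false
universe u

open AlgebraicGeometry CategoryTheory MvPolynomial

namespace Groth.Agent.Lib.SopChain33

variable {ι : Type u} (K : CommRingCat.{u}) {S' : CommRingCat.{u}} (σ' : K ⟶ S') (t : ι → S')

/-- The morphism `Spec S' ⟶ 𝔸(ι; Spec K)` defined by a ring hom `K ⟶ S'` and a tuple. -/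
noncomputable def G : Spec S' ⟶ AffineSpace ι (Spec K) :=
  Spec.map (CommRingCat.ofHom (eval₂Hom σ'.hom t)) ≫ (AffineSpace.SpecIso ι K).inv

theorem G_over : G K σ' t ≫ (AffineSpace ι (Spec K) ↘ Spec K) = Spec.map σ' := by
  rw [G, Category.assoc, AffineSpace.SpecIso_inv_over, ← Spec.map_comp]
  congr 1
  ext x
  simp

theorem G_appTop_coord (i : ι) :
    (G K σ' t).appTop (AffineSpace.coord (Spec K) i) = (Scheme.ΓSpecIso S').inv (t i) := by
  rw [G, Scheme.Hom.comp_appTop, CommRingCat.comp_apply, AffineSpace.SpecIso_inv_appTop_coord,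
    ← CommRingCat.comp_apply, ← Scheme.ΓSpecIso_inv_naturality, CommRingCat.comp_apply]
  congr 1
  simp

theorem flat_G_iff : Flat (G K σ' t) ↔ (eval₂Hom σ'.hom t).Flat := by
  rw [G, MorphismProperty.cancel_right_of_respectsIso (P := @Flat),
    HasRingHomProperty.Spec_iff (P := @Flat)]
  rfl

theorem locallyQuasiFinite_G_iff :
    LocallyQuasiFinite (G K σ' t) ↔ (eval₂Hom σ'.hom t).QuasiFinite := by
  rw [G, MorphismProperty.cancel_right_of_respectsIso (P := @LocallyQuasiFinite),
    HasRingHomProperty.Spec_iff (P := @LocallyQuasiFinite)]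
  rfl

theorem eq_G (h : Spec S' ⟶ AffineSpace ι (Spec K))
    (hover : h ≫ (AffineSpace ι (Spec K) ↘ Spec K) = Spec.map σ') :
    h = G K σ' (fun i => (Scheme.ΓSpecIso S').hom (h.appTop (AffineSpace.coord (Spec K) i))) := by
  apply AffineSpace.hom_ext
  · rw [hover, G_over]
  · intro i
    rw [G_appTop_coord]
    simp

theorem SpecMap_comp_G {S₀ : CommRingCat.{u}} (σ : K ⟶ S₀) (t₀ : ι → S₀) (φ : S₀ ⟶ S') :
    Spec.map φ ≫ G K σ t₀ = G K (σ ≫ φ) (fun i => φ (t₀ i)) := by
  apply AffineSpace.hom_ext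
  · rw [Category.assoc, G_over, G_over, Spec.map_comp]
  · intro i
    rw [Scheme.Hom.comp_appTop, CommRingCat.comp_apply, G_appTop_coord, G_appTop_coord,
      ← CommRingCat.comp_apply, ← Scheme.ΓSpecIso_inv_naturality, CommRingCat.comp_apply]

end Groth.Agent.Lib.SopChain33
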