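import Mathlib
import Groth.Agent.Lib.SopChain33c

/-!
# Chains of quasi-finite flat tuples, ring level (helper33)

`exists_chain_ring`: `k` algebraically closed, `S` a finite type `k`-algebra, `𝔪` a maximal ideal with
`S_𝔪` Cohen–Macaulay, `u v : ι → S` two tuples defining quasi-finite flat maps `k[T_i] → S`.  Then
there are `R ∉ 𝔪` and a chain of tuples `u = W 0, …, W m = v`, consecutive ones differing in at most
one coordinate, each defining a quasi-finite flat map `k[T_i] → S_R`.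
-/

set_option autoImplicit false
set_option linter.unusedSectionVars false
universe u

namespace Groth.Agent.Lib.SopChain33

open MvPolynomial

theorem exists_sub_algebraMap_mem {k : Type u} [Field k] [IsAlgClosed k] {S : Type u} [CommRing S]
    [Algebra k S] [Algebra.FiniteType k S] (𝔪 : Ideal S) [h𝔪 : 𝔪.IsMaximal] (s : S) :
    ∃ c : k, s - algebraMap k S c ∈ 𝔪 := by
  let _ : Field (S ⧸ 𝔪) := Ideal.Quotient.field 𝔪
  have hft : Algebra.FiniteType k (S ⧸ 𝔪) :=
    Algebra.FiniteType.of_surjective (Ideal.Quotient.mkₐ k 𝔪) (Ideal.Quotient.mkₐ_surjective k 𝔪)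
  have hfin : Module.Finite k (S ⧸ 𝔪) := finite_of_finite_type_of_isJacobsonRing k (S ⧸ 𝔪)
  have hint : Algebra.IsIntegral k (S ⧸ 𝔪) := Algebra.IsIntegral.of_finite k (S ⧸ 𝔪)
  obtain ⟨c, hc⟩ := (IsAlgClosed.algebraMap_bijective_of_isIntegral (k := k) (K := S ⧸ 𝔪)).2
    (Ideal.Quotient.mk 𝔪 s)
  refine ⟨c, ?_⟩
  rw [← Ideal.Quotient.eq_zero_iff_mem, map_sub, ← hc, sub_eq_zero]
  rfl

theorem exists_chain_ring {k : Type u} [Field k] [IsAlgClosed k] {ι : Type u} [Finite ι]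
    {S : Type u} [CommRing S] [Algebra k S] [Algebra.FiniteType k S] (𝔪 : Ideal S)
    [h𝔪 : 𝔪.IsMaximal] [hCM : LocCoh.IsCohenMacaulayLocalRing (Localization.AtPrime 𝔪)]
    (u v : ι → S)
    (hu1 : (aeval u : MvPolynomial ι k →ₐ[k] S).toRingHom.QuasiFinite)
    (hu2 : (aeval u : MvPolynomial ι k →ₐ[k] S).toRingHom.Flat)
    (hv1 : (aeval v : MvPolynomial ι k →ₐ[k] S).toRingHom.QuasiFinite)
    (hv2 : (aeval v : MvPolynomial ι k →ₐ[k] S).toRingHom.Flat) :
    ∃ R : S, R ∉ 𝔪 ∧ ∃ (m : ℕ) (W : Fin (m + 1) → ι → S), W 0 = u ∧ W (Fin.last m) = v ∧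
      (∀ j, ((algebraMap S (Localization.Away R)).comp
          (aeval (W j) : MvPolynomial ι k →ₐ[k] S).toRingHom).QuasiFinite ∧
        ((algebraMap S (Localization.Away R)).comp
          (aeval (W j) : MvPolynomial ι k →ₐ[k] S).toRingHom).Flat) ∧
      ∀ j : Fin m, ∃ i, ∀ i', i' ≠ i → W j.castSucc i' = W j.succ i' := by
  classical
  have _ : Fintype ι := Fintype.ofFinite ι
  choose a ha using fun i => exists_sub_algebraMap_mem (k := k) 𝔪 (u i)
  choose b hb using fun i => exists_sub_algebraMap_mem (k := k) 𝔪 (v i)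
  obtain ⟨hsu, hht⟩ := isSop_and_height_of_aeval 𝔪 u hu1 hu2 a ha
  obtain ⟨hsv, -⟩ := isSop_and_height_of_aeval 𝔪 v hv1 hv2 b hb
  obtain ⟨m, W, h0, hl, hstep⟩ := exists_fin_chain (reflTransGen_stepG 𝔪 u v a b hsu hsv)
  have hgood : ∀ j, Good (k := k) 𝔪 (W j) := by
    intro j
    induction j using Fin.cases with
    | zero => rw [h0]; exact ⟨a, hsu⟩
    | succ j' => exact (hstep j').2.1
  choose r hr H using fun j => exists_forall_of_good 𝔪 (W j) (hgood j) hht
  refine ⟨∏ j, r j, ?_, m, W, h0, hl, fun j => ?_, fun j => (hstep j).2.2⟩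
  · intro hmem
    obtain ⟨j, -, hj⟩ := (Ideal.IsPrime.prod_mem_iff (hp := h𝔪.isPrime)).mp hmem
    exact hr j hj
  · have := H j (∏ x ∈ Finset.univ.erase j, r x)
    rw [Finset.mul_prod_erase _ _ (Finset.mem_univ j)] at this
    exact this

end Groth.Agent.Lib.SopChain33
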