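import Mathlib
import Groth.Agent.Lib.SopChain33d
import Groth.Agent.Lib.SopChain33e
import Groth.Agent.Lib.CMRingEquiv96

/-!
# Chains of quasi-finite flat morphisms to affine space (helper33)

`exists_chain_scheme`: the scheme-level statement (S12114).
-/

set_option autoImplicit false
set_option linter.unusedSectionVars false
universe u

open AlgebraicGeometry CategoryTheory MvPolynomial

namespace Groth.Agent.Lib.SopChain33

theorem isCohenMacaulayLocalRing_localization_of_stalk {X : Scheme.{u}} {S₀ : CommRingCat.{u}}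
    (j : Spec S₀ ⟶ X) [IsOpenImmersion j] (x₀ : PrimeSpectrum S₀)
    (h : LocCoh.IsCohenMacaulayLocalRing (X.presheaf.stalk (j x₀))) :
    LocCoh.IsCohenMacaulayLocalRing (Localization.AtPrime x₀.asIdeal) := by
  let _ : Algebra ↑S₀ ↑((Spec S₀).presheaf.stalk x₀) := StructureSheaf.stalkAlgebra (↑S₀) x₀
  have : IsLocalization.AtPrime (↑((Spec S₀).presheaf.stalk x₀)) x₀.asIdeal :=
    StructureSheaf.IsLocalization.to_stalk S₀ x₀
  have h1 : LocCoh.IsCohenMacaulayLocalRing ((Spec S₀).presheaf.stalk x₀) :=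
    CMRingEquiv96.isCohenMacaulayLocalRing_of_ringEquiv
      (asIso (j.stalkMap x₀)).commRingCatIsoToRingEquiv
  exact CMRingEquiv96.isCohenMacaulayLocalRing_of_ringEquiv
    (IsLocalization.algEquiv x₀.asIdeal.primeCompl ((Spec S₀).presheaf.stalk x₀)
      (Localization.AtPrime x₀.asIdeal)).toRingEquiv

theorem exists_chain_affine (k : Type u) [Field k] [IsAlgClosed k] (ι : Type u) [Finite ι]
    (S₀ : CommRingCat.{u}) (σ : CommRingCat.of k ⟶ S₀) (hft : σ.hom.FiniteType)
    (x₀ : PrimeSpectrum S₀) (hmax : x₀.asIdeal.IsMaximal)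
    (hCM : LocCoh.IsCohenMacaulayLocalRing (Localization.AtPrime x₀.asIdeal))
    (u₀ v₀ : ι → S₀)
    (hu1 : (eval₂Hom σ.hom u₀).QuasiFinite) (hu2 : (eval₂Hom σ.hom u₀).Flat)
    (hv1 : (eval₂Hom σ.hom v₀).QuasiFinite) (hv2 : (eval₂Hom σ.hom v₀).Flat) :
    ∃ R : S₀, R ∉ x₀.asIdeal ∧ ∃ (m : ℕ) (W : Fin (m + 1) → ι → S₀),
      W 0 = u₀ ∧ W (Fin.last m) = v₀ ∧
      (∀ j, (eval₂Hom ((algebraMap S₀ (Localization.Away R)).comp σ.hom)
            (fun i => algebraMap S₀ (Localization.Away R) (W j i))).QuasiFinite ∧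
          (eval₂Hom ((algebraMap S₀ (Localization.Away R)).comp σ.hom)
            (fun i => algebraMap S₀ (Localization.Away R) (W j i))).Flat) ∧
      ∀ j : Fin m, ∃ i, ∀ i', i' ≠ i → W j.castSucc i' = W j.succ i' := by
  let alg : Algebra k S₀ := σ.hom.toAlgebra
  have hft' : Algebra.FiniteType k S₀ := hft
  have hbr : ∀ w : ι → S₀, (aeval w : MvPolynomial ι k →ₐ[k] S₀).toRingHom = eval₂Hom σ.hom w := by
    intro w
    apply MvPolynomial.ringHom_ext
    · intro a
      simp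
      rfl
    · intro i
      simp
  obtain ⟨R, hR, m, W, h0, hl, hW, hstep⟩ := exists_chain_ring (k := k) x₀.asIdeal u₀ v₀
    (by rw [hbr]; exact hu1) (by rw [hbr]; exact hu2) (by rw [hbr]; exact hv1)
    (by rw [hbr]; exact hv2)
  refine ⟨R, hR, m, W, h0, hl, fun j => ?_, hstep⟩
  have heq : (algebraMap S₀ (Localization.Away R)).comp
      (aeval (W j) : MvPolynomial ι k →ₐ[k] S₀).toRingHom =
      eval₂Hom ((algebraMap S₀ (Localization.Away R)).comp σ.hom)
            (fun i => algebraMap S₀ (Localization.Away R) (W j i)) := by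
    apply MvPolynomial.ringHom_ext
    · intro a
      simp
      rfl
    · intro i
      simp
  rw [← heq]
  exact hW j


theorem exists_chain_scheme (k : Type u) [Field k] [IsAlgClosed k]
    (X : Scheme.{u}) [X.Over (Spec (CommRingCat.of k))]
    [LocallyOfFiniteType (X ↘ Spec (CommRingCat.of k))]
    (hCM : ∀ y : X, LocCoh.IsCohenMacaulayLocalRing (X.presheaf.stalk y)) (ι : Type u) [Finite ι]
    (u v : X ⟶ AffineSpace ι (Spec (CommRingCat.of k)))
    (hu : u ≫ (AffineSpace ι (Spec (CommRingCat.of k)) ↘ Spec (CommRingCat.of k)) =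
      X ↘ Spec (CommRingCat.of k))
    (hv : v ≫ (AffineSpace ι (Spec (CommRingCat.of k)) ↘ Spec (CommRingCat.of k)) =
      X ↘ Spec (CommRingCat.of k))
    [LocallyQuasiFinite u] [Flat u] [LocallyQuasiFinite v] [Flat v] (x : X)
    (hx : IsClosed ({x} : Set X)) :
    ∃ (U : X.Opens), x ∈ U ∧ ∃ (m : ℕ)
      (w : Fin (m + 1) → ((U : Scheme.{u}) ⟶ AffineSpace ι (Spec (CommRingCat.of k)))),
      w 0 = U.ι ≫ u ∧ w (Fin.last m) = U.ι ≫ v ∧
      (∀ j : Fin (m + 1), LocallyQuasiFinite (w j) ∧ Flat (w j) ∧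
        w j ≫ (AffineSpace ι (Spec (CommRingCat.of k)) ↘ Spec (CommRingCat.of k)) =
          U.ι ≫ (X ↘ Spec (CommRingCat.of k))) ∧
      (∀ j : Fin m, ∃ i : ι, ∀ i' : ι, i' ≠ i →
        (w j.castSucc).appTop (AffineSpace.coord (Spec (CommRingCat.of k)) i') =
          (w j.succ).appTop (AffineSpace.coord (Spec (CommRingCat.of k)) i')) := by
  classical
  obtain ⟨S₀, j, hj, x₀, rfl⟩ := Scheme.exists_Spec_apply_eq x
  let K : CommRingCat.{u} := CommRingCat.of k
  let σ : K ⟶ S₀ := Spec.preimage (j ≫ (X ↘ Spec K))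
  have hσ : Spec.map σ = j ≫ (X ↘ Spec K) := Spec.map_preimage _
  have hft : σ.hom.FiniteType := by
    have h1 : LocallyOfFiniteType (j ≫ (X ↘ Spec K)) := inferInstance
    rw [← hσ, HasRingHomProperty.Spec_iff (P := @LocallyOfFiniteType)] at h1
    exact h1
  have hmax : (x₀ : PrimeSpectrum S₀).asIdeal.IsMaximal := by
    rw [← PrimeSpectrum.isClosed_singleton_iff_isMaximal]
    have hpre : ({x₀} : Set (Spec S₀)) = j ⁻¹' {j x₀} := by
      ext y
      simp only [Set.mem_singleton_iff, Set.mem_preimage]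
      exact (j.isOpenEmbedding.injective.eq_iff).symm
    have := hx.preimage j.continuous
    rw [← hpre] at this
    exact this
  have hCM' := isCohenMacaulayLocalRing_localization_of_stalk j x₀ (hCM _)
  let u₀ : ι → S₀ := fun i =>
    (Scheme.ΓSpecIso S₀).hom ((j ≫ u).appTop (AffineSpace.coord (Spec K) i))
  let v₀ : ι → S₀ := fun i =>
    (Scheme.ΓSpecIso S₀).hom ((j ≫ v).appTop (AffineSpace.coord (Spec K) i))
  have hju : j ≫ u = G K σ u₀ := eq_G K σ (j ≫ u) (by rw [Category.assoc, hu, hσ])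
  have hjv : j ≫ v = G K σ v₀ := eq_G K σ (j ≫ v) (by rw [Category.assoc, hv, hσ])
  have hu1 : (eval₂Hom σ.hom u₀).QuasiFinite := by
    rw [← locallyQuasiFinite_G_iff, ← hju]; infer_instance
  have hu2 : (eval₂Hom σ.hom u₀).Flat := by
    rw [← flat_G_iff, ← hju]; infer_instance
  have hv1 : (eval₂Hom σ.hom v₀).QuasiFinite := by
    rw [← locallyQuasiFinite_G_iff, ← hjv]; infer_instance
  have hv2 : (eval₂Hom σ.hom v₀).Flat := by
    rw [← flat_G_iff, ← hjv]; infer_instance
  obtain ⟨R, hR, m, W, h0, hl, hW, hstep⟩ :=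
    exists_chain_affine k ι S₀ σ hft x₀ hmax hCM' u₀ v₀ hu1 hu2 hv1 hv2
  let S' : CommRingCat.{u} := CommRingCat.of (Localization.Away R)
  let loc : S₀ ⟶ S' := CommRingCat.ofHom (algebraMap S₀ (Localization.Away R))
  have hloc : IsOpenImmersion (Spec.map loc) := Scheme.isOpenImmersion_SpecMap_localizationAway R
  let jR : Spec S' ⟶ X := Spec.map loc ≫ j
  let U : X.Opens := jR.opensRange
  let e : Spec S' ≅ U := jR.isoOpensRange
  have heι : e.inv ≫ jR = U.ι := jR.isoOpensRange_inv_comp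
  have hGW : ∀ j', LocallyQuasiFinite (G K (σ ≫ loc) (fun i => loc (W j' i))) ∧
      Flat (G K (σ ≫ loc) (fun i => loc (W j' i))) := by
    intro j'
    rw [locallyQuasiFinite_G_iff, flat_G_iff]
    exact hW j'
  refine ⟨U, ?_, m, fun j' => e.inv ≫ G K (σ ≫ loc) (fun i => loc (W j' i)), ?_, ?_, ?_, ?_⟩
  · have hmem : x₀ ∈ (Spec.map loc).opensRange := by
      rw [Scheme.Hom.opensRange_localizationAway]
      exact hR
    obtain ⟨y, hy⟩ := hmem
    refine ⟨y, ?_⟩
    show (Spec.map loc ≫ j) y = j x₀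
    rw [Scheme.Hom.comp_apply, hy]
  · show e.inv ≫ G K (σ ≫ loc) (fun i => loc (W 0 i)) = U.ι ≫ u
    rw [← heι, Category.assoc, Category.assoc, hju, SpecMap_comp_G, h0]
  · show e.inv ≫ G K (σ ≫ loc) (fun i => loc (W (Fin.last m) i)) = U.ι ≫ v
    rw [← heι, Category.assoc, Category.assoc, hjv, SpecMap_comp_G, hl]
  · intro j'
    have h1 := (hGW j').1
    have h2 := (hGW j').2
    refine ⟨inferInstance, inferInstance, ?_⟩
    show (e.inv ≫ G K (σ ≫ loc) (fun i => loc (W j' i))) ≫ _ = U.ι ≫ (X ↘ Spec K)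
    rw [Category.assoc, G_over, ← heι, Category.assoc, Category.assoc, ← hσ, Spec.map_comp]
  · intro j'
    obtain ⟨i, hi⟩ := hstep j'
    refine ⟨i, fun i' hi' => ?_⟩
    show (e.inv ≫ G K (σ ≫ loc) (fun i => loc (W j'.castSucc i))).appTop _ =
      (e.inv ≫ G K (σ ≫ loc) (fun i => loc (W j'.succ i))).appTop _
    rw [Scheme.Hom.comp_appTop, Scheme.Hom.comp_appTop, CommRingCat.comp_apply,
      CommRingCat.comp_apply, G_appTop_coord, G_appTop_coord, hi i' hi']

end Groth.Agent.Lib.SopChain33
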