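import Groth.Prelude.Def_AlgSpCov
import Groth.Prelude.Def_AlgSpEt
import Groth.Agent.Lib.AlgSpLocP
import Groth.Agent.Lib.AlgSpFibre
import Groth.Agent.Lib.AlgSpQC
import Groth.Agent.Lib.AlgSpPoints

/-!
# Etale refinement of covering sieves of the big etale site of algebraic spaces (helper46)

`exists_etale_refinement`: a covering sieve `T` of the big etale site of algebraic spaces over `S` on `Z` can be refined, around
every point of a scheme `W` mapping to `Z`, by an etale morphism of schemes `W' ⟶ W` whose composite to `Z` lies in `T`.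
-/

set_option autoImplicit false
universe u

open CategoryTheory CategoryTheory.Limits AlgebraicGeometry Opposite

namespace Groth.Agent.Lib.SpacesTopRefine46

open AlgSp Groth.Agent.Lib.AlgSpPoints Groth.Agent.Lib.AlgSpLocP Groth.Agent.Lib.AlgSpQC

variable {S : Scheme.{u}}

/-- The base change of an etale morphism of algebraic spaces is etale. -/
theorem isEtaleMor_snd_of_isPullback {X Y Y' P : Sp S} (hX : IsAlgSpace X) (hY : IsAlgSpace Y)
    (hY' : IsAlgSpace Y') (hP : IsAlgSpace P) {f : X ⟶ Y} {g : Y' ⟶ Y} {fst : P ⟶ X} {snd : P ⟶ Y'}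
    (sq : IsPullback fst snd f g) (hf : IsEtaleMor f) : IsEtaleMor snd :=
  (isEtaleMor_iff_locP hY' snd).2
    (locP_of_isPullback etLocalClass_etale hX hY hY' sq ((isEtaleMor_iff_locP hY f).1 hf))

theorem exists_etale_refinement {Z : Space S} {T : Sieve Z} (hT : T ∈ spacesTop S IsEtaleMor Z)
    (W : Over S) (w : (ofScheme S).obj W ⟶ Z) (x : ↥W.left) :
    ∃ (W' : Over S) (g : W' ⟶ W), Etale g.left ∧ x ∈ Set.range g.left ∧ T ((ofScheme S).map g ≫ w) := by
  induction hT generalizing W with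
  | of Z R hR =>
    obtain ⟨hP, hx⟩ := hR
    let w' : (yon S).obj W ⟶ Z.obj := w.hom
    have hW : IsAlgSpace ((yon S).obj W) := ((ofScheme S).obj W).property
    obtain ⟨Y', g, hg, y', hy'⟩ := hx (Points.ofPt w' x)
    have hge : IsEtaleMor g.hom := hP g hg
    have hPb : IsAlgSpace (pullback g.hom w') :=
      Groth.Agent.Lib.AlgSpFibre.isAlgSpace_of_isPullback Z.property.diag Y'.property
        hW (IsPullback.of_hasPullback g.hom w')
    obtain ⟨π, hπ1, hπ2⟩ := exists_of_isPullback (IsPullback.of_hasPullback g.hom w') y'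
      (Points.ofScheme W x) (hy'.trans (Points.ofPt_eq_map_ofScheme w' x))
    obtain ⟨A, α, hαe, hαs⟩ := hPb.atlas
    obtain ⟨a, ha⟩ := surjective_ofPt_of_repWith_surjective hαs π
    have hsnd : IsEtaleMor (pullback.snd g.hom w') :=
      isEtaleMor_snd_of_isPullback Y'.property Z.property hW hPb
        (IsPullback.of_hasPullback g.hom w') hge
    have hcomp : RepWith @Etale (α ≫ pullback.snd g.hom w') := hsnd α hαe
    obtain ⟨g₀, hg₀⟩ := (yon S).map_surjective (α ≫ pullback.snd g.hom w')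
    have hcomp' : RepWith @Etale ((yon S).map g₀) := by
      rw [hg₀]
      exact hcomp
    have hg₀e : Etale g₀.left := (repWith_yon_map_iff @Etale g₀).1 hcomp'
    refine ⟨A, g₀, hg₀e, ⟨a, ?_⟩, ?_⟩
    · apply (Points.schemeEquiv W).injective
      change Points.ofScheme W (g₀.left a) = Points.ofScheme W x
      rw [← hπ2, ← ha, Points.map_ofPt, ← hg₀]
      exact (Points.map_yon_map_apply g₀ a).symm
    · refine ⟨Y', ObjectProperty.homMk (α ≫ pullback.fst g.hom w'), g, hg, ?_⟩
      apply ObjectProperty.hom_ext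
      change (α ≫ pullback.fst g.hom w') ≫ g.hom = (yon S).map g₀ ≫ w'
      rw [Category.assoc, pullback.condition, ← Category.assoc, hg₀]
  | top Z =>
    exact ⟨W, 𝟙 W, by rw [Over.id_left]; infer_instance, ⟨x, by rw [Over.id_left]; rfl⟩, trivial⟩
  | pullback Z T hT Z' f ih =>
    obtain ⟨W', g, hge, hx, hT'⟩ := ih W (w ≫ f) x
    refine ⟨W', g, hge, hx, ?_⟩
    change T (((ofScheme S).map g ≫ w) ≫ f)
    rwa [Category.assoc]
  | transitive Z T₁ T₂ hT₁ hT₂ ih₁ ih₂ =>
    obtain ⟨W₁, g₁, hg₁e, ⟨x₁, rfl⟩, hT₁'⟩ := ih₁ W w x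
    obtain ⟨W₂, g₂, hg₂e, ⟨x₂, rfl⟩, hT₂'⟩ := ih₂ hT₁' W₁ (𝟙 _) x₁
    refine ⟨W₂, g₂ ≫ g₁, ?_, ⟨x₂, ?_⟩, ?_⟩
    · rw [Over.comp_left]; infer_instance
    · rw [Over.comp_left]; rfl
    · have : T₂ (((ofScheme S).map g₂ ≫ 𝟙 _) ≫ (ofScheme S).map g₁ ≫ w) := hT₂'
      rwa [Category.comp_id, ← Category.assoc, ← Functor.map_comp] at this

/-- The case of a covering sieve on a scheme. -/
theorem exists_etale_refinement_id {W : Over S} {T : Sieve ((ofScheme S).obj W)}
    (hT : T ∈ spacesTop S IsEtaleMor ((ofScheme S).obj W)) (x : ↥W.left) :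
    ∃ (W' : Over S) (g : W' ⟶ W), Etale g.left ∧ x ∈ Set.range g.left ∧ T ((ofScheme S).map g) := by
  obtain ⟨W', g, h1, h2, h3⟩ := exists_etale_refinement hT W (𝟙 _) x
  exact ⟨W', g, h1, h2, by rwa [Category.comp_id] at h3⟩

end Groth.Agent.Lib.SpacesTopRefine46
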