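import Mathlib

/-!
# Bridgeland's spanning class criterion for full faithfulness
-/

set_option autoImplicit false

namespace Groth.Agent.Lib.Span65

open CategoryTheory Limits Pretriangulated

universe v u v' u'

section Shift

variable {D : Type u} [Category.{v} D] [HasShift D ℤ]
  {D' : Type u'} [Category.{v'} D'] [HasShift D' ℤ]
  (F : D ⥤ D') [F.CommShift ℤ]

/-- `F` is bijective on all morphism sets out of `X`. -/
def FFat (X : D) : Prop := ∀ Y : D, Function.Bijective (fun f : X ⟶ Y => F.map f)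

variable {F}

lemma FFat.shift {X : D} (h : FFat F X) (n : ℤ) : FFat F (X⟦n⟧) := by
  intro Y
  let Y' := Y⟦-n⟧
  let β : Y'⟦n⟧ ≅ Y := (shiftFunctorCompIsoId D (-n) n (by omega)).app Y
  let cX := (F.commShiftIso n).app X
  let cY := (F.commShiftIso n).app Y'
  have key : ∀ g : X ⟶ Y', F.map (g⟦n⟧' ≫ β.hom) =
      cX.hom ≫ (F.map g)⟦n⟧' ≫ cY.inv ≫ F.map β.hom := by
    intro g
    have h1 := F.commShiftIso_hom_naturality g n
    have h2 : F.map (g⟦n⟧') = cX.hom ≫ (F.map g)⟦n⟧' ≫ cY.inv := by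
      rw [← Category.assoc, Iso.eq_comp_inv]
      exact h1
    rw [Functor.map_comp, h2]
    simp only [Category.assoc]
  have hrep : ∀ f : X⟦n⟧ ⟶ Y, ∃ g : X ⟶ Y', f = g⟦n⟧' ≫ β.hom := fun f =>
    ⟨(shiftFunctor D n).preimage (f ≫ β.inv), by simp⟩
  constructor
  · intro f f' hff'
    obtain ⟨g, rfl⟩ := hrep f
    obtain ⟨g', rfl⟩ := hrep f'
    dsimp only at hff'
    rw [key, key] at hff'
    have h1 := (cancel_epi cX.hom).mp hff'
    rw [← Category.assoc, ← Category.assoc] at h1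
    have h2 : (F.map g)⟦n⟧' ≫ cY.inv = (F.map g')⟦n⟧' ≫ cY.inv :=
      (cancel_mono (F.map β.hom)).mp h1
    have h3 : (F.map g)⟦n⟧' = (F.map g')⟦n⟧' := (cancel_mono cY.inv).mp h2
    have h4 : F.map g = F.map g' := (shiftFunctor D' n).map_injective h3
    rw [(h Y').1 h4]
  · intro φ
    let ψ := (shiftFunctor D' n).preimage (cX.inv ≫ φ ≫ F.map β.inv ≫ cY.hom)
    obtain ⟨g, hg⟩ := (h Y').2 ψ
    refine ⟨g⟦n⟧' ≫ β.hom, ?_⟩
    dsimp only at hg ⊢
    rw [key, hg]
    simp only [ψ, Functor.map_preimage, Category.assoc, Iso.hom_inv_id_assoc,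
      ← Functor.map_comp, Iso.inv_hom_id]
    rw [CategoryTheory.Functor.map_id, Category.comp_id]

end Shift

section Unshift

variable {D : Type u} [Category.{v} D] [HasShift D ℤ]

lemma postcomp_shift_injective {X B B' : D} (u : B ⟶ B') (m : ℤ)
    (h : Function.Injective (fun x : X⟦-m⟧ ⟶ B => x ≫ u)) :
    Function.Injective (fun f : X ⟶ B⟦m⟧ => f ≫ u⟦m⟧') := by
  intro f f' hff'
  dsimp only at hff'
  have hγ := (shiftFunctorCompIsoId D m (-m) (by omega)).hom.naturality u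
  dsimp only [Functor.comp_map, Functor.id_map] at hγ
  have h1 : (f⟦-m⟧' ≫ (shiftFunctorCompIsoId D m (-m) (by omega)).hom.app B) ≫ u =
      (f'⟦-m⟧' ≫ (shiftFunctorCompIsoId D m (-m) (by omega)).hom.app B) ≫ u := by
    rw [Category.assoc, Category.assoc, ← hγ, ← Category.assoc, ← Category.assoc,
      ← Functor.map_comp, ← Functor.map_comp, hff']
  have h2 := h h1
  have h3 : f⟦-m⟧' = f'⟦-m⟧' := (cancel_mono _).mp h2
  exact (shiftFunctor D (-m)).map_injective h3

end Unshift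

section Adj

variable {D : Type u} [Category.{v} D] {D' : Type u'} [Category.{v'} D'] (F : D ⥤ D')

/-- If the counit of `L ⊣ F` at `E` is an isomorphism then `F` is bijective on morphisms
out of `E`. -/
lemma FFat_of_isIso_counit {L : D' ⥤ D} (adj : L ⊣ F) (E : D) [IsIso (adj.counit.app E)] :
    FFat F E := by
  intro Y
  have h : ∀ f : E ⟶ Y, F.map f = adj.homEquiv (F.obj E) Y (adj.counit.app E ≫ f) := by
    intro f
    rw [Adjunction.homEquiv_unit, Functor.map_comp, Adjunction.right_triangle_components_assoc]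
  have : (fun f : E ⟶ Y => F.map f) =
      (adj.homEquiv (F.obj E) Y) ∘ (fun f : E ⟶ Y => adj.counit.app E ≫ f) := by
    funext f
    exact h f
  rw [this]
  refine (adj.homEquiv (F.obj E) Y).bijective.comp ⟨fun f f' hff' => ?_, fun g => ?_⟩
  · exact (cancel_epi _).mp hff'
  · exact ⟨inv (adj.counit.app E) ≫ g, by simp⟩

/-- Precomposition with the counit corresponds to `F.map` under the adjunction. -/
lemma homEquiv_counit_comp {L : D' ⥤ D} (adj : L ⊣ F) (E : D) {Y : D} (f : E ⟶ Y) :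
    adj.homEquiv (F.obj E) Y (adj.counit.app E ≫ f) = F.map f := by
  rw [Adjunction.homEquiv_unit, Functor.map_comp, Adjunction.right_triangle_components_assoc]

end Adj

section Main

variable {D : Type u} [Category.{v} D] [Preadditive D] [HasZeroObject D] [HasShift D ℤ]
  [∀ n : ℤ, (shiftFunctor D n).Additive] [Pretriangulated D]
  {D' : Type u'} [Category.{v'} D'] [HasShift D' ℤ]
  (F : D ⥤ D') [F.CommShift ℤ]

omit [F.CommShift ℤ] [HasShift D' ℤ] in
theorem isIso_counit {L : D' ⥤ D} (adj : L ⊣ F) (S : Set D)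
    (h3 : ∀ K : D, (∀ E ∈ S, ∀ (i : ℤ) (f : K ⟶ (shiftFunctor D i).obj E), f = 0) → IsZero K)
    (h4 : ∀ E ∈ S, ∀ E' ∈ S, ∀ i : ℤ,
      Function.Bijective (fun f : E ⟶ (shiftFunctor D i).obj E' => F.map f))
    (E : D) (hE : E ∈ S) : IsIso (adj.counit.app E) := by
  have hpre : ∀ E' ∈ S, ∀ i : ℤ,
      Function.Bijective (fun f : E ⟶ E'⟦i⟧ => adj.counit.app E ≫ f) := by
    intro E' hE' i
    have : (fun f : E ⟶ E'⟦i⟧ => adj.counit.app E ≫ f) =
        (adj.homEquiv _ _).symm ∘ (fun f => F.map f) := by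
      funext f
      rw [Function.comp, ← homEquiv_counit_comp F adj E f, Equiv.symm_apply_apply]
    rw [this]
    exact (adj.homEquiv _ _).symm.bijective.comp (h4 E hE E' hE' i)
  obtain ⟨C, w, z, hT⟩ := distinguished_cocone_triangle (adj.counit.app E)
  have hC : IsZero C := by
    apply h3
    intro E' hE' i f
    have h1 : w ≫ f = 0 := by
      apply (hpre E' hE' i).1
      dsimp only
      have h12 : adj.counit.app E ≫ w = 0 := comp_distTriang_mor_zero₁₂ _ hT
      rw [← Category.assoc, h12, zero_comp, comp_zero]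
    obtain ⟨f', rfl⟩ : ∃ f' : (L.obj (F.obj E))⟦(1 : ℤ)⟧ ⟶ E'⟦i⟧, f = z ≫ f' :=
      Triangle.yoneda_exact₃ _ hT f h1
    let α : E'⟦i⟧ ≅ (E'⟦i - 1⟧)⟦(1 : ℤ)⟧ := (shiftFunctorAdd' D (i - 1) 1 i (by omega)).app E'
    let v := (shiftFunctor D (1 : ℤ)).preimage (f' ≫ α.hom)
    obtain ⟨v', hv'⟩ := (hpre E' hE' (i - 1)).2 v
    dsimp only at hv'
    have h2 : f' = (adj.counit.app E)⟦(1 : ℤ)⟧' ≫ v'⟦(1 : ℤ)⟧' ≫ α.inv := by
      rw [← Category.assoc, ← Functor.map_comp, hv', Functor.map_preimage, Category.assoc,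
        Iso.hom_inv_id, Category.comp_id]
    rw [h2, ← Category.assoc]
    have h3' : z ≫ (adj.counit.app E)⟦(1 : ℤ)⟧' = 0 := comp_distTriang_mor_zero₃₁ _ hT
    rw [h3', zero_comp]
  exact (Triangle.isZero₃_iff_isIso₁ _ hT).mp hC

theorem isIso_unit {G : D' ⥤ D} (adj : F ⊣ G) (S : Set D)
    (h2 : ∀ K : D, (∀ E ∈ S, ∀ (i : ℤ) (f : E ⟶ (shiftFunctor D i).obj K), f = 0) → IsZero K)
    (hS : ∀ E ∈ S, FFat F E) (B : D) : IsIso (adj.unit.app B) := by
  have hpost : ∀ X : D, FFat F X → Function.Bijective (fun f : X ⟶ B => f ≫ adj.unit.app B) := by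
    intro X hX
    have : (fun f : X ⟶ B => f ≫ adj.unit.app B) =
        (adj.homEquiv X (F.obj B)) ∘ (fun f => F.map f) := by
      funext f
      rw [Function.comp, Adjunction.homEquiv_unit]
      exact adj.unit.naturality f
    rw [this]
    exact (adj.homEquiv _ _).bijective.comp (hX B)
  obtain ⟨C, w, z, hT⟩ := distinguished_cocone_triangle (adj.unit.app B)
  have hzero : ∀ X : D, FFat F X → FFat F (X⟦-(1 : ℤ)⟧) → ∀ x : X ⟶ C, x = 0 := by
    intro X hX hX' x
    have h1 : x ≫ z = 0 := by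
      apply postcomp_shift_injective (adj.unit.app B) 1 (hpost _ hX').1
      dsimp only
      have h3' : z ≫ (adj.unit.app B)⟦(1 : ℤ)⟧' = 0 := comp_distTriang_mor_zero₃₁ _ hT
      rw [Category.assoc, h3', comp_zero, zero_comp]
    obtain ⟨x', rfl⟩ : ∃ x' : X ⟶ G.obj (F.obj B), x = x' ≫ w :=
      Triangle.coyoneda_exact₃ _ hT x h1
    obtain ⟨x'', rfl⟩ := (hpost X hX).2 x'
    dsimp only
    have h12 : adj.unit.app B ≫ w = 0 := comp_distTriang_mor_zero₁₂ _ hT
    rw [Category.assoc, h12, comp_zero]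
  have hC : IsZero C := by
    apply h2
    intro E hE i f
    have h0 := hzero (E⟦-i⟧) ((hS E hE).shift (-i)) (((hS E hE).shift (-i)).shift (-1))
      (f⟦-i⟧' ≫ (shiftFunctorCompIsoId D i (-i) (by omega)).hom.app C)
    have h1 : f⟦-i⟧' = 0 := by
      rw [← cancel_mono ((shiftFunctorCompIsoId D i (-i) (by omega)).hom.app C), h0, zero_comp]
    exact (shiftFunctor D (-i)).map_injective (by rw [h1, Functor.map_zero])
  exact (Triangle.isZero₃_iff_isIso₁ _ hT).mp hC

theorem full_faithful [F.IsLeftAdjoint] [F.IsRightAdjoint] (S : Set D)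
    (h2 : ∀ K : D, (∀ E ∈ S, ∀ (i : ℤ) (f : E ⟶ (shiftFunctor D i).obj K), f = 0) → IsZero K)
    (h3 : ∀ K : D, (∀ E ∈ S, ∀ (i : ℤ) (f : K ⟶ (shiftFunctor D i).obj E), f = 0) → IsZero K)
    (h4 : ∀ E ∈ S, ∀ E' ∈ S, ∀ i : ℤ,
      Function.Bijective (fun f : E ⟶ (shiftFunctor D i).obj E' => F.map f)) :
    F.Full ∧ F.Faithful := by
  let adjL := Adjunction.ofIsRightAdjoint F
  let adjR := Adjunction.ofIsLeftAdjoint F
  have hS : ∀ E ∈ S, FFat F E := fun E hE => by
    have := isIso_counit F adjL S h3 h4 E hE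
    exact FFat_of_isIso_counit F adjL E
  have : ∀ B, IsIso (adjR.unit.app B) := isIso_unit F adjR S h2 hS
  have : IsIso adjR.unit := NatIso.isIso_of_isIso_app _
  exact ⟨adjR.fullyFaithfulLOfIsIsoUnit.full, adjR.fullyFaithfulLOfIsIsoUnit.faithful⟩

end Main

end Groth.Agent.Lib.Span65
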