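import Mathlib.AlgebraicGeometry.Stalk
import Mathlib.AlgebraicGeometry.Morphisms.Smooth
import Mathlib.RingTheory.Smooth.Basic

/-!
# Morphisms from spectra of local rings and stalk maps (helper50)

* `fromSpecStalk_inj`: two local homomorphisms `𝒪_{X,x} → R` inducing the same morphism `Spec R → X`
  are equal.
* `exists_of_closedPoint_eq`: a morphism `Spec R → X` sending the closed point to `x` comes from a
  local homomorphism `𝒪_{X,x} → R`.
* `exists_lift_of_formallySmooth_stalk`: infinitesimal lifting along surjections of local rings with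
  nilpotent kernel when the stalk map at the image of the closed point is formally smooth.
-/

set_option autoImplicit false

open AlgebraicGeometry CategoryTheory IsLocalRing

namespace Groth.Agent.Lib.SpecLocal50

universe u

section Basic

variable {X : Scheme.{u}} {R : CommRingCat.{u}} [IsLocalRing R]

/-- two local homs from the same stalk inducing the same Spec map agree -/
theorem fromSpecStalk_inj {x : X} (g₁ g₂ : X.presheaf.stalk x ⟶ R) [h₁ : IsLocalHom g₁.hom]
    [h₂ : IsLocalHom g₂.hom]
    (h : Spec.map g₁ ≫ X.fromSpecStalk x = Spec.map g₂ ≫ X.fromSpecStalk x) : g₁ = g₂ := by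
  have h1 : (⟨x, g₁, h₁⟩ : Σ x, { f : X.presheaf.stalk x ⟶ R // IsLocalHom f.hom }) =
      ⟨x, g₂, h₂⟩ := (SpecToEquivOfLocalRing X R).symm.injective h
  have h2 := Sigma.mk.inj_iff.mp h1
  exact congrArg Subtype.val (eq_of_heq h2.2)

theorem exists_of_closedPoint_eq (γ : Spec R ⟶ X) {x : X} (hx : γ (closedPoint R) = x) :
    ∃ g : X.presheaf.stalk x ⟶ R, IsLocalHom g.hom ∧ Spec.map g ≫ X.fromSpecStalk x = γ := by
  subst hx
  exact ⟨Scheme.stalkClosedPointTo γ, inferInstance, Scheme.Spec_stalkClosedPointTo_fromSpecStalk γ⟩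

end Basic

/-- Infinitesimal lifting for morphisms from spectra of local rings, when the stalk map at the
image of the closed point is formally smooth. -/
theorem exists_lift_of_formallySmooth_stalk {X S : Scheme.{u}} (f : X ⟶ S)
    (B B' : Type u) [CommRing B] [CommRing B'] [IsLocalRing B] [IsLocalRing B']
    (φ : B' →+* B) (hφ : Function.Surjective φ) (hnil : IsNilpotent (RingHom.ker φ))
    (α : Spec (CommRingCat.of B) ⟶ X) (β : Spec (CommRingCat.of B') ⟶ S)
    (hc : Spec.map (CommRingCat.ofHom φ) ≫ β = α ≫ f)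
    (x : X) (hx : α (closedPoint (CommRingCat.of B)) = x)
    (hsm : (f.stalkMap x).hom.FormallySmooth) :
    ∃ γ : Spec (CommRingCat.of B') ⟶ X,
      Spec.map (CommRingCat.ofHom φ) ≫ γ = α ∧ γ ≫ f = β := by
  have hφloc : IsLocalHom (CommRingCat.ofHom φ).hom := IsLocalHom.of_surjective φ hφ
  obtain ⟨a, haloc, ha⟩ := exists_of_closedPoint_eq α hx
  have hβcp : β (closedPoint (CommRingCat.of B')) = f x := by
    have h1 : Spec.map (CommRingCat.ofHom φ) (closedPoint (CommRingCat.of B)) =
        closedPoint (CommRingCat.of B') := Spec_closedPoint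
    calc β (closedPoint (CommRingCat.of B'))
        = β (Spec.map (CommRingCat.ofHom φ) (closedPoint (CommRingCat.of B))) := by rw [h1]
      _ = (Spec.map (CommRingCat.ofHom φ) ≫ β) (closedPoint (CommRingCat.of B)) := rfl
      _ = (α ≫ f) (closedPoint (CommRingCat.of B)) := by rw [hc]
      _ = f (α (closedPoint (CommRingCat.of B))) := rfl
      _ = f x := by rw [hx]
  obtain ⟨b, hbloc, hb⟩ := exists_of_closedPoint_eq β hβcp
  have hcompat : b ≫ CommRingCat.ofHom φ = f.stalkMap x ≫ a := by
    have : IsLocalHom (b ≫ CommRingCat.ofHom φ).hom := by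
      rw [CommRingCat.hom_comp]; infer_instance
    have : IsLocalHom (f.stalkMap x ≫ a).hom := by
      rw [CommRingCat.hom_comp]; infer_instance
    apply fromSpecStalk_inj
    rw [Spec.map_comp, Category.assoc, hb, hc, Spec.map_comp, Category.assoc,
      Scheme.SpecMap_stalkMap_fromSpecStalk, ← Category.assoc, ha]
  -- ring level
  let algA : Algebra (S.presheaf.stalk (f x)) (X.presheaf.stalk x) := (f.stalkMap x).hom.toAlgebra
  have hfs : Algebra.FormallySmooth (S.presheaf.stalk (f x)) (X.presheaf.stalk x) := hsm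
  let algB' : Algebra (S.presheaf.stalk (f x)) B' := b.hom.toAlgebra
  let algB : Algebra (S.presheaf.stalk (f x)) B := (φ.comp b.hom).toAlgebra
  let a' : X.presheaf.stalk x →ₐ[S.presheaf.stalk (f x)] B :=
    { a.hom with
      commutes' := fun r => by
        have := congrArg (fun g => g.hom r) hcompat
        exact this.symm }
  let φ' : B' →ₐ[S.presheaf.stalk (f x)] B := { φ with commutes' := fun r => rfl }
  let l := Algebra.FormallySmooth.liftOfSurjective a' φ' hφ hnil
  have hl : ∀ y, φ (l y) = a.hom y := fun y =>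
    Algebra.FormallySmooth.liftOfSurjective_apply a' φ' hφ hnil y
  let l' : X.presheaf.stalk x ⟶ CommRingCat.of B' := CommRingCat.ofHom l.toRingHom
  have hl1 : l' ≫ CommRingCat.ofHom φ = a := by
    ext y
    exact hl y
  have hl2 : f.stalkMap x ≫ l' = b := by
    ext r
    exact l.commutes r
  refine ⟨Spec.map l' ≫ X.fromSpecStalk x, ?_, ?_⟩
  · rw [← Category.assoc, ← Spec.map_comp, hl1, ha]
  · calc (Spec.map l' ≫ X.fromSpecStalk x) ≫ f
        = Spec.map l' ≫ (X.fromSpecStalk x ≫ f) := Category.assoc _ _ _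
      _ = Spec.map l' ≫ (Spec.map (f.stalkMap x) ≫ S.fromSpecStalk (f x)) := by
          rw [Scheme.SpecMap_stalkMap_fromSpecStalk]
      _ = Spec.map (f.stalkMap x ≫ l') ≫ S.fromSpecStalk (f x) := by
          rw [Spec.map_comp, Category.assoc]
      _ = Spec.map b ≫ S.fromSpecStalk (f x) := by rw [hl2]
      _ = β := hb

end Groth.Agent.Lib.SpecLocal50
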