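import Groth.Agent.Lib.SpecialLam6

/-!
# Universal polynomials `Q_{i,j}` for special λ-rings: stability, Newton identities
-/

set_option autoImplicit false

namespace Groth.Agent.Lib.SpecialLam6b

open MvPolynomial Finset Groth.Agent.Lib.LambdaGamma6 Groth.Agent.Lib.SymmPoly6
  Groth.Agent.Lib.MulPoly6 Groth.Agent.Lib.SpecialLam6

/-! ## basic facts on `compGen` -/

lemma compGen_eq (N i j : ℕ) :
    LambdaRing.compGen N i j =
      ∑ T ∈ ((Finset.univ : Finset (Fin N)).powersetCard i).powersetCard j,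
        ∏ s ∈ T, ∏ a ∈ s, (X a : MvPolynomial (Fin N) ℤ) := by
  rw [LambdaRing.compGen, Finset.esymm_map_val]

lemma compGen_isHomogeneous (N i j : ℕ) : (LambdaRing.compGen N i j).IsHomogeneous (i * j) := by
  rw [compGen_eq]
  refine IsHomogeneous.sum _ _ _ fun T hT => ?_
  rw [Finset.mem_powersetCard] at hT
  have h := IsHomogeneous.prod T (fun s => ∏ a ∈ s, (X a : MvPolynomial (Fin N) ℤ)) (fun _ => i)
    (fun s hs => by
      have hs' := Finset.mem_powersetCard.1 (hT.1 hs)
      have h2 := IsHomogeneous.prod s (fun a => (X a : MvPolynomial (Fin N) ℤ)) (fun _ => 1)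
        (fun a _ => isHomogeneous_X ℤ a)
      rw [Finset.sum_const, smul_eq_mul, mul_one, hs'.2] at h2
      exact h2)
  rw [Finset.sum_const, smul_eq_mul, hT.2, mul_comm] at h
  exact h

lemma compGen_isSymmetric (N i j : ℕ) : (LambdaRing.compGen N i j).IsSymmetric := by
  classical
  intro σ
  rw [compGen_eq]
  set P := (Finset.univ : Finset (Fin N)).powersetCard i with hP
  set e : Fin N ↪ Fin N := σ.toEmbedding with he
  set me : Finset (Fin N) ↪ Finset (Fin N) := (Finset.mapEmbedding e).toEmbedding with hme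
  have hPmap : P.map me = P := by
    rw [hP, hme, ← Finset.powersetCard_map, he, Finset.map_univ_equiv]
  have h1 : ∀ T : Finset (Finset (Fin N)),
      rename σ (∏ s ∈ T, ∏ a ∈ s, (X a : MvPolynomial (Fin N) ℤ)) =
        ∏ s ∈ T.map me, ∏ a ∈ s, (X a : MvPolynomial (Fin N) ℤ) := by
    intro T
    rw [map_prod, Finset.prod_map]
    refine Finset.prod_congr rfl fun s _ => ?_
    rw [map_prod]
    change _ = ∏ a ∈ s.map e, (X a : MvPolynomial (Fin N) ℤ)
    rw [Finset.prod_map]
    refine Finset.prod_congr rfl fun a _ => ?_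
    rw [rename_X]
    rfl
  rw [map_sum]
  simp only [h1]
  have h2 := Finset.sum_map (P.powersetCard j) (Finset.mapEmbedding me).toEmbedding
    (fun T' => ∏ s ∈ T', ∏ a ∈ s, (X a : MvPolynomial (Fin N) ℤ))
  rw [← Finset.powersetCard_map, hPmap] at h2
  rw [h2]
  rfl

/-! ## elementary symmetric functions over a finset -/

section FamS

variable {B : Type*} [CommRing B]

/-- the `k`-th elementary symmetric function of a family restricted to a finset -/
def esymmOn {ι : Type*} (S : Finset ι) (f : ι → B) (k : ℕ) : B :=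
  ∑ t ∈ powersetCard k S, ∏ i ∈ t, f i

lemma map_esymmOn {B' : Type*} [CommRing B'] {F : Type*} [FunLike F B B'] [RingHomClass F B B']
    (φ : F) {ι : Type*} (S : Finset ι) (f : ι → B)
    (k : ℕ) : φ (esymmOn S f k) = esymmOn S (fun i => φ (f i)) k := by
  rw [esymmOn, map_sum]
  refine Finset.sum_congr rfl fun t _ => ?_
  rw [map_prod]

lemma esymmOn_comp_embedding {ι ι' : Type*} [DecidableEq ι]
    (S : Finset ι) (S' : Finset ι')
    (e : ι' ↪ ι) (hS : S'.map e ⊆ S) (g : ι → B) (hg : ∀ s ∈ S, s ∉ S'.map e → g s = 0) (k : ℕ) :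
    esymmOn S g k = esymmOn S' (fun i => g (e i)) k := by
  classical
  rw [esymmOn, esymmOn]
  have h1 : ∑ t ∈ powersetCard k S', ∏ i ∈ t, g (e i) =
      ∑ t ∈ (powersetCard k S').map (Finset.mapEmbedding e).toEmbedding,
        ∏ i ∈ t, g i := by
    rw [Finset.sum_map]
    refine Finset.sum_congr rfl fun t _ => ?_
    change _ = ∏ i ∈ t.map e, g i
    rw [Finset.prod_map]
  rw [h1, ← Finset.powersetCard_map]
  symm
  apply Finset.sum_subset
  · exact Finset.powersetCard_mono hS
  · intro t ht hnt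
    rw [Finset.mem_powersetCard] at ht hnt
    have : ¬ t ⊆ S'.map e := fun h => hnt ⟨h, ht.2⟩
    rw [Finset.not_subset] at this
    obtain ⟨s, hs, hs'⟩ := this
    exact Finset.prod_eq_zero hs (hg s (ht.1 hs) hs')

end FamS

lemma compGen_eq_esymmOn (N i j : ℕ) :
    LambdaRing.compGen N i j = esymmOn ((Finset.univ : Finset (Fin N)).powersetCard i)
      (fun s => ∏ a ∈ s, (X a : MvPolynomial (Fin N) ℤ)) j :=
  compGen_eq N i j

lemma esymm_eq_esymmOn (N k : ℕ) :
    esymm (Fin N) ℤ k = esymmOn (Finset.univ : Finset (Fin N))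
      (fun a => (X a : MvPolynomial (Fin N) ℤ)) k := rfl

/-! ## killing variables, one family -/

section Kill1

variable {n M : ℕ} (h : n ≤ M)

/-- kill the variables of index `≥ n` -/
noncomputable def κ₁ : MvPolynomial (Fin M) ℤ →ₐ[ℤ] MvPolynomial (Fin n) ℤ :=
  aeval (fun a : Fin M => if ha : a.1 < n then (X ⟨a.1, ha⟩ : MvPolynomial (Fin n) ℤ) else 0)

/-- the inclusion of variables -/
noncomputable def ι₁ : MvPolynomial (Fin n) ℤ →ₐ[ℤ] MvPolynomial (Fin M) ℤ :=
  rename (Fin.castLE h)

lemma κ₁_X (a : Fin M) : κ₁ (n := n) (X a : MvPolynomial (Fin M) ℤ) =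
    if ha : a.1 < n then X ⟨a.1, ha⟩ else 0 := by
  rw [κ₁, aeval_X]

lemma κ₁_X_castLE (a : Fin n) :
    κ₁ (n := n) (X (Fin.castLE h a) : MvPolynomial (Fin M) ℤ) = X a := by
  rw [κ₁_X, dif_pos (by simp)]
  rfl

lemma κ₁_X_of_not_range (a : Fin M) (ha : a ∉ Set.range (Fin.castLE h)) :
    κ₁ (n := n) (X a : MvPolynomial (Fin M) ℤ) = 0 := by
  rw [κ₁_X, dif_neg]
  intro hlt
  exact ha ⟨⟨a.1, hlt⟩, by ext; rfl⟩

include h in
lemma κ₁_esymm (k : ℕ) :
    κ₁ (n := n) (esymm (Fin M) ℤ k) = esymm (Fin n) ℤ k := by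
  classical
  rw [esymm_eq_esymmOn, esymm_eq_esymmOn, map_esymmOn (κ₁ (n := n) (M := M)),
    esymmOn_comp_embedding univ univ ⟨Fin.castLE h, Fin.castLE_injective h⟩ (Finset.subset_univ _) _
      (fun s _ hs => κ₁_X_of_not_range h s (by
        intro ⟨a, ha⟩
        exact hs (Finset.mem_map.2 ⟨a, Finset.mem_univ _, ha⟩)))]
  congr 1
  funext a
  exact κ₁_X_castLE h a

/-- `κ₁ ∘ E_M ∘ ι₁ = E_n` -/
lemma κ₁_E_ι₁ (Q : MvPolynomial (Fin n) ℤ) : κ₁ (n := n) (E ℤ M (ι₁ h Q)) = E ℤ n Q := by
  have : ((κ₁ (n := n) (M := M)).comp ((E ℤ M).comp (ι₁ h))) = E ℤ n := by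
    apply MvPolynomial.algHom_ext
    intro a
    change κ₁ (E ℤ M (ι₁ h (X a))) = E ℤ n (X a)
    rw [ι₁, rename_X, E, aeval_X, E, aeval_X, κ₁_esymm h]
    rfl
  exact AlgHom.congr_fun this Q

include h in
lemma κ₁_compGen (i j : ℕ) :
    κ₁ (n := n) (LambdaRing.compGen M i j) = LambdaRing.compGen n i j := by
  classical
  rw [compGen_eq_esymmOn, compGen_eq_esymmOn, map_esymmOn (κ₁ (n := n) (M := M))]
  let e : Fin n ↪ Fin M := ⟨Fin.castLE h, Fin.castLE_injective h⟩
  let me : Finset (Fin n) ↪ Finset (Fin M) := (Finset.mapEmbedding e).toEmbedding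
  rw [esymmOn_comp_embedding _ ((Finset.univ : Finset (Fin n)).powersetCard i) me]
  · congr 1
    funext s
    change κ₁ (∏ a ∈ s.map e, (X a : MvPolynomial (Fin M) ℤ)) = _
    rw [Finset.prod_map, map_prod]
    refine Finset.prod_congr rfl fun a _ => ?_
    exact κ₁_X_castLE h a
  · rw [← Finset.powersetCard_map]
    exact Finset.powersetCard_mono (Finset.subset_univ _)
  · intro s hs hs'
    rw [← Finset.powersetCard_map, Finset.mem_powersetCard] at hs'
    rw [Finset.mem_powersetCard] at hs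
    have : ¬ s ⊆ (Finset.univ : Finset (Fin n)).map e := fun h' => hs' ⟨h', hs.2⟩
    rw [Finset.not_subset] at this
    obtain ⟨a, has, ha⟩ := this
    rw [map_prod]
    refine Finset.prod_eq_zero has (κ₁_X_of_not_range h a ?_)
    rintro ⟨a', rfl⟩
    exact ha (Finset.mem_map_of_mem e (Finset.mem_univ a'))

end Kill1

/-! ## restriction of variables and stability, one family -/

section Stab1

variable {n M : ℕ} (h : n ≤ M)

lemma weight_mapDomain₁ (d : Fin n →₀ ℕ) :
    Finsupp.weight (fun k : Fin M => (k : ℕ) + 1) (d.mapDomain (Fin.castLE h)) =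
      Finsupp.weight (fun k : Fin n => (k : ℕ) + 1) d := by
  rw [Finsupp.weight_apply, Finsupp.weight_apply, Finsupp.sum_mapDomain_index]
  · rfl
  · intro b; exact zero_smul _ _
  · intro b m₁ m₂; exact add_smul _ _ _

/-- a polynomial of weight `n` only involves the first `n` variables. -/
lemma exists_restrict₁ (Q' : MvPolynomial (Fin M) ℤ)
    (hQ' : IsWeightedHomogeneous (fun k : Fin M => (k : ℕ) + 1) Q' n) :
    ∃ Q'' : MvPolynomial (Fin n) ℤ, ι₁ h Q'' = Q' ∧
      IsWeightedHomogeneous (fun k : Fin n => (k : ℕ) + 1) Q'' n := by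
  classical
  have hvars : (↑Q'.vars : Set (Fin M)) ⊆ Set.range (Fin.castLE h) := by
    intro v hv
    rw [Finset.mem_coe, mem_vars_iff_mem_support] at hv
    obtain ⟨d, hd, hvd⟩ := hv
    have hwt := hQ' (mem_support_iff.1 hd)
    rw [Finsupp.weight_apply, Finsupp.sum] at hwt
    have hdv : 1 ≤ d v := Nat.one_le_iff_ne_zero.2 (Finsupp.mem_support_iff.1 hvd)
    by_cases ha : v.1 < n
    · exact ⟨⟨v.1, ha⟩, by ext; rfl⟩
    · exfalso
      have h2 := Finset.single_le_sum (f := fun x => d x • ((x : ℕ) + 1))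
        (fun x _ => Nat.zero_le _) hvd
      rw [hwt] at h2
      simp only [smul_eq_mul] at h2
      nlinarith
  obtain ⟨Q'', hQ''⟩ := exists_rename_eq_of_vars_subset_range Q' _ (Fin.castLE_injective h) hvars
  refine ⟨Q'', hQ'', ?_⟩
  intro d hd
  have h1 : coeff (d.mapDomain (Fin.castLE h)) Q' = coeff d Q'' := by
    rw [← hQ'']
    exact coeff_rename_mapDomain _ (Fin.castLE_injective h) Q'' d
  have := hQ' (by rw [h1]; exact hd)
  rwa [weight_mapDomain₁] at this

/-- **Stability**: for `i * j ≤ M` there is `Q` with `IsCompPoly i j Q` whose image at level `M`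
computes `compGen M i j`. -/
theorem exists_isCompPoly_stable (i j : ℕ) (h : i * j ≤ M) :
    ∃ Q : MvPolynomial (Fin (i * j)) ℤ, LambdaRing.IsCompPoly i j Q ∧
      E ℤ M (ι₁ h Q) = LambdaRing.compGen M i j := by
  obtain ⟨Q', hQ'1, hQ'2⟩ := exists_isWeightedHomogeneous (LambdaRing.compGen M i j)
    (compGen_isSymmetric M i j) (i * j) (compGen_isHomogeneous M i j)
  obtain ⟨Q'', hQ''1, hQ''2⟩ := exists_restrict₁ h Q' hQ'2
  have hE : E ℤ M (ι₁ h Q'') = LambdaRing.compGen M i j := by rw [hQ''1]; exact hQ'1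
  refine ⟨Q'', ⟨?_, hQ''2⟩, hE⟩
  change E ℤ (i * j) Q'' = _
  rw [← κ₁_E_ι₁ h, hE, κ₁_compGen h]

end Stab1

/-! ## Newton identities for `compGen` -/

section NewtonComp

lemma psum_eq_aeval_newton' (σ : Type*) [Fintype σ] [DecidableEq σ] (k : ℕ) (hk : 0 < k) :
    psum σ ℤ k = aeval (fun i => esymm σ ℤ i) (newton k) := by
  obtain ⟨m, rfl⟩ : ∃ m, k = m + 1 := ⟨k - 1, by omega⟩
  exact psum_eq_aeval_newton σ m

/-- `compGen N i j` is the image of the `j`-th elementary symmetric polynomial in variables indexed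
by the `i`-element subsets. -/
lemma compGen_eq_aeval (N i j : ℕ) :
    LambdaRing.compGen N i j =
      aeval (fun s : ↥((Finset.univ : Finset (Fin N)).powersetCard i) =>
          ∏ a ∈ s.1, (X a : MvPolynomial (Fin N) ℤ))
        (esymm ↥((Finset.univ : Finset (Fin N)).powersetCard i) ℤ j) := by
  rw [aeval_esymm_eq_multiset_esymm, LambdaRing.compGen]
  congr 1
  rw [Finset.univ_eq_attach, Finset.attach_val]
  exact (Multiset.attach_map_val' _ _).symm

/-- `ν_k` of the `compGen M i •` is the `i`-th elementary symmetric function of the `k`-th powers. -/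
lemma aeval_compGen_newton (M i k : ℕ) (hk : 0 < k) :
    aeval (fun j => LambdaRing.compGen M i j) (newton k) =
      aeval (fun a : Fin M => (X a : MvPolynomial (Fin M) ℤ) ^ k) (esymm (Fin M) ℤ i) := by
  classical
  have h2 : (fun j => LambdaRing.compGen M i j) = fun j =>
      aeval (fun s : ↥((Finset.univ : Finset (Fin M)).powersetCard i) =>
          ∏ a ∈ s.1, (X a : MvPolynomial (Fin M) ℤ))
        (esymm ↥((Finset.univ : Finset (Fin M)).powersetCard i) ℤ j) := by
    funext j; exact compGen_eq_aeval M i j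
  rw [h2, ← comp_aeval, AlgHom.comp_apply, ← psum_eq_aeval_newton' _ k hk, psum, map_sum]
  rw [esymm, map_sum]
  have hL : ∀ x : ↥((Finset.univ : Finset (Fin M)).powersetCard i),
      aeval (fun s : ↥((Finset.univ : Finset (Fin M)).powersetCard i) =>
          ∏ a ∈ s.1, (X a : MvPolynomial (Fin M) ℤ))
          ((X x : MvPolynomial ↥((Finset.univ : Finset (Fin M)).powersetCard i) ℤ) ^ k) =
        (∏ a ∈ x.1, (X a : MvPolynomial (Fin M) ℤ)) ^ k := by
    intro x
    rw [map_pow, aeval_X]
  rw [Finset.sum_congr rfl (fun x _ => hL x),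
    Finset.sum_coe_sort ((Finset.univ : Finset (Fin M)).powersetCard i)
      (fun s => (∏ a ∈ s, (X a : MvPolynomial (Fin M) ℤ)) ^ k)]
  refine Finset.sum_congr rfl fun s _ => ?_
  rw [map_prod, ← Finset.prod_pow]
  refine Finset.prod_congr rfl fun a _ => ?_
  rw [aeval_X]

/-- `ν_m` of the elementary symmetric functions of the `k`-th powers is the `km`-th power sum. -/
lemma aeval_pow_newton (M k m : ℕ) (hm : 0 < m) :
    aeval (fun i => aeval (fun a : Fin M => (X a : MvPolynomial (Fin M) ℤ) ^ k)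
        (esymm (Fin M) ℤ i)) (newton m) = psum (Fin M) ℤ (k * m) := by
  classical
  rw [← comp_aeval, AlgHom.comp_apply, ← psum_eq_aeval_newton' _ m hm, psum, map_sum, psum]
  refine Finset.sum_congr rfl fun a _ => ?_
  rw [map_pow, aeval_X, ← pow_mul]

end NewtonComp

/-! ## the universal identity for `ψ^k ∘ ψ^{k'}` -/

section UniversalComp

variable (M : ℕ)

/-- the sequence `1, X_1, …, X_M, 0, …` -/
noncomputable def ξ₁ : ℕ → MvPolynomial (Fin M) ℤ
  | 0 => 1
  | (j + 1) => if h : j < M then X ⟨j, h⟩ else 0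

lemma E_ξ₁ (i : ℕ) (hi : i ≤ M) : E ℤ M (ξ₁ M i) = esymm (Fin M) ℤ i := by
  rcases i with _ | j
  · rw [ξ₁, map_one, esymm_zero]
  · rw [ξ₁, dif_pos (by omega), E, aeval_X]

/-- the stable universal polynomial `Q_{i,j}` (for `i * j ≤ M`) -/
noncomputable def Qst (i j : ℕ) (h : i * j ≤ M) : MvPolynomial (Fin (i * j)) ℤ :=
  Classical.choose (exists_isCompPoly_stable (M := M) i j h)

lemma Qst_isCompPoly (i j : ℕ) (h : i * j ≤ M) : LambdaRing.IsCompPoly i j (Qst M i j h) :=
  (Classical.choose_spec (exists_isCompPoly_stable (M := M) i j h)).1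

lemma E_ι₁_Qst (i j : ℕ) (h : i * j ≤ M) :
    E ℤ M (ι₁ h (Qst M i j h)) = LambdaRing.compGen M i j :=
  (Classical.choose_spec (exists_isCompPoly_stable (M := M) i j h)).2

/-- the polynomials `Q_{i,j}` at level `M` -/
noncomputable def θ (i j : ℕ) : MvPolynomial (Fin M) ℤ :=
  if h : i * j ≤ M then ι₁ h (Qst M i j h) else 0

lemma E_θ (i j : ℕ) (h : i * j ≤ M) : E ℤ M (θ M i j) = LambdaRing.compGen M i j := by
  rw [θ, dif_pos h, E_ι₁_Qst]

/-- the universal identity `ν_{k'}(ν_k(Q_{i,1}, …, Q_{i,k}))_i = ν_{kk'}`. -/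
theorem universal_comp_identity (k k' : ℕ) (hk : 0 < k) (hk' : 0 < k') (hM : k * k' ≤ M) :
    aeval (fun i => aeval (fun j => θ M i j) (newton k)) (newton k') =
      aeval (ξ₁ M) (newton (k * k')) := by
  classical
  apply E_injective (R := ℤ) (m := M)
  have e1 : E ℤ M (aeval (fun i => aeval (fun j => θ M i j) (newton k)) (newton k')) =
      aeval (fun i => E ℤ M (aeval (fun j => θ M i j) (newton k))) (newton k') := by
    rw [← AlgHom.comp_apply, comp_aeval]
  have e2 : ∀ i, E ℤ M (aeval (fun j => θ M i j) (newton k)) =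
      aeval (fun j => E ℤ M (θ M i j)) (newton k) := by
    intro i
    rw [← AlgHom.comp_apply, comp_aeval]
  have e3 : E ℤ M (aeval (ξ₁ M) (newton (k * k'))) =
      aeval (fun i => E ℤ M (ξ₁ M i)) (newton (k * k')) := by
    rw [← AlgHom.comp_apply, comp_aeval]
  have c1 : ∀ i, i ≤ k' → aeval (fun j => E ℤ M (θ M i j)) (newton k) =
      aeval (fun a : Fin M => (X a : MvPolynomial (Fin M) ℤ) ^ k) (esymm (Fin M) ℤ i) := by
    intro i hi
    rw [← aeval_compGen_newton M i k hk]
    refine newton_congr _ _ k (fun j hj => E_θ M i j ?_)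
    calc i * j ≤ k' * k := Nat.mul_le_mul hi hj
      _ = k * k' := mul_comm _ _
      _ ≤ M := hM
  have c2 : aeval (fun i => E ℤ M (aeval (fun j => θ M i j) (newton k))) (newton k') =
      aeval (fun i => aeval (fun a : Fin M => (X a : MvPolynomial (Fin M) ℤ) ^ k)
        (esymm (Fin M) ℤ i)) (newton k') :=
    newton_congr _ _ k' (fun i hi => by rw [e2 i, c1 i hi])
  have c3 : aeval (fun i => E ℤ M (ξ₁ M i)) (newton (k * k')) =
      aeval (fun i => esymm (Fin M) ℤ i) (newton (k * k')) :=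
    newton_congr _ _ (k * k') (fun i hi => E_ξ₁ M i (by omega))
  rw [e1, c2, aeval_pow_newton M k k' hk', e3, c3,
    ← psum_eq_aeval_newton' (Fin M) (k * k') (Nat.mul_pos hk hk')]

end UniversalComp


/-! ## additivity of the Adams operations -/

section AdamsAdd

open _root_.LambdaRing

variable {K : Type*} [CommRing K] [LambdaOps K]

lemma lamSeries_add' (x y : K) : lamSeries (x + y) = lamSeries x * lamSeries y := by
  ext k
  rw [coeff_lamSeries', LambdaOps.lam_add, PowerSeries.coeff_mul,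
    Finset.Nat.sum_antidiagonal_eq_sum_range_succ
      (fun i j => PowerSeries.coeff i (lamSeries x) * PowerSeries.coeff j (lamSeries y))]
  refine Finset.sum_congr rfl fun i _ => ?_
  rw [coeff_lamSeries', coeff_lamSeries']

lemma constantCoeff_lamSeries' (x : K) : PowerSeries.constantCoeff (lamSeries x) = 1 := by
  rw [← PowerSeries.coeff_zero_eq_constantCoeff_apply, coeff_lamSeries', LambdaOps.lam_zero]

lemma logDerivSeries_add (x y : K) :
    logDerivSeries (x + y) = logDerivSeries x + logDerivSeries y := by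
  have hu : lamSeries (x + y) * (lamSeries (x + y)).invOfUnit 1 = 1 :=
    PowerSeries.mul_invOfUnit _ _ (by rw [constantCoeff_lamSeries']; rfl)
  have h1 : logDerivSeries (x + y) * lamSeries (x + y) =
      (logDerivSeries x + logDerivSeries y) * lamSeries (x + y) := by
    rw [logDerivSeries_mul, lamSeries_add', Derivation.leibniz, smul_eq_mul, smul_eq_mul,
      ← logDerivSeries_mul x, ← logDerivSeries_mul y]
    ring
  calc logDerivSeries (x + y)
      = logDerivSeries (x + y) * lamSeries (x + y) * (lamSeries (x + y)).invOfUnit 1 := by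
        rw [mul_assoc, hu, mul_one]
    _ = (logDerivSeries x + logDerivSeries y) * lamSeries (x + y) *
          (lamSeries (x + y)).invOfUnit 1 := by rw [h1]
    _ = logDerivSeries x + logDerivSeries y := by rw [mul_assoc, hu, mul_one]

/-- the Adams operations are additive (in any pre-λ-ring). -/
theorem adamsOp_add (k : ℕ) (x y : K) : adamsOp k (x + y) = adamsOp k x + adamsOp k y := by
  rcases k with _ | k
  · simp [adamsOp]
  · rw [adamsOp, adamsOp, adamsOp, logDerivSeries_add, map_add, mul_add]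

lemma adamsOp_zero_right (k : ℕ) : adamsOp k (0 : K) = 0 := by
  have h := adamsOp_add k (0 : K) 0
  rw [add_zero] at h
  exact left_eq_add.1 h

/-- an Adams operation which is unital and multiplicative is a ring homomorphism. -/
noncomputable def adamsHom (k : ℕ) (h1 : adamsOp k (1 : K) = 1)
    (hmul : ∀ x y : K, adamsOp k (x * y) = adamsOp k x * adamsOp k y) : K →+* K where
  toFun := adamsOp k
  map_one' := h1
  map_mul' := hmul
  map_zero' := adamsOp_zero_right k
  map_add' := adamsOp_add k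

/-- a unital multiplicative Adams operation commutes with integer polynomial expressions. -/
theorem adamsOp_aeval (k : ℕ) (h1 : adamsOp k (1 : K) = 1)
    (hmul : ∀ x y : K, adamsOp k (x * y) = adamsOp k x * adamsOp k y)
    {σ : Type*} (f : σ → K) (p : MvPolynomial σ ℤ) :
    adamsOp k (aeval f p) = aeval (fun s => adamsOp k (f s)) p := by
  have h := comp_aeval f (adamsHom k h1 hmul).toIntAlgHom
  have h2 := AlgHom.congr_fun h p
  exact h2

lemma adamsOp_eq_aeval_newton' (z : K) (k : ℕ) (hk : 0 < k) :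
    adamsOp k z = aeval (fun i => LambdaOps.lam i z) (newton k) := by
  obtain ⟨m, rfl⟩ : ∃ m, k = m + 1 := ⟨k - 1, by omega⟩
  exact adamsOp_eq_aeval_newton z m

end AdamsAdd

end Groth.Agent.Lib.SpecialLam6b
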