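import Groth.Agent.Lib.BlowUpSeparate68

/-!
# Points of affine charts, specialization and maximal points of closed sets (helper68)

* `pt W 𝔭`: the point of the affine open `W` of a scheme corresponding to the prime `𝔭` of `Γ(X, W)`;
  `P_pt`, `pt_P` relate it to `BlowUpSeparate68.P`.
* `specializes_iff`: for `y z ∈ W`, `y ⤳ z ↔ P W y ≤ P W z`.
* `exists_maximal_generization`: every point of a closed subset `Z'` of a scheme is a specialization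
  of a maximal point of `Z'`.
-/

set_option autoImplicit false
universe u
open CategoryTheory CategoryTheory.Limits AlgebraicGeometry TopologicalSpace

namespace Groth.Agent.Lib.SpecializeChart68

open Groth.Agent.Lib.BlowUpSeparate68

variable {X : Scheme.{u}}

/-- The point of the affine open `W` corresponding to the prime ideal `𝔭` of `Γ(X, W)`. -/
noncomputable def pt (W : X.affineOpens) (𝔭 : Ideal Γ(X, W.1)) [h : 𝔭.IsPrime] : X :=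
  W.2.fromSpec ⟨𝔭, h⟩

theorem pt_mem (W : X.affineOpens) (𝔭 : Ideal Γ(X, W.1)) [h : 𝔭.IsPrime] : pt W 𝔭 ∈ W.1 := by
  have h2 : pt W 𝔭 ∈ Set.range W.2.fromSpec := Set.mem_range_self _
  rw [W.2.range_fromSpec] at h2
  exact h2

theorem fromSpec_injective (W : X.affineOpens) : Function.Injective W.2.fromSpec :=
  (Scheme.Hom.isOpenEmbedding W.2.fromSpec).injective

theorem P_pt (W : X.affineOpens) (𝔭 : Ideal Γ(X, W.1)) [h : 𝔭.IsPrime] :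
    P W (pt W 𝔭) (pt_mem W 𝔭) = 𝔭 := by
  have h1 : W.2.primeIdealOf ⟨pt W 𝔭, pt_mem W 𝔭⟩ = ⟨𝔭, h⟩ :=
    fromSpec_injective W (W.2.fromSpec_primeIdealOf ⟨_, pt_mem W 𝔭⟩)
  exact congrArg PrimeSpectrum.asIdeal h1

theorem pt_P (W : X.affineOpens) (y : X) (hy : y ∈ W.1) : pt W (P W y hy) = y :=
  W.2.fromSpec_primeIdealOf ⟨y, hy⟩

theorem specializes_iff (W : X.affineOpens) (y z : X) (hy : y ∈ W.1) (hz : z ∈ W.1) :
    y ⤳ z ↔ P W y hy ≤ P W z hz := by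
  have hW : IsAffineOpen W.1 := W.2
  have h1 : y ⤳ z ↔ hW.primeIdealOf ⟨y, hy⟩ ⤳ hW.primeIdealOf ⟨z, hz⟩ := by
    have h2 := (Scheme.Hom.isOpenEmbedding hW.fromSpec).isInducing.specializes_iff
      (x := hW.primeIdealOf ⟨y, hy⟩) (y := hW.primeIdealOf ⟨z, hz⟩)
    rw [hW.fromSpec_primeIdealOf ⟨y, hy⟩, hW.fromSpec_primeIdealOf ⟨z, hz⟩] at h2
    exact h2
  rw [h1, ← PrimeSpectrum.le_iff_specializes]
  rfl

theorem pt_specializes_pt (W : X.affineOpens) {𝔭 𝔮 : Ideal Γ(X, W.1)} [h𝔭 : 𝔭.IsPrime]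
    [h𝔮 : 𝔮.IsPrime] (h : 𝔭 ≤ 𝔮) : pt W 𝔭 ⤳ pt W 𝔮 := by
  rw [specializes_iff W _ _ (pt_mem W 𝔭) (pt_mem W 𝔮), P_pt, P_pt]
  exact h

theorem pt_injective (W : X.affineOpens) {𝔭 𝔮 : Ideal Γ(X, W.1)} [h𝔭 : 𝔭.IsPrime]
    [h𝔮 : 𝔮.IsPrime] (h : pt W 𝔭 = pt W 𝔮) : 𝔭 = 𝔮 :=
  congrArg PrimeSpectrum.asIdeal (fromSpec_injective W h)

/-- Every point of a closed subset is a specialization of a maximal point of that subset. -/
theorem exists_maximal_generization (Z' : Set X) (hZ' : IsClosed Z') (z : X) (hz : z ∈ Z') :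
    ∃ y ∈ Z', y ⤳ z ∧ ∀ y' ∈ Z', y' ⤳ y → y' = y := by
  obtain ⟨_, ⟨W, hW, rfl⟩, hzW, -⟩ :=
    X.isBasis_affineOpens.exists_subset_of_mem_open (Set.mem_univ z) isOpen_univ
  set C : Set (PrimeSpectrum Γ(X, W)) := (IsAffineOpen.fromSpec hW) ⁻¹' Z' with hC
  have hCcl : IsClosed C := hZ'.preimage (IsAffineOpen.fromSpec hW).continuous
  have hCeq : PrimeSpectrum.zeroLocus (PrimeSpectrum.vanishingIdeal C : Set Γ(X, W)) = C := by
    rw [PrimeSpectrum.zeroLocus_vanishingIdeal_eq_closure, hCcl.closure_eq]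
  have hzC : hW.primeIdealOf ⟨z, hzW⟩ ∈ C := by
    show hW.fromSpec (hW.primeIdealOf ⟨z, hzW⟩) ∈ Z'
    rw [hW.fromSpec_primeIdealOf ⟨z, hzW⟩]
    exact hz
  have hJz : PrimeSpectrum.vanishingIdeal C ≤ P ⟨W, hW⟩ z hzW := by
    rw [← hCeq] at hzC
    exact (PrimeSpectrum.mem_zeroLocus _ _).1 hzC
  obtain ⟨𝔭, h𝔭, h𝔭z⟩ := Ideal.exists_minimalPrimes_le hJz
  have h𝔭prime : 𝔭.IsPrime := h𝔭.1.1
  refine ⟨pt ⟨W, hW⟩ 𝔭, ?_, ?_, ?_⟩
  · have h1 : (⟨𝔭, h𝔭prime⟩ : PrimeSpectrum Γ(X, W)) ∈ C := by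
      rw [← hCeq, PrimeSpectrum.mem_zeroLocus]
      exact h𝔭.1.2
    exact h1
  · rw [specializes_iff ⟨W, hW⟩ _ _ (pt_mem _ 𝔭) hzW, P_pt]
    exact h𝔭z
  · intro y' hy' hsp
    have hy'W : y' ∈ W := hsp.mem_open W.2 (pt_mem ⟨W, hW⟩ 𝔭)
    have hle : P ⟨W, hW⟩ y' hy'W ≤ 𝔭 := by
      have := (specializes_iff ⟨W, hW⟩ _ _ hy'W (pt_mem _ 𝔭)).1 hsp
      rwa [P_pt] at this
    have hy'C : hW.primeIdealOf ⟨y', hy'W⟩ ∈ C := by
      show hW.fromSpec (hW.primeIdealOf ⟨y', hy'W⟩) ∈ Z'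
      rw [hW.fromSpec_primeIdealOf ⟨y', hy'W⟩]
      exact hy'
    have hJy' : PrimeSpectrum.vanishingIdeal C ≤ P ⟨W, hW⟩ y' hy'W := by
      rw [← hCeq] at hy'C
      exact (PrimeSpectrum.mem_zeroLocus _ _).1 hy'C
    have hge : 𝔭 ≤ P ⟨W, hW⟩ y' hy'W :=
      h𝔭.2 ⟨(hW.primeIdealOf ⟨y', hy'W⟩).isPrime, hJy'⟩ hle
    have heq : P ⟨W, hW⟩ y' hy'W = 𝔭 := le_antisymm hle hge
    rw [← pt_P ⟨W, hW⟩ y' hy'W]
    congr 1

end Groth.Agent.Lib.SpecializeChart68
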