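import Mathlib.Topology.Spectral.Basic
import Mathlib.Topology.Spectral.Hom
import Mathlib.Topology.Spectral.ConstructibleTopology
import Mathlib.Topology.Constructible
import Mathlib.Topology.Inseparable

/-!
Spectral spaces and the constructible topology: the constructible topology of a spectral space is
compact Hausdorff and finer than the original one; quasi-compact opens are clopen for it; spectral
maps are continuous for it; pro-constructible sets stable under specialization are closed.
-/

set_option autoImplicit false

namespace Groth.Agent.Lib.SpectralCons33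

open Topology Set

variable {X Y : Type*} [TopologicalSpace X] [TopologicalSpace Y]

/-- The constructible topology of a spectral space is compact (un-bundled form). -/
theorem compactSpace_cons [CompactSpace X] [QuasiSober X] [PrespectralSpace X]
    [QuasiSeparatedSpace X] : @CompactSpace X (constructibleTopology X) :=
  @Function.Surjective.compactSpace (WithConstructibleTopology X) X _ (constructibleTopology X)
    WithTopology.ofTopology (WithTopology.continuous_ofTopology _) inferInstance
    (WithTopology.ofTopology_surjective _)

/-- Open sets are open for the constructible topology. -/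
theorem isOpen_cons_of_isOpen [PrespectralSpace X] {U : Set X} (hU : IsOpen U) :
    IsOpen[constructibleTopology X] U := by
  obtain ⟨S, hS, rfl⟩ := (PrespectralSpace.isTopologicalBasis (X := X)).open_eq_sUnion hU
  refine @isOpen_sUnion _ (constructibleTopology X) _ fun s hs => ?_
  exact (hS hs).2.isOpen_constructibleTopology_of_isOpen (hS hs).1

/-- The constructible topology is finer than the original topology. -/
theorem cons_le [PrespectralSpace X] :
    constructibleTopology X ≤ (inferInstance : TopologicalSpace X) :=
  fun _ hU => isOpen_cons_of_isOpen hU

/-- Closed sets are closed for the constructible topology. -/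
theorem isClosed_cons_of_isClosed [PrespectralSpace X] {Z : Set X} (hZ : IsClosed Z) :
    IsClosed[constructibleTopology X] Z := by
  rw [← @isOpen_compl_iff _ _ (constructibleTopology X)]
  exact isOpen_cons_of_isOpen hZ.isOpen_compl

/-- Quasi-compact opens are open for the constructible topology. -/
theorem isOpen_cons_of_isOpen_isCompact {U : Set X} (hU : IsOpen U) (hc : IsCompact U) :
    IsOpen[constructibleTopology X] U :=
  hc.isOpen_constructibleTopology_of_isOpen hU

/-- Quasi-compact opens are closed for the constructible topology. -/
theorem isClosed_cons_of_isOpen_isCompact {U : Set X} (hU : IsOpen U) (hc : IsCompact U) :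
    IsClosed[constructibleTopology X] U := by
  rw [← @isOpen_compl_iff _ _ (constructibleTopology X)]
  exact IsCompact.isOpen_constructibleTopology_of_isClosed (by simpa using hc) hU.isClosed_compl

omit [TopologicalSpace X] in
/-- Compactness for a finer topology implies compactness for a coarser one. -/
theorem isCompact_of_le {t₁ t₂ : TopologicalSpace X} (h : t₁ ≤ t₂) {s : Set X}
    (hs : @IsCompact X t₁ s) : @IsCompact X t₂ s := by
  have := @IsCompact.image X X t₁ t₂ s id hs (continuous_id_of_le h)
  simpa using this

/-- Sets closed in the constructible topology of a spectral space are quasi-compact. -/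
theorem isCompact_of_isClosed_cons [CompactSpace X] [QuasiSober X] [PrespectralSpace X]
    [QuasiSeparatedSpace X] {Z : Set X} (hZ : IsClosed[constructibleTopology X] Z) :
    IsCompact Z := by
  have hc := compactSpace_cons (X := X)
  exact isCompact_of_le cons_le (@IsClosed.isCompact X (constructibleTopology X) Z hc hZ)

/-- The constructible topology of a T0 prespectral space is Hausdorff. -/
theorem t2Space_cons [T0Space X] [PrespectralSpace X] : @T2Space X (constructibleTopology X) := by
  refine @T2Space.mk X (constructibleTopology X) fun x y hxy => ?_
  have hins : ¬ Inseparable x y := fun hi => hxy hi.eq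
  obtain ⟨s, hs, hx⟩ := not_inseparable_iff_exists_open.mp hins
  rcases hx with ⟨hx, hy⟩ | ⟨hy, hx⟩
  · obtain ⟨V, ⟨hVo, hVc⟩, hxV, hVs⟩ :=
      (PrespectralSpace.isTopologicalBasis (X := X)).exists_subset_of_mem_open hx hs
    refine ⟨V, Vᶜ, isOpen_cons_of_isOpen_isCompact hVo hVc, ?_, hxV, fun h => hy (hVs h),
      disjoint_compl_right⟩
    exact (@isOpen_compl_iff _ _ (constructibleTopology X)).mpr
      (isClosed_cons_of_isOpen_isCompact hVo hVc)
  · obtain ⟨V, ⟨hVo, hVc⟩, hyV, hVs⟩ :=
      (PrespectralSpace.isTopologicalBasis (X := X)).exists_subset_of_mem_open hy hs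
    refine ⟨Vᶜ, V, ?_, isOpen_cons_of_isOpen_isCompact hVo hVc, fun h => hx (hVs h), hyV,
      disjoint_compl_left⟩
    exact (@isOpen_compl_iff _ _ (constructibleTopology X)).mpr
      (isClosed_cons_of_isOpen_isCompact hVo hVc)

/-- Spectral maps are continuous for the constructible topologies. -/
theorem continuous_cons_of_isSpectralMap {f : X → Y} (hf : IsSpectralMap f) :
    @Continuous X Y (constructibleTopology X) (constructibleTopology Y) f := by
  refine continuous_generateFrom_iff.mpr fun s hs => ?_
  rcases hs with ⟨hso, hsc⟩ | ⟨hscl, hsc⟩
  · exact isOpen_cons_of_isOpen_isCompact (hso.preimage hf.continuous)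
      (hf.isCompact_preimage_of_isOpen hso hsc)
  · refine IsCompact.isOpen_constructibleTopology_of_isClosed ?_ (hscl.preimage hf.continuous)
    rw [← preimage_compl]
    exact hf.isCompact_preimage_of_isOpen hscl.isOpen_compl hsc

/-- Constructible subsets of a compact quasi-separated space are clopen for the constructible
topology. -/
theorem isClopen_cons_of_isConstructible [CompactSpace X] [QuasiSeparatedSpace X]
    {s : Set X} (hs : IsConstructible s) :
    IsClosed[constructibleTopology X] s ∧ IsOpen[constructibleTopology X] s := by
  induction hs using IsConstructible.empty_union_induction with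
  | open_retrocompact U hUo hUc =>
    exact ⟨isClosed_cons_of_isOpen_isCompact hUo hUc.isCompact,
      isOpen_cons_of_isOpen_isCompact hUo hUc.isCompact⟩
  | union s hs t ht hs' ht' =>
    exact ⟨@IsClosed.union _ _ _ (constructibleTopology X) hs'.1 ht'.1,
      @IsOpen.union _ _ _ (constructibleTopology X) hs'.2 ht'.2⟩
  | compl s hs hs' =>
    exact ⟨(@isClosed_compl_iff _ (constructibleTopology X) _).mpr hs'.2,
      (@isOpen_compl_iff _ _ (constructibleTopology X)).mpr hs'.1⟩

/-- In a spectral space, a set closed for the constructible topology and stable under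
specialization is closed. -/
theorem isClosed_of_isClosed_cons_of_stableUnderSpecialization [CompactSpace X] [QuasiSober X]
    [PrespectralSpace X] [QuasiSeparatedSpace X] {E : Set X}
    (hE : IsClosed[constructibleTopology X] E) (hsp : StableUnderSpecialization E) :
    IsClosed E := by
  rw [← closure_subset_iff_isClosed]
  intro x hx
  have hc := compactSpace_cons (X := X)
  let ι := {U : Set X // IsOpen U ∧ IsCompact U ∧ x ∈ U}
  let t : ι → Set X := fun U => U.1 ∩ E
  have htc : ∀ i, IsClosed[constructibleTopology X] (t i) := fun U =>
    @IsClosed.inter _ _ _ (constructibleTopology X)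
      (isClosed_cons_of_isOpen_isCompact U.2.1 U.2.2.1) hE
  have hne : (⋂ i, t i).Nonempty := by
    by_contra hempty
    rw [not_nonempty_iff_eq_empty] at hempty
    obtain ⟨u, hu⟩ := @IsCompact.elim_finite_subfamily_closed X (constructibleTopology X) univ ι
      (@isCompact_univ _ (constructibleTopology X) hc) t htc (by simpa using hempty)
    have hopen : IsOpen (⋂ i ∈ u, (i : ι).1) := isOpen_biInter_finset fun i _ => i.2.1
    have hxmem : x ∈ ⋂ i ∈ u, (i : ι).1 := by
      simp only [mem_iInter]
      exact fun i _ => i.2.2.2
    obtain ⟨z, hz1, hz2⟩ := mem_closure_iff.mp hx _ hopen hxmem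
    have : z ∈ univ ∩ ⋂ i ∈ u, t i := by
      refine ⟨mem_univ _, ?_⟩
      simp only [mem_iInter] at hz1 ⊢
      exact fun i hi => ⟨hz1 i hi, hz2⟩
    rw [hu] at this
    exact this
  obtain ⟨y, hy⟩ := hne
  rw [mem_iInter] at hy
  have hyE : y ∈ E := by
    have := hy ⟨univ, isOpen_univ, isCompact_univ, mem_univ x⟩
    exact this.2
  have hspec : y ⤳ x := by
    rw [specializes_iff_forall_open]
    intro V hV hxV
    obtain ⟨W, ⟨hWo, hWc⟩, hxW, hWV⟩ :=
      (PrespectralSpace.isTopologicalBasis (X := X)).exists_subset_of_mem_open hxV hV
    exact hWV (hy ⟨W, hWo, hWc, hxW⟩).1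
  exact hsp hspec hyE

/-- In a spectral space, a set open for the constructible topology and stable under
generalization is open. -/
theorem isOpen_of_isOpen_cons_of_stableUnderGeneralization [CompactSpace X] [QuasiSober X]
    [PrespectralSpace X] [QuasiSeparatedSpace X] {E : Set X}
    (hE : IsOpen[constructibleTopology X] E) (hsp : StableUnderGeneralization E) :
    IsOpen E := by
  rw [← isClosed_compl_iff]
  refine isClosed_of_isClosed_cons_of_stableUnderSpecialization
    ((@isClosed_compl_iff _ (constructibleTopology X) _).mpr hE) ?_
  exact hsp.compl

end Groth.Agent.Lib.SpectralCons33
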