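import Mathlib

set_option autoImplicit false
universe u
open CategoryTheory CategoryTheory.Limits AlgebraicGeometry Topology TopologicalSpace Opposite

namespace Groth.Agent.Lib.SpectralDisjointCover

/-- In a spectral space, the members of a pairwise disjoint cover by closed sets with quasi-compact complements are
open. -/
theorem isOpen_of_disjoint_cover {T : Type*} [TopologicalSpace T] [CompactSpace T] [QuasiSober T]
    [PrespectralSpace T] [QuasiSeparatedSpace T] {J : Type*} (C : J → Set T)
    (hcl : ∀ j, IsClosed (C j)) (hco : ∀ j, IsCompact (C j)ᶜ)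
    (hdisj : ∀ j j', j ≠ j' → Disjoint (C j) (C j')) (hcov : ∀ t, ∃ j, t ∈ C j) (j : J) :
    IsOpen (C j) := by
  classical
  have hopen : ∀ j, IsOpen (WithTopology.ofTopology (t := constructibleTopology T) ⁻¹' C j) := by
    intro j
    rw [WithConstructibleTopology.isOpen_iff]
    exact (hco j).isOpen_constructibleTopology_of_isClosed (hcl j)
  obtain ⟨J₀, hJ₀⟩ := isCompact_univ.elim_finite_subcover _ hopen (by
    intro t _
    obtain ⟨j, hj⟩ := hcov (WithTopology.ofTopology t)
    exact Set.mem_iUnion.2 ⟨j, hj⟩)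
  have hcompl : (C j)ᶜ = ⋃ j' ∈ J₀.erase j, C j' := by
    ext t
    simp only [Set.mem_compl_iff, Set.mem_iUnion, Finset.mem_erase, exists_prop]
    constructor
    · intro ht
      have h1 := hJ₀ (Set.mem_univ (WithTopology.toTopology (constructibleTopology T) t))
      simp only [Set.mem_iUnion, exists_prop] at h1
      obtain ⟨j', hj', htj'⟩ := h1
      refine ⟨j', ⟨?_, hj'⟩, htj'⟩
      rintro rfl
      exact ht htj'
    · rintro ⟨j', ⟨hne, -⟩, htj'⟩ htj
      exact (hdisj j j' (Ne.symm hne)).le_bot ⟨htj, htj'⟩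
  rw [← isClosed_compl_iff, hcompl]
  exact (J₀.erase j).finite_toSet.isClosed_biUnion (fun j' _ => hcl j')

/-- For a morphism from an affine scheme into an affine open of a locally Noetherian scheme whose image lies in a
set of points without specializations among them, the fibres are open. -/
theorem isOpen_fibre_of_no_specialization {T₁ U : Scheme.{u}} [IsAffine T₁] [IsLocallyNoetherian U]
    (ψ : T₁ ⟶ U) (O : U.Opens) (hO : IsAffineOpen O) (hψO : ∀ t, ψ t ∈ O) (F : Set ↥U)
    (hψF : ∀ t, ψ t ∈ F) (hF : ∀ u' ∈ F, ∀ u'' ∈ F, u' ⤳ u'' → u' = u'') (u : ↥U) :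
    IsOpen (ψ ⁻¹' {u}) := by
  by_cases hu : u ∈ F
  swap
  · have : ψ ⁻¹' {u} = ∅ := by
      ext t
      simp only [Set.mem_preimage, Set.mem_singleton_iff, Set.mem_empty_iff_false, iff_false]
      intro h
      exact hu (h ▸ hψF t)
    rw [this]
    exact isOpen_empty
  have hNoeth : NoetherianSpace O := by
    have := IsLocallyNoetherian.component_noetherian (X := U) ⟨O, hO⟩
    exact noetherianSpace_of_isAffineOpen O hO
  have hqc : QuasiCompact ψ := inferInstance
  let C : {u' : ↥U // u' ∈ F} → Set ↥T₁ := fun u' => ψ ⁻¹' closure {u'.1}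
  have hCeq : ∀ u' : {u' : ↥U // u' ∈ F}, C u' = ψ ⁻¹' {u'.1} := by
    intro u'
    ext t
    simp only [C, Set.mem_preimage, Set.mem_singleton_iff]
    constructor
    · intro h
      exact (hF u'.1 u'.2 (ψ t) (hψF t) (specializes_iff_mem_closure.2 h)).symm
    · intro h
      rw [h]
      exact subset_closure rfl
  have key := isOpen_of_disjoint_cover C (fun u' => isClosed_closure.preimage ψ.continuous)
    (fun u' => by
      have h1 : (C u')ᶜ = ψ ⁻¹' ((closure {u'.1})ᶜ ∩ (O : Set ↥U)) := by
        ext t
        simp only [C, Set.mem_compl_iff, Set.mem_preimage, Set.mem_inter_iff, SetLike.mem_coe]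
        exact ⟨fun h => ⟨h, hψO t⟩, fun h => h.1⟩
      rw [h1]
      refine QuasiCompact.isCompact_preimage (f := ψ) _
        (isClosed_closure.isOpen_compl.inter O.2) ?_
      exact (noetherianSpace_set_iff (O : Set ↥U)).mp hNoeth _ Set.inter_subset_right)
    (fun u' u'' hne => by
      rw [hCeq, hCeq, Set.disjoint_left]
      intro t h1 h2
      simp only [Set.mem_preimage, Set.mem_singleton_iff] at h1 h2
      exact hne (Subtype.ext (h1.symm.trans h2)))
    (fun t => ⟨⟨ψ t, hψF t⟩, subset_closure rfl⟩) ⟨u, hu⟩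
  rw [hCeq] at key
  exact key

end Groth.Agent.Lib.SpectralDisjointCover
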