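import Groth.Agent.Lib.SierpinskiPow33
import Mathlib.Topology.Category.TopCat.Limits.Basic
import Mathlib.Topology.Sober

/-!
Every spectral space is a directed inverse limit of finite sober (T0) spaces (Hochster; Stacks 09XX).
-/

set_option autoImplicit false
universe u

namespace Groth.Agent.Lib.SpectralFinLim33

open CategoryTheory Limits Topology Set Opposite Groth.Agent.Lib

/-- A finite topological space is quasi-sober. -/
theorem quasiSober_of_finite (Y : Type*) [TopologicalSpace Y] [Finite Y] : QuasiSober Y := by
  classical
  refine ⟨fun {Z} hZ hZc => ?_⟩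
  have hfin : Z.Finite := Set.toFinite Z
  have hcov : Z ⊆ ⋃₀ ((hfin.toFinset.image fun z => closure ({z} : Set Y) : Finset (Set Y)) : Set (Set Y)) := by
    intro z hz
    refine ⟨closure {z}, ?_, subset_closure rfl⟩
    simp only [Finset.coe_image, mem_image, Finset.mem_coe, Set.Finite.mem_toFinset]
    exact ⟨z, hz, rfl⟩
  obtain ⟨W, hW, hZW⟩ := isIrreducible_iff_sUnion_isClosed.mp hZ _ (by
    intro W hW
    obtain ⟨z, -, rfl⟩ := Finset.mem_image.mp hW
    exact isClosed_closure) hcov
  obtain ⟨z, hz, rfl⟩ := Finset.mem_image.mp hW
  rw [Set.Finite.mem_toFinset] at hz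
  refine ⟨z, subset_antisymm ?_ hZW⟩
  exact hZc.closure_subset_iff.mpr (singleton_subset_iff.mpr hz)

variable (X : Type u) [TopologicalSpace X]

/-- Quasi-compact opens of `X`. -/
abbrev QC : Type u := {U : Set X // IsOpen U ∧ IsCompact U}

variable {X}

/-- Membership pattern of a point with respect to a finite set of quasi-compact opens. -/
def ev (S : Finset (QC X)) : X → (S → Prop) := fun x U => x ∈ U.1.1

theorem continuous_ev (S : Finset (QC X)) : Continuous (ev S) :=
  continuous_pi fun U => continuous_Prop.mpr U.1.2.1

/-- The finite T0 space of membership patterns realised by points of `X`. -/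
abbrev Stage (S : Finset (QC X)) : Type u := range (ev S)

/-- The canonical map to a stage. -/
def toStage (S : Finset (QC X)) : X → Stage S := fun x => ⟨ev S x, mem_range_self x⟩

theorem continuous_toStage (S : Finset (QC X)) : Continuous (toStage S) :=
  (continuous_ev S).subtype_mk _

/-- Restriction of patterns along an inclusion of finite sets of quasi-compact opens. -/
def resFun {S S' : Finset (QC X)} (h : S ≤ S') : (S' → Prop) → (S → Prop) :=
  fun p U => p ⟨U.1, h U.2⟩

theorem continuous_resFun {S S' : Finset (QC X)} (h : S ≤ S') : Continuous (resFun h) :=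
  continuous_pi fun U => continuous_apply (⟨U.1, h U.2⟩ : S')

theorem resFun_ev {S S' : Finset (QC X)} (h : S ≤ S') (x : X) : resFun h (ev S' x) = ev S x := rfl

/-- Transition maps between stages. -/
def res {S S' : Finset (QC X)} (h : S ≤ S') : Stage S' → Stage S := fun p =>
  ⟨resFun h p.1, by
    obtain ⟨x, hx⟩ := p.2
    exact ⟨x, by rw [← hx]; rfl⟩⟩

theorem continuous_res {S S' : Finset (QC X)} (h : S ≤ S') : Continuous (res h) :=
  ((continuous_resFun h).comp continuous_subtype_val).subtype_mk _

theorem res_toStage {S S' : Finset (QC X)} (h : S ≤ S') (x : X) :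
    res h (toStage S' x) = toStage S x := rfl

instance (S : Finset (QC X)) : Finite (Stage S) := inferInstance

instance (S : Finset (QC X)) : T0Space (Stage S) := inferInstance

instance (S : Finset (QC X)) : QuasiSober (Stage S) := quasiSober_of_finite _

section Phi

/-- The canonical map from `X` to the product of all stages. -/
def Φ : X → ∀ S : Finset (QC X), Stage S := fun x S => toStage S x

theorem continuous_Φ : Continuous (Φ (X := X)) := continuous_pi continuous_toStage

theorem isInducing_Φ [PrespectralSpace X] : IsInducing (Φ (X := X)) := by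
  classical
  refine ⟨le_antisymm continuous_Φ.le_induced fun u hu => ?_⟩
  obtain ⟨B, hB, rfl⟩ := (PrespectralSpace.isTopologicalBasis (X := X)).open_eq_sUnion hu
  refine @isOpen_sUnion _ (TopologicalSpace.induced Φ _) _ fun s hs => ?_
  let U0 : QC X := ⟨s, hB hs⟩
  refine isOpen_induced_iff.mpr
    ⟨{f | (f {U0}).1 ⟨U0, Finset.mem_singleton_self U0⟩}, ?_, ?_⟩
  · exact continuous_Prop.mp ((continuous_apply (⟨U0, Finset.mem_singleton_self U0⟩ :
      ({U0} : Finset (QC X)))).comp
      (continuous_subtype_val.comp (continuous_apply ({U0} : Finset (QC X)))))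
  · ext x
    rfl

theorem injective_Φ [PrespectralSpace X] [T0Space X] : Function.Injective (Φ (X := X)) :=
  fun _ _ hxy => (isInducing_Φ.inseparable_iff.mp (hxy ▸ Inseparable.refl _)).eq

/-- Every compatible family of patterns comes from a point (compactness of the constructible
topology). -/
theorem exists_Φ_eq [SpectralSpace X] (f : ∀ S : Finset (QC X), Stage S)
    (hf : ∀ (S S' : Finset (QC X)) (h : S ≤ S'), res h (f S') = f S) : ∃ x : X, Φ x = f := by
  classical
  let τ : QC X → Prop := fun U => (f {U}).1 ⟨U, Finset.mem_singleton_self U⟩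
  have hτ : ∀ (S : Finset (QC X)) (U : S), (f S).1 U = τ U.1 := by
    intro S U
    have h : ({U.1} : Finset (QC X)) ≤ S := Finset.singleton_subset_iff.mpr U.2
    have := hf _ _ h
    have h2 := congrArg (fun q : Stage ({U.1} : Finset (QC X)) =>
      q.1 ⟨U.1, Finset.mem_singleton_self U.1⟩) this
    exact h2
  let Cs : QC X → Set X := fun U => if τ U then U.1 else U.1ᶜ
  have hCs : ∀ U, IsClosed[constructibleTopology X] (Cs U) := by
    intro U
    by_cases hU : τ U
    · simp only [Cs, hU, if_true]
      exact SpectralCons33.isClosed_cons_of_isOpen_isCompact U.2.1 U.2.2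
    · simp only [Cs, hU, if_false]
      rw [@isClosed_compl_iff _ (constructibleTopology X)]
      exact SpectralCons33.isOpen_cons_of_isOpen_isCompact U.2.1 U.2.2
  have hcomp := SpectralCons33.compactSpace_cons (X := X)
  have hne := @IsCompact.inter_iInter_nonempty X (constructibleTopology X) univ (QC X)
    (@isCompact_univ _ (constructibleTopology X) hcomp) Cs hCs (by
      intro A
      obtain ⟨x, hx⟩ := (f A).2
      refine ⟨x, mem_univ _, ?_⟩
      simp only [mem_iInter]
      intro U hU
      have h1 : (x ∈ U.1) = τ U := by
        have := congrFun hx ⟨U, hU⟩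
        rw [hτ A ⟨U, hU⟩] at this
        exact this
      by_cases hτU : τ U
      · simp only [Cs, hτU, if_true]
        rw [h1]; exact hτU
      · simp only [Cs, hτU, if_false, mem_compl_iff]
        rw [h1]; exact hτU)
  obtain ⟨x, -, hx⟩ := hne
  rw [mem_iInter] at hx
  have hxτ : ∀ U : QC X, (x ∈ U.1) = τ U := by
    intro U
    have := hx U
    by_cases hτU : τ U
    · simp only [Cs, hτU, if_true] at this
      exact propext ⟨fun _ => hτU, fun _ => this⟩
    · simp only [Cs, hτU, if_false, mem_compl_iff] at this
      exact propext ⟨fun h => absurd h this, fun h => absurd h hτU⟩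
  refine ⟨x, funext fun S => Subtype.ext (funext fun U => ?_)⟩
  change (x ∈ U.1.1) = (f S).1 U
  rw [hτ S U, hxτ]

end Phi

section Cat

variable (X)

/-- The inverse system of stages, as a functor on the opposite of the directed set of finite sets
of quasi-compact opens. -/
def F : (Finset (QC X))ᵒᵖ ⥤ TopCat.{u} where
  obj S := TopCat.of (Stage (unop S))
  map {S S'} f := TopCat.ofHom ⟨res (leOfHom f.unop), continuous_res _⟩
  map_id S := by
    ext p
    rfl
  map_comp f g := by
    ext p
    rfl

/-- The cone over the system of stages with vertex `X`. -/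
def cone : Cone (F X) where
  pt := TopCat.of X
  π :=
    { app := fun S => TopCat.ofHom ⟨toStage (unop S), continuous_toStage _⟩
      naturality := by
        intro S S' f
        ext x
        rfl }

variable {X}

theorem compat_of_cone (s : Cone (F X)) (z : s.pt) (S S' : Finset (QC X)) (h : S ≤ S') :
    res h (s.π.app (op S') z) = s.π.app (op S) z := by
  have := s.w (homOfLE h).op
  have h2 := congrArg (fun φ : s.pt ⟶ (F X).obj (op S) => φ z) this
  exact h2

variable [SpectralSpace X]

/-- The underlying function of the lift of a cone. -/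
noncomputable def liftFun (s : Cone (F X)) (z : s.pt) : X :=
  Classical.choose (exists_Φ_eq (fun S => s.π.app (op S) z) (compat_of_cone s z))

theorem Φ_liftFun (s : Cone (F X)) (z : s.pt) :
    Φ (liftFun s z) = fun S => s.π.app (op S) z :=
  Classical.choose_spec (exists_Φ_eq (fun S => s.π.app (op S) z) (compat_of_cone s z))

theorem continuous_liftFun (s : Cone (F X)) : Continuous (liftFun s) := by
  rw [isInducing_Φ.continuous_iff]
  have : Φ ∘ liftFun s = fun z S => s.π.app (op S) z := funext fun z => Φ_liftFun s z
  rw [this]
  exact continuous_pi fun S => (s.π.app (op S)).hom.continuous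

variable (X)

/-- `X` is the limit of its finite stages. -/
noncomputable def isLimitCone : IsLimit (cone X) where
  lift s := TopCat.ofHom ⟨liftFun s, continuous_liftFun s⟩
  fac s S := by
    ext z
    exact congrFun (Φ_liftFun s z) (unop S)
  uniq s m hm := by
    ext z
    apply injective_Φ (X := X)
    change Φ (m z : X) = Φ (liftFun s z)
    rw [Φ_liftFun]
    funext S
    have := congrArg (fun φ : s.pt ⟶ (F X).obj (op S) => φ z) (hm (op S))
    exact this

end Cat

end Groth.Agent.Lib.SpectralFinLim33
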