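import Groth.Agent.Lib.SpectralCons33
import Mathlib.Topology.Category.TopCat.Limits.Basic
import Mathlib.Topology.Category.TopCat.Limits.Konig
import Mathlib.CategoryTheory.Filtered.Basic

/-!
Limits of diagrams of spectral spaces with spectral transition maps (Stacks 0A2U ff.).
-/

set_option autoImplicit false
universe u

namespace Groth.Agent.Lib.SpectralLim33

open CategoryTheory Limits Topology Set Groth.Agent.Lib

section Points

variable {J : Type u} [SmallCategory J] {F : J ⥤ TopCat.{u}} (c : Cone F) (hc : IsLimit c)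

include hc in
/-- Points of a limit cone in `TopCat` are determined by their projections. -/
theorem ext_of_isLimit {x y : c.pt} (h : ∀ j, c.π.app j x = c.π.app j y) : x = y := by
  let e := hc.conePointUniqueUpToIso (TopCat.limitConeIsLimit F)
  have he : ∀ (j : J) (z : c.pt), ((TopCat.limitCone F).π.app j) (e.hom z) = c.π.app j z := by
    intro j z
    have := IsLimit.conePointUniqueUpToIso_hom_comp hc (TopCat.limitConeIsLimit F) j
    rw [← this]
    rfl
  have hxy : e.hom x = e.hom y := by
    apply Subtype.ext
    funext j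
    have h1 := he j x
    have h2 := he j y
    exact h1.trans ((h j).trans h2.symm)
  have := congrArg e.inv hxy
  simpa using this

include hc in
/-- Compatible families of points lift to a limit cone in `TopCat`. -/
theorem exists_of_compatible (u : ∀ j, F.obj j)
    (hu : ∀ {i j : J} (f : i ⟶ j), F.map f (u i) = u j) :
    ∃ x : c.pt, ∀ j, c.π.app j x = u j := by
  let e := hc.conePointUniqueUpToIso (TopCat.limitConeIsLimit F)
  let s : (TopCat.limitCone F).pt := ⟨u, fun f => hu f⟩
  refine ⟨e.inv s, fun j => ?_⟩
  have := IsLimit.conePointUniqueUpToIso_inv_comp hc (TopCat.limitConeIsLimit F) j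
  have h2 : ((TopCat.limitCone F).π.app j) s = u j := rfl
  rw [← h2, ← this]
  rfl

/-- The comparison map from the cone point to the product. -/
def toPi : c.pt → ∀ j, F.obj j := fun x j => c.π.app j x

include hc in
theorem isInducing_toPi : IsInducing (toPi c) := by
  constructor
  rw [TopCat.induced_of_isLimit c hc]
  simp only [Pi.topologicalSpace, induced_iInf, induced_compose]
  rfl

include hc in
theorem range_toPi :
    range (toPi c) = {u | ∀ (k : Σ (i j : J), (i ⟶ j)), F.map k.2.2 (u k.1) = u k.2.1} := by
  ext u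
  constructor
  · rintro ⟨x, rfl⟩ ⟨i, j, f⟩
    simp only [toPi]
    have := c.w f
    rw [← this]
    rfl
  · intro hu
    obtain ⟨x, hx⟩ := exists_of_compatible c hc u (fun {i j} f => hu ⟨i, j, f⟩)
    exact ⟨x, funext hx⟩

end Points


section Compact

/-- In a product of compact Hausdorff spaces, the set of families compatible with given continuous
maps and lying in given closed sets is compact. -/
theorem isCompact_setOf_compatible {ι : Type*} {X : ι → Type*} [∀ i, TopologicalSpace (X i)]
    [∀ i, CompactSpace (X i)] [∀ i, T2Space (X i)] {κ : Type*} (src tgt : κ → ι)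
    (g : ∀ k, X (src k) → X (tgt k)) (hg : ∀ k, Continuous (g k)) (Z : ∀ i, Set (X i))
    (hZ : ∀ i, IsClosed (Z i)) :
    IsCompact {u : ∀ i, X i | (∀ k, g k (u (src k)) = u (tgt k)) ∧ ∀ i, u i ∈ Z i} := by
  apply IsClosed.isCompact
  have : {u : ∀ i, X i | (∀ k, g k (u (src k)) = u (tgt k)) ∧ ∀ i, u i ∈ Z i} =
      (⋂ k, {u : ∀ i, X i | g k (u (src k)) = u (tgt k)}) ∩ ⋂ i, (fun u : ∀ i, X i => u i) ⁻¹' Z i := by
    ext u
    simp only [mem_ofPred_eq, mem_inter_iff, mem_iInter, mem_preimage]
  rw [this]
  refine IsClosed.inter (isClosed_iInter fun k => ?_) (isClosed_iInter fun i => ?_)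
  · exact isClosed_eq ((hg k).comp (continuous_apply _)) (continuous_apply _)
  · exact (hZ i).preimage (continuous_apply i)

/-- Monotonicity of the product topology. -/
theorem pi_topology_mono {ι : Type*} {X : ι → Type*} (t t' : ∀ i, TopologicalSpace (X i))
    (h : ∀ i, t' i ≤ t i) :
    @Pi.topologicalSpace ι X t' ≤ @Pi.topologicalSpace ι X t := by
  simp only [Pi.topologicalSpace]
  exact iInf_mono fun i => induced_mono (h i)

variable {J : Type u} [SmallCategory J] {F : J ⥤ TopCat.{u}} (c : Cone F) (hc : IsLimit c)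

include hc in
/-- Stacks 0A2V (1): in a limit of spectral spaces along spectral maps, the locus where all
projections land in given constructibly closed sets is quasi-compact. -/
theorem isCompact_setOf_forall_mem (hF : ∀ j, SpectralSpace (F.obj j))
    (hFm : ∀ {i j : J} (a : i ⟶ j), IsSpectralMap (F.map a : F.obj i → F.obj j))
    (Z : ∀ j, Set (F.obj j))
    (hZ : ∀ j, IsClosed[constructibleTopology (F.obj j)] (Z j)) :
    IsCompact {x : c.pt | ∀ j, c.π.app j x ∈ Z j} := by
  have hA := @isCompact_setOf_compatible J (fun j => F.obj j)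
    (fun j => constructibleTopology (F.obj j)) (fun j => SpectralCons33.compactSpace_cons)
    (fun j => SpectralCons33.t2Space_cons) (Σ (i j : J), (i ⟶ j)) (fun k => k.1) (fun k => k.2.1)
    (fun k => F.map k.2.2) (fun k => SpectralCons33.continuous_cons_of_isSpectralMap (hFm k.2.2))
    Z hZ
  have hA' := SpectralCons33.isCompact_of_le (pi_topology_mono (fun j => (F.obj j).str)
    (fun j => constructibleTopology (F.obj j)) (fun j => SpectralCons33.cons_le)) hA
  have hsub : {u : ∀ j, F.obj j | (∀ k : Σ (i j : J), (i ⟶ j), F.map k.2.2 (u k.1) = u k.2.1) ∧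
      ∀ i, u i ∈ Z i} ⊆ range (toPi c) := by
    rw [range_toPi c hc]
    exact fun u hu => hu.1
  have := ((isInducing_toPi c hc).isCompact_preimage_iff hsub).mpr hA'
  convert this using 1
  ext x
  simp only [mem_ofPred_eq, mem_preimage, toPi]
  constructor
  · intro hx
    refine ⟨?_, hx⟩
    rintro ⟨i, j, f⟩
    have := c.w f
    rw [← this]
    rfl
  · intro hx
    exact hx.2

include hc in
/-- Stacks 0A2V (2): a limit of spectral spaces along spectral maps is quasi-compact. -/
theorem compactSpace_of_isLimit (hF : ∀ j, SpectralSpace (F.obj j))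
    (hFm : ∀ {i j : J} (a : i ⟶ j), IsSpectralMap (F.map a : F.obj i → F.obj j)) :
    CompactSpace c.pt := by
  have := isCompact_setOf_forall_mem c hc hF hFm (fun _ => univ)
    (fun j => @isClosed_univ _ (constructibleTopology (F.obj j)))
  simpa [isCompact_univ_iff] using this

end Compact


section Konig

/-- Type synonym carrying the constructible topology. -/
def Cons (X : Type u) [TopologicalSpace X] : Type u := X

instance instTopologicalSpaceCons (X : Type u) [TopologicalSpace X] : TopologicalSpace (Cons X) :=
  constructibleTopology X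

instance instCompactSpaceCons (X : Type u) [TopologicalSpace X] [SpectralSpace X] :
    CompactSpace (Cons X) :=
  SpectralCons33.compactSpace_cons (X := X)

instance instT2SpaceCons (X : Type u) [TopologicalSpace X] [SpectralSpace X] : T2Space (Cons X) :=
  SpectralCons33.t2Space_cons (X := X)

/-- A map viewed as a map between the spaces with constructible topologies. -/
def consMap {X Y : Type u} [TopologicalSpace X] [TopologicalSpace Y] (f : X → Y) :
    Cons X → Cons Y := f

theorem continuous_consMap {X Y : Type u} [TopologicalSpace X] [TopologicalSpace Y] {f : X → Y}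
    (hf : IsSpectralMap f) : Continuous (consMap f) := by
  have := SpectralCons33.continuous_cons_of_isSpectralMap hf
  exact this

/-- A subset viewed in the space with constructible topology. -/
def consSet {X : Type u} [TopologicalSpace X] (Z : Set X) : Set (Cons X) := Z

variable {J : Type u} [SmallCategory J] {F : J ⥤ TopCat.{u}}

/-- The diagram of the `Z j`, with constructible topologies. -/
def consSubDiagram (hFm : ∀ {i j : J} (a : i ⟶ j), IsSpectralMap (F.map a : F.obj i → F.obj j))
    (Z : ∀ j, Set (F.obj j))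
    (hmaps : ∀ {i j : J} (a : i ⟶ j), Set.MapsTo (F.map a) (Z i) (Z j)) : J ⥤ TopCat.{u} where
  obj j := TopCat.of ↥(consSet (Z j))
  map {i j} a := TopCat.ofHom
    ⟨fun z => (⟨consMap (F.map a) z.1, hmaps a z.2⟩ : ↥(consSet (Z j))),
      Continuous.subtype_mk ((continuous_consMap (hFm a)).comp continuous_subtype_val) _⟩
  map_id j := by
    apply TopCat.hom_ext
    apply ContinuousMap.ext
    intro z
    apply Subtype.ext
    simp [consMap]
  map_comp {i j k} a b := by
    apply TopCat.hom_ext
    apply ContinuousMap.ext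
    intro z
    apply Subtype.ext
    simp [consMap]

variable (c : Cone F) (hc : IsLimit c)

include hc in
/-- Stacks 0A2W (1): for a cofiltered diagram of spectral spaces with spectral transition maps and
nonempty constructibly closed `Z j` carried into each other, some point of the limit has all its
projections in the `Z j`. -/
theorem exists_forall_mem [IsCofiltered J] (hF : ∀ j, SpectralSpace (F.obj j))
    (hFm : ∀ {i j : J} (a : i ⟶ j), IsSpectralMap (F.map a : F.obj i → F.obj j))
    (Z : ∀ j, Set (F.obj j)) (hne : ∀ j, (Z j).Nonempty)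
    (hZ : ∀ j, IsClosed[constructibleTopology (F.obj j)] (Z j))
    (hmaps : ∀ {i j : J} (a : i ⟶ j), Set.MapsTo (F.map a) (Z i) (Z j)) :
    ∃ x : c.pt, ∀ j, c.π.app j x ∈ Z j := by
  let F' := consSubDiagram hFm Z hmaps
  have : ∀ j, Nonempty (F'.obj j) := fun j => (hne j).to_subtype
  have : ∀ j, CompactSpace (F'.obj j) := fun j => by
    have h1 : IsClosed (consSet (Z j)) := hZ j
    exact isCompact_iff_compactSpace.mp h1.isCompact
  have : ∀ j, T2Space (F'.obj j) := fun j => by
    show T2Space ↥(consSet (Z j))
    infer_instance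
  obtain ⟨s⟩ := TopCat.nonempty_limitCone_of_compact_t2_cofiltered_system F'
  let u : ∀ j, F.obj j := fun j => (s.1 j).1
  have hu : ∀ {i j : J} (f : i ⟶ j), F.map f (u i) = u j := fun f =>
    congrArg Subtype.val (s.2 f)
  obtain ⟨x, hx⟩ := exists_of_compatible c hc u hu
  exact ⟨x, fun j => by rw [hx j]; exact (s.1 j).2⟩

include hc in
/-- Stacks 0A2W (2): a cofiltered limit of nonempty spectral spaces along spectral maps is
nonempty. -/
theorem nonempty_of_isLimit [IsCofiltered J] (hF : ∀ j, SpectralSpace (F.obj j))
    (hFm : ∀ {i j : J} (a : i ⟶ j), IsSpectralMap (F.map a : F.obj i → F.obj j))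
    (hne : ∀ j, Nonempty (F.obj j)) : Nonempty c.pt := by
  obtain ⟨x, -⟩ := exists_forall_mem c hc hF hFm (fun _ => univ) (fun j => univ_nonempty)
    (fun j => @isClosed_univ _ (constructibleTopology (F.obj j))) (fun _ => mapsTo_univ _ _)
  exact ⟨x⟩

end Konig


section Descent

variable {J : Type u} [SmallCategory J] [IsCofiltered J]

omit [IsCofiltered J] in
/-- Finitely many parallel morphisms in a cofiltered category are equalized by a common
morphism. -/
theorem exists_common_of_finset [IsCofiltered J] {j i : J} (A : Finset (j ⟶ i)) :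
    ∃ (k : J) (b : k ⟶ j) (a' : k ⟶ i), ∀ a ∈ A, b ≫ a = a' := by
  classical
  induction A using Finset.induction_on with
  | empty =>
    exact ⟨IsCofiltered.min j i, IsCofiltered.minToLeft j i, IsCofiltered.minToRight j i, by simp⟩
  | insert a₀ A _ ih =>
    obtain ⟨k, b, a', h⟩ := ih
    refine ⟨IsCofiltered.eq (b ≫ a₀) a', IsCofiltered.eqHom (b ≫ a₀) a' ≫ b,
      IsCofiltered.eqHom (b ≫ a₀) a' ≫ a', fun a ha => ?_⟩
    rcases Finset.mem_insert.mp ha with rfl | ha
    · rw [Category.assoc]; exact IsCofiltered.eq_condition _ _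
    · rw [Category.assoc, h a ha]

variable {F : J ⥤ TopCat.{u}} (c : Cone F) (hc : IsLimit c)

include hc in
/-- If the preimage in the limit of a constructibly closed subset of a stage is empty, then its
preimage in some later stage is already empty. -/
theorem exists_preimage_eq_empty (hF : ∀ j, SpectralSpace (F.obj j))
    (hFm : ∀ {i j : J} (a : i ⟶ j), IsSpectralMap (F.map a : F.obj i → F.obj j))
    (i : J) (Z : Set (F.obj i)) (hZ : IsClosed[constructibleTopology (F.obj i)] Z)
    (hempty : c.π.app i ⁻¹' Z = ∅) :
    ∃ (j : J) (a : j ⟶ i), F.map a ⁻¹' Z = ∅ := by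
  by_contra hcon
  push Not at hcon
  have hne : ∀ (j : J) (a : j ⟶ i), (F.map a ⁻¹' Z).Nonempty := fun j a => hcon j a
  let Z' : ∀ j, Set (F.obj j) := fun j => ⋂ a : j ⟶ i, F.map a ⁻¹' Z
  have hZ'closed : ∀ j, IsClosed[constructibleTopology (F.obj j)] (Z' j) := fun j =>
    @isClosed_iInter _ _ (constructibleTopology (F.obj j)) _ fun a =>
      @IsClosed.preimage _ _ (constructibleTopology (F.obj j)) (constructibleTopology (F.obj i)) _
        (SpectralCons33.continuous_cons_of_isSpectralMap (hFm a)) _ hZ
  have hZ'maps : ∀ {k j : J} (b : k ⟶ j), Set.MapsTo (F.map b) (Z' k) (Z' j) := by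
    intro k j b z hz
    simp only [Z', mem_iInter, mem_preimage] at hz ⊢
    intro a
    have := hz (b ≫ a)
    rwa [F.map_comp] at this
  have hZ'ne : ∀ j, (Z' j).Nonempty := by
    intro j
    have hcomp := SpectralCons33.compactSpace_cons (X := F.obj j)
    have := @IsCompact.inter_iInter_nonempty (F.obj j) (constructibleTopology (F.obj j))
      univ (j ⟶ i) (@isCompact_univ _ (constructibleTopology (F.obj j)) hcomp)
      (fun a => F.map a ⁻¹' Z) (fun a =>
        @IsClosed.preimage _ _ (constructibleTopology (F.obj j)) (constructibleTopology (F.obj i)) _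
        (SpectralCons33.continuous_cons_of_isSpectralMap (hFm a)) _ hZ) ?_
    · obtain ⟨z, -, hz⟩ := this
      exact ⟨z, hz⟩
    · intro A
      obtain ⟨k, b, a', h⟩ := exists_common_of_finset A
      obtain ⟨z, hz⟩ := hne k a'
      refine ⟨F.map b z, mem_univ _, ?_⟩
      simp only [mem_iInter, mem_preimage]
      intro a ha
      have : F.map a (F.map b z) = F.map a' z := by
        rw [← h a ha, F.map_comp]; rfl
      rw [this]
      exact hz
  obtain ⟨x, hx⟩ := exists_forall_mem c hc hF hFm Z' hZ'ne hZ'closed hZ'maps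
  have hxi := hx i
  simp only [Z', mem_iInter, mem_preimage] at hxi
  have := hxi (𝟙 i)
  rw [F.map_id] at this
  have hmem : x ∈ c.π.app i ⁻¹' Z := this
  rw [hempty] at hmem
  exact hmem

include hc in
/-- Stacks 0A2X: an inclusion between the preimages in the limit of a constructibly closed and a
constructibly open subset of a stage descends to a later stage. -/
theorem preimage_subset_preimage_iff (hF : ∀ j, SpectralSpace (F.obj j))
    (hFm : ∀ {i j : J} (a : i ⟶ j), IsSpectralMap (F.map a : F.obj i → F.obj j))
    (i : J) (E F' : Set (F.obj i)) (hE : IsClosed[constructibleTopology (F.obj i)] E)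
    (hF' : IsOpen[constructibleTopology (F.obj i)] F') :
    (c.π.app i ⁻¹' E ⊆ c.π.app i ⁻¹' F') ↔
      ∃ (j : J) (a : j ⟶ i), F.map a ⁻¹' E ⊆ F.map a ⁻¹' F' := by
  constructor
  · intro h
    have hZ : IsClosed[constructibleTopology (F.obj i)] (E ∩ F'ᶜ) :=
      @IsClosed.inter _ _ _ (constructibleTopology (F.obj i)) hE
        ((@isClosed_compl_iff _ (constructibleTopology (F.obj i)) _).mpr hF')
    have hempty : c.π.app i ⁻¹' (E ∩ F'ᶜ) = ∅ := by
      rw [eq_empty_iff_forall_notMem]
      rintro x ⟨hxE, hxF⟩
      exact hxF (h hxE)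
    obtain ⟨j, a, ha⟩ := exists_preimage_eq_empty c hc hF hFm i _ hZ hempty
    refine ⟨j, a, fun z hz => ?_⟩
    by_contra hzF
    have : z ∈ F.map a ⁻¹' (E ∩ F'ᶜ) := ⟨hz, hzF⟩
    rw [ha] at this
    exact this
  · rintro ⟨j, a, h⟩ x hx
    have hw : F.map a (c.π.app j x) = c.π.app i x := by
      have := c.w a
      rw [← this]
      rfl
    have : c.π.app j x ∈ F.map a ⁻¹' E := by
      rw [mem_preimage, hw]; exact hx
    have := h this
    rwa [mem_preimage, hw] at this

end Descent


section Spectral

variable {J : Type u} [SmallCategory J] {F : J ⥤ TopCat.{u}} (c : Cone F) (hc : IsLimit c)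

include hc in
/-- Preimages in the limit of finite boxes of constructibly closed sets are quasi-compact. -/
theorem isCompact_preimage_pi (hF : ∀ j, SpectralSpace (F.obj j))
    (hFm : ∀ {i j : J} (a : i ⟶ j), IsSpectralMap (F.map a : F.obj i → F.obj j))
    (I : Finset J) (U : ∀ j, Set (F.obj j))
    (hU : ∀ j ∈ I, IsClosed[constructibleTopology (F.obj j)] (U j)) :
    IsCompact (toPi c ⁻¹' (I : Set J).pi U) := by
  classical
  have := isCompact_setOf_forall_mem c hc hF hFm (fun j => if j ∈ I then U j else univ)
    (fun j => by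
      by_cases hj : j ∈ I
      · simp only [hj, if_true]; exact hU j hj
      · simp only [hj, if_false]; exact @isClosed_univ _ (constructibleTopology (F.obj j)))
  convert this using 1
  ext x
  simp only [mem_preimage, Set.mem_pi, Finset.mem_coe, toPi, mem_ofPred_eq]
  constructor
  · intro h j
    by_cases hj : j ∈ I
    · simp only [hj, if_true]; exact h j hj
    · simp only [hj, if_false]; exact mem_univ _
  · intro h j hj
    have := h j
    simpa only [hj, if_true] using this

include hc in
/-- Preimages in the limit of quasi-compact opens of a stage are quasi-compact. -/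
theorem isCompact_preimage_of_isOpen_isCompact (hF : ∀ j, SpectralSpace (F.obj j))
    (hFm : ∀ {i j : J} (a : i ⟶ j), IsSpectralMap (F.map a : F.obj i → F.obj j))
    (j : J) (V : Set (F.obj j)) (hVo : IsOpen V) (hVc : IsCompact V) :
    IsCompact (c.π.app j ⁻¹' V) := by
  classical
  have := isCompact_preimage_pi c hc hF hFm {j} (Function.update (fun _ => univ) j V)
    (fun j' hj' => by
      rw [Finset.mem_singleton] at hj'
      subst hj'
      rw [Function.update_self]
      exact SpectralCons33.isClosed_cons_of_isOpen_isCompact hVo hVc)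
  have heq : (c.π.app j ⁻¹' V : Set c.pt) =
      toPi c ⁻¹' ((({j} : Finset J) : Set J).pi (Function.update (fun _ => univ) j V)) := ?_
  · rw [heq]; exact this
  ext x
  simp only [mem_preimage, Set.mem_pi, Finset.coe_singleton, mem_singleton_iff, toPi]
  constructor
  · intro h j' hj'
    subst hj'
    rw [Function.update_self]
    exact h
  · intro h
    have := h j rfl
    rwa [Function.update_self] at this

include hc in
/-- The projections from a limit of spectral spaces along spectral maps are spectral. -/
theorem isSpectralMap_π (hF : ∀ j, SpectralSpace (F.obj j))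
    (hFm : ∀ {i j : J} (a : i ⟶ j), IsSpectralMap (F.map a : F.obj i → F.obj j)) (j : J) :
    IsSpectralMap (c.π.app j : c.pt → F.obj j) :=
  ⟨(c.π.app j).hom.continuous, fun V hVo hVc =>
    isCompact_preimage_of_isOpen_isCompact c hc hF hFm j V hVo hVc⟩

/-- The standard basis of the limit: preimages of finite boxes of quasi-compact opens. -/
def boxBasis : Set (Set c.pt) :=
  preimage (toPi c) '' { S | ∃ (U : ∀ j, Set (F.obj j)) (I : Finset J),
      (∀ j, j ∈ I → U j ∈ {V : Set (F.obj j) | IsOpen V ∧ IsCompact V}) ∧ S = (I : Set J).pi U }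

include hc in
theorem isTopologicalBasis_boxBasis (hF : ∀ j, SpectralSpace (F.obj j)) :
    TopologicalSpace.IsTopologicalBasis (boxBasis c) :=
  (isTopologicalBasis_pi
    (fun j => PrespectralSpace.isTopologicalBasis (X := F.obj j))).isInducing
    (isInducing_toPi c hc)

include hc in
theorem isCompact_of_mem_boxBasis (hF : ∀ j, SpectralSpace (F.obj j))
    (hFm : ∀ {i j : J} (a : i ⟶ j), IsSpectralMap (F.map a : F.obj i → F.obj j))
    {W : Set c.pt} (hW : W ∈ boxBasis c) : IsCompact W := by
  obtain ⟨_, ⟨U, I, hU, rfl⟩, rfl⟩ := hW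
  exact isCompact_preimage_pi c hc hF hFm I U fun j hj =>
    SpectralCons33.isClosed_cons_of_isOpen_isCompact (hU j hj).1 (hU j hj).2

include hc in
theorem isCompact_inter_of_mem_boxBasis (hF : ∀ j, SpectralSpace (F.obj j))
    (hFm : ∀ {i j : J} (a : i ⟶ j), IsSpectralMap (F.map a : F.obj i → F.obj j))
    {W W' : Set c.pt} (hW : W ∈ boxBasis c) (hW' : W' ∈ boxBasis c) : IsCompact (W ∩ W') := by
  classical
  obtain ⟨_, ⟨U, I, hU, rfl⟩, rfl⟩ := hW
  obtain ⟨_, ⟨U', I', hU', rfl⟩, rfl⟩ := hW'
  have := isCompact_preimage_pi c hc hF hFm (I ∪ I')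
    (fun j => (if j ∈ I then U j else univ) ∩ (if j ∈ I' then U' j else univ))
    (fun j _ => by
      refine @IsClosed.inter _ _ _ (constructibleTopology (F.obj j)) ?_ ?_
      · by_cases hj : j ∈ I
        · simp only [hj, if_true]
          exact SpectralCons33.isClosed_cons_of_isOpen_isCompact (hU j hj).1 (hU j hj).2
        · simp only [hj, if_false]; exact @isClosed_univ _ (constructibleTopology (F.obj j))
      · by_cases hj : j ∈ I'
        · simp only [hj, if_true]
          exact SpectralCons33.isClosed_cons_of_isOpen_isCompact (hU' j hj).1 (hU' j hj).2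
        · simp only [hj, if_false]; exact @isClosed_univ _ (constructibleTopology (F.obj j)))
  convert this using 1
  ext x
  simp only [mem_inter_iff, mem_preimage, Set.mem_pi, Finset.mem_coe, Finset.coe_union,
    mem_union]
  constructor
  · rintro ⟨h1, h2⟩ j _
    refine ⟨?_, ?_⟩
    · by_cases hj : j ∈ I
      · simp only [hj, if_true]; exact h1 j hj
      · simp only [hj, if_false]; exact mem_univ _
    · by_cases hj : j ∈ I'
      · simp only [hj, if_true]; exact h2 j hj
      · simp only [hj, if_false]; exact mem_univ _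
  · intro h
    refine ⟨fun j hj => ?_, fun j hj => ?_⟩
    · have := (h j (Or.inl hj)).1
      simpa only [hj, if_true] using this
    · have := (h j (Or.inr hj)).2
      simpa only [hj, if_true] using this

include hc in
theorem prespectralSpace_of_isLimit (hF : ∀ j, SpectralSpace (F.obj j))
    (hFm : ∀ {i j : J} (a : i ⟶ j), IsSpectralMap (F.map a : F.obj i → F.obj j)) :
    PrespectralSpace c.pt :=
  PrespectralSpace.of_isTopologicalBasis (isTopologicalBasis_boxBasis c hc hF)
    fun _ hW => isCompact_of_mem_boxBasis c hc hF hFm hW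

include hc in
theorem quasiSeparatedSpace_of_isLimit (hF : ∀ j, SpectralSpace (F.obj j))
    (hFm : ∀ {i j : J} (a : i ⟶ j), IsSpectralMap (F.map a : F.obj i → F.obj j)) :
    QuasiSeparatedSpace c.pt := by
  refine QuasiSeparatedSpace.of_isTopologicalBasis (b := fun W : boxBasis c => (W : Set c.pt)) ?_
    fun W W' => isCompact_inter_of_mem_boxBasis c hc hF hFm W.2 W'.2
  have : range (fun W : boxBasis c => (W : Set c.pt)) = boxBasis c := Subtype.range_coe
  rw [this]
  exact isTopologicalBasis_boxBasis c hc hF

include hc in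
theorem t0Space_of_isLimit (hF : ∀ j, SpectralSpace (F.obj j)) : T0Space c.pt := by
  have hemb : IsEmbedding (toPi c) :=
    ⟨isInducing_toPi c hc, fun x y h => ext_of_isLimit c hc fun j => congrFun h j⟩
  exact hemb.t0Space

include hc in
theorem quasiSober_of_isLimit (hF : ∀ j, SpectralSpace (F.obj j)) : QuasiSober c.pt := by
  classical
  constructor
  intro S hSirr hSclosed
  -- generic points of the closures of the images
  have hirr : ∀ j, IsIrreducible (closure (c.π.app j '' S)) := fun j =>
    (hSirr.image _ (c.π.app j).hom.continuous.continuousOn).closure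
  let η : ∀ j, F.obj j := fun j => (hirr j).genericPoint
  have hη : ∀ j, IsGenericPoint (η j) (closure (c.π.app j '' S)) := fun j =>
    (hirr j).isGenericPoint_genericPoint isClosed_closure
  have hcompat : ∀ {i j : J} (a : i ⟶ j), F.map a (η i) = η j := by
    intro i j a
    have h1 := (hη i).image (F.map a).hom.continuous
    have h2 : closure (F.map a '' closure (c.π.app i '' S)) = closure (c.π.app j '' S) := by
      rw [closure_image_closure (F.map a).hom.continuous, ← image_comp]
      congr 2
      funext x
      have := c.w a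
      rw [← this]
      rfl
    have h1' : IsGenericPoint (F.map a (η i)) (closure (c.π.app j '' S)) := by
      rw [← h2]; exact h1
    exact h1'.eq (hη j)
  obtain ⟨x, hx⟩ := exists_of_compatible c hc η hcompat
  refine ⟨x, ?_⟩
  have hxS : x ∈ S := by
    by_contra hxS
    obtain ⟨W, hW, hxW, hWS⟩ := (isTopologicalBasis_boxBasis c hc hF).exists_subset_of_mem_open
      (show x ∈ Sᶜ from hxS) hSclosed.isOpen_compl
    obtain ⟨_, ⟨U, I, hU, rfl⟩, rfl⟩ := hW
    have hne : ∀ j ∈ I, (S ∩ c.π.app j ⁻¹' U j).Nonempty := by
      intro j hj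
      have hxj : η j ∈ U j := by
        have := hxW j hj
        simp only [toPi] at this
        rwa [hx j] at this
      obtain ⟨y, hy1, hy2⟩ := ((hη j).mem_open_set_iff (hU j hj).1).mp hxj
      obtain ⟨_, hsU, ⟨s, hs, rfl⟩⟩ := mem_closure_iff.mp hy1 (U j) (hU j hj).1 hy2
      exact ⟨s, hs, hsU⟩
    have := (isIrreducible_iff_sInter.mp hSirr) (I.image fun j => c.π.app j ⁻¹' U j)
      (by
        intro u hu
        obtain ⟨j, hj, rfl⟩ := Finset.mem_image.mp hu
        exact (hU j hj).1.preimage (c.π.app j).hom.continuous)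
      (by
        intro u hu
        obtain ⟨j, hj, rfl⟩ := Finset.mem_image.mp hu
        exact hne j hj)
    obtain ⟨s, hsS, hs⟩ := this
    apply hWS _ hsS
    intro j hj
    simp only [toPi]
    have := hs (c.π.app j ⁻¹' U j) (Finset.mem_coe.mpr (Finset.mem_image.mpr ⟨j, hj, rfl⟩))
    exact this
  apply subset_antisymm
  · exact hSclosed.closure_subset_iff.mpr (singleton_subset_iff.mpr hxS)
  · intro s hs
    rw [← specializes_iff_mem_closure, ← (isInducing_toPi c hc).specializes_iff, specializes_pi]
    intro j
    simp only [toPi]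
    rw [hx j]
    exact (hη j).specializes (subset_closure (mem_image_of_mem _ hs))

include hc in
/-- Stacks 0A2Z: a limit of spectral spaces along spectral maps is spectral. -/
theorem spectralSpace_of_isLimit (hF : ∀ j, SpectralSpace (F.obj j))
    (hFm : ∀ {i j : J} (a : i ⟶ j), IsSpectralMap (F.map a : F.obj i → F.obj j)) :
    SpectralSpace c.pt :=
  { toT0Space := t0Space_of_isLimit c hc hF
    toCompactSpace := compactSpace_of_isLimit c hc hF hFm
    toQuasiSober := quasiSober_of_isLimit c hc hF
    toQuasiSeparatedSpace := quasiSeparatedSpace_of_isLimit c hc hF hFm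
    toPrespectralSpace := prespectralSpace_of_isLimit c hc hF hFm }

end Spectral

section Stage

variable {J : Type u} [SmallCategory J] [IsCofiltered J]
variable {F : J ⥤ TopCat.{u}} (c : Cone F) (hc : IsLimit c)

omit [IsCofiltered J] in
/-- Compatibility of projections, pointwise on preimages. -/
theorem preimage_π_map {i j : J} (a : j ⟶ i) (S : Set (F.obj i)) :
    c.π.app j ⁻¹' (F.map a ⁻¹' S) = c.π.app i ⁻¹' S := by
  ext x
  have hw : F.map a (c.π.app j x) = c.π.app i x := by
    have := c.w a
    rw [← this]
    rfl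
  simp only [mem_preimage, hw]

/-- A subset of the limit which is the preimage of a quasi-compact open of some stage. -/
def IsStage (W : Set c.pt) : Prop :=
  ∃ (i : J) (Ui : Set (F.obj i)), IsOpen Ui ∧ IsCompact Ui ∧ c.π.app i ⁻¹' Ui = W

omit [IsCofiltered J] in
theorem isStage_empty [IsCofiltered J] : IsStage c (∅ : Set c.pt) := by
  obtain ⟨i⟩ := IsCofiltered.nonempty (C := J)
  exact ⟨i, ∅, isOpen_empty, isCompact_empty, preimage_empty⟩

omit [IsCofiltered J] in
theorem isStage_univ [IsCofiltered J] (hF : ∀ j, SpectralSpace (F.obj j)) :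
    IsStage c (univ : Set c.pt) := by
  obtain ⟨i⟩ := IsCofiltered.nonempty (C := J)
  exact ⟨i, univ, isOpen_univ, isCompact_univ, preimage_univ⟩

theorem IsStage.union (hF : ∀ j, SpectralSpace (F.obj j))
    (hFm : ∀ {i j : J} (a : i ⟶ j), IsSpectralMap (F.map a : F.obj i → F.obj j))
    {W W' : Set c.pt} (hW : IsStage c W) (hW' : IsStage c W') : IsStage c (W ∪ W') := by
  obtain ⟨i, Ui, hUo, hUc, rfl⟩ := hW
  obtain ⟨j, Uj, hVo, hVc, rfl⟩ := hW'
  refine ⟨IsCofiltered.min i j, F.map (IsCofiltered.minToLeft i j) ⁻¹' Ui ∪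
    F.map (IsCofiltered.minToRight i j) ⁻¹' Uj, ?_, ?_, ?_⟩
  · exact (hUo.preimage (hFm _).continuous).union (hVo.preimage (hFm _).continuous)
  · exact ((hFm _).isCompact_preimage_of_isOpen hUo hUc).union
      ((hFm _).isCompact_preimage_of_isOpen hVo hVc)
  · rw [preimage_union, preimage_π_map, preimage_π_map]

theorem IsStage.inter (hF : ∀ j, SpectralSpace (F.obj j))
    (hFm : ∀ {i j : J} (a : i ⟶ j), IsSpectralMap (F.map a : F.obj i → F.obj j))
    {W W' : Set c.pt} (hW : IsStage c W) (hW' : IsStage c W') : IsStage c (W ∩ W') := by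
  obtain ⟨i, Ui, hUo, hUc, rfl⟩ := hW
  obtain ⟨j, Uj, hVo, hVc, rfl⟩ := hW'
  refine ⟨IsCofiltered.min i j, F.map (IsCofiltered.minToLeft i j) ⁻¹' Ui ∩
    F.map (IsCofiltered.minToRight i j) ⁻¹' Uj, ?_, ?_, ?_⟩
  · exact (hUo.preimage (hFm _).continuous).inter (hVo.preimage (hFm _).continuous)
  · exact QuasiSeparatedSpace.inter_isCompact _ _ (hUo.preimage (hFm _).continuous)
      ((hFm _).isCompact_preimage_of_isOpen hUo hUc) (hVo.preimage (hFm _).continuous)
      ((hFm _).isCompact_preimage_of_isOpen hVo hVc)
  · rw [preimage_inter, preimage_π_map, preimage_π_map]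

theorem isStage_of_mem_boxBasis (hF : ∀ j, SpectralSpace (F.obj j))
    (hFm : ∀ {i j : J} (a : i ⟶ j), IsSpectralMap (F.map a : F.obj i → F.obj j))
    {W : Set c.pt} (hW : W ∈ boxBasis c) : IsStage c W := by
  classical
  obtain ⟨_, ⟨U, I, hU, rfl⟩, rfl⟩ := hW
  induction I using Finset.induction_on with
  | empty =>
    simp only [Finset.coe_empty, empty_pi, preimage_univ]
    exact isStage_univ c hF
  | insert j I hj ih =>
    have h1 : IsStage c (c.π.app j ⁻¹' U j) :=
      ⟨j, U j, (hU j (Finset.mem_insert_self _ _)).1, (hU j (Finset.mem_insert_self _ _)).2, rfl⟩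
    have h2 := ih fun j' hj' => hU j' (Finset.mem_insert_of_mem hj')
    have := h1.inter c hF hFm h2
    convert this using 1
    ext x
    simp only [mem_preimage, Set.mem_pi, Finset.coe_insert, mem_insert_iff, Finset.mem_coe,
      mem_inter_iff, toPi]
    constructor
    · intro h
      exact ⟨h j (Or.inl rfl), fun j' hj' => h j' (Or.inr hj')⟩
    · rintro ⟨h1, h2⟩ j' (rfl | hj')
      · exact h1
      · exact h2 j' hj'

include hc in
/-- Stacks 0A2P (1): every quasi-compact open of the limit comes from a stage. -/
theorem isStage_of_isOpen_isCompact (hF : ∀ j, SpectralSpace (F.obj j))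
    (hFm : ∀ {i j : J} (a : i ⟶ j), IsSpectralMap (F.map a : F.obj i → F.obj j))
    {U : Set c.pt} (hUo : IsOpen U) (hUc : IsCompact U) : IsStage c U := by
  obtain ⟨s, hs, rfl⟩ := eq_finite_iUnion_of_isTopologicalBasis_of_isCompact_open
    (fun w : boxBasis c => (w : Set c.pt))
    (by simpa using isTopologicalBasis_boxBasis c hc hF) U hUc hUo
  clear hUo hUc
  induction s, hs using Set.Finite.induction_on with
  | empty => simpa using isStage_empty c
  | insert _ _ ih =>
    rw [biUnion_insert]
    exact (isStage_of_mem_boxBasis c hF hFm (Subtype.property _)).union c hF hFm ih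

include hc in
/-- If two constructibly clopen subsets of a stage have the same preimage in the limit, they have
the same preimage at some later stage. -/
theorem exists_preimage_eq_preimage (hF : ∀ j, SpectralSpace (F.obj j))
    (hFm : ∀ {i j : J} (a : i ⟶ j), IsSpectralMap (F.map a : F.obj i → F.obj j))
    (i : J) (E E' : Set (F.obj i))
    (hEc : IsClosed[constructibleTopology (F.obj i)] E)
    (hEo : IsOpen[constructibleTopology (F.obj i)] E)
    (hEc' : IsClosed[constructibleTopology (F.obj i)] E')
    (hEo' : IsOpen[constructibleTopology (F.obj i)] E')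
    (h : c.π.app i ⁻¹' E = c.π.app i ⁻¹' E') :
    ∃ (j : J) (a : j ⟶ i), F.map a ⁻¹' E = F.map a ⁻¹' E' := by
  have hZ : IsClosed[constructibleTopology (F.obj i)] ((E ∩ E'ᶜ) ∪ (E' ∩ Eᶜ)) :=
    @IsClosed.union _ _ _ (constructibleTopology (F.obj i))
      (@IsClosed.inter _ _ _ (constructibleTopology (F.obj i)) hEc
        ((@isClosed_compl_iff _ (constructibleTopology (F.obj i)) _).mpr hEo'))
      (@IsClosed.inter _ _ _ (constructibleTopology (F.obj i)) hEc'
        ((@isClosed_compl_iff _ (constructibleTopology (F.obj i)) _).mpr hEo))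
  have hempty : c.π.app i ⁻¹' ((E ∩ E'ᶜ) ∪ (E' ∩ Eᶜ)) = ∅ := by
    rw [eq_empty_iff_forall_notMem]
    rintro x (⟨hx1, hx2⟩ | ⟨hx1, hx2⟩)
    · exact hx2 (by rw [← mem_preimage, ← h]; exact hx1)
    · exact hx2 (by rw [← mem_preimage, h]; exact hx1)
  obtain ⟨j, a, ha⟩ := exists_preimage_eq_empty c hc hF hFm i _ hZ hempty
  refine ⟨j, a, ?_⟩
  ext z
  constructor
  · intro hz
    by_contra hz'
    have : z ∈ F.map a ⁻¹' ((E ∩ E'ᶜ) ∪ (E' ∩ Eᶜ)) := Or.inl ⟨hz, hz'⟩
    rw [ha] at this
    exact this
  · intro hz
    by_contra hz'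
    have : z ∈ F.map a ⁻¹' ((E ∩ E'ᶜ) ∪ (E' ∩ Eᶜ)) := Or.inr ⟨hz, hz'⟩
    rw [ha] at this
    exact this

end Stage


section StageCons

/-- Preimages of constructible sets under spectral maps between spectral spaces are
constructible. -/
theorem isConstructible_preimage_of_isSpectralMap {X Y : Type*} [TopologicalSpace X]
    [TopologicalSpace Y] [QuasiSeparatedSpace X] [CompactSpace Y] {f : X → Y}
    (hf : IsSpectralMap f) {s : Set Y} (hs : IsConstructible s) : IsConstructible (f ⁻¹' s) :=
  hs.preimage hf.continuous fun _ hUo hUr =>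
    (hf.isCompact_preimage_of_isOpen hUo hUr.isCompact).isRetrocompact (hUo.preimage hf.continuous)

variable {J : Type u} [SmallCategory J] [IsCofiltered J]
variable {F : J ⥤ TopCat.{u}} (c : Cone F) (hc : IsLimit c)

include hc in
/-- Stacks 0A2P (constructible version): every constructible subset of the limit is the preimage
of a constructible subset of some stage. -/
theorem exists_isConstructible_preimage_eq (hF : ∀ j, SpectralSpace (F.obj j))
    (hFm : ∀ {i j : J} (a : i ⟶ j), IsSpectralMap (F.map a : F.obj i → F.obj j))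
    {E : Set c.pt} (hE : IsConstructible E) :
    ∃ (i : J) (Ei : Set (F.obj i)), IsConstructible Ei ∧ c.π.app i ⁻¹' Ei = E := by
  have := spectralSpace_of_isLimit c hc hF hFm
  induction hE using IsConstructible.empty_union_induction with
  | open_retrocompact U hUo hUr =>
    obtain ⟨i, Ui, hUio, hUic, rfl⟩ := isStage_of_isOpen_isCompact c hc hF hFm hUo hUr.isCompact
    exact ⟨i, Ui, hUic.isConstructible hUio, rfl⟩
  | union s _ t _ hs ht =>
    obtain ⟨i, Ei, hEi, rfl⟩ := hs
    obtain ⟨j, Ej, hEj, rfl⟩ := ht
    refine ⟨IsCofiltered.min i j, F.map (IsCofiltered.minToLeft i j) ⁻¹' Ei ∪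
      F.map (IsCofiltered.minToRight i j) ⁻¹' Ej, ?_, ?_⟩
    · exact (isConstructible_preimage_of_isSpectralMap (hFm _) hEi).union
        (isConstructible_preimage_of_isSpectralMap (hFm _) hEj)
    · rw [preimage_union, preimage_π_map, preimage_π_map]
  | compl s _ hs =>
    obtain ⟨i, Ei, hEi, rfl⟩ := hs
    exact ⟨i, Eiᶜ, hEi.compl, preimage_compl⟩

include hc in
/-- A constructible open subset of the limit is the preimage of a quasi-compact open of some
stage. -/
theorem isStage_of_isConstructible_of_isOpen (hF : ∀ j, SpectralSpace (F.obj j))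
    (hFm : ∀ {i j : J} (a : i ⟶ j), IsSpectralMap (F.map a : F.obj i → F.obj j))
    {E : Set c.pt} (hE : IsConstructible E) (hEo : IsOpen E) : IsStage c E := by
  have := spectralSpace_of_isLimit c hc hF hFm
  exact isStage_of_isOpen_isCompact c hc hF hFm hEo
    (SpectralCons33.isCompact_of_isClosed_cons (SpectralCons33.isClopen_cons_of_isConstructible hE).1)

end StageCons


end Groth.Agent.Lib.SpectralLim33
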