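/-
helper66: splicing short exact "cycle" sequences of an acyclic chain complex.
`cycleSC M i j k : ker(d i j) → M_i → ker(d j k)`; short exact when `M` is exact at `j`.
`exact_of_splice`: `f = p ≫ ι`, `g = q ≫ m`, `p` epi, `m` mono, `(ι, q)` exact ⇒ `(f, g)` exact.
-/
import Mathlib

universe v v' u u'
open CategoryTheory Limits

namespace Groth.Agent.Lib.SpliceExact66

section splice
variable {B : Type u} [Category.{v} B] [Abelian B]

/-- splice: `X₁ -p↠ Z -ι→ X₂ -q→ Z' -m↪ X₃` with `(ι,q)` exact gives `(p ≫ ι, q ≫ m)` exact. -/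
theorem exact_of_splice {X₁ Z X₂ Z' X₃ : B} (p : X₁ ⟶ Z) (ι : Z ⟶ X₂) (q : X₂ ⟶ Z') (m : Z' ⟶ X₃)
    [Epi p] [Mono m] (w : ι ≫ q = 0) (h : (ShortComplex.mk ι q w).Exact)
    (w' : (p ≫ ι) ≫ (q ≫ m) = 0) : (ShortComplex.mk (p ≫ ι) (q ≫ m) w').Exact := by
  -- intermediate complex `X₁ → X₂ → Z'`
  have w'' : (p ≫ ι) ≫ q = 0 := by rw [Category.assoc, w, comp_zero]
  let Sc : ShortComplex B := ShortComplex.mk (p ≫ ι) q w''
  let φ₁ : Sc ⟶ ShortComplex.mk ι q w :=
    { τ₁ := p, τ₂ := 𝟙 _, τ₃ := 𝟙 _, comm₁₂ := by simp [Sc], comm₂₃ := by simp [Sc] }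
  let φ₂ : Sc ⟶ ShortComplex.mk (p ≫ ι) (q ≫ m) w' :=
    { τ₁ := 𝟙 _, τ₂ := 𝟙 _, τ₃ := m, comm₁₂ := by simp [Sc], comm₂₃ := by simp [Sc] }
  have e1 : Epi φ₁.τ₁ := by dsimp [φ₁]; infer_instance
  have e2 : IsIso φ₁.τ₂ := by dsimp [φ₁]; infer_instance
  have e3 : Mono φ₁.τ₃ := by dsimp [φ₁]; infer_instance
  have hSc : Sc.Exact := (ShortComplex.exact_iff_of_epi_of_isIso_of_mono φ₁).2 h
  have f1 : Epi φ₂.τ₁ := by dsimp [φ₂]; infer_instance
  have f2 : IsIso φ₂.τ₂ := by dsimp [φ₂]; infer_instance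
  have f3 : Mono φ₂.τ₃ := by dsimp [φ₂]; infer_instance
  exact (ShortComplex.exact_iff_of_epi_of_isIso_of_mono φ₂).1 hSc

end splice

section cycles
variable {A : Type u} [Category.{v} A] [Abelian A]

/-- the cycle short complex `ker(d i j) → M_i → ker(d j k)` -/
noncomputable def cycleSC {ι : Type*} {c : ComplexShape ι} (M : HomologicalComplex A c) (i j k : ι) :
    ShortComplex A :=
  ShortComplex.mk (kernel.ι (M.d i j)) (kernel.lift (M.d j k) (M.d i j) (M.d_comp_d _ _ _))
    (by ext; simp)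

theorem cycleSC_shortExact {ι : Type*} {c : ComplexShape ι} (M : HomologicalComplex A c) (i j k : ι)
    (h : (M.sc' i j k).Exact) : (cycleSC M i j k).ShortExact := by
  have hm : Mono (cycleSC M i j k).f := by dsimp [cycleSC]; infer_instance
  have he : Epi (cycleSC M i j k).g := by
    dsimp [cycleSC]
    exact (ShortComplex.exact_iff_epi_kernel_lift (M.sc' i j k)).1 h
  refine ShortComplex.ShortExact.mk' ?_ hm he
  -- exactness: compare with `ker(d i j) → M_i → M_j`
  let T : ShortComplex A := ShortComplex.mk (kernel.ι (M.d i j)) (M.d i j) (kernel.condition _)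
  have hT : T.Exact := ShortComplex.exact_of_f_is_kernel _ (kernelIsKernel (M.d i j))
  let φ : cycleSC M i j k ⟶ T :=
    { τ₁ := 𝟙 _, τ₂ := 𝟙 _, τ₃ := kernel.ι (M.d j k)
      comm₁₂ := by simp [T, cycleSC], comm₂₃ := by simp [T, cycleSC] }
  have f1 : Epi φ.τ₁ := by dsimp [φ, cycleSC]; infer_instance
  have f2 : IsIso φ.τ₂ := by dsimp [φ, cycleSC]; infer_instance
  have f3 : Mono φ.τ₃ := by dsimp [φ, cycleSC]; infer_instance
  exact (ShortComplex.exact_iff_of_epi_of_isIso_of_mono φ).2 hT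

variable {B : Type u'} [Category.{v'} B] [Abelian B]

/-- If `G` keeps three consecutive cycle sequences short exact, then `G(M)` is exact in the middle. -/
theorem exact_map_sc' {ι : Type*} {c : ComplexShape ι} (M : HomologicalComplex A c)
    (G : A ⥤ B) [G.PreservesZeroMorphisms] (h i j k l : ι)
    (h₁ : ((cycleSC M h i j).map G).ShortExact) (h₂ : ((cycleSC M i j k).map G).ShortExact)
    (h₃ : ((cycleSC M j k l).map G).ShortExact) :
    (((G.mapHomologicalComplex c).obj M).sc' h i j).Exact := by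
  have hp : Epi (G.map (kernel.lift (M.d i j) (M.d h i) (M.d_comp_d _ _ _))) := h₁.epi_g
  have hm : Mono (G.map (kernel.ι (M.d j k))) := h₃.mono_f
  have w : G.map (kernel.ι (M.d i j)) ≫ G.map (kernel.lift (M.d j k) (M.d i j) (M.d_comp_d _ _ _)) = 0 :=
    ((cycleSC M i j k).map G).zero
  have := exact_of_splice (G.map (kernel.lift (M.d i j) (M.d h i) (M.d_comp_d _ _ _)))
    (G.map (kernel.ι (M.d i j))) (G.map (kernel.lift (M.d j k) (M.d i j) (M.d_comp_d _ _ _)))
    (G.map (kernel.ι (M.d j k))) w h₂.exact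
    (by rw [← G.map_comp, ← G.map_comp, kernel.lift_ι, kernel.lift_ι, ← G.map_comp, M.d_comp_d,
      G.map_zero])
  have e : ShortComplex.mk (G.map (kernel.lift (M.d i j) (M.d h i) (M.d_comp_d _ _ _)) ≫
        G.map (kernel.ι (M.d i j)))
      (G.map (kernel.lift (M.d j k) (M.d i j) (M.d_comp_d _ _ _)) ≫ G.map (kernel.ι (M.d j k)))
      (by rw [← G.map_comp, ← G.map_comp, kernel.lift_ι, kernel.lift_ι, ← G.map_comp, M.d_comp_d,
        G.map_zero]) ≅ ((G.mapHomologicalComplex c).obj M).sc' h i j :=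
    ShortComplex.isoMk (Iso.refl _) (Iso.refl _) (Iso.refl _)
      (by dsimp; rw [← G.map_comp, kernel.lift_ι]
          exact (Category.id_comp _).trans (Category.comp_id _).symm)
      (by dsimp; rw [← G.map_comp, kernel.lift_ι]
          exact (Category.id_comp _).trans (Category.comp_id _).symm)
  exact ShortComplex.exact_of_iso e this

end cycles

end Groth.Agent.Lib.SpliceExact66
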