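import Mathlib.Algebra.Homology.ShortComplex.HomologicalComplex
import Mathlib.Algebra.Homology.HomologicalComplexAbelian
import Mathlib.CategoryTheory.Preadditive.Injective.Basic
import Mathlib.Algebra.Homology.Refinements

set_option autoImplicit false
universe v u
open CategoryTheory CategoryTheory.Limits

namespace Groth.Agent.Lib.SplitAcyclic

variable {C : Type u} [Category.{v} C] [Abelian C]

section

variable (I : ℕ → C)

/-- the differential `(x, y) ↦ (y, 0)` -/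
noncomputable def dQ (i : ℕ) : I i ⊞ I (i + 1) ⟶ I (i + 1) ⊞ I (i + 2) := biprod.snd ≫ biprod.inl

lemma dQ_dQ (i : ℕ) : dQ I i ≫ dQ I (i + 1) = 0 := by simp [dQ]

/-- a morphism into `Iⁱ ⊕ Iⁱ⁺¹` killed by `dQ` has vanishing second component -/
lemma snd_eq_zero {A' : C} {i : ℕ} (x : A' ⟶ I i ⊞ I (i + 1)) (hx : x ≫ dQ I i = 0) :
    x ≫ biprod.snd = 0 := by
  have : (x ≫ biprod.snd) ≫ (biprod.inl : _ ⟶ I (i + 1) ⊞ I (i + 2)) = 0 := by
    simpa [dQ] using hx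
  exact (cancel_mono (biprod.inl : _ ⟶ I (i + 1) ⊞ I (i + 2))).mp (this.trans zero_comp.symm)

lemma eq_fst_inl {A' : C} {i : ℕ} (x : A' ⟶ I i ⊞ I (i + 1)) (hx : x ≫ dQ I i = 0) :
    x ≫ biprod.fst ≫ biprod.inl = x := by
  have h0 := snd_eq_zero I x hx
  apply biprod.hom_ext
  · simp
  · simp [h0]

lemma fst_inr_dQ {A' : C} {i : ℕ} (x : A' ⟶ I (i + 1) ⊞ I (i + 2)) (hx : x ≫ dQ I (i + 1) = 0) :
    (x ≫ biprod.fst ≫ (biprod.inr : _ ⟶ I i ⊞ I (i + 1))) ≫ dQ I i = x := by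
  have := eq_fst_inl I x hx
  simpa [dQ] using this

lemma fst_inl_dQ (i : ℕ) :
    ((biprod.fst : I i ⊞ I (i + 1) ⟶ _) ≫ (biprod.inl : _ ⟶ I i ⊞ I (i + 1))) ≫ dQ I i = 0 := by
  simp [dQ]

/-- the split acyclic complex `Qⁱ = Iⁱ ⊕ Iⁱ⁺¹` with differential `(x, y) ↦ (y, 0)` -/
noncomputable def Q : CochainComplex C ℕ :=
  CochainComplex.of (fun i => I i ⊞ I (i + 1)) (dQ I) (dQ_dQ I)

lemma Q_d (i : ℕ) : (Q I).d i (i + 1) = dQ I i := by
  dsimp only [Q]
  exact CochainComplex.of_d _ _ i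

lemma Q_exactAt (i : ℕ) : (Q I).ExactAt (i + 1) := by
  rw [HomologicalComplex.exactAt_iff' _ i (i + 1) (i + 2) (by simp) (by simp),
    ShortComplex.exact_iff_exact_up_to_refinements]
  intro A' x₂ hx₂
  have hx : (x₂ : A' ⟶ I (i + 1) ⊞ I (i + 2)) ≫ dQ I (i + 1) = 0 := by
    rw [← Q_d]
    exact hx₂
  refine ⟨A', 𝟙 _, inferInstance,
    (x₂ : A' ⟶ I (i + 1) ⊞ I (i + 2)) ≫ biprod.fst ≫ (biprod.inr : _ ⟶ I i ⊞ I (i + 1)), ?_⟩
  rw [Category.id_comp]
  change _ = _ ≫ (Q I).d i (i + 1)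
  rw [Q_d]
  exact (fst_inr_dQ I _ hx).symm

lemma Q_isSplitMono_iCycles (i : ℕ) : IsSplitMono ((Q I).iCycles i) := by
  have hk : ((biprod.fst : I i ⊞ I (i + 1) ⟶ _) ≫ (biprod.inl : _ ⟶ I i ⊞ I (i + 1)) :
      (Q I).X i ⟶ (Q I).X i) ≫ (Q I).d i (i + 1) = 0 := by
    rw [Q_d]
    exact fst_inl_dQ I i
  refine ⟨⟨⟨(Q I).liftCycles _ (i + 1) (by simp) hk, ?_⟩⟩⟩
  rw [← cancel_mono ((Q I).iCycles i), Category.assoc, HomologicalComplex.liftCycles_i,
    Category.id_comp]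
  have h := (Q I).iCycles_d i (i + 1)
  rw [Q_d] at h
  exact eq_fst_inl I ((Q I).iCycles i : _ ⟶ I i ⊞ I (i + 1)) h

end

section Emb

variable (A : CochainComplex C ℕ) (I : ℕ → C) (j : ∀ i, A.X i ⟶ I i)

/-- the components of the embedding `A ⟶ Q I` -/
noncomputable def embF (i : ℕ) : A.X i ⟶ I i ⊞ I (i + 1) :=
  biprod.lift (j i) (A.d i (i + 1) ≫ j (i + 1))

lemma embF_fst (i : ℕ) : embF A I j i ≫ biprod.fst = j i := by simp [embF]

lemma embF_comm (i : ℕ) : embF A I j i ≫ dQ I i = A.d i (i + 1) ≫ embF A I j (i + 1) := by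
  apply biprod.hom_ext
  · simp [embF, dQ]
  · simp [embF, dQ]

/-- the embedding `A ⟶ Q I` -/
noncomputable def emb : A ⟶ Q I where
  f i := embF A I j i
  comm' := by
    rintro i _ rfl
    rw [Q_d]
    exact embF_comm A I j i

lemma emb_mono [∀ i, Mono (j i)] : Mono (emb A I j) := by
  have : ∀ i, Mono ((emb A I j).f i) := fun i => by
    have : Mono (embF A I j i ≫ biprod.fst) := by
      rw [embF_fst]
      infer_instance
    exact mono_of_mono (embF A I j i) biprod.fst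
  exact HomologicalComplex.mono_of_mono_f _ this

end Emb

end Groth.Agent.Lib.SplitAcyclic

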