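import Mathlib

/-!
# Splitting monic polynomials by finite free extensions; finite algebras dominated by sections (helper52)

* `Good A A'`: `A'` is a finite free `A`-algebra with injective structure map.
* `exists_good_splits`, `exists_good_splits_fin`: finitely many monic polynomials split completely
  over a `Good` extension (iterated `AdjoinRoot`).
* `exists_cover_with_sections`: an algebra generated by finitely many elements killed by split
  polynomials is a quotient of a finite free algebra `C'` all of whose primes contain the kernel of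
  one of finitely many sections `C' → A'`.
* `exists_alg_core`: for a finite `A`-algebra `B` there is a `Good` extension `A'` and such a `C'`
  surjecting onto `A' ⊗[A] B`.
-/

set_option autoImplicit false
set_option linter.style.haveILetI false
universe u
open Polynomial TensorProduct

namespace Groth.Agent.Lib.SplitCoverH52


/-- finite free injective algebras -/
def Good (A A' : Type u) [CommRing A] [CommRing A'] [Algebra A A'] : Prop :=
  Module.Free A A' ∧ Module.Finite A A' ∧ Function.Injective (algebraMap A A')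

theorem Good.self (A : Type u) [CommRing A] : Good A A :=
  ⟨Module.Free.self A, Module.Finite.self A, Function.injective_id⟩

theorem Good.trans (A A₁ A' : Type u) [CommRing A] [CommRing A₁] [CommRing A'] [Algebra A A₁]
    [Algebra A₁ A'] [Algebra A A'] [IsScalarTower A A₁ A'] (hf : Good A A₁) (hg : Good A₁ A') :
    Good A A' := by
  obtain ⟨hf1, hf2, hf3⟩ := hf
  obtain ⟨hg1, hg2, hg3⟩ := hg
  refine ⟨?_, ?_, ?_⟩
  · exact Module.Free.trans (R := A) (S := A₁) (M := A')
  · exact Module.Finite.trans A₁ A'
  · rw [IsScalarTower.algebraMap_eq A A₁ A']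
    exact hg3.comp hf3

theorem good_adjoinRoot {A : Type u} [CommRing A] (P : A[X]) (hP : P.Monic) (hd : P.natDegree ≠ 0) :
    Good A (AdjoinRoot P) := by
  refine ⟨hP.free_adjoinRoot, hP.finite_adjoinRoot, ?_⟩
  rw [injective_iff_map_eq_zero]
  intro r hr
  nontriviality A
  have h1 : AdjoinRoot.modByMonicHom hP (AdjoinRoot.mk P (C r)) = C r := by
    rw [AdjoinRoot.modByMonicHom_mk]
    rw [Polynomial.modByMonic_eq_self_iff hP]
    calc (C r).degree ≤ 0 := degree_C_le
      _ < P.degree := by
        rw [Polynomial.degree_eq_natDegree hP.ne_zero]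
        exact_mod_cast Nat.pos_of_ne_zero hd
  rw [AdjoinRoot.mk_C] at h1
  rw [AdjoinRoot.algebraMap_eq] at hr
  rw [hr, map_zero] at h1
  exact (C_eq_zero.mp h1.symm)

/-- Splitting a monic polynomial by a finite free extension. -/
theorem exists_good_splits (d : ℕ) : ∀ (A : Type u) [CommRing A] (P : A[X]), P.Monic →
    P.natDegree = d →
    ∃ (A' : Type u) (_ : CommRing A') (_ : Algebra A A'), Good A A' ∧
      ∃ s : Multiset A', P.map (algebraMap A A') = (s.map (fun a => X - C a)).prod := by
  induction d with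
  | zero =>
    intro A _ P hP hd
    refine ⟨A, inferInstance, inferInstance, Good.self A, 0, ?_⟩
    rw [hP.natDegree_eq_zero.mp hd]
    simp
  | succ d ih =>
    intro A _ P hP hd
    have hd0 : P.natDegree ≠ 0 := by omega
    let A₁ := AdjoinRoot P
    let α : A₁ := AdjoinRoot.root P
    have hroot : IsRoot (P.map (algebraMap A A₁)) α := by
      rw [AdjoinRoot.algebraMap_eq]; exact AdjoinRoot.isRoot_root P
    let Q : A₁[X] := (P.map (algebraMap A A₁)) /ₘ (X - C α)
    have hPQ : (X - C α) * Q = P.map (algebraMap A A₁) :=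
      Polynomial.mul_divByMonic_eq_iff_isRoot.mpr hroot
    have hPm : (P.map (algebraMap A A₁)).Monic := hP.map _
    have hQm : Q.Monic := by
      apply Polynomial.Monic.of_mul_monic_left (monic_X_sub_C α)
      rw [hPQ]; exact hPm
    have hQd : Q.natDegree = d := by
      haveI : Nontrivial A₁ := by
        by_contra hn
        rw [not_nontrivial_iff_subsingleton] at hn
        have := (good_adjoinRoot P hP hd0).2.2
        have h1 : (1 : A) = 0 := this (Subsingleton.elim _ _)
        have : Subsingleton A := subsingleton_of_zero_eq_one h1.symm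
        have : P.natDegree = 0 := by rw [Subsingleton.elim P 0]; simp
        exact hd0 this
      have := congrArg natDegree hPQ
      rw [Polynomial.Monic.natDegree_mul (monic_X_sub_C α) hQm, natDegree_X_sub_C,
        hP.natDegree_map (algebraMap A A₁), hd] at this
      omega
    obtain ⟨A', _, _, hgood, s, hs⟩ := ih A₁ Q hQm hQd
    letI : Algebra A A' := ((algebraMap A₁ A').comp (algebraMap A A₁)).toAlgebra
    haveI : IsScalarTower A A₁ A' := IsScalarTower.of_algebraMap_eq (fun _ => rfl)
    refine ⟨A', inferInstance, inferInstance,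
      Good.trans A A₁ A' (good_adjoinRoot P hP hd0) hgood, algebraMap A₁ A' α ::ₘ s, ?_⟩
    rw [IsScalarTower.algebraMap_eq A A₁ A', ← Polynomial.map_map, ← hPQ, Polynomial.map_mul, hs]
    simp


theorem map_prod_X_sub_C {A A' : Type u} [CommRing A] [CommRing A'] (g : A →+* A') (s : Multiset A) :
    ((s.map (fun a => X - C a)).prod).map g = ((s.map g).map (fun a => X - C a)).prod := by
  rw [Polynomial.map_multiset_prod, Multiset.map_map, Multiset.map_map]
  congr 1
  apply Multiset.map_congr rfl
  intro a _
  simp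

/-- Splitting finitely many monic polynomials by a finite free extension. -/
theorem exists_good_splits_fin (m : ℕ) : ∀ (A : Type u) [CommRing A] (P : Fin m → A[X]),
    (∀ j, (P j).Monic) →
    ∃ (A' : Type u) (_ : CommRing A') (_ : Algebra A A'), Good A A' ∧
      ∀ j, ∃ s : Multiset A', (P j).map (algebraMap A A') = (s.map (fun a => X - C a)).prod := by
  induction m with
  | zero =>
    intro A _ P _
    exact ⟨A, inferInstance, inferInstance, Good.self A, fun j => j.elim0⟩
  | succ m ih =>
    intro A _ P hP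
    obtain ⟨A₁, _, _, hgood₁, s₀, hs₀⟩ := exists_good_splits _ A (P 0) (hP 0) rfl
    obtain ⟨A', _, _, hgood, hs⟩ := ih A₁ (fun j => (P j.succ).map (algebraMap A A₁))
      (fun j => (hP j.succ).map _)
    letI : Algebra A A' := ((algebraMap A₁ A').comp (algebraMap A A₁)).toAlgebra
    haveI : IsScalarTower A A₁ A' := IsScalarTower.of_algebraMap_eq (fun _ => rfl)
    refine ⟨A', inferInstance, inferInstance, Good.trans A A₁ A' hgood₁ hgood, ?_⟩
    intro j
    refine Fin.cases ?_ (fun j' => ?_) j
    · refine ⟨s₀.map (algebraMap A₁ A'), ?_⟩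
      rw [IsScalarTower.algebraMap_eq A A₁ A', ← Polynomial.map_map, hs₀, map_prod_X_sub_C]
    · obtain ⟨s, hs'⟩ := hs j'
      refine ⟨s, ?_⟩
      rw [IsScalarTower.algebraMap_eq A A₁ A', ← Polynomial.map_map]
      exact hs'



theorem exists_cover_with_sections (m : ℕ) : ∀ (A' B' : Type u) [CommRing A'] [CommRing B']
    [Algebra A' B'] (b : Fin m → B'), Algebra.adjoin A' (Set.range b) = ⊤ →
    (∀ j, ∃ s : Multiset A', (s.map (fun a => b j - algebraMap A' B' a)).prod = 0) →
    ∃ (C' : Type u) (_ : CommRing C') (_ : Algebra A' C'), Module.Free A' C' ∧ Module.Finite A' C' ∧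
      ∃ φ : C' →ₐ[A'] B', Function.Surjective φ ∧ ∃ σs : List (C' →ₐ[A'] A'),
        ∀ q : Ideal C', q.IsPrime → ∃ σ ∈ σs, RingHom.ker σ ≤ q := by
  induction m with
  | zero =>
    intro A' B' _ _ _ b hgen _
    have hsurj : Function.Surjective (algebraMap A' B') := by
      rw [Algebra.surjective_algebraMap_iff, ← hgen]
      have : Set.range b = ∅ := Set.range_eq_empty b
      rw [this, Algebra.adjoin_empty]
    refine ⟨A', inferInstance, inferInstance, Module.Free.self A', Module.Finite.self A',
      Algebra.ofId A' B', hsurj, [AlgHom.id A' A'], ?_⟩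
    intro q _
    refine ⟨AlgHom.id A' A', List.mem_singleton.mpr rfl, ?_⟩
    intro x hx
    have : x = 0 := hx
    rw [this]; exact q.zero_mem
  | succ m ih =>
    intro A' B' _ _ _ b hgen hsplit
    -- subalgebra generated by the first m
    let b' : Fin m → B' := fun j => b j.castSucc
    let B₀ : Subalgebra A' B' := Algebra.adjoin A' (Set.range b')
    let b₀ : Fin m → B₀ := fun j => ⟨b' j, Algebra.subset_adjoin ⟨j, rfl⟩⟩
    have hgen₀ : Algebra.adjoin A' (Set.range b₀) = ⊤ := by
      have := Algebra.adjoin_adjoin_coe_preimage (R := A') (s := Set.range b')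
      convert this using 2
      ext x; constructor
      · rintro ⟨j, rfl⟩; exact ⟨j, rfl⟩
      · rintro ⟨j, hj⟩; exact ⟨j, Subtype.ext hj⟩
    have hsplit₀ : ∀ j, ∃ s : Multiset A',
        (s.map (fun a => b₀ j - algebraMap A' B₀ a)).prod = 0 := by
      intro j
      obtain ⟨s, hs⟩ := hsplit j.castSucc
      refine ⟨s, ?_⟩
      apply Subtype.ext
      have : B₀.val ((s.map (fun a => b₀ j - algebraMap A' B₀ a)).prod) =
          (s.map (fun a => b j.castSucc - algebraMap A' B' a)).prod := by
        rw [map_multiset_prod, Multiset.map_map]; rfl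
      exact this.trans hs
    obtain ⟨C₀, _, _, hfree₀, hfin₀, φ₀, hφ₀, σs₀, hσs₀⟩ := ih A' B₀ b₀ hgen₀ hsplit₀
    obtain ⟨s, hs⟩ := hsplit (Fin.last m)
    let Q : A'[X] := (s.map (fun a => X - C a)).prod
    have hQm : Q.Monic := monic_multiset_prod_of_monic _ _ (fun a _ => monic_X_sub_C a)
    let Q' : C₀[X] := Q.map (algebraMap A' C₀)
    have hQ'm : Q'.Monic := hQm.map _
    let C' := AdjoinRoot Q'
    haveI : Module.Free C₀ C' := hQ'm.free_adjoinRoot
    haveI : Module.Finite C₀ C' := hQ'm.finite_adjoinRoot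
    have hfree : Module.Free A' C' := Module.Free.trans (R := A') (S := C₀) (M := C')
    have hfin : Module.Finite A' C' := Module.Finite.trans C₀ C'
    -- evaluation of Q
    have hQeval : ∀ {T : Type u} [CommRing T] (g : A' →+* T) (x : T),
        Q.eval₂ g x = (s.map (fun a => x - g a)).prod := by
      intro T _ g x
      rw [← Polynomial.coe_eval₂RingHom, map_multiset_prod, Multiset.map_map]
      congr 1
      apply Multiset.map_congr rfl
      intro a _
      simp
    -- the map to B'
    let ι₀ : C₀ →ₐ[A'] B' := B₀.val.comp φ₀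
    have hlast : Q'.eval₂ (ι₀ : C₀ →+* B') (b (Fin.last m)) = 0 := by
      rw [Polynomial.eval₂_map, ι₀.comp_algebraMap, hQeval]
      exact hs
    let φ : C' →ₐ[A'] B' := AdjoinRoot.liftAlgHom Q' ι₀ (b (Fin.last m)) hlast
    have hφ : Function.Surjective φ := by
      rw [← AlgHom.range_eq_top, eq_top_iff, ← hgen]
      apply Algebra.adjoin_le
      rintro _ ⟨j, rfl⟩
      refine Fin.lastCases ?_ (fun j' => ?_) j
      · exact ⟨AdjoinRoot.root Q', AdjoinRoot.liftAlgHom_root _ _ _ _⟩
      · obtain ⟨c, hc⟩ := hφ₀ (b₀ j')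
        refine ⟨AdjoinRoot.of Q' c, ?_⟩
        change AdjoinRoot.liftAlgHom Q' ι₀ (b (Fin.last m)) hlast (AdjoinRoot.of Q' c) = _
        rw [AdjoinRoot.liftAlgHom_of]
        change (φ₀ c : B') = _
        rw [hc]
    -- sections
    have hsec : ∀ (σ : C₀ →ₐ[A'] A') (a : A'), a ∈ s → Q'.eval₂ (σ : C₀ →+* A') a = 0 := by
      intro σ a ha
      rw [Polynomial.eval₂_map, σ.comp_algebraMap, hQeval]
      apply Multiset.prod_eq_zero
      exact Multiset.mem_map.mpr ⟨a, ha, by simp⟩
    let mkσ : (C₀ →ₐ[A'] A') → ∀ a : A', a ∈ s → (C' →ₐ[A'] A') :=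
      fun σ a ha => AdjoinRoot.liftAlgHom Q' σ a (hsec σ a ha)
    let σs : List (C' →ₐ[A'] A') := σs₀.flatMap (fun σ =>
      s.toList.pmap (fun a ha => mkσ σ a ha) (fun a ha => Multiset.mem_toList.mp ha))
    refine ⟨C', inferInstance, inferInstance, hfree, hfin, φ, hφ, σs, ?_⟩
    intro q hq
    have hq₀ : (q.comap (AdjoinRoot.of Q')).IsPrime := Ideal.comap_isPrime _ _
    obtain ⟨σ, hσ, hker⟩ := hσs₀ _ hq₀
    have halg : (algebraMap A' C' : A' →+* C') = (AdjoinRoot.of Q').comp (algebraMap A' C₀) :=
      rfl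
    have hroot : (s.map (fun a => AdjoinRoot.root Q' - algebraMap A' C' a)).prod = 0 := by
      have h := AdjoinRoot.eval₂_root Q'
      rw [Polynomial.eval₂_map, ← halg, hQeval] at h
      exact h
    obtain ⟨a, ha, haq⟩ : ∃ a ∈ s, AdjoinRoot.root Q' - algebraMap A' C' a ∈ q := by
      have : (s.map (fun a => AdjoinRoot.root Q' - algebraMap A' C' a)).prod ∈ q := by
        rw [hroot]; exact q.zero_mem
      obtain ⟨p, hp, hpq⟩ := (hq.multiset_prod_mem_iff_exists_mem _).mp this
      obtain ⟨a, ha, rfl⟩ := Multiset.mem_map.mp hp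
      exact ⟨a, ha, hpq⟩
    refine ⟨mkσ σ a ha, ?_, ?_⟩
    · exact List.mem_flatMap.mpr ⟨σ, hσ, List.mem_pmap.mpr ⟨a, Multiset.mem_toList.mpr ha, rfl⟩⟩
    · intro x hx
      let π := Ideal.Quotient.mk q
      have key : π = (π.comp (algebraMap A' C')).comp ((mkσ σ a ha : C' →ₐ[A'] A') : C' →+* A') := by
        apply AdjoinRoot.ringHom_ext
        · ext c
          change π (AdjoinRoot.of Q' c) = π (algebraMap A' C' (mkσ σ a ha (AdjoinRoot.of Q' c)))
          have h1 : mkσ σ a ha (AdjoinRoot.of Q' c) = σ c := AdjoinRoot.liftAlgHom_of _ _ _ _ _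
          rw [h1, halg]
          change π (AdjoinRoot.of Q' c) = π (AdjoinRoot.of Q' (algebraMap A' C₀ (σ c)))
          rw [← sub_eq_zero, ← map_sub, ← map_sub]
          apply Ideal.Quotient.eq_zero_iff_mem.mpr
          apply hker
          rw [RingHom.mem_ker, map_sub, AlgHom.commutes]
          simp
        · change π (AdjoinRoot.root Q') = π (algebraMap A' C' (mkσ σ a ha (AdjoinRoot.root Q')))
          have h1 : mkσ σ a ha (AdjoinRoot.root Q') = a := AdjoinRoot.liftAlgHom_root _ _ _ _
          rw [h1, ← sub_eq_zero, ← map_sub]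
          exact Ideal.Quotient.eq_zero_iff_mem.mpr haq
      have h2 : π x = 0 := by
        rw [key]
        change π (algebraMap A' C' (mkσ σ a ha x)) = 0
        rw [RingHom.mem_ker.mp hx, map_zero, map_zero]
      exact Ideal.Quotient.eq_zero_iff_mem.mp h2



theorem adjoin_tmul_eq_top {A A' B : Type u} [CommRing A] [CommRing A'] [CommRing B] [Algebra A A']
    [Algebra A B] {m : ℕ} (b : Fin m → B) (hb : Submodule.span A (Set.range b) = ⊤) :
    Algebra.adjoin A' (Set.range (fun j => (1 : A') ⊗ₜ[A] b j)) = ⊤ := by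
  have h1 : ∀ y : B, (1 : A') ⊗ₜ[A] y ∈ Algebra.adjoin A' (Set.range (fun j => (1 : A') ⊗ₜ[A] b j)) := by
    intro y
    have hy : y ∈ Submodule.span A (Set.range b) := by rw [hb]; trivial
    induction hy using Submodule.span_induction with
    | mem y hy => obtain ⟨j, rfl⟩ := hy; exact Algebra.subset_adjoin ⟨j, rfl⟩
    | zero => rw [TensorProduct.tmul_zero]; exact zero_mem _
    | add y z _ _ hy hz => rw [TensorProduct.tmul_add]; exact add_mem hy hz
    | smul a y _ hy =>
      rw [TensorProduct.tmul_smul, ← algebraMap_smul A' a ((1 : A') ⊗ₜ[A] y)]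
      exact Subalgebra.smul_mem _ hy _
  rw [eq_top_iff]
  intro x _
  induction x using TensorProduct.induction_on with
  | zero => exact zero_mem _
  | add x y hx hy => exact add_mem (hx trivial) (hy trivial)
  | tmul a' y =>
    have : a' ⊗ₜ[A] y = a' • ((1 : A') ⊗ₜ[A] y) := by
      rw [TensorProduct.smul_tmul', smul_eq_mul, mul_one]
    rw [this]
    exact Subalgebra.smul_mem _ (h1 y) _

theorem prod_sub_eq_zero {A A' B : Type u} [CommRing A] [CommRing A'] [CommRing B] [Algebra A A']
    [Algebra A B] (P : A[X]) (y : B) (hy : Polynomial.aeval y P = 0) (s : Multiset A')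
    (hs : P.map (algebraMap A A') = (s.map (fun a => X - C a)).prod) :
    (s.map (fun a => (1 : A') ⊗ₜ[A] y - algebraMap A' (A' ⊗[A] B) a)).prod = 0 := by
  have h1 : Polynomial.aeval ((1 : A') ⊗ₜ[A] y) (P.map (algebraMap A A')) = 0 := by
    rw [Polynomial.aeval_map_algebraMap]
    have := Polynomial.aeval_algHom_apply (Algebra.TensorProduct.includeRight : B →ₐ[A] A' ⊗[A] B) y P
    rw [Algebra.TensorProduct.includeRight_apply] at this
    rw [this, hy, map_zero]
  rw [hs, map_multiset_prod, Multiset.map_map] at h1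
  rw [← h1]
  congr 1
  apply Multiset.map_congr rfl
  intro a _
  simp


/-- **Algebraic core**: a finite algebra becomes, after a finite free injective base extension, a
quotient of a finite free algebra whose spectrum is covered by finitely many sections. -/
theorem exists_alg_core (A B : Type u) [CommRing A] [CommRing B] [Algebra A B] [Module.Finite A B] :
    ∃ (A' : Type u) (_ : CommRing A') (_ : Algebra A A'), Good A A' ∧
    ∃ (C' : Type u) (_ : CommRing C') (_ : Algebra A' C'), Module.Free A' C' ∧ Module.Finite A' C' ∧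
      ∃ φ : C' →ₐ[A'] (A' ⊗[A] B), Function.Surjective φ ∧ ∃ σs : List (C' →ₐ[A'] A'),
        ∀ q : Ideal C', q.IsPrime → ∃ σ ∈ σs, RingHom.ker σ ≤ q := by
  obtain ⟨m, b, hb⟩ := Module.Finite.exists_fin (R := A) (M := B)
  have hint : ∀ j, IsIntegral A (b j) := fun j => Algebra.IsIntegral.isIntegral (b j)
  choose P hPm hPz using hint
  obtain ⟨A', _, _, hgood, hsp⟩ := exists_good_splits_fin m A P hPm
  refine ⟨A', inferInstance, inferInstance, hgood, ?_⟩
  apply exists_cover_with_sections m A' (A' ⊗[A] B) (fun j => (1 : A') ⊗ₜ[A] b j)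
    (adjoin_tmul_eq_top b hb)
  intro j
  obtain ⟨s, hs⟩ := hsp j
  exact ⟨s, prod_sub_eq_zero (P j) (b j) (hPz j) s hs⟩

end Groth.Agent.Lib.SplitCoverH52
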