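import Groth.Agent.Lib.SplitCoverH52
import Groth.Prelude.Def_Mor2

/-!
# Finite morphisms to an affine scheme are dominated by sections after a finite locally free cover
(helper52).  Scheme-level translation of `Lib/SplitCoverH52.exists_alg_core`:
`isFinLocFree_spec`, `surjective_spec`, `spec_case`, `general_case`.
-/

set_option autoImplicit false
set_option linter.style.haveILetI false
universe u
open CategoryTheory CategoryTheory.Limits AlgebraicGeometry TensorProduct
open Groth.Agent.Lib.SplitCoverH52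

namespace Groth.Agent.Lib.SplitCoverSchH52

theorem isFinLocFree_spec {A A' : Type u} [CommRing A] [CommRing A'] [Algebra A A']
    [Module.Free A A'] [Module.Finite A A'] :
    Mor2.IsFinLocFree (Spec.map (CommRingCat.ofHom (algebraMap A A'))) := by
  haveI : Module.FinitePresentation A A' := Module.finitePresentation_of_projective A A'
  refine ⟨?_, ?_, ?_⟩
  · rw [IsFinite.SpecMap_iff, CommRingCat.hom_ofHom]
    exact RingHom.finite_algebraMap.mpr inferInstance
  · rw [Flat.SpecMap_iff, CommRingCat.hom_ofHom]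
    exact RingHom.flat_algebraMap_iff.mpr inferInstance
  · rw [LocallyOfFinitePresentation.SpecMap_iff, CommRingCat.hom_ofHom]
    exact RingHom.finitePresentation_algebraMap.mpr inferInstance

theorem surjective_spec {A A' : Type u} [CommRing A] [CommRing A'] [Algebra A A']
    (h : Good A A') : Surjective (Spec.map (CommRingCat.ofHom (algebraMap A A'))) := by
  obtain ⟨h1, h2, h3⟩ := h
  refine ⟨fun x => ?_⟩
  let x' : PrimeSpectrum A := x
  haveI : Algebra.IsIntegral A A' := Algebra.IsIntegral.of_finite A A'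
  haveI := x'.isPrime
  obtain ⟨Q, -, hQ, hQP⟩ := Ideal.exists_ideal_over_prime_of_isIntegral x'.asIdeal (⊥ : Ideal A')
    (by rw [Ideal.comap_bot_of_injective _ h3]; exact bot_le)
  exact ⟨(⟨Q, hQ⟩ : PrimeSpectrum A'), PrimeSpectrum.ext hQP⟩


theorem spec_case (A B : Type u) [CommRing A] [CommRing B] [Algebra A B] [Module.Finite A B] :
    ∃ (X' : Scheme.{u}) (b : X' ⟶ Spec (.of A)) (Z' : Scheme.{u}) (c : Z' ⟶ X')
      (i : pullback (Spec.map (CommRingCat.ofHom (algebraMap A B))) b ⟶ Z'),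
      Mor2.IsFinLocFree b ∧ Surjective b ∧ Mor2.IsFinLocFree c ∧ IsClosedImmersion i ∧
      i ≫ c = pullback.snd (Spec.map (CommRingCat.ofHom (algebraMap A B))) b ∧
      ∃ (m : ℕ) (Zj : Fin m → Scheme.{u}) (ιj : ∀ j, Zj j ⟶ Z'),
        (∀ j, IsClosedImmersion (ιj j)) ∧ (∀ j, IsIso (ιj j ≫ c)) ∧
        (⋃ j, Set.range (ιj j).base) = Set.univ := by
  obtain ⟨A', _, _, hgood, C', _, _, hfree, hfin, φ, hφ, σs, hσs⟩ := exists_alg_core A B
  haveI := hgood.1
  haveI := hgood.2.1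
  let b : Spec (.of A') ⟶ Spec (.of A) := Spec.map (CommRingCat.ofHom (algebraMap A A'))
  let c : Spec (.of C') ⟶ Spec (.of A') := Spec.map (CommRingCat.ofHom (algebraMap A' C'))
  let i : pullback (Spec.map (CommRingCat.ofHom (algebraMap A B))) b ⟶ Spec (.of C') :=
    (pullbackSymmetry _ _).hom ≫ (pullbackSpecIso A A' B).hom ≫
      Spec.map (CommRingCat.ofHom φ.toRingHom)
  haveI : IsClosedImmersion (Spec.map (CommRingCat.ofHom φ.toRingHom)) :=
    IsClosedImmersion.spec_of_surjective _ hφ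
  have hσsurj : ∀ σ : C' →ₐ[A'] A', Function.Surjective σ := fun σ a =>
    ⟨algebraMap A' C' a, by rw [AlgHom.commutes]; rfl⟩
  refine ⟨Spec (.of A'), b, Spec (.of C'), c, i, isFinLocFree_spec, surjective_spec hgood,
    isFinLocFree_spec, inferInstance, ?_, σs.length, fun _ => Spec (.of A'),
    fun j => Spec.map (CommRingCat.ofHom (σs.get j).toRingHom), ?_, ?_, ?_⟩
  · have h1 : Spec.map (CommRingCat.ofHom φ.toRingHom) ≫ c =
        Spec.map (CommRingCat.ofHom (algebraMap A' (A' ⊗[A] B))) := by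
      rw [← Spec.map_comp, ← CommRingCat.ofHom_comp]
      congr 2
      exact φ.comp_algebraMap
    change ((pullbackSymmetry _ _).hom ≫ (pullbackSpecIso A A' B).hom ≫
      Spec.map (CommRingCat.ofHom φ.toRingHom)) ≫ c = _
    rw [Category.assoc, Category.assoc, h1, pullbackSpecIso_hom_fst', pullbackSymmetry_hom_comp_fst]
  · intro j
    exact IsClosedImmersion.spec_of_surjective _ (hσsurj _)
  · intro j
    have h1 : Spec.map (CommRingCat.ofHom (σs.get j).toRingHom) ≫ c = 𝟙 _ := by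
      rw [← Spec.map_comp, ← CommRingCat.ofHom_comp, ← Spec.map_id]
      congr 1
      ext a
      change (σs.get j) (algebraMap A' C' a) = a
      rw [AlgHom.commutes]; rfl
    rw [h1]
    infer_instance
  · rw [Set.eq_univ_iff_forall]
    intro z
    let z' : PrimeSpectrum C' := z
    obtain ⟨σ, hσ, hker⟩ := hσs z'.asIdeal z'.isPrime
    obtain ⟨j, hj⟩ := List.mem_iff_get.mp hσ
    refine Set.mem_iUnion.mpr ⟨j, ?_⟩
    have hr : z' ∈ Set.range (PrimeSpectrum.comap (σs.get j).toRingHom) := by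
      rw [range_comap_of_surjective _ _ (hσsurj _), hj]
      exact hker
    obtain ⟨w, hw⟩ := hr
    exact ⟨w, hw⟩


theorem general_case {X Y : Scheme.{u}} [IsAffine X] (f : Y ⟶ X) [IsFinite f] :
    ∃ (X' : Scheme.{u}) (b : X' ⟶ X) (Z' : Scheme.{u}) (c : Z' ⟶ X') (i : pullback f b ⟶ Z'),
      Mor2.IsFinLocFree b ∧ Surjective b ∧ Mor2.IsFinLocFree c ∧ IsClosedImmersion i ∧
      i ≫ c = pullback.snd f b ∧
      ∃ (m : ℕ) (Zj : Fin m → Scheme.{u}) (ιj : ∀ j, Zj j ⟶ Z'),
        (∀ j, IsClosedImmersion (ιj j)) ∧ (∀ j, IsIso (ιj j ≫ c)) ∧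
        (⋃ j, Set.range (ιj j).base) = Set.univ := by
  haveI : IsAffine Y := isAffine_of_isAffineHom f
  letI : Algebra Γ(X, ⊤) Γ(Y, ⊤) := f.appTop.hom.toAlgebra
  haveI : Module.Finite Γ(X, ⊤) Γ(Y, ⊤) := f.finite_appTop
  obtain ⟨X', b', Z', c, i', hb', hsb', hc, hi', hic, m, Zj, ιj, h1, h2, h3⟩ :=
    spec_case Γ(X, ⊤) Γ(Y, ⊤)
  have hφ : Spec.map (CommRingCat.ofHom (algebraMap Γ(X, ⊤) Γ(Y, ⊤))) = Spec.map f.appTop := rfl
  let b : X' ⟶ X := b' ≫ X.isoSpec.inv
  have comm1 : f ≫ X.isoSpec.hom =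
      Y.isoSpec.hom ≫ Spec.map (CommRingCat.ofHom (algebraMap Γ(X, ⊤) Γ(Y, ⊤))) := by
    rw [hφ, Scheme.isoSpec_hom_naturality]
  have comm2 : b ≫ X.isoSpec.hom = 𝟙 X' ≫ b' := by
    simp [b]
  let θ : pullback f b ⟶ pullback (Spec.map (CommRingCat.ofHom (algebraMap Γ(X, ⊤) Γ(Y, ⊤)))) b' :=
    pullback.map f b _ b' Y.isoSpec.hom (𝟙 X') X.isoSpec.hom comm1 comm2
  haveI : IsIso θ := by dsimp only [θ]; infer_instance
  obtain ⟨hb1, hb2, hb3⟩ := hb'
  refine ⟨X', b, Z', c, θ ≫ i', ⟨inferInstance, inferInstance, inferInstance⟩, inferInstance, hc,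
    inferInstance, ?_, m, Zj, ιj, h1, h2, h3⟩
  rw [Category.assoc, hic]
  dsimp only [θ, pullback.map]
  rw [pullback.lift_snd, Category.comp_id]

end Groth.Agent.Lib.SplitCoverSchH52
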