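import Mathlib

/-!
# Split filtrations are determined by the induced filtration on a tensor power

Helper library for S19157.
-/

namespace Groth.Agent.Lib.SplitFiltTensor

open scoped TensorProduct

section proj
variable {Γ : Type*} [DecidableEq Γ] {R : Type*} [CommRing R] {N : Type*} [AddCommGroup N]
  [Module R N] (G : Γ → Submodule R N)

/-- projection onto a graded piece -/
noncomputable def pr [DirectSum.Decomposition G] (γ : Γ) : N →ₗ[R] N :=
  (G γ).subtype ∘ₗ DirectSum.component R Γ (fun i => G i) γ ∘ₗ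
    (DirectSum.decomposeLinearEquiv G).toLinearMap

variable [DirectSum.Decomposition G]

theorem pr_mem (γ : Γ) (x : N) : pr G γ x ∈ G γ := by
  unfold pr
  simp

theorem pr_apply (γ : Γ) (x : N) : pr G γ x = (DirectSum.decompose G x γ : N) := rfl

theorem pr_of_mem_same {γ : Γ} {x : N} (hx : x ∈ G γ) : pr G γ x = x := by
  rw [pr_apply]
  exact DirectSum.decompose_of_mem_same G hx

theorem pr_of_mem_ne {γ η : Γ} {x : N} (hx : x ∈ G η) (h : η ≠ γ) : pr G γ x = 0 := by
  rw [pr_apply]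
  exact DirectSum.decompose_of_mem_ne G hx h

/-- `x` is the sum of its components over any finite set containing the support of the grading -/
theorem sum_pr_eq (T : Finset Γ) (hT : ∀ γ, γ ∉ T → G γ = ⊥) (x : N) :
    ∑ η ∈ T, pr G η x = x := by
  classical
  conv_rhs => rw [← DirectSum.sum_support_decompose G x]
  symm
  apply Finset.sum_subset
  · intro η hη
    by_contra hηT
    have h0 : ∀ y : N, y ∈ G η → y = 0 := by
      intro y hy
      rw [hT η hηT] at hy
      exact (Submodule.mem_bot R).mp hy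
    have h1 : (DirectSum.decompose G x η : N) = 0 := h0 _ (DirectSum.decompose G x η).2
    rw [DFinsupp.mem_support_toFun] at hη
    exact hη (Subtype.ext h1)
  · intro η _ hη
    rw [DFinsupp.mem_support_toFun, not_not] at hη
    rw [hη]; rfl

end proj

section filt

variable {Γ : Type*} [LinearOrder Γ] {R : Type*} [CommRing R] {N : Type*} [AddCommGroup N]
  [Module R N] (G : Γ → Submodule R N) [DirectSum.Decomposition G]

open Classical in
/-- `pr G η` kills `⨆_{η' ≥ c} G η'` when `c > η`. -/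
theorem pr_eq_zero_of_mem_iSup {η c : Γ} (hc : η < c) {y : N}
    (hy : y ∈ ⨆ η' ∈ Set.Ici c, G η') : pr G η y = 0 := by
  refine Submodule.iSup_induction (p := fun η' => ⨆ (_ : η' ∈ Set.Ici c), G η')
    (motive := fun y => pr G η y = 0) hy ?_ ?_ ?_
  · intro η' y hy
    by_cases hη' : η' ∈ Set.Ici c
    · rw [iSup_pos hη'] at hy
      exact pr_of_mem_ne G hy (ne_of_gt (lt_of_lt_of_le hc hη'))
    · rw [iSup_neg hη', Submodule.mem_bot] at hy
      rw [hy, map_zero]
  · exact map_zero _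
  · intro y z hy hz
    rw [map_add, hy, hz, add_zero]

open Classical in
/-- membership in the filtration step from vanishing of low components. -/
theorem mem_iSup_of_pr_eq_zero (T : Finset Γ) (hT : ∀ γ, γ ∉ T → G γ = ⊥) {γ : Γ} {x : N}
    (hx : ∀ η < γ, pr G η x = 0) : x ∈ ⨆ η' ∈ Set.Ici γ, G η' := by
  rw [← sum_pr_eq G T hT x]
  apply Submodule.sum_mem
  intro η _
  by_cases hη : η < γ
  · rw [hx η hη]; exact Submodule.zero_mem _
  · push Not at hη
    exact Submodule.mem_iSup_of_mem η (Submodule.mem_iSup_of_mem hη (pr_mem G η x))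

end filt

section functional

variable {R : Type*} [CommRing R] {M : Type*} [AddCommGroup M] [Module R M]

/-- the functional `g₀ ⊗ ⋯ ⊗ g_{k-1}` on the tensor power. -/
noncomputable def Phi {k : ℕ} (gg : Fin k → (M →ₗ[R] R)) : (⨂[R] _ : Fin k, M) →ₗ[R] R :=
  PiTensorProduct.lift ((MultilinearMap.mkPiAlgebra R (Fin k) R).compLinearMap gg)

theorem Phi_tprod {k : ℕ} (gg : Fin k → (M →ₗ[R] R)) (m : Fin k → M) :
    Phi gg (PiTensorProduct.tprod R m) = ∏ i, gg i (m i) := by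
  rw [Phi, PiTensorProduct.lift.tprod, MultilinearMap.compLinearMap_apply,
    MultilinearMap.mkPiAlgebra_apply]

/-- If the functional maps all pure tensors from the `F i` into an ideal, it maps the whole image
of `⨂ F i` into it. -/
theorem range_le_comap_Phi {k : ℕ} (gg : Fin k → (M →ₗ[R] R)) (F : Fin k → Submodule R M)
    (I : Ideal R) (h : ∀ m : (i : Fin k) → F i, ∏ i, gg i (m i : M) ∈ I) :
    LinearMap.range (PiTensorProduct.map (R := R) (fun i => (F i).subtype)) ≤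
      Submodule.comap (Phi gg) I := by
  rintro _ ⟨t, rfl⟩
  rw [Submodule.mem_comap]
  induction t using PiTensorProduct.induction_on with
  | smul_tprod r m =>
    rw [map_smul, map_smul, PiTensorProduct.map_tprod, Phi_tprod]
    exact I.mul_mem_left _ (h m)
  | add x y hx hy =>
    rw [map_add, map_add]
    exact I.add_mem hx hy

end functional

section main

variable {Γ : Type*} [AddCommGroup Γ] [LinearOrder Γ] [IsOrderedAddMonoid Γ]
  {R : Type*} [CommRing R] {M : Type*} [AddCommGroup M] [Module R M]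

/-- the filtration induced on the `k`-th tensor power. -/
def tfil (F : Γ → Submodule R M) (k : ℕ) (γ : Γ) : Submodule R (⨂[R] _ : Fin k, M) :=
  ⨆ c : {c : Fin k → Γ // ∑ i, c i = γ},
    LinearMap.range (PiTensorProduct.map (R := R) (fun i => (F (c.1 i)).subtype))

omit [LinearOrder Γ] [IsOrderedAddMonoid Γ] in
/-- pure tensors lie in the tensor filtration. -/
theorem tprod_mem_tfil (F : Γ → Submodule R M) (k : ℕ) (c : Fin k → Γ) (m : Fin k → M)
    (hm : ∀ i, m i ∈ F (c i)) : PiTensorProduct.tprod R m ∈ tfil F k (∑ i, c i) := by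
  apply Submodule.mem_iSup_of_mem ⟨c, rfl⟩
  refine ⟨PiTensorProduct.tprod R (fun i => (⟨m i, hm i⟩ : F (c i))), ?_⟩
  rw [PiTensorProduct.map_tprod]
  rfl

/-- main case: the annihilating product. -/
theorem main_case (F₁ F₂ : Γ → Submodule R M) (G₂ : Γ → Submodule R M)
    [DirectSum.Decomposition G₂] (hF₂ : ∀ γ, F₂ γ = ⨆ η ∈ Set.Ici γ, G₂ η)
    (k' : ℕ) {γ η a : Γ} (hη : η < γ) {x f : M} (hx : x ∈ F₁ γ) (hf : f ∈ F₁ a)
    (ψ ψ' : M →ₗ[R] R) (hψ : ∀ c, a < c → ∀ y ∈ F₂ c, ψ y = 0)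
    (hH : tfil F₁ (k'+1) (γ + k' • a) ≤ tfil F₂ (k'+1) (γ + k' • a)) :
    ψ' (pr G₂ η x) * ψ f ^ k' = 0 := by
  classical
  set gg : Fin (k'+1) → (M →ₗ[R] R) := fun i => if i = 0 then ψ' ∘ₗ pr G₂ η else ψ with hgg
  set c : Fin (k'+1) → Γ := fun i => if i = 0 then γ else a with hc
  set m : Fin (k'+1) → M := fun i => if i = 0 then x else f with hm
  have hsum : ∑ i, c i = γ + k' • a := by
    rw [Fin.sum_univ_succ]
    simp [hc, Fin.succ_ne_zero]
  have hmem : PiTensorProduct.tprod R m ∈ tfil F₁ (k'+1) (γ + k' • a) := by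
    rw [← hsum]
    apply tprod_mem_tfil
    intro i
    by_cases hi : i = 0
    · simp [hm, hc, hi, hx]
    · simp [hm, hc, hi, hf]
  have hkill : tfil F₂ (k'+1) (γ + k' • a) ≤ Submodule.comap (Phi gg) (⊥ : Ideal R) := by
    apply iSup_le
    rintro ⟨c', hc'⟩
    apply range_le_comap_Phi
    intro y
    rw [Ideal.mem_bot]
    by_cases h0 : η < c' 0
    · apply Finset.prod_eq_zero (Finset.mem_univ 0)
      simp only [hgg, if_pos, LinearMap.comp_apply]
      have hy0 : (y 0 : M) ∈ ⨆ η' ∈ Set.Ici (c' 0), G₂ η' := by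
        rw [← hF₂]; exact (y 0).2
      rw [pr_eq_zero_of_mem_iSup G₂ h0 hy0, map_zero]
    · push Not at h0
      have hex : ∃ i : Fin k', a < c' i.succ := by
        by_contra hno
        push Not at hno
        have h1 : ∑ i, c' i ≤ η + k' • a := by
          rw [Fin.sum_univ_succ]
          apply add_le_add h0
          calc ∑ i : Fin k', c' i.succ ≤ ∑ _i : Fin k', a := Finset.sum_le_sum (fun i _ => hno i)
            _ = k' • a := by simp
        rw [hc'] at h1
        have h2 : η + k' • a < γ + k' • a := by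
          exact add_lt_add_left hη _
        exact absurd h1 (not_le.mpr h2)
      obtain ⟨i, hi⟩ := hex
      apply Finset.prod_eq_zero (Finset.mem_univ i.succ)
      simp only [hgg, Fin.succ_ne_zero, if_false]
      exact hψ _ hi _ (y i.succ).2
  have h0 := hkill (hH hmem)
  rw [Submodule.mem_comap, Ideal.mem_bot, Phi_tprod, Fin.prod_univ_succ] at h0
  simpa [hgg, hm, Fin.succ_ne_zero] using h0

/-- the contradiction lemma: top degrees cannot differ. -/
theorem top_degree_lemma (F₁ F₂ : Γ → Submodule R M) (k' : ℕ) {a₂ : Γ} {g : M}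
    (hg : g ∈ F₂ a₂) (ψ₀ : M →ₗ[R] R) (𝔪 : Ideal R) [𝔪.IsPrime]
    (h𝔪 : ∀ c, a₂ ≤ c → ∀ y ∈ F₁ c, ψ₀ y ∈ 𝔪)
    (hH : tfil F₂ (k'+1) ((k'+1) • a₂) ≤ tfil F₁ (k'+1) ((k'+1) • a₂)) :
    ψ₀ g ∈ 𝔪 := by
  classical
  set gg : Fin (k'+1) → (M →ₗ[R] R) := fun _ => ψ₀ with hgg
  have hmem : PiTensorProduct.tprod R (fun _ : Fin (k'+1) => g) ∈
      tfil F₂ (k'+1) ((k'+1) • a₂) := by
    have := tprod_mem_tfil F₂ (k'+1) (fun _ => a₂) (fun _ => g) (fun _ => hg)
    simpa using this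
  have hkill : tfil F₁ (k'+1) ((k'+1) • a₂) ≤ Submodule.comap (Phi gg) 𝔪 := by
    apply iSup_le
    rintro ⟨c', hc'⟩
    apply range_le_comap_Phi
    intro y
    have hex : ∃ i, a₂ ≤ c' i := by
      by_contra hno
      push Not at hno
      have h1 : ∑ i, c' i < ∑ _i : Fin (k'+1), a₂ :=
        Finset.sum_lt_sum_of_nonempty Finset.univ_nonempty (fun i _ => hno i)
      rw [hc'] at h1
      simp at h1
    obtain ⟨i, hi⟩ := hex
    rw [← Finset.mul_prod_erase _ _ (Finset.mem_univ i)]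
    exact 𝔪.mul_mem_right _ (h𝔪 _ hi _ (y i).2)
  have h0 := hkill (hH hmem)
  rw [Submodule.mem_comap, Phi_tprod] at h0
  simp only [hgg, Finset.prod_const, Finset.card_univ, Fintype.card_fin] at h0
  exact Ideal.IsPrime.mem_of_pow_mem inferInstance _ h0

end main

/-- finite support of an internal grading of a finite module -/
theorem exists_finset_support {Γ : Type*} [DecidableEq Γ] {R : Type*} [CommRing R] {N : Type*} [AddCommGroup N]
    [Module R N] [Module.Finite R N] (G : Γ → Submodule R N)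
    (hG : DirectSum.IsInternal G) : ∃ T : Finset Γ, ∀ γ, γ ∉ T → G γ = ⊥ := by
  classical
  obtain ⟨hind, htop⟩ := (DirectSum.isInternal_submodule_iff_iSupIndep_and_iSup_eq_top _).1 hG
  have hc : IsCompactElement (⊤ : Submodule R N) :=
    (Submodule.fg_iff_compact _).1 Module.Finite.fg_top
  obtain ⟨T, hT⟩ := CompleteLattice.IsCompactElement.exists_finset_of_le_iSup _ hc G htop.ge
  refine ⟨T, fun γ hγ => ?_⟩
  have hd : Disjoint (G γ) (⨆ i ∈ T, G i) := hind.disjoint_biSup hγ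
  exact hd.eq_bot_of_le (le_top.trans hT)

section assembly

variable {Γ : Type*} [AddCommGroup Γ] [LinearOrder Γ] [IsOrderedAddMonoid Γ]
  {R : Type*} [CommRing R] {M : Type*} [AddCommGroup M] [Module R M]
  [Module.Finite R M] [Module.Projective R M]

theorem filtration_le (F₁ F₂ G₁ G₂ : Γ → Submodule R M)
    (hG₁ : DirectSum.IsInternal G₁) (hF₁ : ∀ γ, F₁ γ = ⨆ η ∈ Set.Ici γ, G₁ η)
    (hG₂ : DirectSum.IsInternal G₂) (hF₂ : ∀ γ, F₂ γ = ⨆ η ∈ Set.Ici γ, G₂ η)
    (k' : ℕ) (hH : ∀ γ, tfil F₁ (k'+1) γ = tfil F₂ (k'+1) γ) (γ : Γ) : F₁ γ ≤ F₂ γ := by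
  classical
  let _ := hG₁.chooseDecomposition
  let _ := hG₂.chooseDecomposition
  obtain ⟨T₁, hT₁⟩ := exists_finset_support G₁ hG₁
  obtain ⟨T₂, hT₂⟩ := exists_finset_support G₂ hG₂
  obtain ⟨n, fr, g, -, hginj, hfg⟩ := Module.Finite.exists_comp_eq_id_of_projective R M
  intro x hx
  rw [hF₂ γ]
  apply mem_iSup_of_pr_eq_zero G₂ T₂ hT₂
  intro η hη
  apply hginj
  rw [map_zero]
  funext j
  set ψ' : M →ₗ[R] R := LinearMap.proj j ∘ₗ g with hψ'
  show ψ' (pr G₂ η x) = 0
  by_contra hne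
  set z : R := ψ' (pr G₂ η x) with hz
  set 𝔞 : Ideal R := Submodule.annihilator (Submodule.span R {z}) with h𝔞def
  have h𝔞mem : ∀ s, s ∈ 𝔞 ↔ s * z = 0 := by
    intro s
    rw [h𝔞def, Submodule.mem_annihilator_span_singleton, smul_eq_mul]
  have h𝔞 : 𝔞 ≠ ⊤ := by
    intro h
    have : (1 : R) ∈ 𝔞 := by rw [h]; trivial
    rw [h𝔞mem, one_mul] at this
    exact hne this
  obtain ⟨𝔪, h𝔪max, h𝔞𝔪⟩ := Ideal.exists_le_maximal 𝔞 h𝔞
  have := h𝔪max.isPrime
  suffices ∃ s, s ∉ 𝔪 ∧ s * z = 0 by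
    obtain ⟨s, hs, hsz⟩ := this
    exact hs (h𝔞𝔪 ((h𝔞mem s).mpr hsz))
  set mM : Submodule R M := 𝔪 • ⊤ with hmM
  have hψmM : ∀ (ψ : M →ₗ[R] R) (y : M), y ∈ mM → ψ y ∈ 𝔪 := by
    intro ψ y hy
    refine Submodule.smul_induction_on hy ?_ ?_
    · intro r hr n _
      rw [map_smul, smul_eq_mul]
      exact 𝔪.mul_mem_right _ hr
    · intro y z hy hz
      rw [map_add]; exact 𝔪.add_mem hy hz
  have hsep : ∀ f : M, f ∉ mM → ∃ ψ₀ : M →ₗ[R] R, ψ₀ f ∉ 𝔪 := by
    intro f hf
    by_contra hno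
    push Not at hno
    apply hf
    have h1 : f = fr (g f) := (LinearMap.congr_fun hfg f).symm
    rw [h1, LinearMap.pi_apply_eq_sum_univ fr (g f)]
    apply Submodule.sum_mem
    intro i _
    exact Submodule.smul_mem_smul (hno (LinearMap.proj i ∘ₗ g)) trivial
  by_cases hM : (⊤ : Submodule R M) ≤ mM
  · obtain ⟨r, hr1, hr⟩ :=
      Submodule.exists_sub_one_mem_and_smul_eq_zero_of_fg_of_le_smul 𝔪 ⊤ Module.Finite.fg_top hM
    refine ⟨r, ?_, ?_⟩
    · intro hr𝔪
      apply h𝔪max.ne_top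
      rw [Ideal.eq_top_iff_one]
      have := 𝔪.sub_mem hr𝔪 hr1
      rwa [sub_sub_cancel] at this
    · rw [hz, ← smul_eq_mul, ← map_smul, ← map_smul, hr x trivial, map_zero, map_zero]
  · -- visible degrees
    have hvis : ∀ (G : Γ → Submodule R M) [DirectSum.Decomposition G] (T : Finset Γ),
        (∀ γ, γ ∉ T → G γ = ⊥) → ∃ η' ∈ T, ¬ G η' ≤ mM := by
      intro G _ T hT
      by_contra hno
      push Not at hno
      apply hM
      intro y _
      rw [← sum_pr_eq G T hT y]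
      exact Submodule.sum_mem _ (fun η' hη' => hno η' hη' (pr_mem G η' y))
    obtain ⟨e₁, he₁T, he₁⟩ := hvis G₁ T₁ hT₁
    obtain ⟨e₂, he₂T, he₂⟩ := hvis G₂ T₂ hT₂
    set S₁ : Finset Γ := T₁.filter (fun η' => ¬ G₁ η' ≤ mM) with hS₁
    set S₂ : Finset Γ := T₂.filter (fun η' => ¬ G₂ η' ≤ mM) with hS₂
    have hS₁ne : S₁.Nonempty := ⟨e₁, Finset.mem_filter.mpr ⟨he₁T, he₁⟩⟩
    have hS₂ne : S₂.Nonempty := ⟨e₂, Finset.mem_filter.mpr ⟨he₂T, he₂⟩⟩
    set a₁ := S₁.max' hS₁ne with ha₁def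
    set a₂ := S₂.max' hS₂ne with ha₂def
    have ha₁ : ¬ G₁ a₁ ≤ mM := (Finset.mem_filter.mp (Finset.max'_mem S₁ hS₁ne)).2
    have ha₂ : ¬ G₂ a₂ ≤ mM := (Finset.mem_filter.mp (Finset.max'_mem S₂ hS₂ne)).2
    have hG₁gt : ∀ η', a₁ < η' → G₁ η' ≤ mM := by
      intro η' hη'
      by_cases h1 : η' ∈ T₁
      · by_contra h2
        have : η' ∈ S₁ := Finset.mem_filter.mpr ⟨h1, h2⟩
        exact absurd (Finset.le_max' S₁ η' this) (not_le.mpr hη')
      · rw [hT₁ η' h1]; exact bot_le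
    have hG₂gt : ∀ η', a₂ < η' → G₂ η' ≤ mM := by
      intro η' hη'
      by_cases h1 : η' ∈ T₂
      · by_contra h2
        have : η' ∈ S₂ := Finset.mem_filter.mpr ⟨h1, h2⟩
        exact absurd (Finset.le_max' S₂ η' this) (not_le.mpr hη')
      · rw [hT₂ η' h1]; exact bot_le
    have hF₁gt : ∀ c, a₁ < c → F₁ c ≤ mM := by
      intro c hc
      rw [hF₁ c]
      apply iSup₂_le
      intro η' hη'
      exact hG₁gt η' (lt_of_lt_of_le hc hη')
    rcases le_or_gt a₂ a₁ with hle | hlt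
    · obtain ⟨f, hfG, hfm⟩ : ∃ f ∈ G₁ a₁, f ∉ mM := SetLike.not_le_iff_exists.mp ha₁
      obtain ⟨ψ₀, hψ₀⟩ := hsep f hfm
      set P : M →ₗ[R] M := ∑ η' ∈ T₂.filter (fun η' => η' ≤ a₁), pr G₂ η' with hP
      set ψ : M →ₗ[R] R := ψ₀ ∘ₗ P with hψ
      have hψkill : ∀ c, a₁ < c → ∀ y ∈ F₂ c, ψ y = 0 := by
        intro c hc y hy
        have hPy : P y = 0 := by
          rw [hP, LinearMap.sum_apply]
          apply Finset.sum_eq_zero
          intro η' hη'
          have hle' : η' ≤ a₁ := (Finset.mem_filter.mp hη').2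
          apply pr_eq_zero_of_mem_iSup G₂ (lt_of_le_of_lt hle' hc)
          rw [← hF₂]; exact hy
        rw [hψ, LinearMap.comp_apply, hPy, map_zero]
      have hψf : ψ f ∉ 𝔪 := by
        have h1 : f = P f + ∑ η' ∈ T₂.filter (fun η' => ¬ η' ≤ a₁), pr G₂ η' f := by
          rw [hP, LinearMap.sum_apply, Finset.sum_filter_add_sum_filter_not, sum_pr_eq G₂ T₂ hT₂]
        have h2 : ψ₀ (∑ η' ∈ T₂.filter (fun η' => ¬ η' ≤ a₁), pr G₂ η' f) ∈ 𝔪 := by
          rw [map_sum]
          apply Ideal.sum_mem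
          intro η' hη'
          apply hψmM
          have hgt : a₁ < η' := not_le.mp (Finset.mem_filter.mp hη').2
          exact hG₂gt η' (lt_of_le_of_lt hle hgt) (pr_mem G₂ η' f)
        intro hmem
        apply hψ₀
        rw [h1, map_add]
        exact 𝔪.add_mem hmem h2
      have hfF : f ∈ F₁ a₁ := by
        rw [hF₁]
        exact Submodule.mem_iSup_of_mem a₁ (Submodule.mem_iSup_of_mem (le_refl a₁) hfG)
      have hmain := main_case F₁ F₂ G₂ hF₂ k' hη hx hfF ψ ψ' hψkill (hH _).le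
      refine ⟨ψ f ^ k', ?_, by rw [mul_comm]; exact hmain⟩
      intro hpow
      exact hψf (Ideal.IsPrime.mem_of_pow_mem inferInstance _ hpow)
    · exfalso
      obtain ⟨g', hgG, hgm⟩ : ∃ g' ∈ G₂ a₂, g' ∉ mM := SetLike.not_le_iff_exists.mp ha₂
      obtain ⟨ψ₀, hψ₀⟩ := hsep g' hgm
      apply hψ₀
      have hgF : g' ∈ F₂ a₂ := by
        rw [hF₂]
        exact Submodule.mem_iSup_of_mem a₂ (Submodule.mem_iSup_of_mem (le_refl a₂) hgG)
      apply top_degree_lemma F₁ F₂ k' hgF ψ₀ 𝔪 ?_ (hH _).ge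
      intro c hc y hy
      exact hψmM ψ₀ y (hF₁gt c (lt_of_lt_of_le hlt hc) hy)

end assembly

end Groth.Agent.Lib.SplitFiltTensor
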