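import Groth.Agent.S13697
import Groth.Agent.Lib.KerBC23
import Groth.Agent.Lib.KerBCFin23
import Groth.Agent.Lib.PolLawExt23
import Mathlib.RingTheory.TensorProduct.Pi
import Mathlib.RingTheory.Norm.Basic
import Mathlib.LinearAlgebra.TensorProduct.Vanishing
import Mathlib.RingTheory.Flat.Basic

/-!
# Multiplicative laws on split algebras (helper75)

Pure `Pi`-algebra lemmas, the norm of an algebra isomorphic to `ι → R`, and the analysis of a
multiplicative polynomial law `B → A` of degree `d` after a base change `A → L` splitting `B`.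
-/

set_option autoImplicit false
set_option linter.unusedSectionVars false
set_option linter.style.longLine false
universe u
open scoped TensorProduct
open Polynomial

namespace Groth.Agent.Lib.SplitLaw75

section Pi
variable {R : Type*} [CommRing R] {ι : Type*} [Fintype ι] [DecidableEq ι]

theorem update_mul_update (i : ι) (a b : R) :
    Function.update (1 : ι → R) i a * Function.update (1 : ι → R) i b =
      Function.update (1 : ι → R) i (a * b) := by
  funext j
  by_cases h : j = i
  · subst h; simp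
  · simp [Function.update_of_ne h]

theorem update_one (i : ι) : Function.update (1 : ι → R) i 1 = 1 := by
  funext j
  by_cases h : j = i
  · subst h; simp
  · simp [Function.update_of_ne h]

theorem prod_update (v : ι → R) : ∏ i, Function.update (1 : ι → R) i (v i) = v := by
  funext j
  rw [Finset.prod_apply, Finset.prod_eq_single j]
  · simp
  · intro i _ hij
    rw [Function.update_of_ne (Ne.symm hij)]; rfl
  · intro h; exact absurd (Finset.mem_univ j) h

theorem norm_of_algEquiv {T : Type*} [CommRing T] [Algebra R T] (ρ : T ≃ₐ[R] (ι → R)) (x : T) :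
    Algebra.norm R x = ∏ i, ρ x i := by
  let b : Module.Basis ι R T := (Pi.basisFun R ι).map ρ.symm.toLinearEquiv
  have hb : ∀ j, b j = ρ.symm (Pi.single j 1) := by
    intro j
    simp [b]
  have hrepr : ∀ (y : T) (i : ι), b.repr y i = ρ y i := by
    intro y i
    simp [b]
  rw [Algebra.norm_eq_matrix_det b]
  have : Algebra.leftMulMatrix b x = Matrix.diagonal (fun i => ρ x i) := by
    ext i j
    rw [Algebra.leftMulMatrix_eq_repr_mul, hrepr, map_mul, hb, AlgEquiv.apply_symm_apply,
      Matrix.diagonal_apply, Pi.mul_apply]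
    by_cases h : i = j
    · subst h; simp
    · rw [if_neg h, Pi.single_eq_of_ne h, mul_zero]
  rw [this, Matrix.det_diagonal]

end Pi

section Rho
variable {A : Type u} [CommRing A] {B : Type u} [CommRing B] [Algebra A B]
  {L : Type u} [CommRing L] [Algebra A L] {d : ℕ} (e : L ⊗[A] B ≃ₐ[L] (Fin d → L))

open Groth.Agent.Lib.KerBC23

theorem exists_rho {R : Type u} [CommRing R] [Algebra A R] (φ : L →ₐ[A] R) :
    ∃ ρ : R ⊗[A] B ≃ₐ[R] (Fin d → R), ∀ y : L ⊗[A] B, ρ (bc φ y) = fun j => φ (e y j) := by
  letI : Algebra L R := φ.toRingHom.toAlgebra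
  haveI : IsScalarTower A L R := IsScalarTower.of_algebraMap_eq (fun a => (φ.commutes a).symm)
  let ρ : R ⊗[A] B ≃ₐ[R] (Fin d → R) :=
    ((Algebra.TensorProduct.cancelBaseChange A L R R B).symm.trans
      (Algebra.TensorProduct.congr AlgEquiv.refl e)).trans
      (Algebra.TensorProduct.piScalarRight L R R (Fin d))
  refine ⟨ρ, ?_⟩
  intro y
  induction y using TensorProduct.induction_on with
  | zero => simp; rfl
  | add y z hy hz =>
    rw [map_add, map_add, hy, hz]
    funext j
    simp
  | tmul l b =>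
    rw [bc_tmul]
    funext j
    have h1 : ρ (φ l ⊗ₜ[A] b) j = (e ((1 : L) ⊗ₜ[A] b) j) • φ l := by
      simp [ρ]
    rw [h1]
    have h2 : (l ⊗ₜ[A] b : L ⊗[A] B) = l • ((1 : L) ⊗ₜ[A] b) := by
      rw [TensorProduct.smul_tmul', smul_eq_mul, mul_one]
    rw [h2, map_smul, Pi.smul_apply, smul_eq_mul, map_mul, mul_comm]
    rfl

/-- The splitting `R ⊗ B ≃ (Fin d → R)` induced by `e` along `φ : L → R`. -/
noncomputable def rho {R : Type u} [CommRing R] [Algebra A R] (φ : L →ₐ[A] R) :
    R ⊗[A] B ≃ₐ[R] (Fin d → R) := Classical.choose (exists_rho e φ)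

theorem rho_bc {R : Type u} [CommRing R] [Algebra A R] (φ : L →ₐ[A] R) (y : L ⊗[A] B) :
    rho e φ (bc φ y) = fun j => φ (e y j) := Classical.choose_spec (exists_rho e φ) y

theorem rho_rTensor {R R' : Type u} [CommRing R] [Algebra A R] [CommRing R'] [Algebra A R']
    (φ : L →ₐ[A] R) (ψ : R →ₐ[A] R') (x : R ⊗[A] B) :
    rho e (ψ.comp φ) (ψ.toLinearMap.rTensor B x) = fun j => ψ (rho e φ x j) := by
  induction x using TensorProduct.induction_on with
  | zero => simp; rfl
  | add y z hy hz =>
    rw [map_add, map_add, hy, hz]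
    funext j
    simp
  | tmul r b =>
    have h1 : (r ⊗ₜ[A] b : R ⊗[A] B) = r • bc φ ((1 : L) ⊗ₜ[A] b) := by
      rw [bc_tmul, map_one, TensorProduct.smul_tmul', smul_eq_mul, mul_one]
    have h2 : ψ.toLinearMap.rTensor B (r ⊗ₜ[A] b) = ψ r • bc (ψ.comp φ) ((1 : L) ⊗ₜ[A] b) := by
      rw [bc_tmul, map_one, TensorProduct.smul_tmul', smul_eq_mul, mul_one]
      rfl
    rw [h2, h1, map_smul, map_smul, rho_bc, rho_bc]
    funext j
    simp

theorem rho_symm_comp {R R' : Type u} [CommRing R] [Algebra A R] [CommRing R'] [Algebra A R']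
    (φ : L →ₐ[A] R) (ψ : R →ₐ[A] R') (v : Fin d → R) :
    (rho e (ψ.comp φ)).symm (fun j => ψ (v j)) = ψ.toLinearMap.rTensor B ((rho e φ).symm v) := by
  apply (rho e (ψ.comp φ)).injective
  rw [AlgEquiv.apply_symm_apply, rho_rTensor, AlgEquiv.apply_symm_apply]

end Rho

section Val
variable {A : Type u} [CommRing A] {B : Type u} [CommRing B] [Algebra A B] {d : ℕ}

/-- The value of a multiplicative law `B → A` on `R ⊗ B`, as an element of `R`. -/
noncomputable def val (F : PolLaw.MulLaw A B A d) (R : Type u) [CommRing R] [Algebra A R] :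
    R ⊗[A] B →* R where
  toFun x := Algebra.TensorProduct.rid A R R (F.law.toFun' R x)
  map_one' := by rw [(F.mult R).1, map_one]
  map_mul' x y := by rw [(F.mult R).2, map_mul]

theorem val_apply (F : PolLaw.MulLaw A B A d) (R : Type u) [CommRing R] [Algebra A R]
    (x : R ⊗[A] B) : val F R x = TensorProduct.rid A R (F.law.toFun' R x) := rfl

theorem val_smul (F : PolLaw.MulLaw A B A d) (R : Type u) [CommRing R] [Algebra A R]
    (c : R) (x : R ⊗[A] B) : val F R (c • x) = c ^ d * val F R x := by
  change Algebra.TensorProduct.rid A R R (F.law.toFun' R (c • x)) = _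
  rw [F.homog R c x, map_smul, smul_eq_mul]
  rfl

theorem val_rTensor (F : PolLaw.MulLaw A B A d) {R R' : Type u} [CommRing R] [Algebra A R]
    [CommRing R'] [Algebra A R'] (ψ : R →ₐ[A] R') (x : R ⊗[A] B) :
    val F R' (ψ.toLinearMap.rTensor B x) = ψ (val F R x) := by
  rw [val_apply, val_apply, ← F.law.isCompat_apply', Groth.Agent.Lib.KerBCFin23.rid_rTensor]

theorem toFun'_eq (F : PolLaw.MulLaw A B A d) (R : Type u) [CommRing R] [Algebra A R]
    (x : R ⊗[A] B) : F.law.toFun' R x = val F R x ⊗ₜ[A] (1 : A) := by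
  rw [val_apply]
  generalize F.law.toFun' R x = y
  apply (TensorProduct.rid A R).injective
  rw [TensorProduct.rid_tmul, one_smul]

end Val

section Poly

theorem mult_poly_coeff {L : Type*} [CommRing L] (P : L[X])
    (h : ∀ a b : L[X][X], P.eval₂ (C.comp C : L →+* L[X][X]) (a * b) =
      P.eval₂ (C.comp C) a * P.eval₂ (C.comp C) b) (k l : ℕ) :
    P.coeff k * P.coeff l = if k = l then P.coeff l else 0 := by
  have h1 := h (C X) X
  have e1 : P.eval₂ (C.comp C : L →+* L[X][X]) X = P.map C := rfl
  have e2 : P.eval₂ (C.comp C : L →+* L[X][X]) (C X) = C P := by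
    rw [← Polynomial.hom_eval₂, eval₂_C_X]
  have e3 : (P.eval₂ (C.comp C : L →+* L[X][X]) (C X * X)).coeff l = C (P.coeff l) * X ^ l := by
    rw [eval₂_eq_sum_range, finsetSum_coeff]
    have : ∀ n ∈ Finset.range (P.natDegree + 1),
        (((C.comp C : L →+* L[X][X]) (P.coeff n)) * (C X * X) ^ n).coeff l =
          if n = l then C (P.coeff l) * X ^ l else 0 := by
      intro n _
      rw [mul_pow, ← mul_assoc, RingHom.comp_apply, ← C_pow, ← C_mul, coeff_C_mul_X_pow]
      by_cases hn : n = l
      · subst hn; simp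
      · rw [if_neg (Ne.symm hn), if_neg hn]
    rw [Finset.sum_congr rfl this, Finset.sum_ite_eq']
    split_ifs with hl
    · rfl
    · rw [Finset.mem_range, not_lt] at hl
      have : P.coeff l = 0 := coeff_eq_zero_of_natDegree_lt (by omega)
      rw [this, C_0, zero_mul]
  have h2 : (P.eval₂ (C.comp C : L →+* L[X][X]) (C X * X)).coeff l =
      (P.eval₂ (C.comp C) (C X) * P.eval₂ (C.comp C) X).coeff l := by rw [h1]
  rw [e3, e1, e2, coeff_C_mul, coeff_map] at h2
  have h3 : (C (P.coeff l) * X ^ l : L[X]).coeff k = (P * C (P.coeff l)).coeff k := by rw [h2]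
  rw [coeff_C_mul, coeff_X_pow, coeff_mul_C] at h3
  rw [← h3]
  split_ifs <;> simp

/-- Shifting the argument by a multiple of the idempotent `P(0)` does not change the value of a
multiplicative polynomial. -/
theorem eval₂_add_mul_coeff_zero {L R : Type*} [CommRing L] [CommRing R] (φ : L →+* R) (P : L[X])
    (hmul : ∀ a b : R, P.eval₂ φ (a * b) = P.eval₂ φ a * P.eval₂ φ b) (y w : R) :
    P.eval₂ φ (y + w * φ (P.coeff 0)) = P.eval₂ φ y := by
  set π := φ (P.coeff 0) with hπ
  have h0 : P.eval₂ φ 0 = π := by rw [eval₂_at_zero]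
  have hk : ∀ a : R, P.eval₂ φ a * π = π := by
    intro a
    rw [← h0, ← hmul, mul_zero]
  have hππ : π * π = π := by
    have := hk 0
    rwa [h0] at this
  obtain ⟨c, hc⟩ : (y + w * π) - y ∣ (P.map φ).eval (y + w * π) - (P.map φ).eval y :=
    sub_dvd_eval_sub _ _ _
  rw [eval_map, eval_map, add_sub_cancel_left] at hc
  have e1 : P.eval₂ φ (y + w * π) = P.eval₂ φ (y + w * π) * (1 - π) + π := by
    rw [mul_sub, mul_one, hk]; ring
  have e2 : P.eval₂ φ y = P.eval₂ φ y * (1 - π) + π := by
    rw [mul_sub, mul_one, hk]; ring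
  have e3 : (P.eval₂ φ (y + w * π) - P.eval₂ φ y) * (1 - π) = 0 := by
    rw [hc]
    calc w * π * c * (1 - π) = w * c * (π - π * π) := by ring
      _ = 0 := by rw [hππ, sub_self, mul_zero]
  rw [e1, e2]
  have : P.eval₂ φ (y + w * π) * (1 - π) = P.eval₂ φ y * (1 - π) := by
    rw [← sub_eq_zero, ← sub_mul]; exact e3
  rw [this]

end Poly

section Main
variable {A : Type u} [CommRing A] {B : Type u} [CommRing B] [Algebra A B]
  {L : Type u} [CommRing L] [Algebra A L] {d : ℕ} (e : L ⊗[A] B ≃ₐ[L] (Fin d → L))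
  (F : PolLaw.MulLaw A B A d)

open Groth.Agent.Lib.KerBC23

/-- The law `F` in split coordinates. -/
noncomputable def G {R : Type u} [CommRing R] [Algebra A R] (φ : L →ₐ[A] R) : (Fin d → R) →* R where
  toFun v := val F R ((rho e φ).symm v)
  map_one' := by rw [map_one, map_one]
  map_mul' v w := by rw [map_mul, map_mul]

theorem G_apply {R : Type u} [CommRing R] [Algebra A R] (φ : L →ₐ[A] R) (v : Fin d → R) :
    G e F φ v = val F R ((rho e φ).symm v) := rfl

theorem val_eq_G {R : Type u} [CommRing R] [Algebra A R] (φ : L →ₐ[A] R) (x : R ⊗[A] B) :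
    val F R x = G e F φ (rho e φ x) := by
  rw [G_apply, AlgEquiv.symm_apply_apply]

theorem G_smul {R : Type u} [CommRing R] [Algebra A R] (φ : L →ₐ[A] R) (c : R) (v : Fin d → R) :
    G e F φ (c • v) = c ^ d * G e F φ v := by
  rw [G_apply, map_smul, val_smul, G_apply]

theorem G_comp {R R' : Type u} [CommRing R] [Algebra A R] [CommRing R'] [Algebra A R']
    (φ : L →ₐ[A] R) (ψ : R →ₐ[A] R') (v : Fin d → R) :
    G e F (ψ.comp φ) (fun j => ψ (v j)) = ψ (G e F φ v) := by
  rw [G_apply, rho_symm_comp, val_rTensor, G_apply]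

/-- The one-variable polynomials describing `F` on the `i`-th factor. -/
noncomputable def P (i : Fin d) : L[X] :=
  G e F (Polynomial.CAlgHom : L →ₐ[A] L[X]) (Function.update 1 i X)

theorem G_update {R : Type u} [CommRing R] [Algebra A R] (φ : L →ₐ[A] R) (i : Fin d) (a : R) :
    G e F φ (Function.update 1 i a) = (P e F i).eval₂ (φ : L →+* R) a := by
  let ψ : L[X] →ₐ[A] R := Polynomial.aevalTower φ a
  have h1 : ψ.comp (Polynomial.CAlgHom : L →ₐ[A] L[X]) = φ := by
    ext l
    simp [ψ]
  have h2 : (fun j => ψ (Function.update (1 : Fin d → L[X]) i X j)) =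
      Function.update (1 : Fin d → R) i a := by
    funext j
    by_cases h : j = i
    · subst h; simp [ψ]
    · simp [Function.update_of_ne h, ψ]
  have := G_comp e F (Polynomial.CAlgHom : L →ₐ[A] L[X]) ψ (Function.update (1 : Fin d → L[X]) i X)
  rw [h1, h2] at this
  rw [this]
  rfl

theorem G_eq_prod {R : Type u} [CommRing R] [Algebra A R] (φ : L →ₐ[A] R) (v : Fin d → R) :
    G e F φ v = ∏ i, (P e F i).eval₂ (φ : L →+* R) (v i) := by
  conv_lhs => rw [← prod_update v]
  rw [map_prod]
  exact Finset.prod_congr rfl (fun i _ => G_update e F φ i (v i))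

theorem P_mul {R : Type u} [CommRing R] [Algebra A R] (φ : L →ₐ[A] R) (i : Fin d) (a b : R) :
    (P e F i).eval₂ (φ : L →+* R) (a * b) =
      (P e F i).eval₂ (φ : L →+* R) a * (P e F i).eval₂ (φ : L →+* R) b := by
  rw [← G_update, ← G_update, ← G_update, ← map_mul, update_mul_update]

theorem P_one {R : Type u} [CommRing R] [Algebra A R] (φ : L →ₐ[A] R) (i : Fin d) :
    (P e F i).eval₂ (φ : L →+* R) 1 = 1 := by
  rw [← G_update, update_one, map_one]

theorem P_coeff_mul (i : Fin d) (k l : ℕ) :
    (P e F i).coeff k * (P e F i).coeff l = if k = l then (P e F i).coeff l else 0 := by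
  apply mult_poly_coeff
  intro a b
  exact P_mul e F ((Polynomial.CAlgHom : L[X] →ₐ[A] L[X][X]).comp
    (Polynomial.CAlgHom : L →ₐ[A] L[X])) i a b

theorem prod_P : ∏ i, P e F i = X ^ d := by
  have h1 := G_eq_prod e F (Polynomial.CAlgHom : L →ₐ[A] L[X]) (fun _ => X)
  have h2 : (fun _ => X : Fin d → L[X]) = (X : L[X]) • (1 : Fin d → L[X]) := by
    funext j; simp
  rw [h2, G_smul, map_one, mul_one] at h1
  rw [h1]
  apply Finset.prod_congr rfl
  intro i _
  exact (eval₂_C_X).symm

theorem mem_kerBC (i : Fin d) :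
    e.symm (Pi.single i ((P e F i).coeff 0)) ∈ PolLaw.kerBC F.law L := by
  rw [mem_kerBC_iff]
  intro R _ _ φ x w
  rw [toFun'_eq, toFun'_eq]
  congr 1
  rw [val_eq_G e F φ, val_eq_G e F φ, map_add, map_mul, rho_bc, AlgEquiv.apply_symm_apply,
    G_eq_prod, G_eq_prod]
  apply Finset.prod_congr rfl
  intro j _
  by_cases h : j = i
  · subst h
    simp only [Pi.add_apply, Pi.mul_apply, Pi.single_eq_same]
    exact eval₂_add_mul_coeff_zero (φ : L →+* R) (P e F j) (P_mul e F φ j) _ _
  · simp [Pi.single_eq_of_ne h]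

theorem coeff_zero_eq_zero (hker : PolLaw.ker F.law ≤ nilradical B) (i : Fin d) :
    (P e F i).coeff 0 = 0 := by
  set p0 := (P e F i).coeff 0 with hp0
  set z := e.symm (Pi.single i p0) with hz0
  have hz : z ∈ PolLaw.kerBC F.law L := mem_kerBC e F i
  have hrad := Groth.Agent.S13697.main F L
  have hz' : z ∈ ((PolLaw.ker F.law).map
      (Algebra.TensorProduct.includeRight : B →ₐ[A] L ⊗[A] B)).radical := by
    rw [← hrad]; exact Ideal.le_radical hz
  have hle : (PolLaw.ker F.law).map (Algebra.TensorProduct.includeRight : B →ₐ[A] L ⊗[A] B) ≤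
      nilradical (L ⊗[A] B) := by
    rw [Ideal.map_le_iff_le_comap]
    intro b hb
    rw [Ideal.mem_comap, mem_nilradical]
    exact (mem_nilradical.1 (hker hb)).map _
  obtain ⟨n, hn⟩ := hz'
  obtain ⟨m, hm⟩ := (mem_nilradical.1 (hle hn))
  have hpp : p0 * p0 = p0 := by
    have := P_coeff_mul e F i 0 0
    rwa [if_pos rfl] at this
  have hidem : IsIdempotentElem z := by
    change z * z = z
    apply e.injective
    rw [map_mul, hz0, AlgEquiv.apply_symm_apply]
    funext j
    by_cases h : j = i
    · subst h; simp [hpp]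
    · simp [Pi.single_eq_of_ne h]
  have hz00 : z = 0 := by
    rw [← hidem.pow_succ_eq (n * m), pow_succ, pow_mul, hm, zero_mul]
  have : Pi.single i p0 = (0 : Fin d → L) := by
    have := congrArg e hz00
    rwa [hz0, AlgEquiv.apply_symm_apply, map_zero] at this
  have := congrFun this i
  simpa using this

theorem P_eq_X (hker : PolLaw.ker F.law ≤ nilradical B) (i : Fin d) : P e F i = X := by
  have hdiv : ∀ j, P e F j = X * (P e F j).divX := by
    intro j
    have := Polynomial.divX_mul_X_add (P e F j)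
    rw [coeff_zero_eq_zero e F hker j, C_0, add_zero] at this
    rw [mul_comm]; exact this.symm
  have hprod : ∏ j, (P e F j).divX = 1 := by
    have h1 := prod_P e F
    rw [Finset.prod_congr rfl (fun j _ => hdiv j), Finset.prod_mul_distrib, Finset.prod_const,
      Finset.card_univ, Fintype.card_fin] at h1
    ext n
    have h2 : (X ^ d * ∏ j, (P e F j).divX).coeff (n + d) = (X ^ d : L[X]).coeff (n + d) := by
      rw [h1]
    rw [coeff_X_pow_mul, coeff_X_pow] at h2
    rw [h2, coeff_one]
    by_cases hn : n = 0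
    · subst hn; simp
    · rw [if_neg (by omega), if_neg hn]
  have hunit : IsUnit (P e F i).divX :=
    isUnit_of_dvd_one (by rw [← hprod]; exact Finset.dvd_prod_of_mem _ (Finset.mem_univ i))
  have hnil := (Polynomial.coeff_isUnit_isNilpotent_of_isUnit hunit).2
  have hc : ∀ k, 2 ≤ k → (P e F i).coeff k = 0 := by
    intro k hk
    obtain ⟨k', rfl⟩ : ∃ k', k = k' + 1 + 1 := ⟨k - 2, by omega⟩
    have h1 : IsNilpotent ((P e F i).divX.coeff (k' + 1)) := hnil (k' + 1) (by omega)
    rw [Polynomial.coeff_divX] at h1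
    obtain ⟨m, hm⟩ := h1
    have hid : IsIdempotentElem ((P e F i).coeff (k' + 1 + 1)) := by
      have := P_coeff_mul e F i (k' + 1 + 1) (k' + 1 + 1)
      rwa [if_pos rfl] at this
    cases m with
    | zero =>
      rw [pow_zero] at hm
      rw [← mul_one ((P e F i).coeff (k' + 1 + 1)), hm, mul_zero]
    | succ m => rw [hid.pow_succ_eq] at hm; exact hm
  have hP : P e F i = C ((P e F i).coeff 1) * X := by
    ext n
    rw [coeff_C_mul, coeff_X]
    rcases n with _ | _ | n
    · simp [coeff_zero_eq_zero e F hker i]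
    · simp
    · rw [hc (n + 2) (by omega)]; simp
  have h1 := P_one e F (AlgHom.id A L) i
  rw [hP] at h1
  simp at h1
  rw [hP, h1, C_1, one_mul]

/-- **Main computation**: in split coordinates, `F` is the product of the coordinates. -/
theorem val_eq_prod (hker : PolLaw.ker F.law ≤ nilradical B) {R : Type u} [CommRing R]
    [Algebra A R] (φ : L →ₐ[A] R) (x : R ⊗[A] B) : val F R x = ∏ j, rho e φ x j := by
  rw [val_eq_G e F φ, G_eq_prod]
  apply Finset.prod_congr rfl
  intro j _
  rw [P_eq_X e F hker j, eval₂_X]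

end Main

section Descent

/-- An element of a module vanishing after tensoring with a flat algebra having a prime over each
prime of the base is zero. -/
theorem eq_zero_of_forall_prime {A : Type u} [CommRing A] {M : Type u} [AddCommGroup M]
    [Module A M] (m : M)
    (h : ∀ (p : Ideal A), p.IsPrime → ∃ (L : Type u) (_ : CommRing L) (_ : Algebra A L),
      Module.Flat A L ∧ (∃ pL : Ideal L, pL.IsPrime ∧ pL.comap (algebraMap A L) = p) ∧
        (1 : L) ⊗ₜ[A] m = 0) : m = 0 := by
  by_contra hm
  let I : Ideal A := LinearMap.ker (LinearMap.toSpanSingleton A M m)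
  have hI : I ≠ ⊤ := by
    intro h1
    apply hm
    have : (1 : A) ∈ I := by rw [h1]; trivial
    simpa [I] using this
  obtain ⟨p, hp, hIp⟩ := Ideal.exists_le_maximal I hI
  obtain ⟨L, _, _, hflat, ⟨pL, hpL, hcomap⟩, hzero⟩ := h p hp.isPrime
  have hzero' : ∑ _i : Fin 1, m ⊗ₜ[A] (1 : L) = 0 := by
    have := congrArg (TensorProduct.comm A L M) hzero
    simpa using this
  have hinj : Function.Injective (LinearMap.rTensor L
      (Submodule.span A (Set.range (fun _ : Fin 1 => m))).subtype) :=
    Module.Flat.rTensor_preserves_injective_linearMap _ (Submodule.injective_subtype _)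
  obtain ⟨k, a, y, h1, h2⟩ :=
    TensorProduct.vanishesTrivially_of_sum_tmul_eq_zero_of_rTensor_injective A
      (m := fun _ : Fin 1 => m) (n := fun _ : Fin 1 => (1 : L)) hinj hzero'
  have h1' : (1 : L) = ∑ j, a 0 j • y j := h1 0
  have hmem : ∀ j, a 0 j ∈ p := by
    intro j
    apply hIp
    have := h2 j
    simpa [I] using this
  apply hpL.ne_top
  rw [Ideal.eq_top_iff_one, h1']
  apply Ideal.sum_mem
  intro j _
  rw [Algebra.smul_def]
  apply Ideal.mul_mem_right
  have := hmem j
  rw [← hcomap] at this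
  exact this

end Descent

end Groth.Agent.Lib.SplitLaw75
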