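import Mathlib.CategoryTheory.Abelian.Injective.Resolution
import Mathlib.Algebra.Homology.HomologicalComplexBiprod
import Mathlib.Algebra.Homology.QuasiIso
import Mathlib.CategoryTheory.Preadditive.Biproducts

/-!
# Injective resolutions lying degreewise-split over a given one (helper65)

For `α : G ⟶ F` and an injective resolution `I` of `F`, we construct an injective resolution `J` of `G`
with a chain map `β : J ⟶ I` over `α` which is degreewise a split epimorphism (projection of a
biproduct decomposition). Construction: `J = K ⊞ E` where `K` is any injective resolution of `G` and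
`E` is the contractible complex `E^p = I^p ⊞ I^{p-1}` with differential `(b, a) ↦ (0, b)`, mapping to
`I` by `(b, a) ↦ b + d a`.
-/

set_option autoImplicit false
universe v u
open CategoryTheory CategoryTheory.Limits ZeroObject

namespace Groth.Agent.Lib.SplitRes65

variable {C : Type u} [Category.{v} C] [Abelian C]

section Disc

variable (I : CochainComplex C ℕ)

/-- the term of `I` in degree `p - 1` (zero for `p = 0`) -/
noncomputable def prevX : ℕ → C
  | 0 => 0
  | (q + 1) => I.X q

/-- the map `I^{p-1} ⟶ I^p` -/
noncomputable def prevToX : ∀ p : ℕ, prevX I p ⟶ I.X p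
  | 0 => 0
  | (q + 1) => I.d q (q + 1)

/-- identification -/
noncomputable def toPrevSucc (p : ℕ) : I.X p ⟶ prevX I (p + 1) := 𝟙 (I.X p)

/-- identification -/
noncomputable def fromPrevSucc (p : ℕ) : prevX I (p + 1) ⟶ I.X p := 𝟙 (I.X p)

@[reassoc (attr := simp)]
lemma toPrevSucc_fromPrevSucc (p : ℕ) : toPrevSucc I p ≫ fromPrevSucc I p = 𝟙 _ :=
  Category.id_comp _

@[reassoc (attr := simp)]
lemma fromPrevSucc_toPrevSucc (p : ℕ) : fromPrevSucc I p ≫ toPrevSucc I p = 𝟙 _ :=
  Category.id_comp _

lemma toPrevSucc_prevToX (p : ℕ) : toPrevSucc I p ≫ prevToX I (p + 1) = I.d p (p + 1) :=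
  Category.id_comp _

lemma prevToX_d (p : ℕ) : prevToX I p ≫ I.d p (p + 1) = 0 := by
  cases p with
  | zero => exact zero_comp
  | succ q => exact I.d_comp_d _ _ _

/-- terms of the disc complex -/
noncomputable abbrev discX (p : ℕ) : C := I.X p ⊞ prevX I p

/-- differential of the disc complex -/
noncomputable def discD (p : ℕ) : discX I p ⟶ discX I (p + 1) :=
  biprod.fst ≫ toPrevSucc I p ≫ biprod.inr

lemma discD_comp (p : ℕ) : discD I p ≫ discD I (p + 1) = 0 := by
  simp [discD]

/-- the disc complex `E^p = I^p ⊞ I^{p-1}` -/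
noncomputable def disc : CochainComplex C ℕ :=
  CochainComplex.of (discX I) (discD I) (discD_comp I)

lemma disc_d (p : ℕ) : (disc I).d p (p + 1) = discD I p :=
  CochainComplex.of_d _ _ _

/-- components of the map `E ⟶ I`, `(b, a) ↦ b + d a` -/
noncomputable def discπf (p : ℕ) : discX I p ⟶ I.X p := biprod.desc (𝟙 (I.X p)) (prevToX I p)

lemma discπf_comm (p : ℕ) : discπf I p ≫ I.d p (p + 1) = discD I p ≫ discπf I (p + 1) := by
  apply biprod.hom_ext'
  · simp [discπf, discD, toPrevSucc_prevToX]
  · simp [discπf, discD, prevToX_d]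

/-- the map `E ⟶ I`, `(b, a) ↦ b + d a` -/
noncomputable def discπ : disc I ⟶ I where
  f p := discπf I p
  comm' i j hij := by
    obtain rfl : i + 1 = j := hij
    rw [disc_d]
    exact discπf_comm I i

/-- the section of `discπ` in each degree -/
noncomputable def discσ (p : ℕ) : I.X p ⟶ (disc I).X p := (biprod.inl : I.X p ⟶ discX I p)

lemma inl_discπf (p : ℕ) : (biprod.inl : I.X p ⟶ discX I p) ≫ discπf I p = 𝟙 _ := by
  simp [discπf]

@[reassoc (attr := simp)]
lemma discσ_π (p : ℕ) : discσ I p ≫ (discπ I).f p = 𝟙 _ :=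
  inl_discπf I p

/-- the contracting homotopy components -/
noncomputable def discH (p : ℕ) : discX I (p + 1) ⟶ discX I p :=
  biprod.snd ≫ fromPrevSucc I p ≫ biprod.inl

lemma discH_zero : 𝟙 (discX I 0) = discD I 0 ≫ discH I 0 := by
  apply biprod.hom_ext
  · simp [discD, discH]
  · exact (isZero_zero C).eq_of_tgt _ _

lemma discH_succ (p : ℕ) :
    𝟙 (discX I (p + 1)) = discD I (p + 1) ≫ discH I (p + 1) + discH I p ≫ discD I p := by
  apply biprod.hom_ext
  · simp [discD, discH]
  · simp [discD, discH]

/-- `E` is contractible -/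
noncomputable def discHomotopy : Homotopy (𝟙 (disc I)) 0 where
  hom i j := if h : j + 1 = i then eqToHom (congrArg (disc I).X h.symm) ≫
      (show (disc I).X (j + 1) ⟶ (disc I).X j from discH I j) else 0
  zero i j hij := by
    rw [dif_neg]
    exact hij
  comm i := by
    cases i with
    | zero =>
      rw [HomologicalComplex.zero_f, add_zero, Homotopy.prevD_zero_cochainComplex, add_zero,
        dNext_eq _ (show (ComplexShape.up ℕ).Rel 0 1 from rfl)]
      simp only [HomologicalComplex.id_f]
      rw [dif_pos trivial, disc_d]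
      simp only [eqToHom_refl, Category.id_comp]
      exact discH_zero I
    | succ p =>
      rw [HomologicalComplex.zero_f, add_zero,
        dNext_eq _ (show (ComplexShape.up ℕ).Rel (p + 1) (p + 2) from rfl),
        prevD_eq _ (show (ComplexShape.up ℕ).Rel p (p + 1) from rfl)]
      simp only [HomologicalComplex.id_f]
      rw [dif_pos trivial, dif_pos trivial, disc_d, disc_d]
      simp only [eqToHom_refl, Category.id_comp]
      exact discH_succ I p

end Disc


section Main

variable {G F : C} (α : G ⟶ F) (I : InjectiveResolution F) (K : InjectiveResolution G)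

instance injective_prevX (J : CochainComplex C ℕ) [∀ n, Injective (J.X n)] (p : ℕ) :
    Injective (prevX J p) := by
  cases p with
  | zero => exact (inferInstance : Injective (0 : C))
  | succ q => exact (inferInstance : Injective (J.X q))

instance injective_disc_X (J : CochainComplex C ℕ) [∀ n, Injective (J.X n)] (p : ℕ) :
    Injective ((disc J).X p) :=
  (inferInstance : Injective (J.X p ⊞ prevX J p))

/-- the complex `J = K ⊞ E` -/
noncomputable abbrev cx : CochainComplex C ℕ := K.cocomplex ⊞ disc I.cocomplex

instance injective_cx_X (n : ℕ) : Injective ((cx I K).X n) :=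
  Injective.of_iso (HomologicalComplex.biprodXIso K.cocomplex (disc I.cocomplex) n).symm inferInstance

/-- `K ⟶ K ⊞ E` is a homotopy equivalence -/
noncomputable def inlHomotopyEquiv : HomotopyEquiv K.cocomplex (cx I K) where
  hom := biprod.inl
  inv := biprod.fst
  homotopyHomInvId := Homotopy.ofEq (by simp)
  homotopyInvHomId :=
    (Homotopy.ofEq (by simp)).trans
      (((Homotopy.refl (biprod.fst ≫ biprod.inl)).add
        (((discHomotopy I.cocomplex).compLeft
          (biprod.snd : cx I K ⟶ disc I.cocomplex)).compRight biprod.inr).symm).trans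
        (Homotopy.ofEq (by simp [biprod.total])))

/-- the resolution `J` -/
noncomputable def res : InjectiveResolution G where
  cocomplex := cx I K
  ι := K.ι ≫ biprod.inl
  quasiIso := by
    have : QuasiIso (biprod.inl : K.cocomplex ⟶ cx I K) := (inlHomotopyEquiv I K).quasiIso_hom
    infer_instance

/-- the map `β : J ⟶ I` -/
noncomputable def β : (res I K).cocomplex ⟶ I.cocomplex :=
  biprod.desc (InjectiveResolution.desc α I K) (discπ I.cocomplex)

lemma ι_β : (res I K).ι ≫ β α I K = (CochainComplex.single₀ C).map α ≫ I.ι := by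
  simp [res, β, InjectiveResolution.desc_commutes]

/-- the degreewise section -/
noncomputable def σ (p : ℕ) : I.cocomplex.X p ⟶ (res I K).cocomplex.X p :=
  discσ I.cocomplex p ≫ (biprod.inr : disc I.cocomplex ⟶ cx I K).f p

lemma σ_β (p : ℕ) : σ I K p ≫ (β α I K).f p = 𝟙 _ := by
  simp [σ, β, res]

/-- a split epimorphism is, up to an isomorphism of the source, the first projection of a biproduct -/
lemma exists_iso_biprod_of_splitEpi {X Y : C} (f : X ⟶ Y) (s : Y ⟶ X) (hs : s ≫ f = 𝟙 Y) :
    ∃ (K' : C) (e : X ≅ Y ⊞ K'), f = e.hom ≫ biprod.fst := by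
  have : IsSplitEpi f := ⟨⟨⟨s, hs⟩⟩⟩
  let b := binaryBiconeOfIsSplitEpiOfKernel (kernelIsKernel f)
  have hb : b.IsBilimit := isBilimitBinaryBiconeOfIsSplitEpiOfKernel (kernelIsKernel f)
  refine ⟨kernel f, biprod.uniqueUpToIso _ _ hb ≪≫ biprod.braiding _ _, ?_⟩
  simp [b]
  exact (biprod.lift_snd _ _).symm

theorem exists_iso (p : ℕ) :
    ∃ (K' : C) (e : (res I K).cocomplex.X p ≅ I.cocomplex.X p ⊞ K'),
      (β α I K).f p = e.hom ≫ biprod.fst :=
  exists_iso_biprod_of_splitEpi _ (σ I K p) (σ_β α I K p)

end Main

end Groth.Agent.Lib.SplitRes65
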