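import Mathlib

/-!
# Lifting bases of flat modules along square-zero extensions (helper55)

`R` a ring, `J` an ideal with `J * J = ⊥`, `N` a flat `R`-module such that `(R ⧸ J) ⊗[R] N` is free with
basis `w`; then any family `v` lifting `w` is a basis of `N` (`linearIndependent_of_lift`,
`span_eq_top_of_lift`).  Mathlib only.
-/

set_option autoImplicit false
set_option linter.unusedSectionVars false
set_option linter.unusedVariables false

universe u

open TensorProduct

namespace Groth.Agent.Lib.SqZero55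

variable {R : Type u} [CommRing R] (J : Ideal R) {N : Type u} [AddCommGroup N] [Module R N]

theorem mem_smul_top_of_one_tmul_eq_zero {x : N} (h : (1 : R ⧸ J) ⊗ₜ[R] x = 0) :
    x ∈ J • (⊤ : Submodule R N) := by
  have h1 : (Ideal.Quotient.mk J (1 : R)) ⊗ₜ[R] x = (0 : (R ⧸ J) ⊗[R] N) := by
    rw [map_one, h]
  have h2 := congrArg (TensorProduct.quotTensorEquivQuotSMul N J) h1
  rw [TensorProduct.quotTensorEquivQuotSMul_mk_tmul, map_zero, one_smul,
    Submodule.Quotient.mk_eq_zero] at h2
  exact h2

theorem one_tmul_eq_zero_of_mem_smul_top {x : N} (h : x ∈ J • (⊤ : Submodule R N)) :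
    (1 : R ⧸ J) ⊗ₜ[R] x = 0 := by
  have h2 : (TensorProduct.quotTensorEquivQuotSMul N J)
      ((Ideal.Quotient.mk J (1 : R)) ⊗ₜ[R] x) = 0 := by
    rw [TensorProduct.quotTensorEquivQuotSMul_mk_tmul, one_smul, Submodule.Quotient.mk_eq_zero]
    exact h
  have h3 := (TensorProduct.quotTensorEquivQuotSMul N J).injective (h2.trans (map_zero _).symm)
  rw [map_one] at h3
  exact h3

theorem one_tmul_smul (r : R) (x : N) :
    (1 : R ⧸ J) ⊗ₜ[R] (r • x) = (Ideal.Quotient.mk J r) • ((1 : R ⧸ J) ⊗ₜ[R] x) := by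
  rw [TensorProduct.tmul_smul, ← algebraMap_smul (R ⧸ J) r ((1 : R ⧸ J) ⊗ₜ[R] x)]
  rfl

/-- Finitely supported lifts. -/
theorem exists_finsupp_lift {μ : Type*} (c₁ : μ →₀ R ⧸ J) :
    ∃ c : μ →₀ R, ∀ m, Ideal.Quotient.mk J (c m) = c₁ m := by
  classical
  have hsurj : Function.Surjective (Ideal.Quotient.mk J) := Ideal.Quotient.mk_surjective
  let lft : R ⧸ J → R := fun q => if q = 0 then 0 else Function.surjInv hsurj q
  have hl0 : lft 0 = 0 := if_pos rfl
  have hl : ∀ q, Ideal.Quotient.mk J (lft q) = q := by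
    intro q
    by_cases hq : q = 0
    · subst hq
      rw [hl0, map_zero]
    · simp only [lft, if_neg hq]
      exact Function.surjInv_eq hsurj q
  refine ⟨c₁.mapRange lft hl0, fun m => ?_⟩
  rw [Finsupp.mapRange_apply, hl]

variable {μ : Type u} (w : Module.Basis μ (R ⧸ J) ((R ⧸ J) ⊗[R] N)) (v : μ → N)
  (hv : ∀ m, (1 : R ⧸ J) ⊗ₜ[R] v m = w m)

/-- The coordinate functionals with values in `R ⧸ J`. -/
noncomputable def kap (n : μ) : N →ₗ[R] (R ⧸ J) :=
  ((w.coord n).restrictScalars R) ∘ₗ (TensorProduct.mk R (R ⧸ J) N 1)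

theorem kap_apply (n : μ) (x : N) : kap J w n x = w.repr ((1 : R ⧸ J) ⊗ₜ[R] x) n := rfl

include hv in
theorem kap_lift [DecidableEq μ] (n m : μ) : kap J w n (v m) = if m = n then 1 else 0 := by
  rw [kap_apply, hv, Module.Basis.repr_self, Finsupp.single_apply]

include hv in
theorem one_tmul_linearCombination (c : μ →₀ R) :
    (1 : R ⧸ J) ⊗ₜ[R] (Finsupp.linearCombination R v c) =
      Finsupp.linearCombination (R ⧸ J) w (c.mapRange (Ideal.Quotient.mk J) (map_zero _)) := by
  classical
  induction c using Finsupp.induction_linear with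
  | zero => simp
  | add a b ha hb =>
    rw [map_add, TensorProduct.tmul_add, ha, hb, Finsupp.mapRange_add (by intro x y; exact map_add _ x y),
      map_add]
  | single m r =>
    rw [Finsupp.linearCombination_single, Finsupp.mapRange_single, Finsupp.linearCombination_single,
      one_tmul_smul, hv]

include hv in
/-- Every element is congruent modulo `J N` to a combination of the lifts. -/
theorem exists_sub_mem (x : N) :
    ∃ c : μ →₀ R, x - Finsupp.linearCombination R v c ∈ J • (⊤ : Submodule R N) := by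
  obtain ⟨c, hc⟩ := exists_finsupp_lift J (w.repr ((1 : R ⧸ J) ⊗ₜ[R] x))
  refine ⟨c, mem_smul_top_of_one_tmul_eq_zero J ?_⟩
  rw [TensorProduct.tmul_sub, one_tmul_linearCombination J w v hv, sub_eq_zero]
  have h1 : c.mapRange (Ideal.Quotient.mk J) (map_zero _) = w.repr ((1 : R ⧸ J) ⊗ₜ[R] x) := by
    ext m
    rw [Finsupp.mapRange_apply, hc]
  rw [h1, w.linearCombination_repr]

include hv in
theorem span_eq_top_of_lift (hJ : J * J = ⊥) : Submodule.span R (Set.range v) = ⊤ := by
  set S := Submodule.span R (Set.range v) with hS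
  have h1 : (⊤ : Submodule R N) ≤ S ⊔ J • (⊤ : Submodule R N) := by
    rintro x -
    obtain ⟨c, hc⟩ := exists_sub_mem J w v hv x
    have hx : x = Finsupp.linearCombination R v c + (x - Finsupp.linearCombination R v c) := by
      abel
    rw [hx]
    refine Submodule.add_mem_sup ?_ hc
    rw [hS, ← Finsupp.range_linearCombination]
    exact LinearMap.mem_range_self _ _
  have h2 : J • (⊤ : Submodule R N) ≤ S := by
    calc J • (⊤ : Submodule R N) ≤ J • (S ⊔ J • (⊤ : Submodule R N)) :=
          Submodule.smul_mono le_rfl h1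
      _ = J • S ⊔ J • (J • (⊤ : Submodule R N)) := Submodule.smul_sup _ _ _
      _ = J • S := by
          rw [← Submodule.mul_smul, hJ, Submodule.bot_smul, sup_bot_eq]
      _ ≤ S := Submodule.smul_le_right
  rw [eq_top_iff]
  exact h1.trans (sup_le le_rfl h2)

include hv in
theorem linearIndependent_of_lift [Module.Flat R N] (hJ : J * J = ⊥) :
    LinearIndependent R v := by
  classical
  have hJ2 : ∀ a ∈ J, ∀ b ∈ J, a * b = 0 := by
    intro a ha b hb
    have : a * b ∈ J * J := Ideal.mul_mem_mul ha hb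
    rw [hJ] at this
    exact this
  rw [linearIndependent_iff']
  intro s r h0
  -- the coefficients lie in `J`
  have hrJ : ∀ m ∈ s, r m ∈ J := by
    have h1 := congrArg (fun z => (1 : R ⧸ J) ⊗ₜ[R] z) h0
    simp only [TensorProduct.tmul_sum, TensorProduct.tmul_zero, one_tmul_smul, hv] at h1
    have h2 := (linearIndependent_iff'.mp w.linearIndependent) s
      (fun m => Ideal.Quotient.mk J (r m)) h1
    intro m hm
    exact Ideal.Quotient.eq_zero_iff_mem.1 (h2 m hm)
  -- the relation is trivial
  have h0' : ∑ i : s, r (i : μ) • v (i : μ) = 0 := by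
    rw [Finset.sum_coe_sort s (fun m => r m • v m)]
    exact h0
  obtain ⟨k, a, y, hxy, hfa⟩ := Module.Flat.isTrivialRelation_of_sum_smul_eq_zero h0'
  beta_reduce at hxy hfa
  intro n hn
  obtain ⟨kk, hkk⟩ : ∃ kk : Fin k → R, ∀ j, Ideal.Quotient.mk J (kk j) = kap J w n (y j) :=
    ⟨fun j => Function.surjInv Ideal.Quotient.mk_surjective (kap J w n (y j)),
      fun j => Function.surjInv_eq _ _⟩
  have h3 : ∀ i : s, (if (i : μ) = n then (1 : R) else 0) - ∑ j, a i j * kk j ∈ J := by
    intro i
    have h4 := kap_lift J w v hv n (i : μ)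
    rw [hxy i, map_sum] at h4
    simp only [map_smul, smul_eq_mul] at h4
    apply Ideal.Quotient.eq_zero_iff_mem.1
    rw [map_sub, map_sum]
    simp only [map_mul, hkk]
    have h5 : ∀ j, a i j • kap J w n (y j) = Ideal.Quotient.mk J (a i j) * kap J w n (y j) := by
      intro j
      rw [Algebra.smul_def]
      rfl
    simp only [h5] at h4
    rw [h4]
    split_ifs <;> simp
  have h6 : ∀ i : s, r (i : μ) * (if (i : μ) = n then (1 : R) else 0) =
      ∑ j, r (i : μ) * a i j * kk j := by
    intro i
    have := hJ2 _ (hrJ i i.2) _ (h3 i)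
    rw [mul_sub, sub_eq_zero, Finset.mul_sum] at this
    rw [this]
    exact Finset.sum_congr rfl fun j _ => (mul_assoc _ _ _).symm
  have h7 : ∑ i : s, r (i : μ) * (if (i : μ) = n then (1 : R) else 0) = r n := by
    rw [Finset.sum_coe_sort s (fun m => r m * (if m = n then (1 : R) else 0))]
    rw [Finset.sum_eq_single n]
    · rw [if_pos rfl, mul_one]
    · intro m _ hmn
      rw [if_neg hmn, mul_zero]
    · intro h
      exact absurd hn h
  rw [← h7]
  simp only [h6]
  rw [Finset.sum_comm]
  apply Finset.sum_eq_zero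
  intro j _
  rw [← Finset.sum_mul, hfa j, zero_mul]

end Groth.Agent.Lib.SqZero55
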