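import Mathlib

/-!
# Group-like elements of a Hopf algebra with a basis of group-likes modulo a square-zero ideal (helper55)

`A` a Hopf algebra over `R`, `J` an ideal with `J * J = ⊥`, `v` an `R`-basis of `A` with
`Δ (v m) ≡ v m ⊗ v m` modulo `J`.  The projector `P m = (id ⊗ coord m) ∘ Δ` gives the unique group-like
element `g m = P m (v m)` congruent to `v m` modulo `J` (`isGroupLikeElem_gl`, `gl_sub_mem`, `eq_gl`).
Mathlib only.
-/

set_option autoImplicit false
set_option linter.unusedSectionVars false
set_option linter.unusedVariables false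

universe u

open TensorProduct

namespace Groth.Agent.Lib.SqZero55

section Ann

variable {R : Type u} [CommRing R] (J : Ideal R) (hJ : J * J = ⊥)

include hJ in
theorem mul_eq_zero_of_mem {a b : R} (ha : a ∈ J) (hb : b ∈ J) : a * b = 0 := by
  have : a * b ∈ J * J := Ideal.mul_mem_mul ha hb
  rw [hJ] at this
  exact this

include hJ in
theorem smul_eq_zero_of_mem {N : Type*} [AddCommGroup N] [Module R N] {j : R} (hj : j ∈ J)
    {z : N} (hz : z ∈ J • (⊤ : Submodule R N)) : j • z = 0 := by
  refine Submodule.smul_induction_on hz ?_ ?_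
  · intro j' hj' n _
    rw [smul_smul, mul_eq_zero_of_mem J hJ hj hj', zero_smul]
  · intro x y hx hy
    rw [smul_add, hx, hy, add_zero]

include hJ in
theorem tmul_eq_zero_of_mem {N N' : Type*} [AddCommGroup N] [Module R N] [AddCommGroup N']
    [Module R N'] {x : N} (hx : x ∈ J • (⊤ : Submodule R N)) {y : N'}
    (hy : y ∈ J • (⊤ : Submodule R N')) : x ⊗ₜ[R] y = 0 := by
  refine Submodule.smul_induction_on hx ?_ ?_
  · intro j hj n _
    rw [TensorProduct.smul_tmul, smul_eq_zero_of_mem J hJ hj hy, TensorProduct.tmul_zero]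
  · intro a b ha hb
    rw [TensorProduct.add_tmul, ha, hb, add_zero]

theorem map_mem_smul_top {N N' : Type*} [AddCommGroup N] [Module R N] [AddCommGroup N']
    [Module R N'] (f : N →ₗ[R] N') {z : N} (hz : z ∈ J • (⊤ : Submodule R N)) :
    f z ∈ J • (⊤ : Submodule R N') := by
  refine Submodule.smul_induction_on hz ?_ ?_
  · intro j hj n _
    rw [map_smul]
    exact Submodule.smul_mem_smul hj trivial
  · intro x y hx hy
    rw [map_add]
    exact Submodule.add_mem _ hx hy

theorem map_mem_of_mem_smul_top {N : Type*} [AddCommGroup N] [Module R N] (f : N →ₗ[R] R) {z : N}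
    (hz : z ∈ J • (⊤ : Submodule R N)) : f z ∈ J := by
  have := map_mem_smul_top J f hz
  rw [Ideal.smul_top_eq_map] at this
  have h2 : (J.map (algebraMap R R)) = J := by
    rw [Algebra.algebraMap_self, Ideal.map_id]
  have h3 : f z ∈ (J.map (algebraMap R R)) := this
  rwa [h2] at h3

end Ann

section Proj

variable {R : Type u} [CommRing R] {A : Type u} [CommRing A] [HopfAlgebra R A]
variable (J : Ideal R) (hJ : J * J = ⊥) {M : Type u} (v : Module.Basis M R A)
  (hΔ : ∀ m, Coalgebra.comul (R := R) (v m) - v m ⊗ₜ[R] v m ∈ J • (⊤ : Submodule R (A ⊗[R] A)))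

/-- The projector onto the `m`-th isotypic part. -/
noncomputable def P (m : M) : A →ₗ[R] A :=
  (TensorProduct.rid R A).toLinearMap ∘ₗ (LinearMap.lTensor A (v.coord m)) ∘ₗ
    (Coalgebra.comul (R := R) (A := A))

theorem P_apply (m : M) (x : A) :
    P v m x = TensorProduct.rid R A ((LinearMap.lTensor A (v.coord m)) (Coalgebra.comul x)) := rfl

/-- The candidate group-like lift. -/
noncomputable def gl (m : M) : A := P v m (v m)

theorem counit_P (m : M) (x : A) : Coalgebra.counit (R := R) (P v m x) = v.coord m x := by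
  have key : ∀ u : A ⊗[R] A, Coalgebra.counit (R := R)
      (TensorProduct.rid R A ((LinearMap.lTensor A (v.coord m)) u)) =
      v.coord m (TensorProduct.lid R A ((LinearMap.rTensor A (Coalgebra.counit (R := R))) u)) := by
    intro u
    induction u using TensorProduct.induction_on with
    | zero => simp
    | add a b ha hb => simp only [map_add, ha, hb]
    | tmul a b =>
      rw [LinearMap.lTensor_tmul, TensorProduct.rid_tmul, LinearMap.rTensor_tmul,
        TensorProduct.lid_tmul, map_smul, map_smul, smul_eq_mul, smul_eq_mul, mul_comm]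
  rw [P_apply, key, Coalgebra.rTensor_counit_comul, TensorProduct.lid_tmul, one_smul]

theorem comul_P (m : M) (x : A) :
    Coalgebra.comul (R := R) (P v m x) = (LinearMap.lTensor A (P v m)) (Coalgebra.comul x) := by
  set c := v.coord m with hc
  set L : A ⊗[R] (A ⊗[R] A) →ₗ[R] A ⊗[R] A :=
    LinearMap.lTensor A ((TensorProduct.rid R A).toLinearMap ∘ₗ LinearMap.lTensor A c) with hL
  have key1 : ∀ (z : A ⊗[R] A) (y : A),
      L (TensorProduct.assoc R A A A (z ⊗ₜ[R] y)) = c y • z := by
    intro z y
    induction z using TensorProduct.induction_on with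
    | zero => simp
    | add a b ha hb => rw [TensorProduct.add_tmul, map_add, map_add, ha, hb, smul_add]
    | tmul p q =>
      rw [TensorProduct.assoc_tmul, hL, LinearMap.lTensor_tmul, LinearMap.comp_apply,
        LinearMap.lTensor_tmul, LinearEquiv.coe_coe, TensorProduct.rid_tmul,
        TensorProduct.tmul_smul]
  have key2 : ∀ u : A ⊗[R] A,
      L (TensorProduct.assoc R A A A ((LinearMap.rTensor A (Coalgebra.comul (R := R))) u)) =
      Coalgebra.comul (R := R) (TensorProduct.rid R A ((LinearMap.lTensor A c) u)) := by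
    intro u
    induction u using TensorProduct.induction_on with
    | zero => simp
    | add a b ha hb => simp only [map_add, ha, hb]
    | tmul x y =>
      rw [LinearMap.rTensor_tmul, key1, LinearMap.lTensor_tmul, TensorProduct.rid_tmul, map_smul]
  rw [P_apply, ← key2, Coalgebra.coassoc_apply, hL, ← LinearMap.comp_apply, ← LinearMap.lTensor_comp]
  rfl

include hJ hΔ in
/-- `P m` is the `m`-th coordinate projection modulo `J`. -/
theorem P_sub_mem [DecidableEq M] (m : M) (x : A) :
    P v m x - v.coord m x • v m ∈ J • (⊤ : Submodule R A) := by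
  have key : (Submodule.mkQ (J • (⊤ : Submodule R A))) ∘ₗ
      (P v m - (v.coord m).smulRight (v m)) = 0 := by
    apply v.ext
    intro n
    rw [LinearMap.comp_apply, LinearMap.zero_apply, Submodule.mkQ_apply,
      Submodule.Quotient.mk_eq_zero, LinearMap.sub_apply, LinearMap.smulRight_apply]
    have h1 : P v m (v n) = v.coord m (v n) • v n +
        TensorProduct.rid R A ((LinearMap.lTensor A (v.coord m))
          (Coalgebra.comul (R := R) (v n) - v n ⊗ₜ[R] v n)) := by
      rw [map_sub, map_sub, LinearMap.lTensor_tmul, TensorProduct.rid_tmul, P_apply]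
      abel
    rw [h1]
    have h2 : v.coord m (v n) • v n = v.coord m (v n) • v m := by
      rw [Module.Basis.coord_apply, Module.Basis.repr_self, Finsupp.single_apply]
      split_ifs with h
      · rw [h]
      · rw [zero_smul, zero_smul]
    rw [h2, add_sub_cancel_left]
    exact map_mem_smul_top J _ (map_mem_smul_top J _ (hΔ n))
  have := congrArg (fun f => f x) key
  simp only [LinearMap.comp_apply, LinearMap.zero_apply, Submodule.mkQ_apply,
    Submodule.Quotient.mk_eq_zero, LinearMap.sub_apply, LinearMap.smulRight_apply] at this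
  exact this

include hJ hΔ in
theorem P_of_mem [DecidableEq M] (m : M) {x : A} (hx : x ∈ J • (⊤ : Submodule R A)) :
    P v m x = v.coord m x • v m := by
  rw [← sub_eq_zero]
  refine Submodule.smul_induction_on hx ?_ ?_
  · intro j hj a _
    rw [map_smul, map_smul, smul_assoc, ← smul_sub]
    exact smul_eq_zero_of_mem J hJ hj (P_sub_mem J hJ v hΔ m a)
  · intro a b ha hb
    rw [map_add, map_add, add_smul, add_sub_add_comm, ha, hb, add_zero]

include hJ hΔ in
theorem lTensor_P_of_mem [DecidableEq M] (m : M) {d : A ⊗[R] A}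
    (hd : d ∈ J • (⊤ : Submodule R (A ⊗[R] A))) :
    (LinearMap.lTensor A (P v m)) d =
      (TensorProduct.rid R A ((LinearMap.lTensor A (v.coord m)) d)) ⊗ₜ[R] v m := by
  refine Submodule.smul_induction_on hd ?_ ?_
  · intro j hj u hu
    clear hu
    induction u using TensorProduct.induction_on with
    | zero => simp
    | add a b ha hb =>
      rw [smul_add, map_add, ha, hb, map_add, map_add, TensorProduct.add_tmul]
    | tmul a a' =>
      rw [map_smul, map_smul, map_smul, LinearMap.lTensor_tmul, LinearMap.lTensor_tmul,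
        TensorProduct.rid_tmul, TensorProduct.smul_tmul',
        TensorProduct.smul_tmul, TensorProduct.smul_tmul, TensorProduct.smul_tmul (v.coord m a'), ← sub_eq_zero,
        ← TensorProduct.tmul_sub, smul_comm (v.coord m a') j (v m), ← smul_sub,
        smul_eq_zero_of_mem J hJ hj (P_sub_mem J hJ v hΔ m a'), TensorProduct.tmul_zero]
  · intro a b ha hb
    rw [map_add, ha, hb, map_add, map_add, TensorProduct.add_tmul]

include hJ hΔ in
theorem gl_sub_mem [DecidableEq M] (m : M) : gl v m - v m ∈ J • (⊤ : Submodule R A) := by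
  have := P_sub_mem J hJ v hΔ m (v m)
  rw [Module.Basis.coord_apply, Module.Basis.repr_self, Finsupp.single_eq_same, one_smul] at this
  exact this

include hJ hΔ in
/-- Existence: `gl m` is group-like. -/
theorem isGroupLikeElem_gl [DecidableEq M] (m : M) : IsGroupLikeElem R (gl v m) where
  counit_eq_one := by
    show Coalgebra.counit (R := R) (P v m (v m)) = 1
    rw [counit_P, Module.Basis.coord_apply, Module.Basis.repr_self, Finsupp.single_eq_same]
  comul_eq_tmul_self := by
    set d := Coalgebra.comul (R := R) (v m) - v m ⊗ₜ[R] v m with hd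
    have hy : TensorProduct.rid R A ((LinearMap.lTensor A (v.coord m)) d) = gl v m - v m := by
      rw [hd, map_sub, map_sub, LinearMap.lTensor_tmul, TensorProduct.rid_tmul,
        Module.Basis.coord_apply, Module.Basis.repr_self, Finsupp.single_eq_same, one_smul]
      rfl
    have h1 : Coalgebra.comul (R := R) (gl v m) =
        v m ⊗ₜ[R] gl v m + (gl v m - v m) ⊗ₜ[R] v m := by
      show Coalgebra.comul (R := R) (P v m (v m)) = _
      rw [comul_P]
      have : Coalgebra.comul (R := R) (v m) = v m ⊗ₜ[R] v m + d := by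
        rw [hd]; abel
      rw [this, map_add, LinearMap.lTensor_tmul, lTensor_P_of_mem J hJ v hΔ m (hΔ m), hy]
      rfl
    have h2 : (gl v m - v m) ⊗ₜ[R] (gl v m - v m) = 0 :=
      tmul_eq_zero_of_mem J hJ (gl_sub_mem J hJ v hΔ m) (gl_sub_mem J hJ v hΔ m)
    rw [h1]
    have h3 : gl v m ⊗ₜ[R] gl v m = v m ⊗ₜ[R] gl v m + (gl v m - v m) ⊗ₜ[R] v m +
        (gl v m - v m) ⊗ₜ[R] (gl v m - v m) := by
      simp only [TensorProduct.sub_tmul, TensorProduct.tmul_sub]
      abel
    rw [h3, h2, add_zero]

include hJ hΔ in
/-- Uniqueness: a group-like element congruent to `v m` is `gl m`. -/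
theorem eq_gl [DecidableEq M] (m : M) {g : A} (hg : IsGroupLikeElem R g)
    (hgv : g - v m ∈ J • (⊤ : Submodule R A)) : g = gl v m := by
  set x := g - v m with hx
  set t := v.coord m x with ht
  have htJ : t ∈ J := map_mem_of_mem_smul_top J _ hgv
  have h1 : P v m g = v.coord m g • g := by
    rw [P_apply, hg.comul_eq_tmul_self, LinearMap.lTensor_tmul, TensorProduct.rid_tmul]
  have h2 : v.coord m g = 1 + t := by
    have : g = v m + x := by rw [hx]; abel
    rw [ht]
    conv_lhs => rw [this]
    rw [map_add, Module.Basis.coord_apply, Module.Basis.repr_self, Finsupp.single_eq_same]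
  have h3 : P v m g = gl v m + t • v m := by
    have : g = v m + x := by rw [hx]; abel
    conv_lhs => rw [this]
    rw [map_add, P_of_mem J hJ v hΔ m hgv]
    rfl
  have h4 : (1 + t) • g = gl v m + t • v m := by
    rw [← h2, ← h1, h3]
  have h5 : (1 - t) * (1 + t) = 1 := by
    have : t * t = 0 := mul_eq_zero_of_mem J hJ htJ htJ
    calc (1 - t) * (1 + t) = 1 - t * t := by ring
      _ = 1 := by rw [this, sub_zero]
  have h6 : g = (1 - t) • (gl v m + t • v m) := by
    rw [← h4, smul_smul, h5, one_smul]
  have h7 : t • (gl v m - v m) = 0 := smul_eq_zero_of_mem J hJ htJ (gl_sub_mem J hJ v hΔ m)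
  have h8 : t • t • v m = 0 := by
    rw [smul_smul, mul_eq_zero_of_mem J hJ htJ htJ, zero_smul]
  rw [h6, sub_smul, one_smul, smul_add, h8, add_zero]
  rw [smul_sub] at h7
  have : t • gl v m = t • v m := sub_eq_zero.1 h7
  rw [this]
  abel

end Proj

end Groth.Agent.Lib.SqZero55
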