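import Groth.Agent.Lib.MTBase55a
import Groth.Agent.Lib.SqZero55a
import Groth.Agent.Lib.SqZero55b

/-!
# Flat Hopf algebras which are diagonalisable modulo a nilpotent ideal are diagonalisable (helper55)

* `isDiag_of_sqZero`: `J * J = ⊥`, `A` flat, `IsDiag (R ⧸ J) ((R ⧸ J) ⊗[R] A) → IsDiag R A`.
* `isDiag_of_nilpotent_ker`: the same for any surjection `R → R₀` with nilpotent kernel.
-/

set_option autoImplicit false
set_option linter.unusedSectionVars false
set_option linter.unusedVariables false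

universe u

open TensorProduct

namespace Groth.Agent.Lib.SqZero55

open Groth.Agent.Lib.MultType58 Groth.Agent.Lib.GLLift55 Groth.Agent.Lib.MTBase55

theorem isDiag_of_sqZero (R : Type u) [CommRing R] (J : Ideal R) (hJ : J * J = ⊥)
    (A : Type u) [CommRing A] [HopfAlgebra R A] [Module.Flat R A]
    (h0 : SGA3b.IsDiag (R ⧸ J) ((R ⧸ J) ⊗[R] A)) : SGA3b.IsDiag R A := by
  classical
  obtain ⟨M, _, γ₁, hli₁, hspan₁⟩ := exists_basis_of_isDiag h0
  let w : Module.Basis M (R ⧸ J) ((R ⧸ J) ⊗[R] A) := Module.Basis.mk hli₁ hspan₁.ge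
  have hw : ∀ m, w m = ((γ₁ m : GroupLike (R ⧸ J) ((R ⧸ J) ⊗[R] A)) : (R ⧸ J) ⊗[R] A) :=
    fun m => Module.Basis.mk_apply hli₁ hspan₁.ge m
  have hwgl : ∀ m, IsGroupLikeElem (R ⧸ J) (w m) := fun m => (hw m) ▸ (γ₁ m).2
  have hw1 : w 1 = 1 := by rw [hw, map_one]; rfl
  have hwmul : ∀ m m', w (m * m') = w m * w m' := by
    intro m m'
    rw [hw, hw, hw, map_mul]
    rfl
  -- arbitrary lifts form a basis
  have hex : ∀ m, ∃ a : A, (1 : R ⧸ J) ⊗ₜ[R] a = w m := fun m => includeRight_surj A J (w m)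
  choose v₀ hv₀ using hex
  let v : Module.Basis M R A := Module.Basis.mk (linearIndependent_of_lift J w v₀ hv₀ hJ)
    (span_eq_top_of_lift J w v₀ hv₀ hJ).ge
  have hv : ∀ m, (1 : R ⧸ J) ⊗ₜ[R] v m = w m := by
    intro m
    show (1 : R ⧸ J) ⊗ₜ[R] (Module.Basis.mk (linearIndependent_of_lift J w v₀ hv₀ hJ)
      (span_eq_top_of_lift J w v₀ hv₀ hJ).ge m) = w m
    rw [Module.Basis.mk_apply, hv₀]
  have hΔ : ∀ m, Coalgebra.comul (R := R) (v m) - v m ⊗ₜ[R] v m ∈
      J • (⊤ : Submodule R (A ⊗[R] A)) := by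
    intro m
    apply mem_smul_top_of_one_tmul_eq_zero J
    exact comul_of_one_tmul (R ⧸ J) ((hv m).symm ▸ hwgl m)
  have hg : ∀ m, IsGroupLikeElem R (gl v m) := fun m => isGroupLikeElem_gl J hJ v hΔ m
  have hgw : ∀ m, (1 : R ⧸ J) ⊗ₜ[R] gl v m = w m := by
    intro m
    have := one_tmul_eq_zero_of_mem_smul_top J (gl_sub_mem J hJ v hΔ m)
    rw [TensorProduct.tmul_sub, sub_eq_zero] at this
    rw [this, hv]
  have huniq : ∀ (m : M) (g' : A), IsGroupLikeElem R g' → (1 : R ⧸ J) ⊗ₜ[R] g' = w m →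
      g' = gl v m := by
    intro m g' hg' h
    apply eq_gl J hJ v hΔ m hg'
    apply mem_smul_top_of_one_tmul_eq_zero J
    rw [TensorProduct.tmul_sub, h, hv, sub_self]
  have hg1 : gl v (1 : M) = 1 := by
    symm
    apply huniq 1 1 IsGroupLikeElem.one
    rw [hw1]
    rfl
  have hgmul : ∀ m m', gl v (m * m') = gl v m * gl v m' := by
    intro m m'
    symm
    apply huniq (m * m') _ ((hg m).mul (hg m'))
    have e1 : (1 : R ⧸ J) ⊗ₜ[R] (gl v m * gl v m') =
        ((1 : R ⧸ J) ⊗ₜ[R] gl v m) * ((1 : R ⧸ J) ⊗ₜ[R] gl v m') := by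
      rw [Algebra.TensorProduct.tmul_mul_tmul, mul_one]
    rw [e1, hgw, hgw, hwmul]
  let γ : M →* GroupLike R A :=
    { toFun := fun m => ⟨gl v m, hg m⟩
      map_one' := GroupLike.val_injective hg1
      map_mul' := fun m m' => GroupLike.val_injective (hgmul m m') }
  exact isDiag_of_basis M γ (linearIndependent_of_lift J w (fun m => gl v m) hgw hJ)
    (span_eq_top_of_lift J w (fun m => gl v m) hgw hJ)

theorem isDiag_of_bijective (R : Type u) [CommRing R] (R₀ : Type u) [CommRing R₀] [Algebra R R₀]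
    (hb : Function.Bijective (algebraMap R R₀))
    (A : Type u) [CommRing A] [HopfAlgebra R A]
    (h0 : SGA3b.IsDiag R₀ (R₀ ⊗[R] A)) : SGA3b.IsDiag R A := by
  have hb' : Function.Bijective (Algebra.ofId R R₀) := hb
  have h1 : SGA3b.IsDiag R (R ⊗[R] A) :=
    isDiag_bcMap (AlgEquiv.ofBijective (Algebra.ofId R R₀) hb').symm.toAlgHom h0
  exact isDiag_of_bialgEquiv (Bialgebra.TensorProduct.lid R A) h1

theorem isDiag_of_nilpotent_ker : ∀ (n : ℕ) (R : Type u) [CommRing R] (R₀ : Type u) [CommRing R₀]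
    [Algebra R R₀] (hs : Function.Surjective (algebraMap R R₀))
    (hn : (RingHom.ker (algebraMap R R₀)) ^ n = ⊥)
    (A : Type u) [CommRing A] [HopfAlgebra R A] [Module.Flat R A]
    (h0 : SGA3b.IsDiag R₀ (R₀ ⊗[R] A)), SGA3b.IsDiag R A := by
  intro n
  induction n with
  | zero =>
    intro R _ R₀ _ _ hs hn A _ _ _ h0
    apply isDiag_of_bijective R R₀ ⟨?_, hs⟩ A h0
    rw [pow_zero, Ideal.one_eq_top] at hn
    rw [injective_iff_map_eq_zero]
    intro x _
    have : x ∈ (⊤ : Ideal R) := trivial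
    rw [hn] at this
    exact this
  | succ n ih =>
    intro R _ R₀ _ _ hs hn A _ _ _ h0
    by_cases hn0 : n = 0
    · subst hn0
      rw [zero_add, pow_one] at hn
      apply isDiag_of_bijective R R₀ ⟨?_, hs⟩ A h0
      rw [injective_iff_map_eq_zero]
      intro x hx
      have : x ∈ RingHom.ker (algebraMap R R₀) := hx
      rw [hn] at this
      exact this
    · set I := RingHom.ker (algebraMap R R₀) with hI
      set J := I ^ n with hJdef
      have hJJ : J * J = ⊥ := by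
        rw [hJdef, ← pow_add, eq_bot_iff, ← hn]
        apply Ideal.pow_le_pow_right
        omega
      have hJI : J ≤ I := Ideal.pow_le_self hn0
      have hJker : ∀ a ∈ J, algebraMap R R₀ a = 0 := fun a ha => hJI ha
      letI alg₁ : Algebra (R ⧸ J) R₀ := (Ideal.Quotient.lift J (algebraMap R R₀) hJker).toAlgebra
      haveI : IsScalarTower R (R ⧸ J) R₀ := IsScalarTower.of_algebraMap_eq' rfl
      have hs₁ : Function.Surjective (algebraMap (R ⧸ J) R₀) := by
        intro y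
        obtain ⟨x, rfl⟩ := hs y
        exact ⟨Ideal.Quotient.mk J x, rfl⟩
      have hn₁ : (RingHom.ker (algebraMap (R ⧸ J) R₀)) ^ n = ⊥ := by
        have : RingHom.ker (algebraMap (R ⧸ J) R₀) = I.map (Ideal.Quotient.mk J) :=
          Ideal.ker_quotient_lift (algebraMap R R₀) hJker
        rw [this, ← Ideal.map_pow, ← hJdef, Ideal.map_quotient_self]
      have h0₁ : SGA3b.IsDiag R₀ (R₀ ⊗[R ⧸ J] ((R ⧸ J) ⊗[R] A)) :=
        (isDiag_cancel_iff R (R ⧸ J) R₀ A).2 h0
      have h1 : SGA3b.IsDiag (R ⧸ J) ((R ⧸ J) ⊗[R] A) :=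
        ih (R ⧸ J) R₀ hs₁ hn₁ ((R ⧸ J) ⊗[R] A) h0₁
      exact isDiag_of_sqZero R J hJJ A h1

end Groth.Agent.Lib.SqZero55
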