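import Groth.Agent.Lib.SqZero55c
import Groth.Agent.Lib.MTBase55c

/-!
# Lifting diagonalising étale covers along nilpotent surjections for flat Hopf algebras (helper55)
-/

set_option autoImplicit false
set_option linter.unusedSectionVars false
set_option linter.unusedVariables false

universe u

open TensorProduct

namespace Groth.Agent.Lib.SqZero55

open Groth.Agent.Lib.MultType58 Groth.Agent.Lib.GLLift55 Groth.Agent.Lib.MTBase55

variable {R : Type u} [CommRing R] {A : Type u} [CommRing A] [HopfAlgebra R A]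

theorem exists_etale_diag_lift_flat [Module.Flat R A]
    (S : Type u) [CommRing S] [Algebra R S] (S₀ : Type u) [CommRing S₀] [Algebra S S₀]
    (hs : Function.Surjective (algebraMap S S₀))
    (hn : IsNilpotent (RingHom.ker (algebraMap S S₀)))
    (T₀ : Type u) [CommRing T₀] [Algebra S₀ T₀] [Algebra S T₀] [Algebra R T₀]
    [IsScalarTower S S₀ T₀] [IsScalarTower R S T₀] [Algebra.Etale S₀ T₀]
    [Module.FaithfullyFlat S₀ T₀] (hD : SGA3b.IsDiag T₀ (T₀ ⊗[R] A)) :
    ∃ (T : Type u) (_ : CommRing T) (_ : Algebra S T) (_ : Algebra R T)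
      (_ : IsScalarTower R S T), Algebra.Etale S T ∧ Module.FaithfullyFlat S T ∧
      (Module.Finite S₀ T₀ → Module.Finite S T) ∧ SGA3b.IsDiag T (T ⊗[R] A) := by
  obtain ⟨T, _, _, ψ, het, hsurj, hker⟩ :=
    Groth.Agent.Lib.EtaleLiftSurj.exists_etale_lift (R := S) (B := S₀) (B' := T₀) hs
  letI algRT : Algebra R T := ((algebraMap S T).comp (algebraMap R S)).toAlgebra
  haveI tow : IsScalarTower R S T := IsScalarTower.of_algebraMap_eq' rfl
  obtain ⟨n, hn⟩ := hn
  have hnel : ∀ x ∈ RingHom.ker (algebraMap S S₀), IsNilpotent x := by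
    intro x hx
    refine ⟨n, ?_⟩
    have : x ^ n ∈ (RingHom.ker (algebraMap S S₀)) ^ n := Ideal.pow_mem_pow hx n
    rw [hn] at this
    exact this
  have hnψ : ∀ x ∈ RingHom.ker ψ, IsNilpotent x := by
    intro x hx
    rw [hker] at hx
    exact map_nil _ hnel x hx
  refine ⟨T, inferInstance, inferInstance, algRT, tow, het, ?_, ?_, ?_⟩
  · exact faithfullyFlat_of_surjective_nil hs hnel ψ
  · intro hfin
    haveI : Module.Finite S S₀ := Module.Finite.of_surjective (Algebra.linearMap S S₀) hs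
    haveI : Module.Finite S T₀ := Module.Finite.trans S₀ T₀
    exact finite_of_nil_ker ψ hnψ
  · let ψR : T →ₐ[R] T₀ := ψ.restrictScalars R
    letI algTT₀ : Algebra T T₀ := (ψ : T →+* T₀).toAlgebra
    haveI : IsScalarTower R T T₀ := IsScalarTower.of_algebraMap_eq' (ψR.comp_algebraMap).symm
    have h0' : SGA3b.IsDiag T₀ (T₀ ⊗[T] (T ⊗[R] A)) := (isDiag_cancel_iff R T T₀ A).2 hD
    have hkn : (RingHom.ker (algebraMap T T₀)) ^ n = ⊥ := by
      have : RingHom.ker (algebraMap T T₀) = RingHom.ker ψ := rfl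
      rw [this, hker, ← Ideal.map_pow, hn, Ideal.zero_eq_bot, Ideal.map_bot]
    exact isDiag_of_nilpotent_ker n T T₀ hsurj hkn (T ⊗[R] A) h0'

end Groth.Agent.Lib.SqZero55
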