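import Mathlib.LinearAlgebra.TensorProduct.Quotient
import Mathlib.LinearAlgebra.TensorProduct.Tower
import Mathlib.Algebra.Module.Projective
import Mathlib.RingTheory.Ideal.Quotient.Operations
import Mathlib.RingTheory.Ideal.Operations
import Mathlib.Algebra.Exact.Basic

/-!
# Base change of submodules along `R → R ⧸ 𝔫` (helper35)

* `one_tmul_eq_zero_iff`: `1 ⊗ x = 0` in `(R ⧸ 𝔫) ⊗ H` iff `x ∈ 𝔫 • ⊤`.
* `exists_one_tmul`: every element of `(R ⧸ 𝔫) ⊗ H` is of the form `1 ⊗ x`.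
* `one_tmul_mem_baseChange_iff`: `1 ⊗ x ∈ F.baseChange (R ⧸ 𝔫)` iff `x ∈ F ⊔ 𝔫 • ⊤`.
* `baseChange_le_iff`, `baseChange_eq_iff`.
-/

set_option autoImplicit false

universe u v

namespace Groth.Agent.Lib.SqZeroLift35

open TensorProduct

variable {R : Type u} [CommRing R] (𝔫 : Ideal R) {H : Type v} [AddCommGroup H] [Module R H]

lemma one_tmul_eq_zero_iff (x : H) :
    ((1 : R ⧸ 𝔫) ⊗ₜ[R] x = 0) ↔ x ∈ 𝔫 • (⊤ : Submodule R H) := by
  rw [← (quotTensorEquivQuotSMul H 𝔫).map_eq_zero_iff]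
  have : (1 : R ⧸ 𝔫) = Ideal.Quotient.mk 𝔫 1 := rfl
  rw [this, quotTensorEquivQuotSMul_mk_tmul, one_smul, Submodule.Quotient.mk_eq_zero]

lemma smul_tmul_eq_zero {a : R} (ha : a ∈ 𝔫) (x : H) : (1 : R ⧸ 𝔫) ⊗ₜ[R] (a • x) = 0 := by
  rw [one_tmul_eq_zero_iff]
  exact Submodule.smul_mem_smul ha Submodule.mem_top

lemma exists_one_tmul (t : (R ⧸ 𝔫) ⊗[R] H) : ∃ x : H, t = (1 : R ⧸ 𝔫) ⊗ₜ[R] x := by
  induction t using TensorProduct.induction_on with
  | zero => exact ⟨0, (tmul_zero _ _).symm⟩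
  | tmul a y =>
    obtain ⟨a, rfl⟩ := Ideal.Quotient.mk_surjective a
    refine ⟨a • y, ?_⟩
    rw [← smul_tmul]
    congr 1
    rw [Algebra.smul_def, mul_one]
    rfl
  | add s t hs ht =>
    obtain ⟨x, rfl⟩ := hs
    obtain ⟨y, rfl⟩ := ht
    exact ⟨x + y, (tmul_add _ _ _).symm⟩

lemma mem_baseChange_iff (F : Submodule R H) (t : (R ⧸ 𝔫) ⊗[R] H) :
    t ∈ F.baseChange (R ⧸ 𝔫) ↔ ∃ y ∈ F, t = (1 : R ⧸ 𝔫) ⊗ₜ[R] y := by
  constructor
  · rintro ⟨s, rfl⟩
    obtain ⟨y, rfl⟩ := exists_one_tmul 𝔫 s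
    exact ⟨y.1, y.2, rfl⟩
  · rintro ⟨y, hy, rfl⟩
    exact Submodule.tmul_mem_baseChange_of_mem _ hy

lemma one_tmul_mem_baseChange_iff (F : Submodule R H) (x : H) :
    (1 : R ⧸ 𝔫) ⊗ₜ[R] x ∈ F.baseChange (R ⧸ 𝔫) ↔ x ∈ F ⊔ 𝔫 • (⊤ : Submodule R H) := by
  rw [mem_baseChange_iff]
  constructor
  · rintro ⟨y, hy, h⟩
    have h0 : (1 : R ⧸ 𝔫) ⊗ₜ[R] (x - y) = 0 := by rw [tmul_sub, h, sub_self]
    rw [one_tmul_eq_zero_iff] at h0
    have : x = y + (x - y) := by abel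
    rw [this]
    exact Submodule.add_mem_sup hy h0
  · intro hx
    obtain ⟨y, hy, n, hn, rfl⟩ := Submodule.mem_sup.1 hx
    refine ⟨y, hy, ?_⟩
    rw [tmul_add, (one_tmul_eq_zero_iff 𝔫 n).2 hn, add_zero]

lemma baseChange_le_iff (F F' : Submodule R H) :
    F.baseChange (R ⧸ 𝔫) ≤ F'.baseChange (R ⧸ 𝔫) ↔ F ≤ F' ⊔ 𝔫 • (⊤ : Submodule R H) := by
  constructor
  · intro h x hx
    rw [← one_tmul_mem_baseChange_iff]
    exact h (Submodule.tmul_mem_baseChange_of_mem _ hx)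
  · intro h t ht
    obtain ⟨y, hy, rfl⟩ := (mem_baseChange_iff 𝔫 F t).1 ht
    rw [one_tmul_mem_baseChange_iff]
    exact h hy

lemma sup_eq_of_baseChange_eq {F F' : Submodule R H}
    (h : F.baseChange (R ⧸ 𝔫) = F'.baseChange (R ⧸ 𝔫)) :
    F ⊔ 𝔫 • (⊤ : Submodule R H) = F' ⊔ 𝔫 • (⊤ : Submodule R H) := by
  apply le_antisymm
  · exact sup_le ((baseChange_le_iff 𝔫 F F').1 h.le) le_sup_right
  · exact sup_le ((baseChange_le_iff 𝔫 F' F).1 h.ge) le_sup_right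

lemma baseChange_eq_of_sup_eq {F F' : Submodule R H}
    (h : F ⊔ 𝔫 • (⊤ : Submodule R H) = F' ⊔ 𝔫 • (⊤ : Submodule R H)) :
    F.baseChange (R ⧸ 𝔫) = F'.baseChange (R ⧸ 𝔫) := by
  apply le_antisymm
  · rw [baseChange_le_iff, ← h]; exact le_sup_left
  · rw [baseChange_le_iff, h]; exact le_sup_left


section retraction

variable {R : Type u} [CommRing R] {M : Type v} [AddCommGroup M] [Module R M]

/-- If `M ⧸ N` is projective, `N` is a retract of `M`. -/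
lemma exists_retraction (N : Submodule R M) [Module.Projective R (M ⧸ N)] :
    ∃ e : M →ₗ[R] M, (∀ x, e x ∈ N) ∧ ∀ x ∈ N, e x = x := by
  obtain ⟨s, hs⟩ := Module.projective_lifting_property N.mkQ LinearMap.id
    (Submodule.mkQ_surjective N)
  refine ⟨LinearMap.id - s ∘ₗ N.mkQ, fun x => ?_, fun x hx => ?_⟩
  · rw [← Submodule.Quotient.mk_eq_zero N]
    have h1 : N.mkQ (s (N.mkQ x)) = N.mkQ x := congrArg (fun φ => φ (N.mkQ x)) hs
    change N.mkQ (x - s (N.mkQ x)) = 0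
    rw [map_sub, h1, sub_self]
  · have h0 : N.mkQ x = 0 := (Submodule.Quotient.mk_eq_zero N).2 hx
    change x - s (N.mkQ x) = x
    rw [h0, map_zero, sub_zero]

lemma inf_smul_top_le (N : Submodule R M) [Module.Projective R (M ⧸ N)] (I : Ideal R) :
    N ⊓ I • (⊤ : Submodule R M) ≤ I • N := by
  obtain ⟨e, he1, he2⟩ := exists_retraction N
  rintro x ⟨hxN, hxI⟩
  have h1 : e x ∈ (I • (⊤ : Submodule R M)).map e := Submodule.mem_map_of_mem hxI
  rw [Submodule.map_smul'', he2 x hxN] at h1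
  refine Submodule.smul_mono le_rfl ?_ h1
  rintro _ ⟨y, -, rfl⟩
  exact he1 y

lemma map_smul_top_le {M' : Type*} [AddCommGroup M'] [Module R M'] (φ : M →ₗ[R] M') (I : Ideal R)
    {x : M} (hx : x ∈ I • (⊤ : Submodule R M)) : φ x ∈ I • (⊤ : Submodule R M') := by
  have h1 : φ x ∈ (I • (⊤ : Submodule R M)).map φ := Submodule.mem_map_of_mem hx
  rw [Submodule.map_smul''] at h1
  exact Submodule.smul_mono le_rfl le_top h1

end retraction

section exact

variable {R : Type u} [CommRing R] {H₁ H H₂ : Type v}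
  [AddCommGroup H₁] [Module R H₁] [AddCommGroup H] [Module R H] [AddCommGroup H₂] [Module R H₂]
  (f : H₁ →ₗ[R] H) (g : H →ₗ[R] H₂)

/-- A short exact sequence with projective cokernel admits a retraction of the first map and a
section of the second. -/
lemma exists_splitting [Module.Projective R H₂] (hf : Function.Injective f)
    (hg : Function.Surjective g) (hfg : Function.Exact f g) :
    ∃ (ρ : H →ₗ[R] H₁) (s : H₂ →ₗ[R] H), (∀ h, ρ (f h) = h) ∧ (∀ y, g (s y) = y) ∧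
      ∀ x, x = f (ρ x) + s (g x) := by
  obtain ⟨s, hs⟩ := Module.projective_lifting_property g LinearMap.id hg
  have hs' : ∀ y, g (s y) = y := fun y => congrArg (fun φ => φ y) hs
  have key : ∀ x : H, ∃ h : H₁, f h = x - s (g x) := by
    intro x
    have : g (x - s (g x)) = 0 := by rw [map_sub, hs', sub_self]
    exact (hfg _).1 this
  choose ρ₀ hρ₀ using key
  have hadd : ∀ x y, ρ₀ (x + y) = ρ₀ x + ρ₀ y := by
    intro x y
    apply hf
    rw [map_add, hρ₀, hρ₀, hρ₀, map_add, map_add]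
    abel
  have hsmul : ∀ (a : R) x, ρ₀ (a • x) = a • ρ₀ x := by
    intro a x
    apply hf
    rw [map_smul, hρ₀, hρ₀, map_smul, map_smul, smul_sub]
  refine ⟨{ toFun := ρ₀, map_add' := hadd, map_smul' := hsmul }, s, fun h => ?_, hs', fun x => ?_⟩
  · apply hf
    change f (ρ₀ (f h)) = f h
    rw [hρ₀, hfg.apply_apply_eq_zero, map_zero, sub_zero]
  · change x = f (ρ₀ x) + s (g x)
    rw [hρ₀]
    abel

end exact

end Groth.Agent.Lib.SqZeroLift35
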