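import Groth.Agent.Lib.StabAbsPoly
import Mathlib.CategoryTheory.Abelian.Basic
import Mathlib.Algebra.Homology.ShortComplex.ShortExact
import Mathlib.Algebra.Homology.ShortComplex.Abelian
import Mathlib.CategoryTheory.Subobject.Lattice
import Mathlib.Order.WellFounded

/-!
# K5.A (part 1): abstract stability with respect to a polynomial invariant in an abelian category

Axioms `Ax ok HP d` on a class of objects `ok` and a relation `HP` ("is the Hilbert polynomial of"), the abstract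
purity `Pure`, and the basic theorems of Huybrechts-Lehn 1.2: Hom-vanishing between semistable objects, and
nonzero maps between (semi)stable objects of the same reduced polynomial are mono/epi/iso.
Mathlib + `Def_StabCat` only.
-/

set_option autoImplicit false

universe v u

open CategoryTheory CategoryTheory.Limits Polynomial StabCat

namespace Groth.Agent.Lib.StabAbs

set_option linter.unusedSectionVars false

variable {C : Type u} [Category.{v} C] [Abelian C]

/-- Axioms for the abstract theory: `ok` is a class of objects closed under isomorphisms, kernels, cokernels and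
extensions (a weak Serre subcategory), `HP` is a functional, additive, iso-invariant polynomial invariant on it,
eventually nonnegative, eventually positive on nonzero objects, of degree at most `d`, integer valued on the natural
numbers; the tested subobjects of a tested object satisfy the ascending chain condition. -/
structure Ax (ok : C → Prop) (HP : C → ℚ[X] → Prop) (d : ℕ) : Prop where
  ok_iso : ∀ {E E' : C}, (E ≅ E') → ok E → ok E'
  ok_zero : ∀ {E : C}, IsZero E → ok E
  ok_kernel : ∀ {E F : C} (f : E ⟶ F), ok E → ok F → ok (kernel f)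
  ok_cokernel : ∀ {E F : C} (f : E ⟶ F), ok E → ok F → ok (cokernel f)
  ok_ext : ∀ (S : ShortComplex C), S.ShortExact → ok S.X₁ → ok S.X₃ → ok S.X₂
  hp_exists : ∀ {E : C}, ok E → ∃ P, HP E P
  hp_unique : ∀ {E : C} {P Q : ℚ[X]}, HP E P → HP E Q → P = Q
  hp_iso : ∀ {E E' : C} {P : ℚ[X]}, (E ≅ E') → HP E P → HP E' P
  hp_zero : ∀ {E : C}, IsZero E → HP E 0
  hp_add : ∀ (S : ShortComplex C), S.ShortExact → ok S.X₁ → ok S.X₂ → ok S.X₃ →
    ∀ {P₁ P₃ : ℚ[X]}, HP S.X₁ P₁ → HP S.X₃ P₃ → HP S.X₂ (P₁ + P₃)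
  hp_nonneg : ∀ {E : C} {P : ℚ[X]}, ok E → HP E P → PolyLE 0 P
  hp_pos : ∀ {E : C} {P : ℚ[X]}, ok E → ¬ IsZero E → HP E P → PolyLT 0 P
  hp_deg : ∀ {E : C} {P : ℚ[X]}, ok E → HP E P → P.natDegree ≤ d
  hp_int : ∀ {E : C} {P : ℚ[X]}, ok E → HP E P → ∀ m : ℕ, ∃ z : ℤ, P.eval (m : ℚ) = z
  acc : ∀ {E : C}, ok E → WellFoundedGT {S : Subobject E // ok (S : C)}

/-- Abstract purity: every nonzero tested subobject has positive multiplicity. -/
def Pure (ok : C → Prop) (HP : C → ℚ[X] → Prop) (d : ℕ) (E : C) : Prop :=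
  ∀ (F : C) (ι : F ⟶ E), Mono ι → ok F → ¬ IsZero F → ∀ P : ℚ[X], HP F P → 0 < alpha d P

variable {ok : C → Prop} {HP : C → ℚ[X] → Prop} {d : ℕ}

theorem Pure.of_mono {E E' : C} (h : Pure ok HP d E) (j : E' ⟶ E) [Mono j] : Pure ok HP d E' :=
  fun F ι _ hF hF0 P hP => h F (ι ≫ j) (mono_comp ι j) hF hF0 P hP

theorem Pure.alpha_pos {E : C} (h : Pure ok HP d E) (hE : ok E) (hE0 : ¬ IsZero E) {P : ℚ[X]}
    (hP : HP E P) : 0 < alpha d P :=
  h E (𝟙 E) inferInstance hE hE0 P hP

namespace Ax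

variable (A : Ax ok HP d)
include A

theorem alpha_nonneg {E : C} {P : ℚ[X]} (hE : ok E) (hP : HP E P) : 0 ≤ alpha d P :=
  alpha_nonneg_of_polyLE (A.hp_deg hE hP) (A.hp_nonneg hE hP)

theorem isZero_of_hp_zero {E : C} (hE : ok E) (hP : HP E 0) : IsZero E := by
  by_contra h
  exact polyLT_irrefl 0 (A.hp_pos hE h hP)

/-- The kernel-coimage short exact sequence of a morphism. -/
noncomputable def kerSeq {F G : C} (φ : F ⟶ G) : ShortComplex C :=
  ShortComplex.mk (kernel.ι φ) (Abelian.coimage.π φ) (cokernel.condition _)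

omit A in
theorem kerSeq_shortExact {F G : C} (φ : F ⟶ G) : (kerSeq φ).ShortExact := by
  have h1 : Mono (kerSeq φ).f := by dsimp [kerSeq]; infer_instance
  have h2 : Epi (kerSeq φ).g := by dsimp [kerSeq, Abelian.coimage.π]; infer_instance
  exact ShortComplex.ShortExact.mk'
    (ShortComplex.exact_of_g_is_cokernel (kerSeq φ) (cokernelIsCokernel (kernel.ι φ))) h1 h2

theorem ok_coimage {F G : C} (φ : F ⟶ G) (hF : ok F) (hG : ok G) : ok (Abelian.coimage φ) :=
  A.ok_cokernel _ (A.ok_kernel φ hF hG) hF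

theorem hp_kerSeq {F G : C} (φ : F ⟶ G) (hF : ok F) (hG : ok G) {pK pI : ℚ[X]}
    (hK : HP (kernel φ) pK) (hI : HP (Abelian.coimage φ) pI) : HP F (pK + pI) :=
  A.hp_add (kerSeq φ) (kerSeq_shortExact φ) (A.ok_kernel φ hF hG) hF (A.ok_coimage φ hF hG) hK hI

omit A in
theorem not_isZero_coimage {F G : C} {φ : F ⟶ G} (hφ : φ ≠ 0) : ¬ IsZero (Abelian.coimage φ) := by
  intro h
  apply hφ
  rw [← Abelian.coimage.fac φ]
  rw [h.eq_of_tgt (Abelian.coimage.π φ) 0, Limits.zero_comp]

omit A in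
theorem not_isIso_kernel_ι {F G : C} {φ : F ⟶ G} (hφ : φ ≠ 0) : ¬ IsIso (kernel.ι φ) := by
  intro h
  apply hφ
  have := kernel.condition φ
  rw [← cancel_epi (kernel.ι φ), this, Limits.comp_zero]

/-- Step A: for `F` semistable and `φ : F ⟶ G` nonzero, `p(F) ≤ p(coimage φ)`. -/
theorem redLE_coimage_of_isSS {F G : C} {φ : F ⟶ G} (hφ : φ ≠ 0) (hF : ok F) (hG : ok G)
    (ssF : IsSS ok HP d F) {pF pI : ℚ[X]} (hpF : HP F pF) (hpI : HP (Abelian.coimage φ) pI) :
    RedLE d pF pI := by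
  obtain ⟨pK, hpK⟩ := A.hp_exists (A.ok_kernel φ hF hG)
  have hsum := A.hp_unique hpF (A.hp_kerSeq φ hF hG hpK hpI)
  subst hsum
  by_cases hK : IsZero (kernel φ)
  · have : pK = 0 := A.hp_unique hpK (A.hp_zero hK)
    subst this
    rw [zero_add]
    exact redLE_refl d pI
  · have h1 := ssF (kernel φ) (kernel.ι φ) inferInstance (A.ok_kernel φ hF hG) hK
      (not_isIso_kernel_ι hφ) pK (pK + pI) hpK hpF
    exact (redLE_total_quot_iff pK pI).mpr ((redLE_sub_total_iff pK pI).mp h1)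

/-- strict version of Step A: for `F` stable and `φ` nonzero with nonzero kernel, `p(F) < p(coimage φ)`. -/
theorem redLT_coimage_of_isSt {F G : C} {φ : F ⟶ G} (hφ : φ ≠ 0) (hF : ok F) (hG : ok G)
    (stF : IsSt ok HP d F) (hK : ¬ IsZero (kernel φ)) {pF pI : ℚ[X]} (hpF : HP F pF)
    (hpI : HP (Abelian.coimage φ) pI) : RedLT d pF pI := by
  obtain ⟨pK, hpK⟩ := A.hp_exists (A.ok_kernel φ hF hG)
  have hsum := A.hp_unique hpF (A.hp_kerSeq φ hF hG hpK hpI)
  subst hsum
  have h1 := stF (kernel φ) (kernel.ι φ) inferInstance (A.ok_kernel φ hF hG) hK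
    (not_isIso_kernel_ι hφ) pK (pK + pI) hpK hpF
  exact (redLT_total_quot_iff pK pI).mpr ((redLT_sub_total_iff pK pI).mp h1)

/-- Step B: for `G` semistable, `p(coimage φ) ≤ p(G)`. -/
theorem redLE_of_coimage_of_isSS {F G : C} {φ : F ⟶ G} (hφ : φ ≠ 0) (hF : ok F) (hG : ok G)
    (ssG : IsSS ok HP d G) {pI pG : ℚ[X]} (hpI : HP (Abelian.coimage φ) pI) (hpG : HP G pG) :
    RedLE d pI pG := by
  by_cases hiso : IsIso (Abelian.factorThruCoimage φ)
  · have : pI = pG := A.hp_unique (A.hp_iso (asIso (Abelian.factorThruCoimage φ)) hpI) hpG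
    subst this
    exact redLE_refl d pI
  · exact ssG _ (Abelian.factorThruCoimage φ) inferInstance (A.ok_coimage φ hF hG)
      (not_isZero_coimage hφ) hiso pI pG hpI hpG

/-- **T1** (Huybrechts-Lehn 1.2.6): if `F`, `G` are semistable (and pure) and `p(F) > p(G)` then `Hom(F, G) = 0`. -/
theorem hom_eq_zero {F G : C} (hF : ok F) (hG : ok G) (hF0 : ¬ IsZero F)
    (pureF : Pure ok HP d F) (pureG : Pure ok HP d G)
    (ssF : IsSS ok HP d F) (ssG : IsSS ok HP d G) {pF pG : ℚ[X]} (hpF : HP F pF) (hpG : HP G pG)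
    (hlt : RedLT d pG pF) (φ : F ⟶ G) : φ = 0 := by
  by_contra hφ
  obtain ⟨pI, hpI⟩ := A.hp_exists (A.ok_coimage φ hF hG)
  have h1 := A.redLE_coimage_of_isSS hφ hF hG ssF hpF hpI
  have h2 := A.redLE_of_coimage_of_isSS hφ hF hG ssG hpI hpG
  have aI : 0 < alpha d pI :=
    pureG _ (Abelian.factorThruCoimage φ) inferInstance (A.ok_coimage φ hF hG)
      (not_isZero_coimage hφ) pI hpI
  have aF : 0 < alpha d pF := pureF.alpha_pos hF hF0 hpF
  have aG : 0 ≤ alpha d pG := A.alpha_nonneg hG hpG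
  exact (redLE_iff_not_redLT.mp (redLE_trans aF.le aI aG h1 h2)) hlt

/-- **T2 (mono)** (HL 1.2.7): `F` stable, `G` semistable, equal reduced polynomials: a nonzero `φ : F ⟶ G` is a
monomorphism. -/
theorem mono_of_isSt {F G : C} (hF : ok F) (hG : ok G) (hF0 : ¬ IsZero F) (hG0 : ¬ IsZero G)
    (pureF : Pure ok HP d F) (pureG : Pure ok HP d G)
    (stF : IsSt ok HP d F) (ssG : IsSS ok HP d G) {pF pG : ℚ[X]} (hpF : HP F pF) (hpG : HP G pG)
    (heq : RedEq d pF pG) {φ : F ⟶ G} (hφ : φ ≠ 0) : Mono φ := by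
  apply Preadditive.mono_of_isZero_kernel
  by_contra hK
  obtain ⟨pI, hpI⟩ := A.hp_exists (A.ok_coimage φ hF hG)
  have h1 := A.redLT_coimage_of_isSt hφ hF hG stF hK hpF hpI
  have h2 := A.redLE_of_coimage_of_isSS hφ hF hG ssG hpI hpG
  have aI : 0 < alpha d pI :=
    pureG _ (Abelian.factorThruCoimage φ) inferInstance (A.ok_coimage φ hF hG)
      (not_isZero_coimage hφ) pI hpI
  have aF : 0 < alpha d pF := pureF.alpha_pos hF hF0 hpF
  have aG : 0 < alpha d pG := pureG.alpha_pos hG hG0 hpG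
  exact (redLE_iff_not_redLT.mp (redEq_ge heq)) (redLT_of_redLT_of_redLE aF aI aG h1 h2)

/-- **T2 (epi)**: `F` semistable, `G` stable, equal reduced polynomials: a nonzero `φ : F ⟶ G` is an epimorphism. -/
theorem epi_of_isSt {F G : C} (hF : ok F) (hG : ok G) (hF0 : ¬ IsZero F) (hG0 : ¬ IsZero G)
    (pureF : Pure ok HP d F) (pureG : Pure ok HP d G)
    (ssF : IsSS ok HP d F) (stG : IsSt ok HP d G) {pF pG : ℚ[X]} (hpF : HP F pF) (hpG : HP G pG)
    (heq : RedEq d pF pG) {φ : F ⟶ G} (hφ : φ ≠ 0) : Epi φ := by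
  obtain ⟨pI, hpI⟩ := A.hp_exists (A.ok_coimage φ hF hG)
  have h1 := A.redLE_coimage_of_isSS hφ hF hG ssF hpF hpI
  have aI : 0 < alpha d pI :=
    pureG _ (Abelian.factorThruCoimage φ) inferInstance (A.ok_coimage φ hF hG)
      (not_isZero_coimage hφ) pI hpI
  have aF : 0 < alpha d pF := pureF.alpha_pos hF hF0 hpF
  have aG : 0 < alpha d pG := pureG.alpha_pos hG hG0 hpG
  have hiso : IsIso (Abelian.factorThruCoimage φ) := by
    by_contra hiso
    have h2 := stG _ (Abelian.factorThruCoimage φ) inferInstance (A.ok_coimage φ hF hG)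
      (not_isZero_coimage hφ) hiso pI pG hpI hpG
    exact (redLE_iff_not_redLT.mp (redEq_ge heq)) (redLT_of_redLE_of_redLT aF aI aG h1 h2)
  rw [← Abelian.coimage.fac φ]
  have : Epi (Abelian.coimage.π φ) := by dsimp [Abelian.coimage.π]; infer_instance
  exact epi_comp _ _

/-- A monomorphism of tested objects with the same polynomial is an isomorphism. -/
theorem isIso_of_mono_of_hp_eq {F G : C} (hF : ok F) (hG : ok G) {P : ℚ[X]} (hpF : HP F P)
    (hpG : HP G P) (φ : F ⟶ G) [Mono φ] : IsIso φ := by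
  obtain ⟨pQ, hpQ⟩ := A.hp_exists (A.ok_cokernel φ hF hG)
  let S : ShortComplex C := ShortComplex.mk φ (cokernel.π φ) (cokernel.condition φ)
  have hS : S.ShortExact := by
    have h1 : Mono S.f := by dsimp [S]; infer_instance
    have h2 : Epi S.g := by dsimp [S]; infer_instance
    exact ShortComplex.ShortExact.mk' (ShortComplex.exact_of_g_is_cokernel S (cokernelIsCokernel φ)) h1 h2
  have hsum : P = P + pQ := A.hp_unique hpG (A.hp_add S hS hF hG (A.ok_cokernel φ hF hG) hpF hpQ)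
  have hQ0 : pQ = 0 := by
    have := congrArg (fun x => x - P) hsum
    simp only [sub_self, add_sub_cancel_left] at this
    exact this.symm
  subst hQ0
  have hz : IsZero (cokernel φ) := A.isZero_of_hp_zero (A.ok_cokernel φ hF hG) hpQ
  have : Epi φ := Preadditive.epi_of_isZero_cokernel φ hz
  exact isIso_of_mono_of_epi φ

/-- An epimorphism of tested objects with the same polynomial is an isomorphism. -/
theorem isIso_of_epi_of_hp_eq {F G : C} (hF : ok F) (hG : ok G) {P : ℚ[X]} (hpF : HP F P)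
    (hpG : HP G P) (φ : F ⟶ G) [Epi φ] : IsIso φ := by
  obtain ⟨pK, hpK⟩ := A.hp_exists (A.ok_kernel φ hF hG)
  let S : ShortComplex C := ShortComplex.mk (kernel.ι φ) φ (kernel.condition φ)
  have hS : S.ShortExact := by
    have h1 : Mono S.f := by dsimp [S]; infer_instance
    have h2 : Epi S.g := by dsimp [S]; infer_instance
    exact ShortComplex.ShortExact.mk' (ShortComplex.exact_of_f_is_kernel S (kernelIsKernel φ)) h1 h2
  have hsum : P = pK + P := A.hp_unique hpF (A.hp_add S hS (A.ok_kernel φ hF hG) hF hG hpK hpG)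
  have hK0 : pK = 0 := by
    have := congrArg (fun x => x - P) hsum
    simp only [sub_self, add_sub_cancel_right] at this
    exact this.symm
  subst hK0
  have hz : IsZero (kernel φ) := A.isZero_of_hp_zero (A.ok_kernel φ hF hG) hpK
  have : Mono φ := Preadditive.mono_of_isZero_kernel φ hz
  exact isIso_of_mono_of_epi φ

/-- **T2 (iso)** (HL 1.2.7): `F`, `G` semistable with the same Hilbert polynomial, one of them stable: a nonzero
`φ : F ⟶ G` is an isomorphism. -/
theorem isIso_of_isSt {F G : C} (hF : ok F) (hG : ok G) (hF0 : ¬ IsZero F) (hG0 : ¬ IsZero G)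
    (pureF : Pure ok HP d F) (pureG : Pure ok HP d G)
    (ssF : IsSS ok HP d F) (ssG : IsSS ok HP d G) (hst : IsSt ok HP d F ∨ IsSt ok HP d G)
    {P : ℚ[X]} (hpF : HP F P) (hpG : HP G P) {φ : F ⟶ G} (hφ : φ ≠ 0) : IsIso φ := by
  rcases hst with stF | stG
  · have := A.mono_of_isSt hF hG hF0 hG0 pureF pureG stF ssG hpF hpG (redEq_refl d P) hφ
    exact A.isIso_of_mono_of_hp_eq hF hG hpF hpG φ
  · have := A.epi_of_isSt hF hG hF0 hG0 pureF pureG ssF stG hpF hpG (redEq_refl d P) hφ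
    exact A.isIso_of_epi_of_hp_eq hF hG hpF hpG φ

omit A in
theorem isSS_of_isSt {E : C} (h : IsSt ok HP d E) : IsSS ok HP d E :=
  fun F ι hι hF hF0 hiso pF pE hpF hpE => redLT_le (h F ι hι hF hF0 hiso pF pE hpF hpE)

/-- **T2 (end)** (HL 1.2.8): every nonzero endomorphism of a stable object is an isomorphism. -/
theorem isIso_of_isSt_end {E : C} (hE : ok E) (hE0 : ¬ IsZero E) (pureE : Pure ok HP d E)
    (stE : IsSt ok HP d E) {φ : E ⟶ E} (hφ : φ ≠ 0) : IsIso φ := by
  obtain ⟨P, hP⟩ := A.hp_exists hE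
  exact A.isIso_of_isSt hE hE hE0 hE0 pureE pureE (isSS_of_isSt stE) (isSS_of_isSt stE)
    (Or.inl stE) hP hP hφ

end Ax

end Groth.Agent.Lib.StabAbs
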