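import Groth.Prelude.Def_StabCat
import Mathlib.Analysis.Polynomial.Basic
import Mathlib.Algebra.Polynomial.Eval.SMul
import Mathlib.Topology.Algebra.Order.Archimedean
import Mathlib.Topology.Instances.Rat

/-!
# K5.P: the eventual order on rational polynomials (`StabCat.PolyLE`, `PolyLT`) and the reduced comparisons
(`RedLE`, `RedLT`, `RedEq`): total preorder, antisymmetry, seesaw lemmas.  Mathlib + `Def_StabCat` only.
-/

set_option autoImplicit false

open Polynomial StabCat Filter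

namespace Groth.Agent.Lib.StabAbs

/-- A nonzero rational polynomial has eventually constant strict sign on the natural numbers. -/
theorem eventually_pos_or_neg {R : ℚ[X]} (hR : R ≠ 0) :
    (∃ N : ℕ, ∀ m : ℕ, N ≤ m → 0 < R.eval (m : ℚ)) ∨
      (∃ N : ℕ, ∀ m : ℕ, N ≤ m → R.eval (m : ℚ) < 0) := by
  have key : ∀ Q : ℚ[X], 0 < Q.degree → 0 ≤ Q.leadingCoeff →
      ∃ N : ℕ, ∀ m : ℕ, N ≤ m → 0 < Q.eval (m : ℚ) := by
    intro Q hdeg hlc
    have h1 := Q.tendsto_atTop_of_leadingCoeff_nonneg hdeg hlc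
    have h2 : Tendsto (fun m : ℕ => Q.eval (m : ℚ)) atTop atTop :=
      h1.comp tendsto_natCast_atTop_atTop
    have h3 := h2.eventually (eventually_gt_atTop (0 : ℚ))
    obtain ⟨N, hN⟩ := eventually_atTop.mp h3
    exact ⟨N, fun m hm => hN m hm⟩
  by_cases hdeg : 0 < R.degree
  · rcases le_total 0 R.leadingCoeff with h | h
    · exact Or.inl (key R hdeg h)
    · right
      obtain ⟨N, hN⟩ := key (-R) (by rwa [degree_neg]) (by rw [leadingCoeff_neg]; linarith)
      refine ⟨N, fun m hm => ?_⟩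
      have := hN m hm
      rw [eval_neg] at this
      linarith
  · have hC : R = C (R.coeff 0) := eq_C_of_degree_le_zero (not_lt.mp hdeg)
    have hc : R.coeff 0 ≠ 0 := by
      intro h0
      apply hR
      rw [hC, h0, C_0]
    rcases lt_or_gt_of_ne hc with h | h
    · right
      refine ⟨0, fun m _ => ?_⟩
      rw [hC, eval_C]; exact h
    · left
      refine ⟨0, fun m _ => ?_⟩
      rw [hC, eval_C]; exact h

theorem polyLE_refl (P : ℚ[X]) : PolyLE P P := ⟨0, fun _ _ => le_rfl⟩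

theorem polyLE_of_eq {P Q : ℚ[X]} (h : P = Q) : PolyLE P Q := h ▸ polyLE_refl P

theorem polyLE_trans {P Q R : ℚ[X]} (h1 : PolyLE P Q) (h2 : PolyLE Q R) : PolyLE P R := by
  obtain ⟨N1, h1⟩ := h1
  obtain ⟨N2, h2⟩ := h2
  exact ⟨max N1 N2, fun m hm =>
    (h1 m (le_trans (le_max_left _ _) hm)).trans (h2 m (le_trans (le_max_right _ _) hm))⟩

theorem polyLT_of_polyLT_of_polyLE {P Q R : ℚ[X]} (h1 : PolyLT P Q) (h2 : PolyLE Q R) :
    PolyLT P R := by
  obtain ⟨N1, h1⟩ := h1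
  obtain ⟨N2, h2⟩ := h2
  exact ⟨max N1 N2, fun m hm =>
    (h1 m (le_trans (le_max_left _ _) hm)).trans_le (h2 m (le_trans (le_max_right _ _) hm))⟩

theorem polyLT_of_polyLE_of_polyLT {P Q R : ℚ[X]} (h1 : PolyLE P Q) (h2 : PolyLT Q R) :
    PolyLT P R := by
  obtain ⟨N1, h1⟩ := h1
  obtain ⟨N2, h2⟩ := h2
  exact ⟨max N1 N2, fun m hm =>
    (h1 m (le_trans (le_max_left _ _) hm)).trans_lt (h2 m (le_trans (le_max_right _ _) hm))⟩

theorem polyLT_le {P Q : ℚ[X]} (h : PolyLT P Q) : PolyLE P Q := by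
  obtain ⟨N, h⟩ := h
  exact ⟨N, fun m hm => (h m hm).le⟩

theorem polyLT_trans {P Q R : ℚ[X]} (h1 : PolyLT P Q) (h2 : PolyLT Q R) : PolyLT P R :=
  polyLT_of_polyLT_of_polyLE h1 (polyLT_le h2)

theorem not_polyLT_of_polyLE {P Q : ℚ[X]} (h1 : PolyLE P Q) : ¬ PolyLT Q P := by
  rintro ⟨N2, h2⟩
  obtain ⟨N1, h1⟩ := h1
  have a := h1 (max N1 N2) (le_max_left _ _)
  have b := h2 (max N1 N2) (le_max_right _ _)
  exact absurd a (not_le.mpr b)

theorem polyLT_irrefl (P : ℚ[X]) : ¬ PolyLT P P := not_polyLT_of_polyLE (polyLE_refl P)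

/-- Totality of the eventual order. -/
theorem polyLE_or_polyLT (P Q : ℚ[X]) : PolyLE P Q ∨ PolyLT Q P := by
  by_cases h : Q - P = 0
  · left
    exact polyLE_of_eq (sub_eq_zero.mp h).symm
  · rcases eventually_pos_or_neg h with ⟨N, hN⟩ | ⟨N, hN⟩
    · left
      refine ⟨N, fun m hm => ?_⟩
      have := hN m hm
      rw [eval_sub] at this
      linarith
    · right
      refine ⟨N, fun m hm => ?_⟩
      have := hN m hm
      rw [eval_sub] at this
      linarith

theorem polyLE_iff_not_polyLT {P Q : ℚ[X]} : PolyLE P Q ↔ ¬ PolyLT Q P :=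
  ⟨not_polyLT_of_polyLE, fun h => (polyLE_or_polyLT P Q).resolve_right h⟩

theorem polyLT_iff_not_polyLE {P Q : ℚ[X]} : PolyLT P Q ↔ ¬ PolyLE Q P := by
  rw [polyLE_iff_not_polyLT, not_not]

theorem polyLE_antisymm {P Q : ℚ[X]} (h1 : PolyLE P Q) (h2 : PolyLE Q P) : P = Q := by
  obtain ⟨N1, h1⟩ := h1
  obtain ⟨N2, h2⟩ := h2
  apply Polynomial.eq_of_infinite_eval_eq
  have hinj : Function.Injective (fun m : ℕ => ((m : ℚ))) := Nat.cast_injective
  have hinf : (Set.Ici (max N1 N2) : Set ℕ).Infinite := Set.Ici_infinite _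
  refine (hinf.image hinj.injOn).mono ?_
  rintro _ ⟨m, hm, rfl⟩
  exact le_antisymm (h1 m (le_trans (le_max_left _ _) hm)) (h2 m (le_trans (le_max_right _ _) hm))

theorem polyLT_iff_polyLE_and_ne {P Q : ℚ[X]} : PolyLT P Q ↔ PolyLE P Q ∧ P ≠ Q := by
  constructor
  · intro h
    exact ⟨polyLT_le h, fun he => polyLT_irrefl Q (he ▸ h)⟩
  · rintro ⟨h, hne⟩
    rw [polyLT_iff_not_polyLE]
    exact fun h' => hne (polyLE_antisymm h h')

theorem polyLE_add {P Q P' Q' : ℚ[X]} (h1 : PolyLE P Q) (h2 : PolyLE P' Q') :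
    PolyLE (P + P') (Q + Q') := by
  obtain ⟨N1, h1⟩ := h1
  obtain ⟨N2, h2⟩ := h2
  refine ⟨max N1 N2, fun m hm => ?_⟩
  rw [eval_add, eval_add]
  exact add_le_add (h1 m (le_trans (le_max_left _ _) hm)) (h2 m (le_trans (le_max_right _ _) hm))

theorem polyLE_smul {P Q : ℚ[X]} {c : ℚ} (hc : 0 ≤ c) (h : PolyLE P Q) : PolyLE (c • P) (c • Q) := by
  obtain ⟨N, h⟩ := h
  refine ⟨N, fun m hm => ?_⟩
  rw [eval_smul, eval_smul, smul_eq_mul, smul_eq_mul]
  exact mul_le_mul_of_nonneg_left (h m hm) hc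

theorem polyLT_smul {P Q : ℚ[X]} {c : ℚ} (hc : 0 < c) (h : PolyLT P Q) : PolyLT (c • P) (c • Q) := by
  obtain ⟨N, h⟩ := h
  refine ⟨N, fun m hm => ?_⟩
  rw [eval_smul, eval_smul, smul_eq_mul, smul_eq_mul]
  exact mul_lt_mul_of_pos_left (h m hm) hc

theorem polyLE_of_smul {P Q : ℚ[X]} {c : ℚ} (hc : 0 < c) (h : PolyLE (c • P) (c • Q)) : PolyLE P Q := by
  obtain ⟨N, h⟩ := h
  refine ⟨N, fun m hm => ?_⟩
  have := h m hm
  rw [eval_smul, eval_smul, smul_eq_mul, smul_eq_mul] at this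
  exact le_of_mul_le_mul_left this hc

theorem polyLT_of_smul {P Q : ℚ[X]} {c : ℚ} (hc : 0 < c) (h : PolyLT (c • P) (c • Q)) : PolyLT P Q := by
  obtain ⟨N, h⟩ := h
  refine ⟨N, fun m hm => ?_⟩
  have := h m hm
  rw [eval_smul, eval_smul, smul_eq_mul, smul_eq_mul] at this
  exact lt_of_mul_lt_mul_left this hc.le

/-! ### alpha -/

@[simp] theorem alpha_zero (d : ℕ) : alpha d 0 = 0 := by simp [alpha]

theorem alpha_add (d : ℕ) (P Q : ℚ[X]) : alpha d (P + Q) = alpha d P + alpha d Q := by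
  simp [alpha, mul_add]

theorem alpha_sub (d : ℕ) (P Q : ℚ[X]) : alpha d (P - Q) = alpha d P - alpha d Q := by
  simp [alpha, mul_sub]

theorem alpha_smul (d : ℕ) (c : ℚ) (P : ℚ[X]) : alpha d (c • P) = c * alpha d P := by
  simp [alpha, mul_left_comm]

/-- If `P ≥ 0` eventually and `natDegree P ≤ d` then `alpha d P ≥ 0`. -/
theorem alpha_nonneg_of_polyLE {d : ℕ} {P : ℚ[X]} (hdeg : P.natDegree ≤ d) (h : PolyLE 0 P) :
    0 ≤ alpha d P := by
  unfold alpha
  apply mul_nonneg (by positivity)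
  by_contra hneg
  rw [not_le] at hneg
  have hcoeff : P.coeff d ≠ 0 := ne_of_lt hneg
  have hnd : P.natDegree = d := le_antisymm hdeg (le_natDegree_of_ne_zero hcoeff)
  have hlc : P.leadingCoeff < 0 := by rw [leadingCoeff, hnd]; exact hneg
  have hP0 : P ≠ 0 := fun h0 => by simp [h0] at hcoeff
  -- `P` eventually negative or: degree 0 constant negative
  rcases eventually_pos_or_neg hP0 with ⟨N, hN⟩ | ⟨N, hN⟩
  · -- eventually positive contradicts negative leading coefficient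
    by_cases hdeg0 : 0 < P.degree
    · have ht := P.tendsto_atBot_of_leadingCoeff_nonpos hdeg0 hlc.le
      have h2 : Tendsto (fun m : ℕ => P.eval (m : ℚ)) atTop atBot :=
        ht.comp tendsto_natCast_atTop_atTop
      obtain ⟨N', hN'⟩ := eventually_atTop.mp (h2.eventually (eventually_lt_atBot (0 : ℚ)))
      have a := hN (max N N') (le_max_left _ _)
      have b := hN' (max N N') (le_max_right _ _)
      linarith
    · have hC : P = C (P.coeff 0) := eq_C_of_degree_le_zero (not_lt.mp hdeg0)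
      have hd0 : P.natDegree = 0 := by rw [hC]; exact natDegree_C _
      have : d = 0 := by rw [← hnd, hd0]
      subst this
      have a := hN N le_rfl
      rw [hC, eval_C] at a
      linarith
  · obtain ⟨N', h⟩ := h
    have a := hN (max N N') (le_max_left _ _)
    have b := h (max N N') (le_max_right _ _)
    rw [eval_zero] at b
    linarith

/-! ### Reduced comparisons -/

theorem redLE_refl (d : ℕ) (P : ℚ[X]) : RedLE d P P := polyLE_refl _

theorem redEq_refl (d : ℕ) (P : ℚ[X]) : RedEq d P P := rfl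

theorem redEq_symm {d : ℕ} {P Q : ℚ[X]} (h : RedEq d P Q) : RedEq d Q P := Eq.symm h

theorem redLT_le {d : ℕ} {P Q : ℚ[X]} (h : RedLT d P Q) : RedLE d P Q := polyLT_le h

theorem redEq_le {d : ℕ} {P Q : ℚ[X]} (h : RedEq d P Q) : RedLE d P Q := polyLE_of_eq h

theorem redEq_ge {d : ℕ} {P Q : ℚ[X]} (h : RedEq d P Q) : RedLE d Q P := polyLE_of_eq (Eq.symm h)

theorem redLE_or_redLT (d : ℕ) (P Q : ℚ[X]) : RedLE d P Q ∨ RedLT d Q P := by
  unfold RedLE RedLT
  exact polyLE_or_polyLT _ _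

theorem redLE_iff_not_redLT {d : ℕ} {P Q : ℚ[X]} : RedLE d P Q ↔ ¬ RedLT d Q P :=
  polyLE_iff_not_polyLT

theorem redLT_iff_not_redLE {d : ℕ} {P Q : ℚ[X]} : RedLT d P Q ↔ ¬ RedLE d Q P :=
  polyLT_iff_not_polyLE

theorem redEq_of_redLE_of_redLE {d : ℕ} {P Q : ℚ[X]} (h1 : RedLE d P Q) (h2 : RedLE d Q P) :
    RedEq d P Q := polyLE_antisymm h1 h2

theorem redLT_iff_redLE_and_not_redEq {d : ℕ} {P Q : ℚ[X]} :
    RedLT d P Q ↔ RedLE d P Q ∧ ¬ RedEq d P Q := polyLT_iff_polyLE_and_ne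

theorem redLT_irrefl (d : ℕ) (P : ℚ[X]) : ¬ RedLT d P P := polyLT_irrefl _

/-- pointwise form of the reduced comparisons -/
theorem redLE_iff {d : ℕ} {P Q : ℚ[X]} :
    RedLE d P Q ↔ ∃ N : ℕ, ∀ m : ℕ, N ≤ m →
      alpha d Q * P.eval (m : ℚ) ≤ alpha d P * Q.eval (m : ℚ) := by
  unfold RedLE PolyLE
  simp only [eval_smul, smul_eq_mul]

theorem redLT_iff {d : ℕ} {P Q : ℚ[X]} :
    RedLT d P Q ↔ ∃ N : ℕ, ∀ m : ℕ, N ≤ m →
      alpha d Q * P.eval (m : ℚ) < alpha d P * Q.eval (m : ℚ) := by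
  unfold RedLT PolyLT
  simp only [eval_smul, smul_eq_mul]

theorem redEq_iff {d : ℕ} {P Q : ℚ[X]} :
    RedEq d P Q ↔ ∀ x : ℚ, alpha d Q * P.eval x = alpha d P * Q.eval x := by
  unfold RedEq
  constructor
  · intro h x
    have := congrArg (eval x) h
    simpa only [eval_smul, smul_eq_mul] using this
  · intro h
    apply Polynomial.funext
    intro x
    simpa only [eval_smul, smul_eq_mul] using h x

/-- transitivity of the reduced comparison through a middle term of positive multiplicity -/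
theorem redLE_trans {d : ℕ} {P Q R : ℚ[X]} (hP : 0 ≤ alpha d P) (hQ : 0 < alpha d Q)
    (hR : 0 ≤ alpha d R) (h1 : RedLE d P Q) (h2 : RedLE d Q R) : RedLE d P R := by
  rw [redLE_iff] at h1 h2 ⊢
  obtain ⟨N1, h1⟩ := h1
  obtain ⟨N2, h2⟩ := h2
  refine ⟨max N1 N2, fun m hm => ?_⟩
  have a := h1 m (le_trans (le_max_left _ _) hm)
  have b := h2 m (le_trans (le_max_right _ _) hm)
  have a' := mul_le_mul_of_nonneg_left a hR
  have b' := mul_le_mul_of_nonneg_left b hP
  have : alpha d Q * (alpha d R * P.eval (m : ℚ)) ≤ alpha d Q * (alpha d P * R.eval (m : ℚ)) := by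
    nlinarith
  exact le_of_mul_le_mul_left this hQ

theorem redLT_of_redLT_of_redLE {d : ℕ} {P Q R : ℚ[X]} (hP : 0 < alpha d P) (hQ : 0 < alpha d Q)
    (hR : 0 < alpha d R) (h1 : RedLT d P Q) (h2 : RedLE d Q R) : RedLT d P R := by
  rw [redLT_iff] at h1 ⊢
  rw [redLE_iff] at h2
  obtain ⟨N1, h1⟩ := h1
  obtain ⟨N2, h2⟩ := h2
  refine ⟨max N1 N2, fun m hm => ?_⟩
  have a := h1 m (le_trans (le_max_left _ _) hm)
  have b := h2 m (le_trans (le_max_right _ _) hm)
  have a' := mul_lt_mul_of_pos_left a hR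
  have b' := mul_le_mul_of_nonneg_left b hP.le
  have : alpha d Q * (alpha d R * P.eval (m : ℚ)) < alpha d Q * (alpha d P * R.eval (m : ℚ)) := by
    nlinarith
  exact lt_of_mul_lt_mul_left this hQ.le

theorem redLT_of_redLE_of_redLT {d : ℕ} {P Q R : ℚ[X]} (hP : 0 < alpha d P) (hQ : 0 < alpha d Q)
    (hR : 0 < alpha d R) (h1 : RedLE d P Q) (h2 : RedLT d Q R) : RedLT d P R := by
  rw [redLT_iff] at h2 ⊢
  rw [redLE_iff] at h1
  obtain ⟨N1, h1⟩ := h1
  obtain ⟨N2, h2⟩ := h2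
  refine ⟨max N1 N2, fun m hm => ?_⟩
  have a := h1 m (le_trans (le_max_left _ _) hm)
  have b := h2 m (le_trans (le_max_right _ _) hm)
  have a' := mul_le_mul_of_nonneg_left a hR.le
  have b' := mul_lt_mul_of_pos_left b hP
  have : alpha d Q * (alpha d R * P.eval (m : ℚ)) < alpha d Q * (alpha d P * R.eval (m : ℚ)) := by
    nlinarith
  exact lt_of_mul_lt_mul_left this hQ.le

theorem redEq_trans {d : ℕ} {P Q R : ℚ[X]} (hQ : alpha d Q ≠ 0)
    (h1 : RedEq d P Q) (h2 : RedEq d Q R) : RedEq d P R := by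
  rw [redEq_iff] at h1 h2 ⊢
  intro x
  have a := h1 x
  have b := h2 x
  have : alpha d Q * (alpha d R * P.eval x) = alpha d Q * (alpha d P * R.eval x) := by
    calc alpha d Q * (alpha d R * P.eval x) = alpha d R * (alpha d Q * P.eval x) := by ring
      _ = alpha d R * (alpha d P * Q.eval x) := by rw [a]
      _ = alpha d P * (alpha d R * Q.eval x) := by ring
      _ = alpha d P * (alpha d Q * R.eval x) := by rw [b]
      _ = alpha d Q * (alpha d P * R.eval x) := by ring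
  exact mul_left_cancel₀ hQ this

/-! ### Seesaw: `P = P' + P''` -/

section Seesaw

variable {d : ℕ} (P' P'' : ℚ[X])

theorem redLE_sub_total_iff : RedLE d P' (P' + P'') ↔ RedLE d P' P'' := by
  rw [redLE_iff, redLE_iff]
  simp only [alpha_add, eval_add]
  constructor <;> rintro ⟨N, h⟩ <;> refine ⟨N, fun m hm => ?_⟩ <;> have := h m hm <;> nlinarith

theorem redLE_total_quot_iff : RedLE d (P' + P'') P'' ↔ RedLE d P' P'' := by
  rw [redLE_iff, redLE_iff]
  simp only [alpha_add, eval_add]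
  constructor <;> rintro ⟨N, h⟩ <;> refine ⟨N, fun m hm => ?_⟩ <;> have := h m hm <;> nlinarith

theorem redLT_sub_total_iff : RedLT d P' (P' + P'') ↔ RedLT d P' P'' := by
  rw [redLT_iff, redLT_iff]
  simp only [alpha_add, eval_add]
  constructor <;> rintro ⟨N, h⟩ <;> refine ⟨N, fun m hm => ?_⟩ <;> have := h m hm <;> nlinarith

theorem redLT_total_quot_iff : RedLT d (P' + P'') P'' ↔ RedLT d P' P'' := by
  rw [redLT_iff, redLT_iff]
  simp only [alpha_add, eval_add]
  constructor <;> rintro ⟨N, h⟩ <;> refine ⟨N, fun m hm => ?_⟩ <;> have := h m hm <;> nlinarith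

/-- the reverse comparisons: `p(P) ≤ p(P')` iff `p(P'') ≤ p(P')` iff `p(P'') ≤ p(P)` -/
theorem redLE_total_sub_iff : RedLE d (P' + P'') P' ↔ RedLE d P'' P' := by
  rw [redLE_iff, redLE_iff]
  simp only [alpha_add, eval_add]
  constructor <;> rintro ⟨N, h⟩ <;> refine ⟨N, fun m hm => ?_⟩ <;> have := h m hm <;> nlinarith

theorem redLE_quot_total_iff : RedLE d P'' (P' + P'') ↔ RedLE d P'' P' := by
  rw [redLE_iff, redLE_iff]
  simp only [alpha_add, eval_add]
  constructor <;> rintro ⟨N, h⟩ <;> refine ⟨N, fun m hm => ?_⟩ <;> have := h m hm <;> nlinarith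

theorem redLT_total_sub_iff : RedLT d (P' + P'') P' ↔ RedLT d P'' P' := by
  rw [redLT_iff, redLT_iff]
  simp only [alpha_add, eval_add]
  constructor <;> rintro ⟨N, h⟩ <;> refine ⟨N, fun m hm => ?_⟩ <;> have := h m hm <;> nlinarith

theorem redLT_quot_total_iff : RedLT d P'' (P' + P'') ↔ RedLT d P'' P' := by
  rw [redLT_iff, redLT_iff]
  simp only [alpha_add, eval_add]
  constructor <;> rintro ⟨N, h⟩ <;> refine ⟨N, fun m hm => ?_⟩ <;> have := h m hm <;> nlinarith

theorem redEq_sub_total_iff : RedEq d P' (P' + P'') ↔ RedEq d P' P'' := by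
  rw [redEq_iff, redEq_iff]
  simp only [alpha_add, eval_add]
  constructor <;> intro h x <;> have := h x <;> nlinarith

theorem redEq_total_quot_iff : RedEq d (P' + P'') P'' ↔ RedEq d P' P'' := by
  rw [redEq_iff, redEq_iff]
  simp only [alpha_add, eval_add]
  constructor <;> intro h x <;> have := h x <;> nlinarith

end Seesaw

/-! ### degrees of eventually nonnegative polynomials -/

/-- A nonzero eventually nonnegative polynomial has positive leading coefficient. -/
theorem leadingCoeff_pos_of_polyLE {P : ℚ[X]} (hP0 : P ≠ 0) (h : PolyLE 0 P) : 0 < P.leadingCoeff := by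
  have h1 : 0 ≤ alpha P.natDegree P := alpha_nonneg_of_polyLE le_rfl h
  unfold alpha at h1
  have hf : (0 : ℚ) < (P.natDegree.factorial : ℚ) := by positivity
  have h2 : 0 ≤ P.coeff P.natDegree := by
    by_contra hneg
    rw [not_le] at hneg
    have := mul_neg_of_pos_of_neg hf hneg
    linarith
  exact lt_of_le_of_ne h2 (Ne.symm (leadingCoeff_ne_zero.mpr hP0))

/-- No cancellation of leading terms: for eventually nonnegative `P`, `Q`, `deg P ≤ deg (P + Q)`. -/
theorem natDegree_le_natDegree_add {P Q : ℚ[X]} (hP : PolyLE 0 P) (hQ : PolyLE 0 Q) :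
    P.natDegree ≤ (P + Q).natDegree := by
  by_cases hP0 : P = 0
  · rw [hP0, natDegree_zero]; exact Nat.zero_le _
  by_cases hQ0 : Q = 0
  · rw [hQ0, add_zero]
  have lP : 0 < P.coeff P.natDegree := leadingCoeff_pos_of_polyLE hP0 hP
  have lQ : 0 < Q.coeff Q.natDegree := leadingCoeff_pos_of_polyLE hQ0 hQ
  rcases lt_trichotomy Q.natDegree P.natDegree with hlt | heq | hgt
  · apply le_natDegree_of_ne_zero
    rw [coeff_add, coeff_eq_zero_of_natDegree_lt hlt, add_zero]
    exact ne_of_gt lP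
  · apply le_natDegree_of_ne_zero
    rw [coeff_add]
    rw [heq] at lQ
    exact ne_of_gt (by linarith)
  · have : Q.natDegree ≤ (P + Q).natDegree := by
      apply le_natDegree_of_ne_zero
      rw [coeff_add, coeff_eq_zero_of_natDegree_lt hgt, zero_add]
      exact ne_of_gt lQ
    omega

theorem natDegree_le_natDegree_add' {P Q : ℚ[X]} (hP : PolyLE 0 P) (hQ : PolyLE 0 Q) :
    Q.natDegree ≤ (P + Q).natDegree := by
  rw [add_comm]; exact natDegree_le_natDegree_add hQ hP

end Groth.Agent.Lib.StabAbs
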