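import Groth.Agent.Lib.QuotBC45
import Groth.Prelude.Def_GLinSh
import Mathlib.AlgebraicGeometry.Morphisms.QuasiFinite
import Mathlib.AlgebraicGeometry.Artinian
import Mathlib.AlgebraicGeometry.AlgClosed.Basic

/-!
# Finiteness of stabilisers of geometric points (helper45)

* `isFinite_stabTo_iff`: for `T ≅ Spec Ω` and a `T`-point `f` of `X`, the stabiliser
  `GLinSh.stabTo a f` is finite iff the set `ψ_f⁻¹(graph of f)` of points of `G ⊗ T` is finite.
* `finite_of_surjective` : finiteness of the stabiliser passes to the quotient group.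
-/

set_option autoImplicit false
set_option linter.unusedSectionVars false
universe u
open CategoryTheory CategoryTheory.Limits MonoidalCategory CartesianMonoidalCategory MonObj GrpObj
  AlgebraicGeometry

namespace Groth.Agent.Lib.StabFinite45

open Groth.Agent.Lib.QuotBC45

/-- The set of points of `G ⊗ T` stabilising `f`. -/
def stabSet {S : Scheme.{u}} {G X T : Over S} [GrpObj G] (a : AlgGrp.Action G X) (f : T ⟶ X) :
    Set (G ⊗ T).left :=
  (GIT.psi a f).left ⁻¹' Set.range (lift f (𝟙 T)).left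

section stage0

variable {k : Type u} [Field k] {G X T : Over (Spec (CommRingCat.of k))} [GrpObj G]
  (a : AlgGrp.Action G X) (f : T ⟶ X)

lemma psi_snd_left : (GIT.psi a f).left ≫ (snd X T).left = (snd G T).left := by
  rw [← Over.comp_left]; exact congrArg _ (lift_snd _ _)

lemma locallyOfFiniteType_psi [LocallyOfFiniteType G.hom] :
    LocallyOfFiniteType (GIT.psi a f).left := by
  have h1 : LocallyOfFiniteType (snd G T).left :=
    inferInstanceAs (LocallyOfFiniteType (pullback.snd G.hom T.hom))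
  have h2 : LocallyOfFiniteType ((GIT.psi a f).left ≫ (snd X T).left) := by
    rw [psi_snd_left]; exact h1
  exact locallyOfFiniteType_of_comp _ (snd X T).left

lemma quasiCompact_psi [QuasiCompact G.hom] [QuasiSeparated X.hom] :
    QuasiCompact (GIT.psi a f).left := by
  have h1 : QuasiCompact (snd G T).left :=
    inferInstanceAs (QuasiCompact (pullback.snd G.hom T.hom))
  have h3 : QuasiSeparated (snd X T).left :=
    inferInstanceAs (QuasiSeparated (pullback.snd X.hom T.hom))
  have h2 : QuasiCompact ((GIT.psi a f).left ≫ (snd X T).left) := by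
    rw [psi_snd_left]; exact h1
  exact QuasiCompact.of_comp _ (snd X T).left

lemma graph_snd_left : (lift f (𝟙 T)).left ≫ (snd X T).left = 𝟙 T.left := by
  rw [← Over.comp_left, lift_snd]; rfl

lemma mono_graph : Mono (lift f (𝟙 T)).left :=
  mono_of_mono_fac (graph_snd_left f)

variable {Ω : Type u} [Field Ω] (e : T.left ≅ Spec (CommRingCat.of Ω))

include e in
lemma subsingleton_of_iso : Subsingleton T.left := by
  have h1 : Subsingleton ↥(Spec (CommRingCat.of Ω)) :=
    inferInstanceAs (Subsingleton (PrimeSpectrum Ω))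
  exact (e.hom.homeomorph.injective).subsingleton

include e in
theorem isFinite_stabTo_iff [LocallyOfFiniteType G.hom] [QuasiCompact G.hom]
    [QuasiSeparated X.hom] :
    IsFinite (GLinSh.stabTo a f) ↔ (stabSet a f).Finite := by
  have hlft0 := locallyOfFiniteType_psi a f
  have hqc0 := quasiCompact_psi a f
  have hlft : LocallyOfFiniteType (GLinSh.stabTo a f) :=
    inferInstanceAs (LocallyOfFiniteType (pullback.snd (GIT.psi a f).left (lift f (𝟙 T)).left))
  have hqc : QuasiCompact (GLinSh.stabTo a f) :=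
    inferInstanceAs (QuasiCompact (pullback.snd (GIT.psi a f).left (lift f (𝟙 T)).left))
  have hm := mono_graph f
  have hinj : Function.Injective (pullback.fst (GIT.psi a f).left (lift f (𝟙 T)).left) :=
    (pullback.fst (GIT.psi a f).left (lift f (𝟙 T)).left).injective
  have hrange : Set.range (pullback.fst (GIT.psi a f).left (lift f (𝟙 T)).left) = stabSet a f :=
    Groth.Agent.Lib.ClosedAct45.range_fst_of_isPullback (IsPullback.of_hasPullback _ _)
  have hss := subsingleton_of_iso e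
  rw [← hrange, Set.finite_range_iff hinj]
  constructor
  · intro hfin
    have hfin' : IsFinite (pullback.snd (GIT.psi a f).left (lift f (𝟙 T)).left) := hfin
    by_cases hne : Nonempty ↥(pullback (GIT.psi a f).left (lift f (𝟙 T)).left)
    · obtain ⟨p⟩ := hne
      have h1 := Scheme.Hom.finite_preimage_singleton
        (pullback.snd (GIT.psi a f).left (lift f (𝟙 T)).left)
        (pullback.snd (GIT.psi a f).left (lift f (𝟙 T)).left p)
      have h2 : (pullback.snd (GIT.psi a f).left (lift f (𝟙 T)).left) ⁻¹'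
          {pullback.snd (GIT.psi a f).left (lift f (𝟙 T)).left p} = Set.univ := by
        ext p'
        simp only [Set.mem_preimage, Set.mem_singleton_iff, Set.mem_univ, iff_true]
        exact Subsingleton.elim _ _
      rw [h2] at h1
      exact Set.finite_univ_iff.mp h1
    · have : IsEmpty ↥(pullback (GIT.psi a f).left (lift f (𝟙 T)).left) := not_nonempty_iff.mp hne
      infer_instance
  · intro hfin
    have hfin' : Finite ↥(GLinSh.stab a f) := hfin
    have h1 : LocallyQuasiFinite (GLinSh.stabTo a f) :=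
      LocallyQuasiFinite.of_finite_preimage_singleton _ fun t => Set.toFinite _
    have hA : IsLocallyArtinian (Spec (CommRingCat.of Ω)) :=
      Scheme.isLocallyArtinianScheme_Spec.mpr (inferInstanceAs (IsArtinianRing Ω))
    have h2 : IsFinite (GLinSh.stabTo a f ≫ e.hom) := IsFinite.of_locallyQuasiFinite _
    have h3 : GLinSh.stabTo a f = (GLinSh.stabTo a f ≫ e.hom) ≫ e.inv := by
      rw [Category.assoc, e.hom_inv_id, Category.comp_id]
    rw [h3]
    infer_instance

end stage0

section stage1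

variable {S : Scheme.{u}} {N H Q X Y T : Over S} [GrpObj N] [GrpObj H] [GrpObj Q]
  (i : N ⟶ H) (q : H ⟶ Q) [IsMonHom q] (a : AlgGrp.Action H X) (aN : AlgGrp.Action N X)
  (aQ : AlgGrp.Action Q Y) (π : X ⟶ Y)

lemma whiskerRight_mul_comp (hiq : i ≫ q = toUnit N ≫ η[Q]) :
    (i ▷ H) ≫ μ[H] ≫ q = snd N H ≫ q := by
  have h0 : i ▷ H = lift (fst N H ≫ i) (snd N H) := by
    apply CartesianMonoidalCategory.hom_ext <;> simp
  have h1 : (i ▷ H) ≫ μ[H] = (fst N H ≫ i) * snd N H := by
    rw [Hom.mul_def, h0]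
  have h2 : (fst N H ≫ i) ≫ q = 1 := by
    rw [Category.assoc, hiq, ← Category.assoc, Hom.one_def,
      toUnit_unique (fst N H ≫ toUnit N) (toUnit _)]
  rw [← Category.assoc, h1, MonObj.mul_comp, h2, _root_.one_mul]

lemma mulT_whiskerRight (hiq : i ≫ q = toUnit N ≫ η[Q]) :
    mulT i T ≫ (q ▷ T) = snd N (H ⊗ T) ≫ (q ▷ T) := by
  unfold mulT
  apply CartesianMonoidalCategory.hom_ext
  · rw [Category.assoc, Category.assoc, whiskerRight_fst, whiskerRight_fst_assoc,
      Category.assoc, Category.assoc, whiskerRight_mul_comp i q hiq,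
      associator_inv_fst_snd_assoc, whiskerRight_fst]
  · simp

variable [Surjective q.left]

/-- The stabiliser set of `x ≫ π` in `Q ⊗ T` is the image of the stabiliser set of `x`. -/
theorem stabSet_subset_image (haN : aN.act = (i ▷ X) ≫ a.act)
    (hinv : GIT.IsInvariant aN π) (horb : Function.Surjective (GIT.PsiY aN π hinv).base)
    (hequiv : (q ⊗ₘ π) ≫ aQ.act = a.act ≫ π) (hiq : i ≫ q = toUnit N ≫ η[Q]) (x : T ⟶ X) :
    stabSet aQ (x ≫ π) ⊆ (q ▷ T).left '' stabSet a x := by
  have hK1 : (GIT.psi a x).left ≫ (π ▷ T).left = (q ▷ T).left ≫ (GIT.psi aQ (x ≫ π)).left := by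
    rw [← Over.comp_left, psi_whiskerRight q a aQ π hequiv x, Over.comp_left]
  have hK2 : (N ◁ GIT.psi a x).left ≫ (actT aN T).left = (mulT i T).left ≫ (GIT.psi a x).left := by
    rw [← Over.comp_left, whiskerLeft_psi_actT i a aN haN x, Over.comp_left]
  have hK3 : (mulT i T).left ≫ (q ▷ T).left = (snd N (H ⊗ T)).left ≫ (q ▷ T).left := by
    rw [← Over.comp_left, mulT_whiskerRight i q hiq, Over.comp_left]
  have hgr : (lift x (𝟙 T)).left ≫ (π ▷ T).left = (lift (x ≫ π) (𝟙 T)).left := by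
    rw [← Over.comp_left]; congr 1
    apply CartesianMonoidalCategory.hom_ext <;> simp
  have hqT : Surjective (q ▷ T).left :=
    MorphismProperty.of_isPullback
      (Groth.Agent.Lib.SchDomProd45.isPullback_whiskerRight_fst T q).flip ‹Surjective q.left›
  rintro z ⟨t, ht⟩
  obtain ⟨w, rfl⟩ := hqT.surj z
  have hz : (π ▷ T).left ((lift x (𝟙 T)).left t) = (π ▷ T).left ((GIT.psi a x).left w) := by
    rw [← Scheme.Hom.comp_apply, hgr, ht, ← Scheme.Hom.comp_apply, ← Scheme.Hom.comp_apply, hK1]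
  obtain ⟨v, hv1, hv2⟩ := exists_act_of_whiskerRight_eq aN π hinv horb T _ _ hz
  obtain ⟨u, hu1, hu2⟩ := Groth.Agent.Lib.ActOpen18.exists_preimage_of_isPullback
    (Groth.Agent.Lib.ActOpen18.isPullback_whiskerLeft_snd N (GIT.psi a x)) v w hv2
  refine ⟨(mulT i T).left u, ⟨t, ?_⟩, ?_⟩
  · rw [← Scheme.Hom.comp_apply (mulT i T).left, ← hK2, Scheme.Hom.comp_apply, hu1, hv1]
  · rw [← Scheme.Hom.comp_apply, hK3, Scheme.Hom.comp_apply, hu2]

end stage1

section translate

variable {S : Scheme.{u}} {N H Q X T : Over S} [GrpObj N] [GrpObj H] [GrpObj Q]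

/-- Right translation by a `T`-point of `H` on `H ⊗ T`. -/
noncomputable def rT (h : T ⟶ H) : H ⊗ T ⟶ H ⊗ T := lift (fst H T * (snd H T ≫ h)) (snd H T)

lemma rT_fst (h : T ⟶ H) : rT h ≫ fst H T = fst H T * (snd H T ≫ h) := lift_fst _ _

lemma rT_snd (h : T ⟶ H) : rT h ≫ snd H T = snd H T := lift_snd _ _

lemma rT_rT (h h' : T ⟶ H) : rT h ≫ rT h' = rT (h * h') := by
  apply CartesianMonoidalCategory.hom_ext
  · rw [Category.assoc, rT_fst, MonObj.comp_mul, rT_fst, ← Category.assoc, rT_snd, rT_fst,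
      MonObj.comp_mul, _root_.mul_assoc]
  · rw [Category.assoc, rT_snd, rT_snd, rT_snd]

lemma rT_one : rT (1 : T ⟶ H) = 𝟙 _ := by
  apply CartesianMonoidalCategory.hom_ext
  · rw [rT_fst, Category.id_comp, MonObj.comp_one, _root_.mul_one]
  · rw [rT_snd, Category.id_comp]

lemma rT_inv_rT (h : T ⟶ H) : rT h⁻¹ ≫ rT h = 𝟙 _ := by
  rw [rT_rT, inv_mul_cancel, rT_one]

lemma rT_rT_inv (h : T ⟶ H) : rT h ≫ rT h⁻¹ = 𝟙 _ := by
  rw [rT_rT, mul_inv_cancel, rT_one]

lemma graph_rT (h h' : T ⟶ H) : lift h (𝟙 T) ≫ rT h' = lift (h * h') (𝟙 T) := by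
  apply CartesianMonoidalCategory.hom_ext
  · rw [Category.assoc, rT_fst, MonObj.comp_mul, lift_fst, lift_fst, ← Category.assoc, lift_snd,
      Category.id_comp]
  · rw [Category.assoc, rT_snd, lift_snd, lift_snd]

lemma rT_whiskerRight (q : H ⟶ Q) [IsMonHom q] (h : T ⟶ H) :
    rT h ≫ (q ▷ T) = (q ▷ T) ≫ rT (h ≫ q) := by
  apply CartesianMonoidalCategory.hom_ext
  · rw [Category.assoc, whiskerRight_fst, ← Category.assoc, rT_fst, MonObj.mul_comp,
      Category.assoc (q ▷ T), rT_fst, MonObj.comp_mul, whiskerRight_fst, ← Category.assoc (q ▷ T),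
      whiskerRight_snd, Category.assoc]
  · rw [Category.assoc, whiskerRight_snd, rT_snd, Category.assoc, rT_snd, whiskerRight_snd]

lemma graph_whiskerRight (q : H ⟶ Q) (h : T ⟶ H) :
    lift h (𝟙 T) ≫ (q ▷ T) = lift (h ≫ q) (𝟙 T) := by
  apply CartesianMonoidalCategory.hom_ext <;> simp

lemma graph_psi (a : AlgGrp.Action H X) (x : T ⟶ X) (h : T ⟶ H) :
    lift h (𝟙 T) ≫ GIT.psi a x = lift (lift h x ≫ a.act) (𝟙 T) := by
  unfold GIT.psi
  apply CartesianMonoidalCategory.hom_ext
  · rw [Category.assoc, lift_fst, lift_fst, ← Category.assoc, lift_whiskerLeft, Category.id_comp]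
  · rw [Category.assoc, lift_snd, lift_snd, lift_snd]

/-- `n ↦ n h` followed by the orbit map of `x` is the orbit map of `h x` for `N`. -/
lemma whiskerRight_rT_psi (i : N ⟶ H) (a : AlgGrp.Action H X) (aN : AlgGrp.Action N X)
    (haN : aN.act = (i ▷ X) ≫ a.act) (x : T ⟶ X) (h : T ⟶ H) :
    (i ▷ T) ≫ rT h ≫ GIT.psi a x = GIT.psi aN (lift h x ≫ a.act) := by
  unfold GIT.psi
  apply CartesianMonoidalCategory.hom_ext
  · have h1 : ((i ▷ T) ≫ rT h) ≫ (H ◁ x) =
        lift ((fst N T ≫ i) * (snd N T ≫ h)) (snd N T ≫ x) := by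
      apply CartesianMonoidalCategory.hom_ext
      · rw [Category.assoc, whiskerLeft_fst, Category.assoc, rT_fst, MonObj.comp_mul,
          whiskerRight_fst, ← Category.assoc, whiskerRight_snd, lift_fst]
      · rw [Category.assoc, whiskerLeft_snd, Category.assoc, ← Category.assoc (rT h), rT_snd,
          ← Category.assoc, whiskerRight_snd, lift_snd]
    have h2 : (N ◁ (lift h x ≫ a.act)) ≫ (i ▷ X) =
        lift (fst N T ≫ i) (snd N T ≫ lift h x ≫ a.act) := by
      apply CartesianMonoidalCategory.hom_ext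
      · rw [Category.assoc, whiskerRight_fst, whiskerLeft_fst_assoc, lift_fst]
      · rw [Category.assoc, whiskerRight_snd, whiskerLeft_snd, lift_snd]
    rw [Category.assoc, Category.assoc, lift_fst, lift_fst, ← Category.assoc, ← Category.assoc, h1,
      haN, ← Category.assoc, h2, Groth.Agent.Lib.GrpAction.mul_act,
      Groth.Agent.Lib.GrpAction.comp_lift_act]
  · rw [Category.assoc, Category.assoc, lift_snd, lift_snd, rT_snd, whiskerRight_snd]

end translate

section stage2

variable {k : Type u} [Field k] {N H Q X Y T : Over (Spec (CommRingCat.of k))}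
  [GrpObj N] [GrpObj H] [GrpObj Q]
  {Ω : Type u} [Field Ω] [IsAlgClosed Ω] (e : T.left ≅ Spec (CommRingCat.of Ω))

include e in
/-- Closed points of `H ⊗ T` are `T`-points of `H` (`T ≅ Spec Ω`, `Ω` algebraically closed). -/
lemma exists_point_of_isClosed [LocallyOfFiniteType H.hom] (w : (H ⊗ T).left)
    (hw : IsClosed ({w} : Set (H ⊗ T).left)) :
    ∃ h : T ⟶ H, ∀ t, (lift h (𝟙 T)).left t = w := by
  have h1 : LocallyOfFiniteType (snd H T).left :=
    inferInstanceAs (LocallyOfFiniteType (pullback.snd H.hom T.hom))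
  have hlft : LocallyOfFiniteType ((snd H T).left ≫ e.hom) := inferInstance
  have hs : pointOfClosedPoint ((snd H T).left ≫ e.hom) w hw ≫ (snd H T).left ≫ e.hom = 𝟙 _ :=
    pointOfClosedPoint_comp _ w hw
  have hs' : ∀ p, pointOfClosedPoint ((snd H T).left ≫ e.hom) w hw p = w :=
    pointOfClosedPoint_apply _ w hw
  have hl : (e.hom ≫ pointOfClosedPoint ((snd H T).left ≫ e.hom) w hw) ≫ (snd H T).left =
      𝟙 T.left := by
    rw [← cancel_mono e.hom, Category.assoc, Category.assoc, hs, Category.comp_id,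
      Category.id_comp]
  have hw1 : (fst H T).left ≫ H.hom = (snd H T).left ≫ T.hom := by
    rw [Over.w, Over.w]
  refine ⟨Over.homMk ((e.hom ≫ pointOfClosedPoint ((snd H T).left ≫ e.hom) w hw) ≫
    (fst H T).left) (by rw [Category.assoc, hw1, ← Category.assoc, hl, Category.id_comp]), ?_⟩
  intro t
  have h2 : (lift (Over.homMk ((e.hom ≫ pointOfClosedPoint ((snd H T).left ≫ e.hom) w hw) ≫
      (fst H T).left) (by rw [Category.assoc, hw1, ← Category.assoc, hl, Category.id_comp]) :
      T ⟶ H) (𝟙 T)).left = e.hom ≫ pointOfClosedPoint ((snd H T).left ≫ e.hom) w hw := by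
    apply pullback.hom_ext
    · change (lift _ (𝟙 T)).left ≫ (fst H T).left = _ ≫ (fst H T).left
      rw [← Over.comp_left, lift_fst]; rfl
    · change (lift _ (𝟙 T)).left ≫ (snd H T).left = _ ≫ (snd H T).left
      rw [← Over.comp_left, lift_snd, hl]; rfl
  rw [h2, Scheme.Hom.comp_apply, hs']

/-- Points of `H ⊗ T` lying over the unit section of `Q ⊗ T` come from `N ⊗ T`. -/
lemma mem_range_of_kernel (i : N ⟶ H) (q : H ⟶ Q) (hker : AlgGrp.IsKernel i q)
    (w : (H ⊗ T).left) (hw : (q ▷ T).left w ∈ Set.range (lift (1 : T ⟶ Q) (𝟙 T)).left) :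
    w ∈ Set.range (i ▷ T).left := by
  obtain ⟨t, ht⟩ := hw
  have hkerL : IsPullback i.left (toUnit N).left q.left η[Q].left :=
    Functor.map_isPullback (Over.forget _) hker
  have h1 : q.left ((fst H T).left w) = η[Q].left ((toUnit T).left t) := by
    have e1 : (q ▷ T).left ≫ (fst Q T).left = (fst H T).left ≫ q.left := by
      rw [← Over.comp_left, whiskerRight_fst, Over.comp_left]
    have e2 : (lift (1 : T ⟶ Q) (𝟙 T)).left ≫ (fst Q T).left = (toUnit T).left ≫ η[Q].left := by
      rw [← Over.comp_left, lift_fst, Hom.one_def, Over.comp_left]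
    rw [← Scheme.Hom.comp_apply, ← e1, Scheme.Hom.comp_apply, ← ht, ← Scheme.Hom.comp_apply, e2,
      Scheme.Hom.comp_apply]
  obtain ⟨n, hn, -⟩ := Groth.Agent.Lib.ActOpen18.exists_preimage_of_isPullback hkerL _ _ h1
  obtain ⟨p, hp, -⟩ := Groth.Agent.Lib.ActOpen18.exists_preimage_of_isPullback
    (Groth.Agent.Lib.SchDomProd45.isPullback_whiskerRight_fst T i) w n hn.symm
  exact ⟨p, hp⟩

include e in
theorem finite_stabSet_of_quotient [LocallyOfFiniteType H.hom] [IsSeparated X.hom]
    (i : N ⟶ H) (q : H ⟶ Q) [IsMonHom q] (hker : AlgGrp.IsKernel i q)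
    (a : AlgGrp.Action H X) (aN : AlgGrp.Action N X) (haN : aN.act = (i ▷ X) ≫ a.act)
    (aQ : AlgGrp.Action Q Y) (π : X ⟶ Y) (hequiv : (q ⊗ₘ π) ≫ aQ.act = a.act ≫ π)
    (x : T ⟶ X) (hQ : (stabSet aQ (x ≫ π)).Finite)
    (hN : ∀ x' : T ⟶ X, (stabSet aN x').Finite) : (stabSet a x).Finite := by
  have hss := subsingleton_of_iso e
  have hK1 : (GIT.psi a x).left ≫ (π ▷ T).left = (q ▷ T).left ≫ (GIT.psi aQ (x ≫ π)).left := by
    rw [← Over.comp_left, psi_whiskerRight q a aQ π hequiv x, Over.comp_left]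
  have hgr : (lift x (𝟙 T)).left ≫ (π ▷ T).left = (lift (x ≫ π) (𝟙 T)).left := by
    rw [← Over.comp_left]; congr 1
    apply CartesianMonoidalCategory.hom_ext <;> simp
  -- `q` maps the stabiliser set into the stabiliser set
  have hmap : ∀ w ∈ stabSet a x, (q ▷ T).left w ∈ stabSet aQ (x ≫ π) := by
    rintro w ⟨t, ht⟩
    refine ⟨t, ?_⟩
    rw [← hgr, Scheme.Hom.comp_apply, ht, ← Scheme.Hom.comp_apply, ← Scheme.Hom.comp_apply, hK1]
  -- the stabiliser set is closed
  have hcl : IsClosed (stabSet a x) := by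
    have h1 : IsSeparated (snd X T).left :=
      inferInstanceAs (IsSeparated (pullback.snd X.hom T.hom))
    have h2 : IsClosedImmersion ((lift x (𝟙 T)).left ≫ (snd X T).left) := by
      rw [graph_snd_left]; infer_instance
    have h3 : IsClosedImmersion (lift x (𝟙 T)).left :=
      IsClosedImmersion.of_comp _ (snd X T).left
    exact (lift x (𝟙 T)).left.isClosedEmbedding.isClosed_range.preimage
      (GIT.psi a x).left.continuous
  -- Jacobson
  have hlftH : LocallyOfFiniteType ((snd H T).left ≫ e.hom) := by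
    have h1 : LocallyOfFiniteType (snd H T).left :=
      inferInstanceAs (LocallyOfFiniteType (pullback.snd H.hom T.hom))
    infer_instance
  have hJ : JacobsonSpace ↥(H ⊗ T).left := LocallyOfFiniteType.jacobsonSpace ((snd H T).left ≫ e.hom)
  suffices hfin : (stabSet a x ∩ closedPoints ↥(H ⊗ T).left).Finite by
    have h1 : IsClosed (stabSet a x ∩ closedPoints ↥(H ⊗ T).left) := by
      rw [← Set.biUnion_of_singleton (stabSet a x ∩ closedPoints ↥(H ⊗ T).left)]
      exact hfin.isClosed_biUnion fun w hw => hw.2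
    have h2 := closure_inter_closedPoints hcl
    rw [h1.closure_eq] at h2
    rw [← h2]; exact hfin
  -- fibres of `q` on closed points of the stabiliser set
  have hfib : ∀ z : ↥(Q ⊗ T).left,
      {w | w ∈ stabSet a x ∩ closedPoints ↥(H ⊗ T).left ∧ (q ▷ T).left w = z}.Finite := by
    intro z
    by_cases hne : {w | w ∈ stabSet a x ∩ closedPoints ↥(H ⊗ T).left ∧
        (q ▷ T).left w = z}.Nonempty
    swap
    · rw [Set.not_nonempty_iff_eq_empty.mp hne]; exact Set.finite_empty
    obtain ⟨w₀, ⟨hw₀C, hw₀cl⟩, hw₀z⟩ := hne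
    obtain ⟨h₀, hh₀⟩ := exists_point_of_isClosed e w₀ hw₀cl
    obtain ⟨t₀, ht₀⟩ := hw₀C
    refine ((hN (lift h₀ x ≫ a.act)).image ((i ▷ T) ≫ rT h₀).left).subset ?_
    rintro w ⟨⟨⟨t₁, ht₁⟩, -⟩, hwz⟩
    -- translate back
    have hq1 : (q ▷ T).left ((rT h₀⁻¹).left w) ∈ Set.range (lift (1 : T ⟶ Q) (𝟙 T)).left := by
      refine ⟨t₀, ?_⟩
      have e1 : (rT h₀⁻¹).left ≫ (q ▷ T).left = (q ▷ T).left ≫ (rT (h₀⁻¹ ≫ q)).left := by
        rw [← Over.comp_left, rT_whiskerRight, Over.comp_left]
      have e2 : (lift h₀ (𝟙 T)).left ≫ (rT h₀⁻¹).left ≫ (q ▷ T).left =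
          (lift (1 : T ⟶ Q) (𝟙 T)).left := by
        rw [← Over.comp_left, ← Over.comp_left, ← Category.assoc, graph_rT, mul_inv_cancel,
          graph_whiskerRight, MonObj.one_comp]
      rw [← Scheme.Hom.comp_apply (rT h₀⁻¹).left, e1, Scheme.Hom.comp_apply, hwz, ← hw₀z,
        ← Scheme.Hom.comp_apply, ← e1, ← hh₀ t₀, ← Scheme.Hom.comp_apply, e2]
    obtain ⟨p, hp⟩ := mem_range_of_kernel i q hker _ hq1
    have hw : ((i ▷ T) ≫ rT h₀).left p = w := by
      rw [Over.comp_left, Scheme.Hom.comp_apply, hp, ← Scheme.Hom.comp_apply, ← Over.comp_left,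
        rT_inv_rT]
      rfl
    refine ⟨p, ⟨t₀, ?_⟩, hw⟩
    have e3 : (GIT.psi aN (lift h₀ x ≫ a.act)).left =
        ((i ▷ T) ≫ rT h₀).left ≫ (GIT.psi a x).left := by
      rw [← Over.comp_left, Category.assoc, whiskerRight_rT_psi i a aN haN x h₀]
    have e4 : (lift (lift h₀ x ≫ a.act) (𝟙 T)).left =
        (lift h₀ (𝟙 T)).left ≫ (GIT.psi a x).left := by
      rw [← Over.comp_left, graph_psi]
    rw [e3, Scheme.Hom.comp_apply, hw, e4, Scheme.Hom.comp_apply, hh₀ t₀, ← ht₁, ← ht₀,
      Subsingleton.elim t₁ t₀]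
  refine (hQ.biUnion fun z _ => hfib z).subset ?_
  intro w hw
  exact Set.mem_biUnion (hmap w hw.1) ⟨hw, rfl⟩

end stage2

end Groth.Agent.Lib.StabFinite45
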