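import Groth.Agent.Lib.StabFinite45

/-!
# Finiteness of stabilisers of geometric points, II (helper45)

* `isFinite_stabTo_iff'`: `isFinite_stabTo_iff` without quasi-compactness / quasi-separatedness
  hypotheses.
* `stabSet_subsingleton_of_isPullback`: for a free action (`N × X ≅ X ×_Y X`), stabiliser sets of
  geometric points are subsingletons.
-/

set_option autoImplicit false
set_option linter.unusedSectionVars false
universe u
open CategoryTheory CategoryTheory.Limits MonoidalCategory CartesianMonoidalCategory MonObj GrpObj
  AlgebraicGeometry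

namespace Groth.Agent.Lib.StabFinite45

variable {k : Type u} [Field k] {G X Y T : Over (Spec (CommRingCat.of k))} [GrpObj G]
  (a : AlgGrp.Action G X) (f : T ⟶ X)
  {Ω : Type u} [Field Ω] (e : T.left ≅ Spec (CommRingCat.of Ω))

include e in
theorem isFinite_stabTo_iff' [LocallyOfFiniteType G.hom] :
    IsFinite (GLinSh.stabTo a f) ↔ (stabSet a f).Finite := by
  have hlft0 := locallyOfFiniteType_psi a f
  have hlft : LocallyOfFiniteType (GLinSh.stabTo a f) :=
    inferInstanceAs (LocallyOfFiniteType (pullback.snd (GIT.psi a f).left (lift f (𝟙 T)).left))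
  have hm := mono_graph f
  have hinj : Function.Injective (pullback.fst (GIT.psi a f).left (lift f (𝟙 T)).left) :=
    (pullback.fst (GIT.psi a f).left (lift f (𝟙 T)).left).injective
  have hrange : Set.range (pullback.fst (GIT.psi a f).left (lift f (𝟙 T)).left) = stabSet a f :=
    Groth.Agent.Lib.ClosedAct45.range_fst_of_isPullback (IsPullback.of_hasPullback _ _)
  have hss := subsingleton_of_iso e
  rw [← hrange, Set.finite_range_iff hinj]
  constructor
  · intro hfin
    have hfin' : IsFinite (pullback.snd (GIT.psi a f).left (lift f (𝟙 T)).left) := hfin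
    by_cases hne : Nonempty ↥(pullback (GIT.psi a f).left (lift f (𝟙 T)).left)
    · obtain ⟨p⟩ := hne
      have h1 := Scheme.Hom.finite_preimage_singleton
        (pullback.snd (GIT.psi a f).left (lift f (𝟙 T)).left)
        (pullback.snd (GIT.psi a f).left (lift f (𝟙 T)).left p)
      have h2 : (pullback.snd (GIT.psi a f).left (lift f (𝟙 T)).left) ⁻¹'
          {pullback.snd (GIT.psi a f).left (lift f (𝟙 T)).left p} = Set.univ := by
        ext p'
        simp only [Set.mem_preimage, Set.mem_singleton_iff, Set.mem_univ, iff_true]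
        exact Subsingleton.elim _ _
      rw [h2] at h1
      exact Set.finite_univ_iff.mp h1
    · have : IsEmpty ↥(pullback (GIT.psi a f).left (lift f (𝟙 T)).left) := not_nonempty_iff.mp hne
      infer_instance
  · intro hfin
    have hfin' : Finite ↥(GLinSh.stab a f) := hfin
    have h1 : LocallyQuasiFinite (GLinSh.stabTo a f) :=
      LocallyQuasiFinite.of_finite_preimage_singleton _ fun t => Set.toFinite _
    have hA : IsLocallyArtinian (Spec (CommRingCat.of Ω)) :=
      Scheme.isLocallyArtinianScheme_Spec.mpr (inferInstanceAs (IsArtinianRing Ω))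
    have hc : CompactSpace ↥(GLinSh.stab a f) := Finite.compactSpace
    have hqc : QuasiCompact (GLinSh.stabTo a f ≫ e.hom) := inferInstance
    have h2 : IsFinite (GLinSh.stabTo a f ≫ e.hom) := IsFinite.of_locallyQuasiFinite _
    have h3 : GLinSh.stabTo a f = (GLinSh.stabTo a f ≫ e.hom) ≫ e.inv := by
      rw [Category.assoc, e.hom_inv_id, Category.comp_id]
    rw [h3]
    infer_instance

include e in
/-- For a free action, stabiliser sets are subsingletons. -/
theorem stabSet_finite_of_isPullback {φ : X ⟶ Y} (hcart : IsPullback a.act (snd G X) φ φ) :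
    (stabSet a f).Finite := by
  have hss := subsingleton_of_iso e
  have hmono : Mono (GIT.psi a f) := by
    constructor
    intro Z u₁ u₂ hu
    have h1 : u₁ ≫ snd G T = u₂ ≫ snd G T := by
      have := congrArg (fun m => m ≫ snd X T) hu
      simpa only [Category.assoc, GIT.psi, lift_snd] using this
    have h2 : (u₁ ≫ (G ◁ f)) ≫ a.act = (u₂ ≫ (G ◁ f)) ≫ a.act := by
      have := congrArg (fun m => m ≫ fst X T) hu
      simpa only [Category.assoc, GIT.psi, lift_fst] using this
    have h3 : (u₁ ≫ (G ◁ f)) ≫ snd G X = (u₂ ≫ (G ◁ f)) ≫ snd G X := by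
      rw [Category.assoc, Category.assoc, whiskerLeft_snd, ← Category.assoc, ← Category.assoc, h1]
    have h4 := hcart.hom_ext h2 h3
    apply CartesianMonoidalCategory.hom_ext
    · have := congrArg (fun m => m ≫ fst G X) h4
      simpa only [Category.assoc, whiskerLeft_fst] using this
    · exact h1
  have hmonoL : Mono (GIT.psi a f).left := inferInstance
  have hinj : Function.Injective (GIT.psi a f).left := (GIT.psi a f).left.injective
  apply Set.Subsingleton.finite
  rintro w₁ ⟨t₁, ht₁⟩ w₂ ⟨t₂, ht₂⟩
  apply hinj
  rw [← ht₁, ← ht₂, Subsingleton.elim t₁ t₂]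

end Groth.Agent.Lib.StabFinite45
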