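import Groth.Agent.Lib.HilbPos48c

/-!
# Geometric toolkit for (semi)stability of coherent sheaves (helper48)

`X` proper over a field `k`, `L` ample, `H : ProperFinHyp.Hyp` (discharged by `S0002`).

* polynomial bookkeeping: `alpha_add`, `alpha_sub`, `redLE_iff`, `redLT_iff`;
* `polyLE_and_alpha_eq` (S16340);
* purity: `dim_of_isPure`, `alpha_pos_of_isPure`;
* kernel / coimage of a morphism of coherent modules: coherence, Hilbert polynomials, (semi)stability inequalities;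
* `hom_eq_zero` (S15192), `mono_of_ne_zero` (S15193), `epi_of_ne_zero` (S15194), `isIso_of_ne_zero` (S15195).
-/

set_option autoImplicit false
set_option linter.style.haveILetI false
universe u
open CategoryTheory CategoryTheory.Limits AlgebraicGeometry TopologicalSpace Polynomial

namespace Groth.Agent.Lib.StabGeom48

open Groth.Agent.Lib Groth.Agent.Lib.HilbPoly48 Groth.Agent.Lib.H90DevHub2

/-! ### Polynomial bookkeeping -/

theorem alpha_add (d : ℕ) (P Q : ℚ[X]) :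
    StabCat.alpha d (P + Q) = StabCat.alpha d P + StabCat.alpha d Q := by
  unfold StabCat.alpha
  rw [coeff_add]; ring

theorem alpha_sub (d : ℕ) (P Q : ℚ[X]) :
    StabCat.alpha d (P - Q) = StabCat.alpha d P - StabCat.alpha d Q := by
  unfold StabCat.alpha
  rw [coeff_sub]; ring

theorem alpha_zero (d : ℕ) : StabCat.alpha d (0 : ℚ[X]) = 0 := by
  unfold StabCat.alpha
  rw [coeff_zero, mul_zero]

theorem redLE_iff {d : ℕ} {P Q : ℚ[X]} :
    StabCat.RedLE d P Q ↔ ∃ N : ℕ, ∀ m : ℕ, N ≤ m →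
      StabCat.alpha d Q * P.eval (m : ℚ) ≤ StabCat.alpha d P * Q.eval (m : ℚ) := by
  unfold StabCat.RedLE StabCat.PolyLE
  simp only [eval_smul, smul_eq_mul]

theorem redLT_iff {d : ℕ} {P Q : ℚ[X]} :
    StabCat.RedLT d P Q ↔ ∃ N : ℕ, ∀ m : ℕ, N ≤ m →
      StabCat.alpha d Q * P.eval (m : ℚ) < StabCat.alpha d P * Q.eval (m : ℚ) := by
  unfold StabCat.RedLT StabCat.PolyLT
  simp only [eval_smul, smul_eq_mul]

theorem redEq_eval {d : ℕ} {P Q : ℚ[X]} (h : StabCat.RedEq d P Q) (x : ℚ) :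
    StabCat.alpha d Q * P.eval x = StabCat.alpha d P * Q.eval x := by
  have := congrArg (fun R : ℚ[X] => R.eval x) h
  simpa only [eval_smul, smul_eq_mul] using this

theorem RedLT.redLE {d : ℕ} {P Q : ℚ[X]} (h : StabCat.RedLT d P Q) : StabCat.RedLE d P Q := by
  obtain ⟨N, hN⟩ := h
  exact ⟨N, fun m hm => (hN m hm).le⟩

theorem redLE_refl (d : ℕ) (P : ℚ[X]) : StabCat.RedLE d P P := ⟨0, fun _ _ => le_rfl⟩

section Proper

variable (H : ProperFinHyp.Hyp.{u})
variable (k : Type u) [Field k] (X : Scheme.{u}) [X.Over (Spec (CommRingCat.of k))]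
  [IsProper (X ↘ Spec (CommRingCat.of k))]

include H in
/-- **S16340.** -/
theorem polyLE_and_alpha_eq {L : X.Modules} (hL : CohB1.IsAmple L) (d : ℕ) {E E' : X.Modules}
    (hE : Coh.IsCoh E) (hE' : Coh.IsCoh E') (ι : E ⟶ E') [Mono ι]
    {pE pE' : ℚ[X]} (hpE : ShStab.IsHilbPoly k X L E pE) (hpE' : ShStab.IsHilbPoly k X L E' pE') :
    StabCat.PolyLE pE pE' ∧
      (topologicalKrullDim (CohB1.support (cokernel ι)) < (d : WithBot ℕ∞) →
        StabCat.alpha d pE = StabCat.alpha d pE') := by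
  refine ⟨polyLE_of_mono H k X hL ι hE hE' hpE hpE', fun hlt => ?_⟩
  haveI : E.IsQuasicoherent := hE.1
  have hC : Coh.IsCoh (cokernel ι) := H90OXModExact.isCoh_cokernel ι hE'
  have hPC := isHilbPoly_sub_left H k X hL.1 _ (H90DevTwo.shortExact_cokernel ι) hE hE' hC hpE hpE'
  have h0 := alpha_eq_zero_of_dim_lt k X H hL.1 hC d hlt hPC
  rw [alpha_sub] at h0
  linarith

/-! ### Purity -/

variable {X} in
theorem dim_of_isPure {E : X.Modules} {d : ℕ} (hp : ShStab.IsPure X E d) (hE : Coh.IsCoh E)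
    (h0 : ¬ IsZero E) : topologicalKrullDim (CohB1.support E) = (d : WithBot ℕ∞) :=
  hp E (𝟙 E) inferInstance hE h0

include H in
theorem alpha_pos_of_isPure {L : X.Modules} (hL : CohB1.IsAmple L) {E : X.Modules} {d : ℕ}
    (hp : ShStab.IsPure X E d) {F : X.Modules} (ι : F ⟶ E) [Mono ι] (hF : Coh.IsCoh F)
    (hF0 : ¬ IsZero F) {P : ℚ[X]} (hP : ShStab.IsHilbPoly k X L F P) : 0 < StabCat.alpha d P :=
  alpha_pos H k X hL hF d (hp F ι inferInstance hF hF0) hP

/-! ### Kernel and coimage of a morphism of coherent modules -/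

variable {X} in
theorem isCoh_kernel [IsLocallyNoetherian X] {F G : X.Modules} (φ : F ⟶ G) (hF : Coh.IsCoh F)
    (hG : Coh.IsCoh G) : Coh.IsCoh (kernel φ) :=
  haveI : G.IsQuasicoherent := hG.1
  H90OXModExact.isCoh_kernel φ hF

variable {X} in
theorem isCoh_coimage [IsLocallyNoetherian X] {F G : X.Modules} (φ : F ⟶ G) (hF : Coh.IsCoh F)
    (hG : Coh.IsCoh G) : Coh.IsCoh (Abelian.coimage φ) :=
  haveI : (kernel φ).IsQuasicoherent := (isCoh_kernel φ hF hG).1
  H90OXModExact.isCoh_cokernel (kernel.ι φ) hF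

variable {X} in
theorem eq_zero_of_isZero_coimage {F G : X.Modules} (φ : F ⟶ G) (h : IsZero (Abelian.coimage φ)) :
    φ = 0 := by
  rw [← Abelian.coimage.fac φ, h.eq_of_tgt (Abelian.coimage.π φ) 0, Limits.zero_comp]

variable {X} in
theorem eq_zero_of_isIso_kernel_ι {F G : X.Modules} (φ : F ⟶ G) (h : IsIso (kernel.ι φ)) : φ = 0 := by
  haveI := h
  rw [← cancel_epi (kernel.ι φ), kernel.condition, Limits.comp_zero]

include H in
theorem exists_isHilbPoly_of_mono {L : X.Modules} (hL : PicF.IsInvertible L) {A B : X.Modules}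
    (f : A ⟶ B) [Mono f] (hA : Coh.IsCoh A) {r : ℕ}
    (hr : topologicalKrullDim (CohB1.support B) ≤ (r : WithBot ℕ∞)) :
    ∃ P : ℚ[X], P.natDegree ≤ r ∧ ShStab.IsHilbPoly k X L A P :=
  exists_isHilbPoly k X H hL hA r ((DimDrop.topologicalKrullDim_mono (support_subset_of_mono f)).trans hr)

include H in
/-- Decomposition `P_F = P_K + P_I` for `φ : F ⟶ G`, `K = ker φ`, `I = coim φ`. -/
theorem exists_decomp {L : X.Modules} (hL : PicF.IsInvertible L) {F G : X.Modules} (hF : Coh.IsCoh F)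
    (hG : Coh.IsCoh G) (φ : F ⟶ G) {r : ℕ}
    (hr : topologicalKrullDim (CohB1.support F) ≤ (r : WithBot ℕ∞)) {pF : ℚ[X]}
    (hpF : ShStab.IsHilbPoly k X L F pF) :
    ∃ pK pI : ℚ[X], Coh.IsCoh (kernel φ) ∧ Coh.IsCoh (Abelian.coimage φ) ∧
      ShStab.IsHilbPoly k X L (kernel φ) pK ∧ ShStab.IsHilbPoly k X L (Abelian.coimage φ) pI ∧
      pF = pK + pI := by
  haveI := ParHilb48.isLocallyNoetherian k X
  have hK := isCoh_kernel φ hF hG
  have hI := isCoh_coimage φ hF hG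
  obtain ⟨pK, -, hpK⟩ := exists_isHilbPoly_of_mono H k X hL (kernel.ι φ) hK hr
  have hpI := isHilbPoly_sub_left H k X hL _ (H90DevTwo.shortExact_cokernel (kernel.ι φ)) hK hF hI
    hpK hpF
  exact ⟨pK, pF - pK, hK, hI, hpK, hpI, by ring⟩

variable {k X} in
/-- Semistability of the source bounds the kernel. -/
theorem redLE_kernel {L : X.Modules} {d : ℕ} {F G : X.Modules}
    (hss : StabCat.IsSS Coh.IsCoh (ShStab.IsHilbPoly k X L) d F) (φ : F ⟶ G) (hφ : φ ≠ 0)
    (hK : Coh.IsCoh (kernel φ)) {pK pF : ℚ[X]} (hpK : ShStab.IsHilbPoly k X L (kernel φ) pK)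
    (hpF : ShStab.IsHilbPoly k X L F pF) : StabCat.RedLE d pK pF := by
  by_cases hz : IsZero (kernel φ)
  · rw [isHilbPoly_unique hpK (isHilbPoly_zero k X L hz), redLE_iff]
    refine ⟨0, fun m _ => ?_⟩
    rw [alpha_zero, eval_zero, mul_zero, zero_mul]
  · exact hss _ (kernel.ι φ) inferInstance hK hz (fun h => hφ (eq_zero_of_isIso_kernel_ι φ h)) _ _ hpK hpF

variable {k X} in
/-- Stability of the source bounds a nonzero kernel strictly. -/
theorem redLT_kernel {L : X.Modules} {d : ℕ} {F G : X.Modules}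
    (hst : StabCat.IsSt Coh.IsCoh (ShStab.IsHilbPoly k X L) d F) (φ : F ⟶ G) (hφ : φ ≠ 0)
    (hK : Coh.IsCoh (kernel φ)) (hz : ¬ IsZero (kernel φ)) {pK pF : ℚ[X]}
    (hpK : ShStab.IsHilbPoly k X L (kernel φ) pK) (hpF : ShStab.IsHilbPoly k X L F pF) :
    StabCat.RedLT d pK pF :=
  hst _ (kernel.ι φ) inferInstance hK hz (fun h => hφ (eq_zero_of_isIso_kernel_ι φ h)) _ _ hpK hpF

variable {k X} in
/-- Semistability of the target bounds the image. -/
theorem redLE_coimage {L : X.Modules} {d : ℕ} {F G : X.Modules}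
    (hss : StabCat.IsSS Coh.IsCoh (ShStab.IsHilbPoly k X L) d G) (φ : F ⟶ G) (hφ : φ ≠ 0)
    (hI : Coh.IsCoh (Abelian.coimage φ)) {pI pG : ℚ[X]}
    (hpI : ShStab.IsHilbPoly k X L (Abelian.coimage φ) pI) (hpG : ShStab.IsHilbPoly k X L G pG) :
    StabCat.RedLE d pI pG := by
  by_cases hiso : IsIso (Abelian.factorThruCoimage φ)
  · haveI := hiso
    rw [isHilbPoly_unique hpG (isHilbPoly_congr (asIso (Abelian.factorThruCoimage φ)) hpI)]
    exact redLE_refl d pI
  · exact hss _ (Abelian.factorThruCoimage φ) inferInstance hI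
      (fun h => hφ (eq_zero_of_isZero_coimage φ h)) hiso _ _ hpI hpG

variable {k X} in
/-- Stability of the target bounds a proper image strictly. -/
theorem redLT_coimage {L : X.Modules} {d : ℕ} {F G : X.Modules}
    (hst : StabCat.IsSt Coh.IsCoh (ShStab.IsHilbPoly k X L) d G) (φ : F ⟶ G) (hφ : φ ≠ 0)
    (hI : Coh.IsCoh (Abelian.coimage φ)) (hiso : ¬ IsIso (Abelian.factorThruCoimage φ)) {pI pG : ℚ[X]}
    (hpI : ShStab.IsHilbPoly k X L (Abelian.coimage φ) pI) (hpG : ShStab.IsHilbPoly k X L G pG) :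
    StabCat.RedLT d pI pG :=
  hst _ (Abelian.factorThruCoimage φ) inferInstance hI
    (fun h => hφ (eq_zero_of_isZero_coimage φ h)) hiso _ _ hpI hpG

/-! ### Numeric seesaw -/

theorem seesaw_le {aK aI aG kk i g : ℚ} (h1 : (aK + aI) * kk ≤ aK * (kk + i)) (h2 : aG * i ≤ aI * g)
    (haI : 0 < aI) (haF : 0 ≤ aK + aI) (haG : 0 ≤ aG) : aG * (kk + i) ≤ (aK + aI) * g := by
  have e1 : aI * kk ≤ aK * i := by linarith
  have e2 : aI * (kk + i) ≤ (aK + aI) * i := by linarith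
  have e3 : aG * (aI * (kk + i)) ≤ aG * ((aK + aI) * i) := mul_le_mul_of_nonneg_left e2 haG
  have e4 : (aK + aI) * (aG * i) ≤ (aK + aI) * (aI * g) := mul_le_mul_of_nonneg_left h2 haF
  have e5 : aI * (aG * (kk + i)) ≤ aI * ((aK + aI) * g) := by linarith
  exact le_of_mul_le_mul_left e5 haI

theorem seesaw_lt_left {aK aI aG kk i g : ℚ} (h1 : (aK + aI) * kk < aK * (kk + i))
    (h2 : aG * i ≤ aI * g) (haI : 0 < aI) (haF : 0 ≤ aK + aI) (haG : 0 < aG) :
    aG * (kk + i) < (aK + aI) * g := by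
  have e2 : aI * (kk + i) < (aK + aI) * i := by linarith
  have e3 : aG * (aI * (kk + i)) < aG * ((aK + aI) * i) := mul_lt_mul_of_pos_left e2 haG
  have e4 : (aK + aI) * (aG * i) ≤ (aK + aI) * (aI * g) := mul_le_mul_of_nonneg_left h2 haF
  have e5 : aI * (aG * (kk + i)) < aI * ((aK + aI) * g) := by linarith
  exact lt_of_mul_lt_mul_left e5 haI.le

theorem seesaw_lt_right {aK aI aG kk i g : ℚ} (h1 : (aK + aI) * kk ≤ aK * (kk + i))
    (h2 : aG * i < aI * g) (haI : 0 < aI) (haF : 0 < aK + aI) (haG : 0 ≤ aG) :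
    aG * (kk + i) < (aK + aI) * g := by
  have e2 : aI * (kk + i) ≤ (aK + aI) * i := by linarith
  have e3 : aG * (aI * (kk + i)) ≤ aG * ((aK + aI) * i) := mul_le_mul_of_nonneg_left e2 haG
  have e4 : (aK + aI) * (aG * i) < (aK + aI) * (aI * g) := mul_lt_mul_of_pos_left h2 haF
  have e5 : aI * (aG * (kk + i)) < aI * ((aK + aI) * g) := by linarith
  exact lt_of_mul_lt_mul_left e5 haI.le

/-! ### Morphisms between (semi)stable sheaves -/

variable {k X} in
theorem IsStable.isSemistable {L E : X.Modules} {d : ℕ} (h : ShStab.IsStable k X L E d) :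
    ShStab.IsSemistable k X L E d :=
  ⟨h.1, h.2.1, h.2.2.1, fun F ι hι hF hF0 hiso pF pE hpF hpE =>
    RedLT.redLE (h.2.2.2 F ι hι hF hF0 hiso pF pE hpF hpE)⟩

include H in
/-- Common set-up: for `φ : F ⟶ G` nonzero between coherent pure modules of dimension `d`. -/
theorem setup {L : X.Modules} (hL : CohB1.IsAmple L) {d : ℕ} {F G : X.Modules}
    (hFc : Coh.IsCoh F) (hF0 : ¬ IsZero F) (hFp : ShStab.IsPure X F d)
    (hGc : Coh.IsCoh G) (hG0 : ¬ IsZero G) (hGp : ShStab.IsPure X G d)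
    {pF pG : ℚ[X]} (hpF : ShStab.IsHilbPoly k X L F pF) (hpG : ShStab.IsHilbPoly k X L G pG)
    (φ : F ⟶ G) (hφ : φ ≠ 0) :
    ∃ pK pI : ℚ[X], Coh.IsCoh (kernel φ) ∧ Coh.IsCoh (Abelian.coimage φ) ∧
      ShStab.IsHilbPoly k X L (kernel φ) pK ∧ ShStab.IsHilbPoly k X L (Abelian.coimage φ) pI ∧
      pF = pK + pI ∧ 0 < StabCat.alpha d pI ∧ 0 < StabCat.alpha d pF ∧ 0 < StabCat.alpha d pG ∧
      0 ≤ StabCat.alpha d pK := by
  have hdF := dim_of_isPure hFp hFc hF0
  obtain ⟨pK, pI, hK, hI, hpK, hpI, hsum⟩ := exists_decomp H k X hL.1 hFc hGc φ hdF.le hpF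
  have hI0 : ¬ IsZero (Abelian.coimage φ) := fun h => hφ (eq_zero_of_isZero_coimage φ h)
  refine ⟨pK, pI, hK, hI, hpK, hpI, hsum,
    alpha_pos_of_isPure H k X hL hGp (Abelian.factorThruCoimage φ) hI hI0 hpI,
    alpha_pos_of_isPure H k X hL hFp (𝟙 F) hFc hF0 hpF,
    alpha_pos_of_isPure H k X hL hGp (𝟙 G) hGc hG0 hpG, ?_⟩
  have h1 : topologicalKrullDim (CohB1.support (kernel φ)) ≤ (d : WithBot ℕ∞) :=
    (DimDrop.topologicalKrullDim_mono (support_subset_of_mono (kernel.ι φ))).trans hdF.le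
  have := coeff_nonneg H k X hL hK d h1 hpK
  unfold StabCat.alpha
  positivity

include H in
/-- **S15192.** -/
theorem hom_eq_zero {L : X.Modules} (hL : CohB1.IsAmple L) (d : ℕ) {F G : X.Modules}
    (hF : ShStab.IsSemistable k X L F d) (hG : ShStab.IsSemistable k X L G d)
    {pF pG : ℚ[X]} (hpF : ShStab.IsHilbPoly k X L F pF) (hpG : ShStab.IsHilbPoly k X L G pG)
    (hlt : StabCat.RedLT d pG pF) (φ : F ⟶ G) : φ = 0 := by
  by_contra hφ
  obtain ⟨hFc, hF0, hFp, hFss⟩ := hF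
  obtain ⟨hGc, hG0, hGp, hGss⟩ := hG
  obtain ⟨pK, pI, hK, hI, hpK, hpI, hsum, haI, haF, haG, haK⟩ :=
    setup H k X hL hFc hF0 hFp hGc hG0 hGp hpF hpG φ hφ
  have h1 := redLE_kernel hFss φ hφ hK hpK hpF
  have h2 := redLE_coimage hGss φ hφ hI hpI hpG
  rw [redLE_iff] at h1 h2
  rw [redLT_iff] at hlt
  obtain ⟨N1, h1⟩ := h1
  obtain ⟨N2, h2⟩ := h2
  obtain ⟨N3, h3⟩ := hlt
  have e1 := h1 (max N1 (max N2 N3)) (le_max_left _ _)
  have e2 := h2 (max N1 (max N2 N3)) ((le_max_left _ _).trans (le_max_right _ _))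
  have e3 := h3 (max N1 (max N2 N3)) ((le_max_right _ _).trans (le_max_right _ _))
  subst hsum
  rw [alpha_add] at e1 e3 haF
  rw [eval_add] at e1 e3
  exact absurd (seesaw_le e1 e2 haI haF.le haG.le) (not_le.mpr e3)

include H in
/-- **S15193.** -/
theorem mono_of_ne_zero {L : X.Modules} (hL : CohB1.IsAmple L) (d : ℕ) {F G : X.Modules}
    (hF : ShStab.IsStable k X L F d) (hG : ShStab.IsSemistable k X L G d)
    {pF pG : ℚ[X]} (hpF : ShStab.IsHilbPoly k X L F pF) (hpG : ShStab.IsHilbPoly k X L G pG)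
    (heq : StabCat.RedEq d pF pG) (φ : F ⟶ G) (hφ : φ ≠ 0) : Mono φ := by
  obtain ⟨hFc, hF0, hFp, hFst⟩ := hF
  obtain ⟨hGc, hG0, hGp, hGss⟩ := hG
  apply Preadditive.mono_of_isZero_kernel
  by_contra hz
  obtain ⟨pK, pI, hK, hI, hpK, hpI, hsum, haI, haF, haG, haK⟩ :=
    setup H k X hL hFc hF0 hFp hGc hG0 hGp hpF hpG φ hφ
  have h1 := redLT_kernel hFst φ hφ hK hz hpK hpF
  have h2 := redLE_coimage hGss φ hφ hI hpI hpG
  rw [redLE_iff] at h2
  rw [redLT_iff] at h1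
  obtain ⟨N1, h1⟩ := h1
  obtain ⟨N2, h2⟩ := h2
  have e1 := h1 (max N1 N2) (le_max_left _ _)
  have e2 := h2 (max N1 N2) (le_max_right _ _)
  have e3 := redEq_eval heq ((max N1 N2 : ℕ) : ℚ)
  subst hsum
  rw [alpha_add] at e1 e3 haF
  rw [eval_add] at e1 e3
  exact absurd (seesaw_lt_left e1 e2 haI haF.le haG) (not_lt.mpr e3.ge)

include H in
/-- **S15194.** -/
theorem epi_of_ne_zero {L : X.Modules} (hL : CohB1.IsAmple L) (d : ℕ) {F G : X.Modules}
    (hF : ShStab.IsSemistable k X L F d) (hG : ShStab.IsStable k X L G d)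
    {pF pG : ℚ[X]} (hpF : ShStab.IsHilbPoly k X L F pF) (hpG : ShStab.IsHilbPoly k X L G pG)
    (heq : StabCat.RedEq d pF pG) (φ : F ⟶ G) (hφ : φ ≠ 0) : Epi φ := by
  obtain ⟨hFc, hF0, hFp, hFss⟩ := hF
  obtain ⟨hGc, hG0, hGp, hGst⟩ := hG
  have hiso : IsIso (Abelian.factorThruCoimage φ) := by
    by_contra hiso
    obtain ⟨pK, pI, hK, hI, hpK, hpI, hsum, haI, haF, haG, haK⟩ :=
      setup H k X hL hFc hF0 hFp hGc hG0 hGp hpF hpG φ hφ
    have h1 := redLE_kernel hFss φ hφ hK hpK hpF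
    have h2 := redLT_coimage hGst φ hφ hI hiso hpI hpG
    rw [redLE_iff] at h1
    rw [redLT_iff] at h2
    obtain ⟨N1, h1⟩ := h1
    obtain ⟨N2, h2⟩ := h2
    have e1 := h1 (max N1 N2) (le_max_left _ _)
    have e2 := h2 (max N1 N2) (le_max_right _ _)
    have e3 := redEq_eval heq ((max N1 N2 : ℕ) : ℚ)
    subst hsum
    rw [alpha_add] at e1 e3 haF
    rw [eval_add] at e1 e3
    exact absurd (seesaw_lt_right e1 e2 haI haF haG.le) (not_lt.mpr e3.ge)
  haveI := hiso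
  rw [← Abelian.coimage.fac φ]
  exact epi_comp _ _

variable {k X} in
theorem redEq_refl (d : ℕ) (P : ℚ[X]) : StabCat.RedEq d P P := rfl

include H in
/-- **S15195.** -/
theorem isIso_of_ne_zero {L : X.Modules} (hL : CohB1.IsAmple L) (d : ℕ) {F G : X.Modules}
    (hF : ShStab.IsSemistable k X L F d) (hG : ShStab.IsSemistable k X L G d)
    (hst : ShStab.IsStable k X L F d ∨ ShStab.IsStable k X L G d)
    {P : ℚ[X]} (hpF : ShStab.IsHilbPoly k X L F P) (hpG : ShStab.IsHilbPoly k X L G P)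
    (φ : F ⟶ G) (hφ : φ ≠ 0) : IsIso φ := by
  haveI := ParHilb48.isLocallyNoetherian k X
  rcases hst with hst | hst
  · haveI := mono_of_ne_zero H k X hL d hst hG hpF hpG (redEq_refl d P) φ hφ
    haveI : F.IsQuasicoherent := hF.1.1
    have hC : Coh.IsCoh (cokernel φ) := H90OXModExact.isCoh_cokernel φ hG.1
    have hPC := isHilbPoly_sub_left H k X hL.1 _ (H90DevTwo.shortExact_cokernel φ) hF.1 hG.1 hC hpF hpG
    rw [sub_self] at hPC
    have hz : IsZero (cokernel φ) := by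
      by_contra hz
      obtain ⟨N, hN⟩ := polyLT_zero H k X hL hC hz hPC
      exact lt_irrefl _ (hN N le_rfl)
    haveI : Epi φ := Preadditive.epi_of_isZero_cokernel φ hz
    exact isIso_of_mono_of_epi φ
  · haveI := epi_of_ne_zero H k X hL d hF hst hpF hpG (redEq_refl d P) φ hφ
    have hK : Coh.IsCoh (kernel φ) := isCoh_kernel φ hF.1 hG.1
    have hS : (ShortComplex.mk (kernel.ι φ) φ (kernel.condition φ)).ShortExact :=
      { exact := ShortComplex.exact_kernel φ }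
    have hPK := isHilbPoly_sub_right H k X hL.1 _ hS hK hF.1 hG.1 hpF hpG
    rw [sub_self] at hPK
    have hz : IsZero (kernel φ) := by
      by_contra hz
      obtain ⟨N, hN⟩ := polyLT_zero H k X hL hK hz hPK
      exact lt_irrefl _ (hN N le_rfl)
    haveI : Mono φ := Preadditive.mono_of_isZero_kernel φ hz
    exact isIso_of_mono_of_epi φ

include H in
/-- Existence of a Hilbert polynomial for a coherent pure nonzero module. -/
theorem exists_isHilbPoly_of_isPure {L : X.Modules} (hL : CohB1.IsAmple L) {d : ℕ} {E : X.Modules}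
    (hE : Coh.IsCoh E) (h0 : ¬ IsZero E) (hp : ShStab.IsPure X E d) :
    ∃ P : ℚ[X], P.natDegree ≤ d ∧ ShStab.IsHilbPoly k X L E P :=
  exists_isHilbPoly k X H hL.1 hE d (dim_of_isPure hp hE h0).le

include H in
/-- **S15204.** -/
theorem isIso_endo_of_isStable {L : X.Modules} (hL : CohB1.IsAmple L) (d : ℕ) {E : X.Modules}
    (hE : ShStab.IsStable k X L E d) (φ : E ⟶ E) (hφ : φ ≠ 0) : IsIso φ := by
  obtain ⟨P, -, hP⟩ := exists_isHilbPoly_of_isPure H k X hL hE.1 hE.2.1 hE.2.2.1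
  exact isIso_of_ne_zero H k X hL d (IsStable.isSemistable hE) (IsStable.isSemistable hE) (Or.inl hE)
    hP hP φ hφ

end Proper

end Groth.Agent.Lib.StabGeom48
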