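import Groth.Agent.Lib.StabGeom48

/-!
# Geometric toolkit for (semi)stability, part b (helper48): purity from the inequalities

* `isPure_of_isSS` : `E` coherent with `dim Supp E = d` satisfying the semistability inequalities is pure.
* `isSemistable_iff`, `isStable_iff` (S15213, S15214).
-/

set_option autoImplicit false
set_option linter.style.haveILetI false
universe u
open CategoryTheory CategoryTheory.Limits AlgebraicGeometry TopologicalSpace Polynomial

namespace Groth.Agent.Lib.StabGeom48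

open Groth.Agent.Lib Groth.Agent.Lib.HilbPoly48 Groth.Agent.Lib.H90DevHub2

section Proper

variable (H : ProperFinHyp.Hyp.{u})
variable (k : Type u) [Field k] (X : Scheme.{u}) [X.Over (Spec (CommRingCat.of k))]
  [IsProper (X ↘ Spec (CommRingCat.of k))]

include H in
theorem isPure_of_isSS {L : X.Modules} (hL : CohB1.IsAmple L) {d : ℕ} {E : X.Modules}
    (hE : Coh.IsCoh E) (hdim : topologicalKrullDim (CohB1.support E) = (d : WithBot ℕ∞))
    (hss : StabCat.IsSS Coh.IsCoh (ShStab.IsHilbPoly k X L) d E) : ShStab.IsPure X E d := by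
  intro F ι hι hF hF0
  haveI := hι
  have hle : topologicalKrullDim (CohB1.support F) ≤ (d : WithBot ℕ∞) :=
    (DimDrop.topologicalKrullDim_mono (support_subset_of_mono ι)).trans hdim.le
  by_contra hne
  have hlt := lt_of_le_of_ne hle hne
  obtain ⟨pF, -, hpF⟩ := exists_isHilbPoly k X H hL.1 hF d hle
  obtain ⟨pE, -, hpE⟩ := exists_isHilbPoly k X H hL.1 hE d hdim.le
  have hiso : ¬ IsIso ι := by
    intro hiso
    haveI := hiso
    have h1 := DimDrop.topologicalKrullDim_mono (support_subset_of_mono (inv ι))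
    rw [hdim] at h1
    exact absurd (lt_of_le_of_lt h1 hlt) (lt_irrefl _)
  have h1 := hss F ι hι hF hF0 hiso pF pE hpF hpE
  rw [redLE_iff] at h1
  obtain ⟨N1, h1⟩ := h1
  obtain ⟨N2, h2⟩ := polyLT_zero H k X hL hF hF0 hpF
  have e1 := h1 (max N1 N2) (le_max_left _ _)
  have e2 := h2 (max N1 N2) (le_max_right _ _)
  rw [alpha_eq_zero_of_dim_lt k X H hL.1 hF d hlt hpF, zero_mul] at e1
  rw [eval_zero] at e2
  have haE := alpha_pos H k X hL hE d hdim hpE
  exact absurd (mul_pos haE e2) (not_lt.mpr e1)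

include H in
/-- **S15213.** -/
theorem isSemistable_iff {L : X.Modules} (hL : CohB1.IsAmple L) (d : ℕ) {E : X.Modules}
    (hE : Coh.IsCoh E) (h0 : ¬ IsZero E)
    (hdim : topologicalKrullDim (CohB1.support E) = (d : WithBot ℕ∞)) :
    ShStab.IsSemistable k X L E d ↔ StabCat.IsSS Coh.IsCoh (ShStab.IsHilbPoly k X L) d E :=
  ⟨fun h => h.2.2.2, fun h => ⟨hE, h0, isPure_of_isSS H k X hL hE hdim h, h⟩⟩

include H in
/-- **S15214.** -/
theorem isStable_iff {L : X.Modules} (hL : CohB1.IsAmple L) (d : ℕ) {E : X.Modules}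
    (hE : Coh.IsCoh E) (h0 : ¬ IsZero E)
    (hdim : topologicalKrullDim (CohB1.support E) = (d : WithBot ℕ∞)) :
    ShStab.IsStable k X L E d ↔ StabCat.IsSt Coh.IsCoh (ShStab.IsHilbPoly k X L) d E :=
  ⟨fun h => h.2.2.2, fun h => ⟨hE, h0, isPure_of_isSS H k X hL hE hdim
    (fun F ι hι hF hF0 hiso pF pE hpF hpE => RedLT.redLE (h F ι hι hF hF0 hiso pF pE hpF hpE)), h⟩⟩

end Proper

end Groth.Agent.Lib.StabGeom48
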