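import Groth.Agent.Lib.StabGeom48d

/-!
# Geometric toolkit for (semi)stability, part e (helper48): slope (semi)stability

* `hatSlope_le_of_isMuSS` : for a slope-semistable `G` every coherent submodule of positive multiplicity has smaller
  `hatSlope` (including submodules of full multiplicity).
* `hom_eq_zero_of_mu` (S18965).
-/

set_option autoImplicit false
set_option linter.style.haveILetI false
universe u
open CategoryTheory CategoryTheory.Limits AlgebraicGeometry TopologicalSpace Polynomial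

namespace Groth.Agent.Lib.StabGeom48

open Groth.Agent.Lib Groth.Agent.Lib.HilbPoly48 Groth.Agent.Lib.H90DevHub2 Groth.Agent.Lib.TopPart48
  Groth.Agent.Lib.PosPoly48

/-- `deg P ≤ n`, `α_n(P) = 0`, `P ≥ 0` eventually ⇒ `α_{n-1}(P) ≥ 0`. -/
theorem alpha_pred_nonneg {n : ℕ} {P : ℚ[X]} (hdeg : P.natDegree ≤ n)
    (ha : StabCat.alpha n P = 0) (h : StabCat.PolyLE 0 P) : 0 ≤ StabCat.alpha (n - 1) P := by
  have hc : P.coeff n = 0 := by
    unfold StabCat.alpha at ha
    rcases mul_eq_zero.mp ha with h1 | h1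
    · exact absurd h1 (by exact_mod_cast n.factorial_ne_zero)
    · exact h1
  have hdeg' : P.natDegree ≤ n - 1 := by
    rw [natDegree_le_iff_coeff_eq_zero]
    intro N hN
    rcases Nat.lt_or_ge n N with h1 | h1
    · exact coeff_eq_zero_of_natDegree_lt (lt_of_le_of_lt hdeg h1)
    · have : N = n := by omega
      rw [this]; exact hc
  have := coeff_nonneg_of_polyLE_zero hdeg' h
  unfold StabCat.alpha
  positivity

section Proper

variable (H : ProperFinHyp.Hyp.{u})
variable (k : Type u) [Field k] (X : Scheme.{u}) [X.Over (Spec (CommRingCat.of k))]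
  [IsProper (X ↘ Spec (CommRingCat.of k))]

include H in
/-- In a slope-semistable `G`, every coherent submodule of positive multiplicity has `hatSlope ≤ hatSlope G`. -/
theorem hatSlope_le_of_isMuSS {L : X.Modules} (hL : CohB1.IsAmple L) {n : ℕ} {G : X.Modules}
    (hGc : Coh.IsCoh G) (hdim : topologicalKrullDim (CohB1.support G) ≤ (n : WithBot ℕ∞))
    (hss : StabCat.IsMuSS Coh.IsCoh (ShStab.IsHilbPoly k X L) n G) {I : X.Modules} (j : I ⟶ G) [Mono j]
    (hI : Coh.IsCoh I) {pI pG : ℚ[X]} (hpI : ShStab.IsHilbPoly k X L I pI)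
    (hpG : ShStab.IsHilbPoly k X L G pG) (haI : 0 < StabCat.alpha n pI) :
    StabCat.hatSlope n pI ≤ StabCat.hatSlope n pG := by
  rcases lt_or_eq_of_le (alpha_le_of_mono H k X hL hGc hdim j hI hpI hpG) with hlt | heq
  · exact hss I j inferInstance hI pI pG hpI hpG haI hlt
  · haveI : I.IsQuasicoherent := hI.1
    have hC : Coh.IsCoh (cokernel j) := H90OXModExact.isCoh_cokernel j hGc
    have hPC := isHilbPoly_sub_left H k X hL.1 _ (H90DevTwo.shortExact_cokernel j) hI hGc hC hpI hpG
    have hdC : topologicalKrullDim (CohB1.support (cokernel j)) ≤ (n : WithBot ℕ∞) :=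
      (DimDrop.topologicalKrullDim_mono (support_subset_of_epi (cokernel.π j))).trans hdim
    have hdeg := natDegree_le_of_isHilbPoly k X H hL.1 hC n hdC hPC
    have h0 : StabCat.alpha n (pG - pI) = 0 := by rw [alpha_sub, heq, sub_self]
    have h1 := alpha_pred_nonneg hdeg h0 (polyLE_zero k X hL hC hPC)
    rw [alpha_sub] at h1
    unfold StabCat.hatSlope
    rw [heq]
    exact div_le_div_of_nonneg_right (by linarith) (heq ▸ haI.le)

include H in
/-- **S18965.** -/
theorem hom_eq_zero_of_mu {L : X.Modules} (hL : CohB1.IsAmple L) (n : ℕ) {F G : X.Modules}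
    (hFt : ShStab.IsPure X F n) (hGt : ShStab.IsPure X G n)
    (hF : ShStab.IsMuSemistable k X L F n) (hG : ShStab.IsMuSemistable k X L G n)
    {pF pG : ℚ[X]} (hpF : ShStab.IsHilbPoly k X L F pF) (hpG : ShStab.IsHilbPoly k X L G pG)
    (hlt : StabCat.hatSlope n pG < StabCat.hatSlope n pF) (φ : F ⟶ G) : φ = 0 := by
  by_contra hφ
  obtain ⟨hFc, hF0, hFd, -, hFss⟩ := hF
  obtain ⟨hGc, hG0, hGd, -, hGss⟩ := hG
  obtain ⟨pK, pI, hK, hI, hpK, hpI, hsum, haI, haF, haG, haK⟩ :=
    setup H k X hL hFc hF0 hFt hGc hG0 hGt hpF hpG φ hφ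
  have h1 : StabCat.hatSlope n pI ≤ StabCat.hatSlope n pG :=
    hatSlope_le_of_isMuSS H k X hL hGc hGd.le hGss (Abelian.factorThruCoimage φ) hI hpI hpG haI
  have h2 : StabCat.hatSlope n pF ≤ StabCat.hatSlope n pI := by
    by_cases hz : IsZero (kernel φ)
    · rw [hsum, isHilbPoly_unique hpK (isHilbPoly_zero k X L hz), zero_add]
    · have haK' : 0 < StabCat.alpha n pK := alpha_pos_of_isPure H k X hL hFt (kernel.ι φ) hK hz hpK
      have hKF : StabCat.alpha n pK < StabCat.alpha n pF := by
        rw [hsum, alpha_add]; linarith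
      have h3 := hFss _ (kernel.ι φ) inferInstance hK pK pF hpK hpF haK' hKF
      unfold StabCat.hatSlope at h3 ⊢
      rw [div_le_div_iff₀ haK' haF] at h3
      rw [div_le_div_iff₀ haF haI]
      rw [hsum, alpha_add, alpha_add] at h3 ⊢
      nlinarith [h3]
  exact absurd (h2.trans h1) (not_le.mpr hlt)

end Proper

end Groth.Agent.Lib.StabGeom48
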