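import Groth.Agent.Lib.StabGeom48d

/-!
# Geometric toolkit for (semi)stability, part g (helper48): the abelian category of semistable sheaves
with a fixed reduced Hilbert polynomial

* `isSemistable_of_sub_redEq`, `isSemistable_of_quotient_redEq`;
* `kernel_cokernel_semistable` (S15272).
-/

set_option autoImplicit false
set_option linter.style.haveILetI false
universe u
open CategoryTheory CategoryTheory.Limits AlgebraicGeometry TopologicalSpace Polynomial

namespace Groth.Agent.Lib.StabGeom48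

open Groth.Agent.Lib Groth.Agent.Lib.HilbPoly48 Groth.Agent.Lib.H90DevHub2 Groth.Agent.Lib.TopPart48

theorem poly_eq_of_eventually_eq {P Q : ℚ[X]}
    (h : ∃ N : ℕ, ∀ m : ℕ, N ≤ m → P.eval (m : ℚ) = Q.eval (m : ℚ)) : P = Q := by
  obtain ⟨N, hN⟩ := h
  refine Polynomial.eq_of_infinite_eval_eq P Q ?_
  refine Set.infinite_of_injective_forall_mem (f := fun m : ℕ => ((m + N : ℕ) : ℚ)) ?_ ?_
  · intro a b hab
    have h1 : ((a + N : ℕ) : ℚ) = ((b + N : ℕ) : ℚ) := hab
    have := Nat.cast_injective h1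
    omega
  · intro m
    exact hN (m + N) (Nat.le_add_left _ _)

theorem redEq_iff {d : ℕ} {P Q : ℚ[X]} :
    StabCat.RedEq d P Q ↔ StabCat.alpha d Q • P = StabCat.alpha d P • Q := Iff.rfl

section Proper

variable (H : ProperFinHyp.Hyp.{u})
variable (k : Type u) [Field k] (X : Scheme.{u}) [X.Over (Spec (CommRingCat.of k))]
  [IsProper (X ↘ Spec (CommRingCat.of k))]

include H in
/-- A nonzero coherent submodule of a semistable sheaf with the same reduced Hilbert polynomial is semistable. -/
theorem isSemistable_of_sub_redEq {L : X.Modules} (hL : CohB1.IsAmple L) {d : ℕ} {E K : X.Modules}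
    (hE : ShStab.IsSemistable k X L E d) (κ : K ⟶ E) [Mono κ] (hK : Coh.IsCoh K) (hK0 : ¬ IsZero K)
    {pK pE : ℚ[X]} (hpK : ShStab.IsHilbPoly k X L K pK) (hpE : ShStab.IsHilbPoly k X L E pE)
    (heq : StabCat.RedEq d pK pE) : ShStab.IsSemistable k X L K d := by
  obtain ⟨hEc, hE0, hEp, hEss⟩ := hE
  have haE : 0 < StabCat.alpha d pE := alpha_pos_of_isPure H k X hL hEp (𝟙 E) hEc hE0 hpE
  have haK : 0 < StabCat.alpha d pK := alpha_pos_of_isPure H k X hL hEp κ hK hK0 hpK
  refine ⟨hK, hK0, fun G g hg hG hG0 => ?_, ?_⟩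
  · haveI := hg
    exact hEp G (g ≫ κ) (mono_comp _ _) hG hG0
  · intro G g hg hG hG0 hiso pG pK' hpG hpK'
    haveI := hg
    rw [isHilbPoly_unique hpK' hpK]
    have hnotiso : ¬ IsIso (g ≫ κ) := by
      intro h
      haveI := h
      haveI : Epi κ := epi_of_epi g κ
      haveI : IsIso κ := isIso_of_mono_of_epi κ
      exact hiso (IsIso.of_isIso_comp_right g κ)
    have h1 := hEss G (g ≫ κ) (mono_comp _ _) hG hG0 hnotiso pG pE hpG hpE
    rw [redLE_iff] at h1 ⊢
    obtain ⟨N, hN⟩ := h1
    refine ⟨N, fun m hm => ?_⟩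
    have e1 := hN m hm
    have e2 := redEq_eval heq (m : ℚ)
    have e3 : StabCat.alpha d pE * (StabCat.alpha d pK * pG.eval (m : ℚ)) ≤
        StabCat.alpha d pE * (StabCat.alpha d pG * pK.eval (m : ℚ)) := by
      have := mul_le_mul_of_nonneg_left e1 haK.le
      calc StabCat.alpha d pE * (StabCat.alpha d pK * pG.eval (m : ℚ))
          = StabCat.alpha d pK * (StabCat.alpha d pE * pG.eval (m : ℚ)) := by ring
        _ ≤ StabCat.alpha d pK * (StabCat.alpha d pG * pE.eval (m : ℚ)) := this
        _ = StabCat.alpha d pG * (StabCat.alpha d pK * pE.eval (m : ℚ)) := by ring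
        _ = StabCat.alpha d pG * (StabCat.alpha d pE * pK.eval (m : ℚ)) := by rw [← e2]
        _ = StabCat.alpha d pE * (StabCat.alpha d pG * pK.eval (m : ℚ)) := by ring
    exact le_of_mul_le_mul_left e3 haE

include H in
/-- In a quotient `Q` of a semistable `F` with the same reduced Hilbert polynomial, every nonzero coherent
submodule `G` of `Q` satisfies `p(G) ≤ p(F)`. -/
theorem redLE_sub_quotient {L : X.Modules} (hL : CohB1.IsAmple L) {d : ℕ} {F Q : X.Modules}
    (hF : ShStab.IsSemistable k X L F d) (π : F ⟶ Q) [Epi π] (hQ : Coh.IsCoh Q)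
    {pQ pF : ℚ[X]} (hpQ : ShStab.IsHilbPoly k X L Q pQ) (hpF : ShStab.IsHilbPoly k X L F pF)
    (heq : StabCat.RedEq d pQ pF) {G : X.Modules} (g : G ⟶ Q) [Mono g] (hG : Coh.IsCoh G)
    (hG0 : ¬ IsZero G) {pG : ℚ[X]} (hpG : ShStab.IsHilbPoly k X L G pG) : StabCat.RedLE d pG pF := by
  haveI := ParHilb48.isLocallyNoetherian k X
  obtain ⟨hFc, hF0, hFp, hFss⟩ := hF
  haveI : G.IsQuasicoherent := hG.1
  have hRc : Coh.IsCoh (cokernel g) := H90OXModExact.isCoh_cokernel g hQ
  have hpR := isHilbPoly_sub_left H k X hL.1 _ (H90DevTwo.shortExact_cokernel g) hG hQ hRc hpG hpQ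
  let ρ : F ⟶ cokernel g := π ≫ cokernel.π g
  haveI : Epi ρ := epi_comp _ _
  have hG'c : Coh.IsCoh (kernel ρ) := isCoh_kernel ρ hFc hRc
  have hS' : (ShortComplex.mk (kernel.ι ρ) ρ (kernel.condition ρ)).ShortExact :=
    { exact := ShortComplex.exact_kernel ρ }
  have hpG' := isHilbPoly_sub_right H k X hL.1 _ hS' hG'c hFc hRc hpF hpR
  -- the kernel of `π`
  have hNc : Coh.IsCoh (kernel π) := isCoh_kernel π hFc hQ
  have hSN : (ShortComplex.mk (kernel.ι π) π (kernel.condition π)).ShortExact :=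
    { exact := ShortComplex.exact_kernel π }
  have hpN := isHilbPoly_sub_right H k X hL.1 _ hSN hNc hFc hQ hpF hpQ
  obtain ⟨N1, h1⟩ := polyLE_zero k X hL hNc hpN
  obtain ⟨N2, h2⟩ := polyLT_zero H k X hL hG hG0 hpG
  have hG'0 : ¬ IsZero (kernel ρ) := by
    intro hz
    have h0 := isHilbPoly_unique hpG' (isHilbPoly_zero k X L hz)
    have e1 := h1 (max N1 N2) (le_max_left _ _)
    have e2 := h2 (max N1 N2) (le_max_right _ _)
    have e3 := congrArg (fun R : ℚ[X] => R.eval ((max N1 N2 : ℕ) : ℚ)) h0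
    simp only [eval_sub, eval_zero] at e1 e2 e3
    linarith
  rw [redLE_iff]
  by_cases hiso : IsIso (kernel.ι ρ)
  · haveI := hiso
    have h0 : pF = pF - (pQ - pG) := isHilbPoly_unique hpF (isHilbPoly_congr (asIso (kernel.ι ρ)) hpG')
    have h3 : pG = pQ := by
      have : pQ - pG = 0 := by
        have := sub_eq_self.mp h0.symm
        exact this
      exact (sub_eq_zero.mp this).symm
    refine ⟨0, fun m _ => ?_⟩
    rw [h3]
    exact (redEq_eval heq (m : ℚ)).le
  · have h3 := hFss _ (kernel.ι ρ) inferInstance hG'c hG'0 hiso _ _ hpG' hpF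
    rw [redLE_iff] at h3
    obtain ⟨N3, h3⟩ := h3
    refine ⟨N3, fun m hm => ?_⟩
    have e1 := h3 m hm
    have e2 := redEq_eval heq (m : ℚ)
    rw [alpha_sub, alpha_sub, eval_sub, eval_sub] at e1
    linarith

include H in
/-- A nonzero coherent quotient of a semistable sheaf with the same reduced Hilbert polynomial is semistable. -/
theorem isSemistable_of_quotient_redEq {L : X.Modules} (hL : CohB1.IsAmple L) {d : ℕ} {F Q : X.Modules}
    (hF : ShStab.IsSemistable k X L F d) (π : F ⟶ Q) [Epi π] (hQ : Coh.IsCoh Q) (hQ0 : ¬ IsZero Q)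
    {pQ pF : ℚ[X]} (hpQ : ShStab.IsHilbPoly k X L Q pQ) (hpF : ShStab.IsHilbPoly k X L F pF)
    (heq : StabCat.RedEq d pQ pF) : ShStab.IsSemistable k X L Q d := by
  have hFc := hF.1
  have hF0 := hF.2.1
  have hFp := hF.2.2.1
  have hdF := dim_of_isPure hFp hFc hF0
  have haF : 0 < StabCat.alpha d pF := alpha_pos_of_isPure H k X hL hFp (𝟙 F) hFc hF0 hpF
  have hdQ : topologicalKrullDim (CohB1.support Q) ≤ (d : WithBot ℕ∞) :=
    (DimDrop.topologicalKrullDim_mono (support_subset_of_epi π)).trans hdF.le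
  refine ⟨hQ, hQ0, ?_, ?_⟩
  · intro T t ht hT hT0
    haveI := ht
    have hle : topologicalKrullDim (CohB1.support T) ≤ (d : WithBot ℕ∞) :=
      (DimDrop.topologicalKrullDim_mono (support_subset_of_mono t)).trans hdQ
    by_contra hne
    have hlt := lt_of_le_of_ne hle hne
    obtain ⟨pT, -, hpT⟩ := exists_isHilbPoly k X H hL.1 hT d hle
    have h1 := redLE_sub_quotient H k X hL hF π hQ hpQ hpF heq t hT hT0 hpT
    rw [redLE_iff] at h1
    obtain ⟨N1, h1⟩ := h1
    obtain ⟨N2, h2⟩ := polyLT_zero H k X hL hT hT0 hpT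
    have e1 := h1 (max N1 N2) (le_max_left _ _)
    have e2 := h2 (max N1 N2) (le_max_right _ _)
    rw [alpha_eq_zero_of_dim_lt k X H hL.1 hT d hlt hpT, zero_mul] at e1
    rw [eval_zero] at e2
    exact absurd (mul_pos haF e2) (not_lt.mpr e1)
  · intro G g hg hG hG0 _ pG pQ' hpG hpQ'
    haveI := hg
    rw [isHilbPoly_unique hpQ' hpQ]
    have h1 := redLE_sub_quotient H k X hL hF π hQ hpQ hpF heq g hG hG0 hpG
    have haQ : 0 ≤ StabCat.alpha d pQ := by
      have := coeff_nonneg H k X hL hQ d hdQ hpQ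
      unfold StabCat.alpha; positivity
    rw [redLE_iff] at h1 ⊢
    obtain ⟨N, hN⟩ := h1
    refine ⟨N, fun m hm => ?_⟩
    have e1 := hN m hm
    have e2 := redEq_eval heq (m : ℚ)
    have e3 : StabCat.alpha d pF * (StabCat.alpha d pQ * pG.eval (m : ℚ)) ≤
        StabCat.alpha d pF * (StabCat.alpha d pG * pQ.eval (m : ℚ)) := by
      have := mul_le_mul_of_nonneg_left e1 haQ
      calc StabCat.alpha d pF * (StabCat.alpha d pQ * pG.eval (m : ℚ))
          = StabCat.alpha d pQ * (StabCat.alpha d pF * pG.eval (m : ℚ)) := by ring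
        _ ≤ StabCat.alpha d pQ * (StabCat.alpha d pG * pF.eval (m : ℚ)) := this
        _ = StabCat.alpha d pG * (StabCat.alpha d pQ * pF.eval (m : ℚ)) := by ring
        _ = StabCat.alpha d pG * (StabCat.alpha d pF * pQ.eval (m : ℚ)) := by rw [← e2]
        _ = StabCat.alpha d pF * (StabCat.alpha d pG * pQ.eval (m : ℚ)) := by ring
    exact le_of_mul_le_mul_left e3 haF

variable {X} in
/-- `0 → coim f → F → coker f → 0` is short exact. -/
theorem shortExact_coimage_cokernel {E F : X.Modules} (f : E ⟶ F) :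
    ∃ w : Abelian.factorThruCoimage f ≫ cokernel.π f = 0,
      (ShortComplex.mk (Abelian.factorThruCoimage f) (cokernel.π f) w).ShortExact := by
  have w : Abelian.factorThruCoimage f ≫ cokernel.π f = 0 := by
    rw [← cancel_epi (Abelian.coimage.π f), ← Category.assoc, Abelian.coimage.fac, cokernel.condition,
      Limits.comp_zero]
  refine ⟨w, ?_⟩
  let S₁ : ShortComplex X.Modules := ShortComplex.mk f (cokernel.π f) (cokernel.condition f)
  let S₂ : ShortComplex X.Modules := ShortComplex.mk (Abelian.factorThruCoimage f) (cokernel.π f) w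
  let φ : S₁ ⟶ S₂ :=
    { τ₁ := Abelian.coimage.π f
      τ₂ := 𝟙 _
      τ₃ := 𝟙 _
      comm₁₂ := by
        change Abelian.coimage.π f ≫ Abelian.factorThruCoimage f = f ≫ 𝟙 _
        rw [Abelian.coimage.fac, Category.comp_id]
      comm₂₃ := by
        change 𝟙 _ ≫ cokernel.π f = cokernel.π f ≫ 𝟙 _
        rw [Category.id_comp, Category.comp_id] }
  haveI : Epi φ.τ₁ := inferInstanceAs (Epi (Abelian.coimage.π f))
  haveI : IsIso φ.τ₂ := inferInstanceAs (IsIso (𝟙 F))
  haveI : Mono φ.τ₃ := inferInstanceAs (Mono (𝟙 (cokernel f)))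
  have hex : S₂.Exact :=
    (ShortComplex.exact_iff_of_epi_of_isIso_of_mono φ).mp (ShortComplex.exact_cokernel f)
  exact
    { exact := hex
      mono_f := inferInstanceAs (Mono (Abelian.factorThruCoimage f))
      epi_g := inferInstanceAs (Epi (cokernel.π f)) }

include H in
/-- **S15272.**  Kernels and cokernels of morphisms between semistable sheaves with the same reduced Hilbert
polynomial are zero or semistable with that reduced Hilbert polynomial. -/
theorem kernel_cokernel_semistable {L : X.Modules} (hL : CohB1.IsAmple L) (d : ℕ) {E F : X.Modules}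
    (hE : ShStab.IsSemistable k X L E d) (hF : ShStab.IsSemistable k X L F d)
    {pE pF : ℚ[X]} (hpE : ShStab.IsHilbPoly k X L E pE) (hpF : ShStab.IsHilbPoly k X L F pF)
    (hred : StabCat.RedEq d pE pF) (f : E ⟶ F) :
    (IsZero (kernel f) ∨ (ShStab.IsSemistable k X L (kernel f) d ∧
        ∀ pK : ℚ[X], ShStab.IsHilbPoly k X L (kernel f) pK → StabCat.RedEq d pK pE)) ∧
    (IsZero (cokernel f) ∨ (ShStab.IsSemistable k X L (cokernel f) d ∧
        ∀ pQ : ℚ[X], ShStab.IsHilbPoly k X L (cokernel f) pQ → StabCat.RedEq d pQ pE)) := by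
  haveI := ParHilb48.isLocallyNoetherian k X
  have hEc := hE.1
  have hE0 := hE.2.1
  have hEp := hE.2.2.1
  have hEss := hE.2.2.2
  have hFc := hF.1
  have hF0 := hF.2.1
  have hFp := hF.2.2.1
  have hFss := hF.2.2.2
  have hdE := dim_of_isPure hEp hEc hE0
  have haE : 0 < StabCat.alpha d pE := alpha_pos_of_isPure H k X hL hEp (𝟙 E) hEc hE0 hpE
  have haF : 0 < StabCat.alpha d pF := alpha_pos_of_isPure H k X hL hFp (𝟙 F) hFc hF0 hpF
  obtain ⟨pK, pI, hK, hI, hpK, hpI, hsum⟩ := exists_decomp H k X hL.1 hEc hFc f hdE.le hpE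
  obtain ⟨w, hSQ⟩ := shortExact_coimage_cokernel f
  haveI : E.IsQuasicoherent := hEc.1
  have hQc : Coh.IsCoh (cokernel f) := H90OXModExact.isCoh_cokernel f hFc
  have hpQ := isHilbPoly_sub_left H k X hL.1 _ hSQ hI hFc hQc hpI hpF
  have hred' : StabCat.alpha d pF • pE = StabCat.alpha d pE • pF := hred
  -- the image has the same reduced Hilbert polynomial
  have hRI : StabCat.alpha d pE • pI = StabCat.alpha d pI • pE := by
    by_cases hf : f = 0
    · have hz : IsZero (Abelian.coimage f) := by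
        subst hf
        exact isZero_cokernel_of_epi (kernel.ι (0 : E ⟶ F))
      rw [isHilbPoly_unique hpI (isHilbPoly_zero k X L hz), alpha_zero, smul_zero, zero_smul]
    · have hI0 : ¬ IsZero (Abelian.coimage f) := fun h => hf (eq_zero_of_isZero_coimage f h)
      have haI : 0 < StabCat.alpha d pI :=
        alpha_pos_of_isPure H k X hL hFp (Abelian.factorThruCoimage f) hI hI0 hpI
      have h1 := redLE_kernel hEss f hf hK hpK hpE
      have h2 := redLE_coimage hFss f hf hI hpI hpF
      rw [redLE_iff] at h1 h2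
      obtain ⟨N1, h1⟩ := h1
      obtain ⟨N2, h2⟩ := h2
      apply poly_eq_of_eventually_eq
      refine ⟨max N1 N2, fun m hm => ?_⟩
      have e1 := h1 m ((le_max_left _ _).trans hm)
      have e2 := h2 m ((le_max_right _ _).trans hm)
      have e3 := redEq_eval hred (m : ℚ)
      rw [eval_smul, eval_smul, smul_eq_mul, smul_eq_mul]
      rw [hsum] at e1 e3 haE ⊢
      rw [alpha_add] at e1 e3 haE ⊢
      rw [eval_add] at e1 e3 ⊢
      apply le_antisymm
      · -- from semistability of `F`
        have e4 := mul_le_mul_of_nonneg_left e2 haE.le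
        have e5 : StabCat.alpha d pF *
            ((StabCat.alpha d pK + StabCat.alpha d pI) * pI.eval (m : ℚ)) ≤
            StabCat.alpha d pF * (StabCat.alpha d pI * (pK.eval (m : ℚ) + pI.eval (m : ℚ))) := by
          calc StabCat.alpha d pF * ((StabCat.alpha d pK + StabCat.alpha d pI) * pI.eval (m : ℚ))
              = (StabCat.alpha d pK + StabCat.alpha d pI) * (StabCat.alpha d pF * pI.eval (m : ℚ)) := by
                ring
            _ ≤ (StabCat.alpha d pK + StabCat.alpha d pI) * (StabCat.alpha d pI * pF.eval (m : ℚ)) := e4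
            _ = StabCat.alpha d pI * ((StabCat.alpha d pK + StabCat.alpha d pI) * pF.eval (m : ℚ)) := by
                ring
            _ = StabCat.alpha d pI * (StabCat.alpha d pF * (pK.eval (m : ℚ) + pI.eval (m : ℚ))) := by
                rw [← e3]
            _ = StabCat.alpha d pF * (StabCat.alpha d pI * (pK.eval (m : ℚ) + pI.eval (m : ℚ))) := by
                ring
        exact le_of_mul_le_mul_left e5 haF
      · -- from semistability of `E`
        linarith
  have hpKeq : pK = pE - pI := by rw [hsum]; ring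
  have hRK : StabCat.RedEq d pK pE := by
    rw [redEq_iff, hpKeq, alpha_sub, smul_sub, sub_smul, hRI]
  have hIF : StabCat.alpha d pF • pI = StabCat.alpha d pI • pF := by
    apply smul_right_injective ℚ[X] haE.ne'
    change StabCat.alpha d pE • StabCat.alpha d pF • pI = StabCat.alpha d pE • StabCat.alpha d pI • pF
    rw [smul_comm, hRI, smul_comm, hred', smul_comm]
  have hRQF : StabCat.RedEq d (pF - pI) pF := by
    rw [redEq_iff, alpha_sub, smul_sub, sub_smul, hIF]
  have hRQE : StabCat.RedEq d (pF - pI) pE := by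
    rw [redEq_iff, alpha_sub, smul_sub, sub_smul, hRI, hred']
  refine ⟨?_, ?_⟩
  · by_cases hKz : IsZero (kernel f)
    · exact Or.inl hKz
    · exact Or.inr ⟨isSemistable_of_sub_redEq H k X hL hE (kernel.ι f) hK hKz hpK hpE hRK,
        fun pK' h => by rw [isHilbPoly_unique h hpK]; exact hRK⟩
  · by_cases hQz : IsZero (cokernel f)
    · exact Or.inl hQz
    · exact Or.inr ⟨isSemistable_of_quotient_redEq H k X hL hF (cokernel.π f) hQc hQz hpQ hpF hRQF,
        fun pQ' h => by rw [isHilbPoly_unique h hpQ]; exact hRQE⟩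

end Proper

end Groth.Agent.Lib.StabGeom48
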