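import Groth.Agent.Lib.StabAbs67Ax
import Groth.Agent.Lib.StabGeomAx

/-!
# K5.G (for helper67's `StabAbs67.Ax`): the geometric instance

`geomAx H k X L hL d : StabAbs67.Ax X.Modules d` with `coh := Coh.IsCoh`, `dle F := dim Supp F ≤ d`,
`deq F := dim Supp F = d`, `HP := ShStab.IsHilbPoly k X L`; `H : ProperFinHyp.Hyp` is the statement of S0002
(`fun A _ _ X _ _ M hM n => Groth.Agent.S0002.result A X M hM n`).  The abstract `IsPure / IsSemistable / IsStable` unfold
definitionally to `ShStab.IsPure X · d / ShStab.IsSemistable k X L · d / ShStab.IsStable k X L · d`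
(`isPure_iff`, `isSemistable_iff`, `isStable_iff`, all by `Iff.rfl`).
-/

set_option autoImplicit false
set_option linter.unusedSectionVars false
universe u
open CategoryTheory CategoryTheory.Limits AlgebraicGeometry Polynomial StabCat

namespace Groth.Agent.Lib.StabGeomAx

open Groth.Agent.Lib Groth.Agent.Lib.HilbPoly48

variable (H : ProperFinHyp.Hyp.{u})
variable (k : Type u) [Field k] (X : Scheme.{u}) [X.Over (Spec (CommRingCat.of k))]
  [IsProper (X ↘ Spec (CommRingCat.of k))]

/-- The geometric instance of helper67's abstract axioms. -/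
noncomputable def geomAx (L : X.Modules) (hL : CohB1.IsAmple L) (d : ℕ) : StabAbs67.Ax X.Modules d :=
  haveI := ParHilb48.isLocallyNoetherian k X
  haveI : CompactSpace X := EulerChar54.compactSpace_of_isProper k X
  haveI : IsNoetherian X := {}
  { coh := Coh.IsCoh
    dle := fun F => topologicalKrullDim (CohB1.support F) ≤ (d : WithBot ℕ∞)
    deq := fun F => topologicalKrullDim (CohB1.support F) = (d : WithBot ℕ∞)
    HP := ShStab.IsHilbPoly k X L
    coh_iso := fun e h => CohLocal.isCoh_of_iso e h
    coh_zero := fun h => H90DevHub2.isCoh_of_isZero h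
    coh_kernel := fun {A B} f hA hB => by
      haveI : B.IsQuasicoherent := hB.1
      exact H90OXModExact.isCoh_kernel f hA
    coh_cokernel := fun {A B} f hA hB => by
      haveI : A.IsQuasicoherent := hA.1
      exact H90OXModExact.isCoh_cokernel f hB
    dle_of_mono := fun {A B} f hf hB =>
      (DimDrop.topologicalKrullDim_mono (@H90DevHub2.support_subset_of_mono _ _ _ f hf)).trans hB
    dle_of_epi := fun {A B} f hf hA =>
      (DimDrop.topologicalKrullDim_mono (@H90DevHub2.support_subset_of_epi _ _ _ f hf)).trans hA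
    dle_of_deq := fun h => h.le
    hp_exists := fun {A} hA hd => by
      obtain ⟨P, -, hP⟩ := exists_isHilbPoly k X H hL.1 hA d hd
      exact ⟨P, hP⟩
    hp_unique := fun hP hQ => isHilbPoly_unique hP hQ
    hp_iso := fun e hP => isHilbPoly_congr e hP
    hp_zero := fun h => isHilbPoly_zero k X L h
    hp_add := fun S hS h₁ h₂ h₃ _ _ hP₁ hP₃ => isHilbPoly_add H k X hL.1 S hS h₁ h₂ h₃ hP₁ hP₃
    hp_int := fun {A} _ hP m => ⟨Curv2.euler k X (ShStab.twist X L A m), (hP m).symm⟩
    hp_pos := fun hA hA0 hP => polyLT_zero H k X hL hA hA0 hP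
    hp_deg := fun hA hd hP => natDegree_le_of_isHilbPoly k X H hL.1 hA d hd hP
    deq_iff := fun {A p} hA hd hP => by
      constructor
      · intro h
        exact alpha_pos H k X hL hA d h hP
      · intro h
        by_contra hne
        have hlt : topologicalKrullDim (CohB1.support A) < (d : WithBot ℕ∞) := lt_of_le_of_ne hd hne
        rw [alpha_eq_zero_of_dim_lt k X H hL.1 hA d hlt hP] at h
        exact lt_irrefl _ h
    acc := fun E hE f hf => H90OXModNoeth.stabilizes E hE f (fun n => (hf n).1) }

variable {k X}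

theorem isPure_iff (L : X.Modules) (hL : CohB1.IsAmple L) (d : ℕ) (E : X.Modules) :
    (geomAx H k X L hL d).IsPure E ↔ ShStab.IsPure X E d := Iff.rfl

theorem isSemistable_iff (L : X.Modules) (hL : CohB1.IsAmple L) (d : ℕ) (E : X.Modules) :
    (geomAx H k X L hL d).IsSemistable E ↔ ShStab.IsSemistable k X L E d := Iff.rfl

theorem isStable_iff (L : X.Modules) (hL : CohB1.IsAmple L) (d : ℕ) (E : X.Modules) :
    (geomAx H k X L hL d).IsStable E ↔ ShStab.IsStable k X L E d := Iff.rfl

end Groth.Agent.Lib.StabGeomAx
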