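import Groth.Agent.Lib.StabLie38

set_option autoImplicit false
set_option linter.unusedSectionVars false
universe u v w
open TensorProduct

namespace Groth.Agent.Lib.StabLie38
open Groth.Agent.Lib.Comod Groth.Agent.Lib.Cartier38 Groth.Agent.Lib.GLinGrading38
  Groth.Agent.Lib.GITOrbit38 Groth.Agent.Lib.GITQuot38 Groth.Agent.Lib.OrbitDim38
  Groth.Agent.Lib.OrbitOpen38 Groth.Agent.Lib.Reynolds38 Groth.Agent.Lib.GITPts38

section Open
variable {k : Type u} [Field k] {A : Type u} [CommRing A] [HopfAlgebra k A]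
  {R : Type u} [CommRing R] [Algebra k R] [HopfRep.Comod k A R] [GLin.IsCoactAlg k A R]

/-- value of a functional on the orbit map, computed through the dual-algebra action -/
theorem apply_orbitHom_eq (ℓ : A →ₗ[k] k) (z : R →ₐ[k] k) (f : R) :
    ℓ (GLin.orbitHom k A z f) = z (act R ℓ f) := by
  rw [orbitHom_apply, act_apply]
  generalize HopfRep.Comod.coact (k := k) (A := A) f = t
  induction t using TensorProduct.induction_on with
  | zero => simp
  | add a b ha hb => simp only [map_add, ha, hb]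
  | tmul r a => simp [mul_comm]

variable [IsAlgClosed k] [CharZero k] [Algebra.FiniteType k A]

/-- **The locus of finite stabilisers is open** (characteristic zero). -/
theorem exists_open_nbhd_finite_stab (x : R →ₐ[k] k)
    (hx : {g : A →ₐ[k] k | GLin.actPt k g x = x}.Finite) :
    ∃ h : R, x h ≠ 0 ∧ ∀ z : R →ₐ[k] k, z h ≠ 0 →
      {g : A →ₐ[k] k | GLin.actPt k g z = z}.Finite := by
  classical
  have hAn : IsNoetherianRing A := Algebra.FiniteType.isNoetherianRing k A
  obtain ⟨r, c, -⟩ := exists_coords (k := k) (A := A)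
  have hfree := (finite_stab_iff c x).1 hx
  choose f hf using hfree
  let M : Matrix (Fin r) (Fin r) R := fun i j => act R (c.d i) (f j)
  have hMx : x.mapMatrix M = 1 := by
    ext i j
    show x (act R (c.d i) (f j)) = _
    rw [← apply_orbitHom_eq, hf j i, Matrix.one_apply]
  refine ⟨M.det, ?_, ?_⟩
  · rw [AlgHom.map_det, hMx, Matrix.det_one]
    exact one_ne_zero
  · intro z hz
    rw [finite_stab_iff c z]
    set N : Matrix (Fin r) (Fin r) k := z.mapMatrix M with hN
    have hdet : IsUnit N.det := by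
      rw [hN, ← AlgHom.map_det]
      exact isUnit_iff_ne_zero.2 hz
    have hNinv : N * N⁻¹ = 1 := Matrix.mul_nonsing_inv N hdet
    intro j
    refine ⟨∑ l, N⁻¹ l j • f l, fun i => ?_⟩
    rw [map_sum, map_sum]
    have : ∀ l, c.d i (GLin.orbitHom k A z (N⁻¹ l j • f l)) = N i l * N⁻¹ l j := by
      intro l
      rw [map_smul, map_smul, smul_eq_mul, apply_orbitHom_eq, mul_comm]
      rfl
    rw [Finset.sum_congr rfl fun l _ => this l, ← Matrix.mul_apply, hNinv, Matrix.one_apply]

end Open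

section Final
variable {k : Type u} [Field k] [IsAlgClosed k] [CharZero k] {A : Type u} [CommRing A]
  [HopfAlgebra k A] [Algebra.FiniteType k A]
  {R : Type u} [CommRing R] [Algebra k R] [HopfRep.Comod k A R] [GLin.IsCoactAlg k A R]
  [Algebra.FiniteType k R]

/-- A stable point is separated from the locus of infinite stabilisers by an invariant. -/
theorem exists_invariant_sep (hG : HopfRep.IsLinearlyReductive k A) (x : R →ₐ[k] k)
    (hcl : ∀ z : R →ₐ[k] k, GLin.InOrbitClosure k A x z → ∃ g : A →ₐ[k] k, z = GLin.actPt k g x)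
    (hfin : {g : A →ₐ[k] k | GLin.actPt k g x = x}.Finite) :
    ∃ f ∈ GLin.invariants k A R, x f ≠ 0 ∧ ∀ z : R →ₐ[k] k,
      ¬ {g : A →ₐ[k] k | GLin.actPt k g z = z}.Finite → z f = 0 := by
  have hred : IsReduced A := isReduced_of_charZero k A
  let Zs : Set (R →ₐ[k] k) := {z | ¬ {g : A →ₐ[k] k | GLin.actPt k g z = z}.Finite}
  let 𝔟 : Submodule k R := ⨅ z : Zs, LinearMap.ker (GLin.orbitHom k A z.1).toLinearMap
  have h𝔟sub : HopfRep.IsSubcomod (k := k) (A := A) 𝔟 :=
    isSubcomod_iInf fun z => isSubcomod_ker_orbitHom z.1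
  let 𝔟' : Ideal R := ⨅ z : Zs, RingHom.ker (GLin.orbitHom k A z.1)
  have hmem : ∀ b, b ∈ 𝔟' → b ∈ 𝔟 := by
    intro b hb
    rw [Submodule.mem_iInf]
    intro z
    exact (Ideal.mem_iInf.1 hb) z
  have hkey : ∀ h : R, (∀ z : R →ₐ[k] k, z h ≠ 0 →
      {g : A →ₐ[k] k | GLin.actPt k g z = z}.Finite) → h ∈ 𝔟' := by
    intro h hh
    rw [Ideal.mem_iInf]
    rintro ⟨z, hz⟩
    rw [RingHom.mem_ker]
    apply (isNilpotent_of_forall_algHom_eq_zero (k := k) _ ?_).eq_zero
    intro g
    by_contra hne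
    have h1 := hh (GLin.actPt k g z) (by rw [actPt_apply]; exact hne)
    have h2 := finite_stab_actPt (GLin.actPt k g z) h1 (WithConv.toConv g)⁻¹.ofConv
    rw [show GLin.actPt k (WithConv.toConv g)⁻¹.ofConv (GLin.actPt k g z) = z from
      actPt_inv_actPt (WithConv.toConv g) z] at h2
    exact hz h2
  have hsup : 𝔟' ⊔ RingHom.ker (GLin.orbitHom k A x) = ⊤ := by
    by_contra hne
    obtain ⟨w, hw⟩ := GITQuot38.exists_algHom_ker_ge (k := k) _ hne
    have hw1 : GLin.InOrbitClosure k A x w := le_sup_right.trans hw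
    obtain ⟨g, rfl⟩ := hcl w hw1
    have hwfin := finite_stab_actPt x hfin g
    obtain ⟨h, hwh, hh⟩ := exists_open_nbhd_finite_stab (GLin.actPt k g x) hwfin
    exact hwh (hw (Submodule.mem_sup_left (hkey h hh)))
  have h1 : (1 : R) ∈ 𝔟' ⊔ RingHom.ker (GLin.orbitHom k A x) := hsup ▸ Submodule.mem_top
  obtain ⟨b, hb, c', hc', hbc⟩ := Submodule.mem_sup.1 h1
  obtain ⟨E, hE⟩ := exists_isReynolds hG R
  have hE1 : E 1 = 1 := (hE.2.2 1).2 (Subalgebra.one_mem (GLin.invariants k A R))
  have hEb : E b ∈ 𝔟 := hE.apply_mem_of_isSubcomod hG h𝔟sub (hmem b hb)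
  have hEc : E c' ∈ LinearMap.ker (GLin.orbitHom k A x).toLinearMap :=
    hE.apply_mem_of_isSubcomod hG (isSubcomod_ker_orbitHom x)
      (show (GLin.orbitHom k A x).toLinearMap c' = 0 from hc')
  have e2 : x (E c') = 0 := apply_eq_zero_of_orbitHom_eq_zero x hEc
  refine ⟨E b, hE.apply_mem b, ?_, ?_⟩
  · have : x (E b) + x (E c') = 1 := by rw [← map_add, ← map_add, hbc, hE1, map_one]
    rw [e2, add_zero] at this
    rw [this]
    exact one_ne_zero
  · intro z hz
    have : E b ∈ LinearMap.ker (GLin.orbitHom k A z).toLinearMap :=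
      (Submodule.mem_iInf _).1 hEb ⟨z, hz⟩
    exact apply_eq_zero_of_orbitHom_eq_zero z this

/-- **The stable locus is cut out by invariants** (characteristic zero). -/
theorem exists_invariant_set_stable (hG : HopfRep.IsLinearlyReductive k A) :
    ∃ S : Set R, S ⊆ (GLin.invariants k A R : Set R) ∧ ∀ x : R →ₐ[k] k,
      ((∀ z : R →ₐ[k] k, GLin.InOrbitClosure k A x z → ∃ g : A →ₐ[k] k, z = GLin.actPt k g x) ∧
        {g : A →ₐ[k] k | GLin.actPt k g x = x}.Finite) ↔ ∃ f ∈ S, x f ≠ 0 := by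
  have hred : IsReduced A := isReduced_of_charZero k A
  refine ⟨{f | f ∈ GLin.invariants k A R ∧ ∀ z : R →ₐ[k] k,
    ¬ {g : A →ₐ[k] k | GLin.actPt k g z = z}.Finite → z f = 0}, fun f hf => hf.1, fun x => ?_⟩
  constructor
  · rintro ⟨hcl, hfin⟩
    obtain ⟨f, hfinv, hxf, hfz⟩ := exists_invariant_sep hG x hcl hfin
    exact ⟨f, ⟨hfinv, hfz⟩, hxf⟩
  · rintro ⟨f, ⟨hfinv, hfz⟩, hxf⟩
    rw [stable_iff_fibre hG x]
    intro z hz
    by_contra hinf
    exact hxf (by rw [← hz f hfinv]; exact hfz z hinf)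

end Final

end Groth.Agent.Lib.StabLie38
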