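import Groth.Agent.Lib.GrpAction
import Groth.Prelude.Def_W4bk4git07Quot
import Mathlib.CategoryTheory.Monoidal.Cartesian.Grp

/-!
# The relative stabilizer group scheme (helper45)

For an action `a` of `G` on `X` over `S`, the stabilizer `St = (G × X) ×_{X × X} X ⟶ X` (pullback of
`(σ, p₂)` along the diagonal) is a group object of `Over X.left`: `stabGrpObj a`.
The group structure is obtained from the representable functor of stabilizing `T`-points of `G`.
-/

set_option autoImplicit false
universe u
open CategoryTheory CategoryTheory.Limits MonoidalCategory CartesianMonoidalCategory MonObj GrpObj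
  AlgebraicGeometry Opposite
open Groth.Agent.Lib.GrpAction

namespace Groth.Agent.Lib.StabRel45

variable {S : Scheme.{u}} {G X : Over S} [GrpObj G] (a : AlgGrp.Action G X)

/-- An `X`-scheme as an `S`-scheme. -/
abbrev tot (T : Over X.left) : Over S := Over.mk (T.hom ≫ X.hom)

/-- The structure map of an `X`-scheme as a point of `X`. -/
abbrev pt (T : Over X.left) : tot T ⟶ X := Over.homMk T.hom rfl

/-- A morphism of `X`-schemes as a morphism of `S`-schemes. -/
abbrev totMap {T T' : Over X.left} (t : T ⟶ T') : tot T ⟶ tot T' :=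
  Over.homMk t.left (by
    change t.left ≫ T'.hom ≫ X.hom = T.hom ≫ X.hom
    rw [← Category.assoc, Over.w t])

lemma totMap_pt {T T' : Over X.left} (t : T ⟶ T') : totMap t ≫ pt T' = pt (X := X) T := by
  apply Over.OverMorphism.ext
  exact Over.w t

/-- The subgroup of `T`-points of `G` stabilizing the tautological point. -/
def stabSub (T : Over X.left) : Subgroup (tot (X := X) T ⟶ G) where
  carrier := {g | lift g (pt T) ≫ a.act = pt T}
  one_mem' := one_act a _
  mul_mem' := by
    intro g h hg hh
    have hg' : lift g (pt T) ≫ a.act = pt T := hg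
    have hh' : lift h (pt T) ≫ a.act = pt T := hh
    change lift (g * h) (pt T) ≫ a.act = pt T
    rw [mul_act, hh', hg']
  inv_mem' := by
    intro g hg
    have hg' : lift g (pt T) ≫ a.act = pt T := hg
    change lift g⁻¹ (pt T) ≫ a.act = pt T
    apply act_cancel a g
    rw [← mul_act, mul_inv_cancel, one_act, hg']

lemma mem_stabSub {T : Over X.left} (g : tot (X := X) T ⟶ G) :
    g ∈ stabSub a T ↔ lift g (pt T) ≫ a.act = pt T := Iff.rfl

/-- The functor of stabilizing points. -/
noncomputable def stabFunctor : (Over X.left)ᵒᵖ ⥤ GrpCat.{u} where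
  obj T := GrpCat.of (stabSub a T.unop)
  map {T T'} t := GrpCat.ofHom
    { toFun := fun g => ⟨totMap t.unop ≫ g.1, by
        have hg := g.2
        rw [mem_stabSub] at hg ⊢
        rw [← totMap_pt t.unop, ← comp_lift, Category.assoc, hg]⟩
      map_one' := Subtype.ext (MonObj.comp_one _)
      map_mul' := fun g h => Subtype.ext (MonObj.comp_mul _ _ _) }
  map_id T := by
    ext g
    change (totMap (𝟙 T.unop) ≫ g.1).left = g.1.left
    rw [Over.comp_left]
    exact Category.id_comp _
  map_comp {T T' T''} t t' := by
    ext g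
    change (totMap (t ≫ t').unop ≫ g.1).left = (totMap t'.unop ≫ totMap t.unop ≫ g.1).left
    simp only [Over.comp_left]
    rfl

/-- `(σ, p₂)`. -/
noncomputable abbrev Psi : (G ⊗ X).left ⟶ (X ⊗ X).left := (GIT.psi a (𝟙 X)).left

/-- The diagonal of `X`. -/
noncomputable abbrev Dg : X.left ⟶ (X ⊗ X).left := (lift (𝟙 X) (𝟙 X)).left

/-- The stabilizer over `X`. -/
noncomputable abbrev stab : Over X.left := Over.mk (pullback.snd (Psi a) (Dg (X := X)))

lemma psi_lift {T : Over S} (g : T ⟶ G) (x : T ⟶ X) :
    lift g x ≫ GIT.psi a (𝟙 X) = lift (lift g x ≫ a.act) x := by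
  unfold GIT.psi
  rw [comp_lift, lift_snd, whiskerLeft_id, Category.id_comp]

lemma Psi_snd : Psi a ≫ (snd X X).left = (snd G X).left := by
  rw [← Over.comp_left]
  unfold GIT.psi
  rw [lift_snd]

lemma Psi_fst : Psi a ≫ (fst X X).left = a.act.left := by
  rw [← Over.comp_left]
  unfold GIT.psi
  rw [lift_fst, whiskerLeft_id, Category.id_comp]

lemma Dg_snd : Dg (X := X) ≫ (snd X X).left = 𝟙 _ := by
  rw [← Over.comp_left, lift_snd]; rfl

lemma Dg_fst : Dg (X := X) ≫ (fst X X).left = 𝟙 _ := by
  rw [← Over.comp_left, lift_fst]; rfl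

lemma fst_snd : pullback.fst (Psi a) (Dg (X := X)) ≫ (snd G X).left =
    pullback.snd (Psi a) (Dg (X := X)) := by
  rw [← Psi_snd a, ← Category.assoc, pullback.condition, Category.assoc, Dg_snd, Category.comp_id]

lemma fst_act : pullback.fst (Psi a) (Dg (X := X)) ≫ a.act.left =
    pullback.snd (Psi a) (Dg (X := X)) := by
  rw [← Psi_fst a, ← Category.assoc, pullback.condition, Category.assoc, Dg_fst, Category.comp_id]

/-- The `G`-component of a point of the stabilizer. -/
noncomputable def toG {T : Over X.left} (φ : T ⟶ stab a) : tot (X := X) T ⟶ G :=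
  Over.homMk (φ.left ≫ pullback.fst (Psi a) (Dg (X := X)) ≫ (fst G X).left) (by
    change (φ.left ≫ pullback.fst (Psi a) (Dg (X := X)) ≫ (fst G X).left) ≫ G.hom = T.hom ≫ X.hom
    have h1 : (fst G X).left ≫ G.hom = (snd G X).left ≫ X.hom := pullback.condition
    have h2 : φ.left ≫ pullback.snd (Psi a) (Dg (X := X)) = T.hom := Over.w φ
    rw [Category.assoc, Category.assoc, h1, ← Category.assoc (pullback.fst _ _), fst_snd,
      ← Category.assoc, h2])

lemma lift_toG_left {T : Over X.left} (φ : T ⟶ stab a) :
    (lift (toG a φ) (pt T)).left = φ.left ≫ pullback.fst (Psi a) (Dg (X := X)) := by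
  apply pullback.hom_ext
  · change (lift (toG a φ) (pt T)).left ≫ (fst G X).left = _
    rw [← Over.comp_left, lift_fst, Category.assoc]
    rfl
  · change (lift (toG a φ) (pt T)).left ≫ (snd G X).left = _
    rw [← Over.comp_left, lift_snd, Category.assoc]
    have h1 := fst_snd a
    calc T.hom = φ.left ≫ pullback.snd (Psi a) (Dg (X := X)) := (Over.w φ).symm
      _ = _ := by rw [← h1]; rfl

lemma toG_mem {T : Over X.left} (φ : T ⟶ stab a) : toG a φ ∈ stabSub a T := by
  rw [mem_stabSub]
  apply Over.OverMorphism.ext
  rw [Over.comp_left, lift_toG_left, Category.assoc, fst_act]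
  exact Over.w φ

lemma lift_cond {T : Over X.left} (g : tot (X := X) T ⟶ G) (hg : g ∈ stabSub a T) :
    (lift g (pt T)).left ≫ Psi a = T.hom ≫ Dg (X := X) := by
  rw [mem_stabSub] at hg
  change (lift g (pt T)).left ≫ (GIT.psi a (𝟙 X)).left = (pt (X := X) T).left ≫ _
  rw [← Over.comp_left, ← Over.comp_left, psi_lift, hg, comp_lift, Category.comp_id]

/-- The point of the stabilizer attached to a stabilizing point of `G`. -/
noncomputable def ofG {T : Over X.left} (g : tot (X := X) T ⟶ G) (hg : g ∈ stabSub a T) :
    T ⟶ stab a :=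
  Over.homMk (pullback.lift (lift g (pt T)).left T.hom (lift_cond a g hg)) (pullback.lift_snd _ _ _)

/-- The stabilizer represents the functor of stabilizing points. -/
noncomputable def stabRep : (stabFunctor a ⋙ forget GrpCat).RepresentableBy (stab a) where
  homEquiv {T} :=
    { toFun := fun φ => (⟨toG a φ, toG_mem a φ⟩ : stabSub a T)
      invFun := fun g => ofG a (g : stabSub a T).1 (g : stabSub a T).2
      left_inv := by
        intro φ
        apply Over.OverMorphism.ext
        apply pullback.hom_ext
        · change pullback.lift _ _ _ ≫ _ = _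
          rw [pullback.lift_fst]
          exact lift_toG_left a φ
        · change pullback.lift _ _ _ ≫ _ = _
          rw [pullback.lift_snd]
          exact (Over.w φ).symm
      right_inv := by
        intro g
        apply Subtype.ext
        apply Over.OverMorphism.ext
        change pullback.lift _ _ _ ≫ pullback.fst (Psi a) (Dg (X := X)) ≫ (fst G X).left = _
        rw [pullback.lift_fst_assoc, ← Over.comp_left, lift_fst] }
  homEquiv_comp {T T'} f φ := by
    apply Subtype.ext
    apply Over.OverMorphism.ext
    change (f ≫ φ).left ≫ _ = f.left ≫ φ.left ≫ _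
    rw [Over.comp_left, Category.assoc]

/-- The stabilizer is a group scheme over `X`. -/
@[instance_reducible]
noncomputable def stabGrpObj : GrpObj (stab a) :=
  GrpObj.ofRepresentableBy (stab a) (stabFunctor a) (stabRep a)

end Groth.Agent.Lib.StabRel45
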