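import Groth.Agent.Lib.LocInjG88
import Groth.Agent.Lib.CritFibSch88
import Mathlib.RingTheory.Flat.Equalizer

/-!
# Stalks of locally finitely presented morphisms are essentially finitely presented (helper64)

* `isEssFinitePresentation_of_charts`: ring-level: `R = (R₁)_p`, `S = B_q`, `B` f.p. over `R₁`
  ⇒ `S` is essentially of finite presentation over `R`.
* `isEssFinitePresentation_stalk`: `f : X ⟶ Y` locally of finite presentation ⇒ `O_{X,x}` is
  essentially of finite presentation over `O_{Y,f x}`.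
* `injective_flat_iff`: EGA IV 11.3.7, both directions, for an exact sequence `M → N → Q → 0`.
-/

set_option autoImplicit false
set_option maxHeartbeats 400000
set_option linter.style.haveILetI false
set_option linter.unusedSectionVars false

open TensorProduct Function CategoryTheory AlgebraicGeometry

universe u

namespace Groth.Agent.Lib.StalkEssFP64

theorem isEssFinitePresentation_of_charts {R₁ B R S : Type u} [CommRing R₁] [CommRing B]
    [CommRing R] [CommRing S] [Algebra R₁ B] [Algebra.FinitePresentation R₁ B] [Algebra R₁ R]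
    [Algebra B S] [Algebra R S] [IsLocalRing S]
    (p : Ideal R₁) [p.IsPrime] [IsLocalization.AtPrime R p]
    (q : Ideal B) [q.IsPrime] [IsLocalization.AtPrime S q]
    (h : ∀ a : R₁, algebraMap R S (algebraMap R₁ R a) = algebraMap B S (algebraMap R₁ B a)) :
    CAlgX.IsEssFinitePresentation R S := by
  letI algR₁S : Algebra R₁ S := ((algebraMap R S).comp (algebraMap R₁ R)).toAlgebra
  haveI : IsScalarTower R₁ R S := IsScalarTower.of_algebraMap_eq (fun _ => rfl)
  haveI : IsScalarTower R₁ B S := IsScalarTower.of_algebraMap_eq (fun a => h a)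
  let ρ : R ⊗[R₁] B →ₐ[R] S :=
    Algebra.TensorProduct.lift (Algebra.ofId R S) (IsScalarTower.toAlgHom R₁ B S)
      (fun _ _ => Commute.all _ _)
  have hρ : ∀ b : B, ρ.toRingHom ((1 : R) ⊗ₜ[R₁] b) = algebraMap B S b := by
    intro b
    change ρ ((1 : R) ⊗ₜ[R₁] b) = algebraMap B S b
    rw [Algebra.TensorProduct.lift_tmul, map_one, one_mul]
    rfl
  have hloc := Groth.Agent.Lib.CritFibF88.isLocalization_atPrime_tensor (R₁ := R₁) (R := R)
    (B := B) (S := S) p.primeCompl q ρ.toRingHom hρ
  letI algS₀S : Algebra (R ⊗[R₁] B) S := ρ.toRingHom.toAlgebra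
  haveI : IsScalarTower R (R ⊗[R₁] B) S := IsScalarTower.of_algebraMap_eq (fun r => by
    change algebraMap R S r = ρ (algebraMap R (R ⊗[R₁] B) r)
    rw [AlgHom.commutes])
  exact ⟨R ⊗[R₁] B, inferInstance, inferInstance, algS₀S, inferInstance,
    ((IsLocalRing.maximalIdeal S).comap ρ.toRingHom).primeCompl, inferInstance, hloc⟩

theorem isEssFinitePresentation_stalk {X Y : Scheme.{u}} (f : X ⟶ Y)
    [LocallyOfFinitePresentation f] (x : X) :
    letI := (f.stalkMap x).hom.toAlgebra
    CAlgX.IsEssFinitePresentation (Y.presheaf.stalk (f x)) (X.presheaf.stalk x) := by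
  letI algST : Algebra (Y.presheaf.stalk (f x)) (X.presheaf.stalk x) := (f.stalkMap x).hom.toAlgebra
  obtain ⟨_, ⟨V, hV, rfl⟩, hyV, -⟩ :=
    Y.isBasis_affineOpens.exists_subset_of_mem_open (Set.mem_univ (f x)) isOpen_univ
  obtain ⟨_, ⟨U, hU, rfl⟩, hxU, hUV⟩ :=
    X.isBasis_affineOpens.exists_subset_of_mem_open hyV (V.2.preimage f.continuous)
  letI algBC : Algebra Γ(Y, V) Γ(X, U) := (f.appLE V U hUV).hom.toAlgebra
  haveI : Algebra.FinitePresentation Γ(Y, V) Γ(X, U) := f.finitePresentation_appLE hV hU hUV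
  letI := Y.presheaf.algebra_section_stalk ⟨f x, hyV⟩
  haveI := hV.isLocalization_stalk ⟨f x, hyV⟩
  letI := X.presheaf.algebra_section_stalk ⟨x, hxU⟩
  haveI := hU.isLocalization_stalk ⟨x, hxU⟩
  exact isEssFinitePresentation_of_charts (R₁ := Γ(Y, V)) (B := Γ(X, U))
    (hV.primeIdealOf ⟨f x, hyV⟩).asIdeal (hU.primeIdealOf ⟨x, hxU⟩).asIdeal
    (fun b => Groth.Agent.Lib.CritFibSch88.stalkMap_germ_appLE f V U hUV x hxU b)

section Core

variable {R S M N Q : Type u} [CommRing R] [CommRing S] [IsLocalRing R] [IsLocalRing S]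
  [Algebra R S] [IsLocalHom (algebraMap R S)]
  [AddCommGroup M] [Module S M] [Module R M] [IsScalarTower R S M]
  [AddCommGroup N] [Module S N] [Module R N] [IsScalarTower R S N]
  [AddCommGroup Q] [Module S Q] [Module R Q] [IsScalarTower R S Q]

/-- If `0 → M → N → Q → 0` is exact with `Q` flat, then `M/IM → N/IN` is injective. -/
theorem mem_smul_top_of_flat_coker (u : M →ₗ[R] N) (π : N →ₗ[R] Q) (hex : Function.Exact u π)
    (hπ : Surjective π) (hu : Injective u) [Module.Flat R Q] (I : Ideal R) (m : M)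
    (hm : u m ∈ I • (⊤ : Submodule R N)) : m ∈ I • (⊤ : Submodule R M) := by
  have hinj := LinearMap.lTensor_injective_of_exact_of_flat π hπ u hu hex (R ⧸ I)
  have h0 : (u.lTensor (R ⧸ I)) ((1 : R ⧸ I) ⊗ₜ[R] m) = 0 := by
    rw [LinearMap.lTensor_tmul]
    apply (TensorProduct.quotTensorEquivQuotSMul N I).injective
    rw [map_zero, ← map_one (Ideal.Quotient.mk I), TensorProduct.quotTensorEquivQuotSMul_mk_tmul,
      one_smul]
    exact (Submodule.Quotient.mk_eq_zero _).mpr hm
  have h1 : ((1 : R ⧸ I) ⊗ₜ[R] m) = 0 := hinj (h0.trans (map_zero _).symm)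
  have h2 := congrArg (TensorProduct.quotTensorEquivQuotSMul M I) h1
  rw [map_zero, ← map_one (Ideal.Quotient.mk I), TensorProduct.quotTensorEquivQuotSMul_mk_tmul,
    one_smul] at h2
  exact (Submodule.Quotient.mk_eq_zero _).mp h2

/-- **EGA IV 11.3.7**, both directions, in terms of an exact sequence `M → N → Q → 0`. -/
theorem injective_flat_iff (hS : CAlgX.IsEssFinitePresentation R S)
    [Module.FinitePresentation S M] [Module.FinitePresentation S N] [Module.Flat R N]
    (u : M →ₗ[S] N) (π : N →ₗ[S] Q) (hex : Function.Exact u π) (hπ : Surjective π) :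
    (Injective u ∧ Module.Flat R Q) ↔
      ∀ x : M, u x ∈ (IsLocalRing.maximalIdeal R).map (algebraMap R S) • (⊤ : Submodule S N) →
        x ∈ (IsLocalRing.maximalIdeal R).map (algebraMap R S) • (⊤ : Submodule S M) := by
  constructor
  · rintro ⟨hinj, hfl⟩ x hx
    rw [Groth.Agent.Lib.CritFibE88.smul_top_map_iff (S := S)] at hx ⊢
    exact mem_smul_top_of_flat_coker (u.restrictScalars R) (π.restrictScalars R) hex hπ hinj _ x hx
  · intro h
    obtain ⟨h1, h2⟩ := Groth.Agent.Lib.LocInjG88.injective_and_flat_of_essFP hS u h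
    refine ⟨h1, ?_⟩
    have hker : LinearMap.ker π = LinearMap.range u := (LinearMap.exact_iff.mp hex)
    let e : (N ⧸ LinearMap.range u) ≃ₗ[S] Q :=
      (Submodule.quotEquivOfEq _ _ hker.symm).trans (π.quotKerEquivOfSurjective hπ)
    exact Module.Flat.of_linearEquiv (e.restrictScalars R).symm

end Core

end Groth.Agent.Lib.StalkEssFP64
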