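import Groth.Agent.Lib.StalkSubring
import Groth.Agent.Lib.ComplFlat
import Mathlib.RingTheory.Flat.EquationalCriterion
import Mathlib.RingTheory.Flat.FaithfullyFlat.Algebra
import Mathlib.RingTheory.Localization.LocalizationLocalization

set_option autoImplicit false
universe u

namespace Groth.Agent.Lib.StalkFlat

open Groth.Agent.Lib.ComplMap Groth.Agent.Lib.StalkSubring

variable (A : Type u) [CommRing A] [IsNoetherianRing A] (J : Ideal A) (𝔭 : Ideal A) [𝔭.IsPrime]

/-- The completion of `A_𝔭` is flat over the completion of `A_f`, `f ∉ 𝔭`. -/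
theorem flat_cAwayToAtPrime (f : A) (hf : f ∉ 𝔭) : (FSch.cAwayToAtPrime A J 𝔭 f hf).Flat := by
  unfold FSch.cAwayToAtPrime
  have : IsNoetherianRing (Localization.Away f) :=
    IsLocalization.isNoetherianRing (Submonoid.powers f) _ inferInstance
  let _ : Algebra (Localization.Away f) (Localization.AtPrime 𝔭) :=
    (FSch.awayToAtPrime A 𝔭 f hf).toAlgebra
  have : IsScalarTower A (Localization.Away f) (Localization.AtPrime 𝔭) :=
    IsScalarTower.of_algebraMap_eq (fun a => (awayToAtPrime_algebraMap A 𝔭 f hf a).symm)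
  have hloc : IsLocalization (𝔭.primeCompl.map (algebraMap A (Localization.Away f)))
      (Localization.AtPrime 𝔭) :=
    IsLocalization.isLocalization_of_submonoid_le (Localization.Away f) (Localization.AtPrime 𝔭)
      (Submonoid.powers f) 𝔭.primeCompl (Submonoid.powers_le.mpr hf)
  have hK : (J.map (algebraMap A (Localization.Away f))).map (FSch.awayToAtPrime A 𝔭 f hf) =
      J.map (algebraMap A (Localization.AtPrime 𝔭)) := by
    rw [Ideal.map_map]
    congr 1
    exact RingHom.ext (awayToAtPrime_algebraMap A 𝔭 f hf)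
  exact ComplFlat.flat_complMap _ (FSch.awayToAtPrime A 𝔭 f hf) _ hloc _ hK

omit [IsNoetherianRing A] in
/-- Finitely many elements of the stalk subring come from a common completed localization. -/
lemma exists_common (l : ℕ) (b : Fin l → FSch.stalkSubring A J 𝔭) :
    ∃ (h : A) (hh : h ∉ 𝔭) (y : Fin l → FSch.cAway A J h),
      ∀ i, FSch.cAwayToAtPrime A J 𝔭 h hh (y i) = (b i : FSch.cAtPrime A J 𝔭) := by
  have H := fun i => (mem_stalkSubring_iff A J 𝔭 (b i).1).mp (b i).2
  choose k hk y hy using H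
  have hprod : ∏ i, k i ∉ 𝔭 := by
    intro hmem
    obtain ⟨i, -, hi⟩ := (Ideal.IsPrime.prod_mem_iff).mp hmem
    exact hk i hi
  have hu : ∀ i, IsUnit (algebraMap A (Localization.Away (∏ i, k i)) (k i)) := fun i =>
    IsLocalization.Away.isUnit_of_dvd (∏ i, k i) (Finset.dvd_prod_of_mem k (Finset.mem_univ i))
  refine ⟨∏ i, k i, hprod, fun i => cAwayTrans A J (k i) (∏ i, k i) (hu i) (y i), fun i => ?_⟩
  rw [cAwayToAtPrime_cAwayTrans A J 𝔭 (k i) (∏ i, k i) (hu i) (hk i) hprod, hy]

/-- The completion of `A_𝔭` is flat over the stalk subring. -/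
theorem flat_stalkSubring : Module.Flat (FSch.stalkSubring A J 𝔭) (FSch.cAtPrime A J 𝔭) := by
  refine Module.Flat.of_forall_isTrivialRelation fun {l f x} hfx => ?_
  obtain ⟨h, hh, y, hy⟩ := exists_common A J 𝔭 l f
  have hflat := flat_cAwayToAtPrime A J 𝔭 h hh
  unfold RingHom.Flat at hflat
  let _ : Algebra (FSch.cAway A J h) (FSch.cAtPrime A J 𝔭) :=
    (FSch.cAwayToAtPrime A J 𝔭 h hh).toAlgebra
  have hsmul : ∀ (r : FSch.cAway A J h) (c : FSch.cAtPrime A J 𝔭),
      r • c = FSch.cAwayToAtPrime A J 𝔭 h hh r * c := fun r c => rfl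
  have hrel : ∑ i, y i • x i = 0 := by
    rw [← hfx]
    refine Finset.sum_congr rfl fun i _ => ?_
    rw [hsmul, hy]
    rfl
  obtain ⟨k, a, z, hxz, haz⟩ := Module.Flat.isTrivialRelation_of_sum_smul_eq_zero hrel
  have hmem : ∀ i j, FSch.cAwayToAtPrime A J 𝔭 h hh (a i j) ∈ FSch.stalkSubring A J 𝔭 :=
    fun i j => (mem_stalkSubring_iff A J 𝔭 _).mpr ⟨h, hh, a i j, rfl⟩
  refine ⟨k, fun i j => ⟨_, hmem i j⟩, z, fun i => ?_, fun j => ?_⟩
  · rw [hxz i]
    rfl
  · apply Subtype.ext
    have := congrArg (FSch.cAwayToAtPrime A J 𝔭 h hh) (haz j)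
    rw [map_sum, map_zero] at this
    rw [Subring.coe_zero, ← this, AddSubmonoidClass.coe_finsetSum]
    refine Finset.sum_congr rfl fun i _ => ?_
    rw [Subring.coe_mul, map_mul, hy]

/-- The completion of `A_𝔭` is faithfully flat over the stalk subring. -/
theorem faithfullyFlat_stalkSubring (hJ : J ≤ 𝔭) :
    Module.FaithfullyFlat (FSch.stalkSubring A J 𝔭) (FSch.cAtPrime A J 𝔭) := by
  obtain ⟨hloc, hhom⟩ := isLocalRing_stalkSubring A J 𝔭 hJ
  have := isLocalRing_cAtPrime A J 𝔭 hJ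
  have := flat_stalkSubring A J 𝔭
  have : IsLocalHom (algebraMap (FSch.stalkSubring A J 𝔭) (FSch.cAtPrime A J 𝔭)) := hhom
  exact Module.FaithfullyFlat.of_flat_of_isLocalHom

/-- The stalk subring is Noetherian. -/
theorem isNoetherianRing_stalkSubring (hJ : J ≤ 𝔭) :
    IsNoetherianRing (FSch.stalkSubring A J 𝔭) := by
  have hff := faithfullyFlat_stalkSubring A J 𝔭 hJ
  have hC : IsNoetherianRing (Localization.AtPrime 𝔭) :=
    IsLocalization.isNoetherianRing 𝔭.primeCompl _ inferInstance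
  have hN : IsNoetherianRing (FSch.cAtPrime A J 𝔭) :=
    AdicNoeth.isNoetherianRing_adicCompletion _
  let φ := algebraMap (FSch.stalkSubring A J 𝔭) (FSch.cAtPrime A J 𝔭)
  let emb : Ideal (FSch.stalkSubring A J 𝔭) ↪o Ideal (FSch.cAtPrime A J 𝔭) :=
    OrderEmbedding.ofMapLEIff (Ideal.map φ) (fun a b => by
      refine ⟨fun hab => ?_, fun hab => Ideal.map_mono hab⟩
      rw [← Ideal.comap_map_eq_self_of_faithfullyFlat (B := FSch.cAtPrime A J 𝔭) a,
        ← Ideal.comap_map_eq_self_of_faithfullyFlat (B := FSch.cAtPrime A J 𝔭) b]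
      exact Ideal.comap_mono hab)
  rw [isNoetherianRing_iff, isNoetherian_iff'] at hN ⊢
  exact emb.wellFoundedGT

end Groth.Agent.Lib.StalkFlat
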