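/-
helper97: extending a linear map of stalks of coherent modules to a neighbourhood.
-/
import Groth.Agent.Lib.QCohHomGlue
import Groth.Agent.Lib.QCohStalk
import Groth.Agent.Lib.CohFinite
import Groth.Agent.Lib.AffineQCohHom81
import Groth.Agent.Lib.RestrictStalk
import Groth.Agent.Lib.H90CohRestrict

set_option autoImplicit false
set_option maxHeartbeats 400000
universe u
open CategoryTheory CategoryTheory.Limits AlgebraicGeometry Opposite TopologicalSpace
open AlgebraicGeometry.Scheme AlgebraicGeometry.Scheme.Modules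

namespace Groth.Agent.Lib.StalkHomExt97

open Groth.Agent.Lib.QCohStalk Groth.Agent.Lib.AssPush Groth.Agent.Lib.QCohHomGlue
  Groth.Agent.Lib.RestrictStalk Groth.Agent.Lib.ModStalkLin

variable {X : Scheme.{u}}

/-- Step A: a linear map of stalks comes, up to a unit, from a linear map of sections over an
affine open. -/
theorem exists_linearMap_germ [IsLocallyNoetherian X] (F G : X.Modules) [F.IsQuasicoherent]
    (hG : Coh.IsCoh G) {U : X.Opens} (hU : IsAffineOpen U) (x : U)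
    (ψ : ↑(G.presheaf.stalk x.1) →ₗ[X.presheaf.stalk x.1] ↑(F.presheaf.stalk x.1)) :
    ∃ (h : Γ(G, U) →ₗ[Γ(X, U)] Γ(F, U)) (s : Γ(X, U)),
      IsUnit (X.presheaf.germ U x.1 x.2 s) ∧
      ∀ m : Γ(G, U), F.presheaf.germ U x.1 x.2 (h m) =
        X.presheaf.germ U x.1 x.2 s • ψ (G.presheaf.germ U x.1 x.2 m) := by
  haveI : G.IsQuasicoherent := hG.1
  letI := moduleSectionStalk G x
  letI := moduleSectionStalk F x
  haveI := isScalarTower_sectionStalk G x
  haveI := isScalarTower_sectionStalk F x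
  haveI := isLocalizedModule_germ F hU x
  haveI hN : IsNoetherianRing Γ(X, U) := IsLocallyNoetherian.component_noetherian ⟨U, hU⟩
  haveI hfin : Module.Finite Γ(X, U) Γ(G, U) :=
    Groth.Agent.Lib.CohFinite.finite_sections_of_isCoh G hG hU
  haveI : Module.FinitePresentation Γ(X, U) Γ(G, U) := Module.finitePresentation_of_finite _ _
  let g : Γ(G, U) →ₗ[Γ(X, U)] ↑(F.presheaf.stalk x.1) :=
    (ψ.restrictScalars Γ(X, U)).comp (germLinear G x)
  obtain ⟨h, s, hs⟩ := Module.FinitePresentation.exists_lift_of_isLocalizedModule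
    (hU.primeIdealOf x).asIdeal.primeCompl (germLinear F x) g
  refine ⟨h, s.1, ?_, fun m => ?_⟩
  · have := hU.isLocalization_stalk x
    exact (IsLocalization.AtPrime.isUnit_to_map_iff (X.presheaf.stalk (x : X))
        (hU.primeIdealOf x).asIdeal s.1).mpr s.2
  · have := congrArg (fun l => l m) hs
    exact this

/-- Step B: a linear map of stalks is induced by a linear map of sections over a basic open
neighbourhood. -/
theorem exists_linearMap_basicOpen [IsLocallyNoetherian X] (F G : X.Modules) [F.IsQuasicoherent]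
    (hG : Coh.IsCoh G) {U : X.Opens} (hU : IsAffineOpen U) (x : U)
    (ψ : ↑(G.presheaf.stalk x.1) →ₗ[X.presheaf.stalk x.1] ↑(F.presheaf.stalk x.1)) :
    ∃ (s : Γ(X, U)) (hxs : x.1 ∈ X.basicOpen s)
      (v : Γ(G, X.basicOpen s) →ₗ[Γ(X, X.basicOpen s)] Γ(F, X.basicOpen s)),
      ∀ m : Γ(G, X.basicOpen s), F.presheaf.germ (X.basicOpen s) x.1 hxs (v m) =
        ψ (G.presheaf.germ (X.basicOpen s) x.1 hxs m) := by
  haveI : G.IsQuasicoherent := hG.1
  obtain ⟨h, s, hsu, hs⟩ := exists_linearMap_germ F G hG hU x ψ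
  have hxs : x.1 ∈ X.basicOpen s := (X.mem_basicOpen _ _ x.2).mpr hsu
  have hlG := isLocalizingOn_of_isQuasicoherent G hU
  have hlF := isLocalizingOn_of_isQuasicoherent F hU
  have hu : IsUnit (resO X (X.basicOpen_le s) s) := isUnit_resO_of_le_basicOpen s le_rfl
  obtain ⟨t, ht⟩ := hu.exists_left_inv
  -- `t * s|_{D(s)} = 1`
  let v : Γ(G, X.basicOpen s) →ₗ[Γ(X, X.basicOpen s)] Γ(F, X.basicOpen s) :=
    { toFun := fun m => t • locMap hlG hlF h s m
      map_add' := fun a b => by rw [map_add, smul_add]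
      map_smul' := fun r m => by
        rw [locMap_smul hlG hlF hU h s r m, RingHom.id_apply, smul_smul, smul_smul, mul_comm] }
  refine ⟨s, hxs, v, fun m => ?_⟩
  obtain ⟨n, m₀, hm₀⟩ := hlG.surj s m
  -- germs
  have hgs : X.presheaf.germ (X.basicOpen s) x.1 hxs (resO X (X.basicOpen_le s) s) =
      X.presheaf.germ U x.1 x.2 s := germO_res X (X.basicOpen_le s) x.1 hxs s
  have hgt : X.presheaf.germ (X.basicOpen s) x.1 hxs t * X.presheaf.germ U x.1 x.2 s = 1 := by
    rw [← hgs, ← map_mul, ht, map_one]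
  have hun : IsUnit (X.presheaf.germ U x.1 x.2 s ^ n) := hsu.pow n
  apply hun.smul_left_cancel.mp
  -- left side
  have e1 : X.presheaf.germ U x.1 x.2 s ^ n • F.presheaf.germ (X.basicOpen s) x.1 hxs (v m) =
      F.presheaf.germ (X.basicOpen s) x.1 hxs (v (resO X (X.basicOpen_le s) s ^ n • m)) := by
    rw [LinearMap.map_smul, germ_smul, map_pow, hgs]
  have e2 : v (resO X (X.basicOpen_le s) s ^ n • m) = t • res F (X.basicOpen_le s) (h m₀) := by
    rw [hm₀]
    change t • locMap hlG hlF h s (res G (X.basicOpen_le s) m₀) = _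
    rw [locMap_res]
  have e3 : F.presheaf.germ (X.basicOpen s) x.1 hxs (t • res F (X.basicOpen_le s) (h m₀)) =
      ψ (G.presheaf.germ U x.1 x.2 m₀) := by
    rw [germ_smul, germ_res, hs m₀, smul_smul, hgt, one_smul]
  have e4 : G.presheaf.germ U x.1 x.2 m₀ =
      X.presheaf.germ U x.1 x.2 s ^ n • G.presheaf.germ (X.basicOpen s) x.1 hxs m := by
    rw [← germ_res G (X.basicOpen_le s) x.1 hxs m₀, ← hm₀, germ_smul, map_pow, hgs]
  rw [e1, e2, e3, e4, LinearMap.map_smul]

/-- Step C: a linear map of sections over an affine open `V` induces a morphism of the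
restrictions to `V`. -/
theorem exists_hom_restrict_of_linearMap (F G : X.Modules) [G.IsQuasicoherent] {V : X.Opens}
    (hV : IsAffineOpen V) (v : Γ(G, V) →ₗ[Γ(X, V)] Γ(F, V)) :
    ∃ φ : G.restrict V.ι ⟶ F.restrict V.ι, ∀ m : Γ(G.restrict V.ι, ⊤),
      (show Γ(F, V.ι ''ᵁ ⊤) from φ.app ⊤ m) = res F (le_of_eq V.ι_image_top)
        (v (res G (le_of_eq V.ι_image_top.symm) (show Γ(G, V.ι ''ᵁ ⊤) from m))) := by
  haveI : IsAffine (V : Scheme.{u}) := hV
  haveI : (G.restrict V.ι).IsQuasicoherent :=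
    Scheme.Modules.isQuasicoherent_restrictFunctor _ _
  let a0 : Γ(G, V.ι ''ᵁ ⊤) →+ Γ(F, V.ι ''ᵁ ⊤) :=
    (F.presheaf.map (homOfLE (le_of_eq V.ι_image_top)).op).hom.comp
      (v.toAddMonoidHom.comp (G.presheaf.map (homOfLE (le_of_eq V.ι_image_top.symm)).op).hom)
  have ha0 : ∀ (r : Γ(X, V.ι ''ᵁ ⊤)) (m : Γ(G, V.ι ''ᵁ ⊤)), a0 (r • m) = r • a0 m := by
    intro r m
    change res F _ (v (res G _ (r • m))) = r • res F _ (v (res G _ m))
    rw [res_smul, LinearMap.map_smul, res_smul, resO_resO,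
      Groth.Agent.Lib.H90OXModQcqs.resO_self]
  let vv : Γ(G.restrict V.ι, ⊤) →ₗ[Γ((V : Scheme.{u}), ⊤)] Γ(F.restrict V.ι, ⊤) :=
    { toFun := fun m => (F.restrictAppIso V.ι ⊤).inv (a0 ((G.restrictAppIso V.ι ⊤).hom m))
      map_add' := fun a b => by
        rw [map_add, map_add, map_add]
      map_smul' := fun r m => by
        rw [Scheme.Modules.smul_restrictAppIso_hom_apply, ha0,
          Scheme.Modules.smul_restrictAppIso_inv_apply, RingHom.id_apply]
        congr 1
        exact congr($((V.ι.appIso ⊤).inv_hom_id) r) }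
  obtain ⟨α, hα⟩ := Groth.Agent.Lib.AffineQCohHom81.exists_hom_of_isAffine
    (G.restrict V.ι) (F.restrict V.ι) vv
  exact ⟨α, fun m => hα m⟩

/-- Step D (general point of `V`): the stalk of the morphism of Step C. -/
theorem stalk_eq_of_germ (F G : X.Modules) [G.IsQuasicoherent] {V : X.Opens}
    (hV : IsAffineOpen V) (y : (V : Scheme.{u}))
    (ψ : ↑(G.presheaf.stalk (V.ι y)) →ₗ[X.presheaf.stalk (V.ι y)] ↑(F.presheaf.stalk (V.ι y)))
    (v : Γ(G, V) →ₗ[Γ(X, V)] Γ(F, V)) (hyV : V.ι y ∈ V)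
    (hv : ∀ m : Γ(G, V), F.presheaf.germ V (V.ι y) hyV (v m) =
      ψ (G.presheaf.germ V (V.ι y) hyV m))
    (φ : G.restrict V.ι ⟶ F.restrict V.ι)
    (hφ : ∀ m : Γ(G.restrict V.ι, ⊤),
      (show Γ(F, V.ι ''ᵁ ⊤) from φ.app ⊤ m) = res F (le_of_eq V.ι_image_top)
        (v (res G (le_of_eq V.ι_image_top.symm) (show Γ(G, V.ι ''ᵁ ⊤) from m))))
    (ν : (G.restrict V.ι).presheaf.stalk y) :
    restrictStalkAddEquiv V.ι F y (stalkLin φ y ν) = ψ (restrictStalkAddEquiv V.ι G y ν) := by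
  haveI : IsAffine (V : Scheme.{u}) := hV
  haveI : (G.restrict V.ι).IsQuasicoherent :=
    Scheme.Modules.isQuasicoherent_restrictFunctor _ _
  obtain ⟨g, σ, hgu, hgσ⟩ := exists_germ_smul_eq_germ (G.restrict V.ι)
    (isAffineOpen_top _) y trivial ν
  set a := (V : Scheme.{u}).presheaf.germ ⊤ y trivial g with ha
  set b := (stalkRingEquiv V.ι y).symm a with hb
  have hab : (V.ι.stalkMap y).hom b = a := by
    rw [hb, ← stalkRingEquiv_apply, RingEquiv.apply_symm_apply]
  have hbu : IsUnit b := by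
    rw [hb]
    exact hgu.map (stalkRingEquiv V.ι y).symm
  have key : restrictStalkAddEquiv V.ι F y (stalkLin φ y (a • ν)) =
      ψ (restrictStalkAddEquiv V.ι G y (a • ν)) := by
    rw [hgσ, stalkLin_germ, restrictStalkAddEquiv_germ, restrictStalkAddEquiv_germ]
    have h1 := hφ σ
    rw [h1, germ_res]
    have h2 := hv (res G (le_of_eq V.ι_image_top.symm) (show Γ(G, V.ι ''ᵁ ⊤) from σ))
    rw [germ_res] at h2
    exact h2
  rw [LinearMap.map_smul, ← hab, restrictStalkAddEquiv_smul, restrictStalkAddEquiv_smul,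
    LinearMap.map_smul] at key
  exact hbu.smul_left_cancel.mp key

/-- **Every linear map of stalks of coherent modules is the stalk of a morphism defined on a
neighbourhood.** -/
theorem exists_hom_restrict_stalk [IsLocallyNoetherian X] (F G : X.Modules) (hF : Coh.IsCoh F)
    (hG : Coh.IsCoh G) (x : X)
    (ψ : ↑(G.presheaf.stalk x) →ₗ[X.presheaf.stalk x] ↑(F.presheaf.stalk x)) :
    ∃ (V : X.Opens) (hx : x ∈ V) (φ : G.restrict V.ι ⟶ F.restrict V.ι),
      ∀ ν : (G.restrict V.ι).presheaf.stalk (⟨x, hx⟩ : (V : Scheme.{u})),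
        restrictStalkAddEquiv V.ι F (⟨x, hx⟩ : (V : Scheme.{u}))
            (stalkLin φ (⟨x, hx⟩ : (V : Scheme.{u})) ν) =
          ψ (restrictStalkAddEquiv V.ι G (⟨x, hx⟩ : (V : Scheme.{u})) ν) := by
  haveI : F.IsQuasicoherent := hF.1
  haveI : G.IsQuasicoherent := hG.1
  obtain ⟨_, ⟨U, hU, rfl⟩, hxU, -⟩ :=
    X.isBasis_affineOpens.exists_subset_of_mem_open (Set.mem_univ x) isOpen_univ
  obtain ⟨s, hxs, v, hv⟩ := exists_linearMap_basicOpen F G hG hU ⟨x, hxU⟩ ψ
  have hV : IsAffineOpen (X.basicOpen s) := hU.basicOpen s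
  obtain ⟨φ, hφ⟩ := exists_hom_restrict_of_linearMap F G hV v
  exact ⟨X.basicOpen s, hxs, φ, fun ν =>
    stalk_eq_of_germ F G hV (⟨x, hxs⟩ : ((X.basicOpen s : X.Opens) : Scheme.{u})) ψ v hxs hv φ hφ ν⟩

end Groth.Agent.Lib.StalkHomExt97
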