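import Groth.Prelude.Def_IntMult
import Mathlib.AlgebraicGeometry.IdealSheaf.Subscheme
import Mathlib.AlgebraicGeometry.Noetherian

/-!
# Stalks of ideal sheaves (`IntMult.stalkIdeal`) (helper84)

* `stalkIdeal_eq_map`: `stalkIdeal I x = (I.ideal U).map germ` for any affine `U ∋ x`.
* `isPrime_ideal`, `isPrime_stalkIdeal`: integral subscheme ⇒ prime ideals.
* `ideal_le_primeIdealOf`, `ideal_le_of_stalkIdeal_le`, `isIrreducible_support`,
  `support_subset_of_ideal_le`.
* `topologicalKrullDim_add_one_le_of_ne_univ`: a proper closed subset of an irreducible space has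
  `dim + 1 ≤ dim`.
-/

set_option autoImplicit false
set_option linter.style.haveILetI false
universe u
open CategoryTheory AlgebraicGeometry TopologicalSpace

namespace Groth.Agent.Lib.StalkIdeal84

variable {X : Scheme.{u}} (I : X.IdealSheafData)

theorem map_germ_le (U V : X.affineOpens) (x : X) (hxU : x ∈ U.1) (hxV : x ∈ V.1) :
    (I.ideal V).map (X.presheaf.germ V.1 x hxV).hom ≤
      (I.ideal U).map (X.presheaf.germ U.1 x hxU).hom := by
  obtain ⟨f, g, hfg, hxf⟩ := exists_basicOpen_le_affine_inter U.2 V.2 x ⟨hxU, hxV⟩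
  let W : X.affineOpens := X.affineBasicOpen f
  have hWU : W ≤ U := X.affineBasicOpen_le f
  have hWV : W ≤ V := by
    show X.basicOpen f ≤ V.1
    rw [hfg]; exact X.basicOpen_le g
  have hxW : x ∈ W.1 := hxf
  have h1 := I.map_ideal hWU
  have h2 := I.map_ideal hWV
  have e1 : (X.presheaf.germ V.1 x hxV) =
      X.presheaf.map (homOfLE hWV).op ≫ X.presheaf.germ W.1 x hxW :=
    (X.presheaf.germ_res (homOfLE hWV) x hxW).symm
  have e2 : (X.presheaf.germ U.1 x hxU) =
      X.presheaf.map (homOfLE hWU).op ≫ X.presheaf.germ W.1 x hxW :=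
    (X.presheaf.germ_res (homOfLE hWU) x hxW).symm
  rw [e1, e2, CommRingCat.hom_comp, CommRingCat.hom_comp, ← Ideal.map_map, ← Ideal.map_map,
    h1, h2]

theorem stalkIdeal_eq_map (U : X.affineOpens) (x : X) (hxU : x ∈ U.1) :
    IntMult.stalkIdeal I x = (I.ideal U).map (X.presheaf.germ U.1 x hxU).hom := by
  apply le_antisymm
  · unfold IntMult.stalkIdeal
    exact iSup₂_le fun V hxV => map_germ_le I U V x hxU hxV
  · unfold IntMult.stalkIdeal
    exact le_iSup₂ (f := fun (V : X.affineOpens) (hx : x ∈ (V : X.Opens)) =>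
      (I.ideal V).map (X.presheaf.germ V x hx).hom) U hxU

theorem isPrime_ideal [IsIntegral I.subscheme] (U : X.affineOpens) (x : X) (hxU : x ∈ U.1)
    (hx : x ∈ I.support) : (I.ideal U).IsPrime := by
  have hr : x ∈ Set.range I.subschemeι := by rw [I.range_subschemeι]; exact hx
  obtain ⟨y, hy⟩ := hr
  have : Nonempty (I.subschemeι ⁻¹ᵁ U.1) := ⟨⟨y, by
    show I.subschemeι y ∈ U.1
    rw [hy]; exact hxU⟩⟩
  rw [← I.ker_subschemeι_app U]
  exact RingHom.ker_isPrime _

theorem ideal_le_primeIdealOf (U : X.affineOpens) (x : X) (hxU : x ∈ U.1) (hx : x ∈ I.support) :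
    I.ideal U ≤ (U.2.primeIdealOf ⟨x, hxU⟩).asIdeal := by
  intro s hs
  have hz := (Scheme.IdealSheafData.mem_support_iff_of_mem (I := I) (U := U) hxU).mp hx
  rw [Scheme.mem_zeroLocus_iff] at hz
  have h1 := hz s hs
  rw [Scheme.mem_basicOpen X s x hxU] at h1
  letI := X.presheaf.algebra_section_stalk (U := U.1) ⟨x, hxU⟩
  haveI := U.2.isLocalization_stalk ⟨x, hxU⟩
  by_contra hns
  apply h1
  exact (IsLocalization.AtPrime.isUnit_to_map_iff (X.presheaf.stalk x)
    (U.2.primeIdealOf ⟨x, hxU⟩).asIdeal s).mpr hns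

theorem isPrime_stalkIdeal [IsIntegral I.subscheme] (x : X) (hx : x ∈ I.support) :
    (IntMult.stalkIdeal I x).IsPrime := by
  obtain ⟨_, ⟨U, hU : IsAffineOpen U, rfl⟩, hxU, -⟩ :=
    X.isBasis_affineOpens.exists_subset_of_mem_open (Set.mem_univ x) isOpen_univ
  rw [stalkIdeal_eq_map I ⟨U, hU⟩ x hxU]
  letI := X.presheaf.algebra_section_stalk (U := U) ⟨x, hxU⟩
  haveI := hU.isLocalization_stalk ⟨x, hxU⟩
  have hp := isPrime_ideal I ⟨U, hU⟩ x hxU hx
  refine IsLocalization.isPrime_of_isPrime_disjoint
    (hU.primeIdealOf ⟨x, hxU⟩).asIdeal.primeCompl (X.presheaf.stalk x) _ hp ?_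
  rw [Set.disjoint_left]
  intro s hs hsI
  exact hs (ideal_le_primeIdealOf I ⟨U, hU⟩ x hxU hx hsI)

/-- if `I_x ≤ J_x` with `J` integral through `x`, then `I(U) ≤ J(U)` for affine `U ∋ x`. -/
theorem ideal_le_of_stalkIdeal_le (J : X.IdealSheafData) [IsIntegral J.subscheme]
    (U : X.affineOpens) (x : X) (hxU : x ∈ U.1) (hx : x ∈ J.support)
    (h : IntMult.stalkIdeal I x ≤ IntMult.stalkIdeal J x) : I.ideal U ≤ J.ideal U := by
  rw [stalkIdeal_eq_map I U x hxU, stalkIdeal_eq_map J U x hxU] at h
  letI := X.presheaf.algebra_section_stalk (U := U.1) ⟨x, hxU⟩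
  haveI := U.2.isLocalization_stalk ⟨x, hxU⟩
  have hp := isPrime_ideal J U x hxU hx
  have hd : Disjoint ((U.2.primeIdealOf ⟨x, hxU⟩).asIdeal.primeCompl : Set Γ(X, U.1))
      (J.ideal U : Set Γ(X, U.1)) := by
    rw [Set.disjoint_left]
    intro s hs hsI
    exact hs (ideal_le_primeIdealOf J U x hxU hx hsI)
  have hc := IsLocalization.under_map_of_isPrime_disjoint
    (U.2.primeIdealOf ⟨x, hxU⟩).asIdeal.primeCompl (X.presheaf.stalk x) hp hd
  intro s hs
  rw [← hc]
  rw [Ideal.mem_comap]
  exact h (Ideal.mem_map_of_mem _ hs)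

theorem isIrreducible_support [IsIntegral I.subscheme] : IsIrreducible (I.support : Set X) := by
  rw [← I.range_subschemeι, ← Set.image_univ]
  exact (IrreducibleSpace.isIrreducible_univ _).image _ I.subschemeι.continuous.continuousOn

theorem support_subset_of_ideal_le (J : X.IdealSheafData) [IsIntegral J.subscheme]
    (U : X.affineOpens) (x : X) (hxU : x ∈ U.1) (hx : x ∈ J.support)
    (h : I.ideal U ≤ J.ideal U) : (J.support : Set X) ⊆ I.support := by
  have h1 : (J.support : Set X) ∩ U.1 ⊆ I.support := by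
    rintro y ⟨hyJ, hyU⟩
    have hz := (Scheme.IdealSheafData.mem_support_iff_of_mem (I := J) (U := U) hyU).mp hyJ
    refine (Scheme.IdealSheafData.mem_support_iff_of_mem (I := I) (U := U) hyU).mpr ?_
    rw [Scheme.mem_zeroLocus_iff] at hz ⊢
    intro s hs
    exact hz s (h hs)
  have h2 := subset_closure_inter_of_isPreirreducible_of_isOpen
    (isIrreducible_support J).isPreirreducible U.1.isOpen ⟨x, hx, hxU⟩
  refine h2.trans ?_
  exact closure_minimal h1 I.support.isClosed


section dim
open Order

theorem topologicalKrullDim_add_one_le_of_ne_univ {X : Type*} [TopologicalSpace X]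
    [IrreducibleSpace X] (V : Set X) (hV : IsClosed V) (hne : V ≠ Set.univ) :
    topologicalKrullDim V + 1 ≤ topologicalKrullDim X := by
  by_cases hN : Nonempty (IrreducibleCloseds V)
  · unfold topologicalKrullDim
    rw [← krullDim_WithTop]
    let topX : IrreducibleCloseds X := ⟨Set.univ, IrreducibleSpace.isIrreducible_univ X, isClosed_univ⟩
    let m : IrreducibleCloseds V → IrreducibleCloseds X :=
      IrreducibleCloseds.map (Subtype.val) continuous_subtype_val
    have hm : StrictMono m :=
      IrreducibleCloseds.map_strictMono_of_isInducing Topology.IsInducing.subtypeVal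
    have hlt : ∀ Z : IrreducibleCloseds V, m Z < topX := by
      intro Z
      have hsub : (m Z : Set X) ⊆ V := by
        show closure (Subtype.val '' (Z : Set V)) ⊆ V
        refine closure_minimal ?_ hV
        rintro _ ⟨y, -, rfl⟩
        exact y.2
      refine lt_of_le_of_ne (fun y _ => Set.mem_univ y) ?_
      intro heq
      apply hne
      apply Set.eq_univ_of_univ_subset
      have : (m Z : Set X) = Set.univ := congrArg (fun W : IrreducibleCloseds X => (W : Set X)) heq
      rw [← this]; exact hsub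
    refine krullDim_le_of_strictMono (fun z => z.recTopCoe topX m) ?_
    intro a b hab
    induction a using WithTop.recTopCoe with
    | top => exact absurd hab (not_top_lt)
    | coe a =>
      induction b using WithTop.recTopCoe with
      | top => exact hlt a
      | coe b => exact hm (WithTop.coe_lt_coe.mp hab)
  · rw [not_nonempty_iff] at hN
    have : topologicalKrullDim V = ⊥ := by
      unfold topologicalKrullDim
      exact krullDim_eq_bot
    rw [this]
    simp

end dim

end Groth.Agent.Lib.StalkIdeal84
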