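import Groth.Agent.Lib.StalkIdeal84
import Groth.Agent.Lib.FiniteLengthSupport
import Mathlib.AlgebraicGeometry.Stalk

/-!
# Primes of `O_{X,ξ}` over `IntMult.stalkIdeal` vs. generizations (helper84)

* `stalkIdeal_le_iff I x p : stalkIdeal I x ≤ p.asIdeal ↔ X.fromSpecStalk x p ∈ I.support`.
* `eq_maximalIdeal_of_sup_le`: `ξ` maximal point of `V ∩ W` ⇒ the only prime containing
  `IV_ξ ⊔ IW_ξ` is the maximal ideal.
* `isFiniteLength_quotient_sup`, `supportDim_quotient_smul_le`.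
-/

set_option autoImplicit false
set_option linter.style.haveILetI false
universe u
open CategoryTheory AlgebraicGeometry TopologicalSpace

namespace Groth.Agent.Lib.StalkIdeal84

variable {X : Scheme.{u}} (I : X.IdealSheafData)

theorem stalkIdeal_le_iff_aux (V : X.affineOpens) (x : X) (hxV : x ∈ V.1)
    (p : PrimeSpectrum (X.presheaf.stalk x)) :
    IntMult.stalkIdeal I x ≤ p.asIdeal ↔ X.fromSpecStalk x p ∈ I.support := by
  rw [stalkIdeal_eq_map I V x hxV, ← V.2.fromSpecStalk_eq_fromSpecStalk hxV]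
  set q : PrimeSpectrum Γ(X, V.1) := PrimeSpectrum.comap (X.presheaf.germ V.1 x hxV).hom p with hq
  have h1 : V.2.fromSpecStalk hxV p = V.2.fromSpec q := by
    rw [IsAffineOpen.fromSpecStalk, Scheme.Hom.comp_apply]
    rfl
  have hmemU : V.2.fromSpec q ∈ V.1 := by
    have := V.2.range_fromSpec
    rw [← SetLike.mem_coe, ← this]
    exact Set.mem_range_self _
  rw [h1, Scheme.IdealSheafData.mem_support_iff_of_mem (I := I) (U := V) hmemU]
  have h2 : V.2.fromSpec q ∈ X.zeroLocus (U := V.1) (I.ideal V : Set Γ(X, V.1)) ↔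
      q ∈ PrimeSpectrum.zeroLocus (I.ideal V : Set Γ(X, V.1)) := by
    rw [← V.2.fromSpec_preimage_zeroLocus]
    rfl
  rw [h2, PrimeSpectrum.mem_zeroLocus, Ideal.map_le_iff_le_comap]
  rfl

/-- a prime `p` of `O_{X,x}` contains `I_x` iff the corresponding generization of `x` lies in the
support of `I`. -/
theorem stalkIdeal_le_iff (x : X) (p : PrimeSpectrum (X.presheaf.stalk x)) :
    IntMult.stalkIdeal I x ≤ p.asIdeal ↔ X.fromSpecStalk x p ∈ I.support := by
  obtain ⟨_, ⟨U, hU : IsAffineOpen U, rfl⟩, hxU, -⟩ :=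
    X.isBasis_affineOpens.exists_subset_of_mem_open (Set.mem_univ x) isOpen_univ
  exact stalkIdeal_le_iff_aux I ⟨U, hU⟩ x hxU p

end Groth.Agent.Lib.StalkIdeal84

namespace Groth.Agent.Lib.StalkIdeal84

variable {X : Scheme.{u}}

/-- if `ξ` is a maximal point of `V ∩ W`, the only prime of `O_{X,ξ}` containing `IV_ξ + IW_ξ` is the
maximal ideal. -/
theorem eq_maximalIdeal_of_sup_le (IV IW : X.IdealSheafData) (ξ : X)
    (hmax : ∀ ξ' : X, ξ' ∈ IV.support → ξ' ∈ IW.support → ξ' ⤳ ξ → ξ' = ξ)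
    (p : Ideal (X.presheaf.stalk ξ)) [hp : p.IsPrime]
    (hle : IntMult.stalkIdeal IV ξ ⊔ IntMult.stalkIdeal IW ξ ≤ p) :
    p = IsLocalRing.maximalIdeal (X.presheaf.stalk ξ) := by
  let P : PrimeSpectrum (X.presheaf.stalk ξ) := ⟨p, hp⟩
  have hV : X.fromSpecStalk ξ P ∈ IV.support :=
    (stalkIdeal_le_iff IV ξ P).mp (le_sup_left.trans hle)
  have hW : X.fromSpecStalk ξ P ∈ IW.support :=
    (stalkIdeal_le_iff IW ξ P).mp (le_sup_right.trans hle)
  have hsp : X.fromSpecStalk ξ P ⤳ ξ := by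
    have : X.fromSpecStalk ξ P ∈ Set.range (X.fromSpecStalk ξ) := Set.mem_range_self _
    rw [Scheme.range_fromSpecStalk] at this
    exact this
  have heq := hmax _ hV hW hsp
  have hcl : X.fromSpecStalk ξ (IsLocalRing.closedPoint (X.presheaf.stalk ξ)) = ξ :=
    Scheme.fromSpecStalk_closedPoint
  have hinj : Function.Injective (X.fromSpecStalk ξ) :=
    (X.fromSpecStalk ξ).isEmbedding.injective
  have hP : P = IsLocalRing.closedPoint (X.presheaf.stalk ξ) := hinj (heq.trans hcl.symm)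
  exact congrArg PrimeSpectrum.asIdeal hP

theorem isFiniteLength_quotient_sup [IsLocallyNoetherian X] (IV IW : X.IdealSheafData) (ξ : X)
    (hmax : ∀ ξ' : X, ξ' ∈ IV.support → ξ' ∈ IW.support → ξ' ⤳ ξ → ξ' = ξ) :
    IsFiniteLength (X.presheaf.stalk ξ)
      (X.presheaf.stalk ξ ⧸ (IntMult.stalkIdeal IV ξ ⊔ IntMult.stalkIdeal IW ξ)) := by
  refine Groth.Agent.Lib.FiniteLengthSupport.isFiniteLength_of_support_isMaximal ?_
  intro p hp
  rw [Groth.Agent.Lib.FiniteLengthSupport.mem_support_quotient_iff] at hp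
  have := eq_maximalIdeal_of_sup_le IV IW ξ hmax p.asIdeal hp
  rw [this]
  exact IsLocalRing.maximalIdeal.isMaximal _

open Pointwise in
theorem supportDim_quotient_smul_le [IsLocallyNoetherian X] (IV IW : X.IdealSheafData) (ξ : X)
    (hmax : ∀ ξ' : X, ξ' ∈ IV.support → ξ' ∈ IW.support → ξ' ⤳ ξ → ξ' = ξ) :
    Module.supportDim (X.presheaf.stalk ξ)
      ((X.presheaf.stalk ξ ⧸ IntMult.stalkIdeal IW ξ) ⧸
        (IntMult.stalkIdeal IV ξ • (⊤ : Submodule (X.presheaf.stalk ξ)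
          (X.presheaf.stalk ξ ⧸ IntMult.stalkIdeal IW ξ)))) ≤ 0 := by
  unfold Module.supportDim
  have hsub : ∀ p ∈ Module.support (X.presheaf.stalk ξ)
      ((X.presheaf.stalk ξ ⧸ IntMult.stalkIdeal IW ξ) ⧸
        (IntMult.stalkIdeal IV ξ • (⊤ : Submodule (X.presheaf.stalk ξ)
          (X.presheaf.stalk ξ ⧸ IntMult.stalkIdeal IW ξ)))),
      p = IsLocalRing.closedPoint (X.presheaf.stalk ξ) := by
    intro p hp
    rw [Module.support_quotient] at hp
    obtain ⟨h1, h2⟩ := hp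
    rw [Groth.Agent.Lib.FiniteLengthSupport.mem_support_quotient_iff] at h1
    rw [PrimeSpectrum.mem_zeroLocus] at h2
    have := eq_maximalIdeal_of_sup_le IV IW ξ hmax p.asIdeal (sup_le h2 h1)
    exact PrimeSpectrum.ext this
  haveI : Subsingleton (Module.support (X.presheaf.stalk ξ)
      ((X.presheaf.stalk ξ ⧸ IntMult.stalkIdeal IW ξ) ⧸
        (IntMult.stalkIdeal IV ξ • (⊤ : Submodule (X.presheaf.stalk ξ)
          (X.presheaf.stalk ξ ⧸ IntMult.stalkIdeal IW ξ))))) :=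
    ⟨fun a b => Subtype.ext ((hsub a a.2).trans (hsub b b.2).symm)⟩
  exact Order.krullDim_nonpos_of_subsingleton

end Groth.Agent.Lib.StalkIdeal84
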