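import Groth.Agent.Lib.EtAbStalk
import Groth.Prelude.Def_PBC
import Mathlib.Topology.NoetherianSpace
import Mathlib.Topology.Sober

/-!
# Elementary properties of the support of an abelian etale sheaf, and closures of constructible sets
(helper34)
-/

set_option autoImplicit false
universe u

open CategoryTheory CategoryTheory.Limits AlgebraicGeometry Opposite Topology
open scoped ZeroObject

namespace Groth.Agent.Lib.SuppLemmas34

open Groth.Agent.Lib.EtAbStalk

variable {X : Scheme.{u}}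

lemma supp_eq_empty_of_isZero {C : EtCoh.Ab X} (hC : IsZero C) : EtPBC.supp C = ∅ := by
  ext x
  simp only [Set.mem_empty_iff_false, iff_false]
  rintro ⟨Ω, _, _, ξ, -, hnz⟩
  exact hnz ((EtCoh.stalk ξ).map_isZero hC)

lemma supp_subset_of_mono {C F : EtCoh.Ab X} (i : C ⟶ F) [Mono i] :
    EtPBC.supp C ⊆ EtPBC.supp F := by
  rintro x ⟨Ω, i1, i2, ξ, hξ, hnz⟩
  refine ⟨Ω, i1, i2, ξ, hξ, fun hz => hnz ?_⟩
  exact IsZero.of_mono ((EtCoh.stalk ξ).map i) hz

lemma supp_subset_of_epi {C Q : EtCoh.Ab X} (π : C ⟶ Q) [Epi π] :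
    EtPBC.supp Q ⊆ EtPBC.supp C := by
  rintro x ⟨Ω, i1, i2, ξ, hξ, hnz⟩
  refine ⟨Ω, i1, i2, ξ, hξ, fun hz => hnz ?_⟩
  exact IsZero.of_epi ((EtCoh.stalk ξ).map π) hz

lemma supp_biprod_subset (C C' : EtCoh.Ab X) :
    EtPBC.supp (C ⊞ C') ⊆ EtPBC.supp C ∪ EtPBC.supp C' := by
  rintro x ⟨Ω, i1, i2, ξ, hξ, hnz⟩
  by_contra hx
  rw [Set.mem_union, not_or] at hx
  have h1 : IsZero ((EtCoh.stalk ξ).obj C) := by
    by_contra h
    exact hx.1 ⟨Ω, i1, i2, ξ, hξ, h⟩
  have h2 : IsZero ((EtCoh.stalk ξ).obj C') := by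
    by_contra h
    exact hx.2 ⟨Ω, i1, i2, ξ, hξ, h⟩
  apply hnz
  haveI : PreservesBinaryBiproduct C C' (EtCoh.stalk ξ) :=
    preservesBinaryBiproduct_of_preservesBiproduct _ _ _
  refine IsZero.of_iso ?_ ((EtCoh.stalk ξ).mapBiprod C C')
  rw [IsZero.iff_id_eq_zero]
  apply biprod.hom_ext
  · exact h1.eq_of_tgt _ _
  · exact h2.eq_of_tgt _ _

section top

variable {Y : Type*} [TopologicalSpace Y]

/-- in an irreducible space, a constructible set whose closure contains the generic point contains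
the generic point -/
lemma genericPoint_mem_of_mem_closure [QuasiSober Y] [IrreducibleSpace Y] {T : Set Y}
    (hT : IsConstructible T) (h : genericPoint Y ∈ closure T) : genericPoint Y ∈ T := by
  revert h
  refine BooleanSubalgebra.closure_sdiff_sup_induction
    (s := {U : Set Y | IsOpen U ∧ IsRetrocompact U})
    (p := fun g _ => genericPoint Y ∈ closure g → genericPoint Y ∈ g) ?_ ?_ ?_ ?_ ?_ T hT
  · exact ⟨fun s hs t ht ↦ ⟨hs.1.union ht.1, hs.2.union ht.2⟩,
      fun s hs t ht ↦ ⟨hs.1.inter ht.1, hs.2.inter_isOpen ht.2 ht.1⟩⟩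
  · exact ⟨isOpen_empty, .empty⟩
  · exact ⟨isOpen_univ, .univ⟩
  · intro U hU V hV h
    have hne : (U \ V).Nonempty := by
      by_contra hne
      rw [Set.not_nonempty_iff_eq_empty] at hne
      rw [hne, closure_empty] at h
      exact h
    obtain ⟨y, hyU, hyV⟩ := hne
    refine ⟨?_, ?_⟩
    · exact ((genericPoint_spec Y).mem_open_set_iff hU.1).2 ⟨y, trivial, hyU⟩
    · intro hV'
      have h2 : closure (U \ V) ⊆ Vᶜ :=
        closure_minimal (fun z hz => hz.2) hV.1.isClosed_compl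
      exact h2 h hV'
  · intro s _ t _ hs ht h
    change _ ∈ closure (s ∪ t) at h
    rw [closure_union] at h
    rcases h with h | h
    · exact Or.inl (hs h)
    · exact Or.inr (ht h)

/-- in a Noetherian sober space, every point of the closure of a constructible set is a
specialization of a point of the set -/
lemma exists_specializes_of_mem_closure [QuasiSober Y] [TopologicalSpace.NoetherianSpace Y] {T : Set Y}
    (hT : IsConstructible T) {x : Y} (hx : x ∈ closure T) : ∃ t ∈ T, t ⤳ x := by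
  revert hx
  refine BooleanSubalgebra.closure_sdiff_sup_induction
    (s := {U : Set Y | IsOpen U ∧ IsRetrocompact U})
    (p := fun g _ => x ∈ closure g → ∃ t ∈ g, t ⤳ x) ?_ ?_ ?_ ?_ ?_ T hT
  · exact ⟨fun s hs t ht ↦ ⟨hs.1.union ht.1, hs.2.union ht.2⟩,
      fun s hs t ht ↦ ⟨hs.1.inter ht.1, hs.2.inter_isOpen ht.2 ht.1⟩⟩
  · exact ⟨isOpen_empty, .empty⟩
  · exact ⟨isOpen_univ, .univ⟩
  · intro U hU V hV h
    obtain ⟨S, hSf, hScl, hSirr, hSV⟩ :=
      TopologicalSpace.NoetherianSpace.exists_finite_set_isClosed_irreducible hV.1.isClosed_compl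
    have hcov : U \ V = ⋃ Z ∈ S, (U ∩ Z) := by
      rw [← Set.inter_iUnion₂, ← Set.sUnion_eq_biUnion, ← hSV]
      rfl
    rw [hcov, hSf.closure_biUnion] at h
    obtain ⟨Z, hZS, hxZ⟩ := Set.mem_iUnion₂.1 h
    have hne : (U ∩ Z).Nonempty := by
      by_contra hne
      rw [Set.not_nonempty_iff_eq_empty] at hne
      rw [hne, closure_empty] at hxZ
      exact hxZ
    have hg := (hSirr Z hZS).isGenericPoint_genericPoint (hScl Z hZS)
    have hgU : (hSirr Z hZS).genericPoint ∈ U :=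
      (hg.mem_open_set_iff hU.1).2 (by rwa [Set.inter_comm])
    have hgZ : (hSirr Z hZS).genericPoint ∈ Z := hg.mem
    refine ⟨(hSirr Z hZS).genericPoint, ⟨hgU, ?_⟩, ?_⟩
    · have : (hSirr Z hZS).genericPoint ∈ Vᶜ := by
        rw [hSV]; exact Set.mem_sUnion.2 ⟨Z, hZS, hgZ⟩
      exact this
    · rw [specializes_iff_mem_closure, hg.def]
      exact closure_minimal Set.inter_subset_right (hScl Z hZS) hxZ
  · intro s _ t _ hs ht h
    change _ ∈ closure (s ∪ t) at h
    rw [closure_union] at h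
    rcases h with h | h
    · obtain ⟨t', ht', h'⟩ := hs h
      exact ⟨t', Or.inl ht', h'⟩
    · obtain ⟨t', ht', h'⟩ := ht h
      exact ⟨t', Or.inr ht', h'⟩

end top

end Groth.Agent.Lib.SuppLemmas34
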