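import Groth.Agent.Lib.TorsColimP34
import Groth.Agent.Lib.SuppLemmas34
import Groth.Agent.Lib.EtSuppConstr22

/-!
# Killing the stalk of a constructible sheaf at a point outside the support of the target (helper34)

`exists_quotient_stalk_zero`: `X` qcqs, `ψ : C ⟶ F` with `C` constructible and `x ∉ supp F`.  Then `ψ`
factors through a constructible quotient `C'` of `C` with `x ∉ supp C'`.
-/

set_option autoImplicit false
universe u

open CategoryTheory CategoryTheory.Limits AlgebraicGeometry Opposite Topology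
open scoped ZeroObject

namespace Groth.Agent.Lib.StalkKill34

open Groth.Agent.Lib.ExtZeroMV34 Groth.Agent.Lib.TorsNoeth34 Groth.Agent.Lib.ConstrPres34
  Groth.Agent.Lib.ConstrCompact34 Groth.Agent.Lib.ExtZeroConstr34 Groth.Agent.Lib.EtGerm
  Groth.Agent.Lib.EtStalkPullGerm Groth.Agent.Lib.EtConstr22 Groth.Agent.Lib.TorsColim34
  Groth.Agent.Lib.ConstrFG34 Groth.Agent.Lib.EtAbStalk Groth.Agent.Lib.EtLCKer22
  Groth.Agent.Lib.EtStalkConservative

variable {X : Scheme.{u}} [CompactSpace X] [QuasiSeparatedSpace X]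

theorem exists_quotient_stalk_zero {C F : EtCoh.Ab X} (hC : EtPBC.IsConstructible C) (ψ : C ⟶ F)
    (x : X) (hx : x ∉ EtPBC.supp F) :
    ∃ (C' : EtCoh.Ab X) (q : C ⟶ C') (ψ' : C' ⟶ F), q ≫ ψ' = ψ ∧
      EtPBC.IsConstructible C' ∧ x ∉ EtPBC.supp C' := by
  classical
  have hF0 : IsZero ((EtCoh.stalk (stdPt x)).obj F) := by
    by_contra h
    exact hx ⟨_, inferInstance, inferInstance, stdPt x, range_stdPt x, h⟩
  obtain ⟨M, hM, hiso⟩ := exists_stalk_iso hC x
  obtain ⟨e0⟩ := hiso _ (stdPt x) (stdPt_default x)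
  haveI := pFin_finite hM
  haveI : Finite ((EtCoh.stalk (stdPt x)).obj C) :=
    Finite.of_injective e0.hom ((AddCommGrpCat.mono_iff_injective e0.hom).1 inferInstance)
  obtain ⟨d, ⟨e⟩⟩ := Finite.exists_equiv_fin ((EtCoh.stalk (stdPt x)).obj C)
  have key : ∀ a : (EtCoh.stalk (stdPt x)).obj C, ∃ (W : X.Etale) (_ : IsAffine W.left)
      (w : Nbhd (stdPt x) W) (t : EtCoh.sect C W),
      germ (stdPt x) C w t = a ∧ ψ.hom.app (op W) t = 0 := by
    intro a
    obtain ⟨U, y, s, hs⟩ := germ_jointly_surjective (stdPt x) C a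
    have h0 : germ (stdPt x) F y (ψ.hom.app (op U) s) = 0 :=
      (AddCommGrpCat.subsingleton_of_isZero hF0).elim _ _
    obtain ⟨V, g, z, hz, hzs⟩ := (germ_eq_zero_iff (stdPt x) F y _).1 h0
    obtain ⟨A, hA, hzA⟩ := exists_affine_nbhd V (Nbhd.pt (stdPt x) z)
    obtain ⟨z', hz'⟩ := exists_nbhd_openSub (stdPt x) A z hzA
    refine ⟨openSub V A, hA, z', C.obj.map (openSubι V A ≫ g).op s, ?_, ?_⟩
    · rw [germ_res, ← hs]
      congr 1
      have h1 : Nbhd.map (stdPt x) (openSubι V A ≫ g) z' =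
          Nbhd.map (stdPt x) g (Nbhd.map (stdPt x) (openSubι V A) z') :=
        FunctorToTypes.map_comp_apply _ _ _ _
      rw [h1, hz', hz]
    · have h1 := NatTrans.naturality_apply ψ.hom (openSubι V A ≫ g).op s
      refine h1.trans ?_
      rw [op_comp, Functor.map_comp]
      show F.obj.map (openSubι V A).op (F.obj.map g.op (ψ.hom.app (op U) s)) = 0
      rw [hzs, map_zero]
  choose W hW w t htg htψ using fun i : Fin d => key (e.symm i)
  have htors := isTorsion_of_isConstructible C hC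
  have hn := fun i => exists_nsmul_eq_zero htors (W i) (t i)
  choose n hn0 hnt using hn
  haveI : ∀ i, NeZero (n i) := fun i => ⟨(hn0 i).ne'⟩
  let σ : ∀ i, R (ZMod (n i)) (W i) ⟶ C := fun i => secMap C (W i) (n i) (t i) (hnt i)
  have hσψ : ∀ i, σ i ≫ ψ = 0 := by
    intro i
    apply R_hom_ext
    show ψ.hom.app (op (W i)) ((σ i).hom.app (op (W i)) _) =
      (0 : R (ZMod (n i)) (W i) ⟶ F).hom.app (op (W i)) _
    rw [secMap_univ, htψ]
    rfl
  let φ : (⨁ fun i => R (ZMod (n i)) (W i)) ⟶ C := biproduct.desc σ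
  have hφψ : φ ≫ ψ = 0 := by
    apply biproduct.hom_ext'
    intro i
    rw [biproduct.ι_desc_assoc, hσψ, comp_zero]
  have hQ : EtPBC.IsConstructible (⨁ fun i => R (ZMod (n i)) (W i)) :=
    isConstructible_biproduct _ (fun i => isConstructible_extZeroConst (W i) (ZMod (n i)))
  have hC' : EtPBC.IsConstructible (cokernel φ) := (isConstructible_ker_coker φ hQ hC).2
  refine ⟨cokernel φ, cokernel.π φ, cokernel.desc φ ψ hφψ, cokernel.π_desc _ _ _, hC', ?_⟩
  -- the stalk at the standard point vanishes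
  have hz0 : IsZero ((EtCoh.stalk (stdPt x)).obj (cokernel φ)) := by
    haveI : Subsingleton ((EtCoh.stalk (stdPt x)).obj (cokernel φ)) := by
      refine ⟨fun p p' => ?_⟩
      have hp : ∀ p : (EtCoh.stalk (stdPt x)).obj (cokernel φ), p = 0 := by
        intro p
        obtain ⟨a, rfl⟩ := stalk_map_surjective_of_epi (stdPt x) (cokernel.π φ) p
        obtain ⟨i, rfl⟩ := e.symm.surjective a
        rw [← htg i, germ_naturality]
        have h1 : (cokernel.π φ).hom.app (op (W i)) (t i) = 0 := by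
          rw [← secMap_univ C (W i) (n i) (t i) (hnt i)]
          have h2 : (biproduct.ι _ i ≫ φ ≫ cokernel.π φ).hom.app (op (W i))
              (univ (ZMod (n i)) (W i) (ULift.up 1)) = 0 := by
            rw [cokernel.condition, comp_zero]; rfl
          rw [biproduct.ι_desc_assoc] at h2
          exact h2
        rw [h1, map_zero]
      rw [hp p, hp p']
    exact AddCommGrpCat.isZero_of_subsingleton _
  rintro ⟨Ω, i1, i2, ξ, hξ, hnz⟩
  obtain ⟨M', -, hiso'⟩ := exists_stalk_iso hC' x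
  obtain ⟨e1⟩ := hiso' _ (stdPt x) (stdPt_default x)
  obtain ⟨e2⟩ := hiso' Ω ξ (Groth.Agent.Lib.EtSuppConstr22.default_eq_of_range ξ hξ)
  exact hnz (hz0.of_iso (e2 ≪≫ e1.symm))

end Groth.Agent.Lib.StalkKill34
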