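import Groth.Agent.Lib.HTransfer53
import Groth.Agent.Lib.H26GorLoc
import Groth.Agent.Lib.GFT53b
import Groth.Agent.Lib.SkQuot33
import Groth.Agent.S0342

/-!
# Propagation of non-vanishing of `H^j_{pA_p}(M_p)` along specialization, for quotients of regular
rings (SGA2 VIII) (helper53)
-/

set_option maxHeartbeats 400000
set_option linter.unusedSectionVars false
universe u

namespace Groth.Agent.Lib.StalkVan53
open Groth.Agent.Lib.HTransfer53 Groth.Agent.Lib.H26GorLoc Groth.Agent.Lib.GFT53
open Groth.Agent.Lib.AdjDepth53 Groth.Agent.Lib.DimIneqCore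

section loc
variable (S : Type u) [CommRing S] [LocCoh.IsGorensteinLocalRing S] (r : ℕ)
  (hr : ringKrullDim S = r) (B : Type u) [CommRing B] [IsLocalRing B] [IsNoetherianRing B]
  [Algebra S B] (hg : Function.Surjective (algebraMap S B))
  (N : Type u) [AddCommGroup N] [Module B N] [Module S N] [IsScalarTower S B N]
  [Module.Finite B N] (𝔭 : Ideal B) [𝔭.IsPrime] (e : ℕ) (he : ringKrullDim (B ⧸ 𝔭) = e)

include hr hg he in
/-- local form: vanishing of `H^{j+e}_m(N)` forces vanishing of `H^j` of the localization at a
prime of coheight `e`. -/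
theorem subsingleton_H_localization (j : ℕ)
    (h : Subsingleton (LocCoh.H (IsLocalRing.maximalIdeal B) (j + e) N)) :
    Subsingleton (LocCoh.H (IsLocalRing.maximalIdeal (Localization.AtPrime 𝔭)) j
      (LocalizedModule 𝔭.primeCompl N)) := by
  haveI : Module.Finite S B := Module.Finite.of_surjective (Algebra.linearMap S B) hg
  haveI : Module.Finite S N := Module.Finite.trans B N
  by_cases hjr : j + e ≤ r
  · have h' : Subsingleton (LocCoh.H (IsLocalRing.maximalIdeal S) (j + e) N) :=
      (subsingleton_H_iff_of_surjective hg N (j + e)).2 h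
    have hExt := (gor_subsingleton_H_iff S r hr N (r - (j + e)) (j + e) (by omega)).1 h'
    refine (key S r hr B hg N 𝔭 e he (r - (j + e))).1 (fun x => ⟨1, ?_, ?_⟩) j (by omega)
    · rw [map_one]
      exact (Ideal.ne_top_iff_one 𝔭).1 Ideal.IsPrime.ne_top'
    · rw [Subsingleton.elim x 0, smul_zero]
  · exact subsingleton_H_localization_of_gt S r hr B hg 𝔭 e he j (by omega) _

end loc

section glob
variable (R : Type u) [CommRing R] [IsRegularRing R] (A : Type u) [CommRing A]
  [IsNoetherianRing A] (π : R →+* A) (hπ : Function.Surjective π)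
  (M : Type u) [AddCommGroup M] [Module A M] [Module.Finite A M]

theorem subsingleton_H_congr_ideal {p₁ p₂ : Ideal A} [h₁ : p₁.IsPrime] [h₂ : p₂.IsPrime]
    (h : p₁ = p₂) (j : ℕ) :
    Subsingleton (LocCoh.H (IsLocalRing.maximalIdeal (Localization.AtPrime p₁)) j
        (LocalizedModule p₁.primeCompl M)) ↔
      Subsingleton (LocCoh.H (IsLocalRing.maximalIdeal (Localization.AtPrime p₂)) j
        (LocalizedModule p₂.primeCompl M)) := by
  subst h
  rfl

include hπ in
/-- global form: for primes `p ≤ p'` of a quotient of a regular ring with `ht(p'/p) = e`,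
`H^{j+e}_{p'A_{p'}}(M_{p'}) = 0` implies `H^j_{pA_p}(M_p) = 0`. -/
theorem subsingleton_H_of_specialization (p p' : Ideal A) [hp : p.IsPrime] [hp' : p'.IsPrime]
    (hpp' : p ≤ p') (e : ℕ) (he : (p'.map (Ideal.Quotient.mk p)).height = e) (j : ℕ)
    (h : Subsingleton (LocCoh.H (IsLocalRing.maximalIdeal (Localization.AtPrime p')) (j + e)
      (LocalizedModule p'.primeCompl M))) :
    Subsingleton (LocCoh.H (IsLocalRing.maximalIdeal (Localization.AtPrime p)) j
      (LocalizedModule p.primeCompl M)) := by
  -- the Gorenstein local ring `S = R_{Q'}` and its quotient `B = A_{p'}`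
  haveI hS : LocCoh.IsGorensteinLocalRing (Localization.AtPrime (p'.comap π)) :=
    Groth.Agent.S0342.result _
  have hr : ringKrullDim (Localization.AtPrime (p'.comap π)) =
      ((IsLocalRing.maximalIdeal (Localization.AtPrime (p'.comap π))).spanFinrank : ℕ) :=
    IsRegularLocalRing.spanFinrank_maximalIdeal.symm
  letI : Algebra (Localization.AtPrime (p'.comap π)) (Localization.AtPrime p') :=
    (Localization.localRingHom (p'.comap π) p' π rfl).toAlgebra
  have hg : Function.Surjective (algebraMap (Localization.AtPrime (p'.comap π))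
      (Localization.AtPrime p')) := RingHom.surjective_localRingHom_of_surjective π hπ p'
  letI : Module (Localization.AtPrime (p'.comap π)) (LocalizedModule p'.primeCompl M) :=
    Module.compHom _ (algebraMap (Localization.AtPrime (p'.comap π)) (Localization.AtPrime p'))
  haveI : IsScalarTower (Localization.AtPrime (p'.comap π)) (Localization.AtPrime p')
      (LocalizedModule p'.primeCompl M) := IsScalarTower.of_algebraMap_smul fun _ _ => rfl
  haveI : Module.Finite (Localization.AtPrime p') (LocalizedModule p'.primeCompl M) :=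
    Module.Finite.of_isLocalizedModule p'.primeCompl
      (LocalizedModule.mkLinearMap p'.primeCompl M)
  -- the prime `𝔭 = pA_{p'}`
  have hdisj : Disjoint (p'.primeCompl : Set A) (p : Set A) := by
    rw [Set.disjoint_left]
    exact fun x hx hxp => hx (hpp' hxp)
  haveI h𝔭 : (p.map (algebraMap A (Localization.AtPrime p'))).IsPrime :=
    IsLocalization.isPrime_of_isPrime_disjoint p'.primeCompl _ p hp hdisj
  have hcomap : (p.map (algebraMap A (Localization.AtPrime p'))).comap
      (algebraMap A (Localization.AtPrime p')) = p :=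
    IsLocalization.under_map_of_isPrime_disjoint p'.primeCompl _ hp hdisj
  haveI := Groth.Agent.Lib.SkQuot33.isPrime_map_mk p p' hpp'
  have hdim : ringKrullDim (Localization.AtPrime p' ⧸
      p.map (algebraMap A (Localization.AtPrime p'))) = e := by
    rw [← ringKrullDim_eq_of_ringEquiv (Groth.Agent.Lib.SkQuot33.locQuotEquiv p p' hpp'),
      IsLocalization.AtPrime.ringKrullDim_eq_height (p'.map (Ideal.Quotient.mk p)), he]
    rfl
  have h1 := subsingleton_H_localization (Localization.AtPrime (p'.comap π)) _ hr
    (Localization.AtPrime p') hg (LocalizedModule p'.primeCompl M)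
    (p.map (algebraMap A (Localization.AtPrime p'))) e hdim j h
  have h2 := (subsingleton_H_double p'.primeCompl (Localization.AtPrime p')
    (LocalizedModule.mkLinearMap p'.primeCompl M)
    (p.map (algebraMap A (Localization.AtPrime p'))) j).1 h1
  exact (subsingleton_H_congr_ideal A M hcomap j).1 h2

end glob

end Groth.Agent.Lib.StalkVan53
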