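import Groth.Agent.Lib.StalkVan53

/-!
# Codimension-one reduction of the stalk-vanishing condition (SGA2 VIII) (helper53)
-/

set_option maxHeartbeats 400000
set_option linter.unusedSectionVars false
universe u

namespace Groth.Agent.Lib.StalkVan53
open Groth.Agent.Lib.GFT53 Groth.Agent.Lib.AdjDepth53 Groth.Agent.Lib.DimIneqCore

section chain
variable {A : Type u} [CommRing A] (I : Ideal A)

/-- from a prime `p ⊉ I` with `c(p) = c ≥ 1` finite, go up `c - 1` steps to a prime `p' ⊉ I`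
with `c(p') = 1`. -/
theorem exists_prime_relCodim_one (p : PrimeSpectrum A) (hp : ¬ I ≤ p.asIdeal) (c : ℕ)
    (hc : SGA2.relCodim I p = c) :
    ∃ p' : PrimeSpectrum A, p ≤ p' ∧ ¬ I ≤ p'.asIdeal ∧ SGA2.relCodim I p' = 1 ∧
      (p'.asIdeal.map (Ideal.Quotient.mk p.asIdeal)).height = ((c - 1 : ℕ) : ℕ∞) := by
  rw [relCodim_eq] at hc
  have hc0 : c ≠ 0 := by
    intro h0
    apply height_map_sup_ne_zero I p hp
    rw [hc, h0]
    rfl
  obtain ⟨Q, hQ, hJQ, hQc⟩ := Ideal.exists_isPrime_height_eq hc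
  have hnot : ¬ Q.height ≤ ((c - 1 : ℕ) : ℕ∞) := by
    rw [hQc, not_le]
    exact_mod_cast Nat.sub_lt (Nat.pos_of_ne_zero hc0) Nat.one_pos
  rw [Ideal.height_le_iff] at hnot
  push Not at hnot
  obtain ⟨Q', hQ', hlt, hge⟩ := hnot
  have hle1 := Ideal.height_add_one_le_of_lt_of_isPrime hlt
  rw [hQc] at hle1
  have hQ'fin : Q'.height ≠ ⊤ :=
    ne_top_of_le_ne_top (ENat.natCast_ne_top c) (le_trans le_self_add hle1)
  obtain ⟨c', hc'⟩ := ENat.ne_top_iff_exists.1 hQ'fin
  rw [← hc'] at hle1 hge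
  have hc'1 : c' + 1 ≤ c := by exact_mod_cast hle1
  have hc'2 : c - 1 ≤ c' := by exact_mod_cast hge
  have hc'eq : c' = c - 1 := by omega
  set p' : PrimeSpectrum A := ⟨Q'.comap (Ideal.Quotient.mk p.asIdeal), Ideal.IsPrime.comap _⟩
    with hp'def
  set q : PrimeSpectrum A := ⟨Q.comap (Ideal.Quotient.mk p.asIdeal), Ideal.IsPrime.comap _⟩
    with hqdef
  have hpp' : p ≤ p' := le_comap_mk p.asIdeal Q'
  have hp'q : p' < q := comap_mk_lt_comap_mk p.asIdeal hlt
  have hIq : I ⊔ p.asIdeal ≤ q.asIdeal := Ideal.map_le_iff_le_comap.1 hJQ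
  have hmapp' : p'.asIdeal.map (Ideal.Quotient.mk p.asIdeal) = Q' :=
    Ideal.map_comap_of_surjective _ Ideal.Quotient.mk_surjective Q'
  have hmapq : q.asIdeal.map (Ideal.Quotient.mk p.asIdeal) = Q :=
    Ideal.map_comap_of_surjective _ Ideal.Quotient.mk_surjective Q
  have hIp' : ¬ I ≤ p'.asIdeal := by
    intro hle
    have h1 : (I ⊔ p.asIdeal).map (Ideal.Quotient.mk p.asIdeal) ≤ Q' := by
      rw [← hmapp']
      exact Ideal.map_mono (sup_le hle hpp')
    have h2 := Ideal.height_mono h1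
    rw [hc, ← hc'] at h2
    have : c ≤ c' := by exact_mod_cast h2
    omega
  refine ⟨p', hpp', hIp', ?_, by rw [hmapp', ← hc', hc'eq]⟩
  rw [relCodim_eq]
  apply le_antisymm
  · have h1 : ((I ⊔ p'.asIdeal).map (Ideal.Quotient.mk p'.asIdeal)).height ≤
        (q.asIdeal.map (Ideal.Quotient.mk p'.asIdeal)).height :=
      Ideal.height_mono (Ideal.map_mono (sup_le (le_sup_left.trans hIq) hp'q.le))
    have h2 := height_add_le p.asIdeal p'.asIdeal q.asIdeal hpp' hp'q.le
    rw [hmapp', hmapq, hQc, ← hc'] at h2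
    have hxfin : (q.asIdeal.map (Ideal.Quotient.mk p'.asIdeal)).height ≠ ⊤ :=
      ne_top_of_le_ne_top (ENat.natCast_ne_top c) (le_trans le_add_self h2)
    obtain ⟨x, hx⟩ := ENat.ne_top_iff_exists.1 hxfin
    rw [← hx] at h1 h2
    have h3 : c' + x ≤ c := by exact_mod_cast h2
    have h4 : x ≤ 1 := by omega
    refine le_trans h1 ?_
    exact_mod_cast h4
  · exact Order.one_le_iff_pos.2 (pos_iff_ne_zero.2 (height_map_sup_ne_zero I p' hIp'))

end chain

section main
variable (R : Type u) [CommRing R] [IsRegularRing R] (A : Type u) [CommRing A]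
  [IsNoetherianRing A] (π : R →+* A) (hπ : Function.Surjective π) (I : Ideal A)
  (M : Type u) [AddCommGroup M] [Module A M] [Module.Finite A M] (i : ℕ)

include hπ in
theorem stalk_vanishing_iff_codim_one :
    (∀ p : PrimeSpectrum A, ¬ I ≤ p.asIdeal → ∀ (c j : ℕ), SGA2.relCodim I p = c → j + c = i →
      Subsingleton (LocCoh.H (IsLocalRing.maximalIdeal (Localization.AtPrime p.asIdeal)) j
        (LocalizedModule p.asIdeal.primeCompl M))) ↔
    (∀ p : PrimeSpectrum A, ¬ I ≤ p.asIdeal → SGA2.relCodim I p = 1 → ∀ j : ℕ, j + 1 = i →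
      Subsingleton (LocCoh.H (IsLocalRing.maximalIdeal (Localization.AtPrime p.asIdeal)) j
        (LocalizedModule p.asIdeal.primeCompl M))) := by
  constructor
  · intro h p hp hc j hj
    exact h p hp 1 j (by rw [hc]; rfl) hj
  · intro h p hp c j hc hj
    obtain ⟨p', hpp', hIp', hrel, hht⟩ := exists_prime_relCodim_one I p hp c hc
    have hc0 : c ≠ 0 := by
      intro h0
      rw [relCodim_eq] at hc
      apply height_map_sup_ne_zero I p hp
      rw [hc, h0]
      rfl
    have h1 := h p' hIp' hrel (j + (c - 1)) (by omega)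
    exact subsingleton_H_of_specialization R A π hπ M p.asIdeal p'.asIdeal hpp' (c - 1) hht j h1

end main

end Groth.Agent.Lib.StalkVan53
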