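import Mathlib

/-!
# Standard étale charts in monogenic form (helper61)

`exists_chart_ring`: for an étale `R`-algebra `B₀` and a prime `q₀` there are `f ∉ q₀`, a monic
`p : R[X]` and a ring map `(R[X]/p)[1/p'] → B₀[1/f]` over `R` inducing an open immersion on spectra.
-/

set_option autoImplicit false
universe u
open CategoryTheory AlgebraicGeometry Polynomial

namespace Groth.Agent.Lib.StdEtaleChart61

theorem exists_chart_ring (R B₀ : Type u) [CommRing R] [CommRing B₀] [Algebra R B₀]
    [Algebra.Etale R B₀] (q₀ : Ideal B₀) [q₀.IsPrime] :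
    ∃ (f : B₀) (_ : f ∉ q₀) (p : R[X]) (_ : p.Monic)
      (θ : Localization.Away (AdjoinRoot.mk p (derivative p)) →+* Localization.Away f),
      IsOpenImmersion (Spec.map (CommRingCat.ofHom θ)) ∧
      θ.comp (algebraMap R _) = algebraMap R (Localization.Away f) := by
  obtain ⟨f, hf, hstd⟩ := Algebra.IsEtaleAt.exists_isStandardEtale (R := R) q₀
  obtain ⟨P⟩ := hstd.nonempty_standardEtalePresentation
  let A := AdjoinRoot P.f
  let A₁ := Localization.Away (AdjoinRoot.mk P.f (derivative P.f))
  let A₂ := Localization.Away (AdjoinRoot.mk P.f P.g)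
  let ε : Localization.Away f ≃ₐ[R] A₂ := P.equivRing.trans P.P.equivAwayAdjoinRoot
  have hunit : IsUnit (algebraMap A A₂ (AdjoinRoot.mk P.f (derivative P.f))) := by
    obtain ⟨p₁, p₂, n, e⟩ := P.cond
    have h1 : AdjoinRoot.mk P.f (derivative P.f) * AdjoinRoot.mk P.f p₁ =
        (AdjoinRoot.mk P.f P.g) ^ n := by
      rw [← map_mul, ← map_pow, ← e, map_add, map_mul (AdjoinRoot.mk P.f) P.f,
        AdjoinRoot.mk_self, zero_mul, add_zero]
    have h2 : algebraMap A A₂ (AdjoinRoot.mk P.f (derivative P.f)) *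
        algebraMap A A₂ (AdjoinRoot.mk P.f p₁) = (algebraMap A A₂ (AdjoinRoot.mk P.f P.g)) ^ n := by
      rw [← map_mul, h1, map_pow]
    have h3 : IsUnit ((algebraMap A A₂ (AdjoinRoot.mk P.f P.g)) ^ n) :=
      (IsLocalization.Away.algebraMap_isUnit (AdjoinRoot.mk P.f P.g)).pow n
    rw [← h2] at h3
    exact isUnit_of_mul_isUnit_left h3
  let lam : A₁ →+* A₂ :=
    IsLocalization.Away.lift (AdjoinRoot.mk P.f (derivative P.f)) (g := algebraMap A A₂) hunit
  have hlam : ∀ a : A, lam (algebraMap A A₁ a) = algebraMap A A₂ a := fun a =>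
    IsLocalization.Away.lift_eq _ hunit a
  let _ : Algebra A₁ A₂ := lam.toAlgebra
  have hst : IsScalarTower A A₁ A₂ := IsScalarTower.of_algebraMap_eq fun a => (hlam a).symm
  have hl2 : IsLocalization.Away (algebraMap A A₂ (AdjoinRoot.mk P.f (derivative P.f))) A₂ :=
    IsLocalization.away_of_isUnit_of_bijective A₂ hunit Function.bijective_id
  have hloc : IsLocalization.Away (algebraMap A A₁ (AdjoinRoot.mk P.f P.g)) A₂ :=
    IsLocalization.Away.commutes A₁ A₂ A₂ (AdjoinRoot.mk P.f (derivative P.f))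
      (AdjoinRoot.mk P.f P.g)
  have hoi : IsOpenImmersion (Spec.map (CommRingCat.ofHom (algebraMap A₁ A₂))) :=
    IsOpenImmersion.of_isLocalization (algebraMap A A₁ (AdjoinRoot.mk P.f P.g))
  have hiso : IsIso (CommRingCat.ofHom (ε.symm : A₂ →+* Localization.Away f)) :=
    inferInstanceAs (IsIso ε.symm.toRingEquiv.toCommRingCatIso.hom)
  refine ⟨f, hf, P.f, P.monic_f, (ε.symm : A₂ →+* Localization.Away f).comp lam, ?_, ?_⟩
  · rw [CommRingCat.ofHom_comp, Spec.map_comp]
    have : IsOpenImmersion (Spec.map (CommRingCat.ofHom lam)) := hoi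
    infer_instance
  · ext r
    change ε.symm (lam (algebraMap R A₁ r)) = algebraMap R (Localization.Away f) r
    rw [IsScalarTower.algebraMap_apply R A A₁, hlam, ← IsScalarTower.algebraMap_apply R A A₂,
      ε.symm.commutes]

end Groth.Agent.Lib.StdEtaleChart61
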