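import Mathlib
import Groth.Agent.Lib.H56RegSmooth2

/-!
# Local rings essentially of finite type as localizations of quotients of standard étale algebras
(helper50)

`exists_algHom_of_surjective`: if `B` is a local `A`-algebra essentially of finite type, with finite
type model `(Algebra.EssFiniteType.subalgebra A B) ⊆ B`, `f ∈ (Algebra.EssFiniteType.subalgebra A B)` a unit of `B`, and `φ : Pr → (Algebra.EssFiniteType.subalgebra A B)[1/f]` a surjective `A`-algebra map,
then `B` is a quotient of the localization of `Pr` at a prime; an isomorphism if `φ` is injective.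
-/

set_option autoImplicit false
universe u

namespace Groth.Agent.Lib.StdEtaleLocal50

open IsLocalRing

theorem exists_algHom_of_surjective (A B : Type u) [CommRing A] [CommRing B] [Algebra A B]
    [IsLocalRing B] [Algebra.EssFiniteType A B]
    (f : Algebra.EssFiniteType.subalgebra A B) (hf : IsUnit (f : B))
    (Pr : Type u) [CommRing Pr] [Algebra A Pr]
    (φ : Pr →ₐ[A] Localization.Away f) (hφ : Function.Surjective φ) :
    ∃ (𝔮 : Ideal Pr) (_ : 𝔮.IsPrime) (Ψ : Localization.AtPrime 𝔮 →ₐ[A] B),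
      Function.Surjective Ψ ∧ (Function.Injective φ → Function.Injective Ψ) := by
  classical
  let q₀ : Ideal (Algebra.EssFiniteType.subalgebra A B) := (maximalIdeal B).comap (algebraMap (Algebra.EssFiniteType.subalgebra A B) B)
  have hloc : IsLocalization.AtPrime B q₀ :=
    Groth.Agent.Lib.H56RegSmooth.isLocalization_atPrime_of_essFiniteType A B
  -- the map `(Algebra.EssFiniteType.subalgebra A B)[1/f] → B`
  let lam : Localization.Away f →ₐ[A] B :=
    IsLocalization.liftAlgHom (M := Submonoid.powers f) (f := (Algebra.EssFiniteType.subalgebra A B).val) (by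
      rintro ⟨y, n, rfl⟩
      change IsUnit ((Algebra.EssFiniteType.subalgebra A B).val (f ^ n))
      rw [map_pow]
      exact hf.pow n)
  have hlam : ∀ x : (Algebra.EssFiniteType.subalgebra A B), lam (algebraMap (Algebra.EssFiniteType.subalgebra A B) (Localization.Away f) x) = (x : B) := fun x =>
    IsLocalization.lift_eq _ x
  let Ψ₀ : Pr →ₐ[A] B := lam.comp φ
  let 𝔮 : Ideal Pr := (maximalIdeal B).comap Ψ₀
  have h𝔮 : 𝔮.IsPrime := Ideal.comap_isPrime _ _
  have hunits : ∀ y : 𝔮.primeCompl, IsUnit (Ψ₀ y) := by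
    rintro ⟨y, hy⟩
    by_contra h
    exact hy h
  let Ψ : Localization.AtPrime 𝔮 →ₐ[A] B := IsLocalization.liftAlgHom (M := 𝔮.primeCompl) hunits
  have hΨ : ∀ x : Pr, Ψ (algebraMap Pr (Localization.AtPrime 𝔮) x) = Ψ₀ x := fun x =>
    IsLocalization.lift_eq _ x
  -- lifting elements of `(Algebra.EssFiniteType.subalgebra A B)` through `φ`
  have hlift : ∀ x : (Algebra.EssFiniteType.subalgebra A B), ∃ x' : Pr, Ψ₀ x' = (x : B) ∧
      φ x' = algebraMap (Algebra.EssFiniteType.subalgebra A B) (Localization.Away f) x := by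
    intro x
    obtain ⟨x', hx'⟩ := hφ (algebraMap (Algebra.EssFiniteType.subalgebra A B) (Localization.Away f) x)
    exact ⟨x', by change lam (φ x') = _; rw [hx', hlam], hx'⟩
  refine ⟨𝔮, h𝔮, Ψ, ?_, ?_⟩
  · intro b
    obtain ⟨x, s, rfl⟩ := IsLocalization.exists_mk'_eq q₀.primeCompl b
    obtain ⟨x', hx', -⟩ := hlift x
    obtain ⟨s', hs', -⟩ := hlift s
    have hs'𝔮 : s' ∈ 𝔮.primeCompl := by
      change ¬ (Ψ₀ s' ∈ maximalIdeal B)
      rw [hs']
      exact s.2
    refine ⟨IsLocalization.mk' _ x' ⟨s', hs'𝔮⟩, ?_⟩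
    rw [IsLocalization.eq_mk'_iff_mul_eq]
    change Ψ _ * (s.1 : B) = (x : B)
    rw [← hs', ← hΨ s', ← map_mul]
    have : IsLocalization.mk' (Localization.AtPrime 𝔮) x' ⟨s', hs'𝔮⟩ *
        algebraMap Pr (Localization.AtPrime 𝔮) s' = algebraMap Pr _ x' :=
      IsLocalization.mk'_spec _ x' ⟨s', hs'𝔮⟩
    rw [this, hΨ, hx']
  · intro hinj
    rw [injective_iff_map_eq_zero]
    intro z hz
    obtain ⟨x', ⟨s', hs'𝔮⟩, rfl⟩ := IsLocalization.exists_mk'_eq 𝔮.primeCompl z
    have h1 : Ψ₀ x' = 0 := by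
      have : IsLocalization.mk' (Localization.AtPrime 𝔮) x' ⟨s', hs'𝔮⟩ *
          algebraMap Pr (Localization.AtPrime 𝔮) s' = algebraMap Pr _ x' :=
        IsLocalization.mk'_spec _ x' ⟨s', hs'𝔮⟩
      have h2 := congrArg Ψ this
      rw [map_mul, hz, zero_mul, hΨ] at h2
      exact h2.symm
    obtain ⟨y, ⟨_, n, rfl⟩, hy⟩ := IsLocalization.exists_mk'_eq (Submonoid.powers f) (φ x')
    let fn : Submonoid.powers f := ⟨f ^ n, n, rfl⟩
    have hy' : IsLocalization.mk' (Localization.Away f) y fn = φ x' := hy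
    have h3 : (y : B) = 0 := by
      have : IsLocalization.mk' (Localization.Away f) y fn *
          algebraMap (Algebra.EssFiniteType.subalgebra A B) (Localization.Away f) (f ^ n) =
            algebraMap (Algebra.EssFiniteType.subalgebra A B) _ y :=
        IsLocalization.mk'_spec _ y fn
      have h4 := congrArg lam this
      rw [map_mul, hy', hlam, hlam] at h4
      change Ψ₀ x' * _ = _ at h4
      rw [h1, zero_mul] at h4
      exact h4.symm
    obtain ⟨s, hs⟩ := (IsLocalization.map_eq_zero_iff q₀.primeCompl B y).mp h3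
    obtain ⟨t', ht', ht'φ⟩ := hlift s
    have ht'𝔮 : t' ∈ 𝔮.primeCompl := by
      change ¬ (Ψ₀ t' ∈ maximalIdeal B)
      rw [ht']
      exact s.2
    have h5 : φ (t' * x') = 0 := by
      rw [map_mul, ht'φ, ← hy', IsLocalization.mul_mk'_eq_mk'_of_mul, hs,
        IsLocalization.mk'_zero]
    have h6 : t' * x' = 0 := hinj (by rw [h5, map_zero])
    rw [IsLocalization.mk'_eq_zero_iff]
    exact ⟨⟨t', ht'𝔮⟩, h6⟩

end Groth.Agent.Lib.StdEtaleLocal50
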