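import Groth.Agent.Lib.StdSyntPushout64
import Groth.Agent.Lib.H77DimCons
import Groth.Agent.Lib.FGSubalgLimitU
import Groth.Agent.Lib.ApproxCombine64
import Groth.Agent.S5891

/-!
# Noetherian approximation of standard syntomic morphisms (helper64)

* `isIndConsMor_dimPred`: any predicate of the dimension of the fibre is an ind-constructible
  relation (from helper77's fibre-dimension libraries).
* `exists_fg_coeffs`: finitely many polynomials have coefficients in a f.g. `ℤ`-subalgebra.
* `isRelGCI_iff`: `Synt.IsRelGCI` in terms of the dimensions of the scheme-theoretic fibres.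
* `exists_fg_relGCI`: a relative global complete intersection presentation over `R` descends to
  one over a finitely generated `ℤ`-subalgebra of `R` (via helper62's `S5891`, EGA IV 9.3.3).
* `exists_stdSyntomic_model`: scheme form (= S9736).
-/

set_option autoImplicit false
universe u

open CategoryTheory Limits AlgebraicGeometry MvPolynomial

namespace Groth.Agent.Lib.StdSyntApprox64

open Groth.Agent.Lib.FGSubalgLimitU Groth.Agent.Lib.StdSyntPushout64

/-- Any predicate of the dimension of the middle scheme is an ind-constructible relation. -/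
theorem isIndConsMor_dimPred (Φ : WithBot ℕ∞ → Prop) :
    ConsProp.IsIndConsMor.{u} (fun _ Y _ _ _ => Φ (topologicalKrullDim ↥Y)) := by
  refine ⟨?_, ?_⟩
  · intro X X' Y Y' T T' f g f' g' eX eY h _ _ _ _ _ _ _ _ hY _
    have := Groth.Agent.Lib.H77DimFieldExt.dim_eq_of_isPullback_field g g' eY h hY
    change Φ (topologicalKrullDim ↥Y) ↔ Φ (topologicalKrullDim ↥Y')
    rw [this]
  · intro X Y S f g _ _ _ _ _ _ hgen
    obtain ⟨V, hηV, hV⟩ :=
      Groth.Agent.Lib.H77FibDimSch.exists_opens_forall_topologicalKrullDim_fiber_eq g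
    refine ⟨genericPoint S, mem_interior.mpr ⟨V, ?_, V.isOpen, hηV⟩⟩
    intro s hs
    change Φ (topologicalKrullDim (g.fiber s))
    rw [hV s hs]
    exact hgen

/-- Finitely many polynomials have coefficients in a finitely generated `ℤ`-subalgebra. -/
theorem exists_fg_coeffs {R : Type u} [CommRing R] (n c : ℕ) (F : Fin c → MvPolynomial (Fin n) R) :
    ∃ (A : FGSub ℤ R) (F₀ : Fin c → MvPolynomial (Fin n) A.1),
      mapRel A.1.val.toRingHom n c F₀ = F := by
  classical
  let s : Finset R := Finset.univ.biUnion (fun r => (F r).coeffs)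
  let A : Subalgebra ℤ R := Algebra.adjoin ℤ (s : Set R)
  have hA : A.FG := Subalgebra.fg_adjoin_finset s
  have h : ∀ r, F r ∈ Set.range (MvPolynomial.map (A.val.toRingHom : A →+* R)) := by
    intro r
    rw [MvPolynomial.mem_range_map_iff_coeffs_subset]
    intro x hx
    have hx' : x ∈ (s : Set R) := by
      simp only [s, Finset.coe_biUnion, Set.mem_iUnion]
      exact ⟨r, Finset.mem_coe.mpr (Finset.mem_univ r), hx⟩
    exact ⟨⟨x, Algebra.subset_adjoin hx'⟩, rfl⟩
  choose F₀ hF₀ using h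
  exact ⟨⟨A, hA⟩, F₀, funext hF₀⟩


/-- The dimension condition on a fibre of a relative global complete intersection. -/
def Φ (n c : ℕ) : WithBot ℕ∞ → Prop :=
  fun d => d = ⊥ ∨ (c ≤ n ∧ d = ((n - c : ℕ) : WithBot ℕ∞))

open Groth.Agent.Lib.H77FibDim Groth.Agent.Lib.H77FibDimSch in
theorem dim_fiber_Spec {A : Type u} [CommRing A] (n c : ℕ) (F : Fin c → MvPolynomial (Fin n) A)
    (p : PrimeSpectrum A) :
    topologicalKrullDim ((Spec.map (CommRingCat.ofHom
      (algebraMap A (Synt.RelGCIRing A n c F)))).fiber p) =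
      ringKrullDim (p.asIdeal.Fiber (Synt.RelGCIRing A n c F)) := by
  rw [topologicalKrullDim_fiber_eq]
  exact fibDim_comap_eq (R := A) (A := Synt.RelGCIRing A n c F) p

theorem isRelGCI_iff {A : Type u} [CommRing A] (n c : ℕ) (F : Fin c → MvPolynomial (Fin n) A) :
    Synt.IsRelGCI A n c F ↔ ∀ p : PrimeSpectrum A, Φ n c (topologicalKrullDim
      ((Spec.map (CommRingCat.ofHom (algebraMap A (Synt.RelGCIRing A n c F)))).fiber p)) := by
  constructor
  · intro h p
    rw [dim_fiber_Spec]
    rcases subsingleton_or_nontrivial (p.asIdeal.Fiber (Synt.RelGCIRing A n c F)) with hs | hn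
    · exact Or.inl ringKrullDim_eq_bot_of_subsingleton
    · exact Or.inr (h p hn)
  · intro h p hn
    have hp := h p
    rw [dim_fiber_Spec] at hp
    rcases hp with hp | hp
    · exact absurd hp (ne_of_gt (lt_of_lt_of_le (WithBot.bot_lt_coe 0)
        ringKrullDim_nonneg_of_nontrivial))
    · exact hp


theorem lfp_Spec {A : Type u} [CommRing A] (n c : ℕ) (F : Fin c → MvPolynomial (Fin n) A) :
    LocallyOfFinitePresentation (Spec.map (CommRingCat.ofHom
      (algebraMap A (Synt.RelGCIRing A n c F)))) := by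
  rw [LocallyOfFinitePresentation.SpecMap_iff, CommRingCat.hom_ofHom,
    RingHom.finitePresentation_algebraMap]
  exact Algebra.FinitePresentation.quotient (Submodule.fg_span (Set.finite_range F))

open Groth.Agent.Lib.H77FibDim Groth.Agent.Lib.H77FibDimSch in
/-- **Noetherian approximation of a relative global complete intersection.** -/
theorem exists_fg_relGCI {R : Type u} [CommRing R] (n c : ℕ) (F : Fin c → MvPolynomial (Fin n) R)
    (hF : Synt.IsRelGCI R n c F) :
    ∃ (A : FGSub ℤ R) (F_A : Fin c → MvPolynomial (Fin n) A.1),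
      mapRel A.1.val.toRingHom n c F_A = F ∧ Synt.IsRelGCI A.1 n c F_A := by
  obtain ⟨A₀, F₀, rfl⟩ := exists_fg_coeffs n c F
  have hP := isIndConsMor_dimPred.{u} (Φ n c)
  let i₀ : (FGSub ℤ R)ᵒᵖ := Opposite.op A₀
  have hlfp₀ := lfp_Spec n c F₀
  have hc : ∀ (i j : (FGSub ℤ R)ᵒᵖ) (a : i ⟶ j), IsAffineHom ((D ℤ R).map a) :=
    fun _ _ a => inferInstance
  have hcpt : CompactSpace ↥((D ℤ R).obj i₀) :=
    (inferInstance : CompactSpace (Spec (CommRingCat.of A₀.1)))
  have key := @Groth.Agent.S5891.result _ hP (FGSub ℤ R)ᵒᵖ _ _ (D ℤ R) (cone ℤ R) (isLimitCone ℤ R)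
    hc i₀ hcpt _ _ (𝟙 (Spec (CommRingCat.of (Synt.RelGCIRing A₀.1 n c F₀))))
    (Spec.map (CommRingCat.ofHom (algebraMap A₀.1 (Synt.RelGCIRing A₀.1 n c F₀))))
    hlfp₀ inferInstance inferInstance
    (by rw [Category.id_comp]; exact hlfp₀) (by rw [Category.id_comp]; infer_instance)
    (by rw [Category.id_comp]; infer_instance) _ _
    (𝟙 (Spec (CommRingCat.of (Synt.RelGCIRing R n c (mapRel A₀.1.val.toRingHom n c F₀)))))
    (Spec.map (CommRingCat.ofHom (algebraMap R
      (Synt.RelGCIRing R n c (mapRel A₀.1.val.toRingHom n c F₀)))))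
    (Spec.map (CommRingCat.ofHom (qMap A₀.1.val.toRingHom n c F₀)))
    (Spec.map (CommRingCat.ofHom (qMap A₀.1.val.toRingHom n c F₀)))
    (isPullback_Spec A₀.1.val.toRingHom n c F₀)
    (IsPullback.of_vert_isIso ⟨by simp⟩)
  obtain ⟨j, φ, Xj, Yj, fj, gj, pY, pX, hYj, -, hfib⟩ :=
    key.mp (fun s => (isRelGCI_iff n c _).mp hF s)
  have hle : A₀.1 ≤ j.unop.1 := leOfHom φ.unop
  let ι : A₀.1 →+* j.unop.1 := (Subalgebra.inclusion hle).toRingHom
  have hstd := isPullback_Spec ι n c F₀
  let e : Yj ≅ Spec (CommRingCat.of (Synt.RelGCIRing j.unop.1 n c (mapRel ι n c F₀))) :=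
    hYj.isoIsPullback _ _ hstd
  have he : e.hom ≫ Spec.map (CommRingCat.ofHom (algebraMap j.unop.1
      (Synt.RelGCIRing j.unop.1 n c (mapRel ι n c F₀)))) = gj :=
    IsPullback.isoIsPullback_hom_snd _ _ hYj hstd
  refine ⟨j.unop, mapRel ι n c F₀, ?_, (isRelGCI_iff n c _).mpr fun p => ?_⟩
  · funext r
    simp only [mapRel, MvPolynomial.map_map]
    rfl
  · have h1 : Φ n c (topologicalKrullDim (gj.fiber p)) := hfib p
    rw [topologicalKrullDim_fiber_eq] at h1 ⊢
    have h2 : fibDim gj p = fibDim (Spec.map (CommRingCat.ofHom (algebraMap j.unop.1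
        (Synt.RelGCIRing j.unop.1 n c (mapRel ι n c F₀))))) p := by
      refine fibDim_eq_of_isInducing (f' := gj) _ e.hom id
        (e.hom.homeomorph.isInducing) (fun x => ?_) Function.injective_id (fun x _ => ?_) p
      · rw [← he]; rfl
      · exact e.hom.homeomorph.surjective x
    rw [← h2]
    exact h1

open Groth.Agent.Lib.ApproxCombine64 in
/-- **Noetherian approximation of a standard syntomic morphism of affine schemes.** -/
theorem exists_stdSyntomic_model {X S : Scheme.{u}} (f : X ⟶ S) (hf : Synt.IsStandardSyntomic f) :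
    ∃ (X₀ S₀ : Scheme.{u}) (f₀ : X₀ ⟶ S₀) (g : S ⟶ S₀) (g' : X ⟶ X₀), IsAffine X₀ ∧ IsAffine S₀ ∧
      IsPullback g' f f₀ g ∧ Algebra.FiniteType ℤ Γ(S₀, ⊤) ∧ LocallyOfFiniteType f₀ ∧
      Synt.IsStandardSyntomic f₀ := by
  obtain ⟨R, _, n, c, F, hF, e₁, e₂, hcomm⟩ := hf
  obtain ⟨A, F_A, rfl, hA⟩ := exists_fg_relGCI n c F hF
  have h1 : IsPullback e₁.hom f (Spec.map (CommRingCat.ofHom (algebraMap R
      (Synt.RelGCIRing R n c (mapRel A.1.val.toRingHom n c F_A))))) e₂.hom :=
    IsPullback.of_horiz_isIso ⟨hcomm⟩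
  have hlfp := lfp_Spec n c F_A
  refine ⟨Spec (CommRingCat.of (Synt.RelGCIRing A.1 n c F_A)), Spec (CommRingCat.of A.1),
    Spec.map (CommRingCat.ofHom (algebraMap A.1 (Synt.RelGCIRing A.1 n c F_A))),
    e₂.hom ≫ Spec.map (CommRingCat.ofHom A.1.val.toRingHom),
    e₁.hom ≫ Spec.map (CommRingCat.ofHom (qMap A.1.val.toRingHom n c F_A)),
    inferInstance, inferInstance, h1.paste_horiz (isPullback_Spec A.1.val.toRingHom n c F_A),
    finiteType_int_Γ_Spec R A, inferInstance, ?_⟩
  exact ⟨A.1, inferInstance, n, c, F_A, hA, Iso.refl _, Iso.refl _, by simp⟩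

end Groth.Agent.Lib.StdSyntApprox64
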