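import Mathlib
import Groth.Prelude.Def_RegImm

/-!
# Base change of a presented algebra `A[x₁..xₙ]/(F₁..F_c)` (helper64)

For a ring map `φ : A → A'` the square `A → A'`, `A → A[x]/(F)`, `A' → A'[x]/(φ F)`,
`A[x]/(F) → A'[x]/(φ F)` is a pushout of commutative rings (`isPushout`), hence gives a pullback
square of spectra (`isPullback_Spec`).  Stated for `Synt.RelGCIRing`.
-/

set_option autoImplicit false
universe u

open CategoryTheory Limits AlgebraicGeometry MvPolynomial

namespace Groth.Agent.Lib.StdSyntPushout64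

variable {A A' : Type u} [CommRing A] [CommRing A'] (φ : A →+* A') (n c : ℕ)
  (F : Fin c → MvPolynomial (Fin n) A)

/-- The relations pushed forward along `φ`. -/
noncomputable def mapRel : Fin c → MvPolynomial (Fin n) A' := fun r => map φ (F r)

/-- The induced map `A[x]/(F) → A'[x]/(φ F)`. -/
noncomputable def qMap : Synt.RelGCIRing A n c F →+* Synt.RelGCIRing A' n c (mapRel φ n c F) :=
  Ideal.quotientMap _ (map φ) (by
    rw [Ideal.span_le]
    rintro _ ⟨r, rfl⟩
    exact Ideal.subset_span ⟨r, rfl⟩)

@[simp] theorem qMap_mk (p : MvPolynomial (Fin n) A) :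
    qMap φ n c F (Ideal.Quotient.mk _ p) = Ideal.Quotient.mk _ (map φ p) := by
  simp [qMap]

theorem qMap_algebraMap (a : A) :
    qMap φ n c F (algebraMap A _ a) = algebraMap A' _ (φ a) := by
  change qMap φ n c F (Ideal.Quotient.mk _ (C a)) = Ideal.Quotient.mk _ (C (φ a))
  rw [qMap_mk, map_C]

section Desc

variable {T : Type u} [CommRing T] (a : A' →+* T) (b : Synt.RelGCIRing A n c F →+* T)
  (h : a.comp φ = b.comp (algebraMap A (Synt.RelGCIRing A n c F)))

/-- The map `A'[x] → T` determined by `a` and `b`. -/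
noncomputable def preDesc : MvPolynomial (Fin n) A' →+* T :=
  eval₂Hom a (fun i => b (Ideal.Quotient.mk _ (X i)))

include h in
theorem preDesc_map (p : MvPolynomial (Fin n) A) :
    preDesc n c F a b (map φ p) = b (Ideal.Quotient.mk (Ideal.span (Set.range F)) p) := by
  have h1 : (preDesc n c F a b).comp (map φ) =
      b.comp (Ideal.Quotient.mk (Ideal.span (Set.range F))) := by
    apply MvPolynomial.ringHom_ext
    · intro x
      have := congrArg (fun f => f x) h
      simp only [preDesc, RingHom.comp_apply, map_C, coe_eval₂Hom, eval₂_C]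
      exact this
    · intro i
      simp [preDesc]
  exact congrArg (fun f => f p) h1

include h in
theorem span_le_ker_preDesc :
    Ideal.span (Set.range (mapRel φ n c F)) ≤ RingHom.ker (preDesc n c F a b) := by
  rw [Ideal.span_le]
  rintro _ ⟨r, rfl⟩
  rw [SetLike.mem_coe, RingHom.mem_ker]
  change preDesc n c F a b (map φ (F r)) = 0
  have h0 : Ideal.Quotient.mk (Ideal.span (Set.range F)) (F r) = 0 :=
    Ideal.Quotient.eq_zero_iff_mem.mpr (Ideal.subset_span ⟨r, rfl⟩)
  rw [preDesc_map φ n c F a b h, h0, map_zero]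

/-- The induced map out of `A'[x]/(φ F)`. -/
noncomputable def desc : Synt.RelGCIRing A' n c (mapRel φ n c F) →+* T :=
  Ideal.Quotient.lift _ (preDesc n c F a b)
    (fun _ hx => RingHom.mem_ker.mp (span_le_ker_preDesc φ n c F a b h hx))

theorem desc_mk (p : MvPolynomial (Fin n) A') :
    desc φ n c F a b h (Ideal.Quotient.mk _ p) = preDesc n c F a b p :=
  Ideal.Quotient.lift_mk _ _ _

theorem desc_algebraMap (x : A') :
    desc φ n c F a b h (algebraMap A' _ x) = a x := by
  rw [show algebraMap A' (Synt.RelGCIRing A' n c (mapRel φ n c F)) x =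
    Ideal.Quotient.mk _ (C x) from rfl, desc_mk]
  simp [preDesc]

theorem desc_qMap (y : Synt.RelGCIRing A n c F) :
    desc φ n c F a b h (qMap φ n c F y) = b y := by
  obtain ⟨p, rfl⟩ := Ideal.Quotient.mk_surjective y
  rw [qMap_mk, desc_mk, preDesc_map φ n c F a b h]

theorem desc_unique (m : Synt.RelGCIRing A' n c (mapRel φ n c F) →+* T)
    (h1 : ∀ x, m (algebraMap A' _ x) = a x) (h2 : ∀ y, m (qMap φ n c F y) = b y) :
    m = desc φ n c F a b h := by
  apply Ideal.Quotient.ringHom_ext
  apply MvPolynomial.ringHom_ext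
  · intro x
    have e1 := h1 x
    have e2 := desc_algebraMap φ n c F a b h x
    rw [show algebraMap A' (Synt.RelGCIRing A' n c (mapRel φ n c F)) x =
      Ideal.Quotient.mk _ (C x) from rfl] at e1 e2
    simp only [RingHom.comp_apply]
    rw [e1, e2]
  · intro i
    have e1 := h2 (Ideal.Quotient.mk _ (X i))
    have e2 := desc_qMap φ n c F a b h (Ideal.Quotient.mk _ (X i))
    rw [qMap_mk, map_X] at e1 e2
    simp only [RingHom.comp_apply]
    rw [e1, e2]

end Desc

theorem isPushout :
    IsPushout (CommRingCat.ofHom φ)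
      (CommRingCat.ofHom (algebraMap A (Synt.RelGCIRing A n c F)))
      (CommRingCat.ofHom (algebraMap A' (Synt.RelGCIRing A' n c (mapRel φ n c F))))
      (CommRingCat.ofHom (qMap φ n c F)) := by
  have hsq : CommRingCat.ofHom φ ≫
      CommRingCat.ofHom (algebraMap A' (Synt.RelGCIRing A' n c (mapRel φ n c F))) =
      CommRingCat.ofHom (algebraMap A (Synt.RelGCIRing A n c F)) ≫
        CommRingCat.ofHom (qMap φ n c F) := by
    ext a
    exact (qMap_algebraMap φ n c F a).symm
  have hs : ∀ s : PushoutCocone (CommRingCat.ofHom φ)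
      (CommRingCat.ofHom (algebraMap A (Synt.RelGCIRing A n c F))),
      s.inl.hom.comp φ = s.inr.hom.comp (algebraMap A (Synt.RelGCIRing A n c F)) := fun s =>
    congrArg (fun f => f.hom) s.condition
  refine ⟨⟨hsq⟩, ⟨PushoutCocone.IsColimit.mk _
    (fun s => CommRingCat.ofHom (desc φ n c F s.inl.hom s.inr.hom (hs s)))
    (fun s => ?_) (fun s => ?_) (fun s m h1 h2 => ?_)⟩⟩
  · apply CommRingCat.hom_ext
    apply RingHom.ext
    intro x
    exact desc_algebraMap φ n c F _ _ (hs s) x
  · apply CommRingCat.hom_ext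
    apply RingHom.ext
    intro y
    exact desc_qMap φ n c F _ _ (hs s) y
  · apply CommRingCat.hom_ext
    refine desc_unique φ n c F _ _ (hs s) m.hom (fun x => ?_) (fun y => ?_)
    · exact congrArg (fun f => f.hom x) h1
    · exact congrArg (fun f => f.hom y) h2

/-- Scheme form: `Spec A'[x]/(φ F)` is the base change of `Spec A[x]/(F)` along `Spec A' ⟶ Spec A`. -/
theorem isPullback_Spec :
    IsPullback (Spec.map (CommRingCat.ofHom (qMap φ n c F)))
      (Spec.map (CommRingCat.ofHom (algebraMap A' (Synt.RelGCIRing A' n c (mapRel φ n c F)))))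
      (Spec.map (CommRingCat.ofHom (algebraMap A (Synt.RelGCIRing A n c F))))
      (Spec.map (CommRingCat.ofHom φ)) :=
  (isPullback_SpecMap_of_isPushout _ _ _ _ (isPushout φ n c F)).flip

end Groth.Agent.Lib.StdSyntPushout64
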