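import Groth.Agent.Lib.ConnFib5E
import Groth.Agent.Lib.SteinProp5
import Groth.Prelude.Def_ega3

/-!
# Stein factorization: fibres (helper5; S4463 in hypothesis form)
-/

set_option autoImplicit false
universe u

open CategoryTheory CategoryTheory.Limits AlgebraicGeometry TopologicalSpace Opposite

namespace Groth.Agent.Lib.SteinFib5

open Groth.Agent.Lib.ProperFinHyp Groth.Agent.Lib.ConnFib5

section General

variable {X Y Z : Scheme.{u}} (g : X ⟶ Y) (f : X ⟶ Z) (π : Y ⟶ Z) (w : g ≫ π = f) (z : Z)

theorem fiberMapOver_fiberι :
    CohIII.fiberMapOver g f π w z ≫ π.fiberι z = f.fiberι z ≫ g := by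
  unfold CohIII.fiberMapOver Scheme.Hom.fiberι
  exact pullback.lift_fst _ _ _

theorem fiberι_fiberMapOver_apply (x : f.fiber z) :
    π.fiberι z ((CohIII.fiberMapOver g f π w z).base x) = g (f.fiberι z x) :=
  congr($(fiberMapOver_fiberι g f π w z) x)

/-- The fibre of the map on fibres over a point `p` of `Y_z` is the preimage in `X_z` of the fibre of
`g` over the image of `p` in `Y`. -/
theorem fiberMapOver_preimage_singleton (p : π.fiber z) :
    (CohIII.fiberMapOver g f π w z).base ⁻¹' {p} =
      (f.fiberι z) ⁻¹' (g ⁻¹' {π.fiberι z p}) := by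
  ext x
  simp only [Set.mem_preimage, Set.mem_singleton_iff]
  rw [← fiberι_fiberMapOver_apply g f π w z x]
  exact ⟨fun h => by rw [h], fun h => (π.fiberι z).isEmbedding.injective h⟩

include w in
theorem preimage_subset_range_fiberι (p : π.fiber z) :
    g ⁻¹' {π.fiberι z p} ⊆ Set.range (f.fiberι z) := by
  rw [f.range_fiberι z]
  intro x hx
  have hx' : g x = π.fiberι z p := hx
  change f x = z
  rw [← w, Scheme.Hom.comp_apply, hx']
  have := π.range_fiberι z
  have h2 : π.fiberι z p ∈ π ⁻¹' {z} := by rw [← this]; exact ⟨p, rfl⟩
  exact h2

end General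

section Stein

variable {X Y : Scheme.{u}} (f : X ⟶ Y) [IsProper f] [IsLocallyNoetherian Y]

/-- The Stein factor `X ⟶ f.normalization` of a proper morphism to a locally Noetherian scheme has
connected fibres (hypothesis form). -/
theorem isConnected_toNormalization_preimage (H2 : Hyp.{u}) (H58 : Hyp58.{u})
    (y' : f.normalization) : _root_.IsConnected (f.toNormalization ⁻¹' {y'}) := by
  haveI : IsFinite f.fromNormalization :=
    Groth.Agent.Lib.SteinFin5.isFinite_fromNormalization_of_hyp H2 f
  haveI : IsLocallyNoetherian f.normalization :=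
    LocallyOfFiniteType.isLocallyNoetherian f.fromNormalization
  haveI : IsProper f.toNormalization := by
    haveI : IsProper (f.toNormalization ≫ f.fromNormalization) := by
      rw [Scheme.Hom.toNormalization_fromNormalization]
      infer_instance
    exact IsProper.of_comp f.toNormalization f.fromNormalization
  obtain ⟨_, ⟨W, hW, rfl⟩, hyW, -⟩ :=
    f.normalization.isBasis_affineOpens.exists_subset_of_mem_open (Set.mem_univ y') isOpen_univ
  haveI : IsIso (f.toNormalization.app W) :=
    Groth.Agent.Lib.SteinProp5.isIso_toNormalization_app f W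
  exact isConnected_preimage_singleton_of_isIso_app f.toNormalization H2 H58 y' hW hyW

/-- **S4463 (hypothesis form)**: fibres of the Stein factorization. -/
theorem stein_fibres (H2 : Hyp.{u}) (H58 : Hyp58.{u}) (y : Y) :
    Finite ↥(f.fromNormalization.fiber y) ∧
    Function.Surjective (CohIII.fiberMapOver f.toNormalization f f.fromNormalization
        f.toNormalization_fromNormalization y).base ∧
    ∀ x x' : ↥(f.fiber y),
      (CohIII.fiberMapOver f.toNormalization f f.fromNormalization
          f.toNormalization_fromNormalization y).base x =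
        (CohIII.fiberMapOver f.toNormalization f f.fromNormalization
          f.toNormalization_fromNormalization y).base x' ↔
      connectedComponent x = connectedComponent x' := by
  haveI : IsFinite f.fromNormalization :=
    Groth.Agent.Lib.SteinFin5.isFinite_fromNormalization_of_hyp H2 f
  set g := f.toNormalization with hg
  set π := f.fromNormalization with hπ
  have w : g ≫ π = f := f.toNormalization_fromNormalization
  set Φ := (CohIII.fiberMapOver g f π w y).base with hΦ
  have hfin : Finite ↥(π.fiber y) := by
    have h1 : (π ⁻¹' {y}).Finite := π.finite_preimage_singleton y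
    haveI : Finite ↥(π ⁻¹' {y}) := h1.to_subtype
    exact Finite.of_equiv _ (π.fiberHomeo y).symm.toEquiv
  have hconn : ∀ p : π.fiber y, _root_.IsPreconnected (Φ ⁻¹' {p}) := by
    intro p
    rw [hΦ, fiberMapOver_preimage_singleton g f π w y p,
      ← (f.fiberι y).isEmbedding.isInducing.isPreconnected_image,
      Set.image_preimage_eq_of_subset (preimage_subset_range_fiberι g f π w y p)]
    exact (isConnected_toNormalization_preimage f H2 H58 _).2
  refine ⟨hfin, ?_, ?_⟩
  · intro p
    obtain ⟨x, hx⟩ := (isConnected_toNormalization_preimage f H2 H58 (π.fiberι y p)).1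
    obtain ⟨q, hq⟩ := preimage_subset_range_fiberι g f π w y p hx
    refine ⟨q, ?_⟩
    apply (π.fiberι y).isEmbedding.injective
    rw [fiberι_fiberMapOver_apply g f π w y q, hq]
    exact hx
  · intro x x'
    constructor
    · intro h
      have hx : x ∈ Φ ⁻¹' {Φ x} := rfl
      have hx' : x' ∈ Φ ⁻¹' {Φ x} := h.symm
      exact connectedComponent_eq ((hconn (Φ x)).subset_connectedComponent hx hx')
    · intro h
      haveI : DiscreteTopology ↥(π.fiber y) := inferInstance
      have himg : (Φ '' connectedComponent x).Subsingleton :=
        (isPreconnected_connectedComponent.image Φ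
          (CohIII.fiberMapOver g f π w y).continuous.continuousOn).subsingleton
      have h1 : Φ x ∈ Φ '' connectedComponent x := ⟨x, mem_connectedComponent, rfl⟩
      have h2 : Φ x' ∈ Φ '' connectedComponent x :=
        ⟨x', by rw [h]; exact mem_connectedComponent, rfl⟩
      exact himg h1 h2

end Stein

end Groth.Agent.Lib.SteinFib5
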