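import Groth.Agent.Lib.SteinField5A
import Groth.Agent.Lib.H71GeomConnPoint
import Mathlib.RingTheory.Spectrum.Prime.Noetherian
import Mathlib.RingTheory.KrullDimension.Zero
import Mathlib.FieldTheory.PurelyInseparable.Basic

/-!
# Stein factorisation over a field, part B (helper5): finite algebras over a field

For a finite algebra `R` over a field `k`: `Spec R ⟶ Spec k` is geometrically connected iff `R` is
local of dimension zero with purely inseparable residue field (written elementwise).
-/

set_option autoImplicit false
universe u

open CategoryTheory CategoryTheory.Limits AlgebraicGeometry TopologicalSpace Opposite TensorProduct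

namespace Groth.Agent.Lib.SteinField5

section ClosedImm

variable {X Y : Scheme.{u}} (j : X ⟶ Y)

/-- A surjective closed immersion is geometrically connected. -/
theorem geometricallyConnected_of_isClosedImmersion_of_surjective [IsClosedImmersion j]
    [Surjective j] : GeometricallyConnected j := by
  refine ⟨geometrically_iff_of_isClosedUnderIsomorphisms.mpr fun K _ y ↦ ?_⟩
  have h1 : IsClosedImmersion (pullback.snd j y) := inferInstance
  have h2 : Surjective (pullback.snd j y) := inferInstance
  have hinj : Function.Injective (pullback.snd j y) :=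
    (pullback.snd j y).isClosedEmbedding.injective
  haveI : Subsingleton ↥(pullback j y) := hinj.subsingleton
  obtain ⟨pt⟩ : Nonempty ↥(Spec (CommRingCat.of K)) := inferInstance
  obtain ⟨z, -⟩ := h2.surj pt
  haveI : Nonempty ↥(pullback j y) := ⟨z⟩
  haveI : IrreducibleSpace ↥(pullback j y) :=
    { toPreirreducibleSpace := inferInstance, toNonempty := inferInstance }
  infer_instance

end ClosedImm

section Alg

variable (k : Type u) [Field k] (R : Type u) [CommRing R] [Algebra k R]

/-- Residue of a nilpotent element of a local ring vanishes. -/
theorem residue_eq_zero_of_isNilpotent [IsLocalRing R] {x : R} (hx : IsNilpotent x) :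
    IsLocalRing.residue R x = 0 :=
  (hx.map (IsLocalRing.residue R)).eq_zero

/-- The elementwise purely-inseparable condition gives pure inseparability of the residue field. -/
theorem isPurelyInseparable_residueField_of_pow [IsLocalRing R]
    (hpow : ∀ a : R, ∃ (n : ℕ) (c : k),
      IsNilpotent (a ^ (ringExpChar k ^ n) - algebraMap k R c)) :
    IsPurelyInseparable k (IsLocalRing.ResidueField R) := by
  rw [isPurelyInseparable_iff_pow_mem k (ringExpChar k)]
  intro α
  obtain ⟨a, rfl⟩ := IsLocalRing.residue_surjective α
  obtain ⟨n, c, hc⟩ := hpow a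
  refine ⟨n, c, ?_⟩
  have h := residue_eq_zero_of_isNilpotent R hc
  rw [map_sub, map_pow, sub_eq_zero] at h
  rw [h]
  exact (IsScalarTower.algebraMap_apply k R (IsLocalRing.ResidueField R) c)

/-- Conversely, pure inseparability of the residue field of a zero-dimensional local `k`-algebra
gives the elementwise condition. -/
theorem pow_of_isPurelyInseparable_residueField [IsLocalRing R] [Ring.KrullDimLE 0 R]
    [IsPurelyInseparable k (IsLocalRing.ResidueField R)] (a : R) :
    ∃ (n : ℕ) (c : k), IsNilpotent (a ^ (ringExpChar k ^ n) - algebraMap k R c) := by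
  obtain ⟨n, c, hc⟩ := IsPurelyInseparable.pow_mem k (ringExpChar k) (IsLocalRing.residue R a)
  refine ⟨n, c, ?_⟩
  rw [Ring.KrullDimLE.isNilpotent_iff_mem_maximalIdeal, ← IsLocalRing.residue_eq_zero_iff,
    map_sub, map_pow, ← hc, sub_eq_zero]
  exact (IsScalarTower.algebraMap_apply k R (IsLocalRing.ResidueField R) c)

theorem specMap_algebraMap_residueField [IsLocalRing R] :
    Spec.map (CommRingCat.ofHom (algebraMap k (IsLocalRing.ResidueField R))) =
      Spec.map (CommRingCat.ofHom (algebraMap R (IsLocalRing.ResidueField R))) ≫
        Spec.map (CommRingCat.ofHom (algebraMap k R)) := by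
  rw [← Spec.map_comp, ← CommRingCat.ofHom_comp,
    ← IsScalarTower.algebraMap_eq k R (IsLocalRing.ResidueField R)]

instance surjective_specMap_residue [IsLocalRing R] [Ring.KrullDimLE 0 R] :
    Surjective (Spec.map (CommRingCat.ofHom (algebraMap R (IsLocalRing.ResidueField R)))) := by
  refine ⟨fun x => ?_⟩
  haveI : Subsingleton ↥(Spec (CommRingCat.of R)) :=
    Ring.KrullDimLE.subsingleton_primeSpectrum R
  obtain ⟨pt⟩ : Nonempty ↥(Spec (CommRingCat.of (IsLocalRing.ResidueField R))) := inferInstance
  exact ⟨pt, Subsingleton.elim _ _⟩

instance isClosedImmersion_specMap_residue [IsLocalRing R] :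
    IsClosedImmersion (Spec.map (CommRingCat.ofHom (algebraMap R (IsLocalRing.ResidueField R)))) :=
  IsClosedImmersion.spec_of_surjective _ IsLocalRing.residue_surjective

/-- **(⇐)** -/
theorem geometricallyConnected_specMap_of_local [IsLocalRing R] [Ring.KrullDimLE 0 R]
    (hpow : ∀ a : R, ∃ (n : ℕ) (c : k),
      IsNilpotent (a ^ (ringExpChar k ^ n) - algebraMap k R c)) :
    GeometricallyConnected (Spec.map (CommRingCat.ofHom (algebraMap k R))) := by
  haveI := isPurelyInseparable_residueField_of_pow k R hpow
  haveI : GeometricallyConnected
      (Spec.map (CommRingCat.ofHom (algebraMap R (IsLocalRing.ResidueField R))) ≫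
        Spec.map (CommRingCat.ofHom (algebraMap k R))) := by
    rw [← specMap_algebraMap_residueField]
    exact Groth.Agent.Lib.H71GeomConnPoint.geometricallyConnected_SpecMap_of_sepClosedIn
      (fun α hα => IsPurelyInseparable.inseparable k α hα)
  exact geometricallyConnected_of_comp_of_surjective
    (Spec.map (CommRingCat.ofHom (algebraMap R (IsLocalRing.ResidueField R)))) _

/-- A geometrically connected finite extension of fields is purely inseparable. -/
theorem isPurelyInseparable_of_geometricallyConnected (K : Type u) [Field K] [Algebra k K]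
    [Module.Finite k K]
    [GeometricallyConnected (Spec.map (CommRingCat.ofHom (algebraMap k K)))] :
    IsPurelyInseparable k K := by
  rw [isPurelyInseparable_iff]
  have hsep : ∀ α : K, IsSeparable k α → α ∈ Set.range (algebraMap k K) := by
    refine (Groth.Agent.S2150.result (k := k) (K := K)).mp fun k' _ _ => ?_
    have hconn : ConnectedSpace
        ↥(pullback (Spec.map (CommRingCat.ofHom (algebraMap k K)))
          (Spec.map (CommRingCat.ofHom (algebraMap k k')))) :=
      pullback_of_geometrically (P := fun X => ConnectedSpace X)
        (GeometricallyConnected.geometrically_connectedSpace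
          (f := Spec.map (CommRingCat.ofHom (algebraMap k K)))) k' _
    let e : Spec (CommRingCat.of (k' ⊗[k] K)) ≅
        pullback (Spec.map (CommRingCat.ofHom (algebraMap k K)))
          (Spec.map (CommRingCat.ofHom (algebraMap k k'))) :=
      Scheme.Spec.mapIso (Algebra.TensorProduct.comm k K k').toRingEquiv.toCommRingCatIso.op ≪≫
        (pullbackSpecIso k K k').symm
    have hconn' : ConnectedSpace ↥(Spec (CommRingCat.of (k' ⊗[k] K))) :=
      e.inv.surjective.connectedSpace e.inv.continuous
    have hconn'' : ConnectedSpace (PrimeSpectrum (k' ⊗[k] K)) := hconn'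
    haveI : IsArtinianRing (k' ⊗[k] K) := IsArtinianRing.of_finite k' _
    haveI : Subsingleton (PrimeSpectrum (k' ⊗[k] K)) :=
      PreconnectedSpace.trivial_of_discrete
    exact { toPreirreducibleSpace := inferInstance, toNonempty := inferInstance }
  exact fun x => ⟨Algebra.IsIntegral.isIntegral x, fun hx => hsep x hx⟩

/-- **(⇒)** -/
theorem local_of_geometricallyConnected_specMap [Module.Finite k R]
    [GeometricallyConnected (Spec.map (CommRingCat.ofHom (algebraMap k R)))] :
    IsLocalRing R ∧ ringKrullDim R = 0 ∧ ∀ a : R, ∃ (n : ℕ) (c : k),
      IsNilpotent (a ^ (ringExpChar k ^ n) - algebraMap k R c) := by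
  haveI : IsArtinianRing R := IsArtinianRing.of_finite k R
  have hconn : ConnectedSpace ↥(Spec (CommRingCat.of R)) :=
    GeometricallyConnected.connectedSpace_of_subsingleton
      (f := Spec.map (CommRingCat.ofHom (algebraMap k R)))
  have hconn' : ConnectedSpace (PrimeSpectrum R) := hconn
  haveI : Subsingleton (PrimeSpectrum R) := PreconnectedSpace.trivial_of_discrete
  haveI : Nontrivial R := by
    obtain ⟨p⟩ : Nonempty (PrimeSpectrum R) := inferInstance
    exact PrimeSpectrum.nontrivial p
  haveI : Subsingleton (MaximalSpectrum R) :=
    MaximalSpectrum.toPrimeSpectrum_injective.subsingleton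
  haveI : IsLocalRing R := .of_singleton_maximalSpectrum
  refine ⟨inferInstance, ringKrullDimZero_iff_ringKrullDim_eq_zero.mp inferInstance, ?_⟩
  haveI : GeometricallyConnected
      (Spec.map (CommRingCat.ofHom (algebraMap R (IsLocalRing.ResidueField R)))) :=
    geometricallyConnected_of_isClosedImmersion_of_surjective _
  haveI : GeometricallyConnected
      (Spec.map (CommRingCat.ofHom (algebraMap k (IsLocalRing.ResidueField R)))) := by
    rw [specMap_algebraMap_residueField]
    exact geometricallyConnected_comp_of_universallyClosed _ _
  haveI := isPurelyInseparable_of_geometricallyConnected k (IsLocalRing.ResidueField R)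
  exact pow_of_isPurelyInseparable_residueField k R

end Alg

end Groth.Agent.Lib.SteinField5
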