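import Groth.Agent.Lib.FibreMain21
import Groth.Agent.Lib.FibreLoc21b

/-!
# K2c: package with the sections isomorphism, and local freeness of stalks (helper21)
-/

set_option autoImplicit false
set_option linter.style.haveILetI false
universe u

open CategoryTheory CategoryTheory.Limits AlgebraicGeometry Opposite CohIII

namespace Groth.Agent.Lib.SteinPkg21

open Groth.Agent.Lib.FibreOpen21 Groth.Agent.Lib.FibreStalk21 Groth.Agent.Lib.FibreAlg21
  Groth.Agent.Lib.EndEquivH44 Groth.Agent.Lib.QCohStalk Groth.Agent.Lib.FibreGeo21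

variable {X Y : Scheme.{u}} (f : X ⟶ Y) {V : Y.Opens}

/-- the package together with `H^p(f⁻¹V, F) ≃ₗ[A] T^p_L(A)` -/
theorem exists_package_sections [IsProper f] [IsLocallyNoetherian Y]
    [HasInjectiveResolutions X.Modules]
    (F : X.Modules) (hF : Coh.IsCoh F) (hfl : FlatMod.IsFlatOver f F) (hV : IsAffineOpen V) :
    letI := overV f hV
    ∃ L : CochainComplex (ModuleCat.{u} (AV V)) ℤ, Package f F hV L ∧
      ∀ p : ℕ, Nonempty (Coh.HH (f ⁻¹ᵁ V).toScheme (F.restrict (f ⁻¹ᵁ V).ι) p ≃ₗ[AV V]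
        NN L (p : ℤ)) := by
  letI := overV f hV
  obtain ⟨L, h1, h2, h3, h4, h5⟩ := exists_model_V f F hF hfl hV
  refine ⟨L, ⟨fun i => (h1 i).1, fun i => ?_, h2, h4, fun z hz p => (h5 z hz p).1,
    fun z hz p => (h5 z hz p).2, fun z hz p => ?_⟩, fun p => ?_⟩
  · haveI := (h1 i).2
    infer_instance
  · exact exists_isLocalizedModule_stalk f F hF hV L p (h3 p) z hz
  · exact Groth.Agent.Lib.FibreSections21.nonempty_HH_linearEquiv_TFun (AV V)
      (F.restrict (f ⁻¹ᵁ V).ι) L p (p : ℤ) (h3 p)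

variable {f} [HasInjectiveResolutions X.Modules] [IsLocallyNoetherian Y] {F : X.Modules}
  {hV : IsAffineOpen V} {L : CochainComplex (ModuleCat.{u} (AV V)) ℤ}

/-- freeness of the standard localization `T^p(A)_x` gives freeness of the stalk, of the same rank -/
theorem free_stalk_of_localized (P : Package f F hV L) (z : Y) (hz : z ∈ V.ι ''ᵁ ⊤) (p : ℕ)
    (hfree : Module.Free (Localization.AtPrime (xV hV z hz).asIdeal)
      (LocalizedModule (xV hV z hz).asIdeal.primeCompl (NN L (p : ℤ)))) :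
    Module.Free (Y.presheaf.stalk z) (((Coh.Rpush f p).obj F).presheaf.stalk z) ∧
      Module.finrank (Y.presheaf.stalk z) (((Coh.Rpush f p).obj F).presheaf.stalk z) =
        Module.finrank (Localization.AtPrime (xV hV z hz).asIdeal)
          (LocalizedModule (xV hV z hz).asIdeal.primeCompl (NN L (p : ℤ))) := by
  letI := moduleStalkA ((Coh.Rpush f p).obj F) z hz
  letI : Algebra (AV V) (Y.presheaf.stalk z) :=
    Y.presheaf.algebra_section_stalk (U := V.ι ''ᵁ ⊤) ⟨z, hz⟩
  haveI : IsLocalization.AtPrime (Y.presheaf.stalk z) (xV hV z hz).asIdeal :=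
    (isAffineOpen_W hV).isLocalization_stalk ⟨z, hz⟩
  haveI : IsScalarTower (AV V) (Y.presheaf.stalk z)
      (((Coh.Rpush f p).obj F).presheaf.stalk z) :=
    isScalarTower_sectionStalk ((Coh.Rpush f p).obj F) (U := V.ι ''ᵁ ⊤) ⟨z, hz⟩
  haveI := P.finite_NN (p : ℤ)
  obtain ⟨ℓ, hℓ⟩ := P.stalk z hz p
  exact Groth.Agent.Lib.FibreLoc21.free_and_finrank_of_free_localized (xV hV z hz)
    (Y.presheaf.stalk z) (NN L (p : ℤ)) (((Coh.Rpush f p).obj F).presheaf.stalk z) ℓ

end Groth.Agent.Lib.SteinPkg21
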