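import Mathlib
import Groth.Agent.Lib.UnivHomeo
import Groth.Agent.Lib.SteinField5A

/-!
# Stein factor of a proper morphism with geometrically connected fibres is a universal homeomorphism (helper34)
-/

set_option autoImplicit false
universe u
open Polynomial CategoryTheory AlgebraicGeometry CategoryTheory.Limits

namespace Groth.Agent.Lib.SteinUH34

/-- Two `K`-points of a connected `Spec R` with `R` integral over the field `K` coincide. -/
theorem algHom_eq_of_preconnected {K R : Type*} [Field K] [CommRing R] [Algebra K R]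
    [Algebra.IsIntegral K R] [PreconnectedSpace (PrimeSpectrum R)] (ψ₁ ψ₂ : R →ₐ[K] K) : ψ₁ = ψ₂ := by
  by_contra hne
  obtain ⟨a₀, ha₀⟩ : ∃ a, ψ₁ a ≠ ψ₂ a := by
    by_contra h
    push_neg at h
    exact hne (AlgHom.ext h)
  set a := a₀ - algebraMap K R (ψ₁ a₀) with ha
  have h1 : ψ₁ a = 0 := by simp [ha]
  set c := ψ₂ a with hc
  have hc0 : c ≠ 0 := by
    simp only [hc, ha, map_sub, AlgHom.commutes, Algebra.algebraMap_self, RingHom.id_apply]
    exact sub_ne_zero.mpr (Ne.symm ha₀)
  have hint : IsIntegral K a := Algebra.IsIntegral.isIntegral a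
  set q := minpoly K a with hq
  have hq0 : q ≠ 0 := minpoly.ne_zero hint
  have hqa : aeval a q = 0 := minpoly.aeval K a
  have hq1 : q.eval 0 = 0 := by
    have := congrArg ψ₁ hqa
    rwa [← Polynomial.aeval_algHom_apply, h1, map_zero, Polynomial.coe_aeval_eq_eval] at this
  have hq2 : q.eval c = 0 := by
    have := congrArg ψ₂ hqa
    rwa [← Polynomial.aeval_algHom_apply, map_zero, Polynomial.coe_aeval_eq_eval] at this
  obtain ⟨h, hqh, hnd⟩ := Polynomial.exists_eq_pow_rootMultiplicity_mul_and_not_dvd q hq0 0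
  set m := rootMultiplicity 0 q with hm
  have hm0 : 0 < m := (Polynomial.rootMultiplicity_pos hq0).mpr hq1
  have hcop : IsCoprime ((X - C (0 : K)) ^ m) h :=
    ((Polynomial.irreducible_X_sub_C (0 : K)).coprime_iff_not_dvd.mpr hnd).pow_left
  obtain ⟨u, v, huv⟩ := hcop
  set e := aeval a (v * h) with he
  set f := aeval a (u * (X - C (0 : K)) ^ m) with hf
  have hadd : e + f = 1 := by
    rw [he, hf, ← map_add, add_comm, huv, map_one]
  have hmul : e * f = 0 := by
    rw [he, hf, ← map_mul]
    have : v * h * (u * (X - C (0 : K)) ^ m) = (u * v) * q := by rw [hqh]; ring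
    rw [this, map_mul, hqa, mul_zero]
  have hclopen := PrimeSpectrum.isClopen_basicOpen_of_mul_add e f hmul hadd
  have hψ1 : ψ₁ e = 1 := by
    rw [he, ← Polynomial.aeval_algHom_apply, h1, Polynomial.coe_aeval_eq_eval]
    have := congrArg (Polynomial.eval 0) huv
    simpa [hm0.ne'] using this
  have hh2 : h.eval c = 0 := by
    have := hq2
    rw [hqh, Polynomial.eval_mul, Polynomial.eval_pow] at this
    simp only [eval_sub, eval_X, eval_C, sub_zero] at this
    rcases mul_eq_zero.mp this with h' | h'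
    · exact absurd (pow_eq_zero_iff hm0.ne' |>.mp h') hc0
    · exact h'
  have hψ2 : ψ₂ e = 0 := by
    rw [he, ← Polynomial.aeval_algHom_apply, Polynomial.coe_aeval_eq_eval, Polynomial.eval_mul, hh2,
      mul_zero]
  let P₁ : PrimeSpectrum R := ⟨RingHom.ker ψ₁.toRingHom, RingHom.ker_isPrime _⟩
  let P₂ : PrimeSpectrum R := ⟨RingHom.ker ψ₂.toRingHom, RingHom.ker_isPrime _⟩
  have hP1 : P₁ ∈ (PrimeSpectrum.basicOpen e : Set (PrimeSpectrum R)) := by
    show e ∉ RingHom.ker ψ₁.toRingHom
    rw [RingHom.mem_ker]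
    show ¬ ψ₁ e = 0
    rw [hψ1]
    exact one_ne_zero
  have hP2 : P₂ ∉ (PrimeSpectrum.basicOpen e : Set (PrimeSpectrum R)) := by
    show ¬ e ∉ RingHom.ker ψ₂.toRingHom
    rw [not_not, RingHom.mem_ker]
    exact hψ2
  rcases isClopen_iff.mp hclopen with h' | h'
  · rw [h'] at hP1
    exact hP1
  · rw [h'] at hP2
    exact hP2 (Set.mem_univ _)

/-- Sections of an integral morphism from a connected scheme to `Spec K` are unique. -/
theorem section_unique {K : Type u} [Field K] {Z : Scheme.{u}} (p : Z ⟶ Spec (CommRingCat.of K))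
    [IsIntegralHom p] [PreconnectedSpace Z] (σ₁ σ₂ : Spec (CommRingCat.of K) ⟶ Z)
    (h₁ : σ₁ ≫ p = 𝟙 _) (h₂ : σ₂ ≫ p = 𝟙 _) : σ₁ = σ₂ := by
  haveI : IsAffine Z := isAffine_of_isAffineHom p
  apply ext_of_isAffine
  -- the ring map K → Γ(Z)
  let φ : CommRingCat.of K ⟶ Γ(Z, ⊤) := (Scheme.ΓSpecIso (CommRingCat.of K)).inv ≫ p.appTop
  letI : Algebra K Γ(Z, ⊤) := φ.hom.toAlgebra
  have hint : φ.hom.IsIntegral := by
    have h := IsIntegralHom.isIntegral_app p ⊤ (isAffineOpen_top _)
    exact RingHom.IsIntegral.trans _ _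
      (RingHom.isIntegral_of_surjective _ (ConcreteCategory.bijective_of_isIso
        (Scheme.ΓSpecIso (CommRingCat.of K)).inv).2) h
  haveI : Algebra.IsIntegral K Γ(Z, ⊤) := ⟨hint⟩
  haveI : PreconnectedSpace (PrimeSpectrum Γ(Z, ⊤)) :=
    DenseRange.preconnectedSpace (f := Z.isoSpec.hom)
      (Z.isoSpec.hom.homeomorph.surjective.denseRange) Z.isoSpec.hom.continuous
  have key : ∀ σ : Spec (CommRingCat.of K) ⟶ Z, σ ≫ p = 𝟙 _ →
      ∀ k : K, (σ.appTop ≫ (Scheme.ΓSpecIso (CommRingCat.of K)).hom).hom (φ.hom k) = k := by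
    intro σ hσ k
    have h : φ ≫ σ.appTop ≫ (Scheme.ΓSpecIso (CommRingCat.of K)).hom = 𝟙 _ := by
      show ((Scheme.ΓSpecIso (CommRingCat.of K)).inv ≫ p.appTop) ≫ σ.appTop ≫ _ = _
      rw [Category.assoc, ← Category.assoc p.appTop, ← Scheme.Hom.comp_appTop, hσ]
      simp
    exact congrArg (fun g : CommRingCat.of K ⟶ CommRingCat.of K => g.hom k) h
  let ψ₁ : Γ(Z, ⊤) →ₐ[K] K :=
    { (σ₁.appTop ≫ (Scheme.ΓSpecIso (CommRingCat.of K)).hom).hom with commutes' := key σ₁ h₁ }
  let ψ₂ : Γ(Z, ⊤) →ₐ[K] K :=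
    { (σ₂.appTop ≫ (Scheme.ΓSpecIso (CommRingCat.of K)).hom).hom with commutes' := key σ₂ h₂ }
  have h := algHom_eq_of_preconnected ψ₁ ψ₂
  have h' : σ₁.appTop ≫ (Scheme.ΓSpecIso (CommRingCat.of K)).hom =
      σ₂.appTop ≫ (Scheme.ΓSpecIso (CommRingCat.of K)).hom := by
    ext x
    exact congrArg (fun g : Γ(Z, ⊤) →ₐ[K] K => g x) h
  exact (cancel_mono _).mp h'

/-- An integral geometrically connected morphism is universally injective. -/
theorem universallyInjective_of_isIntegralHom {X Y : Scheme.{u}} (j : X ⟶ Y) [IsIntegralHom j]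
    [GeometricallyConnected j] : UniversallyInjective j := by
  have htfae : UniversallyInjective j ↔ ∀ (K : Type u) [Field K],
      Function.Injective (fun g : Spec (CommRingCat.of K) ⟶ X ↦ g ≫ j) :=
    (tfae_universallyInjective j).out 0 1
  rw [htfae]
  intro K _ g₁ g₂ h
  dsimp only at h
  have hc : ConnectedSpace ↥(pullback j (g₁ ≫ j)) :=
    pullback_of_geometrically (P := fun X => ConnectedSpace X)
      (GeometricallyConnected.geometrically_connectedSpace (f := j)) K (g₁ ≫ j)
  let σ₁ : Spec (CommRingCat.of K) ⟶ pullback j (g₁ ≫ j) := pullback.lift g₁ (𝟙 _) (by simp)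
  let σ₂ : Spec (CommRingCat.of K) ⟶ pullback j (g₁ ≫ j) := pullback.lift g₂ (𝟙 _) (by simp [h])
  have hs : σ₁ = σ₂ := section_unique (pullback.snd j (g₁ ≫ j)) σ₁ σ₂
    (pullback.lift_snd _ _ _) (pullback.lift_snd _ _ _)
  have e1 : σ₁ ≫ pullback.fst j (g₁ ≫ j) = g₁ := pullback.lift_fst _ _ _
  have e2 : σ₂ ≫ pullback.fst j (g₁ ≫ j) = g₂ := pullback.lift_fst _ _ _
  rw [← e1, ← e2, hs]

/-- Stein factor of a proper morphism with geometrically connected fibres. -/
theorem isUnivHomeo_fromNormalization {X S : Scheme.{u}} (f : X ⟶ S) [IsProper f]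
    [GeometricallyConnected f] : FlatMor.IsUnivHomeo f.fromNormalization := by
  have hfac : f.toNormalization ≫ f.fromNormalization = f := f.toNormalization_fromNormalization
  haveI : IsProper (f.toNormalization ≫ f.fromNormalization) := by rw [hfac]; infer_instance
  haveI : IsProper f.toNormalization := IsProper.of_comp f.toNormalization f.fromNormalization
  haveI : Surjective f.toNormalization :=
    surjective_of_isDominant_of_isClosed_range f.toNormalization
      f.toNormalization.isClosedMap.isClosed_range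
  haveI : GeometricallyConnected (f.toNormalization ≫ f.fromNormalization) := by
    rw [hfac]; infer_instance
  haveI : GeometricallyConnected f.fromNormalization :=
    Groth.Agent.Lib.SteinField5.geometricallyConnected_of_comp_of_surjective
      f.toNormalization f.fromNormalization
  rw [Groth.Agent.Lib.UnivHomeo.iff_isIntegralHom_universallyInjective_surjective]
  exact ⟨inferInstance, universallyInjective_of_isIntegralHom _, inferInstance⟩

end Groth.Agent.Lib.SteinUH34
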