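import Mathlib

/-!
# Steinitz: large algebraically closed fields are homogeneous over small subfields
-/

set_option autoImplicit false
set_option linter.style.haveILetI false
universe u
open Cardinal

namespace Groth.Agent.Lib.Steinitz91

/-- Two algebraically closed fields of the same cardinality, bigger than that of a common base field, are isomorphic over
the base field. -/
theorem exists_ringEquiv_of_card (R K L : Type u) [Field R] [Field K] [Field L] [Algebra R K] [Algebra R L]
    [IsAlgClosed K] [IsAlgClosed L] (hKL : #K = #L) (hR : max #R ℵ₀ < #K) :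
    ∃ α : K ≃+* L, ∀ r, α (algebraMap R K r) = algebraMap R L r := by
  obtain ⟨s, hs⟩ := exists_isTranscendenceBasis R K
  obtain ⟨t, ht⟩ := exists_isTranscendenceBasis R L
  have hcs : #s = #K := by
    refine le_antisymm (mk_set_le s) ?_
    by_contra hlt
    rw [not_le] at hlt
    have h1 := IsAlgClosed.cardinal_le_max_transcendence_basis' (R := R) (K' := K) _ hs
    have h2 : max (max #R #s) ℵ₀ < #K :=
      max_lt (max_lt ((le_max_left _ _).trans_lt hR) hlt) ((le_max_right _ _).trans_lt hR)
    exact absurd h1 (not_le.2 h2)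
  have hct : #t = #L := by
    refine le_antisymm (mk_set_le t) ?_
    by_contra hlt
    rw [not_le] at hlt
    have h1 := IsAlgClosed.cardinal_le_max_transcendence_basis' (R := R) (K' := L) _ ht
    have h2 : max (max #R #t) ℵ₀ < #L :=
      max_lt (max_lt ((le_max_left _ _).trans_lt (hKL ▸ hR)) hlt) ((le_max_right _ _).trans_lt (hKL ▸ hR))
    exact absurd h1 (not_le.2 h2)
  obtain ⟨e⟩ := Cardinal.eq.1 (hcs.trans (hKL.trans hct.symm))
  letI := IsAlgClosed.isAlgClosure_of_transcendence_basis _ hs
  letI := IsAlgClosed.isAlgClosure_of_transcendence_basis _ ht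
  let e' : Algebra.adjoin R (Set.range ((↑) : s → K)) ≃ₐ[R] Algebra.adjoin R (Set.range ((↑) : t → L)) :=
    hs.1.aevalEquiv.symm.trans ((MvPolynomial.renameEquiv R e).trans ht.1.aevalEquiv)
  refine ⟨IsAlgClosure.equivOfEquiv K L e'.toRingEquiv, fun r => ?_⟩
  rw [IsScalarTower.algebraMap_apply R (Algebra.adjoin R (Set.range ((↑) : s → K))) K,
    IsAlgClosure.equivOfEquiv_algebraMap]
  change algebraMap _ L (e' (algebraMap R _ r)) = _
  rw [e'.commutes, ← IsScalarTower.algebraMap_apply]

/-- For a field `K` with two embeddings of a field `k`, there is an algebraically closed extension `k'` of `K` with an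
automorphism interchanging the two embeddings. -/
theorem exists_algClosed_aut (k K : Type u) [Field k] [Field K] (σs σt : k →+* K) :
    ∃ (k' : Type u) (_ : Field k') (_ : IsAlgClosed k') (ι : K →+* k') (α : k' ≃+* k'),
      ∀ a : k, α (ι (σs a)) = ι (σt a) := by
  let I := Set (K × ℕ)
  let P := MvPolynomial I K
  let F := FractionRing P
  let k' := AlgebraicClosure F
  let ι : K →+* k' := (algebraMap F k').comp ((algebraMap P F).comp MvPolynomial.C)
  have hbig : max #k ℵ₀ < #k' := by
    have h1 : #k ≤ #(K × ℕ) :=
      mk_le_of_injective (f := fun a : k => (σs a, 0)) (fun a b h => σs.injective (Prod.ext_iff.1 h).1)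
    have h2 : ℵ₀ ≤ #(K × ℕ) := Cardinal.aleph0_le_mk _
    have h3 : #(K × ℕ) < #I := by
      rw [mk_set]; exact cantor _
    have h4 : #I ≤ #k' := by
      refine mk_le_of_injective (f := fun i : I => algebraMap F k' (algebraMap P F (MvPolynomial.X i))) ?_
      intro i j h
      exact MvPolynomial.X_injective (IsFractionRing.injective P F ((algebraMap F k').injective h))
    exact (max_le h1 h2).trans_lt (h3.trans_le h4)
  letI A1 : Algebra k k' := (ι.comp σs).toAlgebra
  obtain ⟨α, hα⟩ := @exists_ringEquiv_of_card k k' k' _ _ _ A1 (ι.comp σt).toAlgebra _ _ rfl hbig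
  exact ⟨k', inferInstance, inferInstance, ι, α, hα⟩

end Groth.Agent.Lib.Steinitz91
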