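import Groth.Agent.Lib.LiftSqBaseChange
import Groth.Agent.Lib.FpEquiv
import Groth.Agent.Lib.FibGrpd
import Groth.Prelude.Def_AlgSt

/-!
# The stack condition is local on the target (helper64)

For `j : 𝒳 ⟶ 𝒴` over `C` with `𝒴` fibred in groupoids: if restriction along `ι : 𝒜 ⟶ ℬ` is an
equivalence for `𝒴` and for all 2-fibre products `ℬ ×_𝒴 𝒳` (`y : ℬ ⟶ 𝒴`), then it is an equivalence
for `𝒳`.  Consequently (`isStack_of_forall_fp`): if `𝒴` is a stack in groupoids, `𝒳` is fibred in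
groupoids and `(C/U) ×_𝒴 𝒳` is a stack for every `y : C/U ⟶ 𝒴`, then `𝒳` is a stack.
-/

set_option autoImplicit false
set_option linter.style.haveILetI false
set_option linter.unusedVariables false
set_option backward.isDefEq.respectTransparency false
set_option backward.isDefEq.respectTransparency.types false

namespace Groth.Agent.Lib.StkLocalTarget

open CategoryTheory FibCat Groth.Agent.Lib.FibGrpd Groth.Agent.Lib.FpEquiv
  Groth.Agent.Lib.LiftSqBaseChange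

universe v₅ u₅ v₄ u₄ v₃ u₃ v₂ u₂ v u

variable {C : Type u} [Category.{v} C]

section IsoOfHom

variable {𝒜 : BasedCategory.{v₂, u₂} C} {𝒴 : BasedCategory.{v₃, u₃} C}

/-- 2-morphisms into a category fibred in groupoids are invertible. -/
noncomputable def isoOfHom [FibCat.IsFibGrpd 𝒴.p] {F G : 𝒜 ⥤ᵇ 𝒴} (α : F ⟶ G) : F ≅ G :=
  haveI : ∀ a : 𝒜.obj, IsIso (α.toNatTrans.app a) := fun a =>
    isIso_of_isHomLift_isIso 𝒴.p (𝟙 (𝒜.p.obj a)) (α.toNatTrans.app a)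
  BasedNatIso.mkNatIso (NatIso.ofComponents (fun a => asIso (α.toNatTrans.app a))
    (fun f => α.toNatTrans.naturality f)) (fun a => α.isHomLift' a)

theorem isoOfHom_hom_app [FibCat.IsFibGrpd 𝒴.p] {F G : 𝒜 ⥤ᵇ 𝒴} (α : F ⟶ G) (a : 𝒜.obj) :
    (isoOfHom α).hom.toNatTrans.app a = α.toNatTrans.app a := rfl

theorem isoOfHom_inv_hom_app [FibCat.IsFibGrpd 𝒴.p] {F G : 𝒜 ⥤ᵇ 𝒴} (α : F ⟶ G) (a : 𝒜.obj) :
    (isoOfHom α).inv.toNatTrans.app a ≫ α.toNatTrans.app a = 𝟙 _ :=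
  iso_inv_hom_app (isoOfHom α) a

end IsoOfHom

section Restr

variable {𝒜 : BasedCategory.{v₂, u₂} C} {ℬ : BasedCategory.{v₃, u₃} C} (ι : 𝒜 ⥤ᵇ ℬ)
  {𝒳 : BasedCategory.{v₄, u₄} C} {𝒴 : BasedCategory.{v₅, u₅} C} (j : 𝒳 ⥤ᵇ 𝒴)

theorem restr_essSurj_of_fp [(Stk.restr ι 𝒴).EssSurj]
    (h : ∀ y : ℬ ⥤ᵇ 𝒴, (Stk.restr ι (fp y j)).EssSurj) : (Stk.restr ι 𝒳).EssSurj where
  mem_essImage ξ := by
    let y : ℬ ⥤ᵇ 𝒴 := (Stk.restr ι 𝒴).objPreimage (BasedFunctor.comp ξ j)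
    let α : BasedFunctor.comp ι y ≅ BasedFunctor.comp ξ j :=
      (Stk.restr ι 𝒴).objObjPreimageIso _
    let ζ₀ : 𝒜 ⥤ᵇ fp y j := fpLift ι ξ α
    haveI := h y
    let ζ : ℬ ⥤ᵇ fp y j := (Stk.restr ι (fp y j)).objPreimage ζ₀
    let β : BasedFunctor.comp ι ζ ≅ ζ₀ := (Stk.restr ι (fp y j)).objObjPreimageIso _
    exact ⟨BasedFunctor.comp ζ (fpSnd y j), ⟨whiskerRightIso β (fpSnd y j)⟩⟩

/-- The section of `ℬ ×_𝒴 𝒳 ⟶ ℬ` attached to `x : ℬ ⟶ 𝒳` and `δ : y ≅ j ∘ x`. -/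
def secOf {y : ℬ ⥤ᵇ 𝒴} (x : ℬ ⥤ᵇ 𝒳) (δ : y ≅ BasedFunctor.comp x j) : ℬ ⥤ᵇ fp y j :=
  fpLift (BasedFunctor.id ℬ) x (idCompIso y ≪≫ δ)

theorem secOf_obj_iso_hom {y : ℬ ⥤ᵇ 𝒴} (x : ℬ ⥤ᵇ 𝒳) (δ : y ≅ BasedFunctor.comp x j) (b : ℬ.obj) :
    ((secOf j x δ).obj b).obj.iso.hom = δ.hom.toNatTrans.app b := by
  show (idCompIso y ≪≫ δ).hom.toNatTrans.app b = _
  simp [idCompIso]

theorem secOf_comp_fpFst {y : ℬ ⥤ᵇ 𝒴} (x : ℬ ⥤ᵇ 𝒳) (δ : y ≅ BasedFunctor.comp x j) :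
    BasedFunctor.comp (secOf j x δ) (fpFst y j) = BasedFunctor.id ℬ := rfl

theorem secOf_comp_fpSnd {y : ℬ ⥤ᵇ 𝒴} (x : ℬ ⥤ᵇ 𝒳) (δ : y ≅ BasedFunctor.comp x j) :
    BasedFunctor.comp (secOf j x δ) (fpSnd y j) = x := rfl

/-- A 2-morphism between sections from a 2-morphism of the underlying functors to `𝒳`. -/
def secHom {y : ℬ ⥤ᵇ 𝒴} {x x' : ℬ ⥤ᵇ 𝒳} (δ : y ≅ BasedFunctor.comp x j)
    (δ' : y ≅ BasedFunctor.comp x' j) (a : x ⟶ x')
    (h : ∀ b : ℬ.obj, δ.hom.toNatTrans.app b ≫ j.map (a.toNatTrans.app b) =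
      δ'.hom.toNatTrans.app b) : secOf j x δ ⟶ secOf j x' δ' :=
  fpNatTrans (H := secOf j x δ) (H' := secOf j x' δ') (𝟙 (BasedFunctor.id ℬ)) a (fun b => by
    rw [secOf_obj_iso_hom, secOf_obj_iso_hom, h b]
    have e : y.map ((𝟙 (BasedFunctor.id ℬ) : BasedFunctor.id ℬ ⟶ BasedFunctor.id ℬ).toNatTrans.app b)
        = 𝟙 _ := y.toFunctor.map_id _
    exact (congrArg (· ≫ δ'.hom.toNatTrans.app b) e).trans (Category.id_comp _))

theorem secHom_app_snd {y : ℬ ⥤ᵇ 𝒴} {x x' : ℬ ⥤ᵇ 𝒳} (δ : y ≅ BasedFunctor.comp x j)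
    (δ' : y ≅ BasedFunctor.comp x' j) (a : x ⟶ x') h (b : ℬ.obj) :
    ((secHom j δ δ' a h).toNatTrans.app b).hom.snd = a.toNatTrans.app b := rfl

theorem secHom_app_fst {y : ℬ ⥤ᵇ 𝒴} {x x' : ℬ ⥤ᵇ 𝒳} (δ : y ≅ BasedFunctor.comp x j)
    (δ' : y ≅ BasedFunctor.comp x' j) (a : x ⟶ x') h (b : ℬ.obj) :
    ((secHom j δ δ' a h).toNatTrans.app b).hom.fst = 𝟙 b := rfl

theorem restr_faithful_of_fp [FibCat.IsFibGrpd 𝒴.p] [(Stk.restr ι 𝒴).Faithful]
    (h : ∀ y : ℬ ⥤ᵇ 𝒴, (Stk.restr ι (fp y j)).Faithful) : (Stk.restr ι 𝒳).Faithful where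
  map_injective {x x'} a b hab := by
    have hab' : ∀ t : 𝒜.obj, a.toNatTrans.app (ι.obj t) = b.toNatTrans.app (ι.obj t) :=
      fun t => congrArg (fun γ => γ.toNatTrans.app t) hab
    have hγ : BasedCategory.whiskerRight a j = BasedCategory.whiskerRight b j := by
      apply (Stk.restr ι 𝒴).map_injective
      apply BasedNatTrans.homCategory.ext
      ext t
      show j.map (a.toNatTrans.app (ι.obj t)) = j.map (b.toNatTrans.app (ι.obj t))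
      rw [hab' t]
    have hγ' : ∀ w : ℬ.obj, j.map (a.toNatTrans.app w) = j.map (b.toNatTrans.app w) :=
      fun w => congrArg (fun γ => γ.toNatTrans.app w) hγ
    let δ : BasedFunctor.comp x j ≅ BasedFunctor.comp x' j :=
      isoOfHom (BasedCategory.whiskerRight a j)
    have hδ : ∀ w : ℬ.obj, δ.inv.toNatTrans.app w ≫ j.map (a.toNatTrans.app w) = 𝟙 _ :=
      fun w => isoOfHom_inv_hom_app (BasedCategory.whiskerRight a j) w
    let A : secOf j x δ.symm ⟶ secOf j x' (Iso.refl _) :=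
      secHom j δ.symm (Iso.refl _) a (fun w => hδ w)
    let B : secOf j x δ.symm ⟶ secOf j x' (Iso.refl _) :=
      secHom j δ.symm (Iso.refl _) b (fun w => by rw [← hγ' w]; exact hδ w)
    haveI := h (BasedFunctor.comp x' j)
    have hAB : A = B := by
      apply (Stk.restr ι (fp (BasedFunctor.comp x' j) j)).map_injective
      apply fp_natTrans_ext
      · intro t
        rfl
      · intro t
        exact hab' t
    apply BasedNatTrans.homCategory.ext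
    ext w
    exact congrArg (fun γ => (γ.toNatTrans.app w).hom.snd) hAB

theorem restr_full_of_fp [FibCat.IsFibGrpd 𝒴.p] [(Stk.restr ι 𝒴).Full]
    (h : ∀ y : ℬ ⥤ᵇ 𝒴, (Stk.restr ι (fp y j)).Full) : (Stk.restr ι 𝒳).Full where
  map_surjective {x x'} g₀ := by
    let γ₀ : (Stk.restr ι 𝒴).obj (BasedFunctor.comp x j) ⟶
        (Stk.restr ι 𝒴).obj (BasedFunctor.comp x' j) := BasedCategory.whiskerRight g₀ j
    obtain ⟨γ, hγ⟩ := (Stk.restr ι 𝒴).map_surjective γ₀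
    have hγ' : ∀ t : 𝒜.obj, γ.toNatTrans.app (ι.obj t) = j.map (g₀.toNatTrans.app t) :=
      fun t => congrArg (fun δ => δ.toNatTrans.app t) hγ
    let δ : BasedFunctor.comp x j ≅ BasedFunctor.comp x' j := isoOfHom γ
    have hδ : ∀ w : ℬ.obj, δ.inv.toNatTrans.app w ≫ γ.toNatTrans.app w = 𝟙 _ :=
      fun w => isoOfHom_inv_hom_app γ w
    let G₀ : (Stk.restr ι (fp (BasedFunctor.comp x' j) j)).obj (secOf j x δ.symm) ⟶
        (Stk.restr ι (fp (BasedFunctor.comp x' j) j)).obj (secOf j x' (Iso.refl _)) :=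
      fpNatTrans (H := BasedFunctor.comp ι (secOf j x δ.symm))
        (H' := BasedFunctor.comp ι (secOf j x' (Iso.refl _))) (𝟙 ι) g₀ (fun t => by
          show (BasedFunctor.comp x' j).map ((𝟙 ι : ι ⟶ ι).toNatTrans.app t) ≫
              ((secOf j x' (Iso.refl _)).obj (ι.obj t)).obj.iso.hom =
            ((secOf j x δ.symm).obj (ι.obj t)).obj.iso.hom ≫ j.map (g₀.toNatTrans.app t)
          rw [secOf_obj_iso_hom, secOf_obj_iso_hom, ← hγ' t]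
          have e : (BasedFunctor.comp x' j).map ((𝟙 ι : ι ⟶ ι).toNatTrans.app t) = 𝟙 _ :=
            (BasedFunctor.comp x' j).toFunctor.map_id _
          rw [e]
          exact (Category.id_comp _).trans (hδ (ι.obj t)).symm)
    haveI := h (BasedFunctor.comp x' j)
    obtain ⟨E, hE⟩ := (Stk.restr ι (fp (BasedFunctor.comp x' j) j)).map_surjective G₀
    refine ⟨BasedCategory.whiskerRight E (fpSnd (BasedFunctor.comp x' j) j), ?_⟩
    apply BasedNatTrans.homCategory.ext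
    ext t
    exact congrArg (fun δ => (δ.toNatTrans.app t).hom.snd) hE

theorem restr_isEquivalence_of_fp [FibCat.IsFibGrpd 𝒴.p] (h𝒴 : (Stk.restr ι 𝒴).IsEquivalence)
    (h : ∀ y : ℬ ⥤ᵇ 𝒴, (Stk.restr ι (fp y j)).IsEquivalence) : (Stk.restr ι 𝒳).IsEquivalence := by
  haveI := restr_essSurj_of_fp ι j (fun y => (h y).essSurj)
  haveI := restr_faithful_of_fp ι j (fun y => (h y).faithful)
  haveI := restr_full_of_fp ι j (fun y => (h y).full)
  exact { }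

end Restr

section Stack

variable {𝒳 : BasedCategory.{v₂, u₂} C} {𝒴 : BasedCategory.{v₃, u₃} C} (j : 𝒳 ⥤ᵇ 𝒴)

theorem isStackFor_of_fp [FibCat.IsFibGrpd 𝒴.p] {U : C} (R : Sieve U) (h𝒴 : Stk.IsStackFor R 𝒴)
    (h : ∀ y : FibCat.overCat U ⥤ᵇ 𝒴, Stk.IsStackFor R (fp y j)) : Stk.IsStackFor R 𝒳 :=
  restr_isEquivalence_of_fp (Stk.sieveIncl R) j h𝒴 h

/-- The stack condition is local on the target: if `𝒴` is a stack in groupoids, `𝒳` is fibred in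
groupoids and all base changes `(C/U) ×_𝒴 𝒳` are stacks, then `𝒳` is a stack. -/
theorem isStack_of_forall_fp (J : GrothendieckTopology C) (h𝒳 : FibCat.IsFibGrpd 𝒳.p)
    (h𝒴 : Stk.IsStack J 𝒴)
    (h : ∀ (U : C) (y : FibCat.overCat U ⥤ᵇ 𝒴), Stk.IsStack J (fp y j)) : Stk.IsStack J 𝒳 := by
  haveI := h𝒴.1
  exact ⟨h𝒳, fun U R hR => isStackFor_of_fp j R (h𝒴.2 R hR) (fun y => (h U y).2 R hR)⟩

end Stack

end Groth.Agent.Lib.StkLocalTarget
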