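import Mathlib
import Groth.Prelude.Def_BlowUp2
import Groth.Prelude.Def_Coh
import Groth.Agent.Lib.IdealComap
import Groth.Agent.Lib.EffCartier96
import Groth.Agent.Lib.QDomLocal68

/-!
# Recognising strict transforms (helper68)

`eq_ker_of_graph`: let `𝓔` be a finite type ideal on `X'` and `Γ : W ⟶ X'` a closed immersion such that the inverse
image of `𝓔` on `W` is effective Cartier and the complement of `V(𝓔)` factors through `Γ`.  Then the ideal of
functions locally killed by a power of `𝓔` (the ideal of the strict transform) is the ideal of `Γ`.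
-/

set_option autoImplicit false

universe u

open CategoryTheory AlgebraicGeometry TopologicalSpace Opposite Limits

namespace Groth.Agent.Lib.StrictGraph68

open Groth.Agent.Lib.QDomDom68 Groth.Agent.Lib.QDomLocal68

theorem eq_ker_of_graph {X' W : Scheme.{u}} (𝓔 : X'.IdealSheafData) (h𝓔 : BlowUp.IsFiniteTypeIdeal 𝓔)
    (Γ : W ⟶ X') [IsClosedImmersion Γ] (hcart : BlowUp.IsEffCartierIdeal (𝓔.comap Γ))
    (D₀ : X'.Opens) (hD₀ : ∀ x : X', x ∉ 𝓔.support → x ∈ D₀)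
    (ρ : (D₀ : Scheme.{u}) ⟶ W) (hρ : ρ ≫ Γ = D₀.ι)
    (𝒥 : X'.IdealSheafData)
    (h𝒥 : ∀ (A : X'.affineOpens) (a : Γ(X', A.1)), a ∈ 𝒥.ideal A ↔
      BlowUp.KilledByPowerNear 𝓔 (Coh.structureModule X') A a) :
    𝒥 = Γ.ker := by
  have hkill : ∀ (A : X'.affineOpens) (a : Γ(X', A.1)), a ∈ 𝒥.ideal A ↔
      ∃ n : ℕ, ∀ c : Γ(X', A.1), c ∈ (𝓔 ^ n).ideal A → c * a = 0 := h𝒥
  have hpow : ∀ (A : X'.affineOpens) (n : ℕ), (𝓔 ^ n).ideal A = (𝓔.ideal A) ^ n := by
    intro A n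
    rw [Scheme.IdealSheafData.ideal_pow, Pi.pow_apply]
  apply Scheme.IdealSheafData.ext
  funext A
  ext a
  rw [hkill, Scheme.Hom.ker_apply, RingHom.mem_ker]
  constructor
  · rintro ⟨n, hn⟩
    refine W.IsSheaf.section_ext fun w hw => ?_
    obtain ⟨N, hwN, hNA, t, ht, hIt⟩ :=
      Groth.Agent.Lib.EffCartier96.exists_generator_le (𝓔.comap Γ) hcart w (Γ ⁻¹ᵁ A.1) hw
    refine ⟨N.1, hNA, hwN, ?_⟩
    rw [map_zero]
    let ψ : Γ(X', A.1) →+* Γ(W, N.1) := (Γ.appLE A.1 N.1 hNA).hom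
    change ψ a = 0
    have hmap : (𝓔.comap Γ).ideal N = Ideal.map ψ (𝓔.ideal A) :=
      Groth.Agent.Lib.IdealComap.ideal_comap 𝓔 Γ A.1 A.2 N.1 N.2 hNA
    have hle : Ideal.map ψ ((𝓔.ideal A) ^ n) ≤ (Ideal.span {ψ a}).annihilator := by
      rw [Ideal.map_le_iff_le_comap]
      intro c hc
      rw [Ideal.mem_comap, Submodule.mem_annihilator_span_singleton, smul_eq_mul, ← map_mul,
        hn c (by rw [hpow]; exact hc), map_zero]
    have htn : t ^ n ∈ Ideal.map ψ ((𝓔.ideal A) ^ n) := by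
      rw [Ideal.map_pow, ← hmap, hIt, Ideal.span_singleton_pow]
      exact Ideal.mem_span_singleton_self _
    have h1 := hle htn
    rw [Submodule.mem_annihilator_span_singleton, smul_eq_mul] at h1
    exact (mul_left_mem_nonZeroDivisors_eq_zero_iff (pow_mem ht n)).mp h1
  · intro ha
    -- `a` vanishes on `A ∩ D₀`
    let E : (D₀ : Scheme.{u}).Opens := D₀.ι ⁻¹ᵁ A.1
    have hEA : D₀.ι ''ᵁ E ≤ A.1 := by
      rintro _ ⟨z, hz, rfl⟩
      exact hz
    have hzero : X'.presheaf.map (homOfLE hEA).op a = 0 := by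
      have e1 : E ≤ (ρ ≫ Γ) ⁻¹ᵁ A.1 := by
        rw [hρ]
      have h1 : (ρ ≫ Γ).appLE A.1 E e1 = D₀.ι.appLE A.1 E le_rfl := appLE_congr_hom hρ A.1 E e1
      have e2 : E ≤ ρ ⁻¹ᵁ (Γ ⁻¹ᵁ A.1) := e1
      have h2 : Γ.appLE A.1 (Γ ⁻¹ᵁ A.1) le_rfl ≫ ρ.appLE (Γ ⁻¹ᵁ A.1) E e2 =
          (ρ ≫ Γ).appLE A.1 E e1 := Scheme.Hom.appLE_comp_appLE _ _ _ _ _ _ _
      have h3 : D₀.ι.appLE A.1 E le_rfl = X'.presheaf.map (homOfLE hEA).op :=
        Scheme.Opens.ι_appLE _ _ _ _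
      have h4 : Γ.appLE A.1 (Γ ⁻¹ᵁ A.1) le_rfl = Γ.app A.1 := Scheme.Hom.appLE_eq_app _
      have hz : (D₀.ι.appLE A.1 E le_rfl).hom a = 0 := by
        rw [← h1, ← h2, h4]
        change (ρ.appLE (Γ ⁻¹ᵁ A.1) E e2).hom ((Γ.app A.1).hom a) = 0
        rw [ha, map_zero]
      rw [h3] at hz
      exact hz
    have hfg := h𝓔 A
    have hrad : 𝓔.ideal A ≤ ((Ideal.span {a}).annihilator).radical := by
      intro c hc
      have hbo : X'.basicOpen c ≤ D₀.ι ''ᵁ E := by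
        intro x hx
        have hxA : x ∈ A.1 := X'.basicOpen_le c hx
        have hxs : x ∉ 𝓔.support := by
          rw [Scheme.IdealSheafData.mem_support_iff_of_mem (I := 𝓔) (U := A) hxA,
            Scheme.mem_zeroLocus_iff]
          intro h
          exact h c hc hx
        exact ⟨⟨x, hD₀ x hxs⟩, hxA, rfl⟩
      have hres : X'.presheaf.map (homOfLE (X'.basicOpen_le c)).op a = 0 := by
        rw [← res_res hEA hbo a, hzero, map_zero]
      obtain ⟨m, hm⟩ := exists_pow_mul_eq_zero_of_res_basicOpen_eq_zero_of_isAffineOpen X' A.2 a c hres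
      refine ⟨m, ?_⟩
      rw [Submodule.mem_annihilator_span_singleton, smul_eq_mul]
      exact hm
    obtain ⟨n, hn⟩ := Ideal.exists_pow_le_of_le_radical_of_fg hrad hfg
    refine ⟨n, fun c hc => ?_⟩
    rw [hpow] at hc
    have h1 := hn hc
    rw [Submodule.mem_annihilator_span_singleton, smul_eq_mul] at h1
    exact h1

end Groth.Agent.Lib.StrictGraph68
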