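import Groth.Agent.Lib.StrictHenselTensorCore61

/-!
# `Bsh ⊗[Ash] Csh ≅ Dsh` for strict henselizations of `A → B`, `A → C`, `D = B ⊗[A] C` (helper61)

Concrete form of `StrictHenselTensorCore61.bijective_lift_of_strict` with the hypotheses used in
the statements S9466, S9467, S9471, S9473: it remains to supply that `Bsh` is integral over `Ash`
with purely inseparable residue field extension.
-/

set_option autoImplicit false
universe u

namespace Groth.Agent.Lib.StrictHenselTensorConcrete61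

open IsLocalRing TensorProduct

theorem bijective_of_isIntegral_of_isPurelyInseparable (A B C : Type u) [CommRing A] [CommRing B]
    [CommRing C] [Algebra A B] [Algebra A C]
    (pA : Ideal A) [pA.IsPrime] (pB : Ideal B) [pB.IsPrime] [pB.LiesOver pA]
    (pC : Ideal C) [pC.IsPrime] [pC.LiesOver pA]
    (pD : Ideal (B ⊗[A] C)) [pD.IsPrime] [pD.LiesOver pB]
    (hDC : pD.comap (Algebra.TensorProduct.includeRight : C →ₐ[A] B ⊗[A] C).toRingHom = pC)
    (Ash : Type u) [CommRing Ash] [IsLocalRing Ash] [Algebra A Ash]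
    (Bsh : Type u) [CommRing Bsh] [IsLocalRing Bsh] [Algebra (Localization.AtPrime pB) Bsh]
    [IsLocalHom (algebraMap (Localization.AtPrime pB) Bsh)]
    [Hensel.IsStrictHenselization (Localization.AtPrime pB) Bsh] [Algebra B Bsh]
    [IsScalarTower B (Localization.AtPrime pB) Bsh] [Algebra A Bsh] [IsScalarTower A B Bsh]
    [Algebra Ash Bsh] [IsScalarTower A Ash Bsh] [IsLocalHom (algebraMap Ash Bsh)]
    (Csh : Type u) [CommRing Csh] [IsLocalRing Csh] [Algebra (Localization.AtPrime pC) Csh]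
    [IsLocalHom (algebraMap (Localization.AtPrime pC) Csh)]
    [Hensel.IsStrictHenselization (Localization.AtPrime pC) Csh] [Algebra C Csh]
    [IsScalarTower C (Localization.AtPrime pC) Csh] [Algebra A Csh] [IsScalarTower A C Csh]
    [Algebra Ash Csh] [IsScalarTower A Ash Csh] [IsLocalHom (algebraMap Ash Csh)]
    (Dsh : Type u) [CommRing Dsh] [IsLocalRing Dsh] [Algebra (Localization.AtPrime pD) Dsh]
    [IsLocalHom (algebraMap (Localization.AtPrime pD) Dsh)]
    [Hensel.IsStrictHenselization (Localization.AtPrime pD) Dsh] [Algebra (B ⊗[A] C) Dsh]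
    [IsScalarTower (B ⊗[A] C) (Localization.AtPrime pD) Dsh]
    [Algebra Bsh Dsh] [IsLocalHom (algebraMap Bsh Dsh)] [Algebra B Dsh] [IsScalarTower B Bsh Dsh]
    [IsScalarTower B (B ⊗[A] C) Dsh]
    [Algebra Csh Dsh] [IsLocalHom (algebraMap Csh Dsh)]
    (hC : ∀ c : C, algebraMap Csh Dsh (algebraMap C Csh c) = algebraMap (B ⊗[A] C) Dsh (1 ⊗ₜ[A] c))
    [Algebra Ash Dsh] [IsScalarTower Ash Bsh Dsh] [IsScalarTower Ash Csh Dsh]
    [Algebra.IsIntegral Ash Bsh]
    [IsPurelyInseparable (ResidueField Ash) (ResidueField Bsh)] :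
    Function.Bijective (Algebra.TensorProduct.lift (IsScalarTower.toAlgHom Ash Bsh Dsh)
      (IsScalarTower.toAlgHom Ash Csh Dsh) (fun _ _ => Commute.all _ _)) := by
  set Λ := Algebra.TensorProduct.lift (IsScalarTower.toAlgHom Ash Bsh Dsh)
      (IsScalarTower.toAlgHom Ash Csh Dsh) (fun _ _ => Commute.all _ _) with hΛ
  have hΛt : ∀ b c, Λ (b ⊗ₜ[Ash] c) = algebraMap Bsh Dsh b * algebraMap Csh Dsh c := fun b c =>
    Algebra.TensorProduct.lift_tmul _ _ _ b c
  have hlocE : IsLocalRing (Bsh ⊗[Ash] Csh) :=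
    Groth.Agent.Lib.TensorPurelyInsepLocal61.isLocalRing_tensor Ash Bsh Csh
  have hΛloc : IsLocalHom Λ.toRingHom :=
    Groth.Agent.Lib.TensorPurelyInsepHensel61.isLocalHom_lift Ash Bsh Csh Dsh
      (IsScalarTower.toAlgHom Ash Bsh Dsh) (IsScalarTower.toAlgHom Ash Csh Dsh)
      (inferInstanceAs (IsLocalHom (algebraMap Bsh Dsh)))
      (inferInstanceAs (IsLocalHom (algebraMap Csh Dsh)))
  -- the map `μ : B ⊗[A] C → Bsh ⊗[Ash] Csh`
  let fB : B →ₐ[A] Bsh ⊗[Ash] Csh :=
    (Algebra.TensorProduct.includeLeft (R := Ash) (S := A) (A := Bsh) (B := Csh)).comp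
      (IsScalarTower.toAlgHom A B Bsh)
  let fC : C →ₐ[A] Bsh ⊗[Ash] Csh :=
    ((Algebra.TensorProduct.includeRight (R := Ash) (A := Bsh) (B := Csh)).restrictScalars A).comp
      (IsScalarTower.toAlgHom A C Csh)
  let μ : B ⊗[A] C →ₐ[A] Bsh ⊗[Ash] Csh :=
    Algebra.TensorProduct.lift fB fC (fun _ _ => Commute.all _ _)
  have hμt : ∀ b c, μ (b ⊗ₜ[A] c) = (algebraMap B Bsh b) ⊗ₜ[Ash] (algebraMap C Csh c) := by
    intro b c
    have : μ (b ⊗ₜ[A] c) = fB b * fC c := Algebra.TensorProduct.lift_tmul _ _ _ b c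
    rw [this]
    change ((algebraMap B Bsh b) ⊗ₜ[Ash] (1 : Csh)) * ((1 : Bsh) ⊗ₜ[Ash] (algebraMap C Csh c)) = _
    rw [Algebra.TensorProduct.tmul_mul_tmul, one_mul, mul_one]
  have hΛμ : ∀ d, Λ (μ d) = algebraMap (B ⊗[A] C) Dsh d := by
    intro d
    induction d using TensorProduct.induction_on with
    | zero => simp
    | tmul b c =>
      rw [hμt, hΛt, ← IsScalarTower.algebraMap_apply B Bsh Dsh, hC,
        IsScalarTower.algebraMap_apply B (B ⊗[A] C) Dsh, ← map_mul,
        Algebra.TensorProduct.algebraMap_apply, Algebra.TensorProduct.tmul_mul_tmul, one_mul]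
      simp
    | add x y hx hy => rw [map_add, map_add, map_add, hx, hy]
  have hunits : ∀ y : pD.primeCompl, IsUnit (μ.toRingHom (y : B ⊗[A] C)) := by
    intro y
    have h1 : IsUnit (algebraMap (B ⊗[A] C) Dsh (y : B ⊗[A] C)) := by
      rw [IsScalarTower.algebraMap_apply (B ⊗[A] C) (Localization.AtPrime pD) Dsh]
      exact (IsLocalization.map_units (Localization.AtPrime pD) y).map _
    rw [← hΛμ] at h1
    exact isUnit_of_map_unit Λ.toRingHom _ h1
  let j : Localization.AtPrime pD →+* Bsh ⊗[Ash] Csh :=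
    IsLocalization.lift (M := pD.primeCompl) (g := μ.toRingHom) hunits
  have hjd : ∀ d : B ⊗[A] C, j (algebraMap _ _ d) = μ d := fun d => IsLocalization.lift_eq _ d
  have hpB : pB = pD.comap (algebraMap B (B ⊗[A] C)) := Ideal.LiesOver.over
  let ρ₁ : Localization.AtPrime pB →+* Localization.AtPrime pD :=
    Localization.localRingHom pB pD (algebraMap B (B ⊗[A] C)) hpB
  have hρ₁ : IsLocalHom ρ₁ := Localization.isLocalHom_localRingHom pB pD _ hpB
  let ρ₂ : Localization.AtPrime pC →+* Localization.AtPrime pD :=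
    Localization.localRingHom pC pD
      (Algebra.TensorProduct.includeRight : C →ₐ[A] B ⊗[A] C).toRingHom hDC.symm
  have hρ₂ : IsLocalHom ρ₂ := Localization.isLocalHom_localRingHom pC pD _ hDC.symm
  have hj : Λ.toRingHom.comp j = algebraMap (Localization.AtPrime pD) Dsh := by
    refine IsLocalization.ringHom_ext pD.primeCompl ?_
    refine RingHom.ext fun d => ?_
    simp only [RingHom.coe_comp, Function.comp_apply]
    rw [hjd]
    change Λ (μ d) = _
    rw [hΛμ, ← IsScalarTower.algebraMap_apply (B ⊗[A] C) (Localization.AtPrime pD) Dsh]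
  have hjk₁ : j.comp ρ₁ = (Algebra.TensorProduct.includeLeft :
      Bsh →ₐ[Ash] Bsh ⊗[Ash] Csh).toRingHom.comp (algebraMap (Localization.AtPrime pB) Bsh) := by
    refine IsLocalization.ringHom_ext pB.primeCompl ?_
    ext b
    simp only [RingHom.coe_comp, Function.comp_apply]
    rw [show ρ₁ (algebraMap B (Localization.AtPrime pB) b)
        = algebraMap (B ⊗[A] C) (Localization.AtPrime pD) (algebraMap B (B ⊗[A] C) b) from
      Localization.localRingHom_to_map pB pD _ hpB b, hjd,
      ← IsScalarTower.algebraMap_apply B (Localization.AtPrime pB) Bsh,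
      Algebra.TensorProduct.algebraMap_apply, hμt, map_one]
    rfl
  have hjk₂ : j.comp ρ₂ = (Algebra.TensorProduct.includeRight :
      Csh →ₐ[Ash] Bsh ⊗[Ash] Csh).toRingHom.comp (algebraMap (Localization.AtPrime pC) Csh) := by
    refine IsLocalization.ringHom_ext pC.primeCompl ?_
    ext c
    simp only [RingHom.coe_comp, Function.comp_apply]
    rw [show ρ₂ (algebraMap C (Localization.AtPrime pC) c)
        = algebraMap (B ⊗[A] C) (Localization.AtPrime pD) ((1 : B) ⊗ₜ[A] c) from
      Localization.localRingHom_to_map pC pD _ hDC.symm c, hjd,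
      ← IsScalarTower.algebraMap_apply C (Localization.AtPrime pC) Csh, hμt, map_one]
    rfl
  exact Groth.Agent.Lib.StrictHenselTensorCore61.bijective_lift_of_strict Ash
    (Localization.AtPrime pB) Bsh (Localization.AtPrime pC) Csh (Localization.AtPrime pD) Dsh
    ρ₁ ρ₂ j hj hjk₁ hjk₂

end Groth.Agent.Lib.StrictHenselTensorConcrete61
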