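import Groth.Agent.Lib.TensorPurelyInsepHensel61
import Groth.Agent.Lib.StrictHenselizationEpi61
import Groth.Agent.Lib.HenselQFLocalization61

/-!
# `Bsh ⊗[Ash] Csh ≅ Dsh` for strict henselizations: abstract core (helper61)

* `ringHom_ext_of_strict`: two ring maps out of a strict henselization `Bsh` of `B₀` that agree
  on `B₀` (where they are local) and induce the same maps to the residue field are equal.
* `isStrictHenselization_of_epi₂`: variant of `isStrictHenselization_of_epi` with two generating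
  strict henselizations.
* `bijective_lift_of_strict`: if `Bsh` is integral over `Ash` with purely inseparable residue field
  extension, and `D₀` maps to `Bsh ⊗[Ash] Csh` compatibly, then `Bsh ⊗[Ash] Csh → Dsh` is
  bijective (Stacks 05WS-type statement).
-/

set_option autoImplicit false
universe u

namespace Groth.Agent.Lib.StrictHenselTensorCore61

open IsLocalRing TensorProduct

section Ext

variable (B₀ Bsh T : Type u) [CommRing B₀] [IsLocalRing B₀] [CommRing Bsh] [IsLocalRing Bsh]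
  [Algebra B₀ Bsh] [IsLocalHom (algebraMap B₀ Bsh)] [Hensel.IsStrictHenselization B₀ Bsh]
  [CommRing T] [HenselianLocalRing T]

/-- A ring map out of a strict henselization whose restriction to the base is local is local. -/
theorem isLocalHom_of_comp (a : Bsh →+* T) (f₀ : B₀ →+* T) [IsLocalHom f₀]
    (ha : a.comp (algebraMap B₀ Bsh) = f₀) : IsLocalHom a := by
  refine ⟨fun x hx => ?_⟩
  by_contra hx'
  have h1 : x ∈ maximalIdeal Bsh := hx'
  rw [← Groth.Agent.Lib.StrictHenselizationMax.map_maximalIdeal_eq B₀ Bsh] at h1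
  have h2 : Ideal.map (algebraMap B₀ Bsh) (maximalIdeal B₀) ≤ (maximalIdeal T).comap a := by
    rw [Ideal.map_le_iff_le_comap]
    intro r hr
    rw [Ideal.mem_comap, Ideal.mem_comap]
    have e : a (algebraMap B₀ Bsh r) = f₀ r := congrArg (fun φ : B₀ →+* T => φ r) ha
    rw [e]
    exact map_nonunit f₀ r hr
  exact (h2 h1) hx

theorem ringHom_ext_of_strict (a b : Bsh →+* T) (f₀ : B₀ →+* T) [IsLocalHom f₀]
    (ha : a.comp (algebraMap B₀ Bsh) = f₀) (hb : b.comp (algebraMap B₀ Bsh) = f₀)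
    (hres : ∀ x, residue T (a x) = residue T (b x)) : a = b := by
  have haloc : IsLocalHom a := isLocalHom_of_comp B₀ Bsh T a f₀ ha
  let τ₀ : ResidueField Bsh →+* ResidueField T := ResidueField.map a
  have hτ₀ : τ₀.comp (ResidueField.map (algebraMap B₀ Bsh)) = ResidueField.map f₀ := by
    ext c
    obtain ⟨r, rfl⟩ := residue_surjective c
    rw [RingHom.comp_apply, ResidueField.map_residue, ResidueField.map_residue,
      ResidueField.map_residue]
    exact congrArg (residue T) (congrArg (fun φ : B₀ →+* T => φ r) ha)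
  obtain ⟨g₀, -, hg₀⟩ :=
    Hensel.IsStrictHenselization.universal (R := B₀) (S := Bsh) T f₀ τ₀ hτ₀
  rw [hg₀ a ⟨ha, fun x => rfl⟩, hg₀ b ⟨hb, fun x => (hres x).symm⟩]

end Ext

section Epi2

variable (B₀ Bsh C₀ Csh D₀ Dsh L : Type u)
  [CommRing B₀] [IsLocalRing B₀] [CommRing Bsh] [IsLocalRing Bsh]
  [Algebra B₀ Bsh] [IsLocalHom (algebraMap B₀ Bsh)] [Hensel.IsStrictHenselization B₀ Bsh]
  [CommRing C₀] [IsLocalRing C₀] [CommRing Csh] [IsLocalRing Csh]
  [Algebra C₀ Csh] [IsLocalHom (algebraMap C₀ Csh)] [Hensel.IsStrictHenselization C₀ Csh]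
  [CommRing D₀] [IsLocalRing D₀] [CommRing Dsh] [IsLocalRing Dsh]
  [Algebra D₀ Dsh] [IsLocalHom (algebraMap D₀ Dsh)] [Hensel.IsStrictHenselization D₀ Dsh]
  [CommRing L] [IsLocalRing L] [Algebra L Dsh] [IsLocalHom (algebraMap L Dsh)]

/-- See the module docstring. -/
theorem isStrictHenselization_of_epi₂
    (ρ₁ : B₀ →+* D₀) [IsLocalHom ρ₁] (ρ₂ : C₀ →+* D₀) [IsLocalHom ρ₂]
    (j : D₀ →+* L) (k₁ : Bsh →+* L) (k₂ : Csh →+* L)
    (hj : (algebraMap L Dsh).comp j = algebraMap D₀ Dsh)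
    (hjk₁ : j.comp ρ₁ = k₁.comp (algebraMap B₀ Bsh))
    (hjk₂ : j.comp ρ₂ = k₂.comp (algebraMap C₀ Csh))
    (hepi : ∀ (T : Type u) [CommRing T] (u v : L →+* T),
      u.comp k₁ = v.comp k₁ → u.comp k₂ = v.comp k₂ → u = v) :
    Hensel.IsStrictHenselization L Dsh := by
  have hjx : ∀ x : D₀, algebraMap L Dsh (j x) = algebraMap D₀ Dsh x :=
    fun x => congrArg (fun φ : D₀ →+* Dsh => φ x) hj
  have hjloc : IsLocalHom j := by
    refine ⟨fun x hx => ?_⟩
    have h1 : IsUnit (algebraMap L Dsh (j x)) := hx.map _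
    rw [hjx] at h1
    exact isUnit_of_map_unit (algebraMap D₀ Dsh) x h1
  have hsc : IsSepClosure (ResidueField D₀) (ResidueField Dsh) :=
    Hensel.IsStrictHenselization.isSepClosure
  refine ⟨Hensel.IsStrictHenselization.henselian (R := D₀), ?_, ?_⟩
  · let _ : Algebra D₀ L := j.toAlgebra
    have htower : IsScalarTower D₀ L Dsh :=
      IsScalarTower.of_algebraMap_eq fun x => (hjx x).symm
    have hjloc' : IsLocalHom (algebraMap D₀ L) := hjloc
    have hsep : Algebra.IsSeparable (ResidueField D₀) (ResidueField Dsh) := hsc.separable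
    have hsc' : IsSepClosed (ResidueField Dsh) := hsc.sep_closed
    exact ⟨hsc', Algebra.isSeparable_tower_top_of_isSeparable (ResidueField D₀) (ResidueField L)
      (ResidueField Dsh)⟩
  · intro T _ _ f hf τ hτ
    have hτx : ∀ y : L, τ (residue Dsh (algebraMap L Dsh y)) = residue T (f y) := fun y =>
      congrArg (fun φ : ResidueField L →+* ResidueField T => φ (residue L y)) hτ
    have hfj : IsLocalHom (f.comp j) := RingHom.isLocalHom_comp f j
    have hτ₁ : τ.comp (ResidueField.map (algebraMap D₀ Dsh)) = ResidueField.map (f.comp j) := by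
      ext c
      obtain ⟨x, rfl⟩ := residue_surjective c
      rw [RingHom.comp_apply, ResidueField.map_residue, ResidueField.map_residue, ← hjx, hτx]
      rfl
    obtain ⟨g, ⟨hg, hgres⟩, hguniq⟩ :=
      Hensel.IsStrictHenselization.universal (R := D₀) (S := Dsh) T (f.comp j) τ hτ₁
    have e0 : (g.comp (algebraMap L Dsh)).comp j = f.comp j := by
      rw [RingHom.comp_assoc, hj, hg]
    refine ⟨g, ⟨?_, hgres⟩, ?_⟩
    · apply hepi T
      · have hloc : IsLocalHom ((f.comp j).comp ρ₁) := RingHom.isLocalHom_comp (f.comp j) ρ₁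
        refine ringHom_ext_of_strict B₀ Bsh T _ _ ((f.comp j).comp ρ₁) ?_ ?_ ?_
        · rw [RingHom.comp_assoc, ← hjk₁, ← RingHom.comp_assoc, e0]
        · rw [RingHom.comp_assoc, ← hjk₁, RingHom.comp_assoc]
        · intro x
          change residue T (g (algebraMap L Dsh (k₁ x))) = residue T (f (k₁ x))
          rw [hgres, hτx]
      · have hloc : IsLocalHom ((f.comp j).comp ρ₂) := RingHom.isLocalHom_comp (f.comp j) ρ₂
        refine ringHom_ext_of_strict C₀ Csh T _ _ ((f.comp j).comp ρ₂) ?_ ?_ ?_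
        · rw [RingHom.comp_assoc, ← hjk₂, ← RingHom.comp_assoc, e0]
        · rw [RingHom.comp_assoc, ← hjk₂, RingHom.comp_assoc]
        · intro x
          change residue T (g (algebraMap L Dsh (k₂ x))) = residue T (f (k₂ x))
          rw [hgres, hτx]
    · rintro g' ⟨hg', hg'res⟩
      apply hguniq
      refine ⟨?_, hg'res⟩
      rw [← hj, ← RingHom.comp_assoc, hg']

end Epi2

section Core

variable (Ash B₀ Bsh C₀ Csh D₀ Dsh : Type u)
  [CommRing Ash] [IsLocalRing Ash]
  [CommRing B₀] [IsLocalRing B₀] [CommRing Bsh] [IsLocalRing Bsh]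
  [Algebra B₀ Bsh] [IsLocalHom (algebraMap B₀ Bsh)] [Hensel.IsStrictHenselization B₀ Bsh]
  [CommRing C₀] [IsLocalRing C₀] [CommRing Csh] [IsLocalRing Csh]
  [Algebra C₀ Csh] [IsLocalHom (algebraMap C₀ Csh)] [Hensel.IsStrictHenselization C₀ Csh]
  [CommRing D₀] [IsLocalRing D₀] [CommRing Dsh] [IsLocalRing Dsh]
  [Algebra D₀ Dsh] [IsLocalHom (algebraMap D₀ Dsh)] [Hensel.IsStrictHenselization D₀ Dsh]
  [Algebra Ash Bsh] [IsLocalHom (algebraMap Ash Bsh)] [Algebra.IsIntegral Ash Bsh]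
  [IsPurelyInseparable (ResidueField Ash) (ResidueField Bsh)]
  [Algebra Ash Csh] [IsLocalHom (algebraMap Ash Csh)]
  [Algebra Bsh Dsh] [IsLocalHom (algebraMap Bsh Dsh)]
  [Algebra Csh Dsh] [IsLocalHom (algebraMap Csh Dsh)]
  [Algebra Ash Dsh] [IsScalarTower Ash Bsh Dsh] [IsScalarTower Ash Csh Dsh]

/-- See the module docstring. -/
theorem bijective_lift_of_strict
    (ρ₁ : B₀ →+* D₀) [IsLocalHom ρ₁] (ρ₂ : C₀ →+* D₀) [IsLocalHom ρ₂]
    (j : D₀ →+* Bsh ⊗[Ash] Csh)
    (hj : ((Algebra.TensorProduct.lift (IsScalarTower.toAlgHom Ash Bsh Dsh)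
      (IsScalarTower.toAlgHom Ash Csh Dsh) (fun _ _ => Commute.all _ _)).toRingHom).comp j
        = algebraMap D₀ Dsh)
    (hjk₁ : j.comp ρ₁ = (Algebra.TensorProduct.includeLeft :
      Bsh →ₐ[Ash] Bsh ⊗[Ash] Csh).toRingHom.comp (algebraMap B₀ Bsh))
    (hjk₂ : j.comp ρ₂ = (Algebra.TensorProduct.includeRight :
      Csh →ₐ[Ash] Bsh ⊗[Ash] Csh).toRingHom.comp (algebraMap C₀ Csh)) :
    Function.Bijective (Algebra.TensorProduct.lift (IsScalarTower.toAlgHom Ash Bsh Dsh)
      (IsScalarTower.toAlgHom Ash Csh Dsh) (fun _ _ => Commute.all _ _)) := by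
  set Λ := Algebra.TensorProduct.lift (IsScalarTower.toAlgHom Ash Bsh Dsh)
      (IsScalarTower.toAlgHom Ash Csh Dsh) (fun _ _ => Commute.all _ _) with hΛ
  have hlocE : IsLocalRing (Bsh ⊗[Ash] Csh) :=
    Groth.Agent.Lib.TensorPurelyInsepLocal61.isLocalRing_tensor Ash Bsh Csh
  have hΛloc : IsLocalHom Λ.toRingHom :=
    Groth.Agent.Lib.TensorPurelyInsepHensel61.isLocalHom_lift Ash Bsh Csh Dsh
      (IsScalarTower.toAlgHom Ash Bsh Dsh) (IsScalarTower.toAlgHom Ash Csh Dsh)
      (inferInstanceAs (IsLocalHom (algebraMap Bsh Dsh)))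
      (inferInstanceAs (IsLocalHom (algebraMap Csh Dsh)))
  let _ : Algebra (Bsh ⊗[Ash] Csh) Dsh := Λ.toRingHom.toAlgebra
  have hΛloc' : IsLocalHom (algebraMap (Bsh ⊗[Ash] Csh) Dsh) := hΛloc
  have hepi : ∀ (T : Type u) [CommRing T] (u v : Bsh ⊗[Ash] Csh →+* T),
      u.comp (Algebra.TensorProduct.includeLeft : Bsh →ₐ[Ash] Bsh ⊗[Ash] Csh).toRingHom
        = v.comp (Algebra.TensorProduct.includeLeft : Bsh →ₐ[Ash] Bsh ⊗[Ash] Csh).toRingHom →
      u.comp (Algebra.TensorProduct.includeRight : Csh →ₐ[Ash] Bsh ⊗[Ash] Csh).toRingHom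
        = v.comp (Algebra.TensorProduct.includeRight : Csh →ₐ[Ash] Bsh ⊗[Ash] Csh).toRingHom →
      u = v := by
    intro T _ u v h1 h2
    refine RingHom.ext fun x => ?_
    induction x using TensorProduct.induction_on with
    | zero => simp
    | tmul b c =>
      have e : (b ⊗ₜ[Ash] c : Bsh ⊗[Ash] Csh) = (b ⊗ₜ[Ash] (1 : Csh)) * ((1 : Bsh) ⊗ₜ[Ash] c) := by
        rw [Algebra.TensorProduct.tmul_mul_tmul, one_mul, mul_one]
      have e1 : u (b ⊗ₜ[Ash] (1 : Csh)) = v (b ⊗ₜ[Ash] (1 : Csh)) :=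
        congrArg (fun φ : Bsh →+* T => φ b) h1
      have e2 : u ((1 : Bsh) ⊗ₜ[Ash] c) = v ((1 : Bsh) ⊗ₜ[Ash] c) :=
        congrArg (fun φ : Csh →+* T => φ c) h2
      rw [e, map_mul, map_mul, e1, e2]
    | add x y hx hy => rw [map_add, map_add, hx, hy]
  have hStrict : Hensel.IsStrictHenselization (Bsh ⊗[Ash] Csh) Dsh :=
    isStrictHenselization_of_epi₂ B₀ Bsh C₀ Csh D₀ Dsh (Bsh ⊗[Ash] Csh) ρ₁ ρ₂ j _ _ hj hjk₁ hjk₂
      hepi
  have hCh : HenselianLocalRing Csh := Hensel.IsStrictHenselization.henselian (R := C₀)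
  have hCsc : IsSepClosed (ResidueField Csh) :=
    (Hensel.IsStrictHenselization.isSepClosure (R := C₀) (S := Csh)).sep_closed
  have hEh : HenselianLocalRing (Bsh ⊗[Ash] Csh) :=
    Groth.Agent.Lib.TensorPurelyInsepHensel61.henselianLocalRing_tensor Ash Bsh Csh
  have hEsc : IsSepClosed (ResidueField (Bsh ⊗[Ash] Csh)) :=
    Groth.Agent.Lib.TensorPurelyInsepHensel61.isSepClosed_residueField_tensor Ash Bsh Csh
  have hself : Hensel.IsStrictHenselization (Bsh ⊗[Ash] Csh) (Bsh ⊗[Ash] Csh) :=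
    Groth.Agent.Lib.HenselQFLocalization61.isStrictHenselization_self _
  obtain ⟨e⟩ := Groth.Agent.Lib.StrictHenselizationEpi61.exists_algEquiv_of_isStrictHenselization
    (Bsh ⊗[Ash] Csh) (Bsh ⊗[Ash] Csh) Dsh
  have he : ∀ x, e x = Λ x := fun x => e.commutes x
  have : (Λ : Bsh ⊗[Ash] Csh → Dsh) = e := by
    funext x; exact (he x).symm
  rw [this]
  exact e.bijective

end Core

end Groth.Agent.Lib.StrictHenselTensorCore61
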