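import Groth.Agent.Lib.StrictHensel
import Mathlib.RingTheory.Nakayama
import Mathlib.RingTheory.Ideal.GoingUp

set_option autoImplicit false
universe u

namespace Groth.Agent.Lib.StrictHenselUnram

open IsLocalRing

/-- A finite local unramified algebra over a local ring with separably closed residue field is a
quotient of the base. -/
theorem surjective_of_local_finite_unramified {R A : Type*} [CommRing R] [IsLocalRing R]
    [IsSepClosed (ResidueField R)] [CommRing A] [IsLocalRing A] [Algebra R A] [Module.Finite R A]
    [Algebra.FormallyUnramified R A] : Function.Surjective (algebraMap R A) := by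
  have hint : Algebra.IsIntegral R A := Algebra.IsIntegral.of_finite R A
  have hmax : (Ideal.comap (algebraMap R A) (maximalIdeal A)).IsMaximal :=
    Ideal.isMaximal_comap_of_isIntegral_of_isMaximal (maximalIdeal A)
  have hLO : (maximalIdeal A).LiesOver (maximalIdeal R) :=
    ⟨(IsLocalRing.eq_maximalIdeal hmax).symm⟩
  have hloc : IsLocalHom (algebraMap R A) :=
    ((local_hom_TFAE (algebraMap R A)).out 0 4 rfl rfl).mpr (IsLocalRing.eq_maximalIdeal hmax)
  have hmap : (maximalIdeal R).map (algebraMap R A) = maximalIdeal A :=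
    Algebra.FormallyUnramified.map_maximalIdeal
  have htop : (⊤ : Submodule R A) ≤ LinearMap.range (Algebra.linearMap R A) := by
    apply Submodule.le_of_le_smul_of_le_jacobson_bot (I := maximalIdeal R) Module.Finite.fg_top
      (IsLocalRing.maximalIdeal_le_jacobson _)
    intro z _
    obtain ⟨r, hr⟩ := Groth.Agent.Lib.StrictHensel.exists_sub_mem_of_isSepClosed (R := R)
      (maximalIdeal A) z
    have : z = algebraMap R A r + (z - algebraMap R A r) := by ring
    rw [this]
    apply Submodule.add_mem_sup
    · exact ⟨r, rfl⟩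
    · rw [Ideal.smul_top_eq_map, hmap]
      exact hr
  intro z
  obtain ⟨r, hr⟩ := htop (Submodule.mem_top (x := z))
  exact ⟨r, hr⟩

/-- Decomposition of an algebra along an idempotent. -/
noncomputable def prodEquivOfIdem (R : Type*) {S : Type*} [CommRing R] [CommRing S] [Algebra R S]
    (e : S) (he : IsIdempotentElem e) :
    S ≃ₐ[R] (S ⧸ Ideal.span ({1 - e} : Set S)) × (S ⧸ Ideal.span ({e} : Set S)) :=
  AlgEquiv.ofBijective
    (AlgHom.prod (Ideal.Quotient.mkₐ R _) (Ideal.Quotient.mkₐ R _)) (by
    constructor
    · rw [injective_iff_map_eq_zero]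
      intro s hs
      have h1 : Ideal.Quotient.mk (Ideal.span ({1 - e} : Set S)) s = 0 := congr(Prod.fst $hs)
      have h2 : Ideal.Quotient.mk (Ideal.span ({e} : Set S)) s = 0 := congr(Prod.snd $hs)
      rw [Ideal.Quotient.eq_zero_iff_mem, Ideal.mem_span_singleton'] at h1 h2
      obtain ⟨a, ha⟩ := h1
      obtain ⟨b, hb⟩ := h2
      have h3 : s * e = 0 := by
        rw [← ha, mul_assoc, sub_mul, one_mul, he.eq, sub_self, mul_zero]
      have h4 : s * (1 - e) = 0 := by
        rw [← hb, mul_assoc, mul_sub, mul_one, he.eq, sub_self, mul_zero]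
      calc s = s * e + s * (1 - e) := by ring
        _ = 0 := by rw [h3, h4, add_zero]
    · rintro ⟨a, b⟩
      obtain ⟨a, rfl⟩ := Ideal.Quotient.mk_surjective a
      obtain ⟨b, rfl⟩ := Ideal.Quotient.mk_surjective b
      refine ⟨a * e + b * (1 - e), ?_⟩
      apply Prod.ext
      · change Ideal.Quotient.mk _ (a * e + b * (1 - e)) = Ideal.Quotient.mk _ a
        rw [Ideal.Quotient.eq, Ideal.mem_span_singleton']
        exact ⟨b - a, by ring⟩
      · change Ideal.Quotient.mk _ (a * e + b * (1 - e)) = Ideal.Quotient.mk _ b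
        rw [Ideal.Quotient.eq, Ideal.mem_span_singleton']
        exact ⟨a - b, by ring⟩)

end Groth.Agent.Lib.StrictHenselUnram
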