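import Groth.Prelude.Def_BlowUp2
import Groth.Agent.Lib.IdealComap
import Groth.Agent.Lib.RelCartier

/-!
# Tools for strict transforms

* `not_mem_basicOpen_of_mul_ideal_eq_zero`: a section killing an effective Cartier ideal vanishes
  everywhere.
* `ideal_ne_bot_of_isEffCartier`.
* `appLE_comp_subschemeι_eq_zero`: a morphism factoring through `V(𝓘)` kills `𝓘`.
-/

set_option autoImplicit false
universe u
open CategoryTheory AlgebraicGeometry TopologicalSpace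

namespace Groth.Agent.Lib.StrictTransform

/-- A section killing the ideal of an effective Cartier divisor on an affine open is nowhere
invertible. -/
theorem not_mem_basicOpen_of_mul_ideal_eq_zero {Y : Scheme.{u}} (𝓚 : Y.IdealSheafData)
    (h𝓚 : BlowUp.IsEffCartierIdeal 𝓚) (W : Y.affineOpens) (c : Γ(Y, W.1))
    (hc : ∀ a ∈ 𝓚.ideal W, c * a = 0) (y : Y) (hyW : y ∈ W.1) : y ∉ Y.basicOpen c := by
  intro hyc
  obtain ⟨W₀, hy₀, g, hg, hK⟩ := h𝓚 y
  obtain ⟨_, ⟨W₁, hW₁, rfl⟩, hyW₁, hW₁sub⟩ :=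
    Y.isBasis_affineOpens.exists_subset_of_mem_open
      (show y ∈ ((W.1 ⊓ W₀.1 : Y.Opens) : Set Y) from ⟨hyW, hy₀⟩) (W.1 ⊓ W₀.1).2
  have h1 : (⟨W₁, hW₁⟩ : Y.affineOpens) ≤ W := fun z hz => (hW₁sub hz).1
  have h2 : (⟨W₁, hW₁⟩ : Y.affineOpens) ≤ W₀ := fun z hz => (hW₁sub hz).2
  obtain ⟨hg₁, hK₁⟩ := Groth.Agent.Lib.RelCartier.cartier_restrict 𝓚 h2 g hg hK
  set g₁ : Γ(Y, W₁) := (Y.presheaf.map (homOfLE h2).op).hom g with hg₁def
  have hmem : g₁ ∈ Ideal.map (Y.presheaf.map (homOfLE h1).op).hom (𝓚.ideal W) := by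
    rw [𝓚.map_ideal h1, hK₁]
    exact Ideal.mem_span_singleton_self _
  -- `res c` kills the extended ideal
  have hkill : ∀ z ∈ Ideal.map (Y.presheaf.map (homOfLE h1).op).hom (𝓚.ideal W),
      (Y.presheaf.map (homOfLE h1).op).hom c * z = 0 := by
    intro z hz
    refine Submodule.span_induction ?_ ?_ ?_ ?_ hz
    · rintro _ ⟨a, ha, rfl⟩
      rw [← map_mul, hc a ha, map_zero]
    · simp
    · intro u v _ _ hu hv
      rw [mul_add, hu, hv, add_zero]
    · intro r u _ hu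
      rw [smul_eq_mul, mul_left_comm, hu, mul_zero]
  have hres : (Y.presheaf.map (homOfLE h1).op).hom c = 0 := by
    have := hkill g₁ hmem
    exact (mem_nonZeroDivisors_iff_right.mp hg₁) _ this
  have hy' : y ∈ Y.basicOpen ((Y.presheaf.map (homOfLE h1).op).hom c) := by
    rw [Scheme.basicOpen_res]
    exact ⟨hyW₁, hyc⟩
  rw [hres, Scheme.basicOpen_zero] at hy'
  exact hy'

/-- The ideal of an effective Cartier divisor on a nonempty affine open is nonzero. -/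
theorem ideal_ne_bot_of_isEffCartier {Y : Scheme.{u}} (𝓚 : Y.IdealSheafData)
    (h𝓚 : BlowUp.IsEffCartierIdeal 𝓚) (W : Y.affineOpens) (y : Y) (hyW : y ∈ W.1) :
    𝓚.ideal W ≠ ⊥ := by
  intro hbot
  refine not_mem_basicOpen_of_mul_ideal_eq_zero 𝓚 h𝓚 W 1 ?_ y hyW ?_
  · intro a ha
    rw [hbot] at ha
    rw [(Submodule.mem_bot _).mp ha, mul_zero]
  · rw [Scheme.basicOpen_of_isUnit _ isUnit_one]
    exact hyW

/-- Sections of `𝓘` pull back to zero along a morphism factoring through `V(𝓘)`. -/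
theorem appLE_comp_subschemeι_eq_zero {X T : Scheme.{u}} (𝓘 : X.IdealSheafData)
    (g : T ⟶ 𝓘.subscheme) (V : X.affineOpens) (W : T.Opens)
    (e : W ≤ (g ≫ 𝓘.subschemeι) ⁻¹ᵁ V.1) (s : Γ(X, V.1)) (hs : s ∈ 𝓘.ideal V) :
    ((g ≫ 𝓘.subschemeι).appLE V.1 W e).hom s = 0 := by
  have e' : W ≤ g ⁻¹ᵁ (𝓘.subschemeι ⁻¹ᵁ V.1) := e
  have h := Scheme.Hom.appLE_comp_appLE g 𝓘.subschemeι V.1 (𝓘.subschemeι ⁻¹ᵁ V.1) W le_rfl e'
  rw [← h, Scheme.Hom.appLE_eq_app, CommRingCat.comp_apply]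
  have h0 : (𝓘.subschemeι.app V.1).hom s = 0 := by
    rw [← RingHom.mem_ker, Scheme.IdealSheafData.ker_subschemeι_app]
    exact hs
  rw [h0, map_zero]

end Groth.Agent.Lib.StrictTransform
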