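import Groth.Agent.Lib.ModPairClosure68
import Groth.Agent.Lib.ModPairProd68
import Groth.Agent.Lib.EffCartier96
import Groth.Agent.Lib.BlowUpGlue68
import Groth.Prelude.Def_BlowUp2

/-!
# Strict transforms of closed subschemes under blow-ups (helper68)

* `isAffineHom_interior_ι`: the inclusion of the complement of an effective Cartier divisor is affine.
-/

set_option autoImplicit false
universe u
open CategoryTheory CategoryTheory.Limits AlgebraicGeometry TopologicalSpace

namespace Groth.Agent.Lib.StrictTransform68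

/-- The inclusion of the complement of an effective Cartier divisor is an affine morphism. -/
theorem isAffineHom_interior_ι {X : Scheme.{u}} (I : X.IdealSheafData)
    (hI : BlowUp.IsEffCartierIdeal I) : IsAffineHom (ModPair.interior I).ι := by
  apply isAffineHom_of_forall_exists_isAffineOpen
  intro x
  obtain ⟨W, hxW, a, ha, hIa⟩ := hI x
  refine ⟨W.1, hxW, W.2, ?_⟩
  apply (ModPair.interior I).ι.isAffineOpen_iff_of_isOpenImmersion.mp
  rw [Scheme.Hom.image_preimage_eq_opensRange_inf, Scheme.Opens.opensRange_ι,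
    Groth.Agent.Lib.EffCartier68.interior_inf_eq_basicOpen I W a hIa]
  exact W.2.basicOpen a

/-- **Existence of the strict transform.**  For a closed immersion `f : Y ⟶ X` and a blow-up
`b : X' ⟶ X` of `𝓘`, there is a closed subscheme `k : Y'' ⟶ X'` with a map `b'' : Y'' ⟶ Y` over `b`
that is a blow-up of `Y` in the inverse image ideal `𝓘.comap f`.  (`Y''` is the scheme-theoretic
closure of `b⁻¹(Y ∖ V(𝓘))` in `X'`.) -/
theorem exists_strictTransform {X Y X' : Scheme.{u}} (𝓘 : X.IdealSheafData) (f : Y ⟶ X)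
    [IsClosedImmersion f] (b : X' ⟶ X) (hb : BlowUp.IsBlowUp b 𝓘) :
    ∃ (Y'' : Scheme.{u}) (k : Y'' ⟶ X') (b'' : Y'' ⟶ Y), IsClosedImmersion k ∧
      k ≫ b = b'' ≫ f ∧ BlowUp.IsBlowUp b'' (𝓘.comap f) := by
  have hE : BlowUp.IsEffCartierIdeal (𝓘.comap b) := hb.1
  let Uo := ModPair.interior (𝓘.comap b)
  let g : pullback (Uo.ι ≫ b) f ⟶ Uo := pullback.fst _ _
  let v : pullback (Uo.ι ≫ b) f ⟶ Y := pullback.snd _ _
  let h : pullback (Uo.ι ≫ b) f ⟶ X' := g ≫ Uo.ι
  obtain ⟨hqc, hopen, hcart, -, -⟩ :=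
    Groth.Agent.Lib.ModPairClosure68.closure_props (𝓘.comap b) hE g h rfl
  have hdom : IsSchemeTheoreticallyDominant h.toImage :=
    ⟨Groth.Agent.Lib.ModPairClosure68.ker_toImage_eq_bot h⟩
  -- Step 1: the map to `Y`
  have hker : f.ker ≤ (h.imageι ≫ b).ker :=
    Groth.Agent.Lib.ModPairProd68.le_ker_of_dominant f (h.imageι ≫ b) h.toImage v (by
      rw [← Category.assoc, h.toImage_imageι]
      simp only [h, g, v, Category.assoc]
      exact pullback.condition)
  let b'' : h.image ⟶ Y := IsClosedImmersion.lift f (h.imageι ≫ b) hker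
  have hfac : b'' ≫ f = h.imageι ≫ b := IsClosedImmersion.lift_fac _ _ _
  have hmonof : Mono f := inferInstance
  have hmonok : Mono h.imageι := inferInstance
  refine ⟨h.image, h.imageι, b'', inferInstance, hfac.symm, ?_, ?_⟩
  · rw [← Scheme.IdealSheafData.comap_comp, hfac, Scheme.IdealSheafData.comap_comp]
    exact hcart
  · intro T t hT
    rw [← Scheme.IdealSheafData.comap_comp] at hT
    obtain ⟨m, hm, hmuniq⟩ := hb.2 T (t ≫ f) hT
    -- the interior of `T`
    let To := ModPair.interior (𝓘.comap (t ≫ f))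
    have hTdom : IsSchemeTheoreticallyDominant To.ι :=
      Groth.Agent.Lib.EffCartier96.isSchemeTheoreticallyDominant_interior_ι _ hT
    have hrange : Set.range (To.ι ≫ m).base ⊆ Set.range Uo.ι.base := by
      rintro _ ⟨z, rfl⟩
      rw [Scheme.Opens.range_ι]
      intro hz
      apply z.2
      have h1 : 𝓘.comap (t ≫ f) = (𝓘.comap b).comap m := by
        rw [← Scheme.IdealSheafData.comap_comp, hm]
      rw [h1, Scheme.IdealSheafData.support_comap]
      exact hz
    let k₁ : (To : Scheme.{u}) ⟶ Uo := IsOpenImmersion.lift Uo.ι (To.ι ≫ m) hrange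
    have hk₁ : k₁ ≫ Uo.ι = To.ι ≫ m := IsOpenImmersion.lift_fac _ _ _
    let k₂ : (To : Scheme.{u}) ⟶ pullback (Uo.ι ≫ b) f :=
      pullback.lift k₁ (To.ι ≫ t) (by rw [reassoc_of% hk₁, hm, Category.assoc])
    have hk₂g : k₂ ≫ g = k₁ := pullback.lift_fst _ _ _
    have hle : h.imageι.ker ≤ m.ker :=
      Groth.Agent.Lib.ModPairProd68.le_ker_of_dominant h.imageι m To.ι (k₂ ≫ h.toImage) (by
        rw [Category.assoc, h.toImage_imageι]
        simp only [h]
        rw [reassoc_of% hk₂g, hk₁])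
    let n : T ⟶ h.image := IsClosedImmersion.lift h.imageι m hle
    have hn : n ≫ h.imageι = m := IsClosedImmersion.lift_fac _ _ _
    refine ⟨n, ?_, ?_⟩
    · change n ≫ b'' = t
      rw [← cancel_mono f, Category.assoc, hfac, reassoc_of% hn, hm]
    · intro n' hn'
      change n' ≫ b'' = t at hn'
      rw [← cancel_mono h.imageι, hn]
      apply hmuniq
      rw [Category.assoc, ← hfac, reassoc_of% hn']

/-- The map between blow-ups induced by a closed immersion is a closed immersion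
(the strict transform). No finiteness hypotheses. -/
theorem isClosedImmersion_of_isBlowUp {X Y X' Y' : Scheme.{u}} (𝓘 : X.IdealSheafData) (f : Y ⟶ X)
    [IsClosedImmersion f] (b : X' ⟶ X) (hb : BlowUp.IsBlowUp b 𝓘) (b' : Y' ⟶ Y)
    (hb' : BlowUp.IsBlowUp b' (𝓘.comap f)) (f' : Y' ⟶ X') (hf' : f' ≫ b = b' ≫ f) :
    IsClosedImmersion f' := by
  obtain ⟨Y'', k, b'', hk, hkb, hb''⟩ := exists_strictTransform 𝓘 f b hb
  obtain ⟨e, he⟩ := Groth.Agent.Lib.BlowUpGlue68.exists_iso_of_isBlowUp (𝓘.comap f) b' b'' hb' hb''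
  have hcart : BlowUp.IsEffCartierIdeal (𝓘.comap (b' ≫ f)) := by
    rw [Scheme.IdealSheafData.comap_comp]
    exact hb'.1
  obtain ⟨m, -, hmuniq⟩ := hb.2 Y' (b' ≫ f) hcart
  have h1 : f' = m := hmuniq f' hf'
  have h2 : e.hom ≫ k = m := hmuniq _ (by
    change (e.hom ≫ k) ≫ b = b' ≫ f
    rw [Category.assoc, hkb, reassoc_of% he])
  rw [h1, ← h2]
  infer_instance

/-- The complement of the exceptional divisor in the strict transform: affine over `X'` and
scheme-theoretically dense in the strict transform. -/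
theorem strictTransform_interior {X Y X' Y' : Scheme.{u}} (𝓘 : X.IdealSheafData) (f : Y ⟶ X)
    [IsClosedImmersion f] (b : X' ⟶ X) (hb : BlowUp.IsBlowUp b 𝓘) (b' : Y' ⟶ Y)
    (hb' : BlowUp.IsBlowUp b' (𝓘.comap f)) (f' : Y' ⟶ X') (hf' : f' ≫ b = b' ≫ f) :
    IsAffineHom ((f' ⁻¹ᵁ (b ⁻¹ᵁ 𝓘.support.compl)).ι ≫ f') ∧
      ((f' ⁻¹ᵁ (b ⁻¹ᵁ 𝓘.support.compl)).ι ≫ f').ker = f'.ker := by
  have hci : IsClosedImmersion f' := isClosedImmersion_of_isBlowUp 𝓘 f b hb b' hb' f' hf'
  have hcart : BlowUp.IsEffCartierIdeal (𝓘.comap (f' ≫ b)) := by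
    rw [hf', Scheme.IdealSheafData.comap_comp]
    exact hb'.1
  have hW : f' ⁻¹ᵁ (b ⁻¹ᵁ 𝓘.support.compl) = ModPair.interior (𝓘.comap (f' ≫ b)) := by
    ext z
    simp only [ModPair.interior, Scheme.IdealSheafData.support_comap]
    rfl
  rw [hW]
  have haff : IsAffineHom (ModPair.interior (𝓘.comap (f' ≫ b))).ι :=
    isAffineHom_interior_ι _ hcart
  have hdom : IsSchemeTheoreticallyDominant (ModPair.interior (𝓘.comap (f' ≫ b))).ι :=
    Groth.Agent.Lib.EffCartier96.isSchemeTheoreticallyDominant_interior_ι _ hcart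
  refine ⟨inferInstance, ?_⟩
  rw [Scheme.Hom.ker_comp, IsSchemeTheoreticallyDominant.ker_eq_bot,
    Scheme.IdealSheafData.map_bot]

end Groth.Agent.Lib.StrictTransform68
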