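import Groth.Agent.Lib.StrictTransform82

/-!
# Strict transforms, part B (helper82)

* `exists_numerators_of_free`: if `M_g` is free of rank `k` there are `k` elements of `M` whose images
  span `M_g` and which satisfy no relation up to `g`-power torsion of the coefficients.
* `exists_unit_smul_killed_of_germ_eq_zero`: local description of the kernel of a strict transform
  map: a section of `P` over an affine `U` whose image in `G` has vanishing germ at `y` is, after
  multiplication by a function invertible at `y`, killed by a power of the generator `t` of the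
  exceptional ideal on `U`.
-/

set_option autoImplicit false
set_option linter.style.haveILetI false

universe u

namespace Groth.Agent.Lib.StrictTransform82

open CategoryTheory AlgebraicGeometry TopologicalSpace Opposite
open Groth.Agent.Lib.QCohStalk

section Algebra

variable {R : Type*} [CommRing R] {M : Type*} [AddCommGroup M] [Module R M]

theorem exists_numerators_of_free (g : R) (k : ℕ) [Nontrivial (Localization.Away g)]
    [Module.Finite R M]
    (hfree : Module.Free (Localization.Away g) (LocalizedModule (Submonoid.powers g) M))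
    (hrank : Module.finrank (Localization.Away g) (LocalizedModule (Submonoid.powers g) M) = k) :
    ∃ x : Fin k → M,
      Submodule.span (Localization.Away g) (Set.range fun i =>
        LocalizedModule.mkLinearMap (Submonoid.powers g) M (x i)) = ⊤ ∧
      ∀ a : Fin k → R, ∑ i, a i • x i = 0 → ∀ i, ∃ e : ℕ, g ^ e * a i = 0 := by
  classical
  have γ : Module.Basis (Fin k) (Localization.Away g) (LocalizedModule (Submonoid.powers g) M) :=
    Module.finBasisOfFinrankEq _ _ hrank
  have hrep : ∀ i, ∃ (m : M) (s : Submonoid.powers g), γ i = LocalizedModule.mk m s := by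
    intro i
    induction γ i using LocalizedModule.induction_on with
    | h m s => exact ⟨m, s, rfl⟩
  choose x s hxs using hrep
  have hunit : ∀ i, IsUnit (algebraMap R (Localization.Away g) (s i)) :=
    fun i => IsLocalization.map_units (Localization.Away g) (s i)
  have hmk : ∀ i, LocalizedModule.mkLinearMap (Submonoid.powers g) M (x i) =
      (hunit i).unit • γ i := by
    intro i
    have hcancel : LocalizedModule.mk ((s i : R) • x i) (s i) =
        (LocalizedModule.mk (x i) 1 : LocalizedModule (Submonoid.powers g) M) :=
      LocalizedModule.mk_cancel (s i) (x i)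
    rw [Units.smul_def, IsUnit.unit_spec, algebraMap_smul, hxs i,
      LocalizedModule.mkLinearMap_apply, LocalizedModule.smul'_mk, hcancel]
  have hli : LinearIndependent (Localization.Away g) (fun i =>
      LocalizedModule.mkLinearMap (Submonoid.powers g) M (x i)) := by
    have := γ.linearIndependent.units_smul (fun i => (hunit i).unit)
    convert this using 1
    funext i
    exact hmk i
  refine ⟨x, ?_, ?_⟩
  · rw [eq_top_iff, ← γ.span_eq, Submodule.span_le]
    rintro _ ⟨i, rfl⟩
    have : γ i = ((hunit i).unit⁻¹ : (Localization.Away g)ˣ) •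
        LocalizedModule.mkLinearMap (Submonoid.powers g) M (x i) := by
      rw [hmk i, smul_smul, inv_mul_cancel, one_smul]
    rw [this]
    exact Submodule.smul_mem _ _ (Submodule.subset_span ⟨i, rfl⟩)
  · intro a ha i
    have h1 : ∑ i, algebraMap R (Localization.Away g) (a i) •
        LocalizedModule.mkLinearMap (Submonoid.powers g) M (x i) = 0 := by
      have := congrArg (LocalizedModule.mkLinearMap (Submonoid.powers g) M) ha
      rw [map_sum, map_zero] at this
      rw [← this]
      apply Finset.sum_congr rfl
      intro i _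
      rw [algebraMap_smul, map_smul]
    have h2 := (Fintype.linearIndependent_iff.mp hli) _ h1 i
    rw [IsLocalization.map_eq_zero_iff (Submonoid.powers g)] at h2
    obtain ⟨⟨_, e, rfl⟩, he⟩ := h2
    exact ⟨e, he⟩

end Algebra

section Scheme

variable {X : Scheme.{u}}

theorem exists_unit_smul_killed_of_germ_eq_zero (𝓔 : X.IdealSheafData) {P G : X.Modules}
    [P.IsQuasicoherent] (π : P ⟶ G)
    (hker : ∀ (V : X.affineOpens) (m : P.presheaf.obj (op V.1)),
      π.app V.1 m = 0 ↔ BlowUp.KilledByPowerNear 𝓔 P V m)
    (U : X.affineOpens) (t : Γ(X, U.1)) (ht : 𝓔.ideal U = Ideal.span {t})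
    (y : X) (hy : y ∈ U.1) (m : Γ(P, U.1))
    (hm : G.presheaf.germ U.1 y hy (π.app U.1 m) = 0) :
    ∃ u : Γ(X, U.1), IsUnit (X.presheaf.germ U.1 y hy u) ∧ ∃ e : ℕ, t ^ e • (u • m) = 0 := by
  have hU : IsAffineOpen U.1 := U.2
  have h0 : G.presheaf.germ U.1 y hy (π.app U.1 m) = G.presheaf.germ U.1 y hy 0 := by
    rw [hm, map_zero]
  obtain ⟨V, hyV, iU, iV, hV⟩ := TopCat.Presheaf.germ_eq G.presheaf y hy hy _ _ h0
  obtain ⟨h', hh'V, hyh'⟩ := hU.exists_basicOpen_le ⟨y, hyV⟩ hy
  -- restriction to `D(h')`
  have hres : res G (X.basicOpen_le h') (π.app U.1 m) = 0 := by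
    have h2 : res G iU.le (π.app U.1 m) = 0 := by
      change G.presheaf.map (homOfLE iU.le).op _ = 0
      rw [show (homOfLE iU.le) = iU from rfl, hV, map_zero]
    have h3 := res_res G hh'V iU.le (π.app U.1 m)
    rw [h2, res_zero] at h3
    exact h3.symm
  have hnat : π.app (X.basicOpen h') (res P (X.basicOpen_le h') m) =
      res G (X.basicOpen_le h') (π.app U.1 m) :=
    congr($(π.mapPresheaf.naturality (homOfLE (X.basicOpen_le h')).op) m)
  rw [hres] at hnat
  have hk := (hker (X.affineBasicOpen h') (res P (X.basicOpen_le h') m)).mp hnat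
  have hideal : 𝓔.ideal (X.affineBasicOpen h') =
      Ideal.span {resO X (X.basicOpen_le h') t} := by
    rw [← 𝓔.map_ideal_basicOpen U h', ht, Ideal.map_span, Set.image_singleton]
  rw [killedByPowerNear_iff 𝓔 P (X.affineBasicOpen h') _ hideal] at hk
  obtain ⟨e, he⟩ := hk
  have he' : res P (X.basicOpen_le h') (t ^ e • m) = 0 := by
    rw [res_smul, resO_pow]
    exact he
  obtain ⟨n, hn⟩ := exists_pow_smul_eq_zero P hU h' (t ^ e • m) he'
  refine ⟨h' ^ n, ?_, e, ?_⟩
  · rw [map_pow]
    exact ((X.mem_basicOpen _ _ hy).mp hyh').pow n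
  · rw [smul_comm]
    exact hn

end Scheme

end Groth.Agent.Lib.StrictTransform82
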