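import Groth.Agent.Lib.StrictTransform82B
import Groth.Agent.Lib.Fitting82S
import Groth.Agent.Lib.Fitting82M
import Groth.Agent.Lib.Fitting82G
import Groth.Agent.Lib.H72PullbackQCoh
import Groth.Agent.Lib.SupportTensor
import Groth.Agent.S8872

/-!
# Strict transforms, part C (helper82)

* `isFinLocFreeOfRank_strictTransform_of_basis`: the statement of S8912 with the local freeness
  hypothesis on the complement of `V(Fit_k F)` replaced by the (weaker, stalkwise) hypothesis that
  all stalks `F_z`, `z ∉ V(Fit_k F)`, have a basis indexed by `Fin k`.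
-/

set_option autoImplicit false
universe u
open CategoryTheory CategoryTheory.Limits AlgebraicGeometry TopologicalSpace

namespace Groth.Agent.Lib.StrictTransform82

open Groth.Agent.Lib.ModStalk Groth.Agent.Lib.ModStalkLin Groth.Agent.Lib.FreeModSch
  Groth.Agent.Lib.FreeModStalk Groth.Agent.Lib.LocFreeRank Groth.Agent.Lib.RestrictStalk
  Groth.Agent.Lib.ModStalkIso Groth.Agent.Lib.QCohStalk Groth.Agent.Lib.Fitting82

set_option maxHeartbeats 1000000 in
theorem isFinLocFreeOfRank_strictTransform_of_basis (S : Scheme.{u}) (F : S.Modules)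
    (hF : Coh.IsQCoh F) (hft : CohB1.IsFT F) (k : ℕ)
    (hbasis : ∀ z : S, z ∉ (Fitt.sheafIdeal F k).support →
      Nonempty (Module.Basis (Fin k) (S.presheaf.stalk z) (F.presheaf.stalk z)))
    {S' : Scheme.{u}} (b : S' ⟶ S) (hb : BlowUp.IsBlowUp b (Fitt.sheafIdeal F k)) (G : S'.Modules)
    (π : (Scheme.Modules.pullback b).obj F ⟶ G)
    (hG : BlowUp.IsStrictTransform b (Fitt.sheafIdeal F k) F G π) :
    FlatMod.IsFinLocFreeOfRank k G := by
  classical
  haveI : F.IsQuasicoherent := hF
  haveI : F.IsFiniteType := hft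
  haveI : ((Scheme.Modules.pullback b).obj F).IsQuasicoherent :=
    Groth.Agent.Lib.H72PullbackQCoh.isQuasicoherent_pullback b F
  haveI : ((Scheme.Modules.pullback b).obj F).IsFiniteType :=
    Groth.Agent.Lib.SupportTensor.isFiniteType_pullback b F
  have hcomap : (Fitt.sheafIdeal F k).comap b =
      Fitt.sheafIdeal ((Scheme.Modules.pullback b).obj F) k :=
    Groth.Agent.S8872.result b F hF hft k
  haveI : Epi π := hG.1
  intro s'
  obtain ⟨U', hs'U', t, ht0, ht⟩ := hb.1 s'
  have hU' : IsAffineOpen U'.1 := U'.2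
  haveI : Module.Finite Γ(S', U'.1) Γ((Scheme.Modules.pullback b).obj F, U'.1) :=
    Groth.Agent.Lib.CohFinite.finite_sections_of_isAffineOpen _ hU'
  have hfit : Fitt.ideal Γ(S', U'.1) Γ((Scheme.Modules.pullback b).obj F, U'.1) k =
      Ideal.span {t} := by
    rw [← sheafIdeal_ideal ((Scheme.Modules.pullback b).obj F) k U', ← hcomap, ht]
  set π' := appLinear π U'.1 with hπ'
  set T := LinearMap.ker π' with hT
  have hTmem : ∀ m, m ∈ T ↔ ∃ e : ℕ, t ^ e • m = 0 := by
    intro m
    rw [hT, LinearMap.mem_ker, hπ', appLinear_apply, hG.2 U' m,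
      killedByPowerNear_iff _ _ U' t ht]
  have hkerle : LinearMap.ker (t • (LinearMap.id : Γ((Scheme.Modules.pullback b).obj F, U'.1)
      →ₗ[Γ(S', U'.1)] Γ((Scheme.Modules.pullback b).obj F, U'.1))) ≤ T := by
    intro m hm
    rw [LinearMap.mem_ker, LinearMap.smul_apply, LinearMap.id_apply] at hm
    exact (hTmem m).mpr ⟨1, by rw [pow_one]; exact hm⟩
  -- low Fitting ideals of the sections of the pullback vanish
  have hbotN : ∀ j, j < k →
      Fitt.ideal Γ(S', U'.1) Γ((Scheme.Modules.pullback b).obj F, U'.1) j = ⊥ := by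
    intro j hj
    apply ideal_sections_eq_bot_of_stalks _ hU' t ht0 j
    intro y hy
    have hyU' : y ∈ U'.1 := S'.basicOpen_le t hy
    have h1 : y ∉ ((Fitt.sheafIdeal F k).comap b).support := by
      rw [Groth.Agent.Lib.IdealSheafGeneric.mem_support_iff_le_primeIdealOf _ U' hU' y hyU', ht,
        Ideal.span_le, Set.singleton_subset_iff]
      exact (mem_basicOpen_iff_notMem_primeIdealOf hU' ⟨y, hyU'⟩ t).mp hy
    rw [Scheme.IdealSheafData.support_comap] at h1
    have h2 : b y ∉ (Fitt.sheafIdeal F k).support := h1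
    obtain ⟨bF⟩ := hbasis (b y) h2
    obtain ⟨bP⟩ := basis_stalk_pullback b F y bF
    exact ideal_eq_bot_of_basis bP j hj
  have hbot : ∀ j, j < k → Fitt.ideal Γ(S', U'.1)
      (Γ((Scheme.Modules.pullback b).obj F, U'.1) ⧸ T) j = ⊥ := fun j hj =>
    ideal_quotient_eq_bot_of_torsion j t ht0 T (fun m hm => (hTmem m).mp hm) (hbotN j hj)
  have htop : ∀ j, k ≤ j → Fitt.ideal Γ(S', U'.1)
      (Γ((Scheme.Modules.pullback b).obj F, U'.1) ⧸ T) j = ⊤ := by
    intro j hj
    rw [eq_top_iff, ← ideal_quotient_eq_top_of_ker_smul_le k t hfit T hkerle]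
    exact ideal_mono_index hj
  -- local freeness of the quotient at the prime of `s'`
  set p := (hU'.primeIdealOf ⟨s', hs'U'⟩).asIdeal with hp
  obtain ⟨g, hgp, hgfree, hgrank⟩ :=
    (locallyFree_rank_iff (M := Γ((Scheme.Modules.pullback b).obj F, U'.1) ⧸ T) k).2
      ⟨hbot, htop⟩ p
  haveI : Nontrivial (Localization.Away g) := nontrivial_away_of_notMem p g hgp
  obtain ⟨x, hx, hxli⟩ := exists_numerators_of_free g k hgfree hgrank
  choose n hn using fun i => Submodule.Quotient.mk_surjective T (x i)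
  let τ : Fin k → Γ(G, U'.1) := fun i => π' (n i)
  let W : S'.Opens := S'.basicOpen g
  have hWU' : W ≤ U'.1 := S'.basicOpen_le g
  have hs'W : s' ∈ W := (mem_basicOpen_iff_notMem_primeIdealOf hU' ⟨s', hs'U'⟩ g).mpr hgp
  refine ⟨W, hs'W, ?_⟩
  -- a linear combination of the `n i` maps to the same combination of the `x i`
  have hmkQ : ∀ a : Fin k → Γ(S', U'.1), T.mkQ (∑ i, a i • n i) = ∑ i, a i • x i := by
    intro a
    rw [map_sum]
    apply Finset.sum_congr rfl
    intro i _
    rw [map_smul, Submodule.mkQ_apply, hn i]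
  apply nonempty_iso_freeMod_of_forall_basis G hWU' τ
  · -- linear independence
    rintro ⟨yv, hyW⟩
    obtain ⟨y', rfl⟩ : ∃ y' : U'.1, (y' : S') = yv := ⟨⟨yv, hWU' hyW⟩, rfl⟩
    have hyU' : (y' : S') ∈ U'.1 := y'.2
    have hgunit : IsUnit (S'.presheaf.germ U'.1 (y' : S') hyU' g) :=
      (S'.mem_basicOpen g (y' : S') hyU').mp hyW
    rw [Fintype.linearIndependent_iff]
    intro c hc i
    -- common denominator
    haveI := hU'.isLocalization_stalk y'
    obtain ⟨d, hd⟩ := IsLocalization.exist_integer_multiples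
      (hU'.primeIdealOf y').asIdeal.primeCompl (Finset.univ : Finset (Fin k)) c
    choose a ha using fun i => hd i (Finset.mem_univ i)
    have hdunit : IsUnit (S'.presheaf.germ U'.1 (y' : S') hyU' (d : Γ(S', U'.1))) :=
      IsLocalization.map_units (S'.presheaf.stalk (y' : S')) d
    have ha' : ∀ i, S'.presheaf.germ U'.1 (y' : S') hyU' (a i) =
        S'.presheaf.germ U'.1 (y' : S') hyU' (d : Γ(S', U'.1)) * c i := by
      intro i
      have := ha i
      rw [Algebra.smul_def] at this
      exact this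
    -- the germ of `π' (∑ a i • n i)` vanishes
    have hgermzero : G.presheaf.germ U'.1 (y' : S') hyU' (π.app U'.1 (∑ i, a i • n i)) = 0 := by
      change G.presheaf.germ U'.1 (y' : S') hyU' (π' (∑ i, a i • n i)) = 0
      rw [map_sum, map_sum]
      have h1 : ∀ i, G.presheaf.germ U'.1 (y' : S') hyU' (π' (a i • n i)) =
          S'.presheaf.germ U'.1 (y' : S') hyU' (d : Γ(S', U'.1)) •
            (c i • G.presheaf.germ U'.1 (y' : S') hyU' (τ i)) := by
        intro i
        rw [map_smul, germ_smul, ha' i, mul_smul]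
      rw [Finset.sum_congr rfl fun i _ => h1 i, ← Finset.smul_sum, hc, smul_zero]
    obtain ⟨u, hu, e, he⟩ := exists_unit_smul_killed_of_germ_eq_zero
      ((Fitt.sheafIdeal F k).comap b) π hG.2 U' t ht (y' : S') hyU' (∑ i, a i • n i) hgermzero
    have hmemT : u • ∑ i, a i • n i ∈ T := (hTmem _).mpr ⟨e, he⟩
    have hrel : ∑ i, (u * a i) • x i = 0 := by
      have h2 : T.mkQ (u • ∑ i, a i • n i) = 0 := by
        rw [Submodule.mkQ_apply, Submodule.Quotient.mk_eq_zero]
        exact hmemT
      rw [map_smul, hmkQ a, Finset.smul_sum] at h2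
      rw [← h2]
      apply Finset.sum_congr rfl
      intro i _
      rw [mul_smul]
    obtain ⟨e', he'⟩ := hxli _ hrel i
    -- pass to germs
    have h3 := congrArg (S'.presheaf.germ U'.1 (y' : S') hyU') he'
    rw [map_mul, map_mul, map_pow, map_zero, ha' i] at h3
    have h4 : IsUnit (S'.presheaf.germ U'.1 (y' : S') hyU' g ^ e' *
        (S'.presheaf.germ U'.1 (y' : S') hyU' u *
          S'.presheaf.germ U'.1 (y' : S') hyU' (d : Γ(S', U'.1)))) :=
      (hgunit.pow e').mul (hu.mul hdunit)
    rw [← mul_assoc, ← mul_assoc, mul_assoc (_ ^ e')] at h3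
    exact (h4.mul_right_eq_zero).mp h3
  · -- spanning
    rintro ⟨yv, hyW⟩
    have hyU' : yv ∈ U'.1 := hWU' hyW
    have hgunit : IsUnit (S'.presheaf.germ U'.1 yv hyU' g) :=
      (S'.mem_basicOpen g yv hyU').mp hyW
    rw [eq_top_iff]
    rintro ζ -
    obtain ⟨ξ, rfl⟩ := stalkLin_surjective_of_epi π yv ζ
    obtain ⟨h, m, hh, hhm⟩ := exists_germ_smul_eq_germ _ hU' yv hyU' ξ
    obtain ⟨e, he⟩ := exists_pow_smul_mem_span_of_localized g x hx (T.mkQ m)
    obtain ⟨a, ha⟩ := (Submodule.mem_span_range_iff_exists_fun _).mp he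
    have hmem : g ^ e • m - ∑ i, a i • n i ∈ T := by
      rw [← Submodule.Quotient.mk_eq_zero, ← Submodule.mkQ_apply, map_sub, hmkQ a, map_smul,
        sub_eq_zero, ← ha]
    rw [hT, LinearMap.mem_ker, map_sub, map_smul, map_sum, sub_eq_zero] at hmem
    have hgerm : S'.presheaf.germ U'.1 yv hyU' g ^ e • G.presheaf.germ U'.1 yv hyU' (π' m) =
        ∑ i, S'.presheaf.germ U'.1 yv hyU' (a i) • G.presheaf.germ U'.1 yv hyU' (τ i) := by
      rw [← map_pow, ← germ_smul, hmem, map_sum]
      apply Finset.sum_congr rfl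
      intro i _
      rw [map_smul, germ_smul]
    have h1 : G.presheaf.germ U'.1 yv hyU' (π' m) ∈ Submodule.span (S'.presheaf.stalk yv)
        (Set.range fun i => G.presheaf.germ U'.1 yv hyU' (τ i)) := by
      obtain ⟨w, hw⟩ := hgunit.pow e
      have : G.presheaf.germ U'.1 yv hyU' (π' m) =
          (↑(w⁻¹) : S'.presheaf.stalk yv) •
            ((w : S'.presheaf.stalk yv) • G.presheaf.germ U'.1 yv hyU' (π' m)) := by
        rw [smul_smul, Units.inv_mul, one_smul]
      rw [this, hw, hgerm]
      apply Submodule.smul_mem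
      apply Submodule.sum_mem
      intro i _
      exact Submodule.smul_mem _ _ (Submodule.subset_span ⟨i, rfl⟩)
    obtain ⟨v, hv⟩ := hh
    have h2 : stalkLin π yv ξ = (↑(v⁻¹) : S'.presheaf.stalk yv) •
        G.presheaf.germ U'.1 yv hyU' (π' m) := by
      have h3 : stalkLin π yv (S'.presheaf.germ U'.1 yv hyU' h • ξ) =
          G.presheaf.germ U'.1 yv hyU' (π' m) := by
        rw [hhm, stalkLin_germ]
        rfl
      rw [map_smul, ← hv] at h3
      rw [← h3, smul_smul, Units.inv_mul, one_smul]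
    rw [h2]
    exact Submodule.smul_mem _ _ h1

end Groth.Agent.Lib.StrictTransform82
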