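import Groth.Agent.Lib.StrongRigid34B
import Groth.Agent.Lib.H69RedInduced

/-!
# Strong rigidity, part C (helper34): translates of components of fibres on abelian varieties

* `eq_const_of_forall_apply_eq`: a morphism from a reduced scheme whose image is one rational point
  is constant;
* `transl X a` (left translation by a rational point), `comp_transl`;
* `forall_apply_transl_eq`: if `f : X → Y` (`X` abelian variety over `k`, `Y` separated) is constant
  on a closed connected `Z ∋ z₀` (rational), then `f` is constant on every translate `a · Z`;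
* `image_transl_connectedComponentIn_subset`.
-/

set_option autoImplicit false
universe u
open CategoryTheory CategoryTheory.Limits MonoidalCategory CartesianMonoidalCategory MonObj AlgebraicGeometry

namespace Groth.Agent.Lib.StrongRigid34C

open Groth.Agent.Lib.StrongRigid34B Groth.Agent.Lib.H69RedInduced

variable {k : Type u} [Field k]

local notation "S" => Spec (CommRingCat.of k)

/-- a morphism from a reduced scheme to a `k`-scheme whose image is a single rational point is
the constant morphism -/
theorem eq_const_of_forall_apply_eq {T Y : Scheme.{u}} [IsReduced T] (g : T ⟶ Y) (q : Y ⟶ S)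
    (e : S ⟶ Y) (he : e ≫ q = 𝟙 _) (hg : ∀ t, g t = e (IsLocalRing.closedPoint k)) :
    g = (g ≫ q) ≫ e := by
  have hcl : IsClosedImmersion e := isClosedImmersion_of_comp_eq_id q e he
  let W : TopologicalSpace.Closeds Y := ⟨Set.range e, e.isClosedEmbedding.isClosed_range⟩
  have hle : e.ker ≤ g.ker := by
    refine le_trans ?_ (Groth.Agent.Lib.IntegralSection.vanishingIdeal_le_ker g W ?_)
    · rw [← Scheme.IdealSheafData.le_support_iff_le_vanishingIdeal]
      show (W : Set Y) ⊆ e.ker.support
      rw [Scheme.Hom.support_ker]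
      exact subset_closure
    · rintro _ ⟨t, rfl⟩
      exact ⟨IsLocalRing.closedPoint k, (hg t).symm⟩
  obtain ⟨l, h1⟩ : ∃ l : T ⟶ S, l ≫ e = g :=
    ⟨IsClosedImmersion.lift e g hle, IsClosedImmersion.lift_fac e g hle⟩
  have h2 : g ≫ q = l := by
    rw [← h1, Category.assoc, he, Category.comp_id]
  rw [h2, h1]


/-- translation by a rational point `a` of a group scheme over `k`: `z ↦ a · z` -/
noncomputable abbrev transl (X : Over S) [GrpObj X] (a : 𝟙_ (Over S) ⟶ X) : X ⟶ X :=
  lift (toUnit X ≫ a) (𝟙 X) ≫ μ[X]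

lemma transl_eq (X : Over S) [GrpObj X] (a : 𝟙_ (Over S) ⟶ X) :
    transl X a = (toUnit X ≫ a) * 𝟙 X := rfl

lemma comp_transl (X : Over S) [GrpObj X] (a : 𝟙_ (Over S) ⟶ X) {A : Over S} (z : A ⟶ X) :
    z ≫ transl X a = (toUnit A ≫ a) * z := by
  rw [transl_eq, MonObj.comp_mul, Category.comp_id, ← Category.assoc, comp_toUnit]

/-- **Key lemma**: if `f` is constant on a closed connected subset `Z` of an abelian variety
containing a rational point `z₀`, then `f` is constant on every translate of `Z` by a rational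
point. -/
theorem forall_apply_transl_eq (X : Over S) [GrpObj X] [IsProper X.hom]
    [GeometricallyIntegral X.hom] {Y : Scheme.{u}} (q : Y ⟶ S) [IsSeparated q] (f : X.left ⟶ Y)
    (hf : f ≫ q = X.hom) (Z : Set X.left) (hZc : IsClosed Z) (hZp : _root_.IsPreconnected Z)
    (z₀ : 𝟙_ (Over S) ⟶ X) (hz₀ : z₀.left (IsLocalRing.closedPoint k) ∈ Z)
    (hfZ : ∀ z ∈ Z, f z = f (z₀.left (IsLocalRing.closedPoint k)))
    (a : 𝟙_ (Over S) ⟶ X) (z : X.left) (hz : z ∈ Z) :
    f ((transl X a).left z) = f ((transl X a).left (z₀.left (IsLocalRing.closedPoint k))) := by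
  let pt : S := IsLocalRing.closedPoint k
  let Wc : TopologicalSpace.Closeds X.left := ⟨Z, hZc⟩
  let ιV : redSub Wc ⟶ X.left := redSubι Wc
  have hrange : Set.range ιV = Z := range_redSubι Wc
  let V : Over S := Over.mk (ιV ≫ X.hom)
  let i : V ⟶ X := Over.homMk ιV rfl
  have : IsProper V.hom := by
    show IsProper (ιV ≫ X.hom)
    infer_instance
  have : IsReduced V.left := inferInstanceAs (IsReduced (redSub Wc))
  -- the rational point of `V`
  obtain ⟨l, hl⟩ := exists_lift_redSub (T := S) z₀.left Wc (by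
    rintro _ ⟨t, rfl⟩
    rw [Subsingleton.elim (α := S) t pt]
    exact hz₀)
  let v₀ : 𝟙_ (Over S) ⟶ V := Over.homMk l (by
    show l ≫ ιV ≫ X.hom = 𝟙 _
    rw [← Category.assoc, hl]
    exact Over.w z₀)
  have hv₀i : v₀ ≫ i = z₀ := Over.OverMorphism.ext hl
  have : ConnectedSpace V.left := by
    have h1 : _root_.IsPreconnected (Set.univ : Set V.left) := by
      rw [← ιV.isClosedEmbedding.toIsInducing.isPreconnected_image, Set.image_univ, hrange]
      exact hZp
    exact { toPreconnectedSpace := ⟨h1⟩, toNonempty := ⟨l pt⟩ }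
  let Y' : Over S := Over.mk q
  let f' : X ⟶ Y' := Over.homMk f hf
  have : IsSeparated Y'.hom := ‹IsSeparated q›
  let φ : V ⊗ X ⟶ Y' := (snd V X * (fst V X ≫ i)) ≫ f'
  -- `φ` is constant on `V × {e}`
  have hconst : i ≫ f' = toUnit V ≫ z₀ ≫ f' := by
    apply Over.OverMorphism.ext
    show ιV ≫ f = (ιV ≫ X.hom) ≫ z₀.left ≫ f
    have he : (z₀.left ≫ f) ≫ q = 𝟙 _ := by
      rw [Category.assoc, hf]
      exact Over.w z₀
    have := eq_const_of_forall_apply_eq (ιV ≫ f) q (z₀.left ≫ f) he (by
      intro t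
      rw [Scheme.Hom.comp_apply, Scheme.Hom.comp_apply]
      exact hfZ _ (hrange ▸ ⟨t, rfl⟩))
    rw [Category.assoc ιV f q, hf] at this
    exact this
  have h : lift (𝟙 V) (toUnit V ≫ η[X]) ≫ φ = toUnit V ≫ z₀ ≫ f' := by
    rw [← hconst]
    show lift (𝟙 V) (toUnit V ≫ η[X]) ≫ (snd V X * (fst V X ≫ i)) ≫ f' = i ≫ f'
    rw [← Category.assoc, MonObj.comp_mul, lift_snd, lift_fst_assoc, Category.id_comp]
    congr 1
    exact one_mul i
  have R := strong_rigidity V X Y' φ v₀ η[X] (z₀ ≫ f') h
  -- evaluate at `a`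
  have E1 : lift (𝟙 V) (toUnit V ≫ a) ≫ φ = i ≫ transl X a ≫ f' := by
    show lift (𝟙 V) (toUnit V ≫ a) ≫ (snd V X * (fst V X ≫ i)) ≫ f' = i ≫ transl X a ≫ f'
    rw [← Category.assoc, MonObj.comp_mul, lift_snd, lift_fst_assoc, Category.id_comp,
      ← Category.assoc i, comp_transl]
  have E2 : lift (𝟙 V) (toUnit V ≫ a) ≫ snd V X ≫ lift (toUnit X ≫ v₀) (𝟙 X) ≫ φ =
      toUnit V ≫ z₀ ≫ transl X a ≫ f' := by
    show lift (𝟙 V) (toUnit V ≫ a) ≫ snd V X ≫ lift (toUnit X ≫ v₀) (𝟙 X) ≫
      (snd V X * (fst V X ≫ i)) ≫ f' = toUnit V ≫ z₀ ≫ transl X a ≫ f'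
    rw [lift_snd_assoc, ← Category.assoc z₀, comp_transl]
    have e1 : toUnit (𝟙_ (Over S)) = 𝟙 _ := toUnit_unique _ _
    rw [e1, Category.id_comp]
    simp only [Category.assoc]
    congr 1
    rw [← Category.assoc, ← Category.assoc, MonObj.comp_mul]
    congr 1
    rw [Category.assoc, lift_snd, Category.comp_id, Category.assoc, lift_fst_assoc]
    simp only [Category.assoc]
    rw [← Category.assoc a (toUnit X), toUnit_unique (a ≫ toUnit X) (𝟙 _), Category.id_comp, hv₀i]
  obtain ⟨v, rfl⟩ : ∃ v : V.left, ιV v = z := by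
    have : z ∈ Set.range ιV := hrange ▸ hz
    exact this
  have key : (i ≫ transl X a ≫ f').left v = (toUnit V ≫ z₀ ≫ transl X a ≫ f').left v := by
    rw [← E1, ← E2, ← R]
  simp only [Over.comp_left, Scheme.Hom.comp_apply] at key
  have hpt : (toUnit V).left v = pt := Subsingleton.elim (α := S) _ _
  rw [hpt] at key
  exact key


lemma isClosed_connectedComponentIn {α : Type*} [TopologicalSpace α] {F : Set α} (hF : IsClosed F)
    (x : α) : IsClosed (connectedComponentIn F x) := by
  by_cases hx : x ∈ F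
  · rw [connectedComponentIn_eq_image hx]
    exact hF.isClosedMap_subtype_val _ isClosed_connectedComponent
  · rw [connectedComponentIn_eq_empty hx]
    exact isClosed_empty

/-- translation by `a` maps the connected component of the fibre of `f` through a rational point
`z₀` into the connected component of the fibre through `a · z₀`. -/
theorem image_transl_connectedComponentIn_subset (X : Over S) [GrpObj X] [IsProper X.hom]
    [GeometricallyIntegral X.hom] {Y : Scheme.{u}} (q : Y ⟶ S) [IsSeparated q] (f : X.left ⟶ Y)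
    (hf : f ≫ q = X.hom) (z₀ a : 𝟙_ (Over S) ⟶ X) :
    (transl X a).left ''
        connectedComponentIn (f ⁻¹' {f (z₀.left (IsLocalRing.closedPoint k))})
          (z₀.left (IsLocalRing.closedPoint k)) ⊆
      connectedComponentIn (f ⁻¹' {f ((z₀ ≫ transl X a).left (IsLocalRing.closedPoint k))})
        ((z₀ ≫ transl X a).left (IsLocalRing.closedPoint k)) := by
  let pt : S := IsLocalRing.closedPoint k
  set F : Set X.left := f ⁻¹' {f (z₀.left pt)} with hFdef
  set Z : Set X.left := connectedComponentIn F (z₀.left pt) with hZdef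
  have hz₀F : z₀.left pt ∈ F := rfl
  -- the fibre is closed
  have he : (z₀.left ≫ f) ≫ q = 𝟙 _ := by
    rw [Category.assoc, hf]
    exact Over.w z₀
  have hcl : IsClosedImmersion (z₀.left ≫ f) := isClosedImmersion_of_comp_eq_id q _ he
  have hpt : IsClosed ({f (z₀.left pt)} : Set Y) := by
    have h1 : Set.range (z₀.left ≫ f) = {f (z₀.left pt)} := by
      ext y
      constructor
      · rintro ⟨t, rfl⟩
        rw [Subsingleton.elim (α := S) t pt]
        rfl
      · rintro rfl
        exact ⟨pt, rfl⟩
    rw [← h1]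
    exact (z₀.left ≫ f).isClosedEmbedding.isClosed_range
  have hFc : IsClosed F := hpt.preimage f.continuous
  have hZc : IsClosed Z := isClosed_connectedComponentIn hFc _
  have hZp : _root_.IsPreconnected Z := isPreconnected_connectedComponentIn
  have hz₀Z : z₀.left pt ∈ Z := mem_connectedComponentIn hz₀F
  have hfZ : ∀ z ∈ Z, f z = f (z₀.left pt) := fun z hz => connectedComponentIn_subset F _ hz
  have key := forall_apply_transl_eq X q f hf Z hZc hZp z₀ hz₀Z hfZ a
  have hpt' : (z₀ ≫ transl X a).left pt = (transl X a).left (z₀.left pt) := by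
    rw [Over.comp_left, Scheme.Hom.comp_apply]
  rw [hpt']
  refine IsPreconnected.subset_connectedComponentIn ?_ ⟨_, hz₀Z, rfl⟩ ?_
  · exact hZp.image _ (transl X a).left.continuous.continuousOn
  · rintro _ ⟨z, hz, rfl⟩
    exact key z hz

end Groth.Agent.Lib.StrongRigid34C
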