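import Groth.Agent.Lib.Reynolds38
import Groth.Agent.Lib.GITQuot38
import Mathlib.RingTheory.Etale.Basic
import Mathlib.RingTheory.RingHom.Etale
import Mathlib.RingTheory.TensorProduct.Quotient
import Mathlib.RingTheory.Ideal.Over

/-!
# Strongly étale morphisms restrict to closed invariant subschemes (helper38)

For a linearly reductive group: invariants of quotients by stable ideals are quotients of invariants; a strongly étale
equivariant map `S → R` (`R = S ⊗_{S^G} R^G`, `R^G` étale over `S^G`) stays strongly étale modulo a stable ideal `J`.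
-/

set_option autoImplicit false
set_option linter.unusedSectionVars false
universe u v w
open TensorProduct

noncomputable section

namespace Groth.Agent.Lib.StronglyEtale38
open Groth.Agent.Lib.Reynolds38

section Generic

/-- Two injective ring maps with the same range have isomorphic sources. -/
theorem exists_ringEquiv_of_range_eq {X Y Z : Type*} [CommRing X] [CommRing Y] [CommRing Z]
    (f : X →+* Z) (g : Y →+* Z) (hf : Function.Injective f) (hg : Function.Injective g)
    (h : ∀ z : Z, (∃ x, f x = z) ↔ ∃ y, g y = z) :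
    ∃ e : X ≃+* Y, ∀ x, g (e x) = f x := by
  have hex : ∀ x : X, ∃ y : Y, g y = f x := fun x => (h (f x)).1 ⟨x, rfl⟩
  choose e he using hex
  have hbij : Function.Bijective e := by
    constructor
    · intro a b hab
      apply hf
      rw [← he a, ← he b, hab]
    · intro y
      obtain ⟨x, hx⟩ := (h (g y)).2 ⟨y, rfl⟩
      exact ⟨x, hg (by rw [he, hx])⟩
  let eh : X →+* Y :=
    { toFun := e
      map_one' := hg (by rw [he, map_one, map_one])
      map_mul' := fun a b => hg (by rw [he, map_mul, map_mul, he, he])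
      map_zero' := hg (by rw [he, map_zero, map_zero])
      map_add' := fun a b => hg (by rw [he, map_add, map_add, he, he]) }
  exact ⟨RingEquiv.ofBijective eh hbij, he⟩

end Generic

section Inv
variable {k : Type u} [Field k] {A : Type u} [CommRing A] [Bialgebra k A]
  {P : Type u} [CommRing P] [Algebra k P] [HopfRep.Comod k A P] [GLin.IsCoactAlg k A P]
  {Q : Type u} [CommRing Q] [Algebra k Q] [HopfRep.Comod k A Q] [GLin.IsCoactAlg k A Q]

theorem isComodHom_of_equivariant (π : P →ₐ[k] Q)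
    (hπ : ∀ p : P, HopfRep.Comod.coact (k := k) (A := A) (π p) =
      Algebra.TensorProduct.map π (AlgHom.id k A) (HopfRep.Comod.coact (k := k) (A := A) p)) :
    Hoch.IsComodHom A π.toLinearMap := by
  apply LinearMap.ext
  intro p
  simp only [LinearMap.coe_comp, Function.comp_apply, AlgHom.toLinearMap_apply]
  rw [hπ]
  generalize HopfRep.Comod.coact (k := k) (A := A) p = t
  induction t using TensorProduct.induction_on with
  | zero => simp
  | add a b ha hb => simp only [map_add, ha, hb]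
  | tmul a b => simp

/-- An equivariant map sends invariants to invariants. -/
theorem map_mem_invariants (π : P →ₐ[k] Q)
    (hπ : ∀ p : P, HopfRep.Comod.coact (k := k) (A := A) (π p) =
      Algebra.TensorProduct.map π (AlgHom.id k A) (HopfRep.Comod.coact (k := k) (A := A) p))
    {p : P} (hp : p ∈ GLin.invariants k A P) : π p ∈ GLin.invariants k A Q := by
  rw [GLin.mem_invariants_iff] at hp ⊢
  rw [hπ, hp, Algebra.TensorProduct.map_tmul, AlgHom.id_apply]

/-- **Invariants of a quotient**: for a linearly reductive group, a surjective equivariant map is surjective on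
invariants. -/
theorem exists_invariant_lift (hG : HopfRep.IsLinearlyReductive k A) (π : P →ₐ[k] Q)
    (hπ : ∀ p : P, HopfRep.Comod.coact (k := k) (A := A) (π p) =
      Algebra.TensorProduct.map π (AlgHom.id k A) (HopfRep.Comod.coact (k := k) (A := A) p))
    (hsurj : Function.Surjective π) {q : Q} (hq : q ∈ GLin.invariants k A Q) :
    ∃ p ∈ GLin.invariants k A P, π p = q := by
  obtain ⟨v, hv, hvq⟩ := exists_fixedPts_map_eq hG π.toLinearMap (isComodHom_of_equivariant π hπ) hsurj q hq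
  exact ⟨v, hv, hvq⟩

end Inv

section Main
variable {k : Type u} [Field k] {A : Type u} [CommRing A] [HopfAlgebra k A]
  (hG : HopfRep.IsLinearlyReductive k A)
  {S : Type u} [CommRing S] [Algebra k S] [HopfRep.Comod k A S] [GLin.IsCoactAlg k A S]
  {R : Type u} [CommRing R] [Algebra k R] [HopfRep.Comod k A R] [GLin.IsCoactAlg k A R]
  [Algebra S R] [IsScalarTower k S R]
  (hequiv : ∀ s : S, HopfRep.Comod.coact (k := k) (A := A) (algebraMap S R s) =
    Algebra.TensorProduct.map (IsScalarTower.toAlgHom k S R) (AlgHom.id k A)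
      (HopfRep.Comod.coact (k := k) (A := A) s))
  {S₀ : Type u} [CommRing S₀] [Algebra k S₀] [Algebra S₀ S] [IsScalarTower k S₀ S]
  (hS₀ : (IsScalarTower.toAlgHom k S₀ S).range = GLin.invariants k A S)
  {R₀ : Type u} [CommRing R₀] [Algebra k R₀] [Algebra R₀ R] [IsScalarTower k R₀ R]
  (hR₀i : Function.Injective (algebraMap R₀ R))
  (hR₀ : (IsScalarTower.toAlgHom k R₀ R).range = GLin.invariants k A R)
  [Algebra S₀ R₀] [Algebra S₀ R] [IsScalarTower S₀ S R] [IsScalarTower S₀ R₀ R]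
  (hsurj : Function.Surjective (Algebra.TensorProduct.productMap (IsScalarTower.toAlgHom S₀ S R)
    (IsScalarTower.toAlgHom S₀ R₀ R)))
  (J : Ideal S) (hJ : HopfRep.IsSubcomod (k := k) (A := A) (J.restrictScalars k))

include hS₀ in
theorem mem_invariants_S_iff (s : S) : s ∈ GLin.invariants k A S ↔ ∃ s₀ : S₀, algebraMap S₀ S s₀ = s := by
  rw [← hS₀]
  rfl

include hR₀ in
theorem mem_invariants_R_iff (r : R) : r ∈ GLin.invariants k A R ↔ ∃ r₀ : R₀, algebraMap R₀ R r₀ = r := by
  rw [← hR₀]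
  rfl

include hG hequiv hS₀ hR₀ hJ in
/-- Reynolds of `φ(j)·φ(s)·ι(r₀)` lands in `ι(J₀R₀)`. -/
theorem exists_reynolds_eq (E : R →ₗ[k] R) (hE : IsReynolds (A := A) E) {j : S} (hj : j ∈ J)
    (t : S ⊗[S₀] R₀) :
    ∃ ρ ∈ (J.comap (algebraMap S₀ S)).map (algebraMap S₀ R₀),
      E (algebraMap S R j * Algebra.TensorProduct.productMap (IsScalarTower.toAlgHom S₀ S R)
        (IsScalarTower.toAlgHom S₀ R₀ R) t) = algebraMap R₀ R ρ := by
  obtain ⟨ES, hES⟩ := exists_isReynolds hG S
  have hφ : Hoch.IsComodHom A (IsScalarTower.toAlgHom k S R).toLinearMap :=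
    isComodHom_of_equivariant _ hequiv
  have hcomm := IsReynolds.comp_comm hG hES hE hφ
  induction t using TensorProduct.induction_on with
  | zero => exact ⟨0, Ideal.zero_mem _, by simp⟩
  | add a b ha hb =>
    obtain ⟨ρa, hρa, ha⟩ := ha
    obtain ⟨ρb, hρb, hb⟩ := hb
    exact ⟨ρa + ρb, Ideal.add_mem _ hρa hρb, by rw [map_add, mul_add, map_add, ha, hb, map_add]⟩
  | tmul s r₀ =>
    rw [Algebra.TensorProduct.productMap_apply_tmul, IsScalarTower.coe_toAlgHom', IsScalarTower.coe_toAlgHom',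
      ← mul_assoc, ← map_mul]
    have hinv : algebraMap R₀ R r₀ ∈ GLin.invariants k A R := (mem_invariants_R_iff hR₀ _).2 ⟨r₀, rfl⟩
    rw [IsReynolds.map_mul_invariant hG hE _ _ hinv]
    have h1 : E (algebraMap S R (j * s)) = algebraMap S R (ES (j * s)) :=
      LinearMap.congr_fun hcomm (j * s)
    have h2 : ES (j * s) ∈ J := by
      have := IsReynolds.apply_mem_of_isSubcomod hG hES hJ (x := j * s) (J.mul_mem_right s hj)
      exact this
    have h3 : ES (j * s) ∈ GLin.invariants k A S := hES.apply_mem _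
    obtain ⟨j₀, hj₀⟩ := (mem_invariants_S_iff hS₀ _).1 h3
    refine ⟨algebraMap S₀ R₀ j₀ * r₀, Ideal.mul_mem_right _ _ (Ideal.mem_map_of_mem _ ?_), ?_⟩
    · rw [Ideal.mem_comap, hj₀]
      exact h2
    · rw [h1, ← hj₀, map_mul, ← IsScalarTower.algebraMap_apply S₀ R₀ R,
        ← IsScalarTower.algebraMap_apply S₀ S R]

include hG hequiv hS₀ hR₀ hJ hsurj hR₀i in
/-- **The kernel of `R^G → (R/JR)`** is generated by `J ∩ S^G`. -/
theorem mem_map_comap_of_mem_map {r₀ : R₀} (h : algebraMap R₀ R r₀ ∈ J.map (algebraMap S R)) :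
    r₀ ∈ (J.comap (algebraMap S₀ S)).map (algebraMap S₀ R₀) := by
  obtain ⟨E, hE⟩ := exists_isReynolds hG R
  have key : ∀ x ∈ J.map (algebraMap S R), ∀ r : R,
      ∃ ρ ∈ (J.comap (algebraMap S₀ S)).map (algebraMap S₀ R₀), E (r * x) = algebraMap R₀ R ρ := by
    intro x hx
    rw [Ideal.map] at hx
    induction hx using Submodule.span_induction with
    | mem x hx =>
      obtain ⟨j, hj, rfl⟩ := hx
      intro r
      obtain ⟨t, rfl⟩ := hsurj r
      rw [mul_comm]
      exact exists_reynolds_eq hG hequiv hS₀ hR₀ J hJ E hE hj t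
    | zero => intro r; exact ⟨0, Ideal.zero_mem _, by simp⟩
    | add a b _ _ ha hb =>
      intro r
      obtain ⟨ρa, hρa, ha⟩ := ha r
      obtain ⟨ρb, hρb, hb⟩ := hb r
      exact ⟨ρa + ρb, Ideal.add_mem _ hρa hρb, by rw [mul_add, map_add, ha, hb, map_add]⟩
    | smul a x _ hx =>
      intro r
      obtain ⟨ρ, hρ, h1⟩ := hx (r * a)
      exact ⟨ρ, hρ, by rw [smul_eq_mul, ← mul_assoc, h1]⟩
  obtain ⟨ρ, hρ, h1⟩ := key _ h 1
  rw [one_mul] at h1
  have hinv : algebraMap R₀ R r₀ ∈ GLin.invariants k A R := (mem_invariants_R_iff hR₀ _).2 ⟨r₀, rfl⟩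
  have h2 : E (algebraMap R₀ R r₀) = algebraMap R₀ R r₀ := (hE.2.2 _).2 hinv
  rw [h2] at h1
  rw [hR₀i h1]
  exact hρ

end Main

section Final

/-- **Strongly étale maps restrict to closed invariant subschemes.** -/
theorem strongly_etale_restrict (k : Type u) [Field k]
    (A : Type u) [CommRing A] [HopfAlgebra k A] (hG : HopfRep.IsLinearlyReductive k A)
    (S : Type u) [CommRing S] [Algebra k S] [HopfRep.Comod k A S] [GLin.IsCoactAlg k A S]
    (R : Type u) [CommRing R] [Algebra k R] [HopfRep.Comod k A R] [GLin.IsCoactAlg k A R]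
    [Algebra S R] [IsScalarTower k S R]
    (hequiv : (∀ s : S, HopfRep.Comod.coact (k := k) (A := A) (algebraMap S R s) =
      Algebra.TensorProduct.map (IsScalarTower.toAlgHom k S R) (AlgHom.id k A) (HopfRep.Comod.coact (k := k) (A := A) s)))
    (S₀ : Type u) [CommRing S₀] [Algebra k S₀] [Algebra S₀ S] [IsScalarTower k S₀ S]
    (hS₀ : (IsScalarTower.toAlgHom k S₀ S).range = GLin.invariants k A S)
    (R₀ : Type u) [CommRing R₀] [Algebra k R₀] [Algebra R₀ R] [IsScalarTower k R₀ R]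
    (hR₀i : Function.Injective (algebraMap R₀ R)) (hR₀ : (IsScalarTower.toAlgHom k R₀ R).range = GLin.invariants k A R)
    [Algebra S₀ R₀] [Algebra S₀ R] [IsScalarTower S₀ S R] [IsScalarTower S₀ R₀ R]
    (het : Algebra.Etale S R) (het₀ : Algebra.Etale S₀ R₀)
    (hcart : Function.Bijective (Algebra.TensorProduct.productMap (IsScalarTower.toAlgHom S₀ S R) (IsScalarTower.toAlgHom S₀ R₀ R)))
    (J : Ideal S) (hJ : HopfRep.IsSubcomod (k := k) (A := A) (J.restrictScalars k))
    [HopfRep.Comod k A (S ⧸ J)] [GLin.IsCoactAlg k A (S ⧸ J)]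
    (hqS : (∀ s : S, HopfRep.Comod.coact (k := k) (A := A) ((Ideal.Quotient.mkₐ k J) s) =
        Algebra.TensorProduct.map (Ideal.Quotient.mkₐ k J) (AlgHom.id k A) (HopfRep.Comod.coact (k := k) (A := A) s)))
    [HopfRep.Comod k A (R ⧸ J.map (algebraMap S R))] [GLin.IsCoactAlg k A (R ⧸ J.map (algebraMap S R))]
    (hqR : (∀ s : R, HopfRep.Comod.coact (k := k) (A := A) ((Ideal.Quotient.mkₐ k (J.map (algebraMap S R))) s) =
        Algebra.TensorProduct.map (Ideal.Quotient.mkₐ k (J.map (algebraMap S R))) (AlgHom.id k A) (HopfRep.Comod.coact (k := k) (A := A) s)))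
    (S₁ : Type u) [CommRing S₁] [Algebra k S₁] [Algebra S₁ (S ⧸ J)] [IsScalarTower k S₁ (S ⧸ J)]
    (hS₁i : Function.Injective (algebraMap S₁ (S ⧸ J)))
    (hS₁ : (IsScalarTower.toAlgHom k S₁ (S ⧸ J)).range = GLin.invariants k A (S ⧸ J))
    (R₁ : Type u) [CommRing R₁] [Algebra k R₁] [Algebra R₁ (R ⧸ J.map (algebraMap S R))] [IsScalarTower k R₁ (R ⧸ J.map (algebraMap S R))]
    (hR₁i : Function.Injective (algebraMap R₁ (R ⧸ J.map (algebraMap S R))))
    (hR₁ : (IsScalarTower.toAlgHom k R₁ (R ⧸ J.map (algebraMap S R))).range = GLin.invariants k A (R ⧸ J.map (algebraMap S R)))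
    [Algebra S₁ R₁] [Algebra S₁ (R ⧸ J.map (algebraMap S R))]
    [IsScalarTower S₁ (S ⧸ J) (R ⧸ J.map (algebraMap S R))] [IsScalarTower S₁ R₁ (R ⧸ J.map (algebraMap S R))] :
    Algebra.Etale (S ⧸ J) (R ⧸ J.map (algebraMap S R)) ∧ Algebra.Etale S₁ R₁ ∧
      Function.Bijective (Algebra.TensorProduct.productMap
        (IsScalarTower.toAlgHom S₁ (S ⧸ J) (R ⧸ J.map (algebraMap S R)))
        (IsScalarTower.toAlgHom S₁ R₁ (R ⧸ J.map (algebraMap S R)))) := by
  -- (a) base change of étale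
  have hetq : Algebra.Etale (S ⧸ J) (R ⧸ (J.map (algebraMap S R))) :=
    Algebra.Etale.of_equiv (Algebra.TensorProduct.quotIdealMapEquivQuotTensor R J).symm
  have hetq₀ : Algebra.Etale (S₀ ⧸ (J.comap (algebraMap S₀ S))) (R₀ ⧸ ((J.comap (algebraMap S₀ S)).map (algebraMap S₀ R₀))) :=
    Algebra.Etale.of_equiv (Algebra.TensorProduct.quotIdealMapEquivQuotTensor R₀ (J.comap (algebraMap S₀ S))).symm
  refine ⟨hetq, ?_⟩
  -- invariants of the quotients
  have hSbar : ∀ z : S ⧸ J, (∃ x : S₀ ⧸ (J.comap (algebraMap S₀ S)), Ideal.quotientMap J (algebraMap S₀ S) le_rfl x = z) ↔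
      ∃ y : S₁, algebraMap S₁ (S ⧸ J) y = z := by
    intro z
    have hz : (∃ y : S₁, algebraMap S₁ (S ⧸ J) y = z) ↔ z ∈ GLin.invariants k A (S ⧸ J) := by
      rw [← hS₁]; rfl
    rw [hz]
    constructor
    · rintro ⟨x, rfl⟩
      obtain ⟨s₀, rfl⟩ := Ideal.Quotient.mk_surjective x
      rw [Ideal.quotientMap_mk]
      exact map_mem_invariants (Ideal.Quotient.mkₐ k J) hqS
        ((mem_invariants_S_iff hS₀ _).2 ⟨s₀, rfl⟩)
    · intro hz
      obtain ⟨s, hs, rfl⟩ := exists_invariant_lift hG (Ideal.Quotient.mkₐ k J) hqS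
        (Ideal.Quotient.mkₐ_surjective k J) hz
      obtain ⟨s₀, rfl⟩ := (mem_invariants_S_iff hS₀ _).1 hs
      exact ⟨Ideal.Quotient.mk (J.comap (algebraMap S₀ S)) s₀, by rw [Ideal.quotientMap_mk]; rfl⟩
  obtain ⟨α, hα⟩ := exists_ringEquiv_of_range_eq (Ideal.quotientMap J (algebraMap S₀ S) le_rfl)
    (algebraMap S₁ (S ⧸ J)) (Ideal.quotientMap_injective) hS₁i hSbar
  have hle : ((J.comap (algebraMap S₀ S)).map (algebraMap S₀ R₀)) ≤ RingHom.ker ((Ideal.Quotient.mk (J.map (algebraMap S R))).comp (algebraMap R₀ R)) := by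
    rw [Ideal.map_le_iff_le_comap]
    intro s₀ hs₀
    rw [Ideal.mem_comap, RingHom.mem_ker, RingHom.comp_apply, ← IsScalarTower.algebraMap_apply S₀ R₀ R,
      IsScalarTower.algebraMap_apply S₀ S R, Ideal.Quotient.eq_zero_iff_mem]
    exact Ideal.mem_map_of_mem _ hs₀
  let fR : R₀ ⧸ ((J.comap (algebraMap S₀ S)).map (algebraMap S₀ R₀)) →+* R ⧸ (J.map (algebraMap S R)) :=
    Ideal.Quotient.lift ((J.comap (algebraMap S₀ S)).map (algebraMap S₀ R₀)) ((Ideal.Quotient.mk (J.map (algebraMap S R))).comp (algebraMap R₀ R)) (fun a ha => hle ha)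
  have hfR_mk : ∀ r₀ : R₀, fR (Ideal.Quotient.mk ((J.comap (algebraMap S₀ S)).map (algebraMap S₀ R₀)) r₀) = Ideal.Quotient.mk (J.map (algebraMap S R)) (algebraMap R₀ R r₀) :=
    fun r₀ => rfl
  have hfR_inj : Function.Injective fR := by
    rw [injective_iff_map_eq_zero]
    intro x hx
    obtain ⟨r₀, rfl⟩ := Ideal.Quotient.mk_surjective x
    rw [hfR_mk, Ideal.Quotient.eq_zero_iff_mem] at hx
    exact Ideal.Quotient.eq_zero_iff_mem.2
      (mem_map_comap_of_mem_map hG hequiv hS₀ hR₀i hR₀ hcart.2 J hJ hx)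
  have hRbar : ∀ z : R ⧸ (J.map (algebraMap S R)), (∃ x : R₀ ⧸ ((J.comap (algebraMap S₀ S)).map (algebraMap S₀ R₀)), fR x = z) ↔ ∃ y : R₁, algebraMap R₁ (R ⧸ (J.map (algebraMap S R))) y = z := by
    intro z
    have hz : (∃ y : R₁, algebraMap R₁ (R ⧸ (J.map (algebraMap S R))) y = z) ↔ z ∈ GLin.invariants k A (R ⧸ (J.map (algebraMap S R))) := by
      rw [← hR₁]; rfl
    rw [hz]
    constructor
    · rintro ⟨x, rfl⟩
      obtain ⟨r₀, rfl⟩ := Ideal.Quotient.mk_surjective x
      rw [hfR_mk]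
      exact map_mem_invariants (Ideal.Quotient.mkₐ k (J.map (algebraMap S R))) hqR
        ((mem_invariants_R_iff hR₀ _).2 ⟨r₀, rfl⟩)
    · intro hz
      obtain ⟨r, hr, rfl⟩ := exists_invariant_lift hG (Ideal.Quotient.mkₐ k (J.map (algebraMap S R))) hqR
        (Ideal.Quotient.mkₐ_surjective k (J.map (algebraMap S R))) hz
      obtain ⟨r₀, rfl⟩ := (mem_invariants_R_iff hR₀ _).1 hr
      exact ⟨Ideal.Quotient.mk ((J.comap (algebraMap S₀ S)).map (algebraMap S₀ R₀)) r₀, hfR_mk r₀⟩
  obtain ⟨β, hβ⟩ := exists_ringEquiv_of_range_eq fR (algebraMap R₁ (R ⧸ (J.map (algebraMap S R)))) hfR_inj hR₁i hRbar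
  have hcomm : ∀ x : S₀ ⧸ (J.comap (algebraMap S₀ S)), algebraMap S₁ R₁ (α x) = β (algebraMap (S₀ ⧸ (J.comap (algebraMap S₀ S))) (R₀ ⧸ ((J.comap (algebraMap S₀ S)).map (algebraMap S₀ R₀))) x) := by
    intro x
    apply hR₁i
    rw [hβ, ← IsScalarTower.algebraMap_apply S₁ R₁ (R ⧸ (J.map (algebraMap S R))),
      IsScalarTower.algebraMap_apply S₁ (S ⧸ J) (R ⧸ (J.map (algebraMap S R))), hα]
    obtain ⟨s₀, rfl⟩ := Ideal.Quotient.mk_surjective x
    rw [Ideal.quotientMap_mk, Ideal.Quotient.algebraMap_quotient_map_quotient,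
      Ideal.Quotient.algebraMap_quotient_map_quotient, hfR_mk, ← IsScalarTower.algebraMap_apply S₀ R₀ R,
      ← IsScalarTower.algebraMap_apply S₀ S R]
  have het₁ : Algebra.Etale S₁ R₁ := by
    have h1 : algebraMap S₁ R₁ =
        β.toRingHom.comp ((algebraMap (S₀ ⧸ (J.comap (algebraMap S₀ S))) (R₀ ⧸ ((J.comap (algebraMap S₀ S)).map (algebraMap S₀ R₀)))).comp α.symm.toRingHom) := by
      ext y
      obtain ⟨x, rfl⟩ := α.surjective y
      simp only [RingHom.comp_apply, RingEquiv.toRingHom_eq_coe, RingHom.coe_coe, RingEquiv.symm_apply_apply]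
      exact hcomm x
    rw [← RingHom.etale_algebraMap, h1]
    exact RingHom.Etale.respectsIso.1 _ β
      (RingHom.Etale.respectsIso.2 _ α.symm (RingHom.etale_algebraMap.2 hetq₀))
  refine ⟨het₁, ?_⟩
  -- the comparison maps on invariants
  let αt : S₀ →+* S₁ := α.toRingHom.comp (Ideal.Quotient.mk (J.comap (algebraMap S₀ S)))
  let βt : R₀ →+* R₁ :=
    β.toRingHom.comp (Ideal.Quotient.mk ((J.comap (algebraMap S₀ S)).map (algebraMap S₀ R₀)))
  have hαt : ∀ s₀ : S₀, algebraMap S₁ (S ⧸ J) (αt s₀) = Ideal.Quotient.mk J (algebraMap S₀ S s₀) := by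
    intro s₀
    rw [show αt s₀ = α (Ideal.Quotient.mk _ s₀) from rfl, hα, Ideal.quotientMap_mk]
  have hβt : ∀ r₀ : R₀, algebraMap R₁ (R ⧸ J.map (algebraMap S R)) (βt r₀) =
      Ideal.Quotient.mk (J.map (algebraMap S R)) (algebraMap R₀ R r₀) := by
    intro r₀
    rw [show βt r₀ = β (Ideal.Quotient.mk _ r₀) from rfl, hβ, hfR_mk]
  have hβt_surj : Function.Surjective βt := β.surjective.comp Ideal.Quotient.mk_surjective
  have hαβ : ∀ s₀ : S₀, algebraMap S₁ R₁ (αt s₀) = βt (algebraMap S₀ R₀ s₀) := by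
    intro s₀
    rw [show αt s₀ = α (Ideal.Quotient.mk _ s₀) from rfl, hcomm]
    rfl
  -- the map `ψ : S ⊗ R₀ → (S/J) ⊗ R₁`
  let f : S →+ R₀ →+ (S ⧸ J) ⊗[S₁] R₁ :=
    { toFun := fun s => ((TensorProduct.mk S₁ (S ⧸ J) R₁ (Ideal.Quotient.mk J s)).toAddMonoidHom).comp
        βt.toAddMonoidHom
      map_zero' := by
        ext r₀
        simp
      map_add' := fun s s' => by
        ext r₀
        simp }
  have hf_apply : ∀ (s : S) (r₀ : R₀), f s r₀ = (Ideal.Quotient.mk J s) ⊗ₜ[S₁] (βt r₀) := fun s r₀ => rfl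
  have hf : ∀ (s₀ : S₀) (s : S) (r₀ : R₀), f (s₀ • s) r₀ = f s (s₀ • r₀) := by
    intro s₀ s r₀
    rw [hf_apply, hf_apply, Algebra.smul_def, Algebra.smul_def, map_mul, map_mul, ← hαt, ← hαβ,
      ← Algebra.smul_def, ← Algebra.smul_def, TensorProduct.smul_tmul]
  let ψ : S ⊗[S₀] R₀ →+ (S ⧸ J) ⊗[S₁] R₁ := TensorProduct.liftAddHom f hf
  have hψ : ∀ (s : S) (r₀ : R₀), ψ (s ⊗ₜ[S₀] r₀) = (Ideal.Quotient.mk J s) ⊗ₜ[S₁] (βt r₀) := fun s r₀ => rfl
  -- (i) compatibility of the two product maps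
  have hpm : ∀ t : S ⊗[S₀] R₀,
      Ideal.Quotient.mk (J.map (algebraMap S R))
        (Algebra.TensorProduct.productMap (IsScalarTower.toAlgHom S₀ S R) (IsScalarTower.toAlgHom S₀ R₀ R) t) =
      Algebra.TensorProduct.productMap
        (IsScalarTower.toAlgHom S₁ (S ⧸ J) (R ⧸ J.map (algebraMap S R)))
        (IsScalarTower.toAlgHom S₁ R₁ (R ⧸ J.map (algebraMap S R))) (ψ t) := by
    intro t
    induction t using TensorProduct.induction_on with
    | zero => simp
    | add a b ha hb => rw [map_add, map_add, ha, hb, map_add, map_add]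
    | tmul s r₀ =>
      rw [hψ, Algebra.TensorProduct.productMap_apply_tmul, Algebra.TensorProduct.productMap_apply_tmul,
        IsScalarTower.coe_toAlgHom', IsScalarTower.coe_toAlgHom', IsScalarTower.coe_toAlgHom',
        IsScalarTower.coe_toAlgHom', hβt, map_mul, Ideal.Quotient.algebraMap_quotient_map_quotient]
  -- (ii) ψ kills the preimage of `JR`
  have hkill : ∀ x ∈ J.map (algebraMap S R), ∀ t' : S ⊗[S₀] R₀, ∀ t : S ⊗[S₀] R₀,
      Algebra.TensorProduct.productMap (IsScalarTower.toAlgHom S₀ S R) (IsScalarTower.toAlgHom S₀ R₀ R) t =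
        Algebra.TensorProduct.productMap (IsScalarTower.toAlgHom S₀ S R) (IsScalarTower.toAlgHom S₀ R₀ R) t' * x →
      ψ t = 0 := by
    intro x hx
    rw [Ideal.map] at hx
    induction hx using Submodule.span_induction with
    | mem x hx =>
      obtain ⟨j, hj, rfl⟩ := hx
      intro t' t ht
      have h1 : t = t' * (j ⊗ₜ[S₀] (1 : R₀)) := by
        apply hcart.1
        rw [ht, map_mul, Algebra.TensorProduct.productMap_apply_tmul, map_one, mul_one]
        rfl
      rw [h1]
      clear ht h1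
      induction t' using TensorProduct.induction_on with
      | zero => simp
      | add a b ha hb => rw [add_mul, map_add, ha, hb, add_zero]
      | tmul s r₀ =>
        rw [Algebra.TensorProduct.tmul_mul_tmul, mul_one, hψ,
          Ideal.Quotient.eq_zero_iff_mem.2 (J.mul_mem_left s hj), TensorProduct.zero_tmul]
    | zero =>
      intro t' t ht
      rw [mul_zero] at ht
      have : t = 0 := hcart.1 (by rw [ht, map_zero])
      rw [this, map_zero]
    | add a b _ _ ha hb =>
      intro t' t ht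
      obtain ⟨ta, hta⟩ := hcart.2
        (Algebra.TensorProduct.productMap (IsScalarTower.toAlgHom S₀ S R) (IsScalarTower.toAlgHom S₀ R₀ R) t' * a)
      obtain ⟨tb, htb⟩ := hcart.2
        (Algebra.TensorProduct.productMap (IsScalarTower.toAlgHom S₀ S R) (IsScalarTower.toAlgHom S₀ R₀ R) t' * b)
      have : t = ta + tb := hcart.1 (by rw [ht, map_add, hta, htb, mul_add])
      rw [this, map_add, ha t' ta hta, hb t' tb htb, add_zero]
    | smul a x _ hx =>
      intro t' t ht
      obtain ⟨ta, hta⟩ := hcart.2 a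
      apply hx (t' * ta) t
      rw [ht, map_mul, hta, smul_eq_mul, mul_assoc]
  constructor
  · -- injectivity
    rw [injective_iff_map_eq_zero]
    intro u hu
    have hex : ∀ u : (S ⧸ J) ⊗[S₁] R₁, ∃ t : S ⊗[S₀] R₀, ψ t = u := by
      intro u
      induction u using TensorProduct.induction_on with
      | zero => exact ⟨0, map_zero _⟩
      | add a b ha hb =>
        obtain ⟨ta, rfl⟩ := ha
        obtain ⟨tb, rfl⟩ := hb
        exact ⟨ta + tb, map_add _ _ _⟩
      | tmul sb r₁ =>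
        obtain ⟨s, rfl⟩ := Ideal.Quotient.mk_surjective sb
        obtain ⟨r₀, rfl⟩ := hβt_surj r₁
        exact ⟨s ⊗ₜ[S₀] r₀, hψ s r₀⟩
    obtain ⟨t, rfl⟩ := hex u
    rw [← hpm, Ideal.Quotient.eq_zero_iff_mem] at hu
    exact hkill _ hu 1 t (by rw [map_one, one_mul])
  · -- surjectivity
    intro z
    obtain ⟨r, rfl⟩ := Ideal.Quotient.mk_surjective z
    obtain ⟨t, rfl⟩ := hcart.2 r
    exact ⟨ψ t, (hpm t).symm⟩

end Final

end Groth.Agent.Lib.StronglyEtale38
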