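import Groth.Agent.Lib.StronglyEtale38
import Groth.Agent.Lib.FiniteOrbit38
import Mathlib.RingTheory.Etale.Basic

/-!
# Strongly étale morphisms: étaleness, stabilisers and closed orbits (helper38)

For a cartesian square `R = S ⊗_{S₀} R₀` (with `S₀ = S^G`, `R₀ = R^G`):
* `etale_of_cartesian`: `R` is étale over `S` if `R₀` is étale over `S₀`;
* `algHom_eq_of_cartesian`: a point of `R` is determined by its restrictions to `S` and `R₀`;
* `exists_point_of_cartesian`: points of `S` and `R₀` agreeing on `S₀` glue to a point of `R`;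
* `actPt_eq_of_actPt_comp_eq`: the stabiliser of `φ(x)` fixes `x`;
* `isClosedOrbit_iff_comp_of_cartesian`: the orbit of `x` is closed iff the orbit of `φ(x)` is.
-/

set_option autoImplicit false
set_option linter.unusedSectionVars false
universe u v w
open TensorProduct

namespace Groth.Agent.Lib.StronglyEtale38b
open Groth.Agent.Lib.GITOrbit38 Groth.Agent.Lib.GITQuot38 Groth.Agent.Lib.FiniteOrbit38

section Cart
variable {S₀ S R₀ R : Type*} [CommRing S₀] [CommRing S] [CommRing R₀] [CommRing R]
  [Algebra S₀ S] [Algebra S₀ R₀] [Algebra S₀ R] [Algebra S R] [Algebra R₀ R]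
  [IsScalarTower S₀ S R] [IsScalarTower S₀ R₀ R]

theorem etale_of_cartesian [Algebra.Etale S₀ R₀]
    (hcart : Function.Bijective (Algebra.TensorProduct.productMap (IsScalarTower.toAlgHom S₀ S R)
      (IsScalarTower.toAlgHom S₀ R₀ R))) : Algebra.Etale S R := by
  let pm : S ⊗[S₀] R₀ →ₐ[S] R :=
    Algebra.TensorProduct.productLeftAlgHom (Algebra.ofId S R) (IsScalarTower.toAlgHom S₀ R₀ R)
  have hpm : Function.Bijective pm := hcart
  exact Algebra.Etale.of_equiv (AlgEquiv.ofBijective pm hpm)

/-- Two ring homs out of `R = S ⊗_{S₀} R₀` agreeing on `S` and on `R₀` are equal. -/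
theorem ringHom_eq_of_cartesian {K : Type*} [Semiring K]
    (hcart : Function.Surjective (Algebra.TensorProduct.productMap (IsScalarTower.toAlgHom S₀ S R)
      (IsScalarTower.toAlgHom S₀ R₀ R)))
    {z z' : R →+* K} (h1 : ∀ s : S, z (algebraMap S R s) = z' (algebraMap S R s))
    (h2 : ∀ r : R₀, z (algebraMap R₀ R r) = z' (algebraMap R₀ R r)) : z = z' := by
  apply RingHom.ext
  intro r
  obtain ⟨t, rfl⟩ := hcart r
  induction t using TensorProduct.induction_on with
  | zero => simp
  | add a b ha hb => rw [map_add, map_add, map_add, ha, hb]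
  | tmul s r₀ =>
    rw [Algebra.TensorProduct.productMap_apply_tmul, map_mul, map_mul]
    exact congrArg₂ _ (h1 s) (h2 r₀)

/-- Ring homs `w : S → K`, `χ : R₀ → K` agreeing on `S₀` glue to a ring hom on `R = S ⊗_{S₀} R₀`. -/
theorem exists_ringHom_of_cartesian {K : Type*} [CommRing K]
    (hcart : Function.Bijective (Algebra.TensorProduct.productMap (IsScalarTower.toAlgHom S₀ S R)
      (IsScalarTower.toAlgHom S₀ R₀ R)))
    (w : S →+* K) (χ : R₀ →+* K)
    (h : ∀ s₀ : S₀, w (algebraMap S₀ S s₀) = χ (algebraMap S₀ R₀ s₀)) :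
    ∃ z : R →+* K, (∀ s : S, z (algebraMap S R s) = w s) ∧
      (∀ r : R₀, z (algebraMap R₀ R r) = χ r) := by
  let _ : Algebra S₀ K := (w.comp (algebraMap S₀ S)).toAlgebra
  let wA : S →ₐ[S₀] K := { w with commutes' := fun _ => rfl }
  let χA : R₀ →ₐ[S₀] K := { χ with commutes' := fun s₀ => (h s₀).symm }
  let pm : S ⊗[S₀] R₀ →ₐ[S₀] R := Algebra.TensorProduct.productMap (IsScalarTower.toAlgHom S₀ S R)
      (IsScalarTower.toAlgHom S₀ R₀ R)
  let e : S ⊗[S₀] R₀ ≃ₐ[S₀] R := AlgEquiv.ofBijective pm hcart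
  have he : ∀ t, e t = pm t := fun t => rfl
  refine ⟨(Algebra.TensorProduct.productMap wA χA).toRingHom.comp e.symm.toRingHom, ?_, ?_⟩
  · intro s
    have h1 : algebraMap S R s = e (s ⊗ₜ[S₀] (1 : R₀)) := by
      rw [he]
      show _ = Algebra.TensorProduct.productMap (IsScalarTower.toAlgHom S₀ S R)
        (IsScalarTower.toAlgHom S₀ R₀ R) _
      rw [Algebra.TensorProduct.productMap_apply_tmul, map_one, mul_one]; rfl
    rw [h1]
    show Algebra.TensorProduct.productMap wA χA (e.symm (e _)) = _
    rw [AlgEquiv.symm_apply_apply, Algebra.TensorProduct.productMap_apply_tmul, map_one, mul_one]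
    rfl
  · intro r
    have h1 : algebraMap R₀ R r = e ((1 : S) ⊗ₜ[S₀] r) := by
      rw [he]
      show _ = Algebra.TensorProduct.productMap (IsScalarTower.toAlgHom S₀ S R)
        (IsScalarTower.toAlgHom S₀ R₀ R) _
      rw [Algebra.TensorProduct.productMap_apply_tmul, map_one, one_mul]; rfl
    rw [h1]
    show Algebra.TensorProduct.productMap wA χA (e.symm (e _)) = _
    rw [AlgEquiv.symm_apply_apply, Algebra.TensorProduct.productMap_apply_tmul, map_one, one_mul]
    rfl

end Cart

section GLinPart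
variable {k : Type u} [Field k] [IsAlgClosed k]
  {A : Type u} [CommRing A] [HopfAlgebra k A] [Algebra.FiniteType k A]
  {S : Type u} [CommRing S] [Algebra k S] [Algebra.FiniteType k S] [HopfRep.Comod k A S]
  [GLin.IsCoactAlg k A S]
  {R : Type u} [CommRing R] [Algebra k R] [Algebra.FiniteType k R] [HopfRep.Comod k A R]
  [GLin.IsCoactAlg k A R]
  [Algebra S R] [IsScalarTower k S R]
  {S₀ : Type u} [CommRing S₀] [Algebra k S₀] [Algebra S₀ S] [IsScalarTower k S₀ S]
  {R₀ : Type u} [CommRing R₀] [Algebra k R₀] [Algebra R₀ R] [IsScalarTower k R₀ R]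
  [Algebra S₀ R₀] [Algebra S₀ R] [IsScalarTower S₀ S R] [IsScalarTower S₀ R₀ R]

include A in
theorem algebraMap_R₀_mem_invariants
    (hR₀ : (IsScalarTower.toAlgHom k R₀ R).range = GLin.invariants k A R) (r₀ : R₀) :
    algebraMap R₀ R r₀ ∈ GLin.invariants k A R := by
  rw [← hR₀]; exact ⟨r₀, rfl⟩

/-- A group element does not move the values of invariants. -/
theorem actPt_algebraMap_R₀
    (hR₀ : (IsScalarTower.toAlgHom k R₀ R).range = GLin.invariants k A R)
    (g : A →ₐ[k] k) (x : R →ₐ[k] k) (r₀ : R₀) :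
    GLin.actPt k g x (algebraMap R₀ R r₀) = x (algebraMap R₀ R r₀) := by
  rw [actPt_apply, orbitHom_of_mem_invariants x (algebraMap_R₀_mem_invariants (A := A) hR₀ r₀),
    AlgHom.commutes]
  rfl

theorem algHom_eq_of_cartesian
    (hcart : Function.Surjective (Algebra.TensorProduct.productMap (IsScalarTower.toAlgHom S₀ S R)
      (IsScalarTower.toAlgHom S₀ R₀ R)))
    {z z' : R →ₐ[k] k} (h1 : ∀ s : S, z (algebraMap S R s) = z' (algebraMap S R s))
    (h2 : ∀ r : R₀, z (algebraMap R₀ R r) = z' (algebraMap R₀ R r)) : z = z' := by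
  have := ringHom_eq_of_cartesian hcart (z := z.toRingHom) (z' := z'.toRingHom) h1 h2
  apply AlgHom.ext
  intro r
  exact RingHom.congr_fun this r

/-- The stabiliser of `φ(x)` fixes `x`. -/
theorem actPt_eq_of_actPt_comp_eq
    (hequiv : ∀ s : S, HopfRep.Comod.coact (k := k) (A := A) (algebraMap S R s) =
      Algebra.TensorProduct.map (IsScalarTower.toAlgHom k S R) (AlgHom.id k A)
        (HopfRep.Comod.coact (k := k) (A := A) s))
    (hR₀ : (IsScalarTower.toAlgHom k R₀ R).range = GLin.invariants k A R)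
    (hcart : Function.Surjective (Algebra.TensorProduct.productMap (IsScalarTower.toAlgHom S₀ S R)
      (IsScalarTower.toAlgHom S₀ R₀ R)))
    (x : R →ₐ[k] k) (g : A →ₐ[k] k)
    (hg : GLin.actPt k g (x.comp (IsScalarTower.toAlgHom k S R)) =
      x.comp (IsScalarTower.toAlgHom k S R)) :
    GLin.actPt k g x = x := by
  apply algHom_eq_of_cartesian (S₀ := S₀) (R₀ := R₀) hcart
  · intro s
    have := AlgHom.congr_fun hg s
    rw [actPt_comp hequiv] at this
    exact this
  · intro r₀
    exact actPt_algebraMap_R₀ hR₀ g x r₀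

/-- The orbit of `x` is closed iff the orbit of `φ(x)` is closed. -/
theorem isClosedOrbit_iff_comp_of_cartesian
    (hequiv : ∀ s : S, HopfRep.Comod.coact (k := k) (A := A) (algebraMap S R s) =
      Algebra.TensorProduct.map (IsScalarTower.toAlgHom k S R) (AlgHom.id k A)
        (HopfRep.Comod.coact (k := k) (A := A) s))
    (hS₀ : (IsScalarTower.toAlgHom k S₀ S).range = GLin.invariants k A S)
    (hR₀ : (IsScalarTower.toAlgHom k R₀ R).range = GLin.invariants k A R)
    (hcart : Function.Bijective (Algebra.TensorProduct.productMap (IsScalarTower.toAlgHom S₀ S R)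
      (IsScalarTower.toAlgHom S₀ R₀ R)))
    (x : R →ₐ[k] k) :
    GLin.IsClosedOrbit k A x ↔ GLin.IsClosedOrbit k A (x.comp (IsScalarTower.toAlgHom k S R)) := by
  constructor
  · intro hx
    unfold GLin.IsClosedOrbit
    apply isClosed_range_comap_of_forall_lift
    intro w hw
    have hw' : GLin.InOrbitClosure k A (x.comp (IsScalarTower.toAlgHom k S R)) w := hw
    -- the compatible pair
    have hcompat : ∀ s₀ : S₀, w.toRingHom (algebraMap S₀ S s₀) =
        (x.toRingHom.comp (algebraMap R₀ R)) (algebraMap S₀ R₀ s₀) := by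
      intro s₀
      have hinv : algebraMap S₀ S s₀ ∈ GLin.invariants k A S := by
        rw [← hS₀]; exact ⟨s₀, rfl⟩
      have h1 := apply_eq_of_inOrbitClosure hw' hinv
      show w (algebraMap S₀ S s₀) = x (algebraMap R₀ R (algebraMap S₀ R₀ s₀))
      rw [h1, ← IsScalarTower.algebraMap_apply S₀ R₀ R, IsScalarTower.algebraMap_apply S₀ S R]
      rfl
    obtain ⟨z₀, hz₀S, hz₀R⟩ := exists_ringHom_of_cartesian hcart w.toRingHom
      (x.toRingHom.comp (algebraMap R₀ R)) hcompat
    let z : R →ₐ[k] k := { z₀ with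
      commutes' := fun c => by
        show z₀ (algebraMap k R c) = algebraMap k k c
        rw [IsScalarTower.algebraMap_apply k S R, hz₀S]
        exact w.commutes c }
    have hzS : ∀ s : S, z (algebraMap S R s) = w s := hz₀S
    have hzR : ∀ r₀ : R₀, z (algebraMap R₀ R r₀) = x (algebraMap R₀ R r₀) := hz₀R
    have hxz : GLin.InOrbitClosure k A x z := by
      intro r hr
      rw [RingHom.mem_ker] at hr ⊢
      obtain ⟨t, rfl⟩ := hcart.2 r
      obtain ⟨T, rfl⟩ := TensorProduct.exists_finset t
      have hoy := orbitHom_comp hequiv x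
      have e1 : GLin.orbitHom k A x (Algebra.TensorProduct.productMap
          (IsScalarTower.toAlgHom S₀ S R) (IsScalarTower.toAlgHom S₀ R₀ R)
          (∑ i ∈ T, i.1 ⊗ₜ[S₀] i.2)) =
          GLin.orbitHom k A (x.comp (IsScalarTower.toAlgHom k S R))
            (∑ i ∈ T, x (algebraMap R₀ R i.2) • i.1) := by
        rw [map_sum, map_sum, map_sum]
        apply Finset.sum_congr rfl
        intro i _
        rw [Algebra.TensorProduct.productMap_apply_tmul, map_mul, map_smul, hoy]
        show GLin.orbitHom k A x (algebraMap S R i.1) *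
          GLin.orbitHom k A x (algebraMap R₀ R i.2) = _ • GLin.orbitHom k A x (algebraMap S R i.1)
        rw [orbitHom_of_mem_invariants x (algebraMap_R₀_mem_invariants (A := A) hR₀ i.2),
          Algebra.smul_def, mul_comm]
      have e2 : z (Algebra.TensorProduct.productMap
          (IsScalarTower.toAlgHom S₀ S R) (IsScalarTower.toAlgHom S₀ R₀ R)
          (∑ i ∈ T, i.1 ⊗ₜ[S₀] i.2)) = w (∑ i ∈ T, x (algebraMap R₀ R i.2) • i.1) := by
        rw [map_sum, map_sum, map_sum]
        apply Finset.sum_congr rfl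
        intro i _
        rw [Algebra.TensorProduct.productMap_apply_tmul, map_mul, map_smul]
        show z (algebraMap S R i.1) * z (algebraMap R₀ R i.2) = _
        rw [hzS, hzR, smul_eq_mul, mul_comm]
      rw [e2]
      rw [e1] at hr
      have := hw hr
      rw [RingHom.mem_ker] at this
      exact this
    obtain ⟨g, hg⟩ := exists_actPt_eq_of_isClosedOrbit x z hx hxz
    refine ⟨g, ?_⟩
    have h3 : w = z.comp (IsScalarTower.toAlgHom k S R) := by
      apply AlgHom.ext
      intro s
      exact (hzS s).symm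
    rw [h3, hg, ← actPt_comp hequiv]
    rfl
  · intro hy
    unfold GLin.IsClosedOrbit
    apply isClosed_range_comap_of_forall_lift
    intro z hz
    have hz' : GLin.InOrbitClosure k A x z := hz
    have hzy := inOrbitClosure_comp hequiv hz'
    obtain ⟨g, hg⟩ := exists_actPt_eq_of_isClosedOrbit _ _ hy hzy
    refine ⟨g, ?_⟩
    show z = GLin.actPt k g x
    apply algHom_eq_of_cartesian (S₀ := S₀) (R₀ := R₀) hcart.2
    · intro s
      have := AlgHom.congr_fun hg s
      rw [actPt_comp hequiv] at this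
      exact this
    · intro r₀
      rw [actPt_algebraMap_R₀ hR₀ g x r₀]
      exact apply_eq_of_inOrbitClosure hz' (algebraMap_R₀_mem_invariants (A := A) hR₀ r₀)

end GLinPart

end Groth.Agent.Lib.StronglyEtale38b
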