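import Groth.Agent.Lib.KoszulFilt

/-!
# Subcomplexes and quotient complexes of complexes of modules (helper25)

For `K : CochainComplex (ModuleCat A) ℤ` and submodules `F n ⊆ K^n` stable under `d`:
`subCx`, `quotCx`, `subι`, `quotπ`, `degExact_sub_quot`, `subsingleton_homology_subCx` (elementwise
acyclicity), `chi_eq_chi_quotCx`.
-/

set_option autoImplicit false
universe u

open CategoryTheory Limits CochainComplex
open Groth.Agent.Lib.EulerLES Groth.Agent.Lib.EulerD Groth.Agent.Lib.KoszulCone
  Groth.Agent.Lib.KoszulElem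

namespace Groth.Agent.Lib.SubQuotCx

variable {A : Type u} [CommRing A] (K : CochainComplex (ModuleCat.{u} A) ℤ)
  (F : ∀ n : ℤ, Submodule A (K.X n))

/-- stability of a family of submodules under the differential. -/
def Stable : Prop := ∀ (n : ℤ) (z : K.X n), z ∈ F n → K.d n (n + 1) z ∈ F (n + 1)

variable {K F}

lemma Stable.all (hF : Stable K F) (i j : ℤ) (z : K.X i) (hz : z ∈ F i) : K.d i j z ∈ F j := by
  by_cases h : i + 1 = j
  · subst h
    exact hF i z hz
  · have : K.d i j = 0 := K.shape i j h
    rw [this]
    exact Submodule.zero_mem _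

variable (K F)

/-- the subcomplex. -/
noncomputable def subCx (hF : Stable K F) : CochainComplex (ModuleCat.{u} A) ℤ where
  X n := ModuleCat.of A (F n)
  d i j := ModuleCat.ofHom ((K.d i j).hom.restrict (p := F i) (q := F j) (hF.all i j))
  shape i j hij := by
    apply ModuleCat.hom_ext
    apply LinearMap.ext
    intro z
    apply Subtype.ext
    have : K.d i j = 0 := K.shape i j hij
    simp [this]
  d_comp_d' i j k _ _ := by
    apply ModuleCat.hom_ext
    apply LinearMap.ext
    intro z
    apply Subtype.ext
    change K.d j k (K.d i j z.1) = 0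
    exact d_d_apply K i j k z.1

/-- the quotient complex. -/
noncomputable def quotCx (hF : Stable K F) : CochainComplex (ModuleCat.{u} A) ℤ where
  X n := ModuleCat.of A (K.X n ⧸ F n)
  d i j := ModuleCat.ofHom ((F i).mapQ (F j) (K.d i j).hom (fun z hz => hF.all i j z hz))
  shape i j hij := by
    apply ModuleCat.hom_ext
    apply LinearMap.ext
    intro z
    obtain ⟨z, rfl⟩ := Submodule.Quotient.mk_surjective _ z
    have : K.d i j = 0 := K.shape i j hij
    change (F i).mapQ (F j) (K.d i j).hom (fun z hz => hF.all i j z hz)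
      (Submodule.Quotient.mk z) = 0
    rw [Submodule.mapQ_apply]
    simp [this]
  d_comp_d' i j k _ _ := by
    apply ModuleCat.hom_ext
    apply LinearMap.ext
    intro z
    obtain ⟨z, rfl⟩ := Submodule.Quotient.mk_surjective _ z
    change (F j).mapQ (F k) (K.d j k).hom (fun z hz => hF.all j k z hz)
      ((F i).mapQ (F j) (K.d i j).hom (fun z hz => hF.all i j z hz)
      (Submodule.Quotient.mk z)) = 0
    rw [Submodule.mapQ_apply, Submodule.mapQ_apply]
    have := d_d_apply K i j k z
    change Submodule.Quotient.mk (K.d j k (K.d i j z)) = 0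
    rw [this]
    simp

/-- the inclusion of the subcomplex. -/
noncomputable def subι (hF : Stable K F) : subCx K F hF ⟶ K where
  f n := ModuleCat.ofHom (F n).subtype
  comm' i j _ := by
    apply ModuleCat.hom_ext
    apply LinearMap.ext
    intro z
    rfl

/-- the projection to the quotient complex. -/
noncomputable def quotπ (hF : Stable K F) : K ⟶ quotCx K F hF where
  f n := ModuleCat.ofHom (F n).mkQ
  comm' i j _ := by
    apply ModuleCat.hom_ext
    apply LinearMap.ext
    intro z
    rfl

lemma degExact_sub_quot (hF : Stable K F) : DegExact (subι K F hF) (quotπ K F hF) := by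
  intro n
  refine ⟨?_, ?_, ?_⟩
  · exact (F n).injective_subtype
  · exact LinearMap.exact_subtype_mkQ (F n)
  · exact (F n).mkQ_surjective

/-- elementwise acyclicity of the subcomplex gives vanishing homology. -/
lemma subsingleton_homology_subCx (hF : Stable K F) (n : ℤ)
    (hac : ∀ z : K.X (n + 1), z ∈ F (n + 1) → K.d (n + 1) (n + 1 + 1) z = 0 →
      ∃ w : K.X n, w ∈ F n ∧ K.d n (n + 1) w = z) :
    Subsingleton ((subCx K F hF).homology (n + 1)) := by
  obtain ⟨e⟩ := Groth.Agent.Lib.KoszulElem.nonempty_homology_linearEquiv (subCx K F hF) n (n + 1)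
    (n + 1 + 1) rfl rfl PUnit.{u + 1} 0 (fun _ => rfl)
    (fun z hz _ => by
      obtain ⟨w, hw, hw'⟩ := hac z.1 z.2 (congrArg Subtype.val hz)
      exact ⟨⟨w, hw⟩, Subtype.ext hw'.symm⟩)
    (fun y => ⟨0, by simp, Subsingleton.elim _ _⟩)
  exact e.toEquiv.subsingleton

end Groth.Agent.Lib.SubQuotCx
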