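import Mathlib.CategoryTheory.Sites.SheafOfTypes
import Mathlib.CategoryTheory.Sites.Sheaf

/-!
# A presheaf covered by subsheaves is a sheaf (helper91)

Generic site-theoretic statement: `J`, `Jz` two topologies on `C`; `F` a `Jz`-sheaf; `Fi ⊂ F` subfunctors which are
`J`-sheaves, such that membership in `Fi` is `J`-local (`hA`), every section of `F` is `J`-locally in some `Fi` (`hc`), and
every `J`-covering sieve is, `Jz`-locally, refined by a single `J`-covering morphism (`hH`).  Then `F` is a `J`-sheaf.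
-/

set_option autoImplicit false
set_option maxHeartbeats 400000

namespace Groth.Agent.Lib.SubSheafCover91

open CategoryTheory Opposite Limits Presieve

universe w v u

variable {C : Type u} [Category.{v} C]

section Defs

variable {ι : Type*} {F : Cᵒᵖ ⥤ Type w} {Fi : ι → Cᵒᵖ ⥤ Type w} (m : ∀ i, Fi i ⟶ F)

/-- The sieve of all `f` such that `x|f` lies in `Fi i`. -/
def memSieve {T : C} (x : F.obj (op T)) (i : ι) : Sieve T where
  arrows T' f := F.map f.op x ∈ Set.range ((m i).app (op T'))
  downward_closed := by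
    rintro Y Z f ⟨a, ha⟩ g
    refine ⟨(Fi i).map g.op a, ?_⟩
    rw [op_comp, Functor.map_comp_apply, ← ha]
    exact NatTrans.naturality_apply (m i) g.op a

theorem memSieve_map {T T' : C} (x : F.obj (op T)) (i : ι) (f : T' ⟶ T) :
    memSieve m (F.map f.op x) i = (memSieve m x i).pullback f := by
  ext Y g
  change F.map g.op (F.map f.op x) ∈ _ ↔ F.map (g ≫ f).op x ∈ _
  rw [op_comp, Functor.map_comp_apply]

/-- The sieve of all `f` such that `x|f` lies in some `Fi i`. -/
def locSieve {T : C} (x : F.obj (op T)) : Sieve T where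
  arrows T' f := ∃ i, F.map f.op x ∈ Set.range ((m i).app (op T'))
  downward_closed := by
    rintro Y Z f ⟨i, hi⟩ g
    exact ⟨i, (memSieve m x i).downward_closed hi g⟩

/-- The presieve of all `j : V ⟶ T` such that a single `J`-covering morphism `h' : Y ⟶ V` has `h' ≫ j ∈ R`. -/
def refPresieve (J : GrothendieckTopology C) {T : C} (R : Sieve T) : Presieve T :=
  fun V j => ∃ (Y : C) (h' : Y ⟶ V), Sieve.generate (Presieve.singleton h') ∈ J V ∧ R (h' ≫ j)

end Defs

section Main

variable (J Jz : GrothendieckTopology C) {ι : Type*} {F : Cᵒᵖ ⥤ Type w} {Fi : ι → Cᵒᵖ ⥤ Type w}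
  (m : ∀ i, Fi i ⟶ F) (hm : ∀ i T, Function.Injective ((m i).app T))
  (hFz : Presieve.IsSheaf Jz F) (hFi : ∀ i, Presieve.IsSheaf J (Fi i))
  (hA : ∀ (T : C) (x : F.obj (op T)) (i : ι), memSieve m x i ∈ J T →
    x ∈ Set.range ((m i).app (op T)))
  (hH : ∀ (T : C) (R : Sieve T), R ∈ J T → Sieve.generate (refPresieve J R) ∈ Jz T)
  (hc : ∀ (T : C) (x : F.obj (op T)), ∃ R ∈ J T, ∀ ⦃T' : C⦄ (f : T' ⟶ T), R.arrows f →
    ∃ i, F.map f.op x ∈ Set.range ((m i).app (op T')))

include hA hH hc in
/-- Every section of `F` lies `Jz`-locally in some `Fi`. -/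
theorem locSieve_mem (T : C) (x : F.obj (op T)) :
    locSieve m x ∈ Jz T := by
  obtain ⟨R, hR, hRx⟩ := hc T x
  refine Jz.superset_covering ?_ (hH T R hR)
  rw [Sieve.generate_le_iff]
  rintro V j ⟨Y, h', hh', hRj⟩
  obtain ⟨i, hi⟩ := hRx _ hRj
  refine ⟨i, ?_⟩
  apply hA V (F.map j.op x) i
  refine J.superset_covering ?_ hh'
  rw [Sieve.generate_le_iff]
  rintro _ _ ⟨⟩
  change F.map h'.op (F.map j.op x) ∈ _
  rw [← Functor.map_comp_apply, ← op_comp]
  exact hi

include hm hFz hFi hA hH hc in
/-- `F` is `J`-separated. -/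
theorem isSeparated : Presieve.IsSeparated J F := by
  intro T R hR
  intro x s s' hs hs'
  -- the sieve where `s` and `s'` agree
  let Z : Sieve T :=
    { arrows := fun V j => F.map j.op s = F.map j.op s'
      downward_closed := by
        intro Y W f hf g
        change F.map (g ≫ f).op s = F.map (g ≫ f).op s'
        rw [op_comp, Functor.map_comp_apply, Functor.map_comp_apply, hf] }
  have hZ : Z ∈ Jz T := by
    refine Jz.superset_covering ?_ (locSieve_mem J Jz m hA hH hc T s)
    intro V j hj
    obtain ⟨i, a, ha⟩ := hj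
    -- `s'|j` lies in `Fi i`
    have h1 : F.map j.op s' ∈ Set.range ((m i).app (op V)) := by
      apply hA V _ i
      refine J.superset_covering ?_ (J.pullback_stable j hR)
      intro W f hf
      change F.map f.op (F.map j.op s') ∈ _
      have e1 : F.map f.op (F.map j.op s') = x (f ≫ j) hf := by
        rw [← Functor.map_comp_apply, ← op_comp]
        exact hs' _ hf
      have e2 : F.map f.op (F.map j.op s) = x (f ≫ j) hf := by
        rw [← Functor.map_comp_apply, ← op_comp]
        exact hs _ hf
      rw [e1, ← e2, ← ha]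
      exact ⟨(Fi i).map f.op a, NatTrans.naturality_apply (m i) f.op a⟩
    obtain ⟨a', ha'⟩ := h1
    have haa : a = a' := by
      refine ((hFi i).isSeparated _ (J.pullback_stable j hR)).ext ?_
      intro W f hf
      apply hm i
      have n1 := NatTrans.naturality_apply (m i) f.op a
      have n2 := NatTrans.naturality_apply (m i) f.op a'
      rw [n1, n2, ha, ha', ← Functor.map_comp_apply, ← Functor.map_comp_apply,
        ← op_comp]
      exact (hs _ hf).trans (hs' _ hf).symm
    change F.map j.op s = F.map j.op s'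
    rw [← ha, ← ha', haa]
  exact (hFz.isSeparated _ hZ).ext (fun V j hj => hj)

theorem fam_congr {T : C} {R : Sieve T} (x : FamilyOfElements F R.arrows) {Y : C} {f f' : Y ⟶ T}
    (e : f = f') (h : R f) (h' : R f') : x f h = x f' h' := by
  subst e
  rfl

include hm hFz hFi hA hH hc in
/-- **`F` is a `J`-sheaf.** -/
theorem isSheaf : Presieve.IsSheaf J F := by
  have hsep := isSeparated J Jz m hm hFz hFi hA hH hc
  refine hsep.isSheaf ?_
  intro T R hR x hx
  have hxs := hx.to_sieveCompatible
  -- the sieve of arrows along which the family has an amalgamation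
  let Z : Sieve T :=
    { arrows := fun T' f => ∃ s : F.obj (op T'), ∀ ⦃T'' : C⦄ (g : T'' ⟶ T') (hg : R (g ≫ f)),
        F.map g.op s = x (g ≫ f) hg
      downward_closed := by
        rintro Y W f ⟨s, hs⟩ k
        refine ⟨F.map k.op s, ?_⟩
        intro T'' g hg
        have hg' : R ((g ≫ k) ≫ f) := by rwa [Category.assoc]
        rw [← Functor.map_comp_apply, ← op_comp, hs (g ≫ k) hg']
        exact fam_congr x (Category.assoc _ _ _) _ _ }
  -- refinement of `R` where the family lies in some `Fi`
  let R₂ : Sieve T :=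
    { arrows := fun Y f => ∃ (hf : R f) (i : ι), x f hf ∈ Set.range ((m i).app (op Y))
      downward_closed := by
        rintro Y W f ⟨hf, i, b, hb⟩ g
        refine ⟨R.downward_closed hf g, i, (Fi i).map g.op b, ?_⟩
        rw [hxs f g hf, ← hb]
        exact NatTrans.naturality_apply (m i) g.op b }
  have hR₂ : R₂ ∈ J T := by
    refine J.transitive hR R₂ ?_
    intro Y f hf
    obtain ⟨R', hR', hR'x⟩ := hc Y (x f hf)
    refine J.superset_covering ?_ hR'
    intro W g hg
    obtain ⟨i, hi⟩ := hR'x g hg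
    refine ⟨R.downward_closed hf g, i, ?_⟩
    rw [hxs f g hf]
    exact hi
  have hZ : Z ∈ Jz T := by
    refine Jz.superset_covering ?_ (hH T R₂ hR₂)
    rw [Sieve.generate_le_iff]
    rintro V j ⟨Y, h', hh', hRh, i, b, hb⟩
    -- every member of the restricted family lies in `Fi i`
    have key : ∀ ⦃W : C⦄ (f : W ⟶ V) (hf : R (f ≫ j)),
        x (f ≫ j) hf ∈ Set.range ((m i).app (op W)) := by
      intro W f hf
      apply hA W _ i
      refine J.superset_covering ?_ (J.pullback_stable f hh')
      rintro W' k ⟨_, l, _, ⟨⟩, hl⟩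
      change F.map k.op (x (f ≫ j) hf) ∈ _
      refine ⟨(Fi i).map l.op b, ?_⟩
      have n1 := NatTrans.naturality_apply (m i) l.op b
      rw [n1, hb, ← hxs (h' ≫ j) l hRh, ← hxs (f ≫ j) k hf]
      exact fam_congr x (by rw [← Category.assoc, hl, Category.assoc]) _ _
    choose a ha using key
    let afam : FamilyOfElements (Fi i) (R.pullback j).arrows := fun W f hf => a f hf
    have hcomp : afam.Compatible := by
      intro Y₁ Y₂ W g₁ g₂ f₁ f₂ h₁ h₂ e
      apply hm i
      have n1 := NatTrans.naturality_apply (m i) g₁.op (afam f₁ h₁)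
      have n2 := NatTrans.naturality_apply (m i) g₂.op (afam f₂ h₂)
      rw [n1, n2]
      change F.map g₁.op ((m i).app _ (a f₁ h₁)) = F.map g₂.op ((m i).app _ (a f₂ h₂))
      rw [ha, ha]
      exact hx g₁ g₂ h₁ h₂ (by rw [← Category.assoc, e, Category.assoc])
    obtain ⟨a₀, ha₀, -⟩ := hFi i _ (J.pullback_stable j hR) afam hcomp
    refine ⟨(m i).app _ a₀, ?_⟩
    intro T'' g hg
    have n1 := NatTrans.naturality_apply (m i) g.op a₀
    rw [← n1, ha₀ g hg]
    exact ha g hg
  -- the family of local amalgamations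
  let y : FamilyOfElements F Z.arrows := fun T' f hf => hf.choose
  have hy : ∀ ⦃T' : C⦄ (f : T' ⟶ T) (hf : Z f) ⦃T'' : C⦄ (g : T'' ⟶ T') (hg : R (g ≫ f)),
      F.map g.op (y f hf) = x (g ≫ f) hg := fun T' f hf => hf.choose_spec
  have hycomp : y.Compatible := by
    rw [compatible_iff_sieveCompatible]
    intro Y W f g hf
    refine (hsep _ (J.pullback_stable (g ≫ f) hR)).ext ?_
    intro W' k hk
    have hk' : R ((k ≫ g) ≫ f) := by rwa [Category.assoc]
    rw [hy (g ≫ f) _ k hk, ← Functor.map_comp_apply, ← op_comp, hy f hf (k ≫ g) hk']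
    exact fam_congr x (Category.assoc _ _ _).symm _ _
  obtain ⟨s, hs, -⟩ := hFz Z hZ y hycomp
  refine ⟨s, ?_⟩
  intro Y f hf
  have hfZ : Z f := ⟨x f hf, fun T'' g hg => (hxs f g hf).symm⟩
  rw [hs f hfZ]
  have h1 := hy f hfZ (𝟙 Y) (by rwa [Category.id_comp])
  rw [op_id, F.map_id] at h1
  exact h1.trans (fam_congr x (Category.id_comp f) _ _)

end Main

end Groth.Agent.Lib.SubSheafCover91
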