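import Mathlib

/-!
# Coefficient criterion over a projective module and descent of submodules (helper55)

Mathlib only.
* `mem_range_rTensor_of_forall_contract`: `P` projective over `S`, `N ≤ X`, `z ∈ X ⊗[S] P`; if every
  contraction `(id ⊗ f) z` (`f : P → S`) lies in `N` then `z` comes from `N ⊗[S] P`.
* `mem_range_rTensor_of_forall_contractR`: the same for `y ∈ X ⊗[R] C` when `S ⊗[R] C` is projective
  over `S`, contracting against `R`-linear maps `g : C → S`.
* `baseChange_mkQ_eq_zero_of_descent`: faithfully flat descent of a submodule `N ≤ S ⊗[R] V`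
  satisfying the descent condition: `N` is generated by `W = {v | 1 ⊗ v ∈ N}`.
-/

set_option autoImplicit false
universe u v w w'
open TensorProduct

namespace Groth.Agent.Lib.SubcomodDesc55

section P1

variable {S : Type u} [CommRing S] {X : Type v} {P : Type w} [AddCommGroup X] [Module S X]
  [AddCommGroup P] [Module S P]

theorem mem_range_rTensor_of_forall_contract [Module.Projective S P] (N : Submodule S X)
    (z : X ⊗[S] P)
    (h : ∀ f : P →ₗ[S] S, TensorProduct.rid S X (f.lTensor X z) ∈ N) :
    z ∈ LinearMap.range (N.subtype.rTensor P) := by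
  classical
  obtain ⟨s, hs⟩ := Module.Projective.out (R := S) (P := P)
  let ξ : X ⊗[S] P →ₗ[S] (P →₀ X) :=
    (TensorProduct.finsuppScalarRight S S X P).toLinearMap ∘ₗ s.lTensor X
  let back : (P →₀ X) →ₗ[S] X ⊗[S] P :=
    Finsupp.lsum S (fun e => (TensorProduct.mk S X P).flip e)
  have hback : ∀ z : X ⊗[S] P, back (ξ z) = z := by
    intro z
    induction z using TensorProduct.induction_on with
    | zero => simp
    | add a b ha hb => rw [map_add, map_add, ha, hb]
    | tmul x p =>
      have h1 : ξ (x ⊗ₜ[S] p) = (s p).sum fun i n => Finsupp.single i (n • x) := by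
        simp only [ξ, LinearMap.comp_apply, LinearMap.lTensor_tmul, LinearEquiv.coe_coe]
        exact TensorProduct.finsuppScalarRight_apply_tmul x (s p)
      rw [h1]
      have h2 : back ((s p).sum fun i n => Finsupp.single i (n • x)) =
          (s p).sum fun i n => (n • x) ⊗ₜ[S] i := by
        rw [Finsupp.sum, map_sum]
        refine Finset.sum_congr rfl fun i _ => ?_
        simp [back, TensorProduct.smul_tmul']
      rw [h2]
      have h3 : (s p).sum (fun i n => (n • x) ⊗ₜ[S] i) = x ⊗ₜ[S] ((s p).sum fun i n => n • i) := by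
        rw [Finsupp.sum, Finsupp.sum, TensorProduct.tmul_sum]
        refine Finset.sum_congr rfl fun i _ => ?_
        exact TensorProduct.smul_tmul _ _ _
      rw [h3]
      have h4 := hs p
      rw [Finsupp.linearCombination_apply] at h4
      simp only [id_eq] at h4
      rw [h4]
  have hξ : ∀ (z : X ⊗[S] P) (e : P),
      ξ z e = TensorProduct.rid S X (((Finsupp.lapply e).comp s).lTensor X z) := by
    intro z e
    induction z using TensorProduct.induction_on with
    | zero => simp
    | add a b ha hb => simp only [map_add, Finsupp.coe_add, Pi.add_apply, ha, hb]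
    | tmul x p =>
      simp only [ξ, LinearMap.comp_apply, LinearMap.lTensor_tmul, LinearEquiv.coe_coe,
        TensorProduct.rid_tmul, Finsupp.lapply_apply]
      exact TensorProduct.finsuppScalarRight_apply_tmul_apply x (s p) e
  rw [← hback z]
  show (Finsupp.lsum S (fun e => (TensorProduct.mk S X P).flip e)) (ξ z) ∈ _
  rw [Finsupp.lsum_apply, Finsupp.sum]
  refine Submodule.sum_mem _ fun e _ => ?_
  have hmem : ξ z e ∈ N := by rw [hξ]; exact h _
  exact ⟨(⟨ξ z e, hmem⟩ : N) ⊗ₜ[S] e, by simp⟩

end P1

section P1R

variable {R : Type u} [CommRing R] {S : Type v} [CommRing S] [Algebra R S]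
  {C : Type w} [AddCommGroup C] [Module R C]
  {X : Type w'} [AddCommGroup X] [Module R X] [Module S X] [IsScalarTower R S X]

/-- `x ⊗ c ↦ g c • x`. -/
noncomputable def contract (g : C →ₗ[R] S) : X ⊗[R] C →ₗ[R] X :=
  TensorProduct.lift (LinearMap.mk₂ R (fun (x : X) (c : C) => g c • x)
    (fun x y c => smul_add _ _ _) (fun r x c => by rw [smul_comm])
    (fun x c d => by rw [map_add, add_smul]) (fun r x c => by rw [map_smul, smul_assoc]))

@[simp] theorem contract_tmul (g : C →ₗ[R] S) (x : X) (c : C) :
    contract g (x ⊗ₜ[R] c) = g c • x := by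
  simp [contract]

theorem contract_smul (g : C →ₗ[R] S) (s : S) (y : X ⊗[R] C) :
    contract g (s • y) = s • contract g y := by
  induction y using TensorProduct.induction_on with
  | zero => simp
  | add a b ha hb => simp only [smul_add, map_add, ha, hb]
  | tmul x c => rw [TensorProduct.smul_tmul', contract_tmul, contract_tmul, smul_comm]

theorem mem_range_rTensor_of_forall_contractR [Module.Projective S (S ⊗[R] C)]
    (N : Submodule S X) (y : X ⊗[R] C) (h : ∀ g : C →ₗ[R] S, contract g y ∈ N) :
    y ∈ LinearMap.range ((N.subtype.restrictScalars R).rTensor C) := by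
  let z : X ⊗[S] (S ⊗[R] C) := (AlgebraTensorModule.cancelBaseChange R S S X C).symm y
  have hz : ∀ f : (S ⊗[R] C) →ₗ[S] S, TensorProduct.rid S X (f.lTensor X z) ∈ N := by
    intro f
    have h1 : ∀ y : X ⊗[R] C,
        TensorProduct.rid S X (f.lTensor X ((AlgebraTensorModule.cancelBaseChange R S S X C).symm y)) =
          contract ((f.restrictScalars R).comp (TensorProduct.mk R S C 1)) y := by
      intro y
      induction y using TensorProduct.induction_on with
      | zero => simp
      | add a b ha hb => simp only [map_add, ha, hb]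
      | tmul x c => simp
    rw [h1]
    exact h _
  obtain ⟨zN, hzN⟩ := mem_range_rTensor_of_forall_contract N z hz
  have h2 : ∀ t : (N : Type w') ⊗[S] (S ⊗[R] C),
      AlgebraTensorModule.cancelBaseChange R S S X C (N.subtype.rTensor (S ⊗[R] C) t) =
        (N.subtype.restrictScalars R).rTensor C
          (AlgebraTensorModule.cancelBaseChange R S S N C t) := by
    intro t
    induction t using TensorProduct.induction_on with
    | zero => simp
    | add a b ha hb => simp only [map_add, ha, hb]
    | tmul n p =>
      induction p using TensorProduct.induction_on with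
      | zero => simp
      | add a b ha hb => simp only [TensorProduct.tmul_add, map_add, ha, hb]
      | tmul s c => simp [AlgebraTensorModule.cancelBaseChange_tmul]
  refine ⟨AlgebraTensorModule.cancelBaseChange R S S N C zN, ?_⟩
  rw [← h2, hzN]
  exact (AlgebraTensorModule.cancelBaseChange R S S X C).apply_symm_apply y

end P1R

section Descent

variable {R : Type u} [CommRing R] {S : Type v} [CommRing S] [Algebra R S]
  [Module.FaithfullyFlat R S] {V : Type w} [AddCommGroup V] [Module R V]

/-- The descended submodule `{v | 1 ⊗ v ∈ N}`. -/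
def descSub (N : Submodule S (S ⊗[R] V)) : Submodule R V :=
  (N.restrictScalars R).comap (TensorProduct.mk R S V 1)

theorem mem_descSub (N : Submodule S (S ⊗[R] V)) (v : V) :
    v ∈ descSub N ↔ (1 : S) ⊗ₜ[R] v ∈ N := Iff.rfl

/-- Descent: if `p₁^* N ⊆ S ⊗ N` then `N` is killed by `S ⊗ V → S ⊗ (V / W)`. -/
theorem baseChange_mkQ_eq_zero_of_descent (N : Submodule S (S ⊗[R] V))
    (hN : ∀ x ∈ N, (TensorProduct.mk R S V 1).baseChange S x ∈
      LinearMap.range ((N.subtype.restrictScalars R).baseChange S))
    (x : S ⊗[R] V) (hx : x ∈ N) : (descSub N).mkQ.baseChange S x = 0 := by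
  let κ : V →ₗ[R] (S ⊗[R] V) ⧸ N := (N.mkQ.restrictScalars R).comp (TensorProduct.mk R S V 1)
  have hκ : descSub N ≤ LinearMap.ker κ := by
    intro v hv
    rw [LinearMap.mem_ker]
    exact (Submodule.Quotient.mk_eq_zero N).2 hv
  let κbar : V ⧸ descSub N →ₗ[R] (S ⊗[R] V) ⧸ N := (descSub N).liftQ κ hκ
  have hκbar : Function.Injective κbar := by
    rw [← LinearMap.ker_eq_bot]
    apply Submodule.ker_liftQ_eq_bot
    intro v hv
    rw [LinearMap.mem_ker] at hv
    exact (Submodule.Quotient.mk_eq_zero N).1 hv
  have hflat : Function.Injective (κbar.baseChange S) :=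
    Module.Flat.lTensor_preserves_injective_linearMap (M := S) κbar hκbar
  apply hflat
  rw [map_zero]
  have h1 : κbar.baseChange S ((descSub N).mkQ.baseChange S x) = κ.baseChange S x := by
    rw [← LinearMap.comp_apply, ← LinearMap.baseChange_comp]
    congr 2
  rw [h1]
  have h2 : κ.baseChange S x = (N.mkQ.restrictScalars R).baseChange S
      ((TensorProduct.mk R S V 1).baseChange S x) := by
    rw [← LinearMap.comp_apply, ← LinearMap.baseChange_comp]
  rw [h2]
  obtain ⟨t, ht⟩ := hN x hx
  rw [← ht, ← LinearMap.comp_apply, ← LinearMap.baseChange_comp]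
  have h3 : (N.mkQ.restrictScalars R).comp (N.subtype.restrictScalars R) = 0 := by
    ext n
    simp
  rw [h3, LinearMap.baseChange_zero]
  rfl

end Descent

end Groth.Agent.Lib.SubcomodDesc55
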