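import Groth.Agent.Lib.SubcomodDesc55a
import Groth.Prelude.Def_HopfRep

/-!
# The coefficient span of a submodule of a comodule after a projective base change (helper55)

`R` a commutative ring, `C` an `R`-coalgebra, `V` a `C`-comodule, `M ≤ V`, `S` a commutative
`R`-algebra with `S ⊗ C` projective over `S`.  `coefSpan S M ≤ S ⊗ V` is the `S`-span of all
coefficients `Σ g(c_i) ⊗ v_i` (`g : C → S`, `ρ m = Σ v_i ⊗ c_i`, `m ∈ M`).  It is a subcomodule
(`rhoX_mem`), contains the coaction of `M` (`toS_coact_mem`) and satisfies the descent condition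
(`descent_cond`).
-/

set_option autoImplicit false
universe u v w w'
open TensorProduct

namespace Groth.Agent.Lib.SubcomodDesc55

section Gen

variable {R : Type u} [CommRing R] {C : Type v} [AddCommGroup C] [Module R C]
  {V : Type w} [AddCommGroup V] [Module R V]
  (S : Type w') [CommRing S] [Algebra R S]

/-- `v ⊗ c ↦ g c ⊗ v`. -/
noncomputable def Phi (g : C →ₗ[R] S) : V ⊗[R] C →ₗ[R] S ⊗[R] V :=
  (TensorProduct.comm R V S).toLinearMap ∘ₗ g.lTensor V

@[simp] theorem Phi_tmul (g : C →ₗ[R] S) (v : V) (c : C) :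
    Phi S g (v ⊗ₜ[R] c) = g c ⊗ₜ[R] v := by
  simp [Phi]

/-- `v ⊗ c ↦ (1 ⊗ v) ⊗ c`. -/
noncomputable def toS : V ⊗[R] C →ₗ[R] (S ⊗[R] V) ⊗[R] C :=
  (TensorProduct.mk R S V 1).rTensor C

@[simp] theorem toS_tmul (v : V) (c : C) :
    toS S (v ⊗ₜ[R] c) = ((1 : S) ⊗ₜ[R] v) ⊗ₜ[R] c := by
  simp [toS]

theorem contract_toS (g : C →ₗ[R] S) (y : V ⊗[R] C) :
    contract g (toS S y) = Phi S g y := by
  induction y using TensorProduct.induction_on with
  | zero => simp
  | add a b ha hb => simp only [map_add, ha, hb]
  | tmul v c => simp [TensorProduct.smul_tmul']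

theorem baseChange_mk_Phi (g : C →ₗ[R] S) (y : V ⊗[R] C) :
    (TensorProduct.mk R S V 1).baseChange S (Phi S g y) =
      TensorProduct.comm R (S ⊗[R] V) S (g.lTensor (S ⊗[R] V) (toS S y)) := by
  induction y using TensorProduct.induction_on with
  | zero => simp
  | add a b ha hb => simp only [map_add, ha, hb]
  | tmul v c => simp

variable {S}

theorem comm_lTensor_rTensor_subtype {X : Type*} [AddCommGroup X] [Module R X] [Module S X]
    [IsScalarTower R S X] (N : Submodule S X) (g : C →ₗ[R] S) (t : (N : Type _) ⊗[R] C) :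
    TensorProduct.comm R X S (g.lTensor X ((N.subtype.restrictScalars R).rTensor C t)) =
      (N.subtype.restrictScalars R).baseChange S (TensorProduct.comm R N S (g.lTensor N t)) := by
  induction t using TensorProduct.induction_on with
  | zero => simp
  | add a b ha hb => simp only [map_add, ha, hb]
  | tmul n c => simp

theorem smul_rTensor_subtype {X : Type*} [AddCommGroup X] [Module R X] [Module S X]
    [IsScalarTower R S X] (N : Submodule S X) (s : S) (t : (N : Type _) ⊗[R] C) :
    s • ((N.subtype.restrictScalars R).rTensor C t) =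
      (N.subtype.restrictScalars R).rTensor C (s • t) := by
  induction t using TensorProduct.induction_on with
  | zero => simp
  | add a b ha hb => simp only [smul_add, map_add, ha, hb]
  | tmul n c => simp [TensorProduct.smul_tmul']

end Gen

section Coalg

variable {R : Type u} [CommRing R] {C : Type v} [AddCommGroup C] [Module R C] [Coalgebra R C]
  {S : Type w'} [CommRing S] [Algebra R S]

/-- `x ⊗ c ↦ Σ g(c₂) • (x ⊗ c₁)`. -/
noncomputable def Gam {X : Type w} [AddCommGroup X] [Module R X] [Module S X] [IsScalarTower R S X]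
    (g : C →ₗ[R] S) : X ⊗[R] C →ₗ[R] X ⊗[R] C :=
  (contract (X := X ⊗[R] C) g) ∘ₗ (TensorProduct.assoc R X C C).symm.toLinearMap ∘ₗ
    (CoalgebraStruct.comul (R := R) (A := C)).lTensor X

theorem Gam_rTensor_subtype {X : Type w} [AddCommGroup X] [Module R X] [Module S X]
    [IsScalarTower R S X] (N : Submodule S X) (g : C →ₗ[R] S) (t : (N : Type w) ⊗[R] C) :
    Gam (X := X) g ((N.subtype.restrictScalars R).rTensor C t) =
      (N.subtype.restrictScalars R).rTensor C (Gam (X := N) g t) := by
  induction t using TensorProduct.induction_on with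
  | zero => simp
  | add a b ha hb => simp only [map_add, ha, hb]
  | tmul n c =>
    simp only [Gam, LinearMap.comp_apply, LinearMap.rTensor_tmul, LinearMap.lTensor_tmul,
      LinearEquiv.coe_coe, LinearMap.coe_restrictScalars, Submodule.subtype_apply]
    generalize CoalgebraStruct.comul (R := R) c = u
    induction u using TensorProduct.induction_on with
    | zero => simp
    | add a b ha hb => simp only [TensorProduct.tmul_add, map_add, ha, hb]
    | tmul c d => simp [TensorProduct.smul_tmul']

variable {V : Type w} [AddCommGroup V] [Module R V] [cV : HopfRep.Comod R C V]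

variable (S) in
/-- `v ⊗ (c ⊗ c') ↦ (g c' ⊗ v) ⊗ c`. -/
noncomputable def Omg (g : C →ₗ[R] S) : V ⊗[R] (C ⊗[R] C) →ₗ[R] (S ⊗[R] V) ⊗[R] C :=
  (Phi S g).rTensor C ∘ₗ (TensorProduct.assoc R V C C).symm.toLinearMap ∘ₗ
    (TensorProduct.comm R C C).toLinearMap.lTensor V

@[simp] theorem Omg_tmul (g : C →ₗ[R] S) (v : V) (c c' : C) :
    Omg S g (v ⊗ₜ[R] (c ⊗ₜ[R] c')) = (g c' ⊗ₜ[R] v) ⊗ₜ[R] c := by
  simp [Omg]

theorem Omg_lTensor_comul (g : C →ₗ[R] S) (y : V ⊗[R] C) :
    Omg S g ((CoalgebraStruct.comul (R := R) (A := C)).lTensor V y) =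
      Gam (X := S ⊗[R] V) g (toS S y) := by
  induction y using TensorProduct.induction_on with
  | zero => simp
  | add a b ha hb => simp only [map_add, ha, hb]
  | tmul v c =>
    simp only [Gam, LinearMap.comp_apply, LinearMap.lTensor_tmul, toS_tmul, LinearEquiv.coe_coe]
    generalize CoalgebraStruct.comul (R := R) c = u
    induction u using TensorProduct.induction_on with
    | zero => simp
    | add a b ha hb => simp only [TensorProduct.tmul_add, map_add, ha, hb]
    | tmul c d => simp [TensorProduct.smul_tmul']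

variable (S) in
/-- The base-changed coaction `S ⊗ V → (S ⊗ V) ⊗ C`. -/
noncomputable def rhoX : S ⊗[R] V →ₗ[R] (S ⊗[R] V) ⊗[R] C :=
  (TensorProduct.assoc R S V C).symm.toLinearMap ∘ₗ
    (HopfRep.Comod.coact (k := R) (A := C) (V := V)).lTensor S

theorem rhoX_tmul (s : S) (v : V) :
    rhoX S (s ⊗ₜ[R] v) = (TensorProduct.assoc R S V C).symm
      (s ⊗ₜ[R] HopfRep.Comod.coact (k := R) (A := C) v) := by
  simp [rhoX]

theorem rhoX_smul (s : S) (x : S ⊗[R] V) :
    rhoX (C := C) S (s • x) = s • rhoX (C := C) S x := by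
  induction x using TensorProduct.induction_on with
  | zero => simp
  | add a b ha hb => simp only [smul_add, map_add, ha, hb]
  | tmul s' v =>
    rw [TensorProduct.smul_tmul', rhoX_tmul, rhoX_tmul]
    generalize HopfRep.Comod.coact (k := R) (A := C) v = u
    induction u using TensorProduct.induction_on with
    | zero => simp
    | add a b ha hb => simp only [TensorProduct.tmul_add, map_add, smul_add, ha, hb]
    | tmul v' c => simp [TensorProduct.smul_tmul']

theorem Omg_assoc_tmul (g : C →ₗ[R] S) (u : V ⊗[R] C) (c : C) :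
    Omg S g (TensorProduct.assoc R V C C (u ⊗ₜ[R] c)) =
      (TensorProduct.assoc R S V C).symm (g c ⊗ₜ[R] u) := by
  induction u using TensorProduct.induction_on with
  | zero => simp
  | add a b ha hb => simp only [TensorProduct.add_tmul, TensorProduct.tmul_add, map_add, ha, hb]
  | tmul v' c' => simp

theorem Omg_assoc_rTensor_coact (g : C →ₗ[R] S) (y : V ⊗[R] C) :
    Omg S g (TensorProduct.assoc R V C C
      ((HopfRep.Comod.coact (k := R) (A := C) (V := V)).rTensor C y)) = rhoX S (Phi S g y) := by
  induction y using TensorProduct.induction_on with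
  | zero => simp
  | add a b ha hb => simp only [map_add, ha, hb]
  | tmul v c => rw [LinearMap.rTensor_tmul, Omg_assoc_tmul, Phi_tmul, rhoX_tmul]

/-- Key identity: the coaction of a coefficient. -/
theorem rhoX_Phi_coact (g : C →ₗ[R] S) (m : V) :
    rhoX S (Phi S g (HopfRep.Comod.coact (k := R) (A := C) m)) =
      Gam (X := S ⊗[R] V) g (toS S (HopfRep.Comod.coact (k := R) (A := C) m)) := by
  rw [← Omg_assoc_rTensor_coact, ← Omg_lTensor_comul]
  congr 1
  exact LinearMap.congr_fun (HopfRep.Comod.coassoc (k := R) (A := C) (V := V)) m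

variable (S) in
/-- The `S`-span of all coefficients of `ρ m`, `m ∈ M`. -/
def coefSpan (M : Submodule R V) : Submodule S (S ⊗[R] V) :=
  Submodule.span S {x | ∃ (g : C →ₗ[R] S) (m : V), m ∈ M ∧
    x = Phi S g (HopfRep.Comod.coact (k := R) (A := C) m)}

variable [Module.Projective S (S ⊗[R] C)] (M : Submodule R V)

theorem toS_coact_mem {m : V} (hm : m ∈ M) :
    toS S (HopfRep.Comod.coact (k := R) (A := C) m) ∈
      LinearMap.range (((coefSpan (C := C) S M).subtype.restrictScalars R).rTensor C) := by
  apply mem_range_rTensor_of_forall_contractR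
  intro g
  rw [contract_toS]
  exact Submodule.subset_span ⟨g, m, hm, rfl⟩

theorem descent_cond (x : S ⊗[R] V) (hx : x ∈ coefSpan (C := C) S M) :
    (TensorProduct.mk R S V 1).baseChange S x ∈
      LinearMap.range (((coefSpan (C := C) S M).subtype.restrictScalars R).baseChange S) := by
  induction hx using Submodule.span_induction with
  | mem x hx =>
    obtain ⟨g, m, hm, rfl⟩ := hx
    obtain ⟨t, ht⟩ := toS_coact_mem (S := S) (C := C) M hm
    rw [baseChange_mk_Phi, ← ht, comm_lTensor_rTensor_subtype]
    exact ⟨_, rfl⟩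
  | zero => simp
  | add x y _ _ hx hy => rw [map_add]; exact Submodule.add_mem _ hx hy
  | smul s x _ hx => rw [map_smul]; exact Submodule.smul_mem _ s hx

theorem rhoX_mem (x : S ⊗[R] V) (hx : x ∈ coefSpan (C := C) S M) :
    rhoX (C := C) S x ∈
      LinearMap.range (((coefSpan (C := C) S M).subtype.restrictScalars R).rTensor C) := by
  induction hx using Submodule.span_induction with
  | mem x hx =>
    obtain ⟨g, m, hm, rfl⟩ := hx
    obtain ⟨t, ht⟩ := toS_coact_mem (S := S) (C := C) M hm
    rw [rhoX_Phi_coact, ← ht, Gam_rTensor_subtype]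
    exact ⟨_, rfl⟩
  | zero => simp
  | add x y _ _ hx hy => rw [map_add]; exact Submodule.add_mem _ hx hy
  | smul s x _ hx =>
    obtain ⟨t, ht⟩ := hx
    rw [rhoX_smul, ← ht, smul_rTensor_subtype]
    exact ⟨_, rfl⟩

end Coalg

end Groth.Agent.Lib.SubcomodDesc55
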