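import Groth.Agent.Lib.SubcomodDesc55b

/-!
# The smallest subcomodule containing a submodule, under a faithfully flat projective base change
(helper55; SGA3 VI_B 11.8)
-/

set_option autoImplicit false
universe u v w w'
open TensorProduct

namespace Groth.Agent.Lib.SubcomodDesc55

section Fin

variable {R : Type u} [CommRing R] {S : Type v} [CommRing S] [Algebra R S]
  {C : Type w} [AddCommGroup C] [Module R C]
  {X : Type w'} [AddCommGroup X] [Module R X] [Module S X] [IsScalarTower R S X]

theorem exists_finset_contract (N : Submodule S X) (t : (N : Type w') ⊗[R] C) :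
    ∃ F : Finset X, (↑F ⊆ (N : Set X)) ∧ ∀ g : C →ₗ[R] S,
      contract g ((N.subtype.restrictScalars R).rTensor C t) ∈ Submodule.span S (F : Set X) := by
  classical
  induction t using TensorProduct.induction_on with
  | zero => exact ⟨∅, by simp, fun g => by simp⟩
  | add a b ha hb =>
    obtain ⟨Fa, ha1, ha2⟩ := ha
    obtain ⟨Fb, hb1, hb2⟩ := hb
    refine ⟨Fa ∪ Fb, ?_, fun g => ?_⟩
    · rw [Finset.coe_union]
      exact Set.union_subset ha1 hb1
    · rw [map_add, map_add]
      refine Submodule.add_mem _ ?_ ?_
      · exact Submodule.span_mono (by rw [Finset.coe_union]; exact Set.subset_union_left) (ha2 g)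
      · exact Submodule.span_mono (by rw [Finset.coe_union]; exact Set.subset_union_right) (hb2 g)
  | tmul n c =>
    refine ⟨{(n : X)}, by simp, fun g => ?_⟩
    simp only [LinearMap.rTensor_tmul, LinearMap.coe_restrictScalars, Submodule.subtype_apply,
      contract_tmul, Finset.coe_singleton]
    exact Submodule.smul_mem _ _ (Submodule.subset_span rfl)

end Fin

section Main

variable {R : Type u} [CommRing R] {C : Type v} [AddCommGroup C] [Module R C] [Coalgebra R C]
  {V : Type w} [AddCommGroup V] [Module R V] [cV : HopfRep.Comod R C V]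
  (S : Type w') [CommRing S] [Algebra R S] [Module.FaithfullyFlat R S]
  (M : Submodule R V)

/-- The smallest subcomodule of `V` containing `M`. -/
def smallest : Submodule R V := descSub (coefSpan (C := C) S M)

theorem le_smallest : M ≤ smallest (C := C) S M := by
  intro m hm
  rw [smallest, mem_descSub]
  have h3 : ∀ y : V ⊗[R] C,
      Phi S ((Algebra.linearMap R S).comp (CoalgebraStruct.counit (R := R) (A := C))) y =
        TensorProduct.comm R V S ((Algebra.linearMap R S).lTensor V
          ((CoalgebraStruct.counit (R := R) (A := C)).lTensor V y)) := by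
    intro y
    induction y using TensorProduct.induction_on with
    | zero => simp
    | add a b ha hb => simp only [map_add, ha, hb]
    | tmul v c => simp
  have h2 := LinearMap.congr_fun (HopfRep.Comod.counit_comp (k := R) (A := C) (V := V)) m
  rw [LinearMap.comp_apply] at h2
  have h1 : (1 : S) ⊗ₜ[R] m =
      Phi S ((Algebra.linearMap R S).comp (CoalgebraStruct.counit (R := R) (A := C)))
        (HopfRep.Comod.coact (k := R) (A := C) m) := by
    rw [h3, h2]
    simp
  rw [h1]
  exact Submodule.subset_span ⟨_, m, hm, rfl⟩

theorem smallest_le {W' : Submodule R V} (hW' : HopfRep.IsSubcomod (k := R) (A := C) W')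
    (hM : M ≤ W') : smallest (C := C) S M ≤ W' := by
  intro v hv
  rw [smallest, mem_descSub] at hv
  have hker : coefSpan (C := C) S M ≤ LinearMap.ker (W'.mkQ.baseChange S) := by
    rw [coefSpan, Submodule.span_le]
    rintro x ⟨g, m, hm, rfl⟩
    obtain ⟨t, ht⟩ := hW' m (hM hm)
    rw [SetLike.mem_coe, LinearMap.mem_ker, ← ht]
    have hgen : ∀ t : (W' : Type w) ⊗[R] C,
        W'.mkQ.baseChange S (Phi S g (W'.subtype.rTensor C t)) = 0 := by
      intro t
      induction t using TensorProduct.induction_on with
      | zero => simp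
      | add a b ha hb => simp only [map_add, ha, hb, add_zero]
      | tmul w c =>
        simp only [LinearMap.rTensor_tmul, Submodule.subtype_apply, Phi_tmul,
          LinearMap.baseChange_tmul, Submodule.mkQ_apply]
        rw [(Submodule.Quotient.mk_eq_zero W').2 w.2, TensorProduct.tmul_zero]
    exact hgen t
  have h0 : W'.mkQ.baseChange S ((1 : S) ⊗ₜ[R] v) = 0 := hker hv
  rw [LinearMap.baseChange_tmul] at h0
  have h1 : W'.mkQ v = 0 :=
    Module.FaithfullyFlat.tensorProduct_mk_injective (A := R) (B := S) (V ⧸ W')
      (by rw [map_zero]; exact h0)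
  exact (Submodule.Quotient.mk_eq_zero W').1 h1

variable [Module.Projective S (S ⊗[R] C)]

theorem isSubcomod_smallest : HopfRep.IsSubcomod (k := R) (A := C) (smallest (C := C) S M) := by
  intro w hw
  have hwN : (1 : S) ⊗ₜ[R] w ∈ coefSpan (C := C) S M := hw
  have h1 : rhoX (C := C) S ((1 : S) ⊗ₜ[R] w) =
      toS S (HopfRep.Comod.coact (k := R) (A := C) w) := by
    rw [rhoX_tmul]
    generalize HopfRep.Comod.coact (k := R) (A := C) w = u
    induction u using TensorProduct.induction_on with
    | zero => simp
    | add a b ha hb => simp only [TensorProduct.tmul_add, map_add, ha, hb]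
    | tmul v c => simp
  obtain ⟨t, ht⟩ := rhoX_mem (S := S) (C := C) M _ hwN
  rw [h1] at ht
  have hexact := rTensor_exact C (LinearMap.exact_subtype_mkQ (smallest (C := C) S M))
    (Submodule.mkQ_surjective (smallest (C := C) S M))
  refine (hexact _).1 ?_
  apply Module.FaithfullyFlat.tensorProduct_mk_injective (A := R) (B := S)
    ((V ⧸ smallest (C := C) S M) ⊗[R] C)
  rw [map_zero]
  have h2 : ∀ y : V ⊗[R] C,
      (TensorProduct.mk R S ((V ⧸ smallest (C := C) S M) ⊗[R] C) 1)
          ((smallest (C := C) S M).mkQ.rTensor C y) =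
        TensorProduct.assoc R S (V ⧸ smallest (C := C) S M) C
          ((((smallest (C := C) S M).mkQ.baseChange S).restrictScalars R).rTensor C (toS S y)) := by
    intro y
    induction y using TensorProduct.induction_on with
    | zero => simp
    | add a b ha hb => simp only [map_add, ha, hb]
    | tmul v c => simp
  rw [h2, ← ht]
  have h3 : (((smallest (C := C) S M).mkQ.baseChange S).restrictScalars R).comp
      ((coefSpan (C := C) S M).subtype.restrictScalars R) = 0 := by
    ext n
    exact baseChange_mkQ_eq_zero_of_descent (coefSpan (C := C) S M)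
      (descent_cond (S := S) (C := C) M) n n.2
  rw [← LinearMap.comp_apply, ← LinearMap.rTensor_comp, h3, LinearMap.rTensor_zero]
  simp

theorem coefSpan_fg (hM : M.FG) : (coefSpan (C := C) S M).FG := by
  classical
  obtain ⟨G, hG⟩ := hM
  have key : ∀ m ∈ G, ∃ F : Finset (S ⊗[R] V), (↑F ⊆ (coefSpan (C := C) S M : Set (S ⊗[R] V))) ∧
      ∀ g : C →ₗ[R] S, Phi S g (HopfRep.Comod.coact (k := R) (A := C) m) ∈
        Submodule.span S (F : Set (S ⊗[R] V)) := by
    intro m hm
    have hmM : m ∈ M := hG ▸ Submodule.subset_span hm
    obtain ⟨t, ht⟩ := toS_coact_mem (S := S) (C := C) M hmM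
    obtain ⟨F, hF1, hF2⟩ := exists_finset_contract (coefSpan (C := C) S M) t
    refine ⟨F, hF1, fun g => ?_⟩
    rw [← contract_toS, ← ht]
    exact hF2 g
  choose! F hF1 hF2 using key
  refine ⟨G.biUnion F, le_antisymm ?_ ?_⟩
  · rw [Submodule.span_le]
    intro x hx
    rw [Finset.mem_coe, Finset.mem_biUnion] at hx
    obtain ⟨m, hm, hx⟩ := hx
    exact hF1 m hm hx
  · rw [coefSpan, Submodule.span_le]
    rintro x ⟨g, m, hm, rfl⟩
    rw [← hG] at hm
    rw [SetLike.mem_coe]
    induction hm using Submodule.span_induction with
    | mem m hm =>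
      refine Submodule.span_mono ?_ (hF2 m hm g)
      intro x hx
      rw [Finset.mem_coe, Finset.mem_biUnion]
      exact ⟨m, hm, hx⟩
    | zero => simp
    | add a b _ _ ha hb => simp only [map_add]; exact add_mem ha hb
    | smul r a _ ha => simp only [map_smul]; exact Submodule.smul_of_tower_mem _ r ha

theorem smallest_fg (hM : M.FG) : (smallest (C := C) S M).FG := by
  have hinj : Function.Injective ((smallest (C := C) S M).subtype.baseChange S) :=
    Module.Flat.lTensor_preserves_injective_linearMap (M := S) _
      (smallest (C := C) S M).injective_subtype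
  have hrange : LinearMap.range ((smallest (C := C) S M).subtype.baseChange S) =
      coefSpan (C := C) S M := by
    apply le_antisymm
    · rintro _ ⟨t, rfl⟩
      induction t using TensorProduct.induction_on with
      | zero => simp
      | add a b ha hb => rw [map_add]; exact add_mem ha hb
      | tmul s w =>
        rw [LinearMap.baseChange_tmul]
        have h1 : s ⊗ₜ[R] ((smallest (C := C) S M).subtype w) = s • ((1 : S) ⊗ₜ[R] (w : V)) := by
          rw [TensorProduct.smul_tmul', smul_eq_mul, mul_one]
          rfl
        rw [h1]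
        exact Submodule.smul_mem _ _ w.2
    · intro x hx
      have h0 := baseChange_mkQ_eq_zero_of_descent (coefSpan (C := C) S M)
        (descent_cond (S := S) (C := C) M) x hx
      have hex := lTensor_exact S (LinearMap.exact_subtype_mkQ (smallest (C := C) S M))
        (Submodule.mkQ_surjective (smallest (C := C) S M))
      exact (hex x).1 h0
  haveI : Module.Finite S (coefSpan (C := C) S M) := Module.Finite.iff_fg.2 (coefSpan_fg S M hM)
  haveI : Module.Finite S (S ⊗[R] (smallest (C := C) S M)) :=
    Module.Finite.equiv ((LinearEquiv.ofInjective _ hinj).trans (LinearEquiv.ofEq _ _ hrange)).symm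
  haveI : Module.Finite R (smallest (C := C) S M) :=
    Module.Finite.of_finite_tensorProduct_of_faithfullyFlat S
  exact Module.Finite.iff_fg.1 inferInstance

end Main

theorem exists_smallest {R : Type u} [CommRing R] {C : Type v} [AddCommGroup C] [Module R C]
    [Coalgebra R C] {V : Type w} [AddCommGroup V] [Module R V] [HopfRep.Comod R C V]
    (S : Type w') [CommRing S] [Algebra R S] [Module.FaithfullyFlat R S]
    [Module.Projective S (S ⊗[R] C)] (M : Submodule R V) :
    ∃ W : Submodule R V, HopfRep.IsSubcomod (k := R) (A := C) W ∧ M ≤ W ∧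
      (∀ W' : Submodule R V, HopfRep.IsSubcomod (k := R) (A := C) W' → M ≤ W' → W ≤ W') ∧
      (M.FG → W.FG) :=
  ⟨smallest (C := C) S M, isSubcomod_smallest S M, le_smallest S M,
    fun _ hW' hM => smallest_le S M hW' hM, smallest_fg S M⟩

end Groth.Agent.Lib.SubcomodDesc55
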