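import Mathlib.RingTheory.Smooth.StandardSmooth
import Mathlib.RingTheory.Extension.Presentation.Submersive

/-!
# The trivial submersive presentation `A[y_j]/(y_j - v_j)` of `A` over itself (helper97)

For a family `v : ι → A`, the `A`-algebra `A` is presented by generators `y_j ↦ v j` and relations
`y_j - C (v j)`; the Jacobian is `1`. Composing with a submersive presentation of `A` over `R` lets one
add prescribed elements as (distinguished) generators.
-/

set_option autoImplicit false

open MvPolynomial

namespace Groth.Agent.Lib.SubmPres97

universe u w
variable {A : Type u} [CommRing A] {ι : Type w} (v : ι → A)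

/-- Modulo the ideal `(X_j - C (v j))`, every polynomial is congruent to its value at `v`. -/
theorem sub_C_aeval_mem (p : MvPolynomial ι A) :
    p - C (aeval v p) ∈ Ideal.span (Set.range fun j : ι => (X j - C (v j) : MvPolynomial ι A)) := by
  induction p using MvPolynomial.induction_on with
  | C a => simp
  | add p q hp hq =>
    have : p + q - C (aeval v (p + q)) = (p - C (aeval v p)) + (q - C (aeval v q)) := by
      rw [map_add, C_add]; ring
    rw [this]
    exact Ideal.add_mem _ hp hq
  | mul_X p j hp =>
    have : p * X j - C (aeval v (p * X j)) =
        (p - C (aeval v p)) * X j + C (aeval v p) * (X j - C (v j)) := by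
      rw [map_mul, aeval_X, C_mul]; ring
    rw [this]
    exact Ideal.add_mem _ (Ideal.mul_mem_right _ _ hp)
      (Ideal.mul_mem_left _ _ (Ideal.subset_span ⟨j, rfl⟩))

/-- Generators `y_j ↦ v j` of `A` over `A`. -/
noncomputable def gens : Algebra.Generators A A ι where
  val := v
  σ' a := C a
  aeval_val_σ' a := by simp

/-- The presentation `A[y_j]/(y_j - C (v j))` of `A` over `A`. -/
noncomputable def pres : Algebra.Presentation A A ι ι where
  toGenerators := gens v
  relation j := X j - C (v j)
  span_range_relation_eq_ker := by
    apply le_antisymm
    · rw [Ideal.span_le]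
      rintro _ ⟨j, rfl⟩
      rw [SetLike.mem_coe, Algebra.Generators.ker_eq_ker_aeval_val, RingHom.mem_ker]
      simp [gens]
    · intro p hp
      rw [Algebra.Generators.ker_eq_ker_aeval_val, RingHom.mem_ker] at hp
      have h := sub_C_aeval_mem v p
      have hp' : aeval v p = 0 := hp
      rwa [hp', C_0, sub_zero] at h

@[simp] theorem pres_val : (pres v).val = v := rfl

theorem pres_relation (j : ι) : (pres v).relation j = X j - C (v j) := rfl

/-- The submersive presentation `A[y_j]/(y_j - C (v j))` of `A` over `A` (Jacobian `1`). -/
noncomputable def subm [Finite ι] : Algebra.SubmersivePresentation A A ι ι where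
  toPresentation := pres v
  map := id
  map_inj := Function.injective_id
  jacobian_isUnit := by
    classical
    cases nonempty_fintype ι
    rw [Algebra.PreSubmersivePresentation.jacobian_eq_jacobiMatrix_det]
    have h1 : Algebra.PreSubmersivePresentation.jacobiMatrix
        ({ toPresentation := pres v, map := id, map_inj := Function.injective_id } :
          Algebra.PreSubmersivePresentation A A ι ι) = 1 := by
      refine Matrix.ext fun i j => ?_
      rw [Algebra.PreSubmersivePresentation.jacobiMatrix_apply]
      change pderiv i (X j - C (v j)) = _
      rw [map_sub, pderiv_C, sub_zero, pderiv_X, Matrix.one_apply, Pi.single_apply]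
      by_cases h : i = j
      · subst h; simp
      · rw [if_neg h, if_neg (Ne.symm h)]
    rw [h1, Matrix.det_one, map_one]
    exact isUnit_one

@[simp] theorem subm_val [Finite ι] : (subm v).val = v := rfl

@[simp] theorem subm_map [Finite ι] : (subm v).map = id := rfl

end Groth.Agent.Lib.SubmPres97
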