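import Mathlib.Algebra.Lie.Classical
import Mathlib.Algebra.Lie.OfAssociative
import Mathlib.LinearAlgebra.Dimension.Free
import Mathlib.LinearAlgebra.Dimension.Constructions
import Mathlib.LinearAlgebra.Matrix.Trace
import Mathlib.LinearAlgebra.Isomorphisms
import Mathlib.Algebra.BigOperators.Fin
import Mathlib.Tactic

/-!
# Cokernel of `ad x` for the subregular nilpotent `x` of `sl_{n+1}` over any commutative ring

`x` has entries `x_{i,i+1} = 1` for `i + 1 < n` (one Jordan block of size `n`, one of size `1`).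
We exhibit an explicit linear map `psi : sl_{n+1}(O) → O^n × O × O` (sums along the sub-diagonals of
the `n × n` block, computed by the recursion `yy`, together with the entries `(n-1,n)` and `(n,0)`)
which is surjective with kernel the image of `ad x`.
-/

set_option autoImplicit false
universe u

namespace Groth.Agent.Lib.SubregSl

variable {O : Type*} [CommRing O]

/-- Partial sums along diagonals, defined by recursion. -/
def yy (a : ℕ → ℕ → O) : ℕ → ℕ → O
  | 0, _ => 0
  | i+1, 0 => a i 0
  | i+1, j+1 => a i (j+1) + yy a i j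

@[simp] lemma yy_zero (a : ℕ → ℕ → O) (j : ℕ) : yy a 0 j = 0 := by
  unfold yy; rfl

@[simp] lemma yy_succ_zero (a : ℕ → ℕ → O) (i : ℕ) : yy a (i+1) 0 = a i 0 := by
  rw [yy]

@[simp] lemma yy_succ_succ (a : ℕ → ℕ → O) (i j : ℕ) :
    yy a (i+1) (j+1) = a i (j+1) + yy a i j := by
  rw [yy]

lemma yy_add (a a' : ℕ → ℕ → O) : ∀ i j, yy (a + a') i j = yy a i j + yy a' i j := by
  intro i
  induction i with
  | zero => intro j; simp
  | succ i ih =>
    intro j
    cases j with
    | zero => simp
    | succ j => simp [ih j]; ring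

lemma yy_smul (c : O) (a : ℕ → ℕ → O) : ∀ i j, yy (c • a) i j = c * yy a i j := by
  intro i
  induction i with
  | zero => intro j; simp
  | succ i ih =>
    intro j
    cases j with
    | zero => simp
    | succ j => simp [ih j]; ring

lemma yy_of_comm (n : ℕ) (a b : ℕ → ℕ → O)
    (h : ∀ i j, j < n → a i j = b (i+1) j - (if j = 0 then 0 else b i (j-1))) :
    ∀ i j, j < n → yy a i j = b i j - (if i ≤ j then b 0 (j - i) else 0) := by
  intro i
  induction i with
  | zero => intro j _; simp
  | succ i ih =>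
    intro j hj
    cases j with
    | zero => simp [h i 0 hj]
    | succ j =>
      rw [yy_succ_succ, h i (j+1) hj, ih j (by omega)]
      simp only [Nat.add_eq_zero_iff, one_ne_zero, and_false, if_false, Nat.add_sub_cancel,
        Nat.add_le_add_iff_right, Nat.add_sub_add_right]
      ring

lemma yy_diag (a : ℕ → ℕ → O) : ∀ i, yy a (i+1) i = ∑ s ∈ Finset.range (i+1), a s s := by
  intro i
  induction i with
  | zero => simp
  | succ i ih => rw [yy_succ_succ, ih, Finset.sum_range_succ _ (i+1)]; ring

lemma yy_eq_zero_of_rows (a : ℕ → ℕ → O) (m : ℕ) (h : ∀ i j, i < m → a i j = 0) :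
    ∀ i j, i ≤ m → yy a i j = 0 := by
  intro i
  induction i with
  | zero => intro j _; simp
  | succ i ih =>
    intro j hi
    cases j with
    | zero => simp [h i 0 (by omega)]
    | succ j => simp [h i (j+1) (by omega), ih j (by omega)]

variable (n : ℕ)

/-- The subregular nilpotent matrix. -/
def X : Matrix (Fin (n+1)) (Fin (n+1)) O :=
  fun i j => if j.val = i.val + 1 ∧ j.val < n then 1 else 0

/-- zero-extended entries of the upper-left `n × n` block. -/
def blk (A : Matrix (Fin (n+1)) (Fin (n+1)) O) (i j : ℕ) : O :=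
  if h : i < n ∧ j < n then A ⟨i, by omega⟩ ⟨j, by omega⟩ else 0

variable {n}

lemma X_mul_apply (Y : Matrix (Fin (n+1)) (Fin (n+1)) O) (i j : Fin (n+1)) :
    (X n * Y : Matrix (Fin (n+1)) (Fin (n+1)) O) i j = if h : i.val + 1 < n then Y ⟨i.val + 1, by omega⟩ j else 0 := by
  rw [Matrix.mul_apply]
  split_ifs with h
  · rw [Finset.sum_eq_single (⟨i.val + 1, by omega⟩ : Fin (n+1))]
    · simp [X, h]
    · intro k _ hk
      have : ¬ (k.val = i.val + 1 ∧ k.val < n) := by
        rintro ⟨h1, -⟩
        exact hk (Fin.ext h1)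
      simp [X, this]
    · intro h'; exact absurd (Finset.mem_univ _) h'
  · apply Finset.sum_eq_zero
    intro k _
    have : ¬ (k.val = i.val + 1 ∧ k.val < n) := by
      rintro ⟨h1, h2⟩; omega
    simp [X, this]

lemma mul_X_apply (Y : Matrix (Fin (n+1)) (Fin (n+1)) O) (i j : Fin (n+1)) :
    (Y * X n : Matrix (Fin (n+1)) (Fin (n+1)) O) i j = if h : 1 ≤ j.val ∧ j.val < n then Y i ⟨j.val - 1, by omega⟩ else 0 := by
  rw [Matrix.mul_apply]
  split_ifs with h
  · rw [Finset.sum_eq_single (⟨j.val - 1, by omega⟩ : Fin (n+1))]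
    · have hx : (X n : Matrix (Fin (n+1)) (Fin (n+1)) O) ⟨j.val - 1, by omega⟩ j = 1 := by
        unfold X
        rw [if_pos]
        exact ⟨by simp only []; omega, h.2⟩
      rw [hx, mul_one]
    · intro k _ hk
      have : ¬ (j.val = k.val + 1 ∧ j.val < n) := by
        rintro ⟨h1, -⟩
        exact hk (Fin.ext (by simp; omega))
      simp [X, this]
    · intro h'; exact absurd (Finset.mem_univ _) h'
  · apply Finset.sum_eq_zero
    intro k _
    have : ¬ (j.val = k.val + 1 ∧ j.val < n) := by
      rintro ⟨h1, h2⟩; exact h ⟨by omega, h2⟩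
    simp [X, this]


/-! ### The functional `psi` -/

lemma blk_add (A B : Matrix (Fin (n+1)) (Fin (n+1)) O) : blk n (A + B) = blk n A + blk n B := by
  funext i j
  simp only [blk, Pi.add_apply]
  split_ifs <;> simp

lemma blk_smul (c : O) (A : Matrix (Fin (n+1)) (Fin (n+1)) O) : blk n (c • A) = c • blk n A := by
  funext i j
  simp only [blk, Pi.smul_apply]
  split_ifs <;> simp

lemma blk_of_lt (A : Matrix (Fin (n+1)) (Fin (n+1)) O) {i j : ℕ} (hi : i < n) (hj : j < n) :
    blk n A i j = A ⟨i, by omega⟩ ⟨j, by omega⟩ := by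
  simp [blk, hi, hj]

lemma blk_of_ge_left (A : Matrix (Fin (n+1)) (Fin (n+1)) O) {i : ℕ} (j : ℕ) (hi : n ≤ i) :
    blk n A i j = 0 := by
  simp [blk, not_lt.2 hi]

variable (n) in
/-- The functional whose kernel on `sl` is the image of `ad x`. -/
def psi (hn : 1 ≤ n) : Matrix (Fin (n+1)) (Fin (n+1)) O →ₗ[O] (Fin n → O) × O × O where
  toFun A := (fun j : Fin n => yy (blk n A) n j.val, A ⟨n-1, by omega⟩ (Fin.last n),
    A (Fin.last n) 0)
  map_add' A B := by
    ext j
    · simp [blk_add, yy_add]
    · simp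
    · simp
  map_smul' c A := by
    ext j
    · simp [blk_smul, yy_smul]
    · simp
    · simp

lemma blk_comm (B : Matrix (Fin (n+1)) (Fin (n+1)) O) (i j : ℕ) (hj : j < n) :
    blk n (X n * B - B * X n) i j =
      blk n B (i+1) j - (if j = 0 then 0 else blk n B i (j-1)) := by
  by_cases hi : i < n
  · rw [blk_of_lt _ hi hj, Matrix.sub_apply, X_mul_apply, mul_X_apply]
    simp only []
    by_cases hi1 : i + 1 < n
    · rw [dif_pos hi1, blk_of_lt _ hi1 hj]
      by_cases hj0 : j = 0
      · subst hj0; simp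
      · rw [if_neg hj0, dif_pos ⟨by omega, hj⟩, blk_of_lt _ hi (by omega)]
    · rw [dif_neg hi1, blk_of_ge_left _ _ (by omega)]
      by_cases hj0 : j = 0
      · subst hj0; simp
      · rw [if_neg hj0, dif_pos ⟨by omega, hj⟩, blk_of_lt _ hi (by omega)]
  · rw [blk_of_ge_left _ _ (by omega), blk_of_ge_left _ _ (by omega)]
    by_cases hj0 : j = 0
    · simp [hj0]
    · rw [if_neg hj0, blk_of_ge_left _ _ (by omega), sub_zero]

lemma psi_comm (hn : 1 ≤ n) (B : Matrix (Fin (n+1)) (Fin (n+1)) O) :
    psi n hn (X n * B - B * X n) = 0 := by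
  ext j
  · change yy (blk n (X n * B - B * X n)) n j.val = 0
    rw [yy_of_comm n _ (blk n B) (fun i j hj => blk_comm B i j hj) n j.val j.isLt,
      blk_of_ge_left _ _ le_rfl, if_neg (by have := j.isLt; omega), sub_zero]
  · change (X n * B - B * X n : Matrix (Fin (n+1)) (Fin (n+1)) O) ⟨n-1, by omega⟩ (Fin.last n) = 0
    rw [Matrix.sub_apply, X_mul_apply, mul_X_apply, dif_neg (by simp; omega),
      dif_neg (by simp), sub_zero]
  · change (X n * B - B * X n : Matrix (Fin (n+1)) (Fin (n+1)) O) (Fin.last n) 0 = 0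
    rw [Matrix.sub_apply, X_mul_apply, mul_X_apply, dif_neg (by simp),
      dif_neg (by simp), sub_zero]

/-! ### The explicit preimage -/

variable (n) in
/-- The explicit solution `Y` of `[x, Y] = A`. -/
def preim (A : Matrix (Fin (n+1)) (Fin (n+1)) O) : Matrix (Fin (n+1)) (Fin (n+1)) O :=
  fun i j =>
    if hi : i.val < n then
      if hj : j.val < n then yy (blk n A) i.val j.val
      else if h0 : i.val = 0 then 0 else A ⟨i.val - 1, by omega⟩ (Fin.last n)
    else
      if hj : j.val + 1 < n then - A (Fin.last n) ⟨j.val + 1, by omega⟩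
      else if j.val < n then 0
      else - ∑ s ∈ Finset.range n, yy (blk n A) s s

lemma trace_eq (A : Matrix (Fin (n+1)) (Fin (n+1)) O) :
    Matrix.trace A = ∑ s ∈ Finset.range n, blk n A s s + A (Fin.last n) (Fin.last n) := by
  rw [Matrix.trace, Fin.sum_univ_castSucc]
  congr 1
  rw [← Fin.sum_univ_eq_sum_range (fun s => blk n A s s) n]
  refine Finset.sum_congr rfl fun i _ => ?_
  rw [blk_of_lt _ i.isLt i.isLt]
  rfl

lemma trace_preim (A : Matrix (Fin (n+1)) (Fin (n+1)) O) : Matrix.trace (preim n A) = 0 := by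
  rw [trace_eq]
  have h1 : ∀ s ∈ Finset.range n, blk n (preim n A) s s = yy (blk n A) s s := by
    intro s hs
    have hs' := Finset.mem_range.1 hs
    rw [blk_of_lt _ hs' hs']
    simp [preim, hs']
  rw [Finset.sum_congr rfl h1]
  simp [preim]

lemma comm_preim (hn : 1 ≤ n) (A : Matrix (Fin (n+1)) (Fin (n+1)) O) (htr : Matrix.trace A = 0)
    (hpsi : psi n hn A = 0) : X n * preim n A - preim n A * X n = A := by
  have hp1 : ∀ j, j < n → yy (blk n A) n j = 0 := by
    intro j hj
    have := congrArg (fun t => t.1 ⟨j, hj⟩) hpsi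
    exact this
  have hp2 : A ⟨n-1, by omega⟩ (Fin.last n) = 0 := congrArg (fun t => t.2.1) hpsi
  have hp3 : A (Fin.last n) 0 = 0 := congrArg (fun t => t.2.2) hpsi
  obtain ⟨n', rfl⟩ : ∃ n', n = n' + 1 := ⟨n - 1, by omega⟩
  ext i j
  rw [Matrix.sub_apply, X_mul_apply, mul_X_apply]
  by_cases hi : i.val < n' + 1
  · by_cases hj : j.val < n' + 1
    · -- block part
      by_cases hi1 : i.val + 1 < n' + 1
      · rw [dif_pos hi1]
        by_cases hj0 : j.val = 0
        · rw [dif_neg (by omega)]
          have : yy (blk (n'+1) A) (i.val + 1) j.val = A i j := by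
            rw [hj0, yy_succ_zero, blk_of_lt _ hi (by omega)]
            congr 1; exact Fin.ext hj0.symm
          simp [preim, hi1, hj, this]
        · rw [dif_pos ⟨by omega, hj⟩]
          obtain ⟨j', hj'⟩ : ∃ j', j.val = j' + 1 := ⟨j.val - 1, by omega⟩
          have : yy (blk (n'+1) A) (i.val + 1) j.val - yy (blk (n'+1) A) i.val (j.val - 1)
              = A i j := by
            rw [hj', yy_succ_succ, Nat.add_sub_cancel, add_sub_cancel_right,
              blk_of_lt _ hi (by omega)]
            congr 1; exact Fin.ext hj'.symm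
          simp only [preim, hi1, hi, hj, dif_pos, show j.val - 1 < n' + 1 by omega]
          exact this
      · rw [dif_neg hi1]
        have hin : i.val = n' := by omega
        by_cases hj0 : j.val = 0
        · rw [dif_neg (by omega)]
          have h := hp1 0 (by omega)
          rw [yy_succ_zero, blk_of_lt _ (by omega) (by omega)] at h
          rw [sub_zero, ← h]
          congr 1
          · exact Fin.ext (by simp [hin])
          · exact Fin.ext (by simp [hj0])
        · rw [dif_pos ⟨by omega, hj⟩]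
          obtain ⟨j', hj'⟩ : ∃ j', j.val = j' + 1 := ⟨j.val - 1, by omega⟩
          have h := hp1 (j'+1) (by omega)
          rw [yy_succ_succ, blk_of_lt _ (by omega) (by omega)] at h
          simp only [preim, hi, dif_pos, show j.val - 1 < n' + 1 by omega, zero_sub]
          rw [hj', Nat.add_sub_cancel, hin]
          have : A i j = A ⟨n', by omega⟩ ⟨j'+1, by omega⟩ := by
            congr 1
            · exact Fin.ext hin
            · exact Fin.ext hj'
          rw [this]
          linear_combination -h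
    · -- last column
      have hjn : j = Fin.last (n'+1) := Fin.ext (by have := j.isLt; simp; omega)
      subst hjn
      rw [dif_neg (show ¬ (1 ≤ (Fin.last (n'+1)).val ∧ (Fin.last (n'+1)).val < n' + 1) by simp)]
      by_cases hi1 : i.val + 1 < n' + 1
      · rw [dif_pos hi1]
        simp [preim, hi1]
      · rw [dif_neg hi1, sub_zero]
        have hin : i = ⟨n' + 1 - 1, by omega⟩ := Fin.ext (by simp; omega)
        rw [hin, hp2]
  · have hin : i = Fin.last (n'+1) := Fin.ext (by have := i.isLt; simp; omega)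
    subst hin
    rw [dif_neg (by simp)]
    by_cases hj : j.val < n' + 1
    · by_cases hj0 : j.val = 0
      · rw [dif_neg (by omega)]
        have : j = 0 := Fin.ext hj0
        rw [this, hp3, sub_zero]
      · rw [dif_pos ⟨by omega, hj⟩]
        have h1 : j.val - 1 + 1 < n' + 1 := by omega
        have h2 : (⟨j.val - 1 + 1, by omega⟩ : Fin (n' + 1 + 1)) = j := Fin.ext (by simp; omega)
        simp [preim, h1, h2]
    · have hjn : j = Fin.last (n'+1) := Fin.ext (by have := j.isLt; simp; omega)
      subst hjn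
      rw [dif_neg (by simp), sub_zero]
      -- A_nn = 0 from the trace
      have h := hp1 n' (by omega)
      rw [yy_diag] at h
      rw [trace_eq, h, zero_add] at htr
      exact htr.symm

/-! ### Surjectivity of `psi` on trace-zero matrices -/

variable (n) in
/-- A trace-zero matrix with prescribed value of `psi`. -/
def sec (hn : 1 ≤ n) (c : Fin n → O) (u v : O) : Matrix (Fin (n+1)) (Fin (n+1)) O :=
  fun i j =>
    if i.val + 1 = n then (if hj : j.val < n then c ⟨j.val, hj⟩ else u)
    else if i.val = n then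
      (if j.val = 0 then v else if j.val = n then - c ⟨n-1, by omega⟩ else 0)
    else 0

lemma trace_sec (hn : 1 ≤ n) (c : Fin n → O) (u v : O) : Matrix.trace (sec n hn c u v) = 0 := by
  obtain ⟨n', rfl⟩ : ∃ n', n = n' + 1 := ⟨n - 1, by omega⟩
  rw [trace_eq, Finset.sum_range_succ, Finset.sum_eq_zero]
  · rw [blk_of_lt _ (by omega) (by omega)]
    simp [sec]
  · intro s hs
    have hs' := Finset.mem_range.1 hs
    rw [blk_of_lt _ (by omega) (by omega)]
    have h1 : ¬ (s = n') := by omega
    have h2 : ¬ (s = n' + 1) := by omega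
    simp [sec, h1, h2]

lemma psi_sec (hn : 1 ≤ n) (c : Fin n → O) (u v : O) : psi n hn (sec n hn c u v) = (c, u, v) := by
  obtain ⟨n', rfl⟩ : ∃ n', n = n' + 1 := ⟨n - 1, by omega⟩
  have hrows : ∀ i j, i < n' → blk (n'+1) (sec (n'+1) hn c u v) i j = 0 := by
    intro i j hi
    by_cases hj : j < n' + 1
    · rw [blk_of_lt _ (by omega) hj]
      have h1 : ¬ (i = n') := by omega
      have h2 : ¬ (i = n' + 1) := by omega
      simp [sec, h1, h2]
    · simp [blk, hj]
  have hz := yy_eq_zero_of_rows _ n' hrows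
  refine Prod.ext ?_ (Prod.ext ?_ ?_)
  · funext j
    change yy (blk (n'+1) (sec (n'+1) hn c u v)) (n'+1) j.val = c j
    obtain ⟨j, hj⟩ := j
    cases j with
    | zero =>
      rw [yy_succ_zero, blk_of_lt _ (by omega) (by omega)]
      simp [sec]
    | succ j =>
      rw [yy_succ_succ, hz n' j le_rfl, add_zero, blk_of_lt _ (by omega) hj]
      simp [sec, hj]
  · change sec (n'+1) hn c u v ⟨n' + 1 - 1, by omega⟩ (Fin.last (n'+1)) = u
    simp [sec]
  · change sec (n'+1) hn c u v (Fin.last (n'+1)) 0 = v
    simp [sec]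

/-! ### The cokernel of `ad x` on `sl` -/

attribute [local instance 100] LieRing.ofAssociativeRing

open LieAlgebra.SpecialLinear in
theorem main [Nontrivial O] (hn : 1 ≤ n) (x : sl (Fin (n+1)) O)
    (hx : (x : Matrix (Fin (n+1)) (Fin (n+1)) O) = X n) :
    Module.Free O (sl (Fin (n+1)) O ⧸
        LinearMap.range (LieAlgebra.ad O (sl (Fin (n+1)) O) x)) ∧
      Module.finrank O (sl (Fin (n+1)) O ⧸
        LinearMap.range (LieAlgebra.ad O (sl (Fin (n+1)) O) x)) = n + 2 := by
  set Ψ : sl (Fin (n+1)) O →ₗ[O] (Fin n → O) × O × O :=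
    (psi n hn).comp ((sl (Fin (n+1)) O).incl : sl (Fin (n+1)) O →ₗ[O] _) with hΨ
  have hΨapp : ∀ A : sl (Fin (n+1)) O, Ψ A = psi n hn A.val := fun A => rfl
  have hker : LinearMap.range (LieAlgebra.ad O (sl (Fin (n+1)) O) x) = LinearMap.ker Ψ := by
    ext A
    constructor
    · rintro ⟨B, rfl⟩
      rw [LinearMap.mem_ker, hΨapp, LieAlgebra.ad_apply, sl_bracket, hx]
      exact psi_comm hn B.val
    · intro hA
      rw [LinearMap.mem_ker, hΨapp] at hA
      have htr : Matrix.trace A.val = 0 := A.property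
      refine ⟨⟨preim n A.val, trace_preim A.val⟩, ?_⟩
      apply Subtype.ext
      rw [LieAlgebra.ad_apply, sl_bracket, hx]
      exact comm_preim hn A.val htr hA
  have hsurj : Function.Surjective Ψ := by
    rintro ⟨c, u, v⟩
    exact ⟨⟨sec n hn c u v, trace_sec hn c u v⟩, psi_sec hn c u v⟩
  let e : (sl (Fin (n+1)) O ⧸ LinearMap.range (LieAlgebra.ad O (sl (Fin (n+1)) O) x)) ≃ₗ[O]
      (Fin n → O) × O × O :=
    (Submodule.quotEquivOfEq _ _ hker).trans (LinearMap.quotKerEquivOfSurjective Ψ hsurj)
  refine ⟨Module.Free.of_equiv e.symm, ?_⟩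
  rw [e.finrank_eq, Module.finrank_prod, Module.finrank_prod, Module.finrank_fin_fun,
    Module.finrank_self]

end Groth.Agent.Lib.SubregSl
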