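import Groth.Agent.Lib.SubtrNoethH52

set_option autoImplicit false
universe u
open CategoryTheory CategoryTheory.Limits AlgebraicGeometry IsLocalRing Topology

namespace Groth.Agent.Lib.SubtrAffH52

open Groth.Agent.Lib Groth.Agent.Lib.ValSpecialize Subtr Groth.Agent.Lib.LimDescent
  Groth.Agent.Lib.SubtrH52 Groth.Agent.Lib.SubtrLimH52 Groth.Agent.Lib.HTopBasic
  Groth.Agent.Lib.FGSubalgLimit Groth.Agent.Lib.SubtrNoethH52

/-- Finite-type approximation: a quasi-compact morphism is universally S-subtrusive as soon as its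
base changes to affine schemes of finite type over affine opens of the base are S-subtrusive. -/
theorem univSSubtrusive_of_forall_finiteType {X Y : Scheme.{u}}
    (f : X ⟶ Y) [QuasiCompact f]
    (h : ∀ (U : Y.Opens) (hU : IsAffineOpen U) (A : Type u) [CommRing A] [Algebra Γ(Y, U) A]
      [Algebra.FiniteType Γ(Y, U) A],
      IsSSubtrusive (pullback.snd f
        (Spec.map (CommRingCat.ofHom (algebraMap Γ(Y, U) A)) ≫ hU.fromSpec))) :
    UnivSSubtrusive f := by
  apply univSSubtrusive_of_valuationRing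
  intro V _ _ _ g
  obtain ⟨U, hU, hcU, -⟩ := exists_isAffineOpen_mem_and_subset (X := Y)
    (x := g (closedPoint V)) (U := ⊤) trivial
  have hsub : Set.range g ⊆ (U : Set Y) :=
    range_subset_of_closedPoint_mem (CommRingCat.of V) g _ U.2 hcU
  let gU : Spec (CommRingCat.of V) ⟶ (U : Scheme.{u}) :=
    IsOpenImmersion.lift U.ι g (by rw [Scheme.Opens.range_ι]; exact hsub)
  have hgU : gU ≫ U.ι = g := IsOpenImmersion.lift_fac _ _ _
  let ρ : Γ(Y, U) ⟶ CommRingCat.of V := Spec.preimage (gU ≫ hU.isoSpec.hom)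
  have hρ : Spec.map ρ = gU ≫ hU.isoSpec.hom := Spec.map_preimage _
  have hg : g = Spec.map ρ ≫ hU.fromSpec := by
    rw [hρ, Category.assoc, IsAffineOpen.isoSpec_hom_fromSpec, hgU]
  let _ : Algebra Γ(Y, U) V := ρ.hom.toAlgebra
  let t : ∀ A : (FGSub Γ(Y, U) V)ᵒᵖ, (D Γ(Y, U) V).obj A ⟶ Y :=
    fun A => toBase Γ(Y, U) V A ≫ hU.fromSpec
  have ht : ∀ {i j : (FGSub Γ(Y, U) V)ᵒᵖ} (a : i ⟶ j), (D Γ(Y, U) V).map a ≫ t j = t i := by
    intro i j a
    show (D Γ(Y, U) V).map a ≫ toBase Γ(Y, U) V j ≫ hU.fromSpec = _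
    rw [← Category.assoc, map_toBase]
  let i₀ : (FGSub Γ(Y, U) V)ᵒᵖ := Opposite.op ⟨⊥, Subalgebra.fg_bot⟩
  have hlim := isSSubtrusive_snd_of_isLimit f (D Γ(Y, U) V) (cone Γ(Y, U) V)
    (isLimitCone Γ(Y, U) V) t ht i₀ (fun j => by
      have : Algebra.FiniteType Γ(Y, U) j.left.unop.1 :=
        (Subalgebra.fg_iff_finiteType _).mp j.left.unop.2
      exact h U hU j.left.unop.1)
  have hg' : g = (cone Γ(Y, U) V).π.app i₀ ≫ t i₀ := by
    rw [hg]
    show _ = (cone Γ(Y, U) V).π.app i₀ ≫ toBase Γ(Y, U) V i₀ ≫ hU.fromSpec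
    rw [← Category.assoc, cone_π_toBase]
    rfl
  rw [hg']
  exact hlim

/-- S-subtrusive morphisms are stable under base change along (pre)immersions. -/
theorem isSSubtrusive_snd_of_isPreimmersion {P W T : Scheme.{u}} (h : P ⟶ W) (ι : T ⟶ W)
    [IsPreimmersion ι] (hh : IsSSubtrusive h) : IsSSubtrusive (pullback.snd h ι) := by
  intro a a' ha
  obtain ⟨x, x', hx, h1, h2⟩ := hh (ha.map ι.continuous)
  obtain ⟨z, hz1, hz2⟩ := Scheme.Pullback.exists_preimage_pullback x a h1
  obtain ⟨z', hz1', hz2'⟩ := Scheme.Pullback.exists_preimage_pullback x' a' h2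
  refine ⟨z, z', ?_, hz2, hz2'⟩
  have hemb : IsEmbedding (pullback.fst h ι) := (pullback.fst h ι).isEmbedding
  rw [← hemb.isInducing.specializes_iff, hz1, hz1']
  exact hx

/-- base change of an S-subtrusive base change along a (pre)immersion over the base -/
theorem isSSubtrusive_snd_comp_of_isPreimmersion {X Y W T : Scheme.{u}} (f : X ⟶ Y) (p : W ⟶ Y)
    (ι : T ⟶ W) [IsPreimmersion ι] (hh : IsSSubtrusive (pullback.snd f p)) :
    IsSSubtrusive (pullback.snd f (ι ≫ p)) := by
  have h1 := isSSubtrusive_snd_of_isPreimmersion (pullback.snd f p) ι hh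
  have hpb : IsPullback (pullback.fst (pullback.snd f p) ι ≫ pullback.fst f p)
      (pullback.snd (pullback.snd f p) ι) f (ι ≫ p) :=
    (IsPullback.of_hasPullback (pullback.snd f p) ι).flip.paste_vert
      (IsPullback.of_hasPullback f p).flip |>.flip
  exact (isSSubtrusive_iff_of_isPullback f (ι ≫ p) _ _ hpb).mp h1

/-- a finite-type algebra is a quotient of a polynomial ring in `n > 0` variables indexed by
`ULift (Fin n)` -/
theorem exists_surjective_mvPolynomial (R A : Type u) [CommRing R] [CommRing A] [Algebra R A]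
    [Algebra.FiniteType R A] :
    ∃ (n : ℕ) (_ : 0 < n) (φ : MvPolynomial (ULift.{u} (Fin n)) R →ₐ[R] A),
      Function.Surjective φ := by
  obtain ⟨n, f, hf⟩ := Algebra.FiniteType.iff_quotient_mvPolynomial''.mp
    (inferInstance : Algebra.FiniteType R A)
  let g : MvPolynomial (ULift.{u} (Fin (n + 1))) R →ₐ[R] MvPolynomial (Fin n) R :=
    MvPolynomial.aeval (fun i => if h : i.down.val < n then MvPolynomial.X ⟨i.down.val, h⟩ else 0)
  have hg : Function.Surjective g := by
    rw [← AlgHom.range_eq_top, eq_top_iff, ← MvPolynomial.adjoin_range_X]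
    apply Algebra.adjoin_le
    rintro _ ⟨j, rfl⟩
    refine ⟨MvPolynomial.X (ULift.up j.castSucc), ?_⟩
    simp [g]
  exact ⟨n + 1, Nat.succ_pos n, f.comp g, hf.comp hg⟩

/-- An affine scheme of finite type over an affine open of `Y` is (pre)immersed into some affine
space `𝔸ⁿ_Y`, `n > 0`, over `Y`. -/
theorem exists_isPreimmersion_affineSpace {Y : Scheme.{u}} (U : Y.Opens) (hU : IsAffineOpen U)
    (A : Type u) [CommRing A] [Algebra Γ(Y, U) A] [Algebra.FiniteType Γ(Y, U) A] :
    ∃ (n : ℕ) (_ : 0 < n) (ι : Spec (CommRingCat.of A) ⟶ AffineSpace (ULift.{u} (Fin n)) Y),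
      IsPreimmersion ι ∧ ι ≫ (AffineSpace (ULift.{u} (Fin n)) Y ↘ Y) =
        Spec.map (CommRingCat.ofHom (algebraMap Γ(Y, U) A)) ≫ hU.fromSpec := by
  obtain ⟨n, hn, φ, hφ⟩ := exists_surjective_mvPolynomial Γ(Y, U) A
  let m := ULift.{u} (Fin n)
  have h1 : IsClosedImmersion (Spec.map (CommRingCat.ofHom φ.toRingHom)) :=
    IsClosedImmersion.spec_of_surjective _ hφ
  have h2 : IsOpenImmersion (AffineSpace.map m hU.fromSpec) :=
    MorphismProperty.of_isPullback (P := @IsOpenImmersion)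
      (AffineSpace.isPullback_map (n := m) hU.fromSpec).flip inferInstance
  refine ⟨n, hn, Spec.map (CommRingCat.ofHom φ.toRingHom) ≫ (AffineSpace.SpecIso m Γ(Y, U)).inv ≫
    AffineSpace.map m hU.fromSpec, inferInstance, ?_⟩
  rw [Category.assoc, Category.assoc, AffineSpace.map_over, AffineSpace.SpecIso_inv_over_assoc,
    ← Spec.map_comp_assoc]
  congr 2
  ext x
  simp
  
end Groth.Agent.Lib.SubtrAffH52
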