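import Groth.Agent.Lib.SubtrNoethH52b
import Groth.Agent.Lib.VCoverSubmersive

/-!
# Universally S-subtrusive finite families and V coverings (helper52)

For a family `E` of morphisms with target `X`:
* `hasValLift_of_univSSubtrusive`: if `Sigma.desc E.f` is universally S-subtrusive, the family has the
  valuative lifting property;
* `isVCover_of_hasValLift`: a finite family of quasi-compact morphisms with the valuative lifting
  property is a V covering;
* `exists_sigmaι_eq`, `quasiCompact_sigmaDesc`, `exists_specializes_of_sigma`: plumbing for coproducts.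
-/

set_option autoImplicit false
universe u
open CategoryTheory CategoryTheory.Limits AlgebraicGeometry IsLocalRing Topology

namespace Groth.Agent.Lib.SubtrFamH52

open Groth.Agent.Lib Groth.Agent.Lib.ValSpecialize Subtr HTop
  Groth.Agent.Lib.SubtrH52 Groth.Agent.Lib.HTopBasic

/-- every point of a coproduct of schemes lies in a summand -/
theorem exists_sigmaι_eq {σ : Type u} (g : σ → Scheme.{u}) (x : ↑(∐ g)) :
    ∃ (i : σ) (y : g i), Sigma.ι g i y = x := by
  obtain ⟨i, y, hy⟩ := (sigmaOpenCover g).exists_eq x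
  exact ⟨i, y, hy⟩

/-- the structure map of a finite coproduct of quasi-compact morphisms is quasi-compact -/
theorem quasiCompact_sigmaDesc {σ : Type u} [Finite σ] {X : Scheme.{u}} (Y : σ → Scheme.{u})
    (f : ∀ i, Y i ⟶ X) [∀ i, QuasiCompact (f i)] : QuasiCompact (Sigma.desc f) := by
  constructor
  intro U hU hUc
  have heq : (Sigma.desc f) ⁻¹' U = ⋃ i, Sigma.ι Y i '' ((f i) ⁻¹' U) := by
    ext x
    simp only [Set.mem_preimage, Set.mem_iUnion, Set.mem_image]
    constructor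
    · intro hx
      obtain ⟨i, y, rfl⟩ := exists_sigmaι_eq Y x
      refine ⟨i, y, ?_, rfl⟩
      rw [← Scheme.Hom.comp_apply, Sigma.ι_desc] at hx
      exact hx
    · rintro ⟨i, y, hy, rfl⟩
      rw [← Scheme.Hom.comp_apply, Sigma.ι_desc]
      exact hy
  rw [heq]
  exact isCompact_iUnion fun i =>
    (QuasiCompact.isCompact_preimage (f := f i) U hU hUc).image (Sigma.ι Y i).continuous

/-- a specialization in a coproduct of schemes takes place in one summand -/
theorem exists_specializes_of_sigma {σ : Type u} (g : σ → Scheme.{u}) {x' x : ↑(∐ g)}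
    (h : x' ⤳ x) : ∃ (i : σ) (y' y : g i), y' ⤳ y ∧ Sigma.ι g i y' = x' ∧ Sigma.ι g i y = x := by
  obtain ⟨i, y, rfl⟩ := exists_sigmaι_eq g x
  have hopen : IsOpen (Set.range (Sigma.ι g i)) := (Sigma.ι g i).isOpenEmbedding.isOpen_range
  obtain ⟨y', rfl⟩ := h.mem_open hopen ⟨y, rfl⟩
  exact ⟨i, y', y, (Sigma.ι g i).isOpenEmbedding.isInducing.specializes_iff.mp h, rfl, rfl⟩

variable {X : Scheme.{u}}

/-- A family whose coproduct is universally S-subtrusive over the base has the valuative lifting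
property. -/
theorem hasValLift_of_univSSubtrusive (E : PreZeroHypercover.{u} X)
    (h : UnivSSubtrusive (Sigma.desc E.f)) : HasValLift E := by
  intro V _ _ g
  have hS : IsSSubtrusive (pullback.fst g (Sigma.desc E.f)) :=
    h _ _ _ (IsPullback.of_hasPullback g (Sigma.desc E.f))
  obtain ⟨w, w', hw, hw1, hw2⟩ := hS (bot_specializes (closedPoint V))
  obtain ⟨W, hWd, hWv, φ, hφ, g', hg'⟩ :=
    exists_lift_of_specializes_pullback (Sigma.desc E.f) V g w' w hw hw1 hw2
  obtain ⟨i, y, hy⟩ := exists_sigmaι_eq E.X (g' (closedPoint W))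
  have hsub : Set.range g' ⊆ Set.range (Sigma.ι E.X i) :=
    range_subset_of_closedPoint_mem W g' _ (Sigma.ι E.X i).isOpenEmbedding.isOpen_range
      ⟨y, hy⟩
  refine ⟨W, hWd, hWv, φ, hφ, i, IsOpenImmersion.lift (Sigma.ι E.X i) g' hsub, ?_⟩
  have h1 : IsOpenImmersion.lift (Sigma.ι E.X i) g' hsub ≫ Sigma.ι E.X i = g' :=
    IsOpenImmersion.lift_fac _ _ _
  calc IsOpenImmersion.lift (Sigma.ι E.X i) g' hsub ≫ E.f i
      = IsOpenImmersion.lift (Sigma.ι E.X i) g' hsub ≫ Sigma.ι E.X i ≫ Sigma.desc E.f := by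
        rw [Sigma.ι_desc]
    _ = g' ≫ Sigma.desc E.f := by rw [← Category.assoc, h1]
    _ = Spec.map φ ≫ g := hg'

/-- A finite family of quasi-compact morphisms with the valuative lifting property is a
V covering. -/
theorem isVCover_of_hasValLift (E : PreZeroHypercover.{u} X) [Finite E.I₀]
    [∀ i, QuasiCompact (E.f i)] (hL : HasValLift E) : IsVCover E := by
  classical
  intro U
  have hUaff : IsAffineOpen (U : X.Opens) := U.2
  have hqc : QuasiCompact (Sigma.desc E.f) := quasiCompact_sigmaDesc E.X E.f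
  let K : (∐ E.X).Opens := (Sigma.desc E.f) ⁻¹ᵁ (U : X.Opens)
  have hK : IsCompact (K : Set ↑(∐ E.X)) :=
    (Sigma.desc E.f).isCompact_preimage hUaff.isCompact
  have h2 : ∀ x : ↥K, ∃ (i : E.I₀) (V : (E.X i).Opens), IsAffineOpen V ∧
      x.1 ∈ Sigma.ι E.X i '' (V : Set (E.X i)) ∧ V ≤ (E.f i) ⁻¹ᵁ (U : X.Opens) := fun x => by
    obtain ⟨i, y, hy⟩ := exists_sigmaι_eq E.X x.1
    have hyU : y ∈ (E.f i) ⁻¹ᵁ (U : X.Opens) := by
      show E.f i y ∈ (U : X.Opens)
      have h3 : Sigma.desc E.f x.1 ∈ (U : X.Opens) := x.2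
      rw [← hy, ← Scheme.Hom.comp_apply, Sigma.ι_desc] at h3
      exact h3
    obtain ⟨V, hV, hyV, hle⟩ :=
      exists_isAffineOpen_mem_and_subset (X := E.X i) (x := y) (U := (E.f i) ⁻¹ᵁ (U : X.Opens)) hyU
    exact ⟨i, V, hV, ⟨y, hyV, hy⟩, hle⟩
  choose i V hVaff hxV hVU using h2
  obtain ⟨s, hs⟩ := hK.elim_finite_subcover (fun x => Sigma.ι E.X (i x) '' (V x : Set (E.X (i x))))
    (fun x => (Sigma.ι E.X (i x)).isOpenEmbedding.isOpenMap _ (V x).2)
    (fun x hx => Set.mem_iUnion.mpr ⟨⟨x, hx⟩, hxV ⟨x, hx⟩⟩)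
  let e : Fin s.card ≃ ↥s := s.equivFin.symm
  let pt : Fin s.card → ↥K := fun k => (e k).1
  let F : PreZeroHypercover.{0} ((U : X.Opens) : Scheme.{u}) :=
    { I₀ := Fin s.card
      X := fun k => ((V (pt k) : (E.X (i (pt k))).Opens) : Scheme.{u})
      f := fun k => (E.f (i (pt k))).resLE (U : X.Opens) (V (pt k)) (hVU (pt k)) }
  have hFι : ∀ k, F.f k ≫ (U : X.Opens).ι = (V (pt k)).ι ≫ E.f (i (pt k)) := fun k =>
    Scheme.Hom.resLE_comp_ι _ _
  refine ⟨F, ⟨hUaff, inferInstanceAs (Finite (Fin s.card)), fun k => hVaff (pt k), ?_⟩, ?_⟩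
  · intro W₀ _ _ g
    obtain ⟨W, hWd, hWv, φ, hφ, j, g', hg'⟩ := hL W₀ (g ≫ (U : X.Opens).ι)
    have hmem : Sigma.ι E.X j (g' (closedPoint W)) ∈ (K : Set ↑(∐ E.X)) := by
      show Sigma.desc E.f (Sigma.ι E.X j (g' (closedPoint W))) ∈ (U : X.Opens)
      rw [← Scheme.Hom.comp_apply, Sigma.ι_desc, ← Scheme.Hom.comp_apply, hg']
      simp only [Scheme.Hom.comp_apply]
      exact (g _).2
    have ht := hs hmem
    simp only [Set.mem_iUnion] at ht
    obtain ⟨x, hxs, v, hvV, hv⟩ := ht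
    obtain ⟨k, hk⟩ : ∃ k : Fin s.card, pt k = x := ⟨e.symm ⟨x, hxs⟩, by simp [pt]⟩
    subst hk
    obtain ⟨hij, hvy⟩ := Sigma.mk.inj_iff.mp ((sigmaι_eq_iff E.X _ _ _ _).mp hv)
    subst hij
    have hvy' : v = g' (closedPoint W) := eq_of_heq hvy
    have hsub : Set.range g' ⊆ Set.range (V (pt k)).ι := by
      rw [Scheme.Opens.range_ι]
      refine range_subset_of_closedPoint_mem W g' _ (V (pt k)).2 ?_
      rw [← hvy']; exact hvV
    refine ⟨W, hWd, hWv, φ, hφ, k, IsOpenImmersion.lift (V (pt k)).ι g' hsub, ?_⟩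
    rw [← cancel_mono (U : X.Opens).ι, Category.assoc, hFι, ← Category.assoc,
      IsOpenImmersion.lift_fac, hg', Category.assoc]
  · intro k
    exact ⟨i (pt k), (V (pt k)).ι, (hFι k).symm⟩

/-- A finite family of quasi-compact morphisms whose coproduct is universally S-subtrusive over the
base is a V covering. -/
theorem isVCover_of_univSSubtrusive (E : PreZeroHypercover.{u} X) [Finite E.I₀]
    [∀ i, QuasiCompact (E.f i)] (h : UnivSSubtrusive (Sigma.desc E.f)) : IsVCover E :=
  isVCover_of_hasValLift E (hasValLift_of_univSSubtrusive E h)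

end Groth.Agent.Lib.SubtrFamH52
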