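import Groth.Agent.Lib.ValChainSchH52
import Groth.Agent.Lib.VCoverSubmersive

set_option autoImplicit false
universe u
open CategoryTheory CategoryTheory.Limits AlgebraicGeometry IsLocalRing Topology

namespace Groth.Agent.Lib.SubtrLCH52

open Subtr Groth.Agent.Lib.SubtrH52 Groth.Agent.Lib.ValSpecialize Groth.Agent.Lib.ValChainH52
  Groth.Agent.Lib.VCoverSubmersive

/-- compact source, affine target: a point in the closure of the image of a closed set is a
specialization of a point of the image -/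
theorem exists_specializes_of_mem_closure_image_of_compact {X Y : Scheme.{u}} [IsAffine Y]
    [CompactSpace X] (f : X ⟶ Y) (K : Set X) (hK : IsClosed K) (y : Y)
    (hy : y ∈ closure (f '' K)) : ∃ c ∈ K, f c ⤳ y := by
  let 𝒰 := X.affineCover.finiteSubcover
  have hKeq : f '' K = ⋃ j, (𝒰.f j ≫ f) '' ((𝒰.f j) ⁻¹' K) := by
    ext z
    simp only [Set.mem_iUnion, Set.mem_image, Set.mem_preimage]
    constructor
    · rintro ⟨x, hx, rfl⟩
      obtain ⟨j, c, rfl⟩ := 𝒰.exists_eq x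
      exact ⟨j, c, hx, rfl⟩
    · rintro ⟨j, c, hc, rfl⟩
      exact ⟨𝒰.f j c, hc, rfl⟩
  rw [hKeq, closure_iUnion_of_finite] at hy
  obtain ⟨j, hj⟩ := Set.mem_iUnion.mp hy
  obtain ⟨c, hcC, hc⟩ := exists_specializes_of_mem_closure_image (𝒰.f j ≫ f) _
    (hK.preimage (𝒰.f j).continuous) y hj
  exact ⟨𝒰.f j c, hcC, hc⟩

/-- a compact locally closed subset of a scheme is the intersection of its closure with a
compact open subset -/
theorem exists_isCompact_open_of_isLocallyClosed {X : Scheme.{u}} (E' : Set X)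
    (h1 : IsLocallyClosed E') (hc : IsCompact E') (N : X.Opens) (hN : E' ⊆ (N : Set X)) :
    ∃ O : X.Opens, O ≤ N ∧ IsCompact (O : Set X) ∧ E' = closure E' ∩ (O : Set X) := by
  obtain ⟨O₀, C₀, hO₀, hC₀, hE'eq₀⟩ := h1
  obtain ⟨O', hO', hE'eq⟩ : ∃ O' : Set X, IsOpen O' ∧ E' = O' ∩ C₀ ∧ O' ⊆ (N : Set X) := by
    refine ⟨O₀ ∩ N, hO₀.inter N.2, ?_, Set.inter_subset_right⟩
    apply Set.Subset.antisymm
    · intro x hx
      have := hx
      rw [hE'eq₀] at this
      exact ⟨⟨this.1, hN hx⟩, this.2⟩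
    · rintro x ⟨⟨hx1, -⟩, hx2⟩
      rw [hE'eq₀]; exact ⟨hx1, hx2⟩
  obtain ⟨hE'eq, hO'N⟩ := hE'eq
  have hcl : closure E' ⊆ C₀ := by
    rw [hE'eq]
    exact closure_minimal Set.inter_subset_right hC₀
  have hex : ∀ x : X, x ∈ E' → ∃ W : X.Opens, IsAffineOpen W ∧ x ∈ W ∧ (W : Set X) ⊆ O' := by
    intro x hx
    have hxO : x ∈ (⟨O', hO'⟩ : X.Opens) := by
      rw [hE'eq] at hx; exact hx.1
    obtain ⟨W, hW, hxW, hWO⟩ := exists_isAffineOpen_mem_and_subset (X := X) (x := x)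
      (U := ⟨O', hO'⟩) hxO
    exact ⟨W, hW, hxW, hWO⟩
  choose! W hW hxW hWO using hex
  obtain ⟨t, htE, htfin, hcov⟩ := hc.elim_finite_subcover_image (b := E') (c := fun x => (W x : Set X))
    (fun x _ => (W x).2) (fun x hx => Set.mem_biUnion hx (hxW x hx))
  have hsub0 : ((⨆ x ∈ t, W x : X.Opens) : Set X) ⊆ O' := by
    have : ((⨆ x ∈ t, W x : X.Opens) : Set X) = ⋃ x ∈ t, (W x : Set X) := by
      simp
    rw [this]
    exact Set.iUnion₂_subset (fun x hx => hWO x (htE hx))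
  refine ⟨⨆ x ∈ t, W x, fun x hx => hO'N (hsub0 hx), ?_, ?_⟩
  · have : ((⨆ x ∈ t, W x : X.Opens) : Set X) = ⋃ x ∈ t, (W x : Set X) := by
      simp
    rw [this]
    exact htfin.isCompact_biUnion (fun x hx => (hW x (htE hx)).isCompact)
  · have hsub : ((⨆ x ∈ t, W x : X.Opens) : Set X) ⊆ O' := by
      have : ((⨆ x ∈ t, W x : X.Opens) : Set X) = ⋃ x ∈ t, (W x : Set X) := by
        simp
      rw [this]
      exact Set.iUnion₂_subset (fun x hx => hWO x (htE hx))
    apply Set.Subset.antisymm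
    · intro x hx
      refine ⟨subset_closure hx, ?_⟩
      have := hcov hx
      simpa using this
    · rintro x ⟨hx1, hx2⟩
      rw [hE'eq]
      exact ⟨hsub hx2, hcl hx1⟩

/-- affine base: `E` is locally closed as soon as its preimage under a quasi-compact universally
S-subtrusive morphism is locally closed and retrocompact -/
theorem isLocallyClosed_of_preimage_of_isAffine {X Y : Scheme.{u}} [IsAffine Y] (f : X ⟶ Y)
    [QuasiCompact f] (hf : UnivSSubtrusive f) (E : Set Y) (h1 : IsLocallyClosed (f ⁻¹' E))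
    (h2 : IsRetrocompact (f ⁻¹' E)) : IsLocallyClosed E := by
  have hX : CompactSpace X := QuasiCompact.compactSpace_of_compactSpace f
  have hS : IsSSubtrusive f :=
    MorphismProperty.universally_le (P := fun _ _ f => Subtr.IsSSubtrusive f) _ hf
  have hsurj : Function.Surjective f := IsSSubtrusive.surjective hS
  have hE : f '' (f ⁻¹' E) = E := Set.image_preimage_eq E hsurj
  have hE'c : IsCompact (f ⁻¹' E) := by simpa using h2 isCompact_univ isOpen_univ
  obtain ⟨O, -, hOc, hEO⟩ := exists_isCompact_open_of_isLocallyClosed (f ⁻¹' E) h1 hE'c ⊤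
    (Set.subset_univ _)
  -- closure = specializations
  have hA : ∀ y ∈ closure E, ∃ e ∈ E, e ⤳ y := by
    intro y hy
    have hOcs : CompactSpace (O : Scheme.{u}) := isCompact_iff_compactSpace.mp hOc
    let K : Set (O : Scheme.{u}) := O.ι ⁻¹' (closure (f ⁻¹' E))
    have hK : IsClosed K := isClosed_closure.preimage O.ι.continuous
    have hgK : (O.ι ≫ f) '' K = E := by
      apply Set.Subset.antisymm
      · rintro _ ⟨c, hc, rfl⟩
        have hc' : O.ι c ∈ f ⁻¹' E := by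
          rw [hEO]; exact ⟨hc, c.2⟩
        exact hc'
      · intro e he
        obtain ⟨x, rfl⟩ := hsurj e
        have hx : x ∈ f ⁻¹' E := he
        rw [hEO] at hx
        exact ⟨⟨x, hx.2⟩, hx.1, rfl⟩
    rw [← hgK] at hy
    obtain ⟨c, hcK, hc⟩ := exists_specializes_of_mem_closure_image_of_compact (O.ι ≫ f) K hK y hy
    refine ⟨(O.ι ≫ f) c, ?_, hc⟩
    rw [← hgK]
    exact ⟨c, hcK, rfl⟩
  -- the closure of `E` is the image of the closure of the preimage
  have hA' : closure E ⊆ f '' closure (f ⁻¹' E) := by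
    intro y hy
    obtain ⟨e, he, hey⟩ := hA y hy
    obtain ⟨x, x', hx, hfx, hfx'⟩ := hS hey
    have hx' : x' ∈ f ⁻¹' E := by
      show f x' ∈ E
      rw [hfx']; exact he
    exact ⟨x, hx.mem_closed isClosed_closure (subset_closure hx'), hfx⟩
  -- convexity of `E`
  have hB : ∀ e y e₂ : Y, e ∈ E → e₂ ∈ E → e ⤳ y → y ⤳ e₂ → y ∈ E := by
    intro e y e₂ he he₂ h01 h12
    let ch : Fin 3 → Y := ![e, y, e₂]
    have hch : ∀ i j : Fin 3, i ≤ j → ch i ⤳ ch j := by
      intro i j hij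
      fin_cases i <;> fin_cases j <;> simp [ch] at hij ⊢ <;>
        first | exact specializes_rfl | exact h01 | exact h12 | exact h01.trans h12
    obtain ⟨x, hx, hfx⟩ := exists_chain_lift f hf 2 ch hch
    have hx0 : x 0 ∈ f ⁻¹' E := by
      show f (x 0) ∈ E
      rw [hfx 0]; exact he
    have hx2 : x 2 ∈ f ⁻¹' E := by
      show f (x 2) ∈ E
      rw [hfx 2]; exact he₂
    have hx1 : x 1 ∈ f ⁻¹' E := by
      rw [hEO]
      refine ⟨(hx 0 1 (by decide)).mem_closed isClosed_closure (subset_closure hx0), ?_⟩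
      rw [hEO] at hx2
      exact (hx 1 2 (by decide)).mem_open O.2 hx2.2
    have : f (x 1) ∈ E := hx1
    rw [hfx 1] at this
    exact this
  -- the boundary is the image of a closed set
  let K' : Set X := closure (f ⁻¹' E) \ (O : Set X)
  have hK' : IsClosed K' := isClosed_closure.sdiff O.2
  have hT : closure E \ E = f '' K' := by
    apply Set.Subset.antisymm
    · rintro y ⟨hy1, hy2⟩
      obtain ⟨x, hx, rfl⟩ := hA' hy1
      refine ⟨x, ⟨hx, fun hxO => hy2 ?_⟩, rfl⟩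
      have : x ∈ f ⁻¹' E := by rw [hEO]; exact ⟨hx, hxO⟩
      exact this
    · rintro _ ⟨x, ⟨hx1, hx2⟩, rfl⟩
      refine ⟨?_, fun hfx => hx2 ?_⟩
      · have := image_closure_subset_closure_image f.continuous ⟨x, hx1, rfl⟩
        rwa [hE] at this
      · have : x ∈ f ⁻¹' E := hfx
        rw [hEO] at this
        exact this.2
  -- the boundary is stable under specialization, hence closed
  have hC : ∀ y y₂ : Y, y ∈ closure E \ E → y ⤳ y₂ → y₂ ∈ closure E \ E := by
    rintro y y₂ ⟨hy1, hy2⟩ hyy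
    refine ⟨hyy.mem_closed isClosed_closure hy1, fun hy₂ => hy2 ?_⟩
    obtain ⟨e, he, hey⟩ := hA y hy1
    exact hB e y y₂ he hy₂ hey hyy
  have hD : IsClosed (closure E \ E) := by
    rw [← closure_subset_iff_isClosed]
    intro z hz
    rw [hT] at hz
    obtain ⟨c, hcK, hc⟩ := exists_specializes_of_mem_closure_image_of_compact f K' hK' z hz
    have : f c ∈ closure E \ E := by rw [hT]; exact ⟨c, hcK, rfl⟩
    exact hC _ _ this hc
  rw [isLocallyClosed_iff_isOpen_coborder, coborder]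
  exact hD.isOpen_compl

/-- general base: `E` is locally closed as soon as its preimage under a quasi-compact universally
S-subtrusive morphism is locally closed and retrocompact -/
theorem isLocallyClosed_of_preimage {X Y : Scheme.{u}} (f : X ⟶ Y)
    [QuasiCompact f] (hf : UnivSSubtrusive f) (E : Set Y) (h1 : IsLocallyClosed (f ⁻¹' E))
    (h2 : IsRetrocompact (f ⁻¹' E)) : IsLocallyClosed E := by
  have hcov : TopologicalSpace.IsOpenCover (fun U : Y.affineOpens => (U : Y.Opens)) :=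
    AlgebraicGeometry.iSup_affineOpens_eq_top Y
  rw [hcov.isLocallyClosed_iff_coe_preimage]
  intro Y₀
  have hY₀ : IsAffine ((Y₀ : Y.Opens) : Scheme.{u}) := Y₀.2
  have hι : ∀ x : ((f ⁻¹ᵁ (Y₀ : Y.Opens) : X.Opens) : Scheme.{u}),
      (Y₀ : Y.Opens).ι ((f ∣_ (Y₀ : Y.Opens)) x) = f ((f ⁻¹ᵁ (Y₀ : Y.Opens)).ι x) := by
    intro x
    have := congrArg (fun ψ : ((f ⁻¹ᵁ (Y₀ : Y.Opens) : X.Opens) : Scheme.{u}) ⟶ Y => ψ x)
      (morphismRestrict_ι f (Y₀ : Y.Opens))
    exact this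
  have hstab : (UnivSSubtrusive.{u}).IsStableUnderBaseChange :=
    MorphismProperty.universally_isStableUnderBaseChange _
  have hf₀ : UnivSSubtrusive (f ∣_ (Y₀ : Y.Opens)) :=
    MorphismProperty.of_isPullback (P := UnivSSubtrusive)
      (isPullback_morphismRestrict f (Y₀ : Y.Opens)).flip hf
  have heq : (f ∣_ (Y₀ : Y.Opens)) ⁻¹' ((Y₀ : Y.Opens).ι ⁻¹' E) =
      (f ⁻¹ᵁ (Y₀ : Y.Opens)).ι ⁻¹' (f ⁻¹' E) := by
    ext x
    simp only [Set.mem_preimage]
    exact Iff.of_eq (congrArg (· ∈ E) (hι x))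
  refine isLocallyClosed_of_preimage_of_isAffine (f ∣_ (Y₀ : Y.Opens)) hf₀
    ((Y₀ : Y.Opens).ι ⁻¹' E) ?_ ?_
  · rw [heq]
    exact h1.preimage (f ⁻¹ᵁ (Y₀ : Y.Opens)).ι.continuous
  · rw [heq]
    exact h2.preimage_of_isOpenEmbedding (f ⁻¹ᵁ (Y₀ : Y.Opens)).ι.isOpenEmbedding

/-- images of retrocompact saturated sets under quasi-compact surjections are retrocompact -/
theorem isRetrocompact_of_preimage {X Y : Scheme.{u}} (f : X ⟶ Y) [QuasiCompact f]
    (hsurj : Function.Surjective f) (E : Set Y) (h2 : IsRetrocompact (f ⁻¹' E)) :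
    IsRetrocompact E := by
  intro U hUc hUo
  have h3 : IsCompact (f ⁻¹' E ∩ f ⁻¹' U) :=
    h2 (QuasiCompact.isCompact_preimage (f := f) U hUo hUc) (hUo.preimage f.continuous)
  have : E ∩ U = f '' (f ⁻¹' E ∩ f ⁻¹' U) := by
    rw [← Set.preimage_inter, Set.image_preimage_eq _ hsurj]
  rw [this]
  exact h3.image f.continuous

/-- affine-local compactness of preimages of compact opens -/
theorem isCompact_preimage_inter {X Y : Scheme.{u}} (f : X ⟶ Y) (U : Y.Opens)
    (hU : IsAffineOpen U) (W : X.Opens) (hW : IsAffineOpen W) (hWU : W ≤ f ⁻¹ᵁ U) (O : Y.Opens)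
    (hOU : O ≤ U) (hOc : IsCompact (O : Set Y)) : IsCompact ((f ⁻¹ᵁ O : Set X) ∩ W) := by
  have : IsAffine (W : Scheme.{u}) := hW
  have : IsAffine (U : Scheme.{u}) := hU
  let g' : (W : Scheme.{u}) ⟶ (U : Scheme.{u}) := IsOpenImmersion.lift U.ι (W.ι ≫ f) (by
    rw [Scheme.Opens.range_ι]
    rintro _ ⟨x, rfl⟩
    exact hWU x.2)
  have hg' : g' ≫ U.ι = W.ι ≫ f := IsOpenImmersion.lift_fac _ _ _
  have hO' : IsCompact (U.ι ⁻¹' (O : Set Y)) := by
    rw [U.ι.isOpenEmbedding.isInducing.isCompact_preimage_iff]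
    · exact hOc
    · rw [Scheme.Opens.range_ι]; exact hOU
  have h1 : IsCompact (g' ⁻¹' (U.ι ⁻¹' (O : Set Y))) :=
    QuasiCompact.isCompact_preimage (f := g') _ (O.2.preimage U.ι.continuous) hO'
  have h2 : (f ⁻¹ᵁ O : Set X) ∩ W = W.ι '' (g' ⁻¹' (U.ι ⁻¹' (O : Set Y))) := by
    ext x
    constructor
    · rintro ⟨hx1, hx2⟩
      let c : ↥(W : Scheme.{u}) := ⟨x, hx2⟩
      refine ⟨c, ?_, rfl⟩
      have hc : (g' ≫ U.ι) c ∈ O := by rw [hg']; exact hx1
      exact hc
    · rintro ⟨c, hc, rfl⟩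
      refine ⟨?_, c.2⟩
      have h3 : (g' ≫ U.ι) c ∈ O := hc
      rw [hg'] at h3
      exact h3
  rw [h2]
  exact h1.image W.ι.continuous

/-- the preimage of a locally closed retrocompact set meets affine opens lying over affine opens
in compact sets -/
theorem isCompact_preimage_inter_of_isAffineOpen {X Y : Scheme.{u}} (f : X ⟶ Y) (E : Set Y)
    (h1 : IsLocallyClosed E) (h2 : IsRetrocompact E) (U : Y.Opens) (hU : IsAffineOpen U)
    (W : X.Opens) (hW : IsAffineOpen W) (hWU : W ≤ f ⁻¹ᵁ U) : IsCompact (f ⁻¹' E ∩ W) := by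
  have hEUc : IsCompact (E ∩ U) := h2 hU.isCompact U.2
  have hEUl : IsLocallyClosed (E ∩ (U : Set Y)) := h1.inter U.2.isLocallyClosed
  obtain ⟨O, hOU, hOc, hEO⟩ := exists_isCompact_open_of_isLocallyClosed (E ∩ U) hEUl hEUc U
    Set.inter_subset_right
  have heq : f ⁻¹' E ∩ W = f ⁻¹' (closure (E ∩ U)) ∩ ((f ⁻¹ᵁ O : Set X) ∩ W) := by
    ext x
    constructor
    · rintro ⟨hx1, hx2⟩
      have hxU : f x ∈ E ∩ U := ⟨hx1, hWU hx2⟩
      rw [hEO] at hxU
      exact ⟨hxU.1, hxU.2, hx2⟩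
    · rintro ⟨hx1, hx2, hx3⟩
      have : f x ∈ E ∩ U := by rw [hEO]; exact ⟨hx1, hx2⟩
      exact ⟨this.1, hx3⟩
  rw [heq]
  exact (isCompact_preimage_inter f U hU W hW hWU O hOU hOc).inter_left
    (isClosed_closure.preimage f.continuous)

/-- preimages of locally closed retrocompact sets are retrocompact (any morphism) -/
theorem isRetrocompact_preimage_of_isLocallyClosed {X Y : Scheme.{u}} (f : X ⟶ Y) (E : Set Y)
    (h1 : IsLocallyClosed E) (h2 : IsRetrocompact E) : IsRetrocompact (f ⁻¹' E) := by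
  intro V hVc hVo
  have hex : ∀ x : X, x ∈ V → ∃ (U : Y.Opens) (W : X.Opens), IsAffineOpen U ∧ IsAffineOpen W ∧
      x ∈ W ∧ (W : Set X) ⊆ V ∧ W ≤ f ⁻¹ᵁ U := by
    intro x hx
    obtain ⟨U, hU, hxU, -⟩ := exists_isAffineOpen_mem_and_subset (X := Y) (x := f x) (U := ⊤)
      trivial
    have hxN : x ∈ ((⟨V, hVo⟩ : X.Opens) ⊓ f ⁻¹ᵁ U) := ⟨hx, hxU⟩
    obtain ⟨W, hW, hxW, hWN⟩ := exists_isAffineOpen_mem_and_subset (X := X) (x := x)
      (U := (⟨V, hVo⟩ : X.Opens) ⊓ f ⁻¹ᵁ U) hxN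
    exact ⟨U, W, hU, hW, hxW, fun y hy => (hWN hy).1, fun y hy => (hWN hy).2⟩
  choose! U W hU hW hxW hWV hWU using hex
  obtain ⟨t, htV, htfin, hcov⟩ := hVc.elim_finite_subcover_image (b := V)
    (c := fun x => (W x : Set X)) (fun x _ => (W x).2) (fun x hx => Set.mem_biUnion hx (hxW x hx))
  have heq : f ⁻¹' E ∩ V = ⋃ x ∈ t, (f ⁻¹' E ∩ (W x : Set X)) := by
    ext z
    simp only [Set.mem_inter_iff, Set.mem_iUnion, exists_prop]
    constructor
    · rintro ⟨hz1, hz2⟩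
      obtain ⟨x, hx, hzx⟩ := Set.mem_iUnion₂.mp (hcov hz2)
      exact ⟨x, hx, hz1, hzx⟩
    · rintro ⟨x, hx, hz1, hzx⟩
      exact ⟨hz1, hWV x (htV hx) hzx⟩
  rw [heq]
  exact htfin.isCompact_biUnion (fun x hx =>
    isCompact_preimage_inter_of_isAffineOpen f E h1 h2 (U x) (hU x (htV hx)) (W x) (hW x (htV hx))
      (hWU x (htV hx)))

end Groth.Agent.Lib.SubtrLCH52
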