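/-
Limit theorem for the lifting of ordered pairs of points (S-subtrusive morphisms) along cofiltered
limits of schemes with affine transition maps (helper52).

* `exists_forall_mem`: Stacks 0A2W for cofiltered limits of qcqs schemes (via helper33's
  `SpectralLim33` and `LimTop`)
* `specializes_of_forall`: specialization in the limit is checked on projections
* `exists_specializes_of_mem_closure_fibre'`: a point in the closure of a fibre is a specialization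
  of a point of the fibre (any target)
* `exists_specializes_of_quasiCompact`: the limit theorem.
-/
import Groth.Agent.Lib.SubtrH52b
import Groth.Agent.Lib.SpectralLim33
import Groth.Agent.Lib.LimTop
import Groth.Agent.Lib.LimDescent

set_option autoImplicit false
universe u
open CategoryTheory CategoryTheory.Limits AlgebraicGeometry IsLocalRing Topology

namespace Groth.Agent.Lib.SubtrLimH52

open Groth.Agent.Lib

section ConsLimit

variable {J : Type u} [SmallCategory J] [IsCofiltered J] (𝒳 : J ⥤ Scheme.{u})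
  [∀ {i j : J} (a : i ⟶ j), IsAffineHom (𝒳.map a)] (c : Cone 𝒳) (hc : IsLimit c)

include hc in
/-- Stacks 0A2W for a cofiltered limit of qcqs schemes with affine transition maps. -/
theorem exists_forall_mem [∀ j, CompactSpace (𝒳.obj j)] [∀ j, QuasiSeparatedSpace (𝒳.obj j)]
    (Z : ∀ j, Set (𝒳.obj j)) (hne : ∀ j, (Z j).Nonempty)
    (hZ : ∀ j, IsClosed[constructibleTopology (𝒳.obj j)] (Z j))
    (hmaps : ∀ {i j : J} (a : i ⟶ j), Set.MapsTo (𝒳.map a) (Z i) (Z j)) :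
    ∃ x : c.pt, ∀ j, c.π.app j x ∈ Z j := by
  obtain ⟨hlim⟩ := LimTop.nonempty_isLimit_forgetToTop 𝒳 c hc
  have hF : ∀ j, SpectralSpace ((𝒳 ⋙ Scheme.forgetToTop).obj j) := fun j => by
    show SpectralSpace (𝒳.obj j)
    exact { }
  have hFm : ∀ {i j : J} (a : i ⟶ j),
      IsSpectralMap ((𝒳 ⋙ Scheme.forgetToTop).map a :
        (𝒳 ⋙ Scheme.forgetToTop).obj i → (𝒳 ⋙ Scheme.forgetToTop).obj j) := fun a =>
    (𝒳.map a).isSpectralMap
  exact SpectralLim33.exists_forall_mem (F := 𝒳 ⋙ Scheme.forgetToTop)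
    (Scheme.forgetToTop.mapCone c) hlim hF hFm Z hne hZ (fun a => hmaps a)

include hc in
/-- specialization in the limit can be checked on the projections -/
theorem specializes_of_forall {x' x : c.pt} (h : ∀ j, c.π.app j x' ⤳ c.π.app j x) : x' ⤳ x := by
  rw [specializes_iff_forall_open]
  intro s hs hxs
  have hb := isBasis_preimage_isAffineOpen 𝒳 c hc
  obtain ⟨_, ⟨i, V, hV, rfl⟩, hxV, hVs⟩ :=
    TopologicalSpace.Opens.isBasis_iff_nbhd.mp hb (U := ⟨s, hs⟩) hxs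
  apply hVs
  show c.π.app i x' ∈ V
  exact (h i).mem_open V.2 hxV

end ConsLimit

section Cons

variable {X Y : Type*} [TopologicalSpace X] [TopologicalSpace Y]

/-- the set of generizations of a point is closed for the constructible topology -/
theorem isClosed_cons_setOf_specializes [PrespectralSpace X] (z : X) :
    IsClosed[constructibleTopology X] {w : X | w ⤳ z} := by
  have : {w : X | w ⤳ z} = ⋂ U : {U : Set X // (IsOpen U ∧ IsCompact U) ∧ z ∈ U}, (U : Set X) := by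
    ext w
    simp only [Set.mem_ofPred_eq, Set.mem_iInter, Subtype.forall]
    constructor
    · intro h U hU
      exact h.mem_open hU.1.1 hU.2
    · intro h
      rw [specializes_iff_forall_open]
      intro s hs hzs
      obtain ⟨V, hV, hzV, hVs⟩ :=
        (PrespectralSpace.isTopologicalBasis (X := X)).exists_subset_of_mem_open hzs hs
      exact hVs (h V ⟨hV, hzV⟩)
  rw [this]
  exact @isClosed_iInter _ _ (constructibleTopology X) _ fun U =>
    SpectralCons33.isClosed_cons_of_isOpen_isCompact U.2.1.1 U.2.1.2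

theorem isClosed_cons_singleton [T0Space Y] [PrespectralSpace Y] (y : Y) :
    IsClosed[constructibleTopology Y] ({y} : Set Y) := by
  have := SpectralCons33.t2Space_cons (X := Y)
  exact @isClosed_singleton _ (constructibleTopology Y) _ y

theorem isClosed_cons_preimage {f : X → Y} (hf : IsSpectralMap f) {Z : Set Y}
    (hZ : IsClosed[constructibleTopology Y] Z) : IsClosed[constructibleTopology X] (f ⁻¹' Z) :=
  @IsClosed.preimage _ _ (constructibleTopology X) (constructibleTopology Y) f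
    (SpectralCons33.continuous_cons_of_isSpectralMap hf) Z hZ

end Cons

/-- fibres of a morphism from an affine scheme landing in an affine open are closed for the
constructible topology -/
theorem isClosed_cons_fibre {A Y : Scheme.{u}} [IsAffine A] (ψ : A ⟶ Y) (W : Y.Opens)
    (hW : IsAffineOpen W) (hψ : Set.range ψ ⊆ (W : Set Y)) (y : Y) :
    IsClosed[constructibleTopology A] (ψ ⁻¹' {y}) := by
  have : IsAffine (W : Scheme.{u}) := hW
  let ψ' : A ⟶ (W : Scheme.{u}) := IsOpenImmersion.lift W.ι ψ (by rw [Scheme.Opens.range_ι]; exact hψ)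
  have hψ' : ψ' ≫ W.ι = ψ := IsOpenImmersion.lift_fac _ _ _
  by_cases hy : y ∈ W
  · have h1 : ψ ⁻¹' {y} = ψ' ⁻¹' {(⟨y, hy⟩ : W)} := by
      ext a
      simp only [Set.mem_preimage, Set.mem_singleton_iff]
      rw [← hψ', Scheme.Hom.comp_apply]
      constructor
      · intro h
        exact W.ι.isOpenEmbedding.injective h
      · intro h
        rw [h]; rfl
    rw [h1]
    exact isClosed_cons_preimage ψ'.isSpectralMap (isClosed_cons_singleton _)
  · have h1 : ψ ⁻¹' {y} = ∅ := by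
      ext a
      simp only [Set.mem_preimage, Set.mem_singleton_iff, Set.mem_empty_iff_false, iff_false]
      intro h
      exact hy (h ▸ hψ (Set.mem_range_self a))
    rw [h1]
    exact @isClosed_empty _ (constructibleTopology A)

/-- a point in the closure of a fibre is a specialization of a point of the fibre -/
theorem exists_specializes_of_mem_closure_fibre' {X Y : Scheme.{u}} (f : X ⟶ Y)
    (y : Y) (x : X) (hx : x ∈ closure (f ⁻¹' {y})) : ∃ x' : X, f x' = y ∧ x' ⤳ x := by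
  obtain ⟨W, hW, hxW, -⟩ := exists_isAffineOpen_mem_and_subset (X := Y) (x := f x) (U := ⊤) trivial
  have : IsAffine (W : Scheme.{u}) := hW
  have hxmem : x ∈ f ⁻¹ᵁ W := hxW
  have hι : ∀ z : ((f ⁻¹ᵁ W : X.Opens) : Scheme.{u}),
      W.ι ((f ∣_ W) z) = f ((f ⁻¹ᵁ W).ι z) := by
    intro z
    have := congrArg (fun ψ : ((f ⁻¹ᵁ W : X.Opens) : Scheme.{u}) ⟶ Y => ψ z)
      (morphismRestrict_ι f W)
    exact this
  -- `y ∈ W`
  have hyW : y ∈ W := by
    have h1 : x ∈ closure ((f ⁻¹ᵁ W : Set X) ∩ f ⁻¹' {y}) :=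
      (f ⁻¹ᵁ W).2.inter_closure ⟨hxmem, hx⟩
    obtain ⟨z, hz1, hz2⟩ : ((f ⁻¹ᵁ W : Set X) ∩ f ⁻¹' {y}).Nonempty := by
      by_contra hcon
      rw [Set.not_nonempty_iff_eq_empty] at hcon
      rw [hcon, closure_empty] at h1
      exact Set.notMem_empty x h1
    have : f z = y := hz2
    rw [← this]; exact hz1
  have h2 : (f ⁻¹ᵁ W).ι '' ((f ∣_ W) ⁻¹' {(⟨y, hyW⟩ : W)}) =
      (f ⁻¹ᵁ W : Set X) ∩ f ⁻¹' {y} := by
    ext z
    simp only [Set.mem_image, Set.mem_preimage, Set.mem_singleton_iff, Set.mem_inter_iff]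
    constructor
    · rintro ⟨w, hw, rfl⟩
      refine ⟨w.2, ?_⟩
      rw [← hι, hw]; rfl
    · rintro ⟨hz1, hz2⟩
      refine ⟨⟨z, hz1⟩, ?_, rfl⟩
      apply W.ι.isOpenEmbedding.injective
      exact (hι _).trans hz2
  have hmem : (⟨x, hxmem⟩ : (f ⁻¹ᵁ W : X.Opens)) ∈ closure ((f ∣_ W) ⁻¹' {(⟨y, hyW⟩ : W)}) := by
    rw [(f ⁻¹ᵁ W).ι.isOpenEmbedding.isInducing.closure_eq_preimage_closure_image, h2]
    exact (f ⁻¹ᵁ W).2.inter_closure ⟨hxmem, hx⟩
  obtain ⟨w, hw1, hw2⟩ :=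
    Groth.Agent.Lib.SubtrH52.exists_specializes_of_mem_closure_fibre (f ∣_ W) _ _ hmem
  refine ⟨(f ⁻¹ᵁ W).ι w, ?_, hw2.map (f ⁻¹ᵁ W).ι.continuous⟩
  rw [← hι, hw1]; rfl

section Main

variable {J : Type u} [SmallCategory J] [IsCofiltered J] (𝒳 𝒴 : J ⥤ Scheme.{u})
  [∀ {i j : J} (a : i ⟶ j), IsAffineHom (𝒳.map a)]
  [∀ {i j : J} (a : i ⟶ j), IsAffineHom (𝒴.map a)]
  (φ : 𝒳 ⟶ 𝒴) (cX : Cone 𝒳) (hX : IsLimit cX) (cY : Cone 𝒴) (hY : IsLimit cY)
  (F : cX.pt ⟶ cY.pt) (hF : ∀ j, F ≫ cY.π.app j = cX.π.app j ≫ φ.app j)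

include hX hY hF in
/-- Affine-local core of the limit theorem for the lifting of ordered pairs. -/
theorem exists_specializes_of_affineOpen (j₀ : J) (U : (𝒳.obj j₀).Opens) (hU : IsAffineOpen U)
    (W : (𝒴.obj j₀).Opens) (hW : IsAffineOpen W) (hUW : U ≤ φ.app j₀ ⁻¹ᵁ W)
    (y y' : cY.pt)
    (H : ∀ j : Over j₀, ∃ x x' : 𝒳.obj j.left, x' ⤳ x ∧ φ.app j.left x = cY.π.app j.left y ∧
      φ.app j.left x' = cY.π.app j.left y' ∧ 𝒳.map j.hom x ∈ U) :
    ∃ x x' : cX.pt, x' ⤳ x ∧ F x = y ∧ F x' = y' := by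
  let 𝒰 := opensDiagram 𝒳 j₀ U
  let c𝒰 := opensCone 𝒳 cX j₀ U
  have h𝒰 : IsLimit c𝒰 := isLimitOpensCone 𝒳 cX hX j₀ U
  have aff : ∀ j, IsAffine (𝒰.obj j) := fun j => hU.preimage (𝒳.map j.hom)
  let ψ : ∀ j : Over j₀, 𝒰.obj j ⟶ 𝒴.obj j.left := fun j =>
    (𝒳.map j.hom ⁻¹ᵁ U).ι ≫ φ.app j.left
  have hψapp : ∀ (j : Over j₀) (z : 𝒰.obj j), ψ j z = φ.app j.left z.1 := fun j z => rfl
  -- compatibility
  have hψ : ∀ {i j : Over j₀} (a : i ⟶ j), 𝒰.map a ≫ ψ j = ψ i ≫ 𝒴.map a.left := by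
    intro i j a
    have h1 : 𝒰.map a ≫ (𝒳.map j.hom ⁻¹ᵁ U).ι = (𝒳.map i.hom ⁻¹ᵁ U).ι ≫ 𝒳.map a.left :=
      Scheme.Hom.resLE_comp_ι _ _
    exact (Category.assoc _ _ _).symm.trans ((congrArg (· ≫ φ.app j.left) h1).trans
      ((Category.assoc _ _ _).trans ((congrArg ((𝒳.map i.hom ⁻¹ᵁ U).ι ≫ ·)
        (φ.naturality a.left)).trans (Category.assoc _ _ _).symm)))
  have hψ' : ∀ {i j : Over j₀} (a : i ⟶ j) (z : 𝒰.obj i),
      ψ j (𝒰.map a z) = 𝒴.map a.left (ψ i z) := by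
    intro i j a z
    rw [← Scheme.Hom.comp_apply, hψ a, Scheme.Hom.comp_apply]
  have hyw : ∀ {i j : Over j₀} (a : i ⟶ j) (t : cY.pt),
      𝒴.map a.left (cY.π.app i.left t) = cY.π.app j.left t := by
    intro i j a t
    rw [← Scheme.Hom.comp_apply, cY.w]
  -- the affine opens of the targets
  have hWj : ∀ j : Over j₀, IsAffineOpen (𝒴.map j.hom ⁻¹ᵁ W) := fun j => hW.preimage _
  have hrange : ∀ j : Over j₀, Set.range (ψ j) ⊆ ((𝒴.map j.hom ⁻¹ᵁ W : (𝒴.obj j.left).Opens) :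
      Set (𝒴.obj j.left)) := by
    rintro j _ ⟨z, rfl⟩
    show 𝒴.map j.hom (ψ j z) ∈ W
    rw [hψapp, ← Scheme.Hom.comp_apply, ← φ.naturality j.hom, Scheme.Hom.comp_apply]
    exact hUW z.2
  -- Step 1: the point over `y`
  let yj : ∀ j : Over j₀, 𝒴.obj j.left := fun j => cY.π.app j.left y
  let yj' : ∀ j : Over j₀, 𝒴.obj j.left := fun j => cY.π.app j.left y'
  let B : ∀ j : Over j₀, Set (𝒰.obj j) := fun j =>
    (ψ j) ⁻¹' {yj j} ∩ closure ((ψ j) ⁻¹' {yj' j})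
  have hBne : ∀ j, (B j).Nonempty := by
    intro j
    obtain ⟨x, x', hx, h1, h2, h3⟩ := H j
    have hxU : x ∈ 𝒳.map j.hom ⁻¹ᵁ U := h3
    have hx'U : x' ∈ 𝒳.map j.hom ⁻¹ᵁ U := hx.mem_open (𝒳.map j.hom ⁻¹ᵁ U).2 hxU
    let z : 𝒰.obj j := ⟨x, hxU⟩
    let z' : 𝒰.obj j := ⟨x', hx'U⟩
    have hz'z : z' ⤳ z :=
      ((𝒳.map j.hom ⁻¹ᵁ U).ι.isOpenEmbedding.isInducing.specializes_iff (x := z') (y := z)).mp hx
    refine ⟨z, h1, ?_⟩
    have hz' : z' ∈ (ψ j) ⁻¹' {yj' j} := h2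
    exact closure_mono (Set.singleton_subset_iff.mpr hz') (specializes_iff_mem_closure.mp hz'z)
  have hBcl : ∀ j, IsClosed[constructibleTopology (𝒰.obj j)] (B j) := fun j =>
    @IsClosed.inter _ _ _ (constructibleTopology (𝒰.obj j))
      (isClosed_cons_fibre (ψ j) _ (hWj j) (hrange j) _)
      (SpectralCons33.isClosed_cons_of_isClosed isClosed_closure)
  have hfib : ∀ {i j : Over j₀} (a : i ⟶ j) (t : cY.pt),
      Set.MapsTo (𝒰.map a) ((ψ i) ⁻¹' {cY.π.app i.left t}) ((ψ j) ⁻¹' {cY.π.app j.left t}) := by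
    intro i j a t z hz
    show ψ j (𝒰.map a z) = _
    rw [hψ' a z, show ψ i z = _ from hz, hyw a t]
  have hBmaps : ∀ {i j : Over j₀} (a : i ⟶ j), Set.MapsTo (𝒰.map a) (B i) (B j) := by
    intro i j a z hz
    refine ⟨hfib a y hz.1, ?_⟩
    have h1 : 𝒰.map a z ∈ closure (𝒰.map a '' ((ψ i) ⁻¹' {yj' i})) :=
      image_closure_subset_closure_image (𝒰.map a).continuous ⟨z, hz.2, rfl⟩
    refine closure_mono ?_ h1
    rintro _ ⟨w, hw, rfl⟩
    exact hfib a y' hw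
  obtain ⟨x₀, hx₀⟩ := exists_forall_mem 𝒰 c𝒰 h𝒰 B hBne hBcl (fun a => hBmaps a)
  -- Step 2: the point over `y'`
  let A : ∀ j : Over j₀, Set (𝒰.obj j) := fun j =>
    (ψ j) ⁻¹' {yj' j} ∩ {w | w ⤳ c𝒰.π.app j x₀}
  have hAne : ∀ j, (A j).Nonempty := by
    intro j
    obtain ⟨w, hw1, hw2⟩ := exists_specializes_of_mem_closure_fibre' (ψ j) (yj' j) _ (hx₀ j).2
    exact ⟨w, hw1, hw2⟩
  have hAcl : ∀ j, IsClosed[constructibleTopology (𝒰.obj j)] (A j) := fun j =>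
    @IsClosed.inter _ _ _ (constructibleTopology (𝒰.obj j))
      (isClosed_cons_fibre (ψ j) _ (hWj j) (hrange j) _)
      (isClosed_cons_setOf_specializes _)
  have hAmaps : ∀ {i j : Over j₀} (a : i ⟶ j), Set.MapsTo (𝒰.map a) (A i) (A j) := by
    intro i j a w hw
    refine ⟨hfib a y' hw.1, ?_⟩
    have h1 : 𝒰.map a w ⤳ 𝒰.map a (c𝒰.π.app i x₀) := hw.2.map (𝒰.map a).continuous
    have h2 : 𝒰.map a (c𝒰.π.app i x₀) = c𝒰.π.app j x₀ := by
      rw [← Scheme.Hom.comp_apply, c𝒰.w]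
    show 𝒰.map a w ⤳ c𝒰.π.app j x₀
    rw [← h2]; exact h1
  obtain ⟨x₀', hx₀'⟩ := exists_forall_mem 𝒰 c𝒰 h𝒰 A hAne hAcl (fun a => hAmaps a)
  have hspec : x₀' ⤳ x₀ := specializes_of_forall 𝒰 c𝒰 h𝒰 (fun j => (hx₀' j).2)
  -- back to the limit
  have hproj : ∀ (t : cY.pt) (z : c𝒰.pt), (∀ j : Over j₀, ψ j (c𝒰.π.app j z) = cY.π.app j.left t) →
      F ((cX.π.app j₀ ⁻¹ᵁ U).ι z) = t := by
    intro t z hz
    apply LimTop.point_ext 𝒴 cY hY
    intro i
    let l := IsCofiltered.min i j₀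
    let a : l ⟶ i := IsCofiltered.minToLeft i j₀
    let b : l ⟶ j₀ := IsCofiltered.minToRight i j₀
    have h1 : ∀ s : cY.pt, cY.π.app i s = 𝒴.map a (cY.π.app l s) := by
      intro s
      rw [← Scheme.Hom.comp_apply, cY.w]
    show cY.π.app i _ = cY.π.app i t
    rw [h1, h1]
    congr 1
    have h2 : ψ (Over.mk b) (c𝒰.π.app (Over.mk b) z) = cY.π.app l t := hz (Over.mk b)
    have h3 : c𝒰.π.app (Over.mk b) ≫ (𝒳.map b ⁻¹ᵁ U).ι = (cX.π.app j₀ ⁻¹ᵁ U).ι ≫ cX.π.app l :=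
      Scheme.Hom.resLE_comp_ι _ _
    have h4 : cY.π.app l (F ((cX.π.app j₀ ⁻¹ᵁ U).ι z)) =
        φ.app l (cX.π.app l ((cX.π.app j₀ ⁻¹ᵁ U).ι z)) := by
      rw [← Scheme.Hom.comp_apply, hF l, Scheme.Hom.comp_apply]
    have h5 : cX.π.app l ((cX.π.app j₀ ⁻¹ᵁ U).ι z) =
        (𝒳.map b ⁻¹ᵁ U).ι (c𝒰.π.app (Over.mk b) z) := by
      have := congrArg (fun g : c𝒰.pt ⟶ 𝒳.obj l => g z) h3
      exact this.symm
    exact h4.trans ((congrArg (φ.app l) h5).trans h2)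
  refine ⟨(cX.π.app j₀ ⁻¹ᵁ U).ι x₀, (cX.π.app j₀ ⁻¹ᵁ U).ι x₀',
    hspec.map (cX.π.app j₀ ⁻¹ᵁ U).ι.continuous, ?_, ?_⟩
  · exact hproj y x₀ (fun j => (hx₀ j).1)
  · exact hproj y' x₀' (fun j => (hx₀' j).1)

omit [IsCofiltered J] in
/-- pigeonhole over a cofiltered category -/
theorem exists_forall_of_finite {C : Type*} [Category C] [IsCofiltered C] {κ : Type*} [Finite κ]
    (P : κ → C → Prop) (hmono : ∀ (k : κ) {i j : C} (_ : i ⟶ j), P k i → P k j)
    (hex : ∀ j, ∃ k, P k j) : ∃ k, ∀ j, P k j := by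
  classical
  by_contra hcon
  push Not at hcon
  choose j hj using hcon
  have := Fintype.ofFinite κ
  obtain ⟨i, hi⟩ := IsCofiltered.inf_objs_exists (Finset.univ.image j)
  obtain ⟨k, hk⟩ := hex i
  obtain ⟨a⟩ := hi (Finset.mem_image_of_mem j (Finset.mem_univ k))
  exact hj k (hmono k a hk)

include hX hY hF in
/-- **Limit theorem for the lifting of ordered pairs.** Given compatible cofiltered systems
`𝒳 ⟶ 𝒴` with affine transition maps and limits `F : X ⟶ Y`, with one `φ j₀` quasi-compact: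
if the images of `y' ⤳ y` lift to an ordered pair at every stage over `j₀`, then `y' ⤳ y` lifts
to an ordered pair of `X`. -/
theorem exists_specializes_of_quasiCompact (j₀ : J) [QuasiCompact (φ.app j₀)] (y y' : cY.pt)
    (H : ∀ j : Over j₀, ∃ x x' : 𝒳.obj j.left, x' ⤳ x ∧ φ.app j.left x = cY.π.app j.left y ∧
      φ.app j.left x' = cY.π.app j.left y') :
    ∃ x x' : cX.pt, x' ⤳ x ∧ F x = y ∧ F x' = y' := by
  obtain ⟨W, hW, hyW, -⟩ := exists_isAffineOpen_mem_and_subset (X := 𝒴.obj j₀)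
    (x := cY.π.app j₀ y) (U := ⊤) trivial
  have hcomp : IsCompact ((φ.app j₀ ⁻¹ᵁ W : (𝒳.obj j₀).Opens) : Set (𝒳.obj j₀)) :=
    QuasiCompact.isCompact_preimage (f := φ.app j₀) _ W.2 hW.isCompact
  obtain ⟨s, hs, hsU⟩ := isCompact_iff_finite_and_eq_biUnion_affineOpens.mp hcomp
  have hsfin : Finite s := hs
  let P : s → Over j₀ → Prop := fun k j =>
    ∃ x x' : 𝒳.obj j.left, x' ⤳ x ∧ φ.app j.left x = cY.π.app j.left y ∧
      φ.app j.left x' = cY.π.app j.left y' ∧ 𝒳.map j.hom x ∈ (k.1 : (𝒳.obj j₀).Opens)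
  have hnat : ∀ {i j : J} (a : i ⟶ j) (x : 𝒳.obj i), φ.app j (𝒳.map a x) = 𝒴.map a (φ.app i x) := by
    intro i j a x
    rw [← Scheme.Hom.comp_apply, φ.naturality a, Scheme.Hom.comp_apply]
  have hyw : ∀ {i j : J} (a : i ⟶ j) (t : cY.pt), 𝒴.map a (cY.π.app i t) = cY.π.app j t := by
    intro i j a t
    rw [← Scheme.Hom.comp_apply, cY.w]
  have hmono : ∀ (k : s) {i j : Over j₀} (_ : i ⟶ j), P k i → P k j := by
    rintro k i j a ⟨x, x', hx, h1, h2, h3⟩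
    refine ⟨𝒳.map a.left x, 𝒳.map a.left x', hx.map (𝒳.map a.left).continuous, ?_, ?_, ?_⟩
    · rw [hnat, h1, hyw]
    · rw [hnat, h2, hyw]
    · rw [← Scheme.Hom.comp_apply, ← 𝒳.map_comp, Over.w a]
      exact h3
  have hex : ∀ j, ∃ k, P k j := by
    intro j
    obtain ⟨x, x', hx, h1, h2⟩ := H j
    have hmem : 𝒳.map j.hom x ∈ φ.app j₀ ⁻¹ᵁ W := by
      show φ.app j₀ (𝒳.map j.hom x) ∈ W
      rw [hnat, h1, hyw]
      exact hyW
    rw [hsU] at hmem
    simp only [TopologicalSpace.Opens.mem_iSup] at hmem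
    obtain ⟨k, hk, hxk⟩ := hmem
    exact ⟨⟨k, hk⟩, x, x', hx, h1, h2, hxk⟩
  obtain ⟨k, hk⟩ := exists_forall_of_finite P hmono hex
  have hkW : (k.1 : (𝒳.obj j₀).Opens) ≤ φ.app j₀ ⁻¹ᵁ W := by
    rw [hsU]
    exact le_iSup₂ (f := fun (i : (𝒳.obj j₀).affineOpens) (_ : i ∈ s) => (i : (𝒳.obj j₀).Opens)) k.1 k.2
  exact exists_specializes_of_affineOpen 𝒳 𝒴 φ cX hX cY hY F hF j₀ k.1 k.1.2 W hW hkW y y' hk

end Main

open Groth.Agent.Lib.LimPullback Groth.Agent.Lib.LimDescent Subtr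

theorem isSSubtrusive_iso_comp {X' X Y : Scheme.{u}} (e : X' ≅ X) (f : X ⟶ Y)
    (hf : IsSSubtrusive f) : IsSSubtrusive (e.hom ≫ f) := by
  intro y y' hy
  obtain ⟨x, x', hx, h1, h2⟩ := hf hy
  refine ⟨e.inv x, e.inv x', hx.map e.inv.continuous, ?_, ?_⟩
  · rw [← Scheme.Hom.comp_apply, Iso.inv_hom_id_assoc]; exact h1
  · rw [← Scheme.Hom.comp_apply, Iso.inv_hom_id_assoc]; exact h2

section

variable {I : Type u} [SmallCategory I] [IsCofiltered I] (D : I ⥤ Scheme.{u}) (c : Cone D)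
  (hc : IsLimit c) [∀ {i j : I} (a : i ⟶ j), IsAffineHom (D.map a)] (i₀ : I)
  {X₀ Y₀ : Scheme.{u}} (f₀ : X₀ ⟶ Y₀) (g₀ : Y₀ ⟶ D.obj i₀)

/-- the natural transformation of stage maps -/
noncomputable def bcNat : pbDiagram D i₀ (f₀ ≫ g₀) ⟶ pbDiagram D i₀ g₀ where
  app j := bcMap f₀ g₀ (D.map j.hom)
  naturality j k a := by
    change pbMap D i₀ (f₀ ≫ g₀) a ≫ bcMap f₀ g₀ (D.map k.hom) =
      bcMap f₀ g₀ (D.map j.hom) ≫ pbMap D i₀ g₀ a
    apply pullback.hom_ext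
    · rw [Category.assoc, bcMap_fst, pbMap_fst_assoc, Category.assoc, pbMap_fst, bcMap_fst]
    · rw [Category.assoc, bcMap_snd, pbMap_snd, Category.assoc, pbMap_snd, bcMap_snd_assoc]

omit [IsCofiltered I] [∀ {i j : I} (a : i ⟶ j), IsAffineHom (D.map a)] in
theorem bcMap_pbProj (j : Over i₀) :
    bcMap f₀ g₀ (c.π.app i₀) ≫ pbProj D c i₀ g₀ j =
      pbProj D c i₀ (f₀ ≫ g₀) j ≫ bcMap f₀ g₀ (D.map j.hom) := by
  apply pullback.hom_ext
  · rw [Category.assoc, pbProj_fst, bcMap_fst, Category.assoc, bcMap_fst, pbProj_fst_assoc]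
  · rw [Category.assoc, pbProj_snd, bcMap_snd_assoc, Category.assoc, bcMap_snd, pbProj_snd]

include hc in
/-- the limit theorem in base-change form -/
theorem isSSubtrusive_bcMap_of_forall [QuasiCompact f₀] (j₀ : Over i₀)
    (h : ∀ j : Over j₀, IsSSubtrusive (bcMap f₀ g₀ (D.map j.left.hom))) :
    IsSSubtrusive (bcMap f₀ g₀ (c.π.app i₀)) := by
  intro y y' hy
  have hqc : QuasiCompact ((bcNat D i₀ f₀ g₀).app j₀) :=
    MorphismProperty.of_isPullback (isPullback_bcMap f₀ g₀ (D.map j₀.hom)) inferInstance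
  obtain ⟨x, x', hx, h1, h2⟩ := exists_specializes_of_quasiCompact
    (pbDiagram D i₀ (f₀ ≫ g₀)) (pbDiagram D i₀ g₀) (bcNat D i₀ f₀ g₀)
    (pbCone D c i₀ (f₀ ≫ g₀)) (isLimitPbCone hc) (pbCone D c i₀ g₀) (isLimitPbCone hc)
    (bcMap f₀ g₀ (c.π.app i₀)) (fun j => bcMap_pbProj D c i₀ f₀ g₀ j) j₀ y y'
    (fun j => by
      obtain ⟨x, x', hx, h1, h2⟩ := h j (hy.map (pbProj D c i₀ g₀ j.left).continuous)
      exact ⟨x, x', hx, h1, h2⟩)
  exact ⟨x, x', hx, h1, h2⟩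

end

end Groth.Agent.Lib.SubtrLimH52
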