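import Groth.Agent.Lib.SubtrNoethH52

set_option autoImplicit false
universe u
open CategoryTheory CategoryTheory.Limits AlgebraicGeometry IsLocalRing Topology

namespace Groth.Agent.Lib.SubtrNoethH52

open Groth.Agent.Lib Groth.Agent.Lib.ValSpecialize Subtr Groth.Agent.Lib.LimDescent
  Groth.Agent.Lib.SubtrH52 Groth.Agent.Lib.SubtrLimH52 Groth.Agent.Lib.HTopBasic
  Groth.Agent.Lib.FGSubalgLimit

/-- the discrete valuation ring lifting property (condition (iii) of Rydh 2.10) -/
def DvrLift {X Y : Scheme.{u}} (f : X ⟶ Y) : Prop :=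
  ∀ (D : Type u) [CommRing D] [IsDomain D] [IsDiscreteValuationRing D]
    (g : Spec (CommRingCat.of D) ⟶ Y),
    ∃ (D' : Type u) (_ : CommRing D') (_ : IsDomain D') (_ : IsDiscreteValuationRing D')
      (a : Spec (CommRingCat.of D') ⟶ X) (b : Spec (CommRingCat.of D') ⟶ Spec (CommRingCat.of D)),
      Surjective b ∧ a ≫ f = b ≫ g

/-- a surjective morphism between spectra of local domains preserves closed and generic points -/
theorem closedPoint_bot_of_surjective {D D' : Type u} [CommRing D] [IsDomain D] [IsLocalRing D]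
    [CommRing D'] [IsDomain D'] [IsLocalRing D']
    (b : Spec (CommRingCat.of D') ⟶ Spec (CommRingCat.of D)) (hb : Function.Surjective b) :
    b (closedPoint D') = closedPoint D ∧
      b (⟨⊥, Ideal.isPrime_bot⟩ : PrimeSpectrum D') = (⟨⊥, Ideal.isPrime_bot⟩ : PrimeSpectrum D) := by
  constructor
  · obtain ⟨w, hw⟩ := hb (closedPoint D)
    have h1 : w ⤳ closedPoint D' := specializes_closedPoint (R := D') w
    have h2 : b w ⤳ b (closedPoint D') := h1.map b.continuous
    rw [hw] at h2
    have h3 : b (closedPoint D') ∈ ({closedPoint D} : Set (PrimeSpectrum D)) :=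
      h2.mem_closed (IsLocalRing.isClosed_singleton_closedPoint D) rfl
    exact h3
  · obtain ⟨w, hw⟩ := hb (⟨⊥, Ideal.isPrime_bot⟩ : PrimeSpectrum D)
    have h1 : (⟨⊥, Ideal.isPrime_bot⟩ : PrimeSpectrum D') ⤳ w := bot_specializes w
    have h2 := h1.map b.continuous
    rw [hw] at h2
    exact eq_bot_of_specializes_bot _ h2

/-- (ii) ⇒ (iii): lifting ordered pairs gives lifting of DVRs, for morphisms locally of finite
type. -/
theorem dvrLift_of_univSSubtrusive {X Y : Scheme.{u}} (f : X ⟶ Y) [LocallyOfFiniteType f]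
    (hf : UnivSSubtrusive f) : DvrLift f := by
  intro D _ _ _ g
  have hS : IsSSubtrusive (pullback.snd f g) := isSSubtrusive_snd_of_univSSubtrusive f g hf
  obtain ⟨z, z', hz, h1, h2⟩ := hS (bot_specializes (closedPoint D))
  have hne : z' ≠ z := by
    intro h
    rw [h, h1] at h2
    have : maximalIdeal D = ⊥ := congrArg PrimeSpectrum.asIdeal h2
    exact IsDiscreteValuationRing.not_a_field D this
  obtain ⟨A, hA, l, hl1, hl2⟩ := exists_dvr_of_specializes hz hne
  refine ⟨A, inferInstance, inferInstance, hA, l ≫ pullback.fst f g, l ≫ pullback.snd f g, ?_, ?_⟩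
  · constructor
    intro p
    rcases eq_bot_or_eq_closedPoint D p with h | h
    · refine ⟨(⟨⊥, Ideal.isPrime_bot⟩ : PrimeSpectrum A), ?_⟩
      exact (congrArg (pullback.snd f g) hl2).trans (h2.trans h.symm)
    · refine ⟨closedPoint A, ?_⟩
      exact (congrArg (pullback.snd f g) hl1).trans (h1.trans h.symm)
  · rw [Category.assoc, Category.assoc, pullback.condition]

/-- (iii) ⇒ lifting of ordered pairs over locally Noetherian bases -/
theorem isSSubtrusive_snd_of_dvrLift {X Y T : Scheme.{u}} (f : X ⟶ Y) (hf : DvrLift f)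
    [IsLocallyNoetherian T] (t : T ⟶ Y) : IsSSubtrusive (pullback.snd f t) := by
  intro y y' hy
  -- the common part: a DVR mapping to `T` gives a lifted pair
  have key : ∀ (D : Type u) [CommRing D] [IsDomain D] [IsDiscreteValuationRing D]
      (l : Spec (CommRingCat.of D) ⟶ T),
      ∃ x x' : ↑(pullback f t), x' ⤳ x ∧ pullback.snd f t x = l (closedPoint D) ∧
        pullback.snd f t x' = l (⟨⊥, Ideal.isPrime_bot⟩ : PrimeSpectrum D) := by
    intro D _ _ _ l
    obtain ⟨D', _, _, _, a, b, hb, hab⟩ := hf D (l ≫ t)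
    obtain ⟨hb1, hb2⟩ := closedPoint_bot_of_surjective b b.surjective
    let m : Spec (CommRingCat.of D') ⟶ pullback f t :=
      pullback.lift a (b ≫ l) (by rw [hab, Category.assoc])
    have hm : m ≫ pullback.snd f t = b ≫ l := pullback.lift_snd _ _ _
    refine ⟨m (closedPoint D'), m (⟨⊥, Ideal.isPrime_bot⟩ : PrimeSpectrum D'),
      (bot_specializes (closedPoint D')).map m.continuous, ?_, ?_⟩
    · have h0 := congrArg (fun ψ : Spec (CommRingCat.of D') ⟶ T => ψ (closedPoint D' : PrimeSpectrum D')) hm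
      exact h0.trans (congrArg l hb1)
    · have h0 := congrArg (fun ψ : Spec (CommRingCat.of D') ⟶ T =>
        ψ (⟨⊥, Ideal.isPrime_bot⟩ : PrimeSpectrum D')) hm
      exact h0.trans (congrArg l hb2)
  by_cases hyy : y' = y
  · -- use the power series ring over the residue field
    let κ := T.residueField y
    let l : Spec (CommRingCat.of (PowerSeries κ)) ⟶ T :=
      Spec.map (CommRingCat.ofHom (PowerSeries.C (R := κ))) ≫ T.fromSpecResidueField y
    obtain ⟨x, x', hx, h1, h2⟩ := key (PowerSeries κ) l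
    have hl : ∀ p, l p = y := by
      intro p
      show (Spec.map (CommRingCat.ofHom (PowerSeries.C (R := κ))) ≫ T.fromSpecResidueField y) p = y
      rw [Scheme.Hom.comp_apply]
      exact Scheme.fromSpecResidueField_apply _ _
    exact ⟨x, x, specializes_rfl, h1.trans (hl _), (h1.trans (hl _)).trans hyy.symm⟩
  · obtain ⟨A, hA, l, hl1, hl2⟩ := exists_dvr_of_specializes hy hyy
    obtain ⟨x, x', hx, h1, h2⟩ := key A l
    exact ⟨x, x', hx, h1.trans hl1, h2.trans hl2⟩

end Groth.Agent.Lib.SubtrNoethH52
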