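import Mathlib

set_option autoImplicit false
set_option linter.unusedSectionVars false
set_option linter.unusedVariables false

open MvPowerSeries

namespace Groth.Agent.Lib.SuccApprox58

section Order

variable {R : Type*} [CommRing R] {τ : Type*}

/-- `f ^ n - g ^ n` has order at least `r + n - 1` when `f - g` has order at least `r`. -/
theorem le_order_pow_sub_pow {f g : MvPowerSeries τ R} (hf : constantCoeff f = 0)
    (hg : constantCoeff g = 0) {r : ℕ∞} (h : r ≤ (f - g).order) (n : ℕ) :
    r + n ≤ (f ^ n - g ^ n).order + 1 := by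
  induction n with
  | zero => simp
  | succ n ih =>
    have e : f ^ (n + 1) - g ^ (n + 1) = f * (f ^ n - g ^ n) + (f - g) * g ^ n := by ring
    rw [e]
    have h1 : (1 : ℕ∞) ≤ f.order := one_le_order_iff_constCoeff_eq_zero.mpr hf
    have h2 : (n : ℕ∞) ≤ (g ^ n).order := le_order_pow_of_constantCoeff_eq_zero n hg
    have hA : r + (n + 1 : ℕ) ≤ (f * (f ^ n - g ^ n)).order + 1 := by
      calc r + (n + 1 : ℕ) = 1 + (r + n) := by push_cast; ring
        _ ≤ f.order + ((f ^ n - g ^ n).order + 1) := add_le_add h1 ih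
        _ = f.order + (f ^ n - g ^ n).order + 1 := by rw [add_assoc]
        _ ≤ _ := add_le_add le_order_mul le_rfl
    have hB : r + (n + 1 : ℕ) ≤ ((f - g) * g ^ n).order + 1 := by
      calc r + (n + 1 : ℕ) = r + n + 1 := by push_cast; ring
        _ ≤ (f - g).order + (g ^ n).order + 1 := add_le_add (add_le_add h h2) le_rfl
        _ ≤ _ := add_le_add le_order_mul le_rfl
    calc r + (n + 1 : ℕ) ≤ min ((f * (f ^ n - g ^ n)).order + 1) (((f - g) * g ^ n).order + 1) :=
          le_min hA hB
      _ = min (f * (f ^ n - g ^ n)).order ((f - g) * g ^ n).order + 1 := by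
          rw [min_add_add_right]
      _ ≤ _ := add_le_add min_order_le_add le_rfl

end Order

section Prod

variable {R : Type*} [CommRing R] {σ τ : Type*}

theorem le_order_prod_pow {x : σ → MvPowerSeries τ R} (hx : ∀ i, constantCoeff (x i) = 0)
    (d : σ → ℕ) (s : Finset σ) :
    ((∑ i ∈ s, d i : ℕ) : ℕ∞) ≤ (∏ i ∈ s, x i ^ d i).order := by
  refine le_trans ?_ (le_order_prod _ _)
  push_cast
  exact Finset.sum_le_sum fun i _ => le_order_pow_of_constantCoeff_eq_zero (d i) (hx i)

/-- Products of powers: the difference has order at least `r + |d| - 1`. -/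
theorem le_order_prod_sub_prod {x y : σ → MvPowerSeries τ R}
    (hx : ∀ i, constantCoeff (x i) = 0) (hy : ∀ i, constantCoeff (y i) = 0) {r : ℕ∞}
    (h : ∀ i, r ≤ (x i - y i).order) (d : σ → ℕ) (s : Finset σ) :
    r + ((∑ i ∈ s, d i : ℕ) : ℕ∞) ≤
      (∏ i ∈ s, x i ^ d i - ∏ i ∈ s, y i ^ d i).order + 1 := by
  classical
  induction s using Finset.induction_on with
  | empty => simp
  | insert j s hj ih =>
    rw [Finset.prod_insert hj, Finset.prod_insert hj, Finset.sum_insert hj]
    set X := ∏ i ∈ s, x i ^ d i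
    set Y := ∏ i ∈ s, y i ^ d i
    have e : x j ^ d j * X - y j ^ d j * Y = (x j ^ d j - y j ^ d j) * X + y j ^ d j * (X - Y) := by
      ring
    rw [e]
    have hX : ((∑ i ∈ s, d i : ℕ) : ℕ∞) ≤ X.order := le_order_prod_pow hx d s
    have hyj : ((d j : ℕ) : ℕ∞) ≤ (y j ^ d j).order :=
      le_order_pow_of_constantCoeff_eq_zero (d j) (hy j)
    have hj1 := le_order_pow_sub_pow (hx j) (hy j) (h j) (d j)
    have hA : r + ((d j + ∑ i ∈ s, d i : ℕ) : ℕ∞) ≤ ((x j ^ d j - y j ^ d j) * X).order + 1 := by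
      calc r + ((d j + ∑ i ∈ s, d i : ℕ) : ℕ∞) = (r + d j) + (∑ i ∈ s, d i : ℕ) := by
            push_cast; ring
        _ ≤ ((x j ^ d j - y j ^ d j).order + 1) + X.order := add_le_add hj1 hX
        _ = (x j ^ d j - y j ^ d j).order + X.order + 1 := by ring
        _ ≤ _ := add_le_add le_order_mul le_rfl
    have hB : r + ((d j + ∑ i ∈ s, d i : ℕ) : ℕ∞) ≤ (y j ^ d j * (X - Y)).order + 1 := by
      calc r + ((d j + ∑ i ∈ s, d i : ℕ) : ℕ∞) = d j + (r + (∑ i ∈ s, d i : ℕ)) := by
            push_cast; ring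
        _ ≤ (y j ^ d j).order + ((X - Y).order + 1) := add_le_add hyj ih
        _ = (y j ^ d j).order + (X - Y).order + 1 := by ring
        _ ≤ _ := add_le_add le_order_mul le_rfl
    calc r + ((d j + ∑ i ∈ s, d i : ℕ) : ℕ∞)
        ≤ min (((x j ^ d j - y j ^ d j) * X).order + 1) ((y j ^ d j * (X - Y)).order + 1) :=
          le_min hA hB
      _ = min ((x j ^ d j - y j ^ d j) * X).order (y j ^ d j * (X - Y)).order + 1 := by
          rw [min_add_add_right]
      _ ≤ _ := add_le_add min_order_le_add le_rfl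

end Prod

section Taylor

variable {R : Type*} [CommRing R] {σ τ : Type*} [Fintype σ] [Finite τ]

theorem coeff_prod_sub_prod_eq_zero {a a' : σ → MvPowerSeries τ R}
    (ha : ∀ i, constantCoeff (a i) = 0) (ha' : ∀ i, constantCoeff (a' i) = 0) (e : τ →₀ ℕ)
    (h : ∀ i, ∀ d : τ →₀ ℕ, d.degree < e.degree → coeff d (a i) = coeff d (a' i))
    (d : σ →₀ ℕ) (hd : 2 ≤ d.degree) :
    coeff e (d.prod fun s n => a s ^ n) = coeff e (d.prod fun s n => a' s ^ n) := by
  rw [← sub_eq_zero, ← map_sub]
  apply coeff_of_lt_order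
  have hr : ∀ i, ((e.degree : ℕ) : ℕ∞) ≤ (a i - a' i).order := fun i => by
    apply le_order
    intro d' hd'
    rw [map_sub, sub_eq_zero]
    exact h i d' (by exact_mod_cast hd')
  have key := le_order_prod_sub_prod ha ha' hr (fun i => d i) d.support
  rw [← Finsupp.degree_apply] at key
  change ((e.degree : ℕ) : ℕ∞) + ((d.degree : ℕ) : ℕ∞) ≤
    ((d.prod fun s n => a s ^ n) - (d.prod fun s n => a' s ^ n)).order + 1 at key
  have h2 : ((e.degree : ℕ) : ℕ∞) + 1 + 1 ≤
      ((d.prod fun s n => a s ^ n) - (d.prod fun s n => a' s ^ n)).order + 1 := by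
    refine le_trans ?_ key
    rw [add_assoc]
    refine add_le_add le_rfl ?_
    have : ((2 : ℕ) : ℕ∞) ≤ ((d.degree : ℕ) : ℕ∞) := by exact_mod_cast hd
    simpa [one_add_one_eq_two] using this
  rw [ENat.add_le_add_iff_right (by simp)] at h2
  exact (ENat.add_one_le_iff (by simp)).mp h2

/-- First-order Taylor expansion of a substitution: the degree-`r` part of `P(a)` depends on the
degree-`r` parts of the `a i` only through the linear coefficients of `P`. -/
theorem coeff_subst_eq_add (P : MvPowerSeries σ R) {a a' : σ → MvPowerSeries τ R}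
    (ha : ∀ i, constantCoeff (a i) = 0) (ha' : ∀ i, constantCoeff (a' i) = 0) (e : τ →₀ ℕ)
    (h : ∀ i, ∀ d : τ →₀ ℕ, d.degree < e.degree → coeff d (a i) = coeff d (a' i)) :
    coeff e (subst a P) = coeff e (subst a' P) +
      ∑ i, coeff (Finsupp.single i 1) P * (coeff e (a i) - coeff e (a' i)) := by
  classical
  have hsa : HasSubst a := hasSubst_of_constantCoeff_zero ha
  have hsa' : HasSubst a' := hasSubst_of_constantCoeff_zero ha'
  rw [← sub_eq_iff_eq_add', coeff_subst hsa, coeff_subst hsa',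
    ← finsum_sub_distrib (coeff_subst_finite hsa P e) (coeff_subst_finite hsa' P e)]
  have hsupp : Function.support (fun d : σ →₀ ℕ =>
      coeff d P • coeff e (d.prod fun s n => a s ^ n) -
        coeff d P • coeff e (d.prod fun s n => a' s ^ n)) ⊆
      ↑(Finset.univ.image fun i : σ => Finsupp.single i (1 : ℕ)) := by
    intro d hd
    rw [Function.mem_support] at hd
    by_contra hmem
    apply hd
    rcases Nat.lt_or_ge d.degree 2 with hlt | hge
    · rcases Nat.le_one_iff_eq_zero_or_eq_one.mp (Nat.lt_succ_iff.mp hlt) with h0 | h1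
      · rw [Finsupp.degree_eq_zero_iff] at h0
        subst h0
        simp
      · exfalso
        apply hmem
        have hm : d ∈ {d : σ →₀ ℕ | d.degree = 1} := h1
        rw [← Finsupp.range_single_one] at hm
        obtain ⟨i, rfl⟩ := hm
        simp
    · rw [coeff_prod_sub_prod_eq_zero ha ha' e h d hge, sub_self]
  rw [finsum_eq_sum_of_support_subset _ hsupp, Finset.sum_image]
  · refine Finset.sum_congr rfl fun i _ => ?_
    simp [mul_sub]
  · intro i _ j _ hij
    exact Finsupp.single_left_injective one_ne_zero hij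

end Taylor

section Principle

variable {R : Type*} [CommRing R] {τ : Type*}

/-- `Good Φ n G`: `G` has no constant term and `Φ G` vanishes in degrees `≤ n`. -/
def Good (Φ : MvPowerSeries τ R → MvPowerSeries τ R) (n : ℕ) (G : MvPowerSeries τ R) : Prop :=
  constantCoeff G = 0 ∧ ∀ e : τ →₀ ℕ, e.degree ≤ n → coeff e (Φ G) = 0

variable {Φ : MvPowerSeries τ R → MvPowerSeries τ R} {κ : ℕ → R}

theorem Good.mono {m n : ℕ} {G : MvPowerSeries τ R} (h : Good Φ n G) (hmn : m ≤ n) :
    Good Φ m G :=
  ⟨h.1, fun e he => h.2 e (he.trans hmn)⟩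

theorem Good.coeff_eq (hκ : ∀ r, 1 ≤ r → IsUnit (κ r))
    (hΦ : ∀ G G' : MvPowerSeries τ R, constantCoeff G = 0 → constantCoeff G' = 0 →
      ∀ e : τ →₀ ℕ, (∀ d : τ →₀ ℕ, d.degree < e.degree → coeff d G = coeff d G') →
      coeff e (Φ G) = coeff e (Φ G') + κ e.degree * (coeff e G - coeff e G'))
    {G G' : MvPowerSeries τ R} {n : ℕ} (h : Good Φ n G) (h' : Good Φ n G') :
    ∀ e : τ →₀ ℕ, e.degree ≤ n → coeff e G = coeff e G' := by
  suffices H : ∀ r : ℕ, ∀ e : τ →₀ ℕ, e.degree = r → e.degree ≤ n → coeff e G = coeff e G' from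
    fun e he => H _ e rfl he
  intro r
  induction r using Nat.strong_induction_on with
  | _ r ih =>
    intro e her hen
    rcases Nat.eq_zero_or_pos r with h0 | hr
    · rw [h0, Finsupp.degree_eq_zero_iff] at her
      subst her
      simp [h.1, h'.1]
    · have hC := hΦ G G' h.1 h'.1 e (fun d hd =>
        ih d.degree (her ▸ hd) d rfl (hd.le.trans hen))
      rw [h.2 e hen, h'.2 e hen, zero_add, her] at hC
      exact sub_eq_zero.mp ((hκ r hr).mul_right_eq_zero.mp hC.symm)

theorem Good.step (hκ : ∀ r, 1 ≤ r → IsUnit (κ r))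
    (hΦ : ∀ G G' : MvPowerSeries τ R, constantCoeff G = 0 → constantCoeff G' = 0 →
      ∀ e : τ →₀ ℕ, (∀ d : τ →₀ ℕ, d.degree < e.degree → coeff d G = coeff d G') →
      coeff e (Φ G) = coeff e (Φ G') + κ e.degree * (coeff e G - coeff e G'))
    {G : MvPowerSeries τ R} {n : ℕ} (h : Good Φ n G) :
    ∃ G' : MvPowerSeries τ R, Good Φ (n + 1) G' := by
  classical
  obtain ⟨v, hv⟩ := hκ (n + 1) (by omega)
  let Δ : MvPowerSeries τ R := fun e =>
    if e.degree = n + 1 then - ((↑v⁻¹ : R) * coeff e (Φ G)) else 0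
  have hΔ : ∀ e : τ →₀ ℕ, coeff e Δ =
      if e.degree = n + 1 then - ((↑v⁻¹ : R) * coeff e (Φ G)) else 0 := fun e => rfl
  have hΔ0 : ∀ e : τ →₀ ℕ, e.degree ≠ n + 1 → coeff e Δ = 0 := fun e he => by
    rw [hΔ, if_neg he]
  have hc : constantCoeff (G + Δ) = 0 := by
    rw [map_add, h.1, zero_add, ← coeff_zero_eq_constantCoeff_apply, hΔ0]
    rw [map_zero]; omega
  refine ⟨G + Δ, hc, fun e he => ?_⟩
  rw [hΦ (G + Δ) G hc h.1 e (fun d hd => by rw [map_add, hΔ0 d (by omega), add_zero])]
  rw [map_add, add_sub_cancel_left]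
  rcases Nat.lt_or_ge e.degree (n + 1) with hlt | hge
  · rw [hΔ0 e (by omega), mul_zero, add_zero]
    exact h.2 e (by omega)
  · have heq : e.degree = n + 1 := le_antisymm he hge
    rw [hΔ, if_pos heq, heq, ← hv, mul_neg, ← mul_assoc, Units.mul_inv, one_mul, add_neg_cancel]

theorem Good.exists (hκ : ∀ r, 1 ≤ r → IsUnit (κ r))
    (h0 : ∀ G : MvPowerSeries τ R, constantCoeff G = 0 → constantCoeff (Φ G) = 0)
    (hΦ : ∀ G G' : MvPowerSeries τ R, constantCoeff G = 0 → constantCoeff G' = 0 →
      ∀ e : τ →₀ ℕ, (∀ d : τ →₀ ℕ, d.degree < e.degree → coeff d G = coeff d G') →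
      coeff e (Φ G) = coeff e (Φ G') + κ e.degree * (coeff e G - coeff e G'))
    (n : ℕ) : ∃ G : MvPowerSeries τ R, Good Φ n G := by
  induction n with
  | zero =>
    refine ⟨0, map_zero _, fun e he => ?_⟩
    have : e.degree = 0 := by omega
    rw [Finsupp.degree_eq_zero_iff] at this
    subst this
    rw [coeff_zero_eq_constantCoeff_apply]
    exact h0 0 (map_zero _)
  | succ n ih =>
    obtain ⟨G, hG⟩ := ih
    exact Good.step hκ hΦ hG

/-- Successive approximation: a "triangular" operator with invertible diagonal has a unique zero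
among the power series without constant term. -/
theorem existsUnique_of_triangular (hκ : ∀ r, 1 ≤ r → IsUnit (κ r))
    (h0 : ∀ G : MvPowerSeries τ R, constantCoeff G = 0 → constantCoeff (Φ G) = 0)
    (hΦ : ∀ G G' : MvPowerSeries τ R, constantCoeff G = 0 → constantCoeff G' = 0 →
      ∀ e : τ →₀ ℕ, (∀ d : τ →₀ ℕ, d.degree < e.degree → coeff d G = coeff d G') →
      coeff e (Φ G) = coeff e (Φ G') + κ e.degree * (coeff e G - coeff e G')) :
    ∃! G : MvPowerSeries τ R, constantCoeff G = 0 ∧ Φ G = 0 := by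
  choose A hA using Good.exists hκ h0 hΦ
  let G : MvPowerSeries τ R := fun e => coeff e (A e.degree)
  have hGc : ∀ e : τ →₀ ℕ, coeff e G = coeff e (A e.degree) := fun e => rfl
  have hGA : ∀ n : ℕ, ∀ e : τ →₀ ℕ, e.degree ≤ n → coeff e G = coeff e (A n) := fun n e he => by
    rw [hGc]
    exact Good.coeff_eq hκ hΦ (hA e.degree) ((hA n).mono he) e le_rfl
  have hG0 : constantCoeff G = 0 := by
    rw [← coeff_zero_eq_constantCoeff_apply, hGA 0 0 (by simp),
      coeff_zero_eq_constantCoeff_apply, (hA 0).1]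
  refine ⟨G, ⟨hG0, ?_⟩, ?_⟩
  · ext e
    rw [map_zero, hΦ G (A e.degree) hG0 (hA e.degree).1 e (fun d hd => by
      rw [hGA e.degree d hd.le]), hGA e.degree e le_rfl, sub_self, mul_zero, add_zero]
    exact (hA e.degree).2 e le_rfl
  · rintro G' ⟨hG'0, hG'⟩
    ext e
    have h1 : Good Φ e.degree G' := ⟨hG'0, fun d _ => by rw [hG', map_zero]⟩
    rw [hGA e.degree e le_rfl]
    exact Good.coeff_eq hκ hΦ h1 (hA e.degree) e le_rfl

end Principle

section IFT

variable {R : Type*} [CommRing R] {τ : Type*} [Finite τ]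

theorem constantCoeff_pair (a b : MvPowerSeries τ R) (ha : constantCoeff a = 0)
    (hb : constantCoeff b = 0) (i : Fin 2) :
    constantCoeff ((![a, b] : Fin 2 → MvPowerSeries τ R) i) = 0 := by
  fin_cases i
  · exact ha
  · exact hb

/-- Implicit function theorem for formal power series, solving for the second variable. -/
theorem existsUnique_subst_right (P : MvPowerSeries (Fin 2) R) (hP : constantCoeff P = 0)
    (hu : IsUnit (coeff (Finsupp.single 1 1) P)) (A : MvPowerSeries τ R)
    (hA : constantCoeff A = 0) :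
    ∃! g : MvPowerSeries τ R, constantCoeff g = 0 ∧ subst ![A, g] P = 0 := by
  refine existsUnique_of_triangular (Φ := fun g => subst ![A, g] P)
    (κ := fun _ => coeff (Finsupp.single 1 1) P) (fun _ _ => hu) (fun g hg => ?_)
    (fun g g' hg hg' e h => ?_)
  · exact constantCoeff_subst_eq_zero
      (hasSubst_of_constantCoeff_zero (constantCoeff_pair A g hA hg))
      (constantCoeff_pair A g hA hg) hP
  · change coeff e (subst ![A, g] P) = coeff e (subst ![A, g'] P) + _
    rw [coeff_subst_eq_add P (constantCoeff_pair A g hA hg) (constantCoeff_pair A g' hA hg') e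
      (fun i d hd => by
        fin_cases i
        · rfl
        · exact h d hd), Fin.sum_univ_two]
    simp

/-- Implicit function theorem for formal power series, solving for the first variable. -/
theorem existsUnique_subst_left (P : MvPowerSeries (Fin 2) R) (hP : constantCoeff P = 0)
    (hu : IsUnit (coeff (Finsupp.single 0 1) P)) (A : MvPowerSeries τ R)
    (hA : constantCoeff A = 0) :
    ∃! g : MvPowerSeries τ R, constantCoeff g = 0 ∧ subst ![g, A] P = 0 := by
  refine existsUnique_of_triangular (Φ := fun g => subst ![g, A] P)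
    (κ := fun _ => coeff (Finsupp.single 0 1) P) (fun _ _ => hu) (fun g hg => ?_)
    (fun g g' hg hg' e h => ?_)
  · exact constantCoeff_subst_eq_zero
      (hasSubst_of_constantCoeff_zero (constantCoeff_pair g A hg hA))
      (constantCoeff_pair g A hg hA) hP
  · change coeff e (subst ![g, A] P) = coeff e (subst ![g', A] P) + _
    rw [coeff_subst_eq_add P (constantCoeff_pair g A hg hA) (constantCoeff_pair g' A hg' hA) e
      (fun i d hd => by
        fin_cases i
        · exact h d hd
        · rfl), Fin.sum_univ_two]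
    simp

end IFT

end Groth.Agent.Lib.SuccApprox58
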