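import Groth.Prelude.Def_ExtSupp
import Groth.Agent.Lib.ModShriek

/-!
# `M ↦ M/M_U` is left adjoint to `Γ_Z` on a ringed site (helper21)

* `adj O U : ModSite.quotOn O U ⊣ ModSite.sectOn O U`
-/

set_option autoImplicit false
universe u
open CategoryTheory CategoryTheory.Limits Opposite

namespace Groth.Agent.Lib.SuppAdj21

variable {C : Type u} [SmallCategory C] {J : GrothendieckTopology C}
  (O : Sheaf J CommRingCat.{u}) (U : C)

lemma counit_comp_eq_zero_iff {M N : ModSite.Mod O} (φ : M ⟶ N) :
    (ModSite.extZeroAdj O U).counit.app M ≫ φ = 0 ↔ (ModSite.restr O U).map φ = 0 :=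
  (ExtSupp.mem_homZ_iff U φ).symm

lemma comp_unit_eq_zero_iff [ModSite.HasPushOver O U] {M N : ModSite.Mod O} (φ : M ⟶ N) :
    φ ≫ (ModSite.restrPushOverAdj O U).unit.app N = 0 ↔ (ModSite.restr O U).map φ = 0 := by
  let adj := ModSite.restrPushOverAdj O U
  have key : (adj.homEquiv _ _).symm (φ ≫ adj.unit.app N) = (ModSite.restr O U).map φ := by
    rw [adj.homEquiv_counit, Functor.map_comp, Category.assoc, adj.left_triangle_components,
      Category.comp_id]
  have key0 : (adj.homEquiv M ((ModSite.restr O U).obj N)).symm 0 = 0 := by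
    rw [adj.homEquiv_counit, Functor.map_zero, zero_comp]
  constructor
  · intro h
    rw [← key, h, key0]
  · intro h
    apply (adj.homEquiv _ _).symm.injective
    rw [key, key0, h]

variable [ModSite.HasPushOver O U]

/-- the hom-set bijection `(M/M_U ⟶ N) ≃ (M ⟶ Γ_Z N)` -/
noncomputable def homEquiv (M N : ModSite.Mod O) :
    ((ModSite.quotOn O U).obj M ⟶ N) ≃ (M ⟶ (ModSite.sectOn O U).obj N) where
  toFun ψ := kernel.lift _ ((ModSite.quotOnπ O U).app M ≫ ψ) (by
    refine (comp_unit_eq_zero_iff O U _).2 ((counit_comp_eq_zero_iff O U _).1 ?_)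
    have h0 : (ModSite.extZeroAdj O U).counit.app M ≫ (ModSite.quotOnπ O U).app M = 0 :=
      cokernel.condition _
    rw [← Category.assoc, h0, zero_comp])
  invFun χ := cokernel.desc _ (χ ≫ (ModSite.sectOnι O U).app N) (by
    refine (counit_comp_eq_zero_iff O U _).2 ((comp_unit_eq_zero_iff O U _).1 ?_)
    have h0 : (ModSite.sectOnι O U).app N ≫ (ModSite.restrPushOverAdj O U).unit.app N = 0 :=
      kernel.condition _
    rw [Category.assoc, h0, comp_zero])
  left_inv ψ := by
    apply coequalizer.hom_ext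
    rw [cokernel.π_desc]
    exact kernel.lift_ι _ _ _
  right_inv χ := by
    apply equalizer.hom_ext
    rw [kernel.lift_ι]
    exact cokernel.π_desc _ _ _

lemma homEquiv_apply_ι {M N : ModSite.Mod O} (ψ : (ModSite.quotOn O U).obj M ⟶ N) :
    homEquiv O U M N ψ ≫ (ModSite.sectOnι O U).app N = (ModSite.quotOnπ O U).app M ≫ ψ :=
  kernel.lift_ι _ _ _

lemma π_homEquiv_symm {M N : ModSite.Mod O} (χ : M ⟶ (ModSite.sectOn O U).obj N) :
    (ModSite.quotOnπ O U).app M ≫ (homEquiv O U M N).symm χ = χ ≫ (ModSite.sectOnι O U).app N :=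
  cokernel.π_desc _ _ _

instance (N : ModSite.Mod O) : Mono ((ModSite.sectOnι O U).app N) :=
  inferInstanceAs (Mono (kernel.ι _))

instance (M : ModSite.Mod O) : Epi ((ModSite.quotOnπ O U).app M) :=
  inferInstanceAs (Epi (cokernel.π _))

/-- **`M ↦ M/M_U` is left adjoint to `Γ_Z`.** -/
noncomputable def adj : ModSite.quotOn O U ⊣ ModSite.sectOn O U :=
  Adjunction.mkOfHomEquiv
    { homEquiv := homEquiv O U
      homEquiv_naturality_left_symm := by
        intro M' M N f χ
        rw [← cancel_epi ((ModSite.quotOnπ O U).app M'), π_homEquiv_symm, ← Category.assoc]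
        have h1 := (ModSite.quotOnπ O U).naturality f
        simp only [Functor.id_map] at h1
        rw [← h1, Category.assoc, Category.assoc, π_homEquiv_symm]
      homEquiv_naturality_right := by
        intro M N N' ψ g
        rw [← cancel_mono ((ModSite.sectOnι O U).app N'), homEquiv_apply_ι, Category.assoc]
        have h1 := (ModSite.sectOnι O U).naturality g
        simp only [Functor.id_map] at h1
        rw [h1, ← Category.assoc, ← Category.assoc, homEquiv_apply_ι] }

end Groth.Agent.Lib.SuppAdj21
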