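import Groth.Agent.Lib.SuppAdj21
import Groth.Agent.Lib.ModSiteProj
import Groth.Agent.Lib.ModSiteRestr
import Groth.Agent.Lib.ModSiteSliceFree

/-!
# `M ↦ M/M_U` is exact and `Γ_Z` preserves injectives on a ringed site (helper21)

A section `x` of a module over `W` is `LZ` if, locally on `W`, it is zero or lives over an object
mapping to `U`.  Sections of `j_!G` are `LZ`; the property passes to quotients and subobjects, and
an `LZ` section of a module that is null on `U` vanishes.  Hence `M' ∩ M_U = M'_U` for a submodule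
`M' ⊆ M`, which gives exactness of `quotOn`.
-/

set_option autoImplicit false
universe u
open CategoryTheory CategoryTheory.Limits Opposite

namespace Groth.Agent.Lib.SuppAdj21

open Groth.Agent.Lib.ModSiteTensor Groth.Agent.Lib.ModSiteTensorW Groth.Agent.Lib.MonLoc

variable {C : Type u} [SmallCategory C] {J : GrothendieckTopology C}
  {O : Sheaf J CommRingCat.{u}} (U : C)

/-- restriction of sections -/
noncomputable def rs (F : ModSite.Mod O) {V W : C} (g : V ⟶ W) (x : ModSite.sect F W) : ModSite.sect F V :=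
  F.val.map g.op x

lemma rs_app {F F' : ModSite.Mod O} (φ : F ⟶ F') {V W : C} (g : V ⟶ W) (x : ModSite.sect F W) :
    rs F' g (φ.val.app (op W) x) = φ.val.app (op V) (rs F g x) :=
  (PresheafOfModules.naturality_apply φ.val g.op x).symm

lemma rs_comp (F : ModSite.Mod O) {V' V W : C} (a : V' ⟶ V) (g : V ⟶ W) (x : ModSite.sect F W) :
    rs F (a ≫ g) x = rs F a (rs F g x) := by
  simp only [rs, op_comp, F.val.map_comp]
  rfl

lemma rs_zero (F : ModSite.Mod O) {V W : C} (g : V ⟶ W) : rs F g (0 : ModSite.sect F W) = 0 :=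
  map_zero (F.val.map g.op).hom

/-- the section `x` is, locally, zero or defined over an object mapping to `U` -/
def LZ (F : ModSite.Mod O) {W : C} (x : ModSite.sect F W) : Prop :=
  ∃ S ∈ J W, ∀ ⦃V : C⦄ (g : V ⟶ W), S g → Nonempty (V ⟶ U) ∨ rs F g x = 0

/-- all sections are `LZ` -/
def IsT (F : ModSite.Mod O) : Prop := ∀ (W : C) (x : ModSite.sect F W), LZ U F x

variable {U}

lemma LZ.map {F F' : ModSite.Mod O} (φ : F ⟶ F') {W : C} {x : ModSite.sect F W}
    (h : LZ U F x) : LZ U F' (φ.val.app (op W) x) := by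
  obtain ⟨S, hS, h⟩ := h
  refine ⟨S, hS, fun V g hg => ?_⟩
  rcases h g hg with h1 | h1
  · exact Or.inl h1
  · right
    rw [rs_app, h1, map_zero]

lemma injective_app_of_mono {F' F : ModSite.Mod O} (m : F' ⟶ F) [Mono m] (V : C) :
    Function.Injective (m.val.app (op V)) := by
  have : PreservesLimitsOfShape WalkingCospan (fg O) :=
    inferInstanceAs (PreservesLimitsOfShape WalkingCospan
      (SheafOfModules.forget.{u} (ModSite.ringSh O)))
  have : Mono ((fg O).map m) := inferInstance
  exact PresheafOfModules.injective_of_mono ((fg O).map m) (op V)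

lemma LZ.of_mono {F' F : ModSite.Mod O} (m : F' ⟶ F) [Mono m] {W : C} {x : ModSite.sect F' W}
    (h : LZ U F (m.val.app (op W) x)) : LZ U F' x := by
  obtain ⟨S, hS, h⟩ := h
  refine ⟨S, hS, fun V g hg => ?_⟩
  rcases h g hg with h1 | h1
  · exact Or.inl h1
  · right
    rw [rs_app] at h1
    apply injective_app_of_mono m V
    rw [h1, map_zero]

lemma IsT.of_mono {F' F : ModSite.Mod O} (m : F' ⟶ F) [Mono m] (h : IsT U F) : IsT U F' :=
  fun W _ => LZ.of_mono m (h W _)

lemma IsT.of_epi {G F : ModSite.Mod O} (p : G ⟶ F) [Epi p] (h : IsT U G) : IsT U F := by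
  intro W x
  obtain ⟨R, hR, hlift⟩ := Groth.Agent.Lib.ModSiteSliceFree.exists_local_lift_of_epi O p x
  choose y hy using hlift
  have hLZ : ∀ ⦃V : C⦄ (g : V ⟶ W) (hg : R g), LZ U G (y g hg) := fun V g hg => h V _
  choose S hS hS' using hLZ
  refine ⟨Sieve.bind R (fun V g hg => S g hg), J.bind_covering hR (fun V g hg => hS g hg), ?_⟩
  rintro V' k ⟨V, a, g, hg, ha, rfl⟩
  rcases hS' g hg a ha with h1 | h1
  · exact Or.inl h1
  · right
    have hy' : p.val.app (op V) (y g hg) = rs F g x := hy g hg
    rw [rs_comp, ← hy', rs_app, h1, map_zero]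

lemma eq_zero_of_LZ {N : ModSite.Mod O} (hN : ModSite.IsNullOn O U N) {W : C}
    {x : ModSite.sect N W} (h : LZ U N x) : x = 0 := by
  obtain ⟨S, hS, h⟩ := h
  have hnull := (ExtSupp.isNullOn_iff O U N).1 hN
  apply Sheaf.isSeparated (ModSite.toAb N) W S hS
  intro V g hg
  have h0 : rs N g x = 0 := by
    rcases h g hg with h1 | h1
    · exact hnull h1.some _
    · exact h1
  exact h0.trans (rs_zero N g).symm

lemma eq_zero_of_forall_LZ {F N : ModSite.Mod O} (hN : ModSite.IsNullOn O U N) (φ : F ⟶ N)
    (h : ∀ (W : C) (z : ModSite.sect F W), LZ U N (φ.val.app (op W) z)) : φ = 0 := by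
  apply (SheafOfModules.forget _).map_injective
  apply Groth.Agent.Lib.ModShriekPre.hom_ext_apply
  intro V x
  exact eq_zero_of_LZ hN (h V.unop x)

lemma comp_eq_zero_of_isT {F N : ModSite.Mod O} (hF : IsT U F) (hN : ModSite.IsNullOn O U N)
    (φ : F ⟶ N) : φ = 0 :=
  eq_zero_of_forall_LZ hN φ (fun W z => (hF W z).map φ)

/-- sheafification of a presheaf of modules vanishing on objects not mapping to `U` -/
lemma isT_sh (P : PMod O) (hP : ∀ V : C, IsEmpty (V ⟶ U) → Subsingleton (P.obj (op V))) :
    IsT U ((sh O).obj P) := by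
  intro W x
  obtain ⟨S, hS, h⟩ := locSurj_η O P W x
  refine ⟨S, hS, fun V g hg => ?_⟩
  by_cases hV : Nonempty (V ⟶ U)
  · exact Or.inl hV
  · right
    have : Subsingleton (P.obj (op V)) := hP V (not_nonempty_iff.1 hV)
    obtain ⟨s, hs⟩ := h g hg
    have hs0 : s = 0 := Subsingleton.elim _ _
    rw [hs0, map_zero] at hs
    exact hs.symm

variable (O U) in
lemma isT_extZero (G : ModSite.Mod (O.over U)) : IsT U ((ModSite.extZero O U).obj G) := by
  let e := (Groth.Agent.Lib.ModSiteProj.extZeroIso O U).app G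
  refine IsT.of_epi e.inv (isT_sh _ ?_)
  intro V hV
  change Subsingleton (Groth.Agent.Lib.ModShriekPre.carrier
    (R := O.obj ⋙ forget₂ CommRingCat.{u} RingCat.{u}) (X := U) ((fg (O.over U)).obj G) V)
  infer_instance

variable (O U)

/-- the kernel of `M ⟶ M/M_U` has only `LZ` sections -/
lemma isT_kernel_quotOnπ (M : ModSite.Mod O) : IsT U (kernel ((ModSite.quotOnπ O U).app M)) := by
  let ε := (ModSite.extZeroAdj O U).counit.app M
  let q := (ModSite.quotOnπ O U).app M
  have hz : ε ≫ q = 0 := cokernel.condition _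
  have hex : (ShortComplex.mk ε q hz).Exact := ShortComplex.exact_cokernel ε
  have hepi : Epi (kernel.lift q ε hz) := (ShortComplex.exact_iff_epi_kernel_lift _).1 hex
  exact IsT.of_epi (kernel.lift q ε hz) (isT_extZero O U _)

/-- **`M ↦ M/M_U` preserves monomorphisms.** -/
instance preservesMonomorphisms_quotOn [ModSite.HasPushOver O U] :
    (ModSite.quotOn O U).PreservesMonomorphisms where
  preserves {M' M} m hm := by
    let q' := (ModSite.quotOnπ O U).app M'
    let q := (ModSite.quotOnπ O U).app M
    have hnat : m ≫ q = q' ≫ (ModSite.quotOn O U).map m := (ModSite.quotOnπ O U).naturality m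
    apply Preadditive.mono_of_cancel_zero
    intro T g hg
    let a : pullback g q' ⟶ T := pullback.fst g q'
    let g' : pullback g q' ⟶ M' := pullback.snd g q'
    have hq' : Epi q' := inferInstanceAs (Epi (cokernel.π _))
    have hepi : Epi a := Abelian.epi_pullback_of_epi_g g q'
    have hc : a ≫ g = g' ≫ q' := pullback.condition
    have h1 : (g' ≫ m) ≫ q = 0 := by
      rw [Category.assoc, hnat, ← Category.assoc, ← hc, Category.assoc, hg, comp_zero]
    -- `g' ≫ m` factors through the kernel of `q`, whose sections are `LZ`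
    have h2 : kernel.lift q (g' ≫ m) h1 ≫ kernel.ι q = g' ≫ m := kernel.lift_ι _ _ _
    have key : g' ≫ q' = 0 := by
      refine eq_zero_of_forall_LZ (ExtSupp.isNullOn_quotOn O U M') _ (fun W z => ?_)
      have h3 : LZ U M' (g'.val.app (op W) z) := by
        apply LZ.of_mono m
        have h4 : m.val.app (op W) (g'.val.app (op W) z) =
            (kernel.ι q).val.app (op W) ((kernel.lift q (g' ≫ m) h1).val.app (op W) z) :=
          (congrArg (fun φ : pullback g q' ⟶ M => φ.val.app (op W) z) h2).symm
        rw [h4]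
        exact (isT_kernel_quotOnπ O U M W _).map (kernel.ι q)
      exact h3.map q'
    rw [← cancel_epi a, hc, key, comp_zero]

/-- **`Γ_Z` preserves injective modules.** -/
lemma injective_sectOn [ModSite.HasPushOver O U] (I : ModSite.Mod O) [Injective I] :
    Injective ((ModSite.sectOn O U).obj I) :=
  Injective.injective_of_adjoint (adj O U) I

end Groth.Agent.Lib.SuppAdj21
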