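import Groth.Agent.Lib.SuppExact21
import Groth.Agent.Lib.ModSiteUnitSec
import Groth.Agent.Lib.TFinEps
import Groth.Agent.Lib.ExtCompare95
import Groth.Agent.Lib.ModAcyc
import Groth.Prelude.Def_ModSite2
import Mathlib.CategoryTheory.Sites.Adjunction

/-!
# `H^p_Z(F) ≅ Ext^p_O(O/O_U, F)` on a ringed site (helper21)
-/

set_option autoImplicit false
universe u
open CategoryTheory CategoryTheory.Limits Opposite

namespace Groth.Agent.Lib.SuppHZ21

open ToposFin Groth.Agent.Lib.TFin Groth.Agent.Lib.TFinEps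

variable {C : Type u} [SmallCategory C] (J : GrothendieckTopology C)

/-- free ⊣ forget on sheaves -/
noncomputable def adjF : ToposFin.freeAb J ⊣ sheafCompose J (forget AddCommGrpCat.{u}) :=
  Sheaf.adjunction J AddCommGrpCat.adj

variable {J}

/-- the underlying sheaf of sets of an abelian sheaf -/
noncomputable abbrev fs (A : Sheaf J AddCommGrpCat.{u}) : Sh J :=
  (sheafCompose J (forget AddCommGrpCat.{u})).obj A

/-- evaluation of a map `ℤ[K] ⟶ A` on a section of `K` -/
noncomputable def ev {K : Sh J} {A : Sheaf J AddCommGrpCat.{u}} (χ : (freeAb J).obj K ⟶ A)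
    {V : C} (k : sec K V) : sec (fs A) V :=
  ap ((adjF J).homEquiv K A χ) k

lemma ev_map_comp {K' K : Sh J} {A : Sheaf J AddCommGrpCat.{u}} (f : K' ⟶ K)
    (χ : (freeAb J).obj K ⟶ A) {V : C} (k : sec K' V) :
    ev ((freeAb J).map f ≫ χ) k = ev χ (ap f k) := by
  unfold ev
  rw [(adjF J).homEquiv_naturality_left]
  rfl

lemma ev_comp {K : Sh J} {A A' : Sheaf J AddCommGrpCat.{u}} (χ : (freeAb J).obj K ⟶ A)
    (ψ : A ⟶ A') {V : C} (k : sec K V) :
    ev (χ ≫ ψ) k = ap ((sheafCompose J (forget AddCommGrpCat.{u})).map ψ) (ev χ k) := by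
  unfold ev
  rw [(adjF J).homEquiv_naturality_right]
  rfl

lemma ev_zero {K : Sh J} {A : Sheaf J AddCommGrpCat.{u}} {V : C} (k : sec K V) :
    ev (0 : (freeAb J).obj K ⟶ A) k = (0 : A.obj.obj (op V)) := by
  unfold ev
  rw [(adjF J).homEquiv_unit]
  rfl

lemma ext_ev {K : Sh J} {A : Sheaf J AddCommGrpCat.{u}} {χ χ' : (freeAb J).obj K ⟶ A}
    (h : ∀ (V : C) (k : sec K V), ev χ k = ev χ' k) : χ = χ' := by
  apply ((adjF J).homEquiv K A).injective
  exact Groth.Agent.Lib.TFin.hom_ext_sec (fun V k => h V k)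

lemma ev_res {K : Sh J} {A : Sheaf J AddCommGrpCat.{u}} (χ : (freeAb J).obj K ⟶ A)
    {V W : C} (g : W ⟶ V) (k : sec K V) :
    res g (ev χ k) = ev χ (res g k) :=
  (ap_res _ g k).symm

lemma eq_zero_iff_ev_eps (U : C) {A : Sheaf J AddCommGrpCat.{u}}
    (χ : (freeAb J).obj (eps J U) ⟶ A) :
    χ = 0 ↔ ev χ (etaSec J U (𝟙 U)) = (0 : A.obj.obj (op U)) := by
  constructor
  · rintro rfl
    exact ev_zero _
  · intro h
    apply ((adjF J).homEquiv _ A).injective
    apply eps_hom_ext
    exact h.trans (ev_zero _).symm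

/-- the section of the final sheaf over `V` -/
noncomputable def star (V : C) : sec (⊤_ (Sh J)) V :=
  ap (terminal.from (eps J V)) (etaSec J V (𝟙 V))

lemma sec_top_eq {V : C} (k : sec (⊤_ (Sh J)) V) : k = star V := by
  have h1 := ap_homOfSec J k (𝟙 V)
  have h2 : homOfSec J k = terminal.from (eps J V) := terminal.hom_ext _ _
  have h3 : res (𝟙 V) k = k := by
    simp [res]
  rw [← h3, ← h1, h2]
  rfl

section Acyc

open Abelian

variable (K : Sh J)

/-- two copies of the final sheaf glued along `K` -/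
noncomputable abbrev PK : Sh J := pushout (terminal.from K) (terminal.from K)

/-- `ℤ/ℤ_K ⟶ ℤ[e ⊔_K e]` -/
noncomputable def iQ : ToposFin.quotZ K ⟶ (freeAb J).obj (PK K) :=
  cokernel.desc _ ((freeAb J).map (pushout.inr (terminal.from K) (terminal.from K)) -
      (freeAb J).map (pushout.inl (terminal.from K) (terminal.from K))) (by
    rw [Preadditive.comp_sub, ← Functor.map_comp, ← Functor.map_comp, pushout.condition,
      sub_self])

/-- `ℤ[e ⊔_K e] ⟶ ℤ/ℤ_K` -/
noncomputable def rQ : (freeAb J).obj (PK K) ⟶ ToposFin.quotZ K :=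
  ((adjF J).homEquiv _ _).symm
    (pushout.desc ((adjF J).homEquiv _ _ (0 : (freeAb J).obj (⊤_ (Sh J)) ⟶ ToposFin.quotZ K))
      ((adjF J).homEquiv _ _ (cokernel.π ((freeAb J).map (terminal.from K)))) (by
        rw [← (adjF J).homEquiv_naturality_left, ← (adjF J).homEquiv_naturality_left, comp_zero,
          cokernel.condition]))

lemma map_inl_rQ :
    (freeAb J).map (pushout.inl (terminal.from K) (terminal.from K)) ≫ rQ K = 0 := by
  unfold rQ
  rw [← (adjF J).homEquiv_naturality_left_symm, pushout.inl_desc, Equiv.symm_apply_apply]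

lemma map_inr_rQ :
    (freeAb J).map (pushout.inr (terminal.from K) (terminal.from K)) ≫ rQ K =
      cokernel.π ((freeAb J).map (terminal.from K)) := by
  unfold rQ
  rw [← (adjF J).homEquiv_naturality_left_symm, pushout.inr_desc, Equiv.symm_apply_apply]

lemma iQ_rQ : iQ K ≫ rQ K = 𝟙 _ := by
  apply coequalizer.hom_ext
  unfold iQ
  rw [cokernel.π_desc_assoc, Preadditive.sub_comp, map_inl_rQ, map_inr_rQ, sub_zero]
  exact (Category.comp_id _).symm

/-- **a totally acyclic abelian sheaf has no higher cohomology with supports** -/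
theorem subsingleton_ext_quotZ (A : Sheaf J AddCommGrpCat.{u}) (hA : CohCx.IsTotallyAcyclic A)
    (p : ℕ) : Subsingleton (Ext (ToposFin.quotZ K) A (p + 1)) := by
  have h0 : Subsingleton (Ext ((freeAb J).obj (PK K)) A (p + 1)) := hA (PK K) p
  have key : ∀ z : Ext (ToposFin.quotZ K) A (p + 1), z = 0 := by
    intro z
    have h1 : (Ext.mk₀ (iQ K)).comp ((Ext.mk₀ (rQ K)).comp z (zero_add _)) (zero_add _) = z := by
      rw [Ext.mk₀_comp_mk₀_assoc, iQ_rQ, Ext.mk₀_id_comp]
    rw [← h1, Subsingleton.elim ((Ext.mk₀ (rQ K)).comp z (zero_add _)) 0, Ext.comp_zero]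
  exact ⟨fun x y => (key x).trans (key y).symm⟩

end Acyc

section Mod

open Groth.Agent.Lib.ModSiteUnitSec

variable (O : Sheaf J CommRingCat.{u})

/-- the constant map with value `1` from a sheaf of sets to the structure sheaf -/
noncomputable def one (K : Sh J) : K ⟶ fs (ModSite.toAb (ModSite.unit O)) :=
  ⟨{ app := fun V => TypeCat.ofHom (fun _ => (1 : O.obj.obj V))
     naturality := by
      intro V W g
      ext k
      exact (map_one (O.obj.map g).hom).symm }⟩

/-- the unit section `ℤ[e] ⟶ O` -/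
noncomputable def ι₀ : (freeAb J).obj (⊤_ (Sh J)) ⟶ ModSite.toAb (ModSite.unit O) :=
  ((adjF J).homEquiv _ _).symm (one O _)

lemma ev_ι₀ {V : C} (k : sec (⊤_ (Sh J)) V) : ev (ι₀ O) k = (1 : O.obj.obj (op V)) := by
  unfold ev ι₀
  rw [Equiv.apply_symm_apply]
  rfl

variable {O}

lemma ev_ι₀_comp {F : ModSite.Mod O} (φ : ModSite.unit O ⟶ F) {V : C}
    (k : sec (⊤_ (Sh J)) V) :
    ev (ι₀ O ≫ (SheafOfModules.toSheaf (ModSite.ringSh O)).map φ) k = sec O φ V := by
  rw [ev_comp, ev_ι₀]
  rfl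

variable (O) in
lemma bijective_ι₀_comp (F : ModSite.Mod O) :
    Function.Bijective (fun φ : ModSite.unit O ⟶ F =>
      ι₀ O ≫ (SheafOfModules.toSheaf (ModSite.ringSh O)).map φ) := by
  constructor
  · intro φ φ' h
    apply Groth.Agent.Lib.ModSiteUnitSec.hom_ext_sec
    intro V
    have h1 := congrArg (fun χ => ev χ (star (J := J) V)) h
    simp only [ev_ι₀_comp] at h1
    exact h1
  · intro χ
    let s : F.sections := PresheafOfModules.sectionsMk (fun V => ev χ (star V.unop)) (by
      intro V W g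
      have h1 := ev_res χ g.unop (star V.unop)
      rw [sec_top_eq (res g.unop (star V.unop))] at h1
      exact h1)
    refine ⟨F.unitHomEquiv.symm s, ?_⟩
    apply ext_ev
    intro V k
    rw [ev_ι₀_comp, sec_top_eq k]
    have h2 : (F.unitHomEquiv (F.unitHomEquiv.symm s)).val (op V) = s.val (op V) := by
      rw [Equiv.apply_symm_apply]
    exact h2

variable (U : C)

/-- a map out of the unit vanishes on `U` iff its section over `U` vanishes -/
lemma restr_map_eq_zero_iff {F : ModSite.Mod O} (φ : ModSite.unit O ⟶ F) :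
    (ModSite.restr O U).map φ = 0 ↔ sec O φ U = 0 := by
  constructor
  · intro h
    exact congrArg (fun ψ : (ModSite.restr O U).obj (ModSite.unit O) ⟶ (ModSite.restr O U).obj F =>
      (ψ.val.app (op (Over.mk (𝟙 U)))).hom (1 : O.obj.obj (op U))) h
  · intro h
    apply (SheafOfModules.forget _).map_injective
    apply Groth.Agent.Lib.ModShriekPre.hom_ext_apply'
    intro Y x
    have h1 : sec O φ Y.unop.left = 0 := by
      rw [← sec_map φ Y.unop.hom, h]
      exact map_zero (F.val.map Y.unop.hom.op).hom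
    have h2 : ∀ x' : (ModSite.unit O).val.obj (op Y.unop.left),
        φ.val.app (op Y.unop.left) x' = 0 := by
      intro x'
      let r : (ModSite.ringSh O).obj.obj (op Y.unop.left) := x'
      let one' : (ModSite.unit O).val.obj (op Y.unop.left) := (1 : O.obj.obj (op Y.unop.left))
      have h3 := (φ.val.app (op Y.unop.left)).hom.map_smul r one'
      have e : r • one' = x' := mul_one r
      have h1' : (φ.val.app (op Y.unop.left)).hom one' = 0 := h1
      rw [e, h1', smul_zero] at h3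
      exact h3
    exact h2 x

/-- the map `ℤ[U] ⟶ ℤ[e]` -/
noncomputable abbrev aU : (freeAb J).obj (eps J U) ⟶ (freeAb J).obj (⊤_ (Sh J)) :=
  (freeAb J).map (terminal.from (eps J U))

lemma aU_comp_eq_zero_iff {A : Sheaf J AddCommGrpCat.{u}} (χ : (freeAb J).obj (⊤_ (Sh J)) ⟶ A) :
    aU U ≫ χ = 0 ↔ ev χ (star U) = (0 : A.obj.obj (op U)) := by
  rw [eq_zero_iff_ev_eps, ev_map_comp]
  rfl

/-- key comparison: vanishing on `U` of a section, seen in both categories -/
lemma key {F : ModSite.Mod O} (φ : ModSite.unit O ⟶ F) :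
    aU U ≫ ι₀ O ≫ (SheafOfModules.toSheaf (ModSite.ringSh O)).map φ = 0 ↔
      (ModSite.extZeroAdj O U).counit.app (ModSite.unit O) ≫ φ = 0 := by
  rw [aU_comp_eq_zero_iff, ev_ι₀_comp, Groth.Agent.Lib.SuppAdj21.counit_comp_eq_zero_iff,
    restr_map_eq_zero_iff]
  exact Iff.rfl

variable (O)

/-- the comparison map `ℤ/ℤ_U ⟶ O/O_U` -/
noncomputable def ι : ToposFin.quotZ (eps J U) ⟶
    ModSite.toAb ((ModSite.quotOn O U).obj (ModSite.unit O)) :=
  cokernel.desc (aU U)
    (ι₀ O ≫ (SheafOfModules.toSheaf (ModSite.ringSh O)).map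
      ((ModSite.quotOnπ O U).app (ModSite.unit O)))
    ((key U _).2 (cokernel.condition _))

lemma π_ι : cokernel.π (aU U) ≫ ι O U =
    ι₀ O ≫ (SheafOfModules.toSheaf (ModSite.ringSh O)).map
      ((ModSite.quotOnπ O U).app (ModSite.unit O)) :=
  cokernel.π_desc _ _ _

lemma bijective_ι_comp (F : ModSite.Mod O) :
    Function.Bijective (fun ψ : (ModSite.quotOn O U).obj (ModSite.unit O) ⟶ F =>
      ι O U ≫ (SheafOfModules.toSheaf (ModSite.ringSh O)).map ψ) := by
  have hπ : Epi ((ModSite.quotOnπ O U).app (ModSite.unit O)) :=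
    inferInstanceAs (Epi (cokernel.π _))
  have hπ' : Epi (cokernel.π (aU (J := J) U)) := coequalizer.π_epi
  constructor
  · intro ψ ψ' h
    have h1 : ι₀ O ≫ (SheafOfModules.toSheaf (ModSite.ringSh O)).map
          ((ModSite.quotOnπ O U).app (ModSite.unit O) ≫ ψ) =
        ι₀ O ≫ (SheafOfModules.toSheaf (ModSite.ringSh O)).map
          ((ModSite.quotOnπ O U).app (ModSite.unit O) ≫ ψ') := by
      rw [Functor.map_comp, Functor.map_comp, ← Category.assoc, ← Category.assoc, ← π_ι,
        Category.assoc, Category.assoc]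
      exact congrArg (fun t => cokernel.π (aU U) ≫ t) h
    have h2 := (bijective_ι₀_comp O F).1 h1
    exact (cancel_epi _).1 h2
  · intro χ
    obtain ⟨φ₀, hφ₀⟩ := (bijective_ι₀_comp O F).2 (cokernel.π (aU U) ≫ χ)
    have hφ₀' : ι₀ O ≫ (SheafOfModules.toSheaf (ModSite.ringSh O)).map φ₀ =
        cokernel.π (aU U) ≫ χ := hφ₀
    have h1 : (ModSite.extZeroAdj O U).counit.app (ModSite.unit O) ≫ φ₀ = 0 := by
      rw [← key, hφ₀', ← Category.assoc, cokernel.condition, zero_comp]
    obtain ⟨ψ, h2⟩ : ∃ ψ : (ModSite.quotOn O U).obj (ModSite.unit O) ⟶ F,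
        (ModSite.quotOnπ O U).app (ModSite.unit O) ≫ ψ = φ₀ :=
      ⟨cokernel.desc _ φ₀ h1, cokernel.π_desc _ _ _⟩
    refine ⟨ψ, ?_⟩
    change ι O U ≫ _ = χ
    rw [← cancel_epi (cokernel.π (aU U)), ← Category.assoc, π_ι, Category.assoc,
      ← Functor.map_comp, h2, hφ₀']

/-- **`Ext^p_O(O/O_U, F) ≃+ H^p_Z(F)`** -/
theorem nonempty_ext_quotOn_unit_addEquiv_HZ [HasExt.{u} (ModSite.Mod O)]
    [EnoughInjectives (ModSite.Mod O)] (F : ModSite.Mod O) (p : ℕ) :
    Nonempty (Abelian.Ext.{u} ((ModSite.quotOn O U).obj (ModSite.unit O)) F p ≃+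
      ModSite.HZ U F p) := by
  have : PreservesFiniteColimits (SheafOfModules.toSheaf.{u} (ModSite.ringSh O)) :=
    ⟨fun K _ _ => inferInstance⟩
  exact Groth.Agent.Lib.ExtCompare95.nonempty_addEquiv
    (SheafOfModules.toSheaf.{u} (ModSite.ringSh O)) (ι O U) (bijective_ι_comp O U)
    (fun I hI q => subsingleton_ext_quotZ _ _
      (Groth.Agent.Lib.ModAcyc.isTotallyAcyclic_of_injective (ModSite.ringSh O) I) q) p F

/-- `H^{p+1}_Z` vanishes on modules whose underlying abelian sheaf is totally acyclic -/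
theorem subsingleton_HZ_of_isTotallyAcyclic (F : ModSite.Mod O)
    (hF : CohCx.IsTotallyAcyclic (ModSite.toAb F)) (p : ℕ) :
    Subsingleton (ModSite.HZ U F (p + 1)) :=
  subsingleton_ext_quotZ _ _ hF p

end Mod

end Groth.Agent.Lib.SuppHZ21
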