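import Groth.Agent.Lib.GammaZModAb92
import Groth.Agent.Lib.HZPreDerivedLC92
import Groth.Agent.Lib.SheafifyLocZero92
import Groth.Agent.Lib.DeltaPostcomp
import Groth.Agent.Lib.ExtDelta
import Groth.Agent.Lib.DeltaIso
import Groth.Agent.Lib.DeltaUniv
import Groth.Agent.Lib.DerivedLES
import Groth.Agent.Lib.RpushRestrict
import Groth.Agent.S13583

/-!
# Local cohomology sheaves with locally closed supports: `O_Y`-modules versus abelian sheaves

For opens `V₂ ≤ V₁` of a scheme `Y` (`Z = V₁ ∖ V₂`): the module-level functor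
`TM h = j₁^* ⋙ Γ_Z ⋙ j₁_*` and the comparison
`toAb (R^i (TM h) F) ≅ ℋ^i_Z(toAb F)` (`SuppFam.HZshLC h i`).
-/

set_option autoImplicit false
universe u
open CategoryTheory CategoryTheory.Limits Opposite AlgebraicGeometry TopologicalSpace

namespace Groth.Agent.Lib.SuppLCMod92

open Groth.Agent.Lib.CohLES (toAbF)

variable {Y : Scheme.{u}} {V₂ V₁ : Y.Opens} (h : V₂ ≤ V₁)

/-- the open `V₂ ∩ V₁` of the scheme `V₁` -/
abbrev W₂₁ (V₂ V₁ : Y.Opens) : (V₁ : Scheme.{u}).Opens := V₁.ι ⁻¹ᵁ V₂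

/-- sections with supports in the locally closed `V₁ ∖ V₂`, on `O_Y`-modules -/
noncomputable def TM (V₂ V₁ : Y.Opens) : Y.Modules ⥤ Y.Modules :=
  Scheme.Modules.restrictFunctor V₁.ι ⋙ DCoh.gammaZ (W₂₁ V₂ V₁).ι ⋙
    Scheme.Modules.pushforward V₁.ι

instance : (TM V₂ V₁).Additive := by
  unfold TM
  infer_instance

instance : PreservesFiniteLimits (TM V₂ V₁) := by
  unfold TM
  infer_instance

/-- pushforward along an open inclusion commutes with `toAb` -/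
noncomputable def pushIso (V : Y.Opens) :
    Scheme.Modules.pushforward V.ι ⋙ toAbF Y ≅
      toAbF (V : Scheme.{u}) ⋙ CohTop.push (CohCx.incl (X := Y.carrier) V) :=
  NatIso.ofComponents (fun M => Iso.refl _) (by intro M N φ; rfl)

/-- degree zero: `toAb ∘ TM ≅ Γ_Z ∘ toAb` -/
noncomputable def e00 (h : V₂ ≤ V₁) :
    TM V₂ V₁ ⋙ toAbF Y ≅ toAbF Y ⋙ SuppFam.sectSuppLC (X := Y.carrier) h :=
  (show TM V₂ V₁ ⋙ toAbF Y ≅
      Scheme.Modules.restrictFunctor V₁.ι ⋙ DCoh.gammaZ (W₂₁ V₂ V₁).ι ⋙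
        (toAbF (V₁ : Scheme.{u}) ⋙ CohTop.push (CohCx.incl (X := Y.carrier) V₁)) from
    Functor.isoWhiskerLeft (Scheme.Modules.restrictFunctor V₁.ι)
      (Functor.isoWhiskerLeft (DCoh.gammaZ (W₂₁ V₂ V₁).ι) (pushIso V₁))) ≪≫
  (show Scheme.Modules.restrictFunctor V₁.ι ⋙ DCoh.gammaZ (W₂₁ V₂ V₁).ι ⋙
        (toAbF (V₁ : Scheme.{u}) ⋙ CohTop.push (CohCx.incl (X := Y.carrier) V₁)) ≅
      Scheme.Modules.restrictFunctor V₁.ι ⋙
        (toAbF (V₁ : Scheme.{u}) ⋙ LocCohZ.sectSuppF (X := (V₁ : Scheme.{u}).carrier) (W₂₁ V₂ V₁)) ⋙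
          CohTop.push (CohCx.incl (X := Y.carrier) V₁) from
    Functor.isoWhiskerLeft (Scheme.Modules.restrictFunctor V₁.ι)
      (Functor.isoWhiskerRight (Groth.Agent.Lib.GammaZModAb92.gammaZIso (W₂₁ V₂ V₁))
        (CohTop.push (CohCx.incl (X := Y.carrier) V₁)))) ≪≫
  (show Scheme.Modules.restrictFunctor V₁.ι ⋙
        (toAbF (V₁ : Scheme.{u}) ⋙ LocCohZ.sectSuppF (X := (V₁ : Scheme.{u}).carrier) (W₂₁ V₂ V₁)) ⋙
          CohTop.push (CohCx.incl (X := Y.carrier) V₁) ≅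
      toAbF Y ⋙ SuppFam.sectSuppLC (X := Y.carrier) h from
    Functor.isoWhiskerRight (Groth.Agent.Lib.GammaZModAb92.restrIso V₁).symm
      (LocCohZ.sectSuppF (X := (V₁ : Scheme.{u}).carrier) (W₂₁ V₂ V₁) ⋙
        CohTop.push (CohCx.incl (X := Y.carrier) V₁)))

instance preservesFiniteLimits_sectSuppLC (h : V₂ ≤ V₁) :
    PreservesFiniteLimits (SuppFam.sectSuppLC (X := Y.carrier) h) := by
  have := Groth.Agent.S6023.preservesFiniteLimits_sectSuppF
    (SuppFam.inOpen (X := Y.carrier) V₁ V₂)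
  unfold SuppFam.sectSuppLC
  infer_instance

section Delta

variable [HasInjectiveResolutions Y.Modules]

/-- the delta-functor `M ↦ toAb (R^n (TM) M)` -/
noncomputable abbrev T1 (V₂ V₁ : Y.Opens) :
    DeltaF.CohDeltaFunctor Y.Modules (Sheaf (Opens.grothendieckTopology Y) AddCommGrpCat.{u}) ℕ :=
  Groth.Agent.Lib.DeltaPostcomp.postcomp
    (Groth.Agent.Lib.DerivedLES.derivedLES (TM V₂ V₁)).toCohDeltaFunctor (toAbF Y)

/-- the delta-functor `M ↦ ℋ^n_Z (toAb M)` -/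
noncomputable abbrev T2 (h : V₂ ≤ V₁) :
    DeltaF.CohDeltaFunctor Y.Modules (Sheaf (Opens.grothendieckTopology Y) AddCommGrpCat.{u}) ℕ :=
  Groth.Agent.Lib.ExtDelta.precomp (toAbF Y)
    (Groth.Agent.Lib.DerivedLES.derivedLES
      (SuppFam.sectSuppLC (X := Y.carrier) h)).toCohDeltaFunctor

theorem T1_eff : (T1 V₂ V₁).IsEffaceable := by
  intro n M
  let I := injectiveResolution M
  have hm : Mono (I.ι.f 0) := inferInstance
  refine ⟨I.cocomplex.X 0, I.ι.f 0, hm, ?_⟩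
  change (toAbF Y).map (((TM V₂ V₁).rightDerived (n + 1)).map (I.ι.f 0)) = 0
  rw [(Functor.isZero_rightDerived_obj_injective_succ (TM V₂ V₁) n (I.cocomplex.X 0)).eq_of_tgt
    (((TM V₂ V₁).rightDerived (n + 1)).map (I.ι.f 0)) 0, Functor.map_zero]

/-- the local cohomology sheaves of a flasque sheaf vanish in positive degrees -/
theorem isZero_HZshLC_of_isFlasque {X : TopCat.{u}} {W V : Opens X} (h : W ≤ V)
    (F : CohTop.Ab X) [TopCat.Sheaf.IsFlasque F] (n : ℕ) :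
    IsZero ((SuppFam.HZshLC h (n + 1)).obj F) := by
  obtain ⟨e⟩ := Groth.Agent.S13583.result F h (n + 1)
  refine IsZero.of_iso ?_ e
  apply Groth.Agent.Lib.SheafifyLocZero92.isZero_sheafify
  intro V' x y hy
  refine ⟨V', le_rfl, hy, ?_⟩
  have : Subsingleton (LocCohZ.HZ F (n + 1)
      (inf_le_inf_right V' h : W ⊓ V' ≤ V ⊓ V')) :=
    Groth.Agent.S6023.part1 F _ _ _ (n + 1) (Nat.succ_pos n)
  exact Subsingleton.elim (α := LocCohZ.HZ F (n + 1)
      (inf_le_inf_right V' h : W ⊓ V' ≤ V ⊓ V')) _ _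

theorem T2_eff (h : V₂ ≤ V₁) : (T2 h).IsEffaceable := by
  intro n M
  let I := injectiveResolution M
  have hm : Mono (I.ι.f 0) := inferInstance
  refine ⟨I.cocomplex.X 0, I.ι.f 0, hm, ?_⟩
  have hfl : TopCat.Sheaf.IsFlasque (Coh.toAb (I.cocomplex.X 0)) :=
    Groth.Agent.Lib.ModInjFlasque92.isFlasque_of_injective (I.cocomplex.X 0)
  have hz : IsZero ((SuppFam.HZshLC (X := Y.carrier) h (n + 1)).obj
      (Coh.toAb (I.cocomplex.X 0))) :=
    isZero_HZshLC_of_isFlasque h _ n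
  exact hz.eq_of_tgt _ _

/-- degree zero comparison -/
noncomputable def e0 (h : V₂ ≤ V₁) : (T1 V₂ V₁).F 0 ≅ (T2 h).F 0 :=
  Functor.isoWhiskerRight (TM V₂ V₁).rightDerivedZeroIsoSelf (toAbF Y) ≪≫ e00 h ≪≫
    Functor.isoWhiskerLeft (toAbF Y)
      (SuppFam.sectSuppLC (X := Y.carrier) h).rightDerivedZeroIsoSelf.symm

/-- **`toAb (R^n (TM) M) ≅ ℋ^n_Z (toAb M)`** -/
theorem nonempty_toAb_iso (h : V₂ ≤ V₁) (M : Y.Modules) (n : ℕ) :
    Nonempty (Coh.toAb (((TM V₂ V₁).rightDerived n).obj M) ≅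
      (SuppFam.HZshLC (X := Y.carrier) h n).obj (Coh.toAb M)) := by
  obtain ⟨i⟩ := Groth.Agent.Lib.DeltaIso.nonempty_natIso_of_isUniversal (T1 V₂ V₁) (T2 h)
    (Groth.Agent.Lib.DeltaUniv.isUniversal_of_isEffaceable _ T1_eff)
    (Groth.Agent.Lib.DeltaUniv.isUniversal_of_isEffaceable _ (T2_eff h)) (e0 h) n
  exact ⟨i.app M⟩

end Delta

end Groth.Agent.Lib.SuppLCMod92
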