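import Groth.Agent.Lib.SuppLCMod92
import Groth.Agent.Lib.FiveTermQCoh92
import Groth.Agent.Lib.RpushQCoh

/-!
# Quasi-coherence of the local cohomology sheaves with locally closed supports

For opens `V₂ ≤ V₁` of a scheme `Y` with quasi-compact inclusions, the derived functors of
`TM V₂ V₁ = j₁_* Γ_Z j₁^*` take quasi-coherent modules to quasi-coherent modules.
-/

set_option autoImplicit false
universe u
open CategoryTheory CategoryTheory.Limits Opposite AlgebraicGeometry TopologicalSpace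

namespace Groth.Agent.Lib.SuppLCModQCoh92

open Groth.Agent.Lib.SuppLCMod92 (TM W₂₁)
open Groth.Agent.Lib.LocCohModShift92 (α β G adjL Lf exactOnInj α_β_app)
open Groth.Agent.Lib.FunctorSESNat

variable {Y : Scheme.{u}} (V₂ V₁ : Y.Opens)

/-- `j₁^*` -/
noncomputable abbrev R₁ : Y.Modules ⥤ (V₁ : Scheme.{u}).Modules :=
  Scheme.Modules.restrictFunctor V₁.ι

/-- `j₁_*` -/
noncomputable abbrev P₁ : (V₁ : Scheme.{u}).Modules ⥤ Y.Modules :=
  Scheme.Modules.pushforward V₁.ι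

/-- `j₁_* j₁^*` -/
noncomputable abbrev F₂ : Y.Modules ⥤ Y.Modules := R₁ V₁ ⋙ P₁ V₁

/-- `j₂₁^* ⋙ (j₂₁_* ⋙ j₁_*)` -/
noncomputable abbrev Φ : (V₁ : Scheme.{u}).Modules ⥤ Y.Modules :=
  Scheme.Modules.restrictFunctor (W₂₁ V₂ V₁).ι ⋙
    (Scheme.Modules.pushforward (W₂₁ V₂ V₁).ι ⋙ P₁ V₁)

/-- `j₂_* j₂^*`, written through `V₁` -/
noncomputable abbrev F₃ : Y.Modules ⥤ Y.Modules := R₁ V₁ ⋙ Φ V₂ V₁

/-- the inclusion `TM ⟶ j₁_* j₁^*` -/
noncomputable def αT : TM V₂ V₁ ⟶ F₂ V₁ where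
  app M := (P₁ V₁).map ((α (W₂₁ V₂ V₁)).app ((R₁ V₁).obj M))
  naturality M N φ := by
    change (P₁ V₁).map ((DCoh.gammaZ (W₂₁ V₂ V₁).ι).map ((R₁ V₁).map φ)) ≫ _ =
      _ ≫ (P₁ V₁).map ((R₁ V₁).map φ)
    rw [← Functor.map_comp, ← Functor.map_comp]
    congr 1
    exact (α (W₂₁ V₂ V₁)).naturality ((R₁ V₁).map φ)

/-- the restriction `j₁_* j₁^* ⟶ j₂_* j₂^*` -/
noncomputable def βT : F₂ V₁ ⟶ F₃ V₂ V₁ where
  app M := (P₁ V₁).map ((β (W₂₁ V₂ V₁)).app ((R₁ V₁).obj M))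
  naturality M N φ := by
    change (P₁ V₁).map ((R₁ V₁).map φ) ≫ _ =
      _ ≫ (P₁ V₁).map ((G (W₂₁ V₂ V₁)).map ((R₁ V₁).map φ))
    rw [← Functor.map_comp, ← Functor.map_comp]
    congr 1
    exact (β (W₂₁ V₂ V₁)).naturality ((R₁ V₁).map φ)

lemma αT_βT_app (M : Y.Modules) : (αT V₂ V₁).app M ≫ (βT V₂ V₁).app M = 0 := by
  change (P₁ V₁).map _ ≫ (P₁ V₁).map _ = 0
  rw [← Functor.map_comp, α_β_app, Functor.map_zero]

/-- `TM M` is the kernel of `j₁_* j₁^* M ⟶ j₂_* j₂^* M` -/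
noncomputable def isLimitT (M : Y.Modules) :
    IsLimit (KernelFork.ofι ((αT V₂ V₁).app M) (αT_βT_app V₂ V₁ M)) :=
  KernelFork.mapIsLimit _
    (kernelIsKernel ((β (W₂₁ V₂ V₁)).app ((R₁ V₁).obj M))) (P₁ V₁)

lemma exactOnInjT : ExactOnInj (αT V₂ V₁) (βT V₂ V₁) := by
  intro I hI
  refine ⟨αT_βT_app V₂ V₁ I, ?_⟩
  have : HasInjectiveResolutions (V₁ : Scheme.{u}).Modules :=
    Groth.Agent.Lib.RpushRestrict.hasInjectiveResolutions _
  have hI₁ : Injective ((R₁ V₁).obj I) := Injective.injective_of_adjoint (adjL V₁) I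
  obtain ⟨w, hse⟩ := exactOnInj (W₂₁ V₂ V₁) ((R₁ V₁).obj I) hI₁
  obtain ⟨s, hs⟩ := Groth.Agent.Lib.ModInjFlasque92.exists_section_unit_restrictAdjunction
    (V₁ : Scheme.{u}) (W₂₁ V₂ V₁) ((R₁ V₁).obj I)
  have hmono := hse.mono_f
  let sp : (ShortComplex.mk ((α (W₂₁ V₂ V₁)).app ((R₁ V₁).obj I))
      ((β (W₂₁ V₂ V₁)).app ((R₁ V₁).obj I)) w).Splitting :=
    ShortComplex.Splitting.ofExactOfSection _ hse.exact s hs hmono
  exact (sp.map (P₁ V₁)).shortExact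

section QCoh

variable {V₂ V₁}

/-- the range of the composite inclusion `V₂ ∩ V₁ → V₁ → Y` -/
lemma opensRange_comp (h : V₂ ≤ V₁) : ((W₂₁ V₂ V₁).ι ≫ V₁.ι).opensRange = V₂ := by
  ext x
  constructor
  · rintro ⟨y, rfl⟩
    exact y.2
  · intro hx
    exact ⟨⟨⟨x, h hx⟩, hx⟩, rfl⟩

lemma quasiCompact_comp (h : V₂ ≤ V₁) [QuasiCompact V₂.ι] :
    QuasiCompact ((W₂₁ V₂ V₁).ι ≫ V₁.ι) := by
  have h1 := Scheme.Hom.isoOpensRange_hom_ι ((W₂₁ V₂ V₁).ι ≫ V₁.ι)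
  have h2 : QuasiCompact ((W₂₁ V₂ V₁).ι ≫ V₁.ι).opensRange.ι := by
    rw [opensRange_comp h]
    infer_instance
  rw [← h1]
  infer_instance

variable [HasInjectiveResolutions Y.Modules]

lemma isQuasicoherent_F₂ [QuasiCompact V₁.ι] (F : Y.Modules) (hF : F.IsQuasicoherent) (k : ℕ) :
    (((F₂ V₁).rightDerived k).obj F).IsQuasicoherent := by
  have : HasInjectiveResolutions (V₁ : Scheme.{u}).Modules :=
    Groth.Agent.Lib.RpushRestrict.hasInjectiveResolutions _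
  have hres : Coh.IsQCoh ((R₁ V₁).obj F) := Scheme.Modules.isQuasicoherent_restrictFunctor _ _
  have h1 := Groth.Agent.Lib.RpushQCoh.isQuasicoherent_Rpush V₁.ι ((R₁ V₁).obj F) k hres
  exact (SheafOfModules.isQuasicoherent Y.ringCatSheaf).prop_of_iso
    ((Groth.Agent.Lib.DerivedCompExact.rightDerivedCompIso (R₁ V₁) (P₁ V₁) (adjL V₁) k).app
      F).symm h1

lemma isQuasicoherent_F₃ (h : V₂ ≤ V₁) [QuasiCompact V₂.ι] (F : Y.Modules)
    (hF : F.IsQuasicoherent) (k : ℕ) :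
    (((F₃ V₂ V₁).rightDerived k).obj F).IsQuasicoherent := by
  have : HasInjectiveResolutions (V₁ : Scheme.{u}).Modules :=
    Groth.Agent.Lib.RpushRestrict.hasInjectiveResolutions _
  have : HasInjectiveResolutions ((W₂₁ V₂ V₁ : (V₁ : Scheme.{u}).Opens) : Scheme.{u}).Modules :=
    Groth.Agent.Lib.RpushRestrict.hasInjectiveResolutions _
  have hqc := quasiCompact_comp h
  have hres : Coh.IsQCoh ((R₁ V₁).obj F) := Scheme.Modules.isQuasicoherent_restrictFunctor _ _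
  have hres' : Coh.IsQCoh ((Scheme.Modules.restrictFunctor (W₂₁ V₂ V₁).ι).obj ((R₁ V₁).obj F)) :=
    Scheme.Modules.isQuasicoherent_restrictFunctor _ _
  have h1 := Groth.Agent.Lib.RpushQCoh.isQuasicoherent_Rpush ((W₂₁ V₂ V₁).ι ≫ V₁.ι)
    ((Scheme.Modules.restrictFunctor (W₂₁ V₂ V₁).ι).obj ((R₁ V₁).obj F)) k hres'
  let i1 := (Groth.Agent.Lib.DerivedCompExact.rightDerivedCompIso (R₁ V₁) (Φ V₂ V₁)
    (adjL V₁) k).app F
  let i2 := (Groth.Agent.Lib.DerivedCompExact.rightDerivedCompIso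
    (Scheme.Modules.restrictFunctor (W₂₁ V₂ V₁).ι)
    (Scheme.Modules.pushforward (W₂₁ V₂ V₁).ι ⋙ P₁ V₁) (adjL (W₂₁ V₂ V₁)) k).app ((R₁ V₁).obj F)
  let i3 := (Groth.Agent.Lib.RightDerivedPostComp.rightDerivedIsoOfIso
    (Scheme.Modules.pushforwardComp (W₂₁ V₂ V₁).ι V₁.ι) k).app
      ((Scheme.Modules.restrictFunctor (W₂₁ V₂ V₁).ι).obj ((R₁ V₁).obj F))
  exact (SheafOfModules.isQuasicoherent Y.ringCatSheaf).prop_of_iso (i1 ≪≫ i2 ≪≫ i3).symm h1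

/-- **the derived functors of `TM` preserve quasi-coherence** -/
theorem isQuasicoherent_rightDerived (h : V₂ ≤ V₁) [QuasiCompact V₁.ι] [QuasiCompact V₂.ι]
    (F : Y.Modules) (hF : F.IsQuasicoherent) (i : ℕ) :
    (((TM V₂ V₁).rightDerived i).obj F).IsQuasicoherent := by
  have q₂ := fun k => isQuasicoherent_F₂ (V₁ := V₁) F hF k
  have q₃ := fun k => isQuasicoherent_F₃ h F hF k
  rcases i with _ | n
  · -- degree zero: a kernel
    have h2 : ((F₂ V₁).obj F).IsQuasicoherent :=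
      (SheafOfModules.isQuasicoherent Y.ringCatSheaf).prop_of_iso
        ((Functor.rightDerivedZeroIsoSelf (F₂ V₁)).app F) (q₂ 0)
    have h3 : ((F₃ V₂ V₁).obj F).IsQuasicoherent :=
      (SheafOfModules.isQuasicoherent Y.ringCatSheaf).prop_of_iso
        ((Functor.rightDerivedZeroIsoSelf (F₃ V₂ V₁)).app F) (q₃ 0)
    have hk : (kernel ((βT V₂ V₁).app F)).IsQuasicoherent :=
      Groth.Agent.Lib.H90OXModExact.isQuasicoherent_kernel _
    have e : kernel ((βT V₂ V₁).app F) ≅ (TM V₂ V₁).obj F :=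
      IsLimit.conePointUniqueUpToIso (kernelIsKernel ((βT V₂ V₁).app F)) (isLimitT V₂ V₁ F)
    exact (SheafOfModules.isQuasicoherent Y.ringCatSheaf).prop_of_iso
      (e ≪≫ ((Functor.rightDerivedZeroIsoSelf (TM V₂ V₁)).app F).symm) hk
  · -- positive degrees: the five-term exact sequence
    have hE := exactOnInjT V₂ V₁
    obtain ⟨w₃, e₃⟩ := exact₃ hE n F
    obtain ⟨w₁, e₁⟩ := exact₁ hE n F
    obtain ⟨w₂, e₂⟩ := exact₂ hE (n + 1) F
    exact Groth.Agent.Lib.FiveTermQCoh92.isQuasicoherent_of_fiveTerm _ _ _ _ w₃ w₁ w₂ e₃ e₁ e₂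
      (q₂ n) (q₃ n) (q₂ (n + 1)) (q₃ (n + 1))

end QCoh

end Groth.Agent.Lib.SuppLCModQCoh92
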