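import Groth.Agent.Lib.SuppExact21
import Groth.Agent.Lib.ModSiteFlat
import Groth.Agent.Lib.ModSiteHomRestr

/-!
# `Γ_Z` commutes with the internal hom on a ringed site (helper21)

* `nullReflIso` : uniqueness of the quotient `M ⟶ M/M_U`
* `quotOnTensIso M : quotOn ⋙ (- ⊗ M) ≅ (- ⊗ M) ⋙ quotOn`
* `sheafHomSectOnIso M : sheafHom M ⋙ sectOn ≅ sectOn ⋙ sheafHom M`
-/

set_option autoImplicit false
universe u
open CategoryTheory CategoryTheory.Limits Opposite

namespace Groth.Agent.Lib.SuppAdj21

open Groth.Agent.Lib.ModSiteTensor Groth.Agent.Lib.ModSiteFlat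

variable {C : Type u} [SmallCategory C] {J : GrothendieckTopology C}
  {O : Sheaf J CommRingCat.{u}} {U : C}

section NullRefl

variable {A₁ A₂ M : ModSite.Mod O} (f₁ : A₁ ⟶ M) (f₂ : A₂ ⟶ M)
  (hA₁ : IsT U A₁) (hA₂ : IsT U A₂)
  (hN₁ : ModSite.IsNullOn O U (cokernel f₁)) (hN₂ : ModSite.IsNullOn O U (cokernel f₂))

/-- two quotients of `M` by images of `IsT` modules which are null on `U` agree -/
noncomputable def nullReflIso : cokernel f₁ ≅ cokernel f₂ where
  hom := cokernel.desc f₁ (cokernel.π f₂) (comp_eq_zero_of_isT hA₁ hN₂ _)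
  inv := cokernel.desc f₂ (cokernel.π f₁) (comp_eq_zero_of_isT hA₂ hN₁ _)
  hom_inv_id := by
    apply coequalizer.hom_ext
    simp
  inv_hom_id := by
    apply coequalizer.hom_ext
    simp

@[reassoc (attr := simp)]
lemma π_nullReflIso_hom :
    cokernel.π f₁ ≫ (nullReflIso f₁ f₂ hA₁ hA₂ hN₁ hN₂).hom = cokernel.π f₂ :=
  cokernel.π_desc _ _ _

end NullRefl

section Tensor

variable (U) (M : ModSite.Mod O) [ModSite.HasPushOver O U]

instance : PreservesFiniteColimits ((ModSite.tensorBi O).flip.obj M) :=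
  PreservesColimitsOfSize.preservesFiniteColimits _

omit [ModSite.HasPushOver O U] in
/-- `(j_! G) ⊗ M` has only `LZ` sections (projection formula) -/
lemma isT_tens_extZero (G : ModSite.Mod (O.over U)) :
    IsT U (((ModSite.tensorBi O).flip.obj M).obj ((ModSite.extZero O U).obj G)) :=
  IsT.of_epi (Groth.Agent.Lib.ModSiteProj.projSh G M).hom (isT_extZero O U _)

omit [ModSite.HasPushOver O U] in
lemma isNullOn_of_iso {Q Q' : ModSite.Mod O} (e : Q ≅ Q') (h : ModSite.IsNullOn O U Q) :
    ModSite.IsNullOn O U Q' :=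
  IsZero.of_iso h ((ModSite.restr O U).mapIso e.symm)

omit [ModSite.HasPushOver O U] in
/-- `Q ⊗ M` is null on `U` if `Q` is -/
lemma isNullOn_tens (Q : ModSite.Mod O) (hQ : ModSite.IsNullOn O U Q) :
    ModSite.IsNullOn O U (((ModSite.tensorBi O).flip.obj M).obj Q) := by
  refine IsZero.of_iso ?_ (restrTensorIso O U Q M)
  exact Functor.map_isZero
    ((ModSite.tensorBi (O.over U)).flip.obj ((ModSite.restr O U).obj M)) hQ

section General

variable {U} (G : ModSite.Mod O ⥤ ModSite.Mod O) {A T A' : ModSite.Mod O} (f : A ⟶ T)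
  (f' : A' ⟶ G.obj T) [G.PreservesZeroMorphisms] [PreservesColimit (parallelPair f 0) G]
  (hA : IsT U (G.obj A)) (hA' : IsT U A')
  (hN : ModSite.IsNullOn O U (G.obj (cokernel f))) (hN' : ModSite.IsNullOn O U (cokernel f'))

omit [ModSite.HasPushOver O U] in
/-- comparison of `G(coker f)` with another null quotient of `G T` -/
noncomputable def genIso : G.obj (cokernel f) ≅ cokernel f' :=
  PreservesCokernel.iso G f ≪≫
    nullReflIso (G.map f) f' hA hA' (isNullOn_of_iso U (PreservesCokernel.iso G f) hN) hN'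

omit [ModSite.HasPushOver O U] in
lemma map_π_genIso_hom :
    G.map (cokernel.π f) ≫ (genIso G f f' hA hA' hN hN').hom = cokernel.π f' := by
  unfold genIso
  rw [Iso.trans_hom, ← Category.assoc, PreservesCokernel.π_iso_hom]
  exact π_nullReflIso_hom _ _ _ _ _ _

omit [ModSite.HasPushOver O U] in
lemma epi_map_π : Epi (G.map (cokernel.π f)) := by
  have h1 : G.map (cokernel.π f) = cokernel.π _ ≫ (PreservesCokernel.iso G f).inv := by
    rw [Iso.eq_comp_inv]
    exact PreservesCokernel.π_iso_hom _ _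
  rw [h1]
  infer_instance

end General

/-- `(T/T_U) ⊗ M ≅ (T ⊗ M)/(T ⊗ M)_U` -/
noncomputable def quotOnTensIsoApp (T : ModSite.Mod O) :
    ((ModSite.tensorBi O).flip.obj M).obj ((ModSite.quotOn O U).obj T) ≅
      (ModSite.quotOn O U).obj (((ModSite.tensorBi O).flip.obj M).obj T) :=
  genIso ((ModSite.tensorBi O).flip.obj M) ((ModSite.extZeroAdj O U).counit.app T)
    ((ModSite.extZeroAdj O U).counit.app (((ModSite.tensorBi O).flip.obj M).obj T))
    (isT_tens_extZero U M _) (isT_extZero O U _)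
    (isNullOn_tens U M _ (ExtSupp.isNullOn_quotOn O U T))
    (ExtSupp.isNullOn_quotOn O U _)

lemma map_π_quotOnTensIsoApp_hom (T : ModSite.Mod O) :
    ((ModSite.tensorBi O).flip.obj M).map ((ModSite.quotOnπ O U).app T) ≫
      (quotOnTensIsoApp U M T).hom =
    (ModSite.quotOnπ O U).app (((ModSite.tensorBi O).flip.obj M).obj T) :=
  map_π_genIso_hom ((ModSite.tensorBi O).flip.obj M) ((ModSite.extZeroAdj O U).counit.app T)
    ((ModSite.extZeroAdj O U).counit.app (((ModSite.tensorBi O).flip.obj M).obj T))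
    (isT_tens_extZero U M _) (isT_extZero O U _)
    (isNullOn_tens U M _ (ExtSupp.isNullOn_quotOn O U T))
    (ExtSupp.isNullOn_quotOn O U _)

instance epi_map_quotOnπ (T : ModSite.Mod O) :
    Epi (((ModSite.tensorBi O).flip.obj M).map ((ModSite.quotOnπ O U).app T)) :=
  epi_map_π ((ModSite.tensorBi O).flip.obj M) ((ModSite.extZeroAdj O U).counit.app T)

/-- **`quotOn` commutes with `- ⊗ M`.** -/
noncomputable def quotOnTensIso :
    ModSite.quotOn O U ⋙ (ModSite.tensorBi O).flip.obj M ≅
      (ModSite.tensorBi O).flip.obj M ⋙ ModSite.quotOn O U :=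
  NatIso.ofComponents (fun T => quotOnTensIsoApp U M T) (by
    intro T T' g
    rw [← cancel_epi (((ModSite.tensorBi O).flip.obj M).map ((ModSite.quotOnπ O U).app T))]
    dsimp only [Functor.comp_obj, Functor.comp_map]
    rw [← Category.assoc, ← Functor.map_comp]
    have h1 := (ModSite.quotOnπ O U).naturality g
    simp only [Functor.id_map] at h1
    rw [← h1, Functor.map_comp, Category.assoc, map_π_quotOnTensIsoApp_hom,
      ← Category.assoc, map_π_quotOnTensIsoApp_hom]
    have h2 := (ModSite.quotOnπ O U).naturality (((ModSite.tensorBi O).flip.obj M).map g)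
    simp only [Functor.id_map] at h2
    exact h2)

variable [ModSite.HasSheafHom M]

/-- **`Γ_Z` commutes with the internal hom.** -/
noncomputable def sheafHomSectOnIso :
    ModSite.sheafHom M ⋙ ModSite.sectOn O U ≅ ModSite.sectOn O U ⋙ ModSite.sheafHom M :=
  (((adj O U).comp (ModSite.sheafHomAdj M)).ofNatIsoLeft (quotOnTensIso U M)).rightAdjointUniq
    ((ModSite.sheafHomAdj M).comp (adj O U))

end Tensor

end Groth.Agent.Lib.SuppAdj21
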