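import Groth.Agent.Lib.SuppTensor21
import Groth.Agent.Lib.ModSiteTensorSymm66

/-!
# `Γ_Z ℋom(M, -) ≅ ℋom(M/M_U, -)` on a ringed site (helper21)
-/

set_option autoImplicit false
universe u
open CategoryTheory CategoryTheory.Limits Opposite

namespace Groth.Agent.Lib.SuppAdj21

open Groth.Agent.Lib.ModSiteTensor Groth.Agent.Lib.ModSiteFlat

variable {C : Type u} [SmallCategory C] {J : GrothendieckTopology C}
  {O : Sheaf J CommRingCat.{u}} (U : C) (M : ModSite.Mod O)

/-- `T ⊗ j_! G` has only `LZ` sections -/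
lemma isT_tens_extZero' (T : ModSite.Mod O) (G : ModSite.Mod (O.over U)) :
    IsT U (((ModSite.tensorBi O).obj T).obj ((ModSite.extZero O U).obj G)) :=
  IsT.of_epi
    (((Groth.Agent.Lib.ModSiteTensorSymm66.braidBi O).app T).app ((ModSite.extZero O U).obj G)).inv
    (isT_tens_extZero U T G)

/-- `T ⊗ Q` is null on `U` if `Q` is -/
lemma isNullOn_tens' (T Q : ModSite.Mod O) (hQ : ModSite.IsNullOn O U Q) :
    ModSite.IsNullOn O U (((ModSite.tensorBi O).obj T).obj Q) := by
  refine IsZero.of_iso ?_ (restrTensorIso O U T Q)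
  exact Functor.map_isZero
    ((ModSite.tensorBi (O.over U)).obj ((ModSite.restr O U).obj T)) hQ

variable [ModSite.HasPushOver O U]

/-- `T ⊗ (M/M_U) ≅ (T ⊗ M)/(T ⊗ M)_U` -/
noncomputable def tensQuotOnIsoApp (T : ModSite.Mod O) :
    ((ModSite.tensorBi O).obj T).obj ((ModSite.quotOn O U).obj M) ≅
      (ModSite.quotOn O U).obj (((ModSite.tensorBi O).obj T).obj M) :=
  genIso ((ModSite.tensorBi O).obj T) ((ModSite.extZeroAdj O U).counit.app M)
    ((ModSite.extZeroAdj O U).counit.app (((ModSite.tensorBi O).obj T).obj M))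
    (isT_tens_extZero' U T _) (isT_extZero O U _)
    (isNullOn_tens' U T _ (ExtSupp.isNullOn_quotOn O U M))
    (ExtSupp.isNullOn_quotOn O U _)

lemma map_π_tensQuotOnIsoApp_hom (T : ModSite.Mod O) :
    ((ModSite.tensorBi O).obj T).map ((ModSite.quotOnπ O U).app M) ≫
      (tensQuotOnIsoApp U M T).hom =
    (ModSite.quotOnπ O U).app (((ModSite.tensorBi O).obj T).obj M) :=
  map_π_genIso_hom ((ModSite.tensorBi O).obj T) ((ModSite.extZeroAdj O U).counit.app M)
    ((ModSite.extZeroAdj O U).counit.app (((ModSite.tensorBi O).obj T).obj M))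
    (isT_tens_extZero' U T _) (isT_extZero O U _)
    (isNullOn_tens' U T _ (ExtSupp.isNullOn_quotOn O U M))
    (ExtSupp.isNullOn_quotOn O U _)

instance epi_map_quotOnπ' (T : ModSite.Mod O) :
    Epi (((ModSite.tensorBi O).obj T).map ((ModSite.quotOnπ O U).app M)) :=
  epi_map_π ((ModSite.tensorBi O).obj T) ((ModSite.extZeroAdj O U).counit.app M)

/-- `(- ⊗ (M/M_U)) ≅ (- ⊗ M) ⋙ quotOn` -/
noncomputable def tensQuotOnIso :
    (ModSite.tensorBi O).flip.obj ((ModSite.quotOn O U).obj M) ≅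
      (ModSite.tensorBi O).flip.obj M ⋙ ModSite.quotOn O U :=
  NatIso.ofComponents (fun T => tensQuotOnIsoApp U M T) (by
    intro T T' g
    rw [← cancel_epi (((ModSite.tensorBi O).obj T).map ((ModSite.quotOnπ O U).app M))]
    dsimp only [Functor.comp_obj, Functor.comp_map, Functor.flip_obj_obj, Functor.flip_obj_map]
    have h0 := ((ModSite.tensorBi O).map g).naturality ((ModSite.quotOnπ O U).app M)
    rw [← Category.assoc, h0, Category.assoc, map_π_tensQuotOnIsoApp_hom,
      ← Category.assoc, map_π_tensQuotOnIsoApp_hom]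
    have h2 := (ModSite.quotOnπ O U).naturality (((ModSite.tensorBi O).map g).app M)
    simp only [Functor.id_map] at h2
    exact h2)

/-- **`Γ_Z ℋom(M, -) ≅ ℋom(M/M_U, -)`** -/
noncomputable def sheafHomSectOnIsoQuot [ModSite.HasSheafHom M]
    [ModSite.HasSheafHom ((ModSite.quotOn O U).obj M)] :
    ModSite.sheafHom M ⋙ ModSite.sectOn O U ≅ ModSite.sheafHom ((ModSite.quotOn O U).obj M) :=
  (((adj O U).comp (ModSite.sheafHomAdj M)).ofNatIsoLeft
    (quotOnTensIso U M ≪≫ (tensQuotOnIso U M).symm)).rightAdjointUniq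
    (ModSite.sheafHomAdj ((ModSite.quotOn O U).obj M))

end Groth.Agent.Lib.SuppAdj21
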