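import Mathlib.FieldTheory.Galois.Basic
import Mathlib.FieldTheory.Normal.Closure
import Mathlib.FieldTheory.SeparableClosure
import Mathlib.FieldTheory.IsAlgClosed.AlgebraicClosure
import Mathlib.GroupTheory.Sylow

/-!
# Sylow fixed fields in the Galois closure (helper95)

For a finite separable extension `L / K` and a prime `p`: there are a finite Galois extension
`M / K` containing `L` and an intermediate field `L'` of `M / K` with `[L' : K]` prime to `p` and
`[M : L']` a power of `p`.
-/

set_option autoImplicit false
universe u

namespace Groth.Agent.Lib.SylowField95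

open IntermediateField

theorem exists_sylow_fixedField (K L : Type u) [Field K] [Field L] [Algebra K L]
    [FiniteDimensional K L] [Algebra.IsSeparable K L] (p : ℕ) (hp : p.Prime) :
    ∃ (M : Type u) (_ : Field M) (_ : Algebra K M) (_ : Algebra L M) (_ : IsScalarTower K L M)
      (_ : FiniteDimensional K M) (_ : Algebra.IsSeparable K M) (L' : IntermediateField K M),
      ¬ p ∣ Module.finrank K L' ∧ ∃ r : ℕ, Module.finrank L' M = p ^ r := by
  have : Fact p.Prime := ⟨hp⟩
  let A := AlgebraicClosure L
  have hA : IsAlgClosure K A := inferInstanceAs (IsAlgClosure K (AlgebraicClosure L))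
  have hN : Normal K A := IsAlgClosure.normal K A
  let M : IntermediateField K A := normalClosure K L A
  have hsep : Algebra.IsSeparable K M := by
    show Algebra.IsSeparable K ↥(⨆ f : L →ₐ[K] A, f.fieldRange)
    have : ∀ f : L →ₐ[K] A, Algebra.IsSeparable K f.fieldRange := fun f =>
      AlgEquiv.Algebra.isSeparable (AlgEquiv.ofInjectiveField f)
    infer_instance
  have hnorm : Normal K M := normalClosure.normal K L A
  have hfin : FiniteDimensional K M := normalClosure.is_finiteDimensional K L A
  have hgal : IsGalois K M := ⟨⟩
  let P : Sylow p Gal(M/K) := default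
  let L' : IntermediateField K M := fixedField (P : Subgroup Gal(M/K))
  refine ⟨M, inferInstance, inferInstance, inferInstance, inferInstance, hfin, hsep, L', ?_, ?_⟩
  · rw [IntermediateField.finrank_eq_fixingSubgroup_index, fixingSubgroup_fixedField]
    exact P.not_dvd_index
  · rw [finrank_fixedField_eq_card]
    exact IsPGroup.iff_card.mp P.isPGroup'

end Groth.Agent.Lib.SylowField95
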