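import Groth.Agent.Lib.SymPowH1
import Mathlib

/-!
# Comparing symmetric powers over two rings (helper1)

`R₀ → R` an algebra with a retraction `π : R →+* R₀`, `M` a module over both with `t • m = π t • m`
(so the `R`-structure is the `R₀`-structure through `π`).  Then `Sym[R₀] ι M` and `Sym[R] ι M` are
identified by additive maps `cmp`, `cmpInv` matching pure tensors (inverse to each other for nonempty `ι`).
-/

set_option autoImplicit false
set_option linter.style.haveILetI false
set_option linter.unusedSectionVars false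

universe u v

open scoped TensorProduct

namespace Groth.Agent.Lib.SymCompareH1

open Groth.Agent.Lib.SymPowH1

noncomputable section

variable {R₀ R : Type u} [CommRing R₀] [CommRing R] [Algebra R₀ R] (π : R →+* R₀)
  (hπ : ∀ a : R₀, π (algebraMap R₀ R a) = a)
  {M : Type v} [AddCommGroup M] [Module R₀ M] [Module R M] [IsScalarTower R₀ R M]
  (hM : ∀ (t : R) (m : M), t • m = π t • m) (ι : Type u)

/-- `Sym[R] ι M` as an `R₀`-module through `R₀ → R`. -/
@[instance_reducible]
def modDown : Module R₀ (SymmetricPower R ι M) := Module.compHom _ (algebraMap R₀ R)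

/-- `Sym[R₀] ι M` as an `R`-module through `π`. -/
@[instance_reducible]
def modUp : Module R (SymmetricPower R₀ ι M) := Module.compHom _ π

/-- the comparison map `Sym[R₀] ι M → Sym[R] ι M` as a linear map for `modDown`. -/
def cmpLin : letI := modDown (R₀ := R₀) (R := R) (M := M) ι
    SymmetricPower R₀ ι M →ₗ[R₀] SymmetricPower R ι M :=
  letI := modDown (R₀ := R₀) (R := R) (M := M) ι
  symLift
    { toFun := fun m => SymmetricPower.tprod R m
      map_update_add' := fun m i x y => MultilinearMap.map_update_add _ m i x y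
      map_update_smul' := fun m i a x => by
        rw [← algebraMap_smul R a x, MultilinearMap.map_update_smul]
        rfl }
    (fun e f => SymmetricPower.tprod_equiv e f)

/-- the comparison map `Sym[R₀] ι M → Sym[R] ι M`. -/
def cmp : SymmetricPower R₀ ι M →+ SymmetricPower R ι M :=
  letI := modDown (R₀ := R₀) (R := R) (M := M) ι
  (cmpLin (R₀ := R₀) (R := R) (M := M) ι).toAddMonoidHom

lemma cmp_tprod (m : ι → M) :
    cmp (R₀ := R₀) (R := R) ι (SymmetricPower.tprod R₀ m) = SymmetricPower.tprod R m := by
  letI := modDown (R₀ := R₀) (R := R) (M := M) ι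
  change cmpLin (R₀ := R₀) (R := R) (M := M) ι (SymmetricPower.tprod R₀ m) = _
  unfold cmpLin
  rw [symLift_tprod]
  rfl

lemma cmp_smul (a : R₀) (ξ : SymmetricPower R₀ ι M) :
    cmp (R₀ := R₀) (R := R) ι (a • ξ) = algebraMap R₀ R a • cmp (R₀ := R₀) (R := R) ι ξ := by
  letI := modDown (R₀ := R₀) (R := R) (M := M) ι
  change cmpLin (R₀ := R₀) (R := R) (M := M) ι (a • ξ) = _
  rw [map_smul]
  rfl

include hM in
/-- the inverse comparison map as a linear map for `modUp`. -/
def cmpInvLin : letI := modUp (R₀ := R₀) (R := R) π (M := M) ι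
    SymmetricPower R ι M →ₗ[R] SymmetricPower R₀ ι M :=
  letI := modUp (R₀ := R₀) (R := R) π (M := M) ι
  symLift
    { toFun := fun m => SymmetricPower.tprod R₀ m
      map_update_add' := fun m i x y => MultilinearMap.map_update_add _ m i x y
      map_update_smul' := fun m i t x => by
        rw [hM t x, MultilinearMap.map_update_smul]
        rfl }
    (fun e f => SymmetricPower.tprod_equiv e f)

/-- the inverse comparison map `Sym[R] ι M → Sym[R₀] ι M`. -/
def cmpInv : SymmetricPower R ι M →+ SymmetricPower R₀ ι M :=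
  letI := modUp (R₀ := R₀) (R := R) π (M := M) ι
  (cmpInvLin π hM ι).toAddMonoidHom

lemma cmpInv_tprod (m : ι → M) :
    cmpInv π hM ι (SymmetricPower.tprod R m) = SymmetricPower.tprod R₀ m := by
  letI := modUp (R₀ := R₀) (R := R) π (M := M) ι
  change cmpInvLin π hM ι (SymmetricPower.tprod R m) = _
  unfold cmpInvLin
  rw [symLift_tprod]
  rfl

lemma cmpInv_smul (t : R) (y : SymmetricPower R ι M) :
    cmpInv π hM ι (t • y) = π t • cmpInv π hM ι y := by
  letI := modUp (R₀ := R₀) (R := R) π (M := M) ι
  change cmpInvLin π hM ι (t • y) = _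
  rw [map_smul]
  rfl

include hπ in
lemma cmpInv_cmp (ξ : SymmetricPower R₀ ι M) :
    cmpInv π hM ι (cmp (R₀ := R₀) (R := R) ι ξ) = ξ := by
  induction ξ using induction_on with
  | zero => rw [map_zero, map_zero]
  | tprod m => rw [cmp_tprod, cmpInv_tprod]
  | add x y hx hy => rw [map_add, map_add, hx, hy]
  | smul a x hx => rw [cmp_smul, cmpInv_smul, hπ, hx]

include hπ in
lemma cmp_cmpInv [Nonempty ι] (y : SymmetricPower R ι M) :
    cmp (R₀ := R₀) (R := R) ι (cmpInv π hM ι y) = y := by
  induction y using induction_on with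
  | zero => rw [map_zero, map_zero]
  | tprod m => rw [cmpInv_tprod, cmp_tprod]
  | add x y hx hy => rw [map_add, map_add, hx, hy]
  | smul t x hx =>
    rw [cmpInv_smul, cmp_smul, hx]
    have h : (t - algebraMap R₀ R (π t)) • x = 0 := by
      refine smul_eq_zero_of_forall_smul_eq_zero _ (fun m => ?_) x
      rw [sub_smul, hM t m, hM (algebraMap R₀ R (π t)) m, hπ, sub_self]
    rw [sub_smul, sub_eq_zero] at h
    exact h.symm

end

end Groth.Agent.Lib.SymCompareH1
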