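import Groth.Agent.Lib.H4TensorPair
import Groth.Agent.Lib.H78TensorGen
import Groth.Agent.Lib.H78SecCoord
import Groth.Agent.Lib.H78GenOn
import Groth.Agent.Lib.H60LineSym

/-!
# Tensor powers of an invertible module inside its symmetric algebra (helper28)

For an `O_X`-module `L`, a quasi-coherent algebra `A` and `j : L ⟶ A`:
* `Pairing.hom_tmul`: value of the morphism induced by a pairing on pure tensors;
* `θ L A j n : L^{⊗n} ⟶ A`, `ℓ₁ ⊗ ⋯ ⊗ ℓₙ ↦ j(ℓ₁) ⋯ j(ℓₙ)` (`el_θ_epow`, `el_θ_smul_epow`, `el_θ_res`).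
For `L` invertible and `(𝒮L, j)` its graded symmetric algebra (hypotheses `hj1`, `hpoly` as in helper60's `H60Line*`):
* `θ_injective`; `el_θ_mem_deg` (`θ` lands in degree `n` over affine opens); `mem_deg_of_locally`;
* `exists_θ_eq`: a section of `𝒮L` over ANY open `W` which is homogeneous of degree `n` over every affine open inside `W`
  is `θ` of a (unique) section of `L^{⊗n}` over `W`;
* `nz 𝒮L n W t` (the open `X_t`, union of the affine `V ≤ W` with `𝒮L(V)_n ⊆ (t|V)`; helper60's `XT`/`XTW` are instances),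
  `deg_subset_span_basicOpen`, `isGen_iff_deg_subset`, `genOn_eq_nz`: the generating locus of `τ ∈ Γ(W, L^{⊗n})`
  (helper78's `genOn`) is `nz` of `θ τ`.
-/

set_option autoImplicit false
universe u
open CategoryTheory CategoryTheory.Limits AlgebraicGeometry TopologicalSpace Opposite

noncomputable section

namespace Groth.Agent.Lib.SymLinePow

section Part1


open Groth.Agent.Lib.H4TensorPair Groth.Agent.Lib.H78TensorGen Groth.Agent.Lib.H90Invertible
open Groth.Agent.Lib.StructureModule Groth.Agent.Lib.H60LineBundle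

variable {X : Scheme.{u}}

/-- value of the morphism induced by a pairing on pure tensors -/
theorem Pairing.hom_tmul {L L' N : X.Modules} (β : Pairing L L' N) (V : X.Opens) (a : Γ(L, V)) (b : Γ(L', V)) :
    β.hom.app V (tmul a b) = β.toFun V a b := by
  have h1 : (H78AmpleUnit.adj X).unit.app (CohB1.tensorPre L L') ≫
      (Scheme.Modules.toPresheafOfModules X).map β.hom = β.preHom := by
    have := (Adjunction.homEquiv_unit (H4TensorPair.adj X) (X := (show X.PresheafOfModules from CohB1.tensorPre L L'))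
      (Y := N) (f := β.hom))
    refine this.symm.trans ?_
    exact Equiv.apply_symm_apply _ _
  have h2 := congrArg (fun φ => (PresheafOfModules.Hom.app φ (op V)).hom (ptmul a b)) h1
  exact h2


end Part1

section Part2


open Groth.Agent.Lib.H4TensorPair Groth.Agent.Lib.H78TensorGen Groth.Agent.Lib.H90Invertible
open Groth.Agent.Lib.StructureModule Groth.Agent.Lib.H60LineBundle
open AlgebraicGeometry.Scheme.Modules

variable {X : Scheme.{u}} (L : X.Modules) (A : RelSpec.QCAlg X) (j : L ⟶ A.toModule)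

/-- a section of `A.toModule` as an element of the ring `A(U)` -/
def el {M : X.Modules} (φ : M ⟶ A.toModule) (U : X.Opens) (a : Γ(M, U)) : A.presheaf.obj (op U) :=
  (show A.presheaf.obj (op U) from φ.app U a)

/-- an element of the ring `A(U)` as a section of `A.toModule` -/
def sec (U : X.Opens) (a : A.presheaf.obj (op U)) : Γ(A.toModule, U) := a

theorem el_add {M : X.Modules} (φ : M ⟶ A.toModule) (U : X.Opens) (a b : Γ(M, U)) :
    el A φ U (a + b) = el A φ U a + el A φ U b := map_add (φ.app U).hom a b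

theorem el_smul {M : X.Modules} (φ : M ⟶ A.toModule) (U : X.Opens) (r : Γ(X, U)) (a : Γ(M, U)) :
    el A φ U (r • a) = (A.str.app (op U)).hom r * el A φ U a := by
  change (show A.presheaf.obj (op U) from φ.app U (r • a)) = _
  rw [Hom.app_smul]
  rfl

theorem el_res {M : X.Modules} (φ : M ⟶ A.toModule) {U V : X.Opens} (h : V ≤ U) (a : Γ(M, U)) :
    (A.presheaf.map (homOfLE h).op).hom (el A φ U a) = el A φ V (M.presheaf.map (homOfLE h).op a) :=
  (NatTrans.naturality_apply φ.mapPresheaf (homOfLE h).op a).symm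

theorem sec_smul (U : X.Opens) (r : Γ(X, U)) (a : A.presheaf.obj (op U)) :
    r • sec A U a = sec A U ((A.str.app (op U)).hom r * a) := rfl

/-- the pairing `(a, ℓ) ↦ φ(a) · j(ℓ)` -/
def mulPairing {M : X.Modules} (φ : M ⟶ A.toModule) : Pairing M L A.toModule where
  toFun U a b := sec A U (el A φ U a * el A j U b)
  add_left U a a' b := by
    rw [el_add, add_mul]; rfl
  add_right U a b b' := by
    rw [el_add, mul_add]; rfl
  smul_left U r a b := by
    rw [el_smul, sec_smul, mul_assoc]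
  smul_right U r a b := by
    rw [el_smul, sec_smul, mul_left_comm]
  map {U V} h a b := by
    change (A.presheaf.map (homOfLE h).op).hom (el A φ U a * el A j U b) = _
    rw [map_mul, el_res, el_res]
    rfl

/-- the unit section `1 ∈ A(⊤)` -/
def oneSec : Γ(A.toModule, ⊤) := sec A ⊤ 1

/-- the canonical maps `L^{⊗n} ⟶ A`, `ℓ₁ ⊗ ⋯ ⊗ ℓₙ ↦ j(ℓ₁) ⋯ j(ℓₙ)` -/
def θ : ∀ n : ℕ, CohB1.tensorPow L n ⟶ A.toModule
  | 0 => ofSection (oneSec A)
  | n + 1 => (mulPairing L A j (θ n)).hom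

theorem θ_zero : θ L A j 0 = ofSection (oneSec A) := rfl

theorem θ_succ (n : ℕ) : θ L A j (n + 1) = (mulPairing L A j (θ L A j n)).hom := rfl

theorem el_θ_succ_tmul (n : ℕ) (V : X.Opens) (a : Γ(CohB1.tensorPow L n, V)) (b : Γ(L, V)) :
    el A (θ L A j (n + 1)) V (tmul a b) = el A (θ L A j n) V a * el A j V b := by
  exact Pairing.hom_tmul (mulPairing L A j (θ L A j n)) V a b

theorem el_θ_zero (V : X.Opens) (a : Γ(X, V)) :
    el A (θ L A j 0) V (toSec V a) = (A.str.app (op V)).hom a := by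
  have h := ofSection_app (oneSec A) V a
  have h2 : (A.str.app (op V)).hom a * (A.presheaf.map (homOfLE (le_top : V ≤ ⊤)).op).hom 1 =
      (A.str.app (op V)).hom a := by rw [map_one, mul_one]
  exact h.trans h2

theorem el_θ_epow (n : ℕ) (V : X.Opens) (ℓ : Γ(L, V)) :
    el A (θ L A j n) V (epow ℓ n) = el A j V ℓ ^ n := by
  induction n with
  | zero =>
    rw [epow_zero, el_θ_zero, map_one, pow_zero]
  | succ n ih =>
    rw [epow_succ, el_θ_succ_tmul, ih, pow_succ]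


end Part2

section Part3


open Groth.Agent.Lib.H4TensorPair Groth.Agent.Lib.H78TensorGen Groth.Agent.Lib.H90Invertible
open Groth.Agent.Lib.StructureModule Groth.Agent.Lib.H60LineBundle Groth.Agent.Lib.H60LineAlg
open AlgebraicGeometry.Scheme.Modules

variable {X : Scheme.{u}} (L : X.Modules) (hL : PicF.IsInvertible L)
  (𝒮L : RelProj.QCGrAlg X) (j : L ⟶ 𝒮L.toModule)
  (hj1 : ∀ (V : X.Opens) (hV : IsAffineOpen V) (s : Γ(L, V)),
    jel L 𝒮L j V s ∈ 𝒮L.deg V hV 1)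
  (hpoly : ∀ (V : X.Opens) (_ : IsAffineOpen V) (s : Γ(L, V)), IsGen L V s →
    Function.Bijective (Polynomial.eval₂RingHom (𝒮L.str.app (op V)).hom (jel L 𝒮L j V s)))

theorem el_j (V : X.Opens) (s : Γ(L, V)) : el 𝒮L.toQCAlg j V s = jel L 𝒮L j V s := rfl

include hL in
/-- small affine opens with a generator of `L` -/
theorem exists_affine_gen (W : X.Opens) (x : X) (hx : x ∈ W) :
    ∃ (V : X.Opens) (_ : IsAffineOpen V) (_ : V ≤ W) (ℓ : Γ(L, V)), x ∈ V ∧ IsGen L V ℓ := by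
  obtain ⟨V₁, hx₁, s₁, hs₁⟩ := (isInvertible_iff_exists_isGen L).mp hL x
  obtain ⟨_, ⟨V, hV : IsAffineOpen V, rfl⟩, hxV, hVle⟩ :=
    (X.isBasis_affineOpens).exists_subset_of_mem_open (show x ∈ ((W ⊓ V₁ : X.Opens) : Set X) from ⟨hx, hx₁⟩)
      (W ⊓ V₁).isOpen
  have h1 : V ≤ W := fun y hy => (hVle hy).1
  have h2 : V ≤ V₁ := fun y hy => (hVle hy).2
  exact ⟨V, hV, h1, _, hxV, hs₁.mono h2⟩

theorem el_θ_res (n : ℕ) {U V : X.Opens} (h : V ≤ U) (a : Γ(CohB1.tensorPow L n, U)) :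
    (𝒮L.presheaf.map (homOfLE h).op).hom (el 𝒮L.toQCAlg (θ L 𝒮L.toQCAlg j n) U a) =
      el 𝒮L.toQCAlg (θ L 𝒮L.toQCAlg j n) V (rs _ h a) :=
  el_res 𝒮L.toQCAlg _ h a

/-- value of `θ` on a multiple of the generator -/
theorem el_θ_smul_epow (n : ℕ) (V : X.Opens) (ℓ : Γ(L, V)) (a : Γ(X, V)) :
    el 𝒮L.toQCAlg (θ L 𝒮L.toQCAlg j n) V (a • epow ℓ n) =
      (𝒮L.str.app (op V)).hom a * jel L 𝒮L j V ℓ ^ n := by
  rw [el_smul, el_θ_epow, el_j]

include hpoly in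
theorem θ_injective_of_gen (n : ℕ) (V : X.Opens) (hV : IsAffineOpen V) (ℓ : Γ(L, V)) (hℓ : IsGen L V ℓ)
    (s : Γ(CohB1.tensorPow L n, V)) (hs : el 𝒮L.toQCAlg (θ L 𝒮L.toQCAlg j n) V s = 0) : s = 0 := by
  have hg := isGen_epow hℓ n V le_rfl
  obtain ⟨a, ha⟩ := hg.2 s
  simp only at ha
  have hres : (CohB1.tensorPow L n).presheaf.map (homOfLE (le_refl V)).op (epow ℓ n) = epow ℓ n :=
    rs_self _ _
  rw [hres] at ha
  rw [← ha] at hs ⊢
  rw [el_θ_smul_epow] at hs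
  have hb := hpoly V hV ℓ hℓ
  have h1 : Polynomial.eval₂RingHom (𝒮L.str.app (op V)).hom (jel L 𝒮L j V ℓ)
      (Polynomial.C a * Polynomial.X ^ n) = 0 := by
    simpa using hs
  have h2 := hb.1 (h1.trans (map_zero _).symm)
  have h3 := congrArg (fun P => Polynomial.coeff P n) h2
  simp at h3
  rw [h3, zero_smul]

include hL hpoly in
theorem θ_injective (n : ℕ) (W : X.Opens) (s : Γ(CohB1.tensorPow L n, W))
    (hs : el 𝒮L.toQCAlg (θ L 𝒮L.toQCAlg j n) W s = 0) : s = 0 := by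
  refine sec_ext _ s 0 (fun x hx => ?_)
  obtain ⟨V, hV, hVW, ℓ, hxV, hℓ⟩ := exists_affine_gen L hL W x hx
  refine ⟨V, hVW, hxV, ?_⟩
  have h0 : rs (CohB1.tensorPow L n) hVW (0 : Γ(CohB1.tensorPow L n, W)) = 0 := map_zero _
  rw [h0]
  apply θ_injective_of_gen L 𝒮L j hpoly n V hV ℓ hℓ
  rw [← el_θ_res, hs, map_zero]


end Part3

section Part4


open Groth.Agent.Lib.H4TensorPair Groth.Agent.Lib.H78TensorGen Groth.Agent.Lib.H90Invertible
open Groth.Agent.Lib.StructureModule Groth.Agent.Lib.H60LineBundle Groth.Agent.Lib.H60LineAlg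
open AlgebraicGeometry.Scheme.Modules

variable {X : Scheme.{u}} (L : X.Modules) (hL : PicF.IsInvertible L)
  (𝒮L : RelProj.QCGrAlg X) (j : L ⟶ 𝒮L.toModule)
  (hj1 : ∀ (V : X.Opens) (hV : IsAffineOpen V) (s : Γ(L, V)),
    jel L 𝒮L j V s ∈ 𝒮L.deg V hV 1)
  (hpoly : ∀ (V : X.Opens) (_ : IsAffineOpen V) (s : Γ(L, V)), IsGen L V s →
    Function.Bijective (Polynomial.eval₂RingHom (𝒮L.str.app (op V)).hom (jel L 𝒮L j V s)))

/-- separatedness of the sheaf of rings `𝒮L` -/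
theorem ring_sec_ext {V : X.Opens} (s t : 𝒮L.presheaf.obj (op V))
    (h : ∀ x ∈ V, ∃ (W : X.Opens) (hW : W ≤ V), x ∈ W ∧
      (𝒮L.presheaf.map (homOfLE hW).op).hom s = (𝒮L.presheaf.map (homOfLE hW).op).hom t) : s = t :=
  sec_ext 𝒮L.toModule (sec 𝒮L.toQCAlg V s) (sec 𝒮L.toQCAlg V t) h

/-- a section over an affine open which is locally homogeneous of degree `n` is homogeneous of degree `n` -/
theorem mem_deg_of_locally (n : ℕ) (V : X.Opens) (hV : IsAffineOpen V) (x : 𝒮L.presheaf.obj (op V))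
    (h : ∀ y ∈ V, ∃ (V' : X.Opens) (hV' : IsAffineOpen V') (hle : V' ≤ V), y ∈ V' ∧
      (𝒮L.presheaf.map (homOfLE hle).op).hom x ∈ 𝒮L.deg V' hV' n) : x ∈ 𝒮L.deg V hV n := by
  classical
  have key : ∀ d : ℕ, d ≠ n → ((DirectSum.decompose (𝒮L.deg V hV) x d : 𝒮L.deg V hV d) :
      𝒮L.presheaf.obj (op V)) = 0 := by
    intro d hd
    refine ring_sec_ext 𝒮L _ _ (fun y hy => ?_)
    obtain ⟨V', hV', hle, hyV', hx'⟩ := h y hy
    refine ⟨V', hle, hyV', ?_⟩
    rw [map_zero]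
    have h1 := GradedRingHom.map_directSumDecompose (𝒮L.deg V hV) (𝒮L.deg V' hV') (𝒮L.res hV hV' hle)
      (x := x) (i := d)
    change (𝒮L.res hV hV' hle) _ = 0
    rw [h1, RelProj.QCGrAlg.res_apply]
    exact DirectSum.decompose_of_mem_ne (𝒮L.deg V' hV') hx' (Ne.symm hd)
  have hsum := DirectSum.sum_support_decompose (𝒮L.deg V hV) x
  rw [← hsum]
  refine AddSubgroup.sum_mem _ (fun d _ => ?_)
  by_cases hd : d = n
  · subst hd; exact SetLike.coe_mem _
  · rw [key d hd]; exact zero_mem _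

include hL hj1 in
theorem el_θ_mem_deg (n : ℕ) (V : X.Opens) (hV : IsAffineOpen V) (s : Γ(CohB1.tensorPow L n, V)) :
    el 𝒮L.toQCAlg (θ L 𝒮L.toQCAlg j n) V s ∈ 𝒮L.deg V hV n := by
  refine mem_deg_of_locally 𝒮L n V hV _ (fun y hy => ?_)
  obtain ⟨V', hV', hle, ℓ, hyV', hℓ⟩ := exists_affine_gen L hL V y hy
  refine ⟨V', hV', hle, hyV', ?_⟩
  rw [el_θ_res]
  obtain ⟨a, ha⟩ := (isGen_epow hℓ n V' le_rfl).2 (rs _ hle s)
  simp only at ha
  have hres : (CohB1.tensorPow L n).presheaf.map (homOfLE (le_refl V')).op (epow ℓ n) = epow ℓ n :=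
    rs_self _ _
  rw [hres] at ha
  rw [← ha, el_θ_smul_epow]
  exact mul_pow_mem (𝒮L.deg V' hV') _ (fun r => 𝒮L.str_mem V' hV' r) _ (hj1 V' hV' ℓ) a n

include hL hj1 hpoly in
/-- **Sections of `L^{⊗n}` are the locally homogeneous sections of degree `n` of `Sym(L)`.** -/
theorem exists_θ_eq (n : ℕ) (W : X.Opens) (t : 𝒮L.presheaf.obj (op W))
    (ht : ∀ (V : X.Opens) (hV : IsAffineOpen V) (hle : V ≤ W),
      (𝒮L.presheaf.map (homOfLE hle).op).hom t ∈ 𝒮L.deg V hV n) :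
    ∃ s : Γ(CohB1.tensorPow L n, W), el 𝒮L.toQCAlg (θ L 𝒮L.toQCAlg j n) W s = t := by
  classical
  -- local solutions
  have hloc : ∀ x : W, ∃ (V : X.Opens) (hle : V ≤ W) (s : Γ(CohB1.tensorPow L n, V)), x.1 ∈ V ∧
      el 𝒮L.toQCAlg (θ L 𝒮L.toQCAlg j n) V s = (𝒮L.presheaf.map (homOfLE hle).op).hom t := by
    intro x
    obtain ⟨V, hV, hle, ℓ, hxV, hℓ⟩ := exists_affine_gen L hL W x.1 x.2
    obtain ⟨a, ha⟩ := (mem_deg_iff (𝒮L.deg V hV) _ (fun r => 𝒮L.str_mem V hV r) _ (hj1 V hV ℓ)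
      (hpoly V hV ℓ hℓ) n _).mp (ht V hV hle)
    exact ⟨V, hle, a • epow ℓ n, hxV, by rw [el_θ_smul_epow, ha]⟩
  choose V hle s hxV hs using hloc
  obtain ⟨σ, hσ⟩ := sec_glue (CohB1.tensorPow L n) V hle
    (fun x hx => Opens.mem_iSup.mpr ⟨⟨x, hx⟩, hxV ⟨x, hx⟩⟩) s (by
      intro x y
      have hsub : ∀ a b : Γ(CohB1.tensorPow L n, V x ⊓ V y),
          el 𝒮L.toQCAlg (θ L 𝒮L.toQCAlg j n) _ a = el 𝒮L.toQCAlg (θ L 𝒮L.toQCAlg j n) _ b → a = b := by
        intro a b hab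
        have := θ_injective L hL 𝒮L j hpoly n _ (a - b) (by
          rw [show el 𝒮L.toQCAlg (θ L 𝒮L.toQCAlg j n) _ (a - b) =
            el 𝒮L.toQCAlg (θ L 𝒮L.toQCAlg j n) _ a - el 𝒮L.toQCAlg (θ L 𝒮L.toQCAlg j n) _ b from
            map_sub ((θ L 𝒮L.toQCAlg j n).app _).hom a b, hab, sub_self])
        exact sub_eq_zero.mp this
      apply hsub
      rw [← el_θ_res, ← el_θ_res, hs, hs, ← CommRingCat.comp_apply, ← CommRingCat.comp_apply,
        ← Functor.map_comp, ← Functor.map_comp]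
      rfl)
  refine ⟨σ, ring_sec_ext 𝒮L _ _ (fun x hx => ⟨V ⟨x, hx⟩, hle ⟨x, hx⟩, hxV ⟨x, hx⟩, ?_⟩)⟩
  rw [el_θ_res, hσ, hs]


end Part4

section Part5


open Groth.Agent.Lib.H4TensorPair Groth.Agent.Lib.H78TensorGen Groth.Agent.Lib.H90Invertible
open Groth.Agent.Lib.StructureModule Groth.Agent.Lib.H60LineBundle Groth.Agent.Lib.H60LineAlg
open Groth.Agent.Lib.H78SecCoord Groth.Agent.Lib.H78GenOn
open AlgebraicGeometry.Scheme.Modules

variable {X : Scheme.{u}} (L : X.Modules) (hL : PicF.IsInvertible L)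
  (𝒮L : RelProj.QCGrAlg X) (j : L ⟶ 𝒮L.toModule)
  (hj1 : ∀ (V : X.Opens) (hV : IsAffineOpen V) (s : Γ(L, V)),
    jel L 𝒮L j V s ∈ 𝒮L.deg V hV 1)
  (hpoly : ∀ (V : X.Opens) (_ : IsAffineOpen V) (s : Γ(L, V)), IsGen L V s →
    Function.Bijective (Polynomial.eval₂RingHom (𝒮L.str.app (op V)).hom (jel L 𝒮L j V s)))

/-- the open where the section `t` of `𝒮L` over `W` "generates degree `n`": union of the affine opens `V ≤ W` with
`𝒮L(V)_n ⊆ (t|V)` -/
def nz (n : ℕ) (W : X.Opens) (t : 𝒮L.presheaf.obj (op W)) : X.Opens :=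
  ⨆ V : {V : X.affineOpens // ∃ hle : V.1 ≤ W,
    ((𝒮L.deg V.1 V.2 n : AddSubgroup (𝒮L.presheaf.obj (op (V.1 : X.Opens)))) :
        Set (𝒮L.presheaf.obj (op (V.1 : X.Opens)))) ⊆
      (Ideal.span {(𝒮L.presheaf.map (homOfLE hle).op).hom t} :
        Set (𝒮L.presheaf.obj (op (V.1 : X.Opens))))},
    (V.1.1 : X.Opens)

theorem mem_nz_iff (n : ℕ) (W : X.Opens) (t : 𝒮L.presheaf.obj (op W)) (x : X) :
    x ∈ nz 𝒮L n W t ↔ ∃ (V : X.Opens) (hV : IsAffineOpen V) (hle : V ≤ W), x ∈ V ∧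
      ((𝒮L.deg V hV n : AddSubgroup (𝒮L.presheaf.obj (op V))) : Set (𝒮L.presheaf.obj (op V))) ⊆
        (Ideal.span {(𝒮L.presheaf.map (homOfLE hle).op).hom t} : Set (𝒮L.presheaf.obj (op V))) := by
  constructor
  · intro h
    obtain ⟨⟨⟨V, hV⟩, hle, hsub⟩, hx⟩ := Opens.mem_iSup.mp h
    exact ⟨V, hV, hle, hx, hsub⟩
  · rintro ⟨V, hV, hle, hx, hsub⟩
    exact Opens.mem_iSup.mpr ⟨⟨⟨V, hV⟩, hle, hsub⟩, hx⟩

/-- the degree-`n` condition passes to basic opens -/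
theorem deg_subset_span_basicOpen (n : ℕ) (V : X.Opens) (hV : IsAffineOpen V) (t : 𝒮L.presheaf.obj (op V))
    (hsub : ((𝒮L.deg V hV n : AddSubgroup (𝒮L.presheaf.obj (op V))) : Set (𝒮L.presheaf.obj (op V))) ⊆
        (Ideal.span {t} : Set (𝒮L.presheaf.obj (op V)))) (b : Γ(X, V)) :
    ((𝒮L.deg (X.basicOpen b) (hV.basicOpen b) n : AddSubgroup (𝒮L.presheaf.obj (op (X.basicOpen b)))) :
        Set (𝒮L.presheaf.obj (op (X.basicOpen b)))) ⊆
      (Ideal.span {(𝒮L.presheaf.map (homOfLE (X.basicOpen_le b)).op).hom t} :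
        Set (𝒮L.presheaf.obj (op (X.basicOpen b)))) := by
  classical
  intro z hz
  let ψ := 𝒮L.res hV (hV.basicOpen b) (X.basicOpen_le b)
  let _inst := (𝒮L.presheaf.map (homOfLE (X.basicOpen_le b)).op).hom.toAlgebra
  let c := (𝒮L.str.app (op V)).hom b
  have hloc : IsLocalization.Away c (𝒮L.presheaf.obj (op (X.basicOpen b))) := 𝒮L.isQC V hV b
  obtain ⟨⟨x, s, hs⟩, hxs⟩ := IsLocalization.surj (Submonoid.powers c) z
  obtain ⟨k, rfl⟩ := (Submonoid.mem_powers_iff _ _).mp hs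
  change z * ψ (c ^ k) = ψ x at hxs
  have hu : IsUnit (ψ (c ^ k)) :=
    IsLocalization.map_units (M := Submonoid.powers c) (𝒮L.presheaf.obj (op (X.basicOpen b))) ⟨c ^ k, k, rfl⟩
  have hck : c ^ k ∈ 𝒮L.deg V hV 0 := by
    have := SetLike.pow_mem_graded k (𝒮L.str_mem V hV b)
    simpa using this
  have hzc : z * ψ (c ^ k) ∈ 𝒮L.deg (X.basicOpen b) (hV.basicOpen b) n := by
    have h0 : ψ (c ^ k) ∈ 𝒮L.deg (X.basicOpen b) (hV.basicOpen b) 0 := ψ.2 hck
    simpa only [add_zero] using SetLike.mul_mem_graded hz h0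
  have hxn : ψ (DirectSum.decompose (𝒮L.deg V hV) x n : 𝒮L.presheaf.obj (op V)) = z * ψ (c ^ k) := by
    rw [GradedRingHom.map_directSumDecompose, ← hxs, DirectSum.decompose_of_mem_same _ hzc]
  have hmem := hsub (SetLike.coe_mem (DirectSum.decompose (𝒮L.deg V hV) x n))
  obtain ⟨d, hd⟩ := Ideal.mem_span_singleton'.mp hmem
  obtain ⟨v, hv⟩ := hu
  have hz' : z = ψ d * ψ t * ↑v⁻¹ := by
    rw [← map_mul, hd, hxn, ← hv, mul_assoc, Units.mul_inv, mul_one]
  rw [hz']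
  change _ ∈ Ideal.span {ψ t}
  rw [mul_assoc, mul_comm (ψ t), ← mul_assoc]
  exact Ideal.mul_mem_left _ _ (Ideal.mem_span_singleton_self _)


end Part5

section Part6


open Groth.Agent.Lib.H4TensorPair Groth.Agent.Lib.H78TensorGen Groth.Agent.Lib.H90Invertible
open Groth.Agent.Lib.StructureModule Groth.Agent.Lib.H60LineBundle Groth.Agent.Lib.H60LineAlg
open Groth.Agent.Lib.H78SecCoord Groth.Agent.Lib.H78GenOn
open AlgebraicGeometry.Scheme.Modules

variable {X : Scheme.{u}} (L : X.Modules) (hL : PicF.IsInvertible L)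
  (𝒮L : RelProj.QCGrAlg X) (j : L ⟶ 𝒮L.toModule)
  (hj1 : ∀ (V : X.Opens) (hV : IsAffineOpen V) (s : Γ(L, V)),
    jel L 𝒮L j V s ∈ 𝒮L.deg V hV 1)
  (hpoly : ∀ (V : X.Opens) (_ : IsAffineOpen V) (s : Γ(L, V)), IsGen L V s →
    Function.Bijective (Polynomial.eval₂RingHom (𝒮L.str.app (op V)).hom (jel L 𝒮L j V s)))

include hj1 hpoly in
/-- on an affine open with a generator `ℓ` of `L`: `τ` generates `L^{⊗n}` iff `𝒮L_n ⊆ (θ τ)` -/
theorem isGen_iff_deg_subset (n : ℕ) (V : X.Opens) (hV : IsAffineOpen V) (ℓ : Γ(L, V)) (hℓ : IsGen L V ℓ)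
    (τ : Γ(CohB1.tensorPow L n, V)) :
    IsGen (CohB1.tensorPow L n) V τ ↔
      ((𝒮L.deg V hV n : AddSubgroup (𝒮L.presheaf.obj (op V))) : Set (𝒮L.presheaf.obj (op V))) ⊆
        (Ideal.span {el 𝒮L.toQCAlg (θ L 𝒮L.toQCAlg j n) V τ} : Set (𝒮L.presheaf.obj (op V))) := by
  have hg := isGen_epow hℓ n
  obtain ⟨a, ha⟩ := (hg V le_rfl).2 τ
  simp only at ha
  have hres : (CohB1.tensorPow L n).presheaf.map (homOfLE (le_refl V)).op (epow ℓ n) = epow ℓ n :=
    rs_self _ _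
  rw [hres] at ha
  rw [← ha, isGen_smul_iff hg, el_θ_smul_epow]
  exact (deg_subset_span_iff (𝒮L.deg V hV) _ (fun r => 𝒮L.str_mem V hV r) _ (hj1 V hV ℓ)
    (hpoly V hV ℓ hℓ) n a).symm

include hL hj1 hpoly in
/-- **The generating locus of a section of `L^{⊗n}` in terms of `Sym(L)`.** -/
theorem genOn_eq_nz (n : ℕ) (W : X.Opens) (τ : Γ(CohB1.tensorPow L n, W)) :
    genOn (CohB1.tensorPow L n) W τ = nz 𝒮L n W (el 𝒮L.toQCAlg (θ L 𝒮L.toQCAlg j n) W τ) := by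
  ext x
  change x ∈ genOn (CohB1.tensorPow L n) W τ ↔ x ∈ nz 𝒮L n W _
  rw [mem_genOn_iff, mem_nz_iff]
  constructor
  · rintro ⟨W', hxW', hle', hgen⟩
    obtain ⟨V, hV, hVW', ℓ, hxV, hℓ⟩ := exists_affine_gen L hL W' x hxW'
    refine ⟨V, hV, hVW'.trans hle', hxV, ?_⟩
    have h1 : IsGen (CohB1.tensorPow L n) V (rs _ (hVW'.trans hle') τ) := by
      have := hgen.mono hVW'
      rwa [map_eq_rs, rs_rs] at this
    rw [el_θ_res]
    exact (isGen_iff_deg_subset L 𝒮L j hj1 hpoly n V hV ℓ hℓ _).mp h1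
  · rintro ⟨V, hV, hle, hxV, hsub⟩
    obtain ⟨V₁, hx₁, s₁, hs₁⟩ := (isInvertible_iff_exists_isGen L).mp hL x
    obtain ⟨b, hbV₁, hxb⟩ := hV.exists_basicOpen_le (V := V₁) ⟨x, hx₁⟩ hxV
    have hxb' : x ∈ X.basicOpen b := hxb
    have hV₂ : IsAffineOpen (X.basicOpen b) := hV.basicOpen b
    have hs₂ := hs₁.mono hbV₁
    have hle₂ : X.basicOpen b ≤ W := (X.basicOpen_le b).trans hle
    refine ⟨X.basicOpen b, hxb', hle₂, ?_⟩
    rw [isGen_iff_deg_subset L 𝒮L j hj1 hpoly n _ hV₂ _ hs₂]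
    have h2 := deg_subset_span_basicOpen 𝒮L n V hV _ hsub b
    rw [← CommRingCat.comp_apply, ← Functor.map_comp] at h2
    rw [← el_θ_res]
    exact h2


end Part6

end Groth.Agent.Lib.SymLinePow
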