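import Groth.Agent.Lib.LineAmpleFam

/-!
# The qcqs lemma (EGA I 9.3.1) for the symmetric algebra of an invertible module (helper28)

`(𝒮L, j)` the graded symmetric algebra `⊕ L^{⊗n}` of an invertible `L` on `X` (hypotheses `hj1`, `hpoly` as in helper60's
`H60Line*`/`Lib/SymLinePow`), `X' ⊆ X` a quasi-compact open, `σ ∈ 𝒮L(X')` locally homogeneous of degree `n`, `X_σ = nz 𝒮L n X' σ`.
* `nz_coord`: `X_{a ℓ^n} = D(a)` over an affine open with generator `ℓ`; `exists_chart` (adapted charts);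
* `exists_pow_mul_eq_zero`, `exists_res_eq_pow_mul`: quasi-coherence of `𝒮L` over affine opens in localization form;
* `van`: `z ∈ 𝒮L(X')` with `z|X_σ = 0` ⇒ `σ^k z = 0`;
* `ext` (`X'` also quasi-separated): for `t ∈ O(X_σ)`, some `t σ^m` (`m > 0`) extends to `X'`, locally homogeneous of degree `m n`;
* `ring_sec_glue` (gluing sections of `𝒮L`), `isNilpotent_of_nz_eq_bot` (`X_σ = ∅` ⇒ `σ` nilpotent);
* `mem_deg_of_u`: `u : 𝒮 → q_*𝒮L` injective over affine `W`, `u s` locally homogeneous of degree `d` ⇒ `s ∈ 𝒮(W)_d`.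
-/

set_option autoImplicit false
universe u
open CategoryTheory CategoryTheory.Limits AlgebraicGeometry TopologicalSpace Opposite

noncomputable section

namespace Groth.Agent.Lib.SymLineQcqs

section Part1

open Groth.Agent.Lib.H4TensorPair Groth.Agent.Lib.H78TensorGen Groth.Agent.Lib.H90Invertible
open Groth.Agent.Lib.StructureModule Groth.Agent.Lib.H60LineBundle Groth.Agent.Lib.H60LineAlg
open Groth.Agent.Lib.H78SecCoord Groth.Agent.Lib.H78GenOn Groth.Agent.Lib.SymLinePow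
open Groth.Agent.Lib.H60AwayDegOne Groth.Agent.Lib.LineAmpleFam
open AlgebraicGeometry.Scheme.Modules

variable {X : Scheme.{u}} (L : X.Modules) (hL : PicF.IsInvertible L)
  (𝒮L : RelProj.QCGrAlg X) (j : L ⟶ 𝒮L.toModule)
  (hj1 : ∀ (V : X.Opens) (hV : IsAffineOpen V) (s : Γ(L, V)),
    jel L 𝒮L j V s ∈ 𝒮L.deg V hV 1)
  (hpoly : ∀ (V : X.Opens) (_ : IsAffineOpen V) (s : Γ(L, V)), IsGen L V s →
    Function.Bijective (Polynomial.eval₂RingHom (𝒮L.str.app (op V)).hom (jel L 𝒮L j V s)))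

theorem res_self (V : X.Opens) (t : 𝒮L.presheaf.obj (op V)) :
    (𝒮L.presheaf.map (homOfLE (le_refl V)).op).hom t = t := by
  have : (homOfLE (le_refl V)).op = 𝟙 (op V) := rfl
  rw [this, 𝒮L.presheaf.map_id]
  rfl

include hL hj1 hpoly in
/-- `X_{a ℓ^n} = D(a)` for a generator `ℓ` of `L` over the affine open `V`. -/
theorem nz_coord (n : ℕ) (V : X.Opens) (hV : IsAffineOpen V) (ℓ : Γ(L, V)) (hℓ : IsGen L V ℓ) (a : Γ(X, V)) :
    nz 𝒮L n V ((𝒮L.str.app (op V)).hom a * jel L 𝒮L j V ℓ ^ n) = X.basicOpen a := by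
  rw [nz_str_mul L hL 𝒮L j hj1 hpoly]
  have h1 : nz 𝒮L n V (jel L 𝒮L j V ℓ ^ n) = V := by
    apply le_antisymm (nz_le 𝒮L n V _)
    intro x hx
    refine (mem_nz_iff 𝒮L n V _ x).mpr ⟨V, hV, le_rfl, hx, ?_⟩
    rw [res_self]
    have h := (deg_subset_span_iff (𝒮L.deg V hV) _ (fun r => 𝒮L.str_mem V hV r) _ (hj1 V hV ℓ)
      (hpoly V hV ℓ hℓ) n (1 : Γ(X, V))).mpr isUnit_one
    rwa [map_one, one_mul] at h
  rw [h1]
  exact inf_eq_right.mpr (X.basicOpen_le a)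

/-- vanishing on a basic open: quasi-coherence of `𝒮L` -/
theorem exists_pow_mul_eq_zero (V : X.Opens) (hV : IsAffineOpen V) (a : Γ(X, V)) (z : 𝒮L.presheaf.obj (op V))
    (hz : (𝒮L.presheaf.map (homOfLE (X.basicOpen_le a)).op).hom z = 0) :
    ∃ k : ℕ, (𝒮L.str.app (op V)).hom a ^ k * z = 0 := by
  let _inst := (𝒮L.presheaf.map (homOfLE (X.basicOpen_le a)).op).hom.toAlgebra
  let c := (𝒮L.str.app (op V)).hom a
  have hloc : IsLocalization.Away c (𝒮L.presheaf.obj (op (X.basicOpen a))) := 𝒮L.isQC V hV a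
  have h0 : algebraMap (𝒮L.presheaf.obj (op V)) (𝒮L.presheaf.obj (op (X.basicOpen a))) z = 0 := hz
  obtain ⟨⟨m, hm⟩, hmz⟩ := (IsLocalization.map_eq_zero_iff (Submonoid.powers c) _ z).mp h0
  obtain ⟨k, rfl⟩ := (Submonoid.mem_powers_iff _ _).mp hm
  exact ⟨k, hmz⟩

/-- extension from a basic open: quasi-coherence of `𝒮L` -/
theorem exists_res_eq_pow_mul (V : X.Opens) (hV : IsAffineOpen V) (a : Γ(X, V))
    (t : 𝒮L.presheaf.obj (op (X.basicOpen a))) :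
    ∃ (k : ℕ) (z : 𝒮L.presheaf.obj (op V)), (𝒮L.presheaf.map (homOfLE (X.basicOpen_le a)).op).hom z =
      t * (𝒮L.presheaf.map (homOfLE (X.basicOpen_le a)).op).hom ((𝒮L.str.app (op V)).hom a) ^ k := by
  let _inst := (𝒮L.presheaf.map (homOfLE (X.basicOpen_le a)).op).hom.toAlgebra
  let c := (𝒮L.str.app (op V)).hom a
  have hloc : IsLocalization.Away c (𝒮L.presheaf.obj (op (X.basicOpen a))) := 𝒮L.isQC V hV a
  obtain ⟨⟨x, s, hs⟩, hxs⟩ := IsLocalization.surj (Submonoid.powers c) t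
  obtain ⟨k, rfl⟩ := (Submonoid.mem_powers_iff _ _).mp hs
  refine ⟨k, x, ?_⟩
  rw [← map_pow]
  exact hxs.symm

end Part1

section Part2

open Groth.Agent.Lib.H4TensorPair Groth.Agent.Lib.H78TensorGen Groth.Agent.Lib.H90Invertible
open Groth.Agent.Lib.StructureModule Groth.Agent.Lib.H60LineBundle Groth.Agent.Lib.H60LineAlg
open Groth.Agent.Lib.H78SecCoord Groth.Agent.Lib.H78GenOn Groth.Agent.Lib.SymLinePow
open Groth.Agent.Lib.H60AwayDegOne Groth.Agent.Lib.LineAmpleFam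
open AlgebraicGeometry.Scheme.Modules

variable {X : Scheme.{u}} (L : X.Modules) (hL : PicF.IsInvertible L)
  (𝒮L : RelProj.QCGrAlg X) (j : L ⟶ 𝒮L.toModule)
  (hj1 : ∀ (V : X.Opens) (hV : IsAffineOpen V) (s : Γ(L, V)),
    jel L 𝒮L j V s ∈ 𝒮L.deg V hV 1)
  (hpoly : ∀ (V : X.Opens) (_ : IsAffineOpen V) (s : Γ(L, V)), IsGen L V s →
    Function.Bijective (Polynomial.eval₂RingHom (𝒮L.str.app (op V)).hom (jel L 𝒮L j V s)))

include hL hj1 hpoly in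
/-- local step of `van` -/
theorem van_local (n : ℕ) (V : X.Opens) (hV : IsAffineOpen V) (ℓ : Γ(L, V)) (hℓ : IsGen L V ℓ)
    (σ z : 𝒮L.presheaf.obj (op V)) (hσ : σ ∈ 𝒮L.deg V hV n)
    (hz : (𝒮L.presheaf.map (homOfLE (nz_le 𝒮L n V σ)).op).hom z = 0) :
    ∃ k : ℕ, σ ^ k * z = 0 := by
  obtain ⟨a, rfl⟩ := (mem_deg_iff (𝒮L.deg V hV) _ (fun r => 𝒮L.str_mem V hV r) _ (hj1 V hV ℓ)
    (hpoly V hV ℓ hℓ) n σ).mp hσ
  have hD := nz_coord L hL 𝒮L j hj1 hpoly n V hV ℓ hℓ a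
  have hz' : (𝒮L.presheaf.map (homOfLE (X.basicOpen_le a)).op).hom z = 0 := by
    rw [← res_res 𝒮L (nz_le 𝒮L n V _) hD.ge z, hz, map_zero]
  obtain ⟨k, hk⟩ := exists_pow_mul_eq_zero 𝒮L V hV a z hz'
  refine ⟨k, ?_⟩
  rw [mul_pow, mul_right_comm, hk, zero_mul]

include hL hj1 hpoly in
/-- **Vanishing part of the qcqs lemma for `Sym(L)`** (EGA I 9.3.1 (i)): a section of `𝒮L` over a quasi-compact open `X'`
vanishing on `X_σ` (`σ` locally homogeneous of degree `n`) is killed by a power of `σ`. -/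
theorem van (n : ℕ) (X' : X.Opens) (hc : IsCompact (X' : Set X)) (σ z : 𝒮L.presheaf.obj (op X'))
    (hσ : ∀ (V : X.Opens) (hV : IsAffineOpen V) (hle : V ≤ X'),
      (𝒮L.presheaf.map (homOfLE hle).op).hom σ ∈ 𝒮L.deg V hV n)
    (hz : (𝒮L.presheaf.map (homOfLE (nz_le 𝒮L n X' σ)).op).hom z = 0) :
    ∃ k : ℕ, σ ^ k * z = 0 := by
  classical
  have hloc : ∀ x : X', ∃ (V : X.Opens) (hle : V ≤ X') (k : ℕ), x.1 ∈ V ∧
      (𝒮L.presheaf.map (homOfLE hle).op).hom σ ^ k * (𝒮L.presheaf.map (homOfLE hle).op).hom z = 0 := by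
    intro x
    obtain ⟨V, hV, hle, ℓ, hxV, hℓ⟩ := exists_affine_gen L hL X' x.1 x.2
    have hnz : nz 𝒮L n V ((𝒮L.presheaf.map (homOfLE hle).op).hom σ) = nz 𝒮L n X' σ ⊓ V := nz_res 𝒮L n hle σ
    have hle2 : nz 𝒮L n V ((𝒮L.presheaf.map (homOfLE hle).op).hom σ) ≤ nz 𝒮L n X' σ := by
      rw [hnz]; exact inf_le_left
    obtain ⟨k, hk⟩ := van_local L hL 𝒮L j hj1 hpoly n V hV ℓ hℓ _ ((𝒮L.presheaf.map (homOfLE hle).op).hom z)
      (hσ V hV hle) (by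
        rw [res_res, ← res_res 𝒮L (nz_le 𝒮L n X' σ) hle2 z, hz, map_zero])
    exact ⟨V, hle, k, hxV, hk⟩
  choose V hle k hxV hk using hloc
  obtain ⟨t, ht⟩ := hc.elim_finite_subcover (fun x : X' => ((V x : X.Opens) : Set X)) (fun x => (V x).2)
    (fun y hy => Set.mem_iUnion.mpr ⟨⟨y, hy⟩, hxV ⟨y, hy⟩⟩)
  refine ⟨t.sup k, ?_⟩
  refine ring_sec_ext 𝒮L _ _ (fun y hy => ?_)
  obtain ⟨x, hxt, hyx⟩ := Set.mem_iUnion₂.mp (ht hy)
  refine ⟨V x, hle x, hyx, ?_⟩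
  rw [map_zero, map_mul, map_pow]
  have hkx : k x ≤ t.sup k := Finset.le_sup hxt
  rw [← Nat.sub_add_cancel hkx, pow_add, mul_assoc, hk x, mul_zero]

end Part2

section Part3

open Groth.Agent.Lib.H4TensorPair Groth.Agent.Lib.H78TensorGen Groth.Agent.Lib.H90Invertible
open Groth.Agent.Lib.StructureModule Groth.Agent.Lib.H60LineBundle Groth.Agent.Lib.H60LineAlg
open Groth.Agent.Lib.H78SecCoord Groth.Agent.Lib.H78GenOn Groth.Agent.Lib.SymLinePow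
open Groth.Agent.Lib.H60AwayDegOne Groth.Agent.Lib.LineAmpleFam
open AlgebraicGeometry.Scheme.Modules

variable {X : Scheme.{u}} (L : X.Modules) (hL : PicF.IsInvertible L)
  (𝒮L : RelProj.QCGrAlg X) (j : L ⟶ 𝒮L.toModule)
  (hj1 : ∀ (V : X.Opens) (hV : IsAffineOpen V) (s : Γ(L, V)),
    jel L 𝒮L j V s ∈ 𝒮L.deg V hV 1)
  (hpoly : ∀ (V : X.Opens) (_ : IsAffineOpen V) (s : Γ(L, V)), IsGen L V s →
    Function.Bijective (Polynomial.eval₂RingHom (𝒮L.str.app (op V)).hom (jel L 𝒮L j V s)))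

theorem fres_res {U V W : X.Opens} (h : V ≤ U) (h' : W ≤ V) (t : Γ(X, U)) :
    (X.presheaf.map (homOfLE h').op).hom ((X.presheaf.map (homOfLE h).op).hom t) =
      (X.presheaf.map (homOfLE (h'.trans h)).op).hom t := by
  rw [← CommRingCat.comp_apply, ← Functor.map_comp]
  rfl

include hL hj1 hpoly in
/-- charts adapted to a locally homogeneous section -/
theorem exists_chart (n : ℕ) (X' : X.Opens) (σ : 𝒮L.presheaf.obj (op X'))
    (hσ : ∀ (V : X.Opens) (hV : IsAffineOpen V) (hle : V ≤ X'),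
      (𝒮L.presheaf.map (homOfLE hle).op).hom σ ∈ 𝒮L.deg V hV n) (x : X) (hx : x ∈ X') :
    ∃ (V : X.Opens) (_ : IsAffineOpen V) (hle : V ≤ X') (ℓ : Γ(L, V)) (a : Γ(X, V)), x ∈ V ∧ IsGen L V ℓ ∧
      (𝒮L.presheaf.map (homOfLE hle).op).hom σ = (𝒮L.str.app (op V)).hom a * jel L 𝒮L j V ℓ ^ n ∧
      X.basicOpen a = nz 𝒮L n X' σ ⊓ V := by
  obtain ⟨V, hV, hle, ℓ, hxV, hℓ⟩ := exists_affine_gen L hL X' x hx
  obtain ⟨a, ha⟩ := (mem_deg_iff (𝒮L.deg V hV) _ (fun r => 𝒮L.str_mem V hV r) _ (hj1 V hV ℓ)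
    (hpoly V hV ℓ hℓ) n _).mp (hσ V hV hle)
  refine ⟨V, hV, hle, ℓ, a, hxV, hℓ, ha, ?_⟩
  rw [← nz_res 𝒮L n hle σ, ha]
  exact (nz_coord L hL 𝒮L j hj1 hpoly n V hV ℓ hℓ a).symm

include hj1 in
/-- local step of `ext` -/
theorem ext_local (n : ℕ) (X' : X.Opens) (σ : 𝒮L.presheaf.obj (op X'))
    (V : X.Opens) (hV : IsAffineOpen V) (hle : V ≤ X') (ℓ : Γ(L, V)) (a : Γ(X, V))
    (ha : (𝒮L.presheaf.map (homOfLE hle).op).hom σ = (𝒮L.str.app (op V)).hom a * jel L 𝒮L j V ℓ ^ n)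
    (hD : X.basicOpen a ≤ nz 𝒮L n X' σ) (t : Γ(X, nz 𝒮L n X' σ)) :
    ∃ m₀ : ℕ, ∀ m, m₀ ≤ m → ∃ ρ : 𝒮L.presheaf.obj (op V), ρ ∈ 𝒮L.deg V hV (m * n) ∧
      (𝒮L.presheaf.map (homOfLE (X.basicOpen_le a)).op).hom ρ =
        (𝒮L.str.app (op (X.basicOpen a))).hom ((X.presheaf.map (homOfLE hD).op).hom t) *
          (𝒮L.presheaf.map (homOfLE ((X.basicOpen_le a).trans hle)).op).hom σ ^ m := by
  have hloc : IsLocalization.Away a Γ(X, X.basicOpen a) := hV.isLocalization_basicOpen a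
  obtain ⟨⟨b, s, hs⟩, hbs⟩ := IsLocalization.surj (Submonoid.powers a) ((X.presheaf.map (homOfLE hD).op).hom t)
  obtain ⟨m₀, rfl⟩ := (Submonoid.mem_powers_iff _ _).mp hs
  change (X.presheaf.map (homOfLE hD).op).hom t * (X.presheaf.map (homOfLE (X.basicOpen_le a)).op).hom (a ^ m₀) =
    (X.presheaf.map (homOfLE (X.basicOpen_le a)).op).hom b at hbs
  refine ⟨m₀, fun m hm => ?_⟩
  refine ⟨(𝒮L.str.app (op V)).hom (a ^ (m - m₀) * b) * jel L 𝒮L j V ℓ ^ (m * n),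
    mul_pow_mem (𝒮L.deg V hV) _ (fun r => 𝒮L.str_mem V hV r) _ (hj1 V hV ℓ) _ _, ?_⟩
  rw [← res_res 𝒮L hle (X.basicOpen_le a) σ, ha]
  have hcomm : ∀ c : Γ(X, V), (𝒮L.presheaf.map (homOfLE (X.basicOpen_le a)).op).hom ((𝒮L.str.app (op V)).hom c) =
      (𝒮L.str.app (op (X.basicOpen a))).hom ((X.presheaf.map (homOfLE (X.basicOpen_le a)).op).hom c) :=
    fun c => str_res 𝒮L V (X.basicOpen a) (X.basicOpen_le a) c
  generalize (𝒮L.presheaf.map (homOfLE (X.basicOpen_le a)).op).hom = R at hcomm ⊢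
  generalize (X.presheaf.map (homOfLE (X.basicOpen_le a)).op).hom = r at hcomm hbs
  generalize (𝒮L.str.app (op (X.basicOpen a))).hom = strD at hcomm ⊢
  generalize (X.presheaf.map (homOfLE hD).op).hom t = t' at hbs ⊢
  have e : m = (m - m₀) + m₀ := (Nat.sub_add_cancel hm).symm
  have h1 : R ((𝒮L.str.app (op V)).hom (a ^ (m - m₀) * b) * jel L 𝒮L j V ℓ ^ (m * n)) =
      strD (r a ^ (m - m₀) * (t' * r a ^ m₀)) * R (jel L 𝒮L j V ℓ) ^ (m * n) := by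
    rw [map_mul R, map_pow R, hcomm, map_mul r, map_pow r, ← hbs, map_pow r]
  have h2 : R ((𝒮L.str.app (op V)).hom a * jel L 𝒮L j V ℓ ^ n) = strD (r a) * R (jel L 𝒮L j V ℓ) ^ n := by
    rw [map_mul R, map_pow R, hcomm]
  rw [h1, h2, map_mul strD, map_mul strD, map_pow strD, map_pow strD, mul_pow, ← pow_mul, mul_comm n m]
  have e2 : strD (r a) ^ m = strD (r a) ^ (m - m₀) * strD (r a) ^ m₀ := by rw [← pow_add, ← e]
  rw [e2]
  ring

end Part3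

section Part4

open Groth.Agent.Lib.H4TensorPair Groth.Agent.Lib.H78TensorGen Groth.Agent.Lib.H90Invertible
open Groth.Agent.Lib.StructureModule Groth.Agent.Lib.H60LineBundle Groth.Agent.Lib.H60LineAlg
open Groth.Agent.Lib.H78SecCoord Groth.Agent.Lib.H78GenOn Groth.Agent.Lib.SymLinePow
open Groth.Agent.Lib.H60AwayDegOne Groth.Agent.Lib.LineAmpleFam
open AlgebraicGeometry.Scheme.Modules

variable {X : Scheme.{u}} (L : X.Modules) (hL : PicF.IsInvertible L)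
  (𝒮L : RelProj.QCGrAlg X) (j : L ⟶ 𝒮L.toModule)
  (hj1 : ∀ (V : X.Opens) (hV : IsAffineOpen V) (s : Γ(L, V)),
    jel L 𝒮L j V s ∈ 𝒮L.deg V hV 1)
  (hpoly : ∀ (V : X.Opens) (_ : IsAffineOpen V) (s : Γ(L, V)), IsGen L V s →
    Function.Bijective (Polynomial.eval₂RingHom (𝒮L.str.app (op V)).hom (jel L 𝒮L j V s)))

/-- gluing sections of the sheaf of rings `𝒮L` -/
theorem ring_sec_glue {V : X.Opens} {ι : Type*} (U : ι → X.Opens) (hU : ∀ i, U i ≤ V)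
    (hcover : V ≤ iSup U) (sf : ∀ i, 𝒮L.presheaf.obj (op (U i)))
    (compat : ∀ i k, (𝒮L.presheaf.map (homOfLE (inf_le_left : U i ⊓ U k ≤ U i)).op).hom (sf i) =
      (𝒮L.presheaf.map (homOfLE (inf_le_right : U i ⊓ U k ≤ U k)).op).hom (sf k)) :
    ∃ s : 𝒮L.presheaf.obj (op V), ∀ i, (𝒮L.presheaf.map (homOfLE (hU i)).op).hom s = sf i :=
  sec_glue 𝒮L.toModule U hU hcover (fun i => sec 𝒮L.toQCAlg (U i) (sf i)) compat

include hL hj1 hpoly in
/-- **Extension part of the qcqs lemma for `Sym(L)`** (EGA I 9.3.1 (ii)): for `X'` quasi-compact and quasi-separated,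
`σ ∈ 𝒮L(X')` locally homogeneous of degree `n` and a function `t` on `X_σ`, some `t σ^m` (`m > 0`) extends to a section of
`𝒮L` over `X'`, locally homogeneous of degree `m n`. -/
theorem ext (n : ℕ) (X' : X.Opens) (hc : IsCompact (X' : Set X))
    (hqs : ∀ (V₁ V₂ : X.Opens), IsAffineOpen V₁ → IsAffineOpen V₂ → V₁ ≤ X' → V₂ ≤ X' →
      IsCompact ((V₁ ⊓ V₂ : X.Opens) : Set X))
    (σ : 𝒮L.presheaf.obj (op X'))
    (hσ : ∀ (V : X.Opens) (hV : IsAffineOpen V) (hle : V ≤ X'),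
      (𝒮L.presheaf.map (homOfLE hle).op).hom σ ∈ 𝒮L.deg V hV n)
    (t : Γ(X, nz 𝒮L n X' σ)) :
    ∃ (m : ℕ) (ρ : 𝒮L.presheaf.obj (op X')), 0 < m ∧
      (∀ (V : X.Opens) (hV : IsAffineOpen V) (hle : V ≤ X'),
        (𝒮L.presheaf.map (homOfLE hle).op).hom ρ ∈ 𝒮L.deg V hV (m * n)) ∧
      (𝒮L.presheaf.map (homOfLE (nz_le 𝒮L n X' σ)).op).hom ρ =
        (𝒮L.str.app (op (nz 𝒮L n X' σ))).hom t *
          (𝒮L.presheaf.map (homOfLE (nz_le 𝒮L n X' σ)).op).hom σ ^ m := by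
  classical
  -- charts
  have hloc : ∀ x : X', ∃ (V : X.Opens) (_ : IsAffineOpen V) (hle : V ≤ X') (ℓ : Γ(L, V)) (a : Γ(X, V)),
      x.1 ∈ V ∧ IsGen L V ℓ ∧
      (𝒮L.presheaf.map (homOfLE hle).op).hom σ = (𝒮L.str.app (op V)).hom a * jel L 𝒮L j V ℓ ^ n ∧
      X.basicOpen a = nz 𝒮L n X' σ ⊓ V :=
    fun x => exists_chart L hL 𝒮L j hj1 hpoly n X' σ hσ x.1 x.2
  choose V hV hle ℓ a hxV hℓ ha hD using hloc
  obtain ⟨T, hT⟩ := hc.elim_finite_subcover (fun x : X' => ((V x : X.Opens) : Set X)) (fun x => (V x).2)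
    (fun y hy => Set.mem_iUnion.mpr ⟨⟨y, hy⟩, hxV ⟨y, hy⟩⟩)
  have hDle : ∀ x, X.basicOpen (a x) ≤ nz 𝒮L n X' σ := fun x => (hD x).le.trans inf_le_left
  -- local extensions with a uniform exponent
  have hext := fun x : X' => ext_local L 𝒮L j hj1 n X' σ (V x) (hV x) (hle x) (ℓ x) (a x) (ha x) (hDle x) t
  choose m₀ hm₀ using hext
  obtain ⟨M, hM⟩ : ∃ M : ℕ, M = T.sup m₀ + 1 := ⟨_, rfl⟩
  have hMle : ∀ x ∈ T, m₀ x ≤ M := fun x hx => (Finset.le_sup hx).trans (by omega)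
  have hloc2 : ∀ x : T, ∃ ρ : 𝒮L.presheaf.obj (op (V x.1)), ρ ∈ 𝒮L.deg (V x.1) (hV x.1) (M * n) ∧
      (𝒮L.presheaf.map (homOfLE (X.basicOpen_le (a x.1))).op).hom ρ =
        (𝒮L.str.app (op (X.basicOpen (a x.1)))).hom ((X.presheaf.map (homOfLE (hDle x.1)).op).hom t) *
          (𝒮L.presheaf.map (homOfLE ((X.basicOpen_le (a x.1)).trans (hle x.1))).op).hom σ ^ M :=
    fun x => hm₀ x.1 M (hMle x.1 x.2)
  choose ρ hρdeg hρres using hloc2
  -- the value of `ρ x` on any open inside `D(a x)`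
  have hρQ : ∀ (x : T) (Q : X.Opens) (hQ : Q ≤ X.basicOpen (a x.1)),
      (𝒮L.presheaf.map (homOfLE (hQ.trans (X.basicOpen_le (a x.1)))).op).hom (ρ x) =
        (𝒮L.str.app (op Q)).hom ((X.presheaf.map (homOfLE (hQ.trans (hDle x.1))).op).hom t) *
          (𝒮L.presheaf.map (homOfLE ((hQ.trans (X.basicOpen_le (a x.1))).trans (hle x.1))).op).hom σ ^ M := by
    intro x Q hQ
    rw [← res_res 𝒮L (X.basicOpen_le (a x.1)) hQ (ρ x), hρres x, map_mul, map_pow, res_res,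
      str_res 𝒮L _ Q hQ, fres_res]
  -- overlaps
  have hov : ∀ x y : T, ∃ k : ℕ,
      (𝒮L.presheaf.map (homOfLE ((inf_le_left : V x.1 ⊓ V y.1 ≤ V x.1).trans (hle x.1))).op).hom σ ^ k *
        ((𝒮L.presheaf.map (homOfLE (inf_le_left : V x.1 ⊓ V y.1 ≤ V x.1)).op).hom (ρ x) -
          (𝒮L.presheaf.map (homOfLE (inf_le_right : V x.1 ⊓ V y.1 ≤ V y.1)).op).hom (ρ y)) = 0 := by
    intro x y
    have hle' : V x.1 ⊓ V y.1 ≤ X' := inf_le_left.trans (hle x.1)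
    refine van L hL 𝒮L j hj1 hpoly n (V x.1 ⊓ V y.1) (hqs _ _ (hV x.1) (hV y.1) (hle x.1) (hle y.1)) _ _
      (fun W hW hWle => ?_) ?_
    · rw [res_res]
      exact hσ W hW _
    · have hnz : nz 𝒮L n (V x.1 ⊓ V y.1) ((𝒮L.presheaf.map (homOfLE hle').op).hom σ) =
          nz 𝒮L n X' σ ⊓ (V x.1 ⊓ V y.1) := nz_res 𝒮L n hle' σ
      have hQx : nz 𝒮L n (V x.1 ⊓ V y.1) ((𝒮L.presheaf.map (homOfLE hle').op).hom σ) ≤ X.basicOpen (a x.1) := by
        rw [hnz, hD x.1]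
        exact inf_le_inf le_rfl inf_le_left
      have hQy : nz 𝒮L n (V x.1 ⊓ V y.1) ((𝒮L.presheaf.map (homOfLE hle').op).hom σ) ≤ X.basicOpen (a y.1) := by
        rw [hnz, hD y.1]
        exact inf_le_inf le_rfl inf_le_right
      rw [map_sub, res_res, res_res]
      exact sub_eq_zero.mpr ((hρQ x _ hQx).trans (hρQ y _ hQy).symm)
  choose k hk using hov
  obtain ⟨K, hK⟩ : ∃ K : ℕ, K = Finset.univ.sup (fun x : T => Finset.univ.sup (k x)) := ⟨_, rfl⟩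
  have hKle : ∀ x y : T, k x y ≤ K := fun x y =>
    (Finset.le_sup (f := k x) (Finset.mem_univ y)).trans
      (hK ▸ Finset.le_sup (f := fun x : T => Finset.univ.sup (k x)) (Finset.mem_univ x))
  -- glue
  obtain ⟨ρ', hρ'⟩ := ring_sec_glue 𝒮L (fun x : T => V x.1) (fun x => hle x.1)
    (fun y hy => by
      obtain ⟨x, hxT, hyx⟩ := Set.mem_iUnion₂.mp (hT hy)
      exact Opens.mem_iSup.mpr ⟨⟨x, hxT⟩, hyx⟩)
    (fun x => (𝒮L.presheaf.map (homOfLE (hle x.1)).op).hom σ ^ K * ρ x)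
    (fun x y => by
      rw [map_mul, map_mul, map_pow, map_pow, res_res, res_res, ← sub_eq_zero, ← mul_sub,
        ← Nat.sub_add_cancel (hKle x y), pow_add, mul_assoc, hk x y, mul_zero])
  refine ⟨K + M, ρ', by omega, ?_, ?_⟩
  · intro W hW hWle
    refine mem_deg_of_locally 𝒮L _ W hW _ (fun y hy => ?_)
    obtain ⟨x, hxT, hyx⟩ := Set.mem_iUnion₂.mp (hT (hWle hy))
    obtain ⟨_, ⟨W', hW', rfl⟩, hyW', hW'le⟩ := (X.isBasis_affineOpens).exists_subset_of_mem_open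
      (show y ∈ ((W ⊓ V x : X.Opens) : Set X) from ⟨hy, hyx⟩) (W ⊓ V x).isOpen
    have h1 : W' ≤ W := fun z hz => (hW'le hz).1
    have h2 : W' ≤ V x := fun z hz => (hW'le hz).2
    refine ⟨W', hW', h1, hyW', ?_⟩
    rw [res_res, ← res_res 𝒮L (hle x) h2 ρ', hρ' ⟨x, hxT⟩]
    refine 𝒮L.map_mem (hV x) hW' h2 ?_
    have h3 : (𝒮L.presheaf.map (homOfLE (hle x)).op).hom σ ^ K ∈ 𝒮L.deg (V x) (hV x) (K • n) :=
      SetLike.pow_mem_graded K (hσ (V x) (hV x) (hle x))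
    have h4 := SetLike.mul_mem_graded h3 (hρdeg ⟨x, hxT⟩)
    rwa [smul_eq_mul, ← add_mul] at h4
  · refine ring_sec_ext 𝒮L _ _ (fun y hy => ?_)
    obtain ⟨x, hxT, hyx⟩ := Set.mem_iUnion₂.mp (hT (nz_le 𝒮L n X' σ hy))
    have hyD : y ∈ X.basicOpen (a x) := by rw [hD x]; exact ⟨hy, hyx⟩
    refine ⟨X.basicOpen (a x), hDle x, hyD, ?_⟩
    rw [res_res, ← res_res 𝒮L (hle x) (X.basicOpen_le (a x)) ρ', hρ' ⟨x, hxT⟩, map_mul, map_mul, map_pow, map_pow,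
      res_res, res_res, hρres ⟨x, hxT⟩, str_res 𝒮L _ _ (hDle x), pow_add]
    ring

end Part4

section Part5

open Groth.Agent.Lib.H4TensorPair Groth.Agent.Lib.H78TensorGen Groth.Agent.Lib.H90Invertible
open Groth.Agent.Lib.StructureModule Groth.Agent.Lib.H60LineBundle Groth.Agent.Lib.H60LineAlg
open Groth.Agent.Lib.H78SecCoord Groth.Agent.Lib.H78GenOn Groth.Agent.Lib.SymLinePow
open Groth.Agent.Lib.H60AwayDegOne Groth.Agent.Lib.LineAmpleFam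
open AlgebraicGeometry.Scheme.Modules

variable {X : Scheme.{u}} (L : X.Modules) (hL : PicF.IsInvertible L)
  (𝒮L : RelProj.QCGrAlg X) (j : L ⟶ 𝒮L.toModule)
  (hj1 : ∀ (V : X.Opens) (hV : IsAffineOpen V) (s : Γ(L, V)),
    jel L 𝒮L j V s ∈ 𝒮L.deg V hV 1)
  (hpoly : ∀ (V : X.Opens) (_ : IsAffineOpen V) (s : Γ(L, V)), IsGen L V s →
    Function.Bijective (Polynomial.eval₂RingHom (𝒮L.str.app (op V)).hom (jel L 𝒮L j V s)))

include hL hj1 hpoly in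
/-- a locally homogeneous section over a quasi-compact open with empty `X_σ` is nilpotent -/
theorem isNilpotent_of_nz_eq_bot (n : ℕ) (X' : X.Opens) (hc : IsCompact (X' : Set X))
    (σ : 𝒮L.presheaf.obj (op X'))
    (hσ : ∀ (V : X.Opens) (hV : IsAffineOpen V) (hle : V ≤ X'),
      (𝒮L.presheaf.map (homOfLE hle).op).hom σ ∈ 𝒮L.deg V hV n)
    (hnz : nz 𝒮L n X' σ = ⊥) : IsNilpotent σ := by
  classical
  have hloc : ∀ x : X', ∃ (V : X.Opens) (hle : V ≤ X') (k : ℕ), x.1 ∈ V ∧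
      (𝒮L.presheaf.map (homOfLE hle).op).hom σ ^ k = 0 := by
    intro x
    obtain ⟨V, hV, hle, ℓ, a, hxV, hℓ, ha, hD⟩ := exists_chart L hL 𝒮L j hj1 hpoly n X' σ hσ x.1 x.2
    rw [hnz, bot_inf_eq] at hD
    obtain ⟨k, hk⟩ := (Scheme.isNilpotent_iff_basicOpen_eq_bot_of_isCompact hV.isCompact a).mpr hD
    refine ⟨V, hle, k, hxV, ?_⟩
    rw [ha, mul_pow, ← map_pow, hk, map_zero, zero_mul]
  choose V hle k hxV hk using hloc
  obtain ⟨t, ht⟩ := hc.elim_finite_subcover (fun x : X' => ((V x : X.Opens) : Set X)) (fun x => (V x).2)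
    (fun y hy => Set.mem_iUnion.mpr ⟨⟨y, hy⟩, hxV ⟨y, hy⟩⟩)
  refine ⟨t.sup k, ?_⟩
  refine ring_sec_ext 𝒮L _ _ (fun y hy => ?_)
  obtain ⟨x, hxt, hyx⟩ := Set.mem_iUnion₂.mp (ht hy)
  refine ⟨V x, hle x, hyx, ?_⟩
  rw [map_zero, map_pow]
  have hkx : k x ≤ t.sup k := Finset.le_sup hxt
  rw [← Nat.sub_add_cancel hkx, pow_add, hk x, mul_zero]

end Part5

section Part6

open Groth.Agent.Lib.H4TensorPair Groth.Agent.Lib.H78TensorGen Groth.Agent.Lib.H90Invertible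
open Groth.Agent.Lib.StructureModule Groth.Agent.Lib.H60LineBundle Groth.Agent.Lib.H60LineAlg
open Groth.Agent.Lib.H78SecCoord Groth.Agent.Lib.H78GenOn Groth.Agent.Lib.SymLinePow
open Groth.Agent.Lib.H60AwayDegOne Groth.Agent.Lib.LineAmpleFam Groth.Agent.Lib.H60LineProjQW
open AlgebraicGeometry.Scheme.Modules

variable {X Y : Scheme.{u}} (q : X ⟶ Y)
  (𝒮 : RelProj.QCGrAlg Y) (𝒮L : RelProj.QCGrAlg X)
  (u : RelProj.QGrHom q 𝒮 𝒮L)

/-- if `u` is injective over the affine open `W` and `u s` is locally homogeneous of degree `d`, then `s` is homogeneous of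
degree `d` -/
theorem mem_deg_of_u (W : Y.Opens) (hW : IsAffineOpen W) (hinj : Function.Injective (u.app W).hom)
    (s : 𝒮.presheaf.obj (op W)) (d : ℕ)
    (h : ∀ (V : X.Opens) (hV : IsAffineOpen V) (hle : V ≤ q ⁻¹ᵁ W),
      (𝒮L.presheaf.map (homOfLE hle).op).hom ((u.app W).hom s) ∈ 𝒮L.deg V hV d) : s ∈ 𝒮.deg W hW d := by
  classical
  have key : ∀ e : ℕ, e ≠ d → ((DirectSum.decompose (𝒮.deg W hW) s e : 𝒮.deg W hW e) :
      𝒮.presheaf.obj (op W)) = 0 := by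
    intro e he
    apply hinj
    rw [map_zero]
    refine ring_sec_ext 𝒮L _ _ (fun y hy => ?_)
    obtain ⟨_, ⟨V, hV, rfl⟩, hyV, hVle⟩ := (X.isBasis_affineOpens).exists_subset_of_mem_open hy (q ⁻¹ᵁ W).isOpen
    refine ⟨V, hVle, hyV, ?_⟩
    rw [map_zero]
    have h1 := GradedRingHom.map_directSumDecompose (𝒮.deg W hW) (𝒮L.deg V hV) (u.gradedAt W hW V hV hVle)
      (x := s) (i := e)
    change (u.gradedAt W hW V hV hVle) _ = 0
    rw [h1]
    exact DirectSum.decompose_of_mem_ne (𝒮L.deg V hV) (h V hV hVle) (Ne.symm he)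
  have hsum := DirectSum.sum_support_decompose (𝒮.deg W hW) s
  rw [← hsum]
  refine AddSubgroup.sum_mem _ (fun e _ => ?_)
  by_cases he : e = d
  · subst he; exact SetLike.coe_mem _
  · rw [key e he]; exact zero_mem _

end Part6

end Groth.Agent.Lib.SymLineQcqs
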