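import Groth.Agent.Lib.TSFinType75
import Groth.Agent.Lib.HomogAvoid75

/-!
# Symmetric products of `Proj B`: covering by `D_+(f ⊗ ⋯ ⊗ f)` (helper75)
-/

set_option autoImplicit false
set_option linter.unusedSectionVars false
set_option linter.unusedVariables false
set_option linter.style.haveILetI false
set_option warn.classDefReducibility false
universe u
open scoped TensorProduct
open PiTensorProduct

namespace Groth.Agent.Lib.SymProj75

open Groth.Agent.Lib.TSFinType75 Groth.Agent.Lib.GammaNorm75 Groth.Agent.Lib.HomogAvoid75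

variable {A B : Type u} [CommRing A] [CommRing B] [Algebra A B]
  (𝒜 : ℕ → Submodule A B) [GradedAlgebra 𝒜] (d : ℕ)

/-- the pure tensors all of whose slots have the same degree -/
def Cset : Set (⨂[A] _ : Fin d, B) :=
  {t | ∃ (k : ℕ) (b : Fin d → B), (∀ i, b i ∈ 𝒜 k) ∧ t = PiTensorProduct.tprod A b}

/-- the "Segre" subalgebra of the tensor power -/
def Calg : Subalgebra A (⨂[A] _ : Fin d, B) := Algebra.adjoin A (Cset 𝒜 d)

variable {𝒜 d}

theorem tprod_mem_Calg {k : ℕ} {b : Fin d → B} (hb : ∀ i, b i ∈ 𝒜 k) :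
    PiTensorProduct.tprod A b ∈ Calg 𝒜 d :=
  Algebra.subset_adjoin ⟨k, b, hb, rfl⟩

theorem perm_mem_Calg (σ : Equiv.Perm (Fin d)) {t : ⨂[A] _ : Fin d, B} (ht : t ∈ Calg 𝒜 d) :
    SymTen.perm A B d σ t ∈ Calg 𝒜 d := by
  induction ht using Algebra.adjoin_induction with
  | mem x hx =>
    obtain ⟨k, b, hb, rfl⟩ := hx
    rw [SymTen.perm_tprod]
    exact tprod_mem_Calg (fun i => hb _)
  | algebraMap r =>
    rw [AlgHom.commutes]
    exact Subalgebra.algebraMap_mem _ r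
  | add x y _ _ hx hy =>
    rw [map_add]
    exact add_mem hx hy
  | mul x y _ _ hx hy =>
    rw [map_mul]
    exact mul_mem hx hy

variable (𝒜 d)

/-- the permutation action on the Segre subalgebra -/
noncomputable def actC : MulSemiringAction (Equiv.Perm (Fin d)) (Calg 𝒜 d) where
  smul σ c := ⟨SymTen.perm A B d σ c.1, perm_mem_Calg σ c.2⟩
  one_smul c := Subtype.ext (perm_one A B d c.1)
  mul_smul σ ρ c := Subtype.ext (perm_mul A B d σ ρ c.1)
  smul_zero σ := Subtype.ext (map_zero _)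
  smul_add σ x y := Subtype.ext (map_add _ _ _)
  smul_one σ := Subtype.ext (map_one _)
  smul_mul σ x y := Subtype.ext (map_mul _ _ _)

/-- the symmetric part of the Segre subalgebra -/
noncomputable def Dalg : Subalgebra A (⨂[A] _ : Fin d, B) := Calg 𝒜 d ⊓ SymTen.TS A B d

theorem Dalg_le : Dalg 𝒜 d ≤ Calg 𝒜 d := inf_le_left

/-- the inclusion `D → C` -/
noncomputable def incl : Dalg 𝒜 d →ₐ[A] Calg 𝒜 d := Subalgebra.inclusion (Dalg_le 𝒜 d)

theorem incl_injective : Function.Injective (incl 𝒜 d) := Subalgebra.inclusion_injective _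

/-- primes of `D` lift to primes of `C` -/
theorem exists_prime_over (P : Ideal (Dalg 𝒜 d)) [P.IsPrime] :
    ∃ Q : Ideal (Calg 𝒜 d), Q.IsPrime ∧ Q.comap (incl 𝒜 d).toRingHom = P := by
  letI : Algebra (Dalg 𝒜 d) (Calg 𝒜 d) := (incl 𝒜 d).toRingHom.toAlgebra
  letI := actC 𝒜 d
  haveI : Algebra.IsInvariant (Dalg 𝒜 d) (Calg 𝒜 d) (Equiv.Perm (Fin d)) :=
    ⟨fun c hc => ⟨⟨c.1, ⟨c.2, fun σ => by
      rw [← SymTen.perm_apply]
      exact congrArg Subtype.val (hc σ)⟩⟩, rfl⟩⟩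
  haveI : Algebra.IsIntegral (Dalg 𝒜 d) (Calg 𝒜 d) :=
    Algebra.IsInvariant.isIntegral (Dalg 𝒜 d) (Calg 𝒜 d) (Equiv.Perm (Fin d))
  obtain ⟨Q, -, hQ, hQP⟩ := Ideal.exists_ideal_over_prime_of_isIntegral P (⊥ : Ideal (Calg 𝒜 d)) (by
    intro x hx
    rw [Ideal.mem_comap, Ideal.mem_bot] at hx
    have : x = 0 := incl_injective 𝒜 d (by rw [map_zero]; exact hx)
    rw [this]
    exact zero_mem _)
  exact ⟨Q, hQ, hQP⟩

section Prime

variable {𝒜 d}
variable (Q : Ideal (Calg 𝒜 d))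

/-- membership in the ideal `Q` of `C`, as a predicate on the tensor power -/
def InQ (x : ⨂[A] _ : Fin d, B) : Prop := ∃ h : x ∈ Calg 𝒜 d, (⟨x, h⟩ : Calg 𝒜 d) ∈ Q

variable {Q}

theorem InQ.mem {x : ⨂[A] _ : Fin d, B} (h : InQ Q x) : x ∈ Calg 𝒜 d := h.1

theorem inQ_iff {x : ⨂[A] _ : Fin d, B} (hx : x ∈ Calg 𝒜 d) :
    InQ Q x ↔ (⟨x, hx⟩ : Calg 𝒜 d) ∈ Q :=
  ⟨fun ⟨_, h⟩ => h, fun h => ⟨hx, h⟩⟩

theorem inQ_mul [Q.IsPrime] {x y : ⨂[A] _ : Fin d, B} (hx : x ∈ Calg 𝒜 d) (hy : y ∈ Calg 𝒜 d) :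
    InQ Q (x * y) ↔ InQ Q x ∨ InQ Q y := by
  rw [inQ_iff (mul_mem hx hy), inQ_iff hx, inQ_iff hy]
  exact (inferInstance : Q.IsPrime).mul_mem_iff_mem_or_mem (x := ⟨x, hx⟩) (y := ⟨y, hy⟩)

theorem inQ_add {x y : ⨂[A] _ : Fin d, B} (hx : InQ Q x) (hy : y ∈ Calg 𝒜 d) :
    InQ Q (x + y) ↔ InQ Q y := by
  rw [inQ_iff (add_mem hx.mem hy), inQ_iff hy]
  have hx' := (inQ_iff hx.mem).1 hx
  exact Ideal.add_mem_iff_right Q (a := ⟨x, hx.mem⟩) (b := ⟨y, hy⟩) hx'

theorem inQ_mul_left {x y : ⨂[A] _ : Fin d, B} (hx : InQ Q x) (hy : y ∈ Calg 𝒜 d) :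
    InQ Q (x * y) := by
  rw [inQ_iff (mul_mem hx.mem hy)]
  exact Q.mul_mem_right (⟨y, hy⟩ : Calg 𝒜 d) ((inQ_iff hx.mem).1 hx)

theorem inQ_span {S : Set (⨂[A] _ : Fin d, B)} (hS : ∀ x ∈ S, InQ Q x)
    {t : ⨂[A] _ : Fin d, B} (ht : t ∈ Submodule.span A S) : InQ Q t := by
  induction ht using Submodule.span_induction with
  | mem x hx => exact hS x hx
  | zero => exact ⟨zero_mem _, Q.zero_mem⟩
  | add x y _ _ hx hy => exact (inQ_add hx hy.mem).2 hy
  | smul a x _ hx =>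
    have h1 : a • x = (algebraMap A (⨂[A] _ : Fin d, B) a) * x := by rw [Algebra.smul_def]
    rw [h1, mul_comm]
    exact inQ_mul_left hx (Subalgebra.algebraMap_mem _ a)

variable (b : Fin d → B)

/-- the test element: `f` in slot `i`, `b j ^ n` in the other slots -/
noncomputable def U (i : Fin d) (n : ℕ) (f : B) : ⨂[A] _ : Fin d, B :=
  PiTensorProduct.tprod A (Function.update (fun j => b j ^ n) i f)

variable {b} {k : ℕ} (hb : ∀ i, b i ∈ 𝒜 k)
include hb

theorem U_mem (i : Fin d) (n : ℕ) {f : B} (hf : f ∈ 𝒜 (k * n)) : U b i n f ∈ Calg 𝒜 d := by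
  apply tprod_mem_Calg (k := k * n)
  intro j
  by_cases hj : j = i
  · subst hj
    rw [Function.update_self]
    exact hf
  · rw [Function.update_of_ne hj]
    have := SetLike.pow_mem_graded n (hb j)
    rwa [smul_eq_mul, mul_comm] at this

omit hb in
theorem U_mul (i : Fin d) (n m : ℕ) (f g : B) :
    U (A := A) b i (n + m) (f * g) = U b i n f * U b i m g := by
  unfold U
  rw [PiTensorProduct.tprod_mul_tprod]
  congr 1
  funext j
  by_cases hj : j = i
  · subst hj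
    simp
  · simp [Function.update_of_ne hj, pow_add]

omit hb in
theorem U_add (i : Fin d) (n : ℕ) (f g : B) :
    U (A := A) b i n (f + g) = U b i n f + U b i n g := by
  unfold U
  exact MultilinearMap.map_update_add (PiTensorProduct.tprod A (s := fun _ : Fin d => B))
    (fun j => b j ^ n) i f g

omit hb in
theorem U_one_self (i : Fin d) : U b i 1 (b i) = PiTensorProduct.tprod A b := by
  unfold U
  congr 1
  funext j
  by_cases hj : j = i
  · subst hj
    simp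
  · simp [Function.update_of_ne hj]

omit hb in
theorem prod_U (n : ℕ) (f : B) :
    ∏ i, U b i n f = PiTensorProduct.tprod A (fun _ : Fin d => f) *
      (PiTensorProduct.tprod A b) ^ (n * (d - 1)) := by
  classical
  unfold U
  have h1 : ∀ g : Fin d → (Fin d → B), ∏ i, PiTensorProduct.tprod A (g i) =
      PiTensorProduct.tprod A (∏ i, g i) := by
    intro g
    exact (map_prod (PiTensorProduct.tprodMonoidHom A (A := fun _ : Fin d => B)) g Finset.univ).symm
  have h2 : (PiTensorProduct.tprod A b) ^ (n * (d - 1)) =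
      PiTensorProduct.tprod A (b ^ (n * (d - 1))) :=
    (map_pow (PiTensorProduct.tprodMonoidHom A (A := fun _ : Fin d => B)) b _).symm
  rw [h1, h2, PiTensorProduct.tprod_mul_tprod]
  congr 1
  funext l
  rw [Finset.prod_apply, ← Finset.mul_prod_erase Finset.univ _ (Finset.mem_univ l)]
  simp only [Function.update_self, Pi.mul_apply, Pi.pow_apply]
  congr 1
  rw [Finset.prod_eq_pow_card (b := b l ^ n)]
  · rw [Finset.card_erase_of_mem (Finset.mem_univ l), Finset.card_univ, Fintype.card_fin, ← pow_mul]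
  · intro i hi
    rw [Function.update_of_ne (Finset.ne_of_mem_erase hi).symm]

/-- key lemma: a prime of `C` containing all `f ⊗ ⋯ ⊗ f` (`f` homogeneous of positive degree)
contains all pure tensors of positive degree -/
theorem inQ_tprod [Q.IsPrime] (hk : 0 < k)
    (hQ : ∀ (n : ℕ) (f : B), 0 < n → f ∈ 𝒜 n → InQ Q (PiTensorProduct.tprod A (fun _ : Fin d => f))) :
    InQ Q (PiTensorProduct.tprod A b) := by
  classical
  by_contra hs
  let G : ℕ → AddSubgroup B := fun n => (𝒜 (k * n)).toAddSubgroup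
  have hone : (1 : B) ∈ G 0 := by
    show (1 : B) ∈ 𝒜 (k * 0)
    rw [mul_zero]
    exact SetLike.one_mem_graded 𝒜
  have hmul : ∀ n m x y, x ∈ G n → y ∈ G m → x * y ∈ G (n + m) := by
    intro n m x y hx hy
    show x * y ∈ 𝒜 (k * (n + m))
    rw [mul_add]
    exact SetLike.mul_mem_graded hx hy
  let Pr : Fin d → ℕ → B → Prop := fun i n f => InQ Q (U b i n f)
  have hPmul : ∀ i n m x y, x ∈ G n → y ∈ G m →
      (Pr i (n + m) (x * y) ↔ Pr i n x ∨ Pr i m y) := by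
    intro i n m x y hx hy
    show InQ Q (U b i (n + m) (x * y)) ↔ _
    rw [U_mul, inQ_mul (U_mem hb i n hx) (U_mem hb i m hy)]
  have hPadd : ∀ i n x y, x ∈ G n → y ∈ G n → Pr i n x → ¬ Pr i n y → ¬ Pr i n (x + y) := by
    intro i n x y hx hy hPx hPy
    show ¬ InQ Q (U b i n (x + y))
    rw [U_add, inQ_add hPx (U_mem hb i n hy)]
    exact hPy
  have hbase : ∀ i ∈ (Finset.univ : Finset (Fin d)), ∃ n, 0 < n ∧ ∃ x ∈ G n, ¬ Pr i n x := by
    intro i _
    refine ⟨1, one_pos, b i, ?_, ?_⟩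
    · show b i ∈ 𝒜 (k * 1)
      rw [mul_one]
      exact hb i
    · show ¬ InQ Q (U b i 1 (b i))
      rw [U_one_self]
      exact hs
  obtain ⟨n, hn, f, hf, hfav⟩ := homog_avoid G hone hmul Pr hPmul hPadd Finset.univ hbase
  have hfC : PiTensorProduct.tprod A (fun _ : Fin d => f) ∈ Calg 𝒜 d :=
    tprod_mem_Calg (k := k * n) (fun _ => hf)
  have h1 : InQ Q (∏ i, U b i n f) := by
    rw [prod_U]
    exact inQ_mul_left (hQ (k * n) f (Nat.mul_pos hk hn) hf) (pow_mem (tprod_mem_Calg hb) _)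
  -- a product in a prime ideal
  have h2 : ∀ s : Finset (Fin d), InQ Q (∏ i ∈ s, U b i n f) → ∃ i ∈ s, InQ Q (U b i n f) := by
    intro s
    induction s using Finset.induction_on with
    | empty =>
      intro h
      rw [Finset.prod_empty] at h
      exfalso
      have h3 := (inQ_iff (one_mem _)).1 h
      exact (Ideal.IsPrime.ne_top inferInstance) ((Ideal.eq_top_iff_one Q).2 h3)
    | insert a s ha ih =>
      intro h
      rw [Finset.prod_insert ha, inQ_mul (U_mem hb a n hf)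
        (Subalgebra.prod_mem _ fun i _ => U_mem hb i n hf)] at h
      rcases h with h | h
      · exact ⟨a, Finset.mem_insert_self a s, h⟩
      · obtain ⟨i, hi, hi'⟩ := ih h
        exact ⟨i, Finset.mem_insert_of_mem hi, hi'⟩
  obtain ⟨i, hi, hi'⟩ := h2 Finset.univ h1
  exact hfav i hi hi'

end Prime

section Main

/-- a general criterion: if every prime `Q` of `C` whose restriction to `D` contains `J` satisfies
`InQ Q t`, then `t` lies in the radical of `J` -/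
theorem mem_radical_of_forall_prime (J : Ideal (Dalg 𝒜 d)) (t : ⨂[A] _ : Fin d, B)
    (htD : t ∈ Dalg 𝒜 d)
    (h : ∀ (Q : Ideal (Calg 𝒜 d)) [Q.IsPrime], J ≤ Q.comap (incl 𝒜 d).toRingHom → InQ Q t) :
    (⟨t, htD⟩ : Dalg 𝒜 d) ∈ J.radical := by
  rw [Ideal.radical_eq_sInf, Ideal.mem_sInf]
  rintro P ⟨hJP, hP⟩
  obtain ⟨Q, hQ, hQP⟩ := exists_prime_over 𝒜 d P
  have h1 := h Q (by rw [hQP]; exact hJP)
  rw [← hQP, Ideal.mem_comap]
  exact h1.2

theorem pow_mem_span_tpow (D : Subalgebra A (⨂[A] _ : Fin d, B))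
    (hD : D = Calg 𝒜 d ⊓ SymTen.TS A B d) (k : ℕ) (hk : 0 < k) (t : ⨂[A] _ : Fin d, B)
    (htD : t ∈ D)
    (htk : t ∈ Submodule.span A
      {s | ∃ b : Fin d → B, (∀ i, b i ∈ 𝒜 k) ∧ s = PiTensorProduct.tprod A b}) :
    ∃ m : ℕ, 0 < m ∧ (⟨t, htD⟩ : D) ^ m ∈
      Ideal.span {x : D | ∃ (n : ℕ) (f : B), 0 < n ∧ f ∈ 𝒜 n ∧
        (x : ⨂[A] _ : Fin d, B) = PiTensorProduct.tprod A (fun _ : Fin d => f)} := by
  subst hD
  set J : Ideal (Dalg 𝒜 d) := Ideal.span {x : Dalg 𝒜 d | ∃ (n : ℕ) (f : B), 0 < n ∧ f ∈ 𝒜 n ∧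
    (x : ⨂[A] _ : Fin d, B) = PiTensorProduct.tprod A (fun _ : Fin d => f)} with hJ
  suffices h : (⟨t, htD⟩ : Dalg 𝒜 d) ∈ J.radical by
    obtain ⟨m, hm⟩ := h
    refine ⟨m + 1, Nat.succ_pos m, ?_⟩
    rw [pow_succ]
    exact J.mul_mem_right _ hm
  apply mem_radical_of_forall_prime
  intro Q _ hJQ
  have hQ' : ∀ (n : ℕ) (f : B), 0 < n → f ∈ 𝒜 n →
      InQ Q (PiTensorProduct.tprod A (fun _ : Fin d => f)) := by
    intro n f hn hf
    have hxD : PiTensorProduct.tprod A (fun _ : Fin d => f) ∈ Dalg 𝒜 d :=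
      ⟨tprod_mem_Calg (fun _ => hf), (SymTen.tpow A B d f).2⟩
    have hxJ : (⟨_, hxD⟩ : Dalg 𝒜 d) ∈ J := Ideal.subset_span ⟨n, f, hn, hf, rfl⟩
    have := hJQ hxJ
    rw [Ideal.mem_comap] at this
    exact ⟨_, this⟩
  refine inQ_span ?_ htk
  rintro x ⟨b, hb, rfl⟩
  exact inQ_tprod hb hk hQ'

end Main

end Groth.Agent.Lib.SymProj75
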