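import Groth.Agent.Lib.SymProjDeg75

/-!
# Symmetric products of `Proj B`: `Proj D` is covered in degree one (helper75)

Leading-term argument: if `g_1, …, g_r` generate `B_1` and `j(i)` is the first index with
`g_{j(i)}` not vanishing at the `i`-th point, the symmetrisation of `g_{j(1)} ⊗ ⋯ ⊗ g_{j(d)}`
does not vanish.
-/

set_option autoImplicit false
set_option linter.unusedSectionVars false
set_option linter.unusedVariables false
set_option linter.style.haveILetI false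
set_option warn.classDefReducibility false
universe u
open scoped TensorProduct
open PiTensorProduct

namespace Groth.Agent.Lib.SymProjD1_75

open Groth.Agent.Lib.SymProj75 Groth.Agent.Lib.SymProjDeg75

/-- combinatorial lemma: a rearrangement that is pointwise `≥` is equal -/
theorem eq_of_perm_of_le {d r : ℕ} (φ₀ φ : Fin d → Fin r) (σ : Equiv.Perm (Fin d))
    (h : φ = φ₀ ∘ σ) (hle : ∀ i, φ₀ i ≤ φ i) : φ = φ₀ := by
  have hsum : ∑ i, ((φ₀ i : Fin r) : ℕ) = ∑ i, ((φ i : Fin r) : ℕ) := by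
    rw [h]
    exact (Equiv.sum_comp σ (fun i => ((φ₀ i : Fin r) : ℕ))).symm
  have h1 := (Finset.sum_eq_sum_iff_of_le (s := Finset.univ) (f := fun i => ((φ₀ i : Fin r) : ℕ))
    (g := fun i => ((φ i : Fin r) : ℕ)) (fun i _ => hle i)).1 hsum
  funext i
  exact (Fin.ext (h1 i (Finset.mem_univ i))).symm

variable {A B : Type u} [CommRing A] [CommRing B] [Algebra A B]
  {𝒜 : ℕ → Submodule A B} [GradedAlgebra 𝒜] {d : ℕ}

/-- key lemma for `S13390`: a prime of `C` containing all symmetric tensors of degree one contains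
all pure tensors of positive degree -/
theorem inQ_tprod_D1 {Q : Ideal (Calg 𝒜 d)} [Q.IsPrime]
    (hgen : Algebra.adjoin A (𝒜 1 : Set B) = ⊤) (hfg : (𝒜 1).FG)
    {k : ℕ} (hk : 0 < k) {b : Fin d → B} (hb : ∀ i, b i ∈ 𝒜 k)
    (hQ : ∀ x : ⨂[A] _ : Fin d, B, x ∈ SymTen.TS A B d →
      x ∈ Submodule.span A
        {s | ∃ c : Fin d → B, (∀ i, c i ∈ 𝒜 1) ∧ s = PiTensorProduct.tprod A c} →
      InQ Q x) :
    InQ Q (PiTensorProduct.tprod A b) := by
  classical
  by_contra hs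
  obtain ⟨r, g, hg⟩ := Submodule.fg_iff_exists_fin_generating_family.mp hfg
  have hg1 : ∀ j, g j ∈ 𝒜 1 := fun j => by
    rw [← hg]; exact Submodule.subset_span (Set.mem_range_self j)
  -- for each `i` some generator is not in `W i 1`
  have hex : ∀ i : Fin d,
      (Finset.univ.filter (fun j => g j ∉ W Q b hb hk i 1)).Nonempty := by
    intro i
    by_contra hne
    rw [Finset.not_nonempty_iff_eq_empty, Finset.filter_eq_empty_iff] at hne
    obtain ⟨x, hx, hxW⟩ := exists_not_mem_W hb hgen hk hs i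
    apply hxW
    have hle : 𝒜 1 ≤ W Q b hb hk i 1 := by
      rw [← hg, Submodule.span_le]
      rintro _ ⟨j, rfl⟩
      exact not_not.mp (hne (Finset.mem_univ j))
    exact hle hx
  let φ₀ : Fin d → Fin r := fun i =>
    (Finset.univ.filter (fun j => g j ∉ W Q b hb hk i 1)).min' (hex i)
  have hφ₀ : ∀ i, g (φ₀ i) ∉ W Q b hb hk i 1 := fun i =>
    (Finset.mem_filter.mp (Finset.min'_mem _ (hex i))).2
  have hmin : ∀ i j, j < φ₀ i → g j ∈ W Q b hb hk i 1 := by
    intro i j hj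
    by_contra hjW
    exact absurd (Finset.min'_le _ j (Finset.mem_filter.mpr ⟨Finset.mem_univ j, hjW⟩))
      (not_le.mpr hj)
  -- key identity
  have hprod : ∀ φ : Fin d → Fin r, ∏ i, U b i 1 (g (φ i) ^ k) =
      (PiTensorProduct.tprod A (fun i => g (φ i))) ^ k *
        (PiTensorProduct.tprod A b) ^ (d - 1) := by
    intro φ
    rw [prod_U' b 1 (fun i => g (φ i) ^ k), tprod_pow, one_mul]
  have hsd : ¬ InQ Q ((PiTensorProduct.tprod A b) ^ (d - 1)) := by
    rcases Nat.eq_zero_or_pos (d - 1) with h0 | h0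
    · rw [h0, pow_zero]; exact not_inQ_one
    · rw [inQ_pow (tprod_mem_Calg hb) h0]; exact hs
  have hgC : ∀ φ : Fin d → Fin r,
      PiTensorProduct.tprod A (fun i => g (φ i)) ∈ Calg 𝒜 d :=
    fun φ => tprod_mem_Calg (fun i => hg1 (φ i))
  have hUC : ∀ (φ : Fin d → Fin r) i, U b i 1 (g (φ i) ^ k) ∈ Calg 𝒜 d :=
    fun φ i => U_mem hb i 1 (pow_mem_deg hb (hg1 _))
  -- terms with some `φ i < φ₀ i` are in `Q`
  have hsmall : ∀ φ : Fin d → Fin r, (∃ i, φ i < φ₀ i) →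
      InQ Q (PiTensorProduct.tprod A (fun i => g (φ i))) := by
    rintro φ ⟨i, hi⟩
    have h1 : InQ Q (∏ i, U b i 1 (g (φ i) ^ k)) :=
      inQ_prod_of_mem Finset.univ _ (fun i _ => hUC φ i) (Finset.mem_univ i) (hmin i _ hi).2
    rw [hprod, inQ_mul (pow_mem (hgC φ) _) (pow_mem (tprod_mem_Calg hb) _)] at h1
    rcases h1 with h1 | h1
    · exact (inQ_pow (hgC φ) hk).1 h1
    · exact absurd h1 hsd
  -- the leading term is not in `Q`
  have hlead : ¬ InQ Q (PiTensorProduct.tprod A (fun i => g (φ₀ i))) := by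
    intro h
    have h1 : InQ Q (∏ i, U b i 1 (g (φ₀ i) ^ k)) := by
      rw [hprod]
      exact inQ_mul_left ((inQ_pow (hgC φ₀) hk).2 h) (pow_mem (tprod_mem_Calg hb) _)
    obtain ⟨i, -, hi⟩ := inQ_prod Finset.univ _ (fun i _ => hUC φ₀ i) h1
    exact hφ₀ i ⟨hg1 _, hi⟩
  -- the symmetric element
  let cls : Finset (Fin d → Fin r) :=
    Finset.univ.filter (fun φ => ∃ σ : Equiv.Perm (Fin d), φ = φ₀ ∘ σ)
  let e : ⨂[A] _ : Fin d, B := ∑ φ ∈ cls, PiTensorProduct.tprod A (fun i => g (φ i))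
  have he_span : e ∈ Submodule.span A
      {s | ∃ c : Fin d → B, (∀ i, c i ∈ 𝒜 1) ∧ s = PiTensorProduct.tprod A c} :=
    Submodule.sum_mem _ fun φ _ => Submodule.subset_span ⟨_, fun i => hg1 (φ i), rfl⟩
  have he_TS : e ∈ SymTen.TS A B d := by
    intro σ
    rw [← SymTen.perm_apply]
    show SymTen.perm A B d σ (∑ φ ∈ cls, _) = _
    rw [map_sum]
    simp only [SymTen.perm_tprod]
    refine Finset.sum_equiv (σ.arrowCongr (Equiv.refl (Fin r))) ?_ ?_
    · intro φ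
      simp only [cls, Finset.mem_filter, Finset.mem_univ, true_and]
      constructor
      · rintro ⟨τ, rfl⟩
        exact ⟨σ.symm.trans τ, by funext i; simp [Equiv.arrowCongr]⟩
      · rintro ⟨τ, hτ⟩
        refine ⟨σ.trans τ, ?_⟩
        funext i
        have := congrFun hτ (σ i)
        simpa [Equiv.arrowCongr] using this
    · intro φ _
      rfl
  have he := hQ e he_TS he_span
  have hφ₀cls : φ₀ ∈ cls := Finset.mem_filter.mpr ⟨Finset.mem_univ _, 1, rfl⟩
  have hsplit : e = (∑ φ ∈ cls.erase φ₀, PiTensorProduct.tprod A (fun i => g (φ i))) +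
      PiTensorProduct.tprod A (fun i => g (φ₀ i)) :=
    (Finset.sum_erase_add cls _ hφ₀cls).symm
  have hrest : InQ Q (∑ φ ∈ cls.erase φ₀, PiTensorProduct.tprod A (fun i => g (φ i))) := by
    apply inQ_sum
    intro φ hφ
    obtain ⟨hne, hφc⟩ := Finset.mem_erase.mp hφ
    obtain ⟨σ, hσ⟩ := (Finset.mem_filter.mp hφc).2
    apply hsmall
    by_contra hcon
    push Not at hcon
    exact hne (eq_of_perm_of_le φ₀ φ σ hσ hcon)
  rw [hsplit, inQ_add hrest (hgC φ₀)] at he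
  exact hlead he

theorem pow_mem_span_D1 (hgen : Algebra.adjoin A (𝒜 1 : Set B) = ⊤) (hfg : (𝒜 1).FG)
    (D : Subalgebra A (⨂[A] _ : Fin d, B))
    (hD : D = Calg 𝒜 d ⊓ SymTen.TS A B d) (k : ℕ) (hk : 0 < k) (t : ⨂[A] _ : Fin d, B)
    (htD : t ∈ D)
    (htk : t ∈ Submodule.span A
      {s | ∃ b : Fin d → B, (∀ i, b i ∈ 𝒜 k) ∧ s = PiTensorProduct.tprod A b}) :
    ∃ m : ℕ, 0 < m ∧ (⟨t, htD⟩ : D) ^ m ∈
      Ideal.span {x : D | (x : ⨂[A] _ : Fin d, B) ∈
        Submodule.span A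
          {s | ∃ b : Fin d → B, (∀ i, b i ∈ 𝒜 1) ∧ s = PiTensorProduct.tprod A b}} := by
  subst hD
  set J : Ideal (Dalg 𝒜 d) := Ideal.span {x : Dalg 𝒜 d | (x : ⨂[A] _ : Fin d, B) ∈
    Submodule.span A
      {s | ∃ b : Fin d → B, (∀ i, b i ∈ 𝒜 1) ∧ s = PiTensorProduct.tprod A b}} with hJ
  suffices h : (⟨t, htD⟩ : Dalg 𝒜 d) ∈ J.radical by
    obtain ⟨m, hm⟩ := h
    refine ⟨m + 1, Nat.succ_pos m, ?_⟩
    rw [pow_succ]
    exact J.mul_mem_right _ hm
  apply mem_radical_of_forall_prime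
  intro Q _ hJQ
  have hQ' : ∀ x : ⨂[A] _ : Fin d, B, x ∈ SymTen.TS A B d →
      x ∈ Submodule.span A
        {s | ∃ c : Fin d → B, (∀ i, c i ∈ 𝒜 1) ∧ s = PiTensorProduct.tprod A c} →
      InQ Q x := by
    intro x hxTS hxspan
    have hxC : x ∈ Subalgebra.toSubmodule (Calg 𝒜 d) := by
      refine Submodule.span_le.2 ?_ hxspan
      rintro _ ⟨c, hc, rfl⟩
      exact tprod_mem_Calg hc
    have hxD : x ∈ Dalg 𝒜 d := ⟨hxC, hxTS⟩
    have hxJ : (⟨x, hxD⟩ : Dalg 𝒜 d) ∈ J := Ideal.subset_span hxspan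
    have := hJQ hxJ
    rw [Ideal.mem_comap] at this
    exact ⟨_, this⟩
  refine inQ_span ?_ htk
  rintro x ⟨b, hb, rfl⟩
  exact inQ_tprod_D1 hgen hfg hk hb hQ'

end Groth.Agent.Lib.SymProjD1_75
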