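import Groth.Agent.Lib.SymProj75
import Groth.Agent.Lib.GenDegOne99

/-!
# Symmetric products of `Proj B`: covering in degree one (helper75)

Continuation of `SymProj75`: test elements `U b i m (x ^ k)`, the submodules `W`, their properness
when `B` is generated in degree one.
-/

set_option autoImplicit false
set_option linter.unusedSectionVars false
set_option linter.unusedVariables false
set_option linter.style.haveILetI false
set_option warn.classDefReducibility false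
universe u
open scoped TensorProduct
open PiTensorProduct

namespace Groth.Agent.Lib.SymProjDeg75

open Groth.Agent.Lib.SymProj75

section Gen

variable {A B : Type u} [CommRing A] [CommRing B] [Algebra A B]
  (𝒜 : ℕ → Submodule A B) [GradedAlgebra 𝒜]

/-- generated in degree one ⟹ `𝒜 n = (𝒜 1)^n` -/
theorem le_pow (hgen : Algebra.adjoin A (𝒜 1 : Set B) = ⊤) (n : ℕ) : 𝒜 n ≤ (𝒜 1) ^ n := by
  intro x hx
  have htop : x ∈ ⨆ j, (𝒜 1) ^ j := by
    have h1 : x ∈ Subalgebra.toSubmodule (Algebra.adjoin A (𝒜 1 : Set B)) := by rw [hgen]; trivial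
    rw [Algebra.adjoin_eq_span] at h1
    refine Submodule.span_le.2 ?_ h1
    intro y hy
    have : ∃ j : ℕ, y ∈ (𝒜 1) ^ j := by
      induction hy using Submonoid.closure_induction with
      | mem y hy => exact ⟨1, by rw [pow_one]; exact hy⟩
      | one => exact ⟨0, by rw [pow_zero]; exact Submodule.one_le.mp le_rfl⟩
      | mul y y' _ _ hy hy' =>
        obtain ⟨j, hj⟩ := hy
        obtain ⟨j', hj'⟩ := hy'
        exact ⟨j + j', by rw [pow_add]; exact Submodule.mul_mem_mul hj hj'⟩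
    obtain ⟨j, hj⟩ := this
    exact Submodule.mem_iSup_of_mem j hj
  have key : ((DirectSum.decompose 𝒜 x n : 𝒜 n) : B) ∈ (𝒜 1) ^ n := by
    refine Submodule.iSup_induction (fun j => (𝒜 1) ^ j)
      (motive := fun y => ((DirectSum.decompose 𝒜 y n : 𝒜 n) : B) ∈ (𝒜 1) ^ n) htop ?_ ?_ ?_
    · intro j y hy
      have hy' : y ∈ 𝒜 j := GenDegOne99.pow_le A B 𝒜 j hy
      by_cases hj : j = n
      · subst hj
        rw [DirectSum.decompose_of_mem_same 𝒜 hy']
        exact hy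
      · rw [DirectSum.decompose_of_mem_ne 𝒜 hy' hj]
        exact zero_mem _
    · rw [DirectSum.decompose_zero, DirectSum.zero_apply, ZeroMemClass.coe_zero]
      exact zero_mem _
    · intro y z hy hz
      show ((DirectSum.decompose 𝒜 (y + z) n : 𝒜 n) : B) ∈ (𝒜 1) ^ n
      rw [DirectSum.decompose_add, DirectSum.add_apply, Submodule.coe_add]
      exact add_mem hy hz
  rwa [DirectSum.decompose_of_mem_same 𝒜 hx] at key

end Gen

section Utools

variable {A B : Type u} [CommRing A] [CommRing B] [Algebra A B] {d : ℕ} (b : Fin d → B)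

/-- `U` as a linear map in the inserted element -/
noncomputable def Ulin (i : Fin d) (n : ℕ) : B →ₗ[A] ⨂[A] _ : Fin d, B :=
  (PiTensorProduct.tprod A (s := fun _ : Fin d => B)).toLinearMap (fun j => b j ^ n) i

theorem Ulin_apply (i : Fin d) (n : ℕ) (f : B) : Ulin (A := A) b i n f = U b i n f := rfl

theorem U_zero (i : Fin d) (n : ℕ) : U (A := A) b i n 0 = 0 := by
  rw [← Ulin_apply, map_zero]

theorem U_smul (i : Fin d) (n : ℕ) (a : A) (f : B) : U (A := A) b i n (a • f) = a • U b i n f := by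
  rw [← Ulin_apply, map_smul, Ulin_apply]

theorem U_nsmul (i : Fin d) (n : ℕ) (a : ℕ) (f : B) :
    U (A := A) b i n (a • f) = a • U b i n f := by
  rw [← Ulin_apply, map_nsmul, Ulin_apply]

theorem U_sum {ι : Type*} (s : Finset ι) (i : Fin d) (n : ℕ) (f : ι → B) :
    U (A := A) b i n (∑ j ∈ s, f j) = ∑ j ∈ s, U b i n (f j) := by
  rw [← Ulin_apply, map_sum]
  rfl

theorem U_zero_one (i : Fin d) : U (A := A) b i 0 1 = 1 := by
  unfold U
  rw [PiTensorProduct.one_def]
  congr 1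
  funext j
  by_cases hj : j = i
  · subst hj
    simp
  · simp [Function.update_of_ne hj]

theorem U_pow (i : Fin d) (n r : ℕ) (f : B) : U (A := A) b i n f ^ r = U b i (n * r) (f ^ r) := by
  induction r with
  | zero => rw [pow_zero, pow_zero, mul_zero, U_zero_one]
  | succ r ih => rw [pow_succ, pow_succ, ih, mul_add, mul_one, U_mul]

/-- product of the test elements, with varying inserted elements -/
theorem prod_U' (n : ℕ) (f : Fin d → B) :
    ∏ i, U b i n (f i) = PiTensorProduct.tprod A f *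
      (PiTensorProduct.tprod A b) ^ (n * (d - 1)) := by
  classical
  unfold U
  have h1 : ∀ g : Fin d → (Fin d → B), ∏ i, PiTensorProduct.tprod A (g i) =
      PiTensorProduct.tprod A (∏ i, g i) := by
    intro g
    exact (map_prod (PiTensorProduct.tprodMonoidHom A (A := fun _ : Fin d => B)) g Finset.univ).symm
  have h2 : (PiTensorProduct.tprod A b) ^ (n * (d - 1)) =
      PiTensorProduct.tprod A (b ^ (n * (d - 1))) :=
    (map_pow (PiTensorProduct.tprodMonoidHom A (A := fun _ : Fin d => B)) b _).symm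
  rw [h1, h2, PiTensorProduct.tprod_mul_tprod]
  congr 1
  funext l
  rw [Finset.prod_apply, ← Finset.mul_prod_erase Finset.univ _ (Finset.mem_univ l)]
  simp only [Function.update_self, Pi.mul_apply, Pi.pow_apply]
  congr 1
  rw [Finset.prod_eq_pow_card (b := b l ^ n)]
  · rw [Finset.card_erase_of_mem (Finset.mem_univ l), Finset.card_univ, Fintype.card_fin, ← pow_mul]
  · intro i hi
    rw [Function.update_of_ne (Finset.ne_of_mem_erase hi).symm]

theorem tprod_const_pow (f : B) (k : ℕ) :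
    PiTensorProduct.tprod A (fun _ : Fin d => f ^ k) =
      (PiTensorProduct.tprod A (fun _ : Fin d => f)) ^ k :=
  map_pow (PiTensorProduct.tprodMonoidHom A (A := fun _ : Fin d => B)) (fun _ => f) k

theorem tprod_pow (f : Fin d → B) (k : ℕ) :
    PiTensorProduct.tprod A (fun i : Fin d => f i ^ k) = (PiTensorProduct.tprod A f) ^ k :=
  map_pow (PiTensorProduct.tprodMonoidHom A (A := fun _ : Fin d => B)) f k

end Utools

section W

variable {A B : Type u} [CommRing A] [CommRing B] [Algebra A B]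
  {𝒜 : ℕ → Submodule A B} [GradedAlgebra 𝒜] {d : ℕ}
  {Q : Ideal (Calg 𝒜 d)} {b : Fin d → B} {k : ℕ}

theorem inQ_zero : InQ Q (0 : ⨂[A] _ : Fin d, B) := ⟨zero_mem _, Q.zero_mem⟩

theorem inQ_pow [Q.IsPrime] {x : ⨂[A] _ : Fin d, B} (hx : x ∈ Calg 𝒜 d) {r : ℕ} (hr : 0 < r) :
    InQ Q (x ^ r) ↔ InQ Q x := by
  rw [inQ_iff (pow_mem hx r), inQ_iff hx]
  constructor
  · intro h
    exact (inferInstance : Q.IsPrime).mem_of_pow_mem r (r := (⟨x, hx⟩ : Calg 𝒜 d)) h
  · intro h
    exact Ideal.pow_mem_of_mem Q (a := (⟨x, hx⟩ : Calg 𝒜 d)) h r hr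

theorem inQ_sum {ι : Type*} (s : Finset ι) (v : ι → ⨂[A] _ : Fin d, B)
    (h : ∀ j ∈ s, InQ Q (v j)) : InQ Q (∑ j ∈ s, v j) :=
  inQ_span (S := {x | InQ Q x}) (fun x hx => hx)
    (Submodule.sum_mem _ fun j hj =>
      Submodule.subset_span (s := {x | InQ Q x}) (show v j ∈ {x | InQ Q x} from h j hj))

theorem inQ_nsmul (n : ℕ) {v : ⨂[A] _ : Fin d, B} (h : InQ Q v) : InQ Q (n • v) :=
  inQ_span (S := {x | InQ Q x}) (fun x hx => hx)
    (nsmul_mem (Submodule.subset_span (s := {x | InQ Q x}) (show v ∈ {x | InQ Q x} from h)) n)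

theorem inQ_smul (a : A) {v : ⨂[A] _ : Fin d, B} (h : InQ Q v) : InQ Q (a • v) :=
  inQ_span (S := {x | InQ Q x}) (fun x hx => hx)
    (Submodule.smul_mem _ a
      (Submodule.subset_span (s := {x | InQ Q x}) (show v ∈ {x | InQ Q x} from h)))

variable (hb : ∀ i, b i ∈ 𝒜 k)
include hb

theorem pow_mem_deg {m : ℕ} {x : B} (hx : x ∈ 𝒜 m) : x ^ k ∈ 𝒜 (k * m) := by
  have := SetLike.pow_mem_graded k hx
  rwa [smul_eq_mul] at this

/-- the binomial argument -/
theorem inQ_U_pow_add [Q.IsPrime] (hk : 0 < k) (i : Fin d) (m : ℕ) {x y : B}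
    (hx : x ∈ 𝒜 m) (hy : y ∈ 𝒜 m)
    (hQx : InQ Q (U b i m (x ^ k))) (hQy : InQ Q (U b i m (y ^ k))) :
    InQ Q (U b i m ((x + y) ^ k)) := by
  have hterm : ∀ j ∈ Finset.range (k + 1), InQ Q (U b i m (x ^ j * y ^ (k - j))) := by
    intro j hj
    have hjk : j ≤ k := Nat.lt_succ_iff.mp (Finset.mem_range.mp hj)
    have hmem : x ^ j * y ^ (k - j) ∈ 𝒜 (k * m) := by
      have h1 := SetLike.mul_mem_graded (SetLike.pow_mem_graded j hx)
        (SetLike.pow_mem_graded (k - j) hy)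
      have e : j • m + (k - j) • m = k * m := by
        simp only [smul_eq_mul]
        rw [← add_mul, Nat.add_sub_cancel' hjk]
      rwa [e] at h1
    have hC := U_mem hb i m hmem
    rw [← inQ_pow hC hk, U_pow]
    have e1 : (x ^ j * y ^ (k - j)) ^ k = (x ^ k) ^ j * (y ^ k) ^ (k - j) := by ring
    have e2 : m * k = m * j + m * (k - j) := by rw [← mul_add, Nat.add_sub_cancel' hjk]
    rw [e1, e2, U_mul, ← U_pow, ← U_pow]
    rcases Nat.eq_zero_or_pos j with h0 | h0
    · have h3 : 0 < k - j := by omega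
      rw [mul_comm]
      exact inQ_mul_left ((inQ_pow hQy.mem h3).2 hQy) (pow_mem hQx.mem _)
    · exact inQ_mul_left ((inQ_pow hQx.mem h0).2 hQx) (pow_mem hQy.mem _)
  rw [add_pow, U_sum]
  apply inQ_sum
  intro j hj
  rw [← nsmul_eq_mul', U_nsmul]
  exact inQ_nsmul _ (hterm j hj)

variable (Q b) in
/-- the elements `x` of degree `m` whose `k`-th power "vanishes at the `i`-th point" -/
def W [Q.IsPrime] (hk : 0 < k) (i : Fin d) (m : ℕ) : Submodule A B where
  carrier := {x | x ∈ 𝒜 m ∧ InQ Q (U b i m (x ^ k))}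
  zero_mem' := ⟨zero_mem _, by rw [zero_pow hk.ne', U_zero]; exact inQ_zero⟩
  add_mem' := fun hx hy => ⟨add_mem hx.1 hy.1, inQ_U_pow_add hb hk i m hx.1 hy.1 hx.2 hy.2⟩
  smul_mem' := fun a x hx => ⟨Submodule.smul_mem _ a hx.1, by
    rw [smul_pow, U_smul]
    exact inQ_smul _ hx.2⟩

theorem mem_W [Q.IsPrime] (hk : 0 < k) (i : Fin d) (m : ℕ) (x : B) :
    x ∈ W Q b hb hk i m ↔ x ∈ 𝒜 m ∧ InQ Q (U b i m (x ^ k)) := Iff.rfl

/-- properness of `W i 1` when `B` is generated in degree one -/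
theorem exists_not_mem_W [Q.IsPrime] (hgen : Algebra.adjoin A (𝒜 1 : Set B) = ⊤) (hk : 0 < k)
    (hs : ¬ InQ Q (PiTensorProduct.tprod A b)) (i : Fin d) :
    ∃ g ∈ 𝒜 1, g ∉ W Q b hb hk i 1 := by
  by_contra h
  push Not at h
  have key : ∀ m x, x ∈ (𝒜 1) ^ m → 1 ≤ m → x ∈ W Q b hb hk i m := by
    intro m x hx
    induction hx using Submodule.pow_induction_on_left' with
    | algebraMap r => intro h0; omega
    | add x y j hx hy ihx ihy => intro hj; exact add_mem (ihx hj) (ihy hj)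
    | mem_mul g hg j x hx ih =>
      intro _
      rcases Nat.eq_zero_or_pos j with h0 | h0
      · subst h0
        rw [pow_zero] at hx
        obtain ⟨r, rfl⟩ := Submodule.mem_one.mp hx
        have e : g * algebraMap A B r = r • g := by rw [Algebra.smul_def, mul_comm]
        rw [e]
        exact (W Q b hb hk i 1).smul_mem r (h g hg)
      · have hxW := ih h0
        refine ⟨?_, ?_⟩
        · have h1 := SetLike.mul_mem_graded hxW.1 hg
          rwa [mul_comm] at h1
        · have e : (g * x) ^ k = x ^ k * g ^ k := by ring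
          rw [e]
          show InQ Q (U b i (j + 1) (x ^ k * g ^ k))
          rw [U_mul]
          exact inQ_mul_left hxW.2 (U_mem hb i 1 (pow_mem_deg hb hg))
  have h1 : b i ∈ W Q b hb hk i k := key k (b i) (le_pow 𝒜 hgen k (hb i)) hk
  have h2 := h1.2
  have e : U (A := A) b i k (b i ^ k) = (PiTensorProduct.tprod A b) ^ k := by
    rw [← U_one_self (A := A) (b := b) i, U_pow, one_mul]
  rw [e, inQ_pow (tprod_mem_Calg hb) hk] at h2
  exact hs h2

end W

section Avoid

open Cardinal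

theorem exists_rep {A : Type u} [CommRing A] (𝔭 : Ideal A) [𝔭.IsPrime] (l : 𝔭.ResidueField) :
    ∃ a c : A, c ∉ 𝔭 ∧ l * algebraMap A 𝔭.ResidueField c = algebraMap A 𝔭.ResidueField a := by
  obtain ⟨z, rfl⟩ := IsLocalRing.residue_surjective (R := Localization.AtPrime 𝔭) l
  obtain ⟨⟨a, c⟩, rfl⟩ := IsLocalization.mk'_surjective 𝔭.primeCompl z
  refine ⟨a, c.1, c.2, ?_⟩
  have h1 := IsLocalization.mk'_spec (Localization.AtPrime 𝔭) a c
  have h2 := congrArg (IsLocalRing.residue (Localization.AtPrime 𝔭)) h1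
  rw [map_mul] at h2
  exact h2

theorem rep_ne {A : Type u} [CommRing A] (𝔭 : Ideal A) [𝔭.IsPrime] {l₁ l₂ : 𝔭.ResidueField}
    (hne : l₁ ≠ l₂) {a₁ c₁ a₂ c₂ : A} (hc₁ : c₁ ∉ 𝔭) (hc₂ : c₂ ∉ 𝔭)
    (h₁ : l₁ * algebraMap A 𝔭.ResidueField c₁ = algebraMap A 𝔭.ResidueField a₁)
    (h₂ : l₂ * algebraMap A 𝔭.ResidueField c₂ = algebraMap A 𝔭.ResidueField a₂) :
    a₁ * c₂ - a₂ * c₁ ∉ 𝔭 := by
  intro hmem
  have h0 := Ideal.algebraMap_residueField_eq_zero.mpr hmem
  rw [map_sub, map_mul, map_mul, ← h₁, ← h₂, sub_eq_zero] at h0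
  have hc₁' : algebraMap A 𝔭.ResidueField c₁ ≠ 0 := fun h =>
    hc₁ (Ideal.algebraMap_residueField_eq_zero.mp h)
  have hc₂' : algebraMap A 𝔭.ResidueField c₂ ≠ 0 := fun h =>
    hc₂ (Ideal.algebraMap_residueField_eq_zero.mp h)
  apply hne
  apply mul_right_cancel₀ (mul_ne_zero hc₁' hc₂')
  rw [← mul_assoc, h0]
  ring

/-- a module is not the union of `n` proper `𝔭`-saturated submodules when `κ(𝔭)` has at least `n`
elements -/
theorem saturated_avoid {A M : Type u} [CommRing A] [AddCommGroup M] [Module A M]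
    (𝔭 : Ideal A) [𝔭.IsPrime] {ι : Type*} [DecidableEq ι] (s : Finset ι) (W : ι → Submodule A M)
    (hsat : ∀ i ∈ s, ∀ a : A, a ∉ 𝔭 → ∀ x, a • x ∈ W i → x ∈ W i)
    (hprop : ∀ i ∈ s, ∃ x, x ∉ W i)
    (hcard : (s.card : Cardinal.{u}) ≤ Cardinal.mk 𝔭.ResidueField) :
    ∃ x, ∀ i ∈ s, x ∉ W i := by
  induction s using Finset.induction_on with
  | empty => exact ⟨0, by simp⟩
  | insert i₀ s hi₀ ih =>
    obtain ⟨x, hx⟩ := ih (fun i hi => hsat i (Finset.mem_insert_of_mem hi))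
      (fun i hi => hprop i (Finset.mem_insert_of_mem hi))
      (le_trans (by exact_mod_cast Finset.card_le_card (Finset.subset_insert _ _)) hcard)
    by_cases hx0 : x ∈ W i₀
    swap
    · refine ⟨x, ?_⟩
      intro i hi
      rcases Finset.mem_insert.mp hi with rfl | hi
      exacts [hx0, hx i hi]
    obtain ⟨y, hy⟩ := hprop i₀ (Finset.mem_insert_self _ _)
    rw [Finset.card_insert_of_notMem hi₀] at hcard
    obtain ⟨p, hp⟩ := Cardinal.le_mk_iff_exists_set.mp hcard
    obtain ⟨t, rfl, ht⟩ := Cardinal.mk_set_eq_nat_iff_finset.mp hp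
    choose a c hc hac using exists_rep 𝔭
    by_contra hcon
    push Not at hcon
    have h1 : ∀ l ∈ t, ∃ i ∈ s, c l • y + a l • x ∈ W i := by
      intro l hl
      obtain ⟨i, hi, hiW⟩ := hcon (c l • y + a l • x)
      rcases Finset.mem_insert.mp hi with rfl | hi
      · exfalso
        have h2 : c l • y ∈ W i := by
          have := (W i).sub_mem hiW ((W i).smul_mem (a l) hx0)
          simpa using this
        exact hy (hsat i (Finset.mem_insert_self _ _) (c l) (hc l) y h2)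
      · exact ⟨i, hi, hiW⟩
    haveI : Nonempty ι := ⟨i₀⟩
    choose! F hF hFW using h1
    obtain ⟨l, hl, m, hm, hlm, hFlm⟩ := Finset.exists_ne_map_eq_of_card_lt_of_maps_to
      (by rw [ht]; omega : s.card < t.card) (fun l hl => hF l hl)
    have hi := hF l hl
    have h3 : (a l * c m - a m * c l) • x ∈ W (F l) := by
      have e : (a l * c m - a m * c l) • x =
          c m • (c l • y + a l • x) - c l • (c m • y + a m • x) := by module
      rw [e]
      exact (W _).sub_mem ((W _).smul_mem _ (hFW l hl)) ((W _).smul_mem _ (hFlm ▸ hFW m hm))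
    exact hx (F l) hi (hsat (F l) (Finset.mem_insert_of_mem hi) _
      (rep_ne 𝔭 hlm (hc l) (hc m) (hac l) (hac m)) x h3)

end Avoid

section Main

variable {A B : Type u} [CommRing A] [CommRing B] [Algebra A B]
  {𝒜 : ℕ → Submodule A B} [GradedAlgebra 𝒜] {d : ℕ}

theorem not_inQ_one {Q : Ideal (Calg 𝒜 d)} [Q.IsPrime] : ¬ InQ Q (1 : ⨂[A] _ : Fin d, B) := by
  intro h
  have h3 := (inQ_iff (one_mem _)).1 h
  exact (Ideal.IsPrime.ne_top inferInstance) ((Ideal.eq_top_iff_one Q).2 h3)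

/-- a product in a prime ideal -/
theorem inQ_prod {Q : Ideal (Calg 𝒜 d)} [Q.IsPrime] {ι : Type*} (s : Finset ι)
    (v : ι → ⨂[A] _ : Fin d, B) (hv : ∀ i ∈ s, v i ∈ Calg 𝒜 d) (h : InQ Q (∏ i ∈ s, v i)) :
    ∃ i ∈ s, InQ Q (v i) := by
  classical
  induction s using Finset.induction_on with
  | empty =>
    rw [Finset.prod_empty] at h
    exact absurd h not_inQ_one
  | insert a s ha ih =>
    rw [Finset.prod_insert ha, inQ_mul (hv a (Finset.mem_insert_self a s))
      (Subalgebra.prod_mem _ fun i hi => hv i (Finset.mem_insert_of_mem hi))] at h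
    rcases h with h | h
    · exact ⟨a, Finset.mem_insert_self a s, h⟩
    · obtain ⟨i, hi, hi'⟩ := ih (fun i hi => hv i (Finset.mem_insert_of_mem hi)) h
      exact ⟨i, Finset.mem_insert_of_mem hi, hi'⟩

theorem inQ_prod_of_mem {Q : Ideal (Calg 𝒜 d)} {ι : Type*} (s : Finset ι)
    (v : ι → ⨂[A] _ : Fin d, B) (hv : ∀ i ∈ s, v i ∈ Calg 𝒜 d) {i : ι} (hi : i ∈ s)
    (h : InQ Q (v i)) : InQ Q (∏ i ∈ s, v i) := by
  classical
  rw [← Finset.mul_prod_erase s v hi]
  exact inQ_mul_left h (Subalgebra.prod_mem _ fun j hj => hv j (Finset.mem_of_mem_erase hj))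

/-- key lemma for `S13392`: with large residue fields, a prime of `C` containing all `f ⊗ ⋯ ⊗ f`
(`f` of degree one) contains all pure tensors of positive degree -/
theorem inQ_tprod_degOne {Q : Ideal (Calg 𝒜 d)} [Q.IsPrime]
    (hgen : Algebra.adjoin A (𝒜 1 : Set B) = ⊤)
    (hres : ∀ p : PrimeSpectrum A, (d : Cardinal) ≤ Cardinal.mk p.asIdeal.ResidueField)
    {k : ℕ} (hk : 0 < k) {b : Fin d → B} (hb : ∀ i, b i ∈ 𝒜 k)
    (hQ : ∀ f : B, f ∈ 𝒜 1 → InQ Q (PiTensorProduct.tprod A (fun _ : Fin d => f))) :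
    InQ Q (PiTensorProduct.tprod A b) := by
  classical
  by_contra hs
  let 𝔭 : Ideal A := Q.comap (algebraMap A (Calg 𝒜 d))
  haveI : 𝔭.IsPrime := Ideal.comap_isPrime _ _
  let Wi : Fin d → Submodule A (𝒜 1) := fun i => (W Q b hb hk i 1).comap (𝒜 1).subtype
  have hsat : ∀ i ∈ (Finset.univ : Finset (Fin d)), ∀ a : A, a ∉ 𝔭 →
      ∀ x, a • x ∈ Wi i → x ∈ Wi i := by
    intro i _ a ha x hx
    refine ⟨x.2, ?_⟩
    have h1 : InQ Q (U b i 1 ((a • (x : B)) ^ k)) := hx.2
    rw [smul_pow, U_smul, Algebra.smul_def] at h1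
    have hU := U_mem hb i 1 (pow_mem_deg hb x.2)
    rcases (inQ_mul (Subalgebra.algebraMap_mem _ _) hU).1 h1 with h2 | h2
    · exfalso
      apply ha
      have h3 := (inQ_iff (Subalgebra.algebraMap_mem _ _)).1 h2
      have e : (algebraMap A (Calg 𝒜 d) a) ^ k =
          ⟨algebraMap A (⨂[A] _ : Fin d, B) (a ^ k), Subalgebra.algebraMap_mem _ _⟩ :=
        Subtype.ext (by simp)
      rw [← e] at h3
      exact (inferInstance : Q.IsPrime).mem_of_pow_mem k h3
    · exact h2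
  have hprop : ∀ i ∈ (Finset.univ : Finset (Fin d)), ∃ x, x ∉ Wi i := by
    intro i _
    obtain ⟨g, hg, hgW⟩ := exists_not_mem_W hb hgen hk hs i
    exact ⟨⟨g, hg⟩, hgW⟩
  have hcard : (((Finset.univ : Finset (Fin d)).card : ℕ) : Cardinal.{u}) ≤
      Cardinal.mk 𝔭.ResidueField := by
    rw [Finset.card_univ, Fintype.card_fin]
    exact hres ⟨𝔭, inferInstance⟩
  obtain ⟨g, hg⟩ := saturated_avoid 𝔭 Finset.univ Wi hsat hprop hcard
  have hg' : ∀ i, ¬ InQ Q (U b i 1 ((g : B) ^ k)) := fun i h => hg i (Finset.mem_univ i) ⟨g.2, h⟩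
  have h1 : InQ Q (∏ i, U b i 1 ((g : B) ^ k)) := by
    rw [prod_U' b 1 (fun _ => (g : B) ^ k), tprod_const_pow]
    exact inQ_mul_left ((inQ_pow (tprod_mem_Calg (fun _ => g.2)) hk).2 (hQ g g.2))
      (pow_mem (tprod_mem_Calg hb) _)
  obtain ⟨i, -, hi⟩ := inQ_prod Finset.univ _
    (fun i _ => U_mem hb i 1 (pow_mem_deg hb g.2)) h1
  exact hg' i hi

theorem pow_mem_span_tpow_degOne (hgen : Algebra.adjoin A (𝒜 1 : Set B) = ⊤)
    (hres : ∀ p : PrimeSpectrum A, (d : Cardinal) ≤ Cardinal.mk p.asIdeal.ResidueField)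
    (D : Subalgebra A (⨂[A] _ : Fin d, B))
    (hD : D = Calg 𝒜 d ⊓ SymTen.TS A B d) (k : ℕ) (hk : 0 < k) (t : ⨂[A] _ : Fin d, B)
    (htD : t ∈ D)
    (htk : t ∈ Submodule.span A
      {s | ∃ b : Fin d → B, (∀ i, b i ∈ 𝒜 k) ∧ s = PiTensorProduct.tprod A b}) :
    ∃ m : ℕ, 0 < m ∧ (⟨t, htD⟩ : D) ^ m ∈
      Ideal.span {x : D | ∃ f : B, f ∈ 𝒜 1 ∧
        (x : ⨂[A] _ : Fin d, B) = PiTensorProduct.tprod A (fun _ : Fin d => f)} := by
  subst hD
  set J : Ideal (Dalg 𝒜 d) := Ideal.span {x : Dalg 𝒜 d | ∃ f : B, f ∈ 𝒜 1 ∧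
    (x : ⨂[A] _ : Fin d, B) = PiTensorProduct.tprod A (fun _ : Fin d => f)} with hJ
  suffices h : (⟨t, htD⟩ : Dalg 𝒜 d) ∈ J.radical by
    obtain ⟨m, hm⟩ := h
    refine ⟨m + 1, Nat.succ_pos m, ?_⟩
    rw [pow_succ]
    exact J.mul_mem_right _ hm
  apply mem_radical_of_forall_prime
  intro Q _ hJQ
  have hQ' : ∀ f : B, f ∈ 𝒜 1 →
      InQ Q (PiTensorProduct.tprod A (fun _ : Fin d => f)) := by
    intro f hf
    have hxD : PiTensorProduct.tprod A (fun _ : Fin d => f) ∈ Dalg 𝒜 d :=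
      ⟨tprod_mem_Calg (fun _ => hf), (SymTen.tpow A B d f).2⟩
    have hxJ : (⟨_, hxD⟩ : Dalg 𝒜 d) ∈ J := Ideal.subset_span ⟨f, hf, rfl⟩
    have := hJQ hxJ
    rw [Ideal.mem_comap] at this
    exact ⟨_, this⟩
  refine inQ_span ?_ htk
  rintro x ⟨b, hb, rfl⟩
  exact inQ_tprod_degOne hgen hres hk hb hQ'

end Main

end Groth.Agent.Lib.SymProjDeg75
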