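import Groth.Agent.Lib.SymQCAlgUniq

/-!
# Universal property of a symmetric algebra on sections over an affine open (helper28)

For `(A, j)` with `RelSpec.IsSymAlg E A j` (`E` quasi-coherent) and `U` affine: ring homomorphisms `A(U) →+* T` correspond
to pairs (`φ : O(U) →+* T`, `lam : E(U) →+ T` that is `φ`-semilinear) (`existsUnique_ringHom`, `ringHom_ext_of_isSymAlg`).
-/

set_option autoImplicit false
universe u

open CategoryTheory CategoryTheory.Limits AlgebraicGeometry TopologicalSpace Opposite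
open AlgebraicGeometry.Scheme AlgebraicGeometry.Scheme.Modules

noncomputable section

namespace Groth.Agent.Lib.SymQCAlg

variable {S : Scheme.{u}} (E : S.Modules) [E.IsQuasicoherent]

omit [E.IsQuasicoherent] in
/-- The sections of a module map `φ : E ⟶ B` into an algebra, as an additive map into the ring `B(U)`. -/
def appAdd (B : RelSpec.QCAlg S) (φ : E ⟶ B.toModule) (U : S.Opens) : Γ(E, U) →+ B.presheaf.obj (op U) where
  toFun x := (show B.presheaf.obj (op U) from φ.app U x)
  map_zero' := by
    change (show B.presheaf.obj (op U) from φ.app U 0) = _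
    rw [map_zero]; rfl
  map_add' x y := by
    change (show B.presheaf.obj (op U) from φ.app U (x + y)) = _
    rw [map_add]; rfl

omit [E.IsQuasicoherent] in
theorem appAdd_apply (B : RelSpec.QCAlg S) (φ : E ⟶ B.toModule) (U : S.Opens) (x : Γ(E, U)) :
    appAdd E B φ U x = (show B.presheaf.obj (op U) from φ.app U x) := rfl

omit [E.IsQuasicoherent] in
theorem appAdd_smul (B : RelSpec.QCAlg S) (φ : E ⟶ B.toModule) (U : S.Opens) (r : Γ(S, U)) (x : Γ(E, U)) :
    appAdd E B φ U (r • x) = (B.str.app (op U)).hom r * appAdd E B φ U x := by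
  change (show B.presheaf.obj (op U) from φ.app U (r • x)) = _
  rw [Hom.app_smul, toModule_smul_def]
  rfl

omit [E.IsQuasicoherent] in
theorem appAdd_comp_toModuleMap {A B : RelSpec.QCAlg S} (φ : E ⟶ A.toModule) (ψ : A ⟶ B) (U : S.Opens)
    (x : Γ(E, U)) :
    appAdd E B (φ ≫ RelSpec.QCAlg.Hom.toModuleMap ψ) U x = (ψ.hom.app (op U)).hom (appAdd E A φ U x) := rfl

/-- Ring homomorphisms out of `A(U)` are determined on scalars and on the image of `j`. -/
theorem ringHom_ext_of_isSymAlg (A : RelSpec.QCAlg S) (jA : E ⟶ A.toModule) (hA : RelSpec.IsSymAlg E A jA)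
    (U : S.Opens) (hU : IsAffineOpen U) {T : Type*} [Semiring T] {Λ Λ' : A.presheaf.obj (op U) →+* T}
    (h1 : ∀ r : Γ(S, U), Λ ((A.str.app (op U)).hom r) = Λ' ((A.str.app (op U)).hom r))
    (h2 : ∀ m : Γ(E, U), Λ (show A.presheaf.obj (op U) from jA.app U m) =
      Λ' (show A.presheaf.obj (op U) from jA.app U m)) : Λ = Λ' := by
  obtain ⟨e, he, he'⟩ := exists_ringEquiv E A jA hA U hU
  have key : Λ.comp e.symm.toRingHom = Λ'.comp e.symm.toRingHom := by
    refine Groth.Agent.Lib.SymAlgLoc.ringHom_ext ?_ ?_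
    · intro a
      change Λ (e.symm _) = Λ' (e.symm _)
      rw [← he a, e.symm_apply_apply]
      exact h1 a
    · intro m
      change Λ (e.symm _) = Λ' (e.symm _)
      rw [← he' m, e.symm_apply_apply]
      exact h2 m
  refine RingHom.ext fun x => ?_
  have := congr($key (e x))
  simpa using this

/-- Universal property of `A(U)` for `(A, j)` a symmetric algebra of `E`, `U` affine. -/
theorem exists_ringHom (A : RelSpec.QCAlg S) (jA : E ⟶ A.toModule) (hA : RelSpec.IsSymAlg E A jA)
    (U : S.Opens) (hU : IsAffineOpen U) {T : Type*} [CommRing T] (φ : Γ(S, U) →+* T) (lam : Γ(E, U) →+ T)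
    (hlam : ∀ (r : Γ(S, U)) (m : Γ(E, U)), lam (r • m) = φ r * lam m) :
    ∃ Λ : A.presheaf.obj (op U) →+* T, (∀ r : Γ(S, U), Λ ((A.str.app (op U)).hom r) = φ r) ∧
      ∀ m : Γ(E, U), Λ (show A.presheaf.obj (op U) from jA.app U m) = lam m := by
  obtain ⟨e, he, he'⟩ := exists_ringEquiv E A jA hA U hU
  letI : Algebra Γ(S, U) T := φ.toAlgebra
  let l : Γ(E, U) →ₗ[Γ(S, U)] T :=
    { toFun := lam
      map_add' := map_add lam
      map_smul' := fun r m => by
        rw [hlam]
        rfl }
  refine ⟨(SymmetricAlgebra.lift l).toRingHom.comp e.toRingHom, fun r => ?_, fun m => ?_⟩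
  · change SymmetricAlgebra.lift l (e _) = _
    rw [he r, AlgHom.commutes]
    rfl
  · change SymmetricAlgebra.lift l (e _) = _
    rw [he' m, SymmetricAlgebra.lift_ι_apply]
    rfl

end Groth.Agent.Lib.SymQCAlg
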