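import Groth.Agent.Lib.PiTensorDirLim

/-!
# Symmetric tensors and directed colimits (`Groth.Agent.Lib.SymTensorColim`)

* `exists_symm_lift`: if `N` is an abstract directed colimit (`IsColim`) of `M i`, every symmetric
  tensor of `⨂ _ : Fin n, N` is the image of a symmetric tensor at a finite stage.
* `fgColim`: a module is the directed colimit of its finitely generated submodules.
* `quotColim`: a quotient `F ⧸ K` is the directed colimit of the `F ⧸ K'`, `K' ≤ K` f.g.
* `exists_symm_lift_fp`: every symmetric tensor over a module `N` is the image of a symmetric tensor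
  over a finitely presented module mapping to `N`.
-/

open scoped TensorProduct
open PiTensorProduct

set_option linter.unusedSectionVars false

namespace Groth.Agent.Lib.SymTensorColim

open Groth.Agent.Lib.PiTensorDirLim

universe uA uι uM uN

section

variable {A : Type uA} [CommRing A] {ι : Type uι} [Preorder ι] [IsDirected ι (fun i j => i ≤ j)] [Nonempty ι]
  {M : ι → Type uM} [∀ i, AddCommGroup (M i)] [∀ i, Module A (M i)]
  {N : Type uN} [AddCommGroup N] [Module A N]
  {t : ∀ i j : ι, i ≤ j → (M i →ₗ[A] M j)} {φ : ∀ i, M i →ₗ[A] N}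

theorem map_reindex_const {P Q : Type*} [AddCommGroup P] [Module A P] [AddCommGroup Q] [Module A Q]
    (g : P →ₗ[A] Q) (n : ℕ) (σ : Equiv.Perm (Fin n)) (y : ⨂[A] _ : Fin n, P) :
    PiTensorProduct.map (fun _ : Fin n => g) (reindex A (fun _ : Fin n => P) σ y) =
      reindex A (fun _ : Fin n => Q) σ (PiTensorProduct.map (fun _ : Fin n => g) y) :=
  PiTensorProduct.map_reindex (fun _ : Fin n => g) σ y

/-- symmetric elements of the colimit come from symmetric elements at a finite stage -/
theorem exists_symm_lift (H : IsColim t φ) (n : ℕ) (z : ⨂[A] _ : Fin n, N)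
    (hz : ∀ σ : Equiv.Perm (Fin n), reindex A (fun _ : Fin n => N) σ z = z) :
    ∃ (i : ι) (y : ⨂[A] _ : Fin n, M i),
      (∀ σ : Equiv.Perm (Fin n), reindex A (fun _ : Fin n => M i) σ y = y) ∧
      PiTensorProduct.map (fun _ : Fin n => φ i) y = z := by
  obtain ⟨i, y, hy⟩ := exists_map_eq H z
  have h1 : ∀ σ : Equiv.Perm (Fin n), ∃ (j : ι) (h : i ≤ j),
      PiTensorProduct.map (fun _ : Fin n => t i j h)
        (reindex A (fun _ : Fin n => M i) σ y - y) = 0 := by
    intro σ
    apply exists_map_eq_zero H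
    rw [map_sub, map_reindex_const, hy, hz, sub_self]
  choose jσ hjσ hzero using h1
  obtain ⟨j, hj⟩ := Finite.exists_le jσ
  have hij : i ≤ j := (hjσ 1).trans (hj 1)
  refine ⟨j, PiTensorProduct.map (fun _ : Fin n => t i j hij) y, ?_, ?_⟩
  · intro σ
    rw [← sub_eq_zero, ← map_reindex_const, ← map_sub]
    have := H.map_map_t (κ := Fin n) i (jσ σ) j (hjσ σ) (hj σ)
      (reindex A (fun _ : Fin n => M i) σ y - y)
    rw [hzero σ, map_zero] at this
    exact this.symm
  · rw [H.map_φ_map_t, hy]

end

section fg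

variable (A : Type uA) [CommRing A] (N : Type uN) [AddCommGroup N] [Module A N]

/-- index type: finitely generated submodules -/
abbrev FGSub : Type uN := {P : Submodule A N // P.FG}

instance : Nonempty (FGSub A N) := ⟨⟨⊥, Submodule.fg_bot⟩⟩

instance : IsDirected (FGSub A N) (fun i j => i ≤ j) :=
  ⟨fun P Q => ⟨⟨P.1 ⊔ Q.1, P.2.sup Q.2⟩, le_sup_left (a := P.1), le_sup_right (b := Q.1)⟩⟩

/-- A module is the directed colimit of its f.g. submodules. -/
theorem fgColim :
    IsColim (A := A) (ι := FGSub A N) (M := fun P => ↥P.1) (N := N)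
      (fun P Q h => Submodule.inclusion h) (fun P => P.1.subtype) where
  hcomp := fun i j h => by ext x; rfl
  hsurj := fun b => ⟨⟨Submodule.span A {b}, Submodule.fg_span_singleton b⟩,
    ⟨b, Submodule.mem_span_singleton_self b⟩, rfl⟩
  hzero := fun i x hx => ⟨i, le_refl _, by
    have : x = 0 := Subtype.ext hx
    rw [this, map_zero]⟩
  hid := fun i h => by ext x; rfl
  htrans := fun i j k hij hjk => by ext x; rfl

end fg

section quot

variable (A : Type uA) [CommRing A] (F : Type uN) [AddCommGroup F] [Module A F] (K : Submodule A F)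

/-- index type: finitely generated submodules contained in `K` -/
abbrev FGBelow : Type uN := {P : Submodule A F // P.FG ∧ P ≤ K}

instance : Nonempty (FGBelow A F K) := ⟨⟨⊥, Submodule.fg_bot, bot_le⟩⟩

instance : IsDirected (FGBelow A F K) (fun i j => i ≤ j) :=
  ⟨fun P Q => ⟨⟨P.1 ⊔ Q.1, P.2.1.sup Q.2.1, sup_le P.2.2 Q.2.2⟩,
    le_sup_left (a := P.1), le_sup_right (b := Q.1)⟩⟩

/-- `F ⧸ K` is the directed colimit of `F ⧸ K'` for f.g. `K' ≤ K`. -/
theorem quotColim :
    IsColim (A := A) (ι := FGBelow A F K) (M := fun P => F ⧸ P.1) (N := F ⧸ K)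
      (fun P Q h => Submodule.factor h) (fun P => Submodule.factor P.2.2) where
  hcomp := fun i j h => by
    apply Submodule.linearMap_qext
    ext x
    rfl
  hsurj := fun b => by
    obtain ⟨x, rfl⟩ := Submodule.Quotient.mk_surjective _ b
    exact ⟨⟨⊥, Submodule.fg_bot, bot_le⟩, Submodule.Quotient.mk x, rfl⟩
  hzero := fun i x hx => by
    obtain ⟨x, rfl⟩ := Submodule.Quotient.mk_surjective _ x
    have hxK : x ∈ K := by
      have : (Submodule.Quotient.mk x : F ⧸ K) = 0 := hx
      exact (Submodule.Quotient.mk_eq_zero K).1 this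
    refine ⟨⟨i.1 ⊔ Submodule.span A {x}, i.2.1.sup (Submodule.fg_span_singleton x),
      sup_le i.2.2 ((Submodule.span_singleton_le_iff_mem x K).2 hxK)⟩, le_sup_left (a := i.1), ?_⟩
    have : (Submodule.Quotient.mk x : F ⧸ (i.1 ⊔ Submodule.span A {x})) = 0 :=
      (Submodule.Quotient.mk_eq_zero _).2
        (Submodule.mem_sup_right (Submodule.mem_span_singleton_self x))
    exact this
  hid := fun i h => by
    apply Submodule.linearMap_qext
    ext x
    rfl
  htrans := fun i j k hij hjk => by
    apply Submodule.linearMap_qext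
    ext x
    rfl

end quot

section fp

variable (A : Type uA) [CommRing A] (N : Type uN) [AddCommGroup N] [Module A N]

theorem map_map_const {P Q S : Type*} [AddCommGroup P] [Module A P] [AddCommGroup Q] [Module A Q]
    [AddCommGroup S] [Module A S]
    (g : Q →ₗ[A] S) (f : P →ₗ[A] Q) (n : ℕ) (y : ⨂[A] _ : Fin n, P) :
    PiTensorProduct.map (fun _ : Fin n => g) (PiTensorProduct.map (fun _ : Fin n => f) y) =
      PiTensorProduct.map (fun _ : Fin n => g ∘ₗ f) y := by
  have := PiTensorProduct.map_comp (R := A) (fun _ : Fin n => g) (fun _ : Fin n => f)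
  rw [this]
  rfl

/-- Every symmetric tensor over `N` is the image of a symmetric tensor over a finitely presented
module mapping to `N`. -/
theorem exists_symm_lift_fp (n : ℕ) (z : ⨂[A] _ : Fin n, N)
    (hz : ∀ σ : Equiv.Perm (Fin n), reindex A (fun _ : Fin n => N) σ z = z) :
    ∃ (Q : Type uA) (_ : AddCommGroup Q) (_ : Module A Q) (_ : Module.FinitePresentation A Q)
      (g : Q →ₗ[A] N) (y : ⨂[A] _ : Fin n, Q),
      (∀ σ : Equiv.Perm (Fin n), reindex A (fun _ : Fin n => Q) σ y = y) ∧
      PiTensorProduct.map (fun _ : Fin n => g) y = z := by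
  -- step 1: a f.g. submodule
  obtain ⟨P, y, hysym, hy⟩ := exists_symm_lift (fgColim A N) n z hz
  haveI : Module.Finite A P.1 := Module.Finite.iff_fg.2 P.2
  obtain ⟨m, π, hπ⟩ := Module.Finite.exists_fin' A P.1
  let K : Submodule A (Fin m → A) := LinearMap.ker π
  let e : ((Fin m → A) ⧸ K) ≃ₗ[A] P.1 := π.quotKerEquivOfSurjective hπ
  -- transport to the quotient
  let y' : ⨂[A] _ : Fin n, ((Fin m → A) ⧸ K) :=
    PiTensorProduct.map (fun _ : Fin n => e.symm.toLinearMap) y
  have hy'sym : ∀ σ : Equiv.Perm (Fin n),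
      reindex A (fun _ : Fin n => ((Fin m → A) ⧸ K)) σ y' = y' := by
    intro σ
    rw [← map_reindex_const, hysym σ]
  -- step 2: a finitely presented stage
  obtain ⟨K', y'', hy''sym, hy''⟩ := exists_symm_lift (quotColim A (Fin m → A) K) n y' hy'sym
  haveI : Module.FinitePresentation A ((Fin m → A) ⧸ K'.1) :=
    Module.finitePresentation_of_surjective K'.1.mkQ (Submodule.mkQ_surjective _)
      (by rw [Submodule.ker_mkQ]; exact K'.2.1)
  refine ⟨(Fin m → A) ⧸ K'.1, inferInstance, inferInstance, inferInstance,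
    P.1.subtype ∘ₗ e.toLinearMap ∘ₗ Submodule.factor K'.2.2, y'', hy''sym, ?_⟩
  rw [← hy, ← map_map_const, ← map_map_const, hy'']
  congr 1
  rw [map_map_const]
  have : (e.toLinearMap ∘ₗ e.symm.toLinearMap) = LinearMap.id := by
    ext x; simp
  rw [this, PiTensorProduct.map_id]
  rfl

end fp

end Groth.Agent.Lib.SymTensorColim
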