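import Groth.Agent.Lib.SymTensorFlat

/-!
# Generators of symmetric tensors (`Groth.Agent.Lib.SymTensorGen`)

* `Ssum a P`: for a "colouring family" `P : Finset (Fin n → I)` and elements `a : I → M`, the sum of the
  pure tensors `⨂ₖ a (c k)`, `c ∈ P`; it is symmetric when `P` is stable under permutations.
* `mem_span_Ssum_of_basis`, `mem_span_Ssum_of_flat`: symmetric tensors over a finite free (resp. flat)
  module are linear combinations of stable sums `Ssum a P`.
* `exists_perm_of_cnt_eq`: two colourings with the same fibre cardinalities differ by a permutation.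
* `Ssum_mem_E`: for a commutative algebra `A`, every stable sum lies in the subalgebra generated by the
  elementary symmetric tensors `esym x m`.
* `TS_le_E`: for flat `A`, every symmetric tensor lies in that subalgebra.
-/

open scoped TensorProduct
open PiTensorProduct

set_option linter.unusedSectionVars false
set_option linter.unusedVariables false

namespace Groth.Agent.Lib.SymTensorGen

open Groth.Agent.Lib.PiTensorDirLim Groth.Agent.Lib.SymTensorColim Groth.Agent.Lib.SymTensorFlat

universe uA uM

section perm

/-- number of slots of colour `i` -/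
def cnt {I : Type*} [DecidableEq I] {n : ℕ} (i : I) (c : Fin n → I) : ℕ :=
  (Finset.univ.filter (fun k => c k = i)).card

theorem cnt_comp_perm {I : Type*} [DecidableEq I] {n : ℕ} (i : I) (c : Fin n → I)
    (σ : Equiv.Perm (Fin n)) : cnt i (c ∘ σ) = cnt i c := by
  unfold cnt
  apply Finset.card_bij (fun k _ => σ k)
  · intro k hk
    simpa using hk
  · intro k _ k' _ h
    exact σ.injective h
  · intro k hk
    refine ⟨σ.symm k, ?_, by simp⟩
    simpa using hk

/-- two colourings with the same fibre cardinalities differ by a permutation -/
theorem exists_perm_of_cnt_eq {I : Type*} [DecidableEq I] {n : ℕ} (c c' : Fin n → I)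
    (h : ∀ i, cnt i c' = cnt i c) : ∃ σ : Equiv.Perm (Fin n), c' = c ∘ σ := by
  have e : ∀ i, {k // c' k = i} ≃ {k // c k = i} := fun i => Fintype.equivOfCardEq (by
    rw [Fintype.card_subtype, Fintype.card_subtype]; exact h i)
  refine ⟨(Equiv.sigmaFiberEquiv c').symm.trans
    ((Equiv.sigmaCongrRight e).trans (Equiv.sigmaFiberEquiv c)), ?_⟩
  funext k
  simp only [Function.comp_apply, Equiv.trans_apply, Equiv.sigmaFiberEquiv_symm_apply_fst,
    Equiv.sigmaCongrRight_apply, Equiv.sigmaFiberEquiv_apply]
  exact ((e (c' k)) ⟨k, rfl⟩).2.symm

end perm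

section Ssum

variable {R : Type uA} [CommRing R] {M : Type uM} [AddCommGroup M] [Module R M] {n : ℕ}

/-- sum of pure tensors over a family of colourings -/
noncomputable def Ssum {I : Type*} (a : I → M) (P : Finset (Fin n → I)) : ⨂[R] _ : Fin n, M :=
  ∑ c ∈ P, tprod R (fun k => a (c k))

/-- stability under permutations -/
def Stable {I : Type*} (P : Finset (Fin n → I)) : Prop :=
  ∀ c ∈ P, ∀ σ : Equiv.Perm (Fin n), c ∘ σ ∈ P

theorem reindex_Ssum {I : Type*} (a : I → M) (P : Finset (Fin n → I)) (hP : Stable P)
    (σ : Equiv.Perm (Fin n)) :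
    reindex R (fun _ : Fin n => M) σ (Ssum (R := R) a P) = Ssum a P := by
  unfold Ssum
  rw [map_sum]
  simp only [reindex_tprod]
  apply Finset.sum_bij' (fun c _ => c ∘ σ.symm) (fun c _ => c ∘ σ)
  · intro c hc; exact hP c hc σ.symm
  · intro c hc; exact hP c hc σ
  · intro c _; funext k; simp
  · intro c _; funext k; simp
  · intro c _; rfl

theorem Ssum_mem_TS {I : Type*} (a : I → M) (P : Finset (Fin n → I)) (hP : Stable P) :
    Ssum (R := R) a P ∈ TS R M n :=
  mem_TS.2 (reindex_Ssum a P hP)

theorem map_Ssum {M' : Type*} [AddCommGroup M'] [Module R M'] (h : M →ₗ[R] M') {I : Type*}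
    (a : I → M) (P : Finset (Fin n → I)) :
    PiTensorProduct.map (fun _ : Fin n => h) (Ssum (R := R) a P) = Ssum (fun i => h (a i)) P := by
  unfold Ssum
  rw [map_sum]
  simp only [map_tprod]

end Ssum

section span

variable {R : Type uA} [CommRing R] {n : ℕ}

/-- the fibre of `orep` over `q` is stable -/
theorem stable_orep_fibre {κ : Type*} [Fintype κ] [DecidableEq κ] (q : Fin n → κ) :
    Stable (Finset.univ.filter (fun p : Fin n → κ => orep n p = q)) := by
  intro c hc σ
  simp only [Finset.mem_filter, Finset.mem_univ, true_and] at hc ⊢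
  rw [orep_comp, hc]

/-- symmetric tensors over a finite free module are combinations of stable sums of basis tensors -/
theorem mem_span_Ssum_of_basis {F : Type*} [AddCommGroup F] [Module R F] {κ : Type*} [Fintype κ]
    [DecidableEq κ] (b : Module.Basis κ R F) (v : ⨂[R] _ : Fin n, F) (hv : v ∈ TS R F n) :
    v ∈ Submodule.span R {t | ∃ P : Finset (Fin n → κ), Stable P ∧ t = Ssum (R := R) (fun i => b i) P} := by
  classical
  have h1 : v = ∑ p : Fin n → κ, (tbasis b n).equivFun v (orep n p) • tbasis b n p := by
    conv_lhs => rw [← rho0_of_mem b n v hv, ← (tbasis b n).sum_equivFun (rho0 b n v)]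
    apply Finset.sum_congr rfl
    intro p _
    rw [equivFun_rho0]
  have h2 : v = ∑ q : Fin n → κ, (tbasis b n).equivFun v q •
      Ssum (R := R) (fun i => b i) (Finset.univ.filter (fun p : Fin n → κ => orep n p = q)) := by
    conv_lhs => rw [h1]
    rw [← Finset.sum_fiberwise (s := Finset.univ) (g := fun p : Fin n → κ => orep n p)]
    apply Finset.sum_congr rfl
    intro q _
    unfold Ssum
    rw [Finset.smul_sum]
    apply Finset.sum_congr rfl
    intro p hp
    simp only [Finset.mem_filter, Finset.mem_univ, true_and] at hp
    rw [hp, Basis.piTensorProduct_apply]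
  rw [h2]
  apply Submodule.sum_mem
  intro q _
  apply Submodule.smul_mem
  apply Submodule.subset_span
  exact ⟨_, stable_orep_fibre q, rfl⟩

end span

section spanflat

variable (R : Type uA) [CommRing R] (M : Type uM) [AddCommGroup M] [Module R M] {n : ℕ}

/-- the set of stable sums with finitely many colours -/
def stableSums (n : ℕ) : Set (⨂[R] _ : Fin n, M) :=
  {t | ∃ (k : ℕ) (a : Fin k → M) (P : Finset (Fin n → Fin k)), Stable P ∧ t = Ssum (R := R) a P}

theorem mem_span_of_factor {F : Type*} [AddCommGroup F] [Module R F] {k : ℕ}
    (b : Module.Basis (Fin k) R F) {Q : Type*} [AddCommGroup Q] [Module R Q]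
    (h₂ : Q →ₗ[R] F) (h₃ : F →ₗ[R] M) (y : ⨂[R] _ : Fin n, Q)
    (hysym : ∀ σ : Equiv.Perm (Fin n), reindex R (fun _ : Fin n => Q) σ y = y) :
    PiTensorProduct.map (fun _ : Fin n => h₃ ∘ₗ h₂) y ∈ Submodule.span R (stableSums R M n) := by
  have hz : PiTensorProduct.map (fun _ : Fin n => h₂) y ∈ TS R F n := by
    rw [mem_TS]
    intro σ
    rw [← map_reindex_const, hysym σ]
  have h1 := mem_span_Ssum_of_basis b _ hz
  rw [← map_map_const]
  have h2 : Submodule.span R {t | ∃ P : Finset (Fin n → Fin k), Stable P ∧
      t = Ssum (R := R) (fun i => b i) P} ≤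
      (Submodule.span R (stableSums R M n)).comap (PiTensorProduct.map (fun _ : Fin n => h₃)) := by
    rw [Submodule.span_le]
    rintro t ⟨P, hP, rfl⟩
    simp only [Submodule.comap_coe, Set.mem_preimage, SetLike.mem_coe]
    rw [map_Ssum]
    exact Submodule.subset_span ⟨k, fun i => h₃ (b i), P, hP, rfl⟩
  exact h2 h1

/-- symmetric tensors over a flat module are combinations of stable sums -/
theorem mem_span_Ssum_of_flat [Module.Flat R M] (v : ⨂[R] _ : Fin n, M) (hv : v ∈ TS R M n) :
    v ∈ Submodule.span R (stableSums R M n) := by
  obtain ⟨Q, _, _, _, g, y, hysym, hy⟩ := exists_symm_lift_fp R M n v (mem_TS.1 hv)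
  obtain ⟨k, h₂, h₃, hg⟩ := Module.Flat.exists_factorization_of_finitePresentation g
  rw [← hy, hg]
  exact mem_span_of_factor R M (Finsupp.basisSingleOne (R := R) (ι := Fin k)) h₂ h₃ y hysym

end spanflat

section counting

variable {I : Type*} [DecidableEq I] {n : ℕ}

/-- number of slots not of the unit colour -/
def weight (u : I) (c : Fin n → I) : ℕ :=
  (Finset.univ.filter (fun k => c k ≠ u)).card

/-- recolour `j` to `u` -/
def erase (j u : I) (c : Fin n → I) : Fin n → I := fun k => if c k = j then u else c k

theorem erase_comp (j u : I) (c : Fin n → I) (σ : Equiv.Perm (Fin n)) :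
    erase j u (c ∘ σ) = erase j u c ∘ σ := rfl

theorem erase_ne (j u : I) (hju : j ≠ u) (c : Fin n → I) (k : Fin n) : erase j u c k ≠ j := by
  unfold erase
  split_ifs with h
  · exact Ne.symm hju
  · exact h

theorem erase_eq_u_iff (j u : I) (c : Fin n → I) (k : Fin n) :
    erase j u c k = u ↔ c k = j ∨ c k = u := by
  unfold erase
  split_ifs with h
  · simp [h]
  · simp [h]

theorem cnt_le (i : I) (c : Fin n → I) : cnt i c ≤ n := by
  unfold cnt
  calc _ ≤ (Finset.univ : Finset (Fin n)).card := Finset.card_filter_le _ _
    _ = n := by simp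

theorem weight_comp_perm (u : I) (c : Fin n → I) (σ : Equiv.Perm (Fin n)) :
    weight u (c ∘ σ) = weight u c := by
  unfold weight
  apply Finset.card_bij (fun k _ => σ k)
  · intro k hk
    simpa using hk
  · intro k _ k' _ h
    exact σ.injective h
  · intro k hk
    refine ⟨σ.symm k, ?_, by simp⟩
    simpa using hk

/-- weight of the erased colouring -/
theorem weight_erase (j u : I) (hju : j ≠ u) (c : Fin n → I) :
    weight u (erase j u c) + cnt j c = weight u c := by
  unfold weight cnt
  have h1 : (Finset.univ.filter (fun k => erase j u c k ≠ u)) =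
      (Finset.univ.filter (fun k => c k ≠ u)).filter (fun k => ¬ c k = j) := by
    ext k
    simp only [Finset.mem_filter, Finset.mem_univ, true_and, ne_eq, erase_eq_u_iff]
    tauto
  have h2 : (Finset.univ.filter (fun k => c k = j)) =
      (Finset.univ.filter (fun k => c k ≠ u)).filter (fun k => c k = j) := by
    ext k
    simp only [Finset.mem_filter, Finset.mem_univ, true_and, ne_eq]
    constructor
    · intro h; exact ⟨by rw [h]; exact hju, h⟩
    · intro h; exact h.2
  rw [h1, h2, add_comm]
  exact Finset.card_filter_add_card_filter_not _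

/-- the colouring obtained from `erase j u c₀` by recolouring `T` with `j` has the same counts -/
theorem cnt_recolour (j u : I) (hju : j ≠ u) (c₀ : Fin n → I) (T : Finset (Fin n))
    (hT : T.card = cnt j c₀) (hTu : ∀ k ∈ T, erase j u c₀ k = u) (i : I) :
    cnt i (fun k => if k ∈ T then j else erase j u c₀ k) = cnt i c₀ := by
  by_cases hij : i = j
  · subst hij
    rw [← hT]
    unfold cnt
    congr 1
    ext k
    simp only [Finset.mem_filter, Finset.mem_univ, true_and]
    by_cases hk : k ∈ T
    · simp [hk]
    · simp [hk, erase_ne i u hju c₀ k]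
  · by_cases hiu : i = u
    · subst hiu
      have h1 : (Finset.univ.filter (fun k => (if k ∈ T then j else erase j i c₀ k) = i)) =
          (Finset.univ.filter (fun k => erase j i c₀ k = i)) \ T := by
        ext k
        simp only [Finset.mem_filter, Finset.mem_univ, true_and, Finset.mem_sdiff]
        by_cases hk : k ∈ T
        · simp [hk, hju]
        · simp [hk]
      have h2 : (Finset.univ.filter (fun k => erase j i c₀ k = i)) =
          (Finset.univ.filter (fun k => c₀ k = j)) ∪ (Finset.univ.filter (fun k => c₀ k = i)) := by
        ext k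
        simp only [Finset.mem_filter, Finset.mem_univ, true_and, Finset.mem_union, erase_eq_u_iff]
      have h3 : Disjoint (Finset.univ.filter (fun k => c₀ k = j))
          (Finset.univ.filter (fun k => c₀ k = i)) := by
        rw [Finset.disjoint_filter]
        intro k _ h1 h2
        exact hju (h1.symm.trans h2)
      have h4 : T ⊆ (Finset.univ.filter (fun k => erase j i c₀ k = i)) := by
        intro k hk
        simp only [Finset.mem_filter, Finset.mem_univ, true_and]
        exact hTu k hk
      unfold cnt at hT ⊢
      rw [h1, Finset.card_sdiff_of_subset h4, h2, Finset.card_union_of_disjoint h3, hT]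
      omega
    · unfold cnt
      congr 1
      ext k
      simp only [Finset.mem_filter, Finset.mem_univ, true_and]
      by_cases hk : k ∈ T
      · have := (erase_eq_u_iff j u c₀ k).1 (hTu k hk)
        simp only [hk, if_true]
        constructor
        · intro h; exact absurd h.symm hij
        · intro h
          rcases this with h' | h'
          · exact absurd (h.symm.trans h') hij
          · exact absurd (h.symm.trans h') hiu
      · simp only [hk, if_false]
        unfold erase
        split_ifs with h
        · constructor
          · intro h'; exact absurd h'.symm hiu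
          · intro h'; exact absurd (h'.symm.trans h) hij
        · rfl

end counting

section algebra

variable (R : Type uA) [CommRing R] (A : Type uM) [CommRing A] [Algebra R A] (n : ℕ)

/-- elementary symmetric tensor -/
noncomputable def esym (x : A) (m : ℕ) : ⨂[R] _ : Fin n, A :=
  ∑ T ∈ (Finset.univ : Finset (Fin n)).powersetCard m,
    tprod R (fun i : Fin n => if i ∈ T then x else (1 : A))

/-- the subalgebra generated by the elementary symmetric tensors -/
noncomputable def E : Subalgebra R (⨂[R] _ : Fin n, A) :=
  Algebra.adjoin R {t | ∃ (a : A) (j : ℕ), t = esym R A n a j}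

variable {R A n}

theorem esym_mem_E (x : A) (m : ℕ) : esym R A n x m ∈ E R A n :=
  Algebra.subset_adjoin ⟨x, m, rfl⟩

theorem peel {I : Type} [Fintype I] [DecidableEq I] (u j : I) (hju : j ≠ u) (a : I → A) (ha : a u = 1)
    (m : ℕ) (hm : 1 ≤ m) (P : Finset (Fin n → I)) (hP : Stable P) (hcnt : ∀ c ∈ P, cnt j c = m)
    (w : ℕ) (hw : ∀ c ∈ P, weight u c ≤ w) :
    ∃ (Pbar : Finset (Fin n → I)) (Q : Finset (Fin n → Bool × I)),
      Stable Pbar ∧ Stable Q ∧ (∀ d ∈ Pbar, weight u d < w) ∧ (∀ e ∈ Q, weight (false, u) e < w) ∧
      esym R A n (a j) m * Ssum (R := R) a Pbar =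
        Ssum (R := R) a P +
          Ssum (R := R) (fun p : Bool × I => (if p.1 then a j else 1) * a p.2) Q := by
  classical
  set Pbar := P.image (erase j u) with hPbar
  set Prs := ((Finset.univ : Finset (Fin n)).powersetCard m) ×ˢ Pbar with hPrs
  let good : Finset (Fin n) × (Fin n → I) → Prop := fun p => ∀ k ∈ p.1, p.2 k = u
  let ebar : Finset (Fin n) × (Fin n → I) → (Fin n → Bool × I) :=
    fun p k => (decide (k ∈ p.1), p.2 k)
  set Q := (Prs.filter (fun p => ¬ good p)).image ebar with hQ
  have hstabPbar : Stable Pbar := by
    intro d hd σ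
    obtain ⟨c, hc, rfl⟩ := Finset.mem_image.1 hd
    exact Finset.mem_image.2 ⟨c ∘ σ, hP c hc σ, rfl⟩
  refine ⟨Pbar, Q, hstabPbar, ?_, ?_, ?_, ?_⟩
  · -- Stable Q
    intro e he σ
    obtain ⟨⟨T, d⟩, hp, rfl⟩ := Finset.mem_image.1 he
    rw [Finset.mem_filter, Finset.mem_product] at hp
    obtain ⟨⟨hT, hd⟩, hbad⟩ := hp
    simp only [good, not_forall] at hbad
    obtain ⟨k₀, hk₀, hne⟩ := hbad
    refine Finset.mem_image.2 ⟨(T.map σ.symm.toEmbedding, d ∘ σ), ?_, ?_⟩
    · rw [Finset.mem_filter, Finset.mem_product]
      refine ⟨⟨?_, hstabPbar d hd σ⟩, ?_⟩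
      · rw [Finset.mem_powersetCard] at hT ⊢
        exact ⟨Finset.subset_univ _, by rw [Finset.card_map]; exact hT.2⟩
      · simp only [good, not_forall]
        refine ⟨σ.symm k₀, ?_, ?_⟩
        · exact Finset.mem_map.2 ⟨k₀, hk₀, rfl⟩
        · simpa using hne
    · funext k
      simp only [ebar, Function.comp_apply, Finset.mem_map_equiv, Equiv.symm_symm]
  · -- weights of Pbar
    intro d hd
    obtain ⟨c, hc, rfl⟩ := Finset.mem_image.1 hd
    have h1 := weight_erase j u hju c
    have h2 := hcnt c hc
    have h3 := hw c hc
    omega
  · -- weights of Q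
    intro e he
    obtain ⟨⟨T, d⟩, hp, rfl⟩ := Finset.mem_image.1 he
    rw [Finset.mem_filter, Finset.mem_product] at hp
    obtain ⟨⟨hT, hd⟩, hbad⟩ := hp
    simp only [good, not_forall] at hbad
    obtain ⟨k₀, hk₀, hne⟩ := hbad
    obtain ⟨c, hc, rfl⟩ := Finset.mem_image.1 hd
    rw [Finset.mem_powersetCard] at hT
    have h1 := weight_erase j u hju c
    have h2 := hcnt c hc
    have h3 := hw c hc
    have h4 : weight (false, u) (ebar (T, erase j u c)) =
        (T ∪ Finset.univ.filter (fun k => erase j u c k ≠ u)).card := by
      unfold weight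
      congr 1
      ext k
      simp only [ebar, ne_eq, Prod.mk.injEq, decide_eq_false_iff_not, not_and, Finset.mem_filter,
        Finset.mem_univ, true_and, Finset.mem_union]
      tauto
    have h5 := Finset.card_union_add_card_inter T
      (Finset.univ.filter (fun k => erase j u c k ≠ u))
    have h6 : 1 ≤ (T ∩ Finset.univ.filter (fun k => erase j u c k ≠ u)).card := by
      rw [Nat.succ_le_iff, Finset.card_pos]
      exact ⟨k₀, Finset.mem_inter.2 ⟨hk₀, by simpa using hne⟩⟩
    have h7 : (Finset.univ.filter (fun k => erase j u c k ≠ u)).card = weight u (erase j u c) := rfl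
    rw [h4]
    have key : ∀ (x y z t wc cj : ℕ), x + y = t + z → 1 ≤ y → z + cj = wc → cj = m → wc ≤ w →
        t = m → x < w := by intros; omega
    exact key _ _ _ _ _ _ h5 h6 h1 h2 h3 hT.2
  · -- the identity
    unfold esym
    unfold Ssum
    rw [Finset.sum_mul_sum, ← Finset.sum_product']
    simp only [tprod_mul_tprod]
    rw [← Finset.sum_filter_add_sum_filter_not (((Finset.univ : Finset (Fin n)).powersetCard m) ×ˢ Pbar) good]
    congr 1
    · -- good part
      refine Finset.sum_bij' (fun p _ => fun k => if k ∈ p.1 then j else p.2 k)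
        (fun c _ => (Finset.univ.filter (fun k => c k = j), erase j u c)) ?_ ?_ ?_ ?_ ?_
      · -- maps into P
        rintro ⟨T, d⟩ hp
        rw [Finset.mem_filter, Finset.mem_product] at hp
        obtain ⟨⟨hT, hd⟩, hgood⟩ := hp
        obtain ⟨c₀, hc₀, rfl⟩ := Finset.mem_image.1 hd
        rw [Finset.mem_powersetCard] at hT
        have hcard : T.card = cnt j c₀ := by rw [hT.2, hcnt c₀ hc₀]
        obtain ⟨σ, hσ⟩ := exists_perm_of_cnt_eq c₀
          (fun k => if k ∈ T then j else erase j u c₀ k)
          (fun i => cnt_recolour j u hju c₀ T hcard hgood i)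
        simp only
        rw [hσ]
        exact hP c₀ hc₀ σ
      · -- inverse maps into good pairs
        intro c hc
        rw [Finset.mem_filter, Finset.mem_product]
        refine ⟨⟨?_, Finset.mem_image.2 ⟨c, hc, rfl⟩⟩, ?_⟩
        · rw [Finset.mem_powersetCard]
          exact ⟨Finset.subset_univ _, hcnt c hc⟩
        · intro k hk
          simp only [Finset.mem_filter, Finset.mem_univ, true_and] at hk
          simp only [erase, hk, if_true]
      · -- left inverse
        rintro ⟨T, d⟩ hp
        rw [Finset.mem_filter, Finset.mem_product] at hp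
        obtain ⟨⟨hT, hd⟩, hgood⟩ := hp
        obtain ⟨c₀, hc₀, rfl⟩ := Finset.mem_image.1 hd
        simp only [Prod.mk.injEq]
        constructor
        · ext k
          simp only [Finset.mem_filter, Finset.mem_univ, true_and]
          by_cases hk : k ∈ T
          · simp [hk]
          · simp [hk, erase_ne j u hju c₀ k]
        · funext k
          show erase j u (fun k => if k ∈ T then j else erase j u c₀ k) k = erase j u c₀ k
          by_cases hk : k ∈ T
          · have h1 : erase j u c₀ k = u := hgood k hk
            rw [h1]
            simp only [erase, hk, if_true]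
          · have h := erase_ne j u hju c₀ k
            have h2 : erase j u (fun k => if k ∈ T then j else erase j u c₀ k) k =
                if erase j u c₀ k = j then u else erase j u c₀ k := by
              show (if (if k ∈ T then j else erase j u c₀ k) = j then u
                else (if k ∈ T then j else erase j u c₀ k)) = _
              rw [if_neg hk]
            rw [h2, if_neg h]
      · -- right inverse
        intro c hc
        funext k
        simp only [Finset.mem_filter, Finset.mem_univ, true_and, erase]
        split_ifs with h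
        · exact h.symm
        · rfl
      · -- summands agree
        rintro ⟨T, d⟩ hp
        rw [Finset.mem_filter, Finset.mem_product] at hp
        obtain ⟨⟨hT, hd⟩, hgood⟩ := hp
        congr 1
        funext k
        simp only [Pi.mul_apply]
        by_cases hk : k ∈ T
        · have h1 : d k = u := hgood k hk
          simp only [hk, if_true, h1, ha, mul_one]
        · simp only [hk, if_false, one_mul]
    · -- bad part
      rw [hQ, Finset.sum_image]
      · apply Finset.sum_congr rfl
        rintro ⟨T, d⟩ _
        congr 1
        funext k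
        simp only [ebar, Pi.mul_apply, decide_eq_true_eq]
      · rintro ⟨T, d⟩ _ ⟨T', d'⟩ _ h
        have h1 : ∀ k, ebar (T, d) k = ebar (T', d') k := fun k => congrFun h k
        simp only [ebar, Prod.mk.injEq, decide_eq_decide] at h1
        simp only [Prod.mk.injEq]
        constructor
        · ext k; exact (h1 k).1
        · funext k; exact (h1 k).2

end algebra

section main

variable {R : Type uA} [CommRing R] {A : Type uM} [CommRing A] [Algebra R A] {n : ℕ}

/-- every stable sum lies in the subalgebra generated by the elementary symmetric tensors -/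
theorem Ssum_mem_E : ∀ (w : ℕ) (I : Type) [Fintype I] [DecidableEq I] (u : I) (a : I → A)
    (ha : a u = 1) (P : Finset (Fin n → I)), Stable P → (∀ c ∈ P, weight u c ≤ w) →
    Ssum (R := R) a P ∈ E R A n := by
  intro w
  induction w using Nat.strong_induction_on with
  | _ w IH =>
  intro I _ _ u a ha
  have inner : ∀ (J : Finset I) (P : Finset (Fin n → I)), Stable P → (∀ c ∈ P, weight u c ≤ w) →
      (∀ c ∈ P, ∀ k, c k = u ∨ c k ∈ J) → Ssum (R := R) a P ∈ E R A n := by
    intro J
    induction J using Finset.induction_on with
    | empty =>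
      intro P hP hw hJ
      unfold Ssum
      apply Subalgebra.sum_mem
      intro c hc
      have : (fun k => a (c k)) = (1 : Fin n → A) := by
        funext k
        rcases hJ c hc k with h | h
        · rw [h, ha]; rfl
        · exact absurd h (Finset.notMem_empty _)
      rw [this, ← PiTensorProduct.one_def]
      exact Subalgebra.one_mem _
    | insert j J' hj IHJ =>
      intro P hP hw hJ
      by_cases hju : j = u
      · apply IHJ P hP hw
        intro c hc k
        rcases hJ c hc k with h | h
        · exact Or.inl h
        · rcases Finset.mem_insert.1 h with h | h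
          · exact Or.inl (h.trans hju)
          · exact Or.inr h
      · -- decompose by the number of j-slots
        have hdecomp : Ssum (R := R) a P =
            ∑ m ∈ Finset.range (n + 1), Ssum (R := R) a (P.filter (fun c => cnt j c = m)) := by
          unfold Ssum
          rw [Finset.sum_fiberwise_of_maps_to (g := fun c => cnt j c)]
          intro c _
          exact Finset.mem_range.2 (Nat.lt_succ_of_le (cnt_le j c))
        rw [hdecomp]
        apply Subalgebra.sum_mem
        intro m _
        have hstab : Stable (P.filter (fun c => cnt j c = m)) := by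
          intro c hc σ
          rw [Finset.mem_filter] at hc ⊢
          exact ⟨hP c hc.1 σ, by rw [cnt_comp_perm]; exact hc.2⟩
        have hw' : ∀ c ∈ P.filter (fun c => cnt j c = m), weight u c ≤ w :=
          fun c hc => hw c (Finset.mem_filter.1 hc).1
        rcases Nat.eq_zero_or_pos m with hm | hm
        · -- j unused
          subst hm
          apply IHJ _ hstab hw'
          intro c hc k
          rw [Finset.mem_filter] at hc
          rcases hJ c hc.1 k with h | h
          · exact Or.inl h
          · rcases Finset.mem_insert.1 h with h | h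
            · exfalso
              have hk : k ∈ Finset.univ.filter (fun k => c k = j) := by simp [h]
              have h0 : (Finset.univ.filter (fun k => c k = j)).card = 0 := hc.2
              rw [Finset.card_eq_zero] at h0
              rw [h0] at hk
              exact absurd hk (Finset.notMem_empty _)
            · exact Or.inr h
        · -- peel
          by_cases hne : (P.filter (fun c => cnt j c = m)).Nonempty
          · obtain ⟨c₀, hc₀⟩ := hne
            have hw1 : 1 ≤ w := by
              have h1 := weight_erase j u hju c₀
              have h2 := (Finset.mem_filter.1 hc₀).2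
              have h3 := hw' c₀ hc₀
              omega
            obtain ⟨Pbar, Q, hsPbar, hsQ, hwPbar, hwQ, hid⟩ := peel (R := R) u j hju a ha m hm _ hstab
              (fun c hc => (Finset.mem_filter.1 hc).2) w hw'
            have h1 : Ssum (R := R) a Pbar ∈ E R A n :=
              IH (w - 1) (by omega) I u a ha Pbar hsPbar
                (fun d hd => by have := hwPbar d hd; omega)
            have h2 : Ssum (R := R) (fun p : Bool × I => (if p.1 then a j else 1) * a p.2) Q ∈
                E R A n :=
              IH (w - 1) (by omega) (Bool × I) (false, u) _ (by simp [ha]) Q hsQ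
                (fun e he => by have := hwQ e he; omega)
            have h3 : Ssum (R := R) a (P.filter (fun c => cnt j c = m)) =
                esym R A n (a j) m * Ssum (R := R) a Pbar -
                  Ssum (R := R) (fun p : Bool × I => (if p.1 then a j else 1) * a p.2) Q := by
              rw [hid]; abel
            rw [h3]
            exact Subalgebra.sub_mem _ (Subalgebra.mul_mem _ (esym_mem_E _ _) h1) h2
          · rw [Finset.not_nonempty_iff_eq_empty] at hne
            rw [hne]
            unfold Ssum
            rw [Finset.sum_empty]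
            exact Subalgebra.zero_mem _
  intro P hP hw
  exact inner Finset.univ P hP hw (fun c _ k => Or.inr (Finset.mem_univ _))

end main

section final

variable (R : Type uA) [CommRing R] (A : Type uM) [CommRing A] [Algebra R A] (n : ℕ)

theorem weight_le {I : Type*} [DecidableEq I] (u : I) (c : Fin n → I) : weight u c ≤ n := by
  unfold weight
  calc _ ≤ (Finset.univ : Finset (Fin n)).card := Finset.card_filter_le _ _
    _ = n := by simp

/-- stable sums lie in `E` (no distinguished unit colour needed) -/
theorem stableSums_subset_E : stableSums R A n ⊆ (E R A n : Set (⨂[R] _ : Fin n, A)) := by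
  classical
  rintro t ⟨k, a, P, hP, rfl⟩
  let emb : (Fin n → Fin k) ↪ (Fin n → Option (Fin k)) :=
    ⟨fun c i => some (c i), fun c c' h => by
      funext i
      exact Option.some_injective _ (congrFun h i)⟩
  have h1 : Ssum (R := R) a P = Ssum (R := R) (fun o : Option (Fin k) => o.elim 1 a) (P.map emb) := by
    unfold Ssum
    rw [Finset.sum_map]
    rfl
  rw [h1]
  apply Ssum_mem_E (R := R) n (Option (Fin k)) none _ rfl
  · intro c hc σ
    obtain ⟨c', hc', rfl⟩ := Finset.mem_map.1 hc
    exact Finset.mem_map.2 ⟨c' ∘ σ, hP c' hc' σ, rfl⟩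
  · intro c _
    exact weight_le n none c

/-- for flat `A`, symmetric tensors lie in `E` -/
theorem TS_le_E [Module.Flat R A] (v : ⨂[R] _ : Fin n, A) (hv : v ∈ TS R A n) : v ∈ E R A n := by
  have h1 := mem_span_Ssum_of_flat R A v hv
  have h2 : Submodule.span R (stableSums R A n) ≤ Subalgebra.toSubmodule (E R A n) :=
    Submodule.span_le.2 (stableSums_subset_E R A n)
  exact h2 h1

/-- elementary symmetric tensors are symmetric -/
theorem reindex_esym (x : A) (m : ℕ) (σ : Equiv.Perm (Fin n)) :
    reindex R (fun _ : Fin n => A) σ (esym R A n x m) = esym R A n x m := by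
  unfold esym
  rw [map_sum]
  simp only [reindex_tprod]
  refine Finset.sum_bij' (fun T _ => T.map σ.toEmbedding) (fun T _ => T.map σ.symm.toEmbedding)
    ?_ ?_ ?_ ?_ ?_
  · intro T hT
    rw [Finset.mem_powersetCard] at hT ⊢
    exact ⟨Finset.subset_univ _, by rw [Finset.card_map]; exact hT.2⟩
  · intro T hT
    rw [Finset.mem_powersetCard] at hT ⊢
    exact ⟨Finset.subset_univ _, by rw [Finset.card_map]; exact hT.2⟩
  · intro T _
    ext k
    simp [Finset.mem_map_equiv]
  · intro T _
    ext k
    simp [Finset.mem_map_equiv]
  · intro T _
    congr 1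
    funext i
    simp only [Finset.mem_map_equiv]

end final

end Groth.Agent.Lib.SymTensorGen
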