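import Groth.Agent.Lib.WeakAssFinite88
import Groth.Agent.Lib.ArtinianFlat
import Mathlib.RingTheory.Localization.AtPrime.Basic

/-!
# Symbolic powers under flat extensions (helper88)

For `R → S` flat and `p` a prime of `R` with `q = pS` prime, `p^(n) S = q^(n)`.
-/

set_option autoImplicit false
set_option linter.unusedSectionVars false
universe u v w

namespace Groth.Agent.Lib.SymbPowFlat88

open FlatCA Groth.Agent.Lib.WeakAss Groth.Agent.Lib.WeakAssFinite88
open scoped TensorProduct

section Symb

variable {T : Type*} [CommRing T] (P : Ideal T) [P.IsPrime]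

/-- membership in the contraction of the extension to the localization at a prime -/
theorem mem_comap_map_atPrime_iff (I : Ideal T) (x : T) :
    x ∈ (I.map (algebraMap T (Localization.AtPrime P))).comap
        (algebraMap T (Localization.AtPrime P)) ↔ ∃ t, t ∉ P ∧ t * x ∈ I := by
  rw [Ideal.mem_comap, IsLocalization.mem_map_algebraMap_iff P.primeCompl]
  constructor
  · rintro ⟨⟨a, s⟩, h⟩
    rw [← map_mul, IsLocalization.eq_iff_exists P.primeCompl] at h
    obtain ⟨c, hc⟩ := h
    refine ⟨c * s, (c * s).2, ?_⟩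
    have : (c : T) * s * x = c * a := by
      rw [← hc]
      ring
    show (c : T) * s * x ∈ I
    rw [this]
    exact I.mul_mem_left _ a.2
  · rintro ⟨t, ht, htx⟩
    refine ⟨⟨⟨t * x, htx⟩, ⟨t, ht⟩⟩, ?_⟩
    simp [mul_comm]

end Symb

section Flat

variable {R : Type u} {S : Type v} [CommRing R] [CommRing S] [Algebra R S]

/-- the easy inclusion: `Ann(m) S` kills `1 ⊗ m`. -/
theorem map_annOf_le_annOf_one_tmul {M : Type w} [AddCommGroup M] [Module R M] (m : M) :
    (annOf R m).map (algebraMap R S) ≤ annOf S ((1 : S) ⊗ₜ[R] m) := by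
  rw [Ideal.map_le_iff_le_comap]
  intro a ha
  rw [Ideal.mem_comap, mem_annOf, Algebra.algebraMap_eq_smul_one, smul_assoc, one_smul,
    ← TensorProduct.tmul_smul, mem_annOf.mp ha, TensorProduct.tmul_zero]

theorem tmul_eq_zero_of_mem_map {M : Type w} [AddCommGroup M] [Module R M] (m : M) {x : S}
    (hx : x ∈ (annOf R m).map (algebraMap R S)) : x ⊗ₜ[R] m = 0 := by
  have := map_annOf_le_annOf_one_tmul (S := S) m hx
  rwa [mem_annOf, TensorProduct.smul_tmul', smul_eq_mul, mul_one] at this

variable [Module.Flat R S]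

/-- flatness: `x ⊗ m = 0` forces `x ∈ Ann(m) S`. -/
theorem mem_map_annOf_of_tmul_eq_zero {M : Type w} [AddCommGroup M] [Module R M] (m : M) (x : S)
    (h : x ⊗ₜ[R] m = 0) : x ∈ (annOf R m).map (algebraMap R S) :=
  annOf_one_tmul_le m (by
    rw [mem_annOf, TensorProduct.smul_tmul', smul_eq_mul, mul_one]; exact h)

/-- For `R → S` flat and `p` prime with `pS ≠ S`: `pS ∩ R = p`. -/
theorem algebraMap_notMem_map_of_notMem (p : Ideal R) [hp : p.IsPrime]
    (hq : p.map (algebraMap R S) ≠ ⊤) {s : R} (hs : s ∉ p) :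
    algebraMap R S s ∉ p.map (algebraMap R S) := by
  intro hmem
  apply hq
  have h0 : annOf R (Ideal.Quotient.mk p (1 : R)) = p := by
    ext a
    rw [mem_annOf, Algebra.smul_def, Ideal.Quotient.algebraMap_eq, map_one, mul_one,
      Ideal.Quotient.eq_zero_iff_mem]
  have h1 : annOf R (Ideal.Quotient.mk p s) = p := by
    ext a
    rw [mem_annOf, Algebra.smul_def, Ideal.Quotient.algebraMap_eq, ← map_mul,
      Ideal.Quotient.eq_zero_iff_mem]
    exact ⟨fun h => (hp.mem_or_mem h).resolve_right hs, fun h => p.mul_mem_right _ h⟩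
  have h2 : (algebraMap R S s) ⊗ₜ[R] (Ideal.Quotient.mk p (1 : R)) = 0 :=
    tmul_eq_zero_of_mem_map _ (by rw [h0]; exact hmem)
  have h3 : (1 : S) ⊗ₜ[R] (Ideal.Quotient.mk p s) = 0 := by
    rw [← h2, Algebra.algebraMap_eq_smul_one, TensorProduct.smul_tmul]
    congr 1
    rw [Algebra.smul_def, Ideal.Quotient.algebraMap_eq, map_one, mul_one]
  have h4 := mem_map_annOf_of_tmul_eq_zero (Ideal.Quotient.mk p s) (1 : S) h3
  rw [h1] at h4
  exact (Ideal.eq_top_iff_one _).mpr h4

end Flat

section Residue

variable {R : Type u} [CommRing R] (p : Ideal R) [hp : p.IsPrime] {S : Type v} [CommRing S]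
  [Algebra R S] (K : Type w) [Field K] [Algebra (Localization.AtPrime p) K] [Algebra R K]
  [IsScalarTower R (Localization.AtPrime p) K]

theorem isUnit_algebraMap_of_notMem {r : R} (hr : r ∉ p) : IsUnit (algebraMap R K r) := by
  rw [IsScalarTower.algebraMap_apply R (Localization.AtPrime p) K]
  exact (IsLocalization.map_units (Localization.AtPrime p) (⟨r, hr⟩ : p.primeCompl)).map _

variable (hsurj : Function.Surjective (algebraMap (Localization.AtPrime p) K))
include hsurj

theorem algebraMap_eq_zero_of_mem {a : R} (ha : a ∈ p) : algebraMap R K a = 0 := by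
  have hker : RingHom.ker (algebraMap (Localization.AtPrime p) K) =
      IsLocalRing.maximalIdeal (Localization.AtPrime p) :=
    IsLocalRing.eq_maximalIdeal (RingHom.ker_isMaximal_of_surjective _ hsurj)
  rw [IsScalarTower.algebraMap_apply R (Localization.AtPrime p) K, ← RingHom.mem_ker, hker,
    ← Localization.AtPrime.map_eq_maximalIdeal]
  exact Ideal.mem_map_of_mem _ ha

theorem exists_smul_eq_one_tmul (y : K ⊗[R] S) :
    ∃ r, r ∉ p ∧ ∃ s : S, r • y = (1 : K) ⊗ₜ[R] s := by
  induction y using TensorProduct.induction_on with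
  | zero => exact ⟨1, (p.ne_top_iff_one).mp hp.ne_top, 0, by simp⟩
  | tmul c x =>
    obtain ⟨z, rfl⟩ := hsurj c
    obtain ⟨a, r, rfl⟩ := IsLocalization.exists_mk'_eq p.primeCompl z
    refine ⟨r, r.2, a • x, ?_⟩
    rw [TensorProduct.smul_tmul', TensorProduct.tmul_smul, TensorProduct.smul_tmul']
    congr 1
    rw [Algebra.smul_def, Algebra.smul_def, mul_one,
      IsScalarTower.algebraMap_apply R (Localization.AtPrime p) K,
      IsScalarTower.algebraMap_apply R (Localization.AtPrime p) K, ← map_mul,
      IsLocalization.mk'_spec']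
  | add y1 y2 h1 h2 =>
    obtain ⟨r1, hr1, s1, e1⟩ := h1
    obtain ⟨r2, hr2, s2, e2⟩ := h2
    refine ⟨r1 * r2, hp.mul_notMem hr1 hr2, r2 • s1 + r1 • s2, ?_⟩
    rw [smul_add, TensorProduct.tmul_add, TensorProduct.tmul_smul, TensorProduct.tmul_smul,
      ← e1, ← e2, mul_smul, mul_comm r1 r2, mul_smul]
    rw [smul_comm r1 r2 y1, smul_comm r2 r1 y2]

theorem lTensor_mulLeft_injective [Module.Flat R S] [hq : (p.map (algebraMap R S)).IsPrime]
    {t : S} (ht : t ∉ p.map (algebraMap R S)) :
    Function.Injective (LinearMap.lTensor K (LinearMap.mulLeft R t) : K ⊗[R] S →ₗ[R] K ⊗[R] S) := by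
  rw [injective_iff_map_eq_zero]
  intro y hy
  obtain ⟨r, hr, s, e⟩ := exists_smul_eq_one_tmul p K hsurj y
  have h1 : (1 : K) ⊗ₜ[R] (t * s) = 0 := by
    have := congrArg (LinearMap.lTensor K (LinearMap.mulLeft R t)) e
    rw [map_smul, hy, smul_zero, LinearMap.lTensor_tmul, LinearMap.mulLeft_apply] at this
    exact this.symm
  have h2 : t * s ∈ p.map (algebraMap R S) := by
    have h3 : (t * s) ⊗ₜ[R] (1 : K) = 0 := by
      have := congrArg (TensorProduct.comm R K S) h1
      simpa using this
    have h4 := mem_map_annOf_of_tmul_eq_zero (1 : K) (t * s) h3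
    refine Ideal.map_mono ?_ h4
    intro a ha
    by_contra hap
    rw [mem_annOf, Algebra.smul_def, mul_one] at ha
    exact (isUnit_algebraMap_of_notMem p K hap).ne_zero ha
  have h5 : s ∈ p.map (algebraMap R S) := (hq.mem_or_mem h2).resolve_left ht
  have h6 : (1 : K) ⊗ₜ[R] s = 0 := by
    have h7 : s ⊗ₜ[R] (1 : K) = 0 := by
      apply tmul_eq_zero_of_mem_map
      refine Ideal.map_mono ?_ h5
      intro a ha
      rw [mem_annOf, Algebra.smul_def, mul_one]
      exact algebraMap_eq_zero_of_mem p K hsurj ha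
    have := congrArg (TensorProduct.comm R S K) h7
    simpa using this
  rw [h6] at e
  have hu := isUnit_algebraMap_of_notMem p K hr
  have h8 : (algebraMap R K r) • y = 0 := by rw [algebraMap_smul]; exact e
  exact (hu.smul_eq_zero).mp h8

end Residue

section Main

open IsLocalRing

variable {R : Type u} [CommRing R] {S : Type v} [CommRing S] [Algebra R S] [Module.Flat R S]
  (p : Ideal R) [hp : p.IsPrime] [hq : (p.map (algebraMap R S)).IsPrime]

/-- `t ∉ pS` is a nonzerodivisor on `(R_p / p^n R_p) ⊗ S`. -/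
theorem one_tmul_eq_zero_of_one_tmul_mul_eq_zero (n : ℕ) (hn : n ≠ 0) {t x : S}
    (ht : t ∉ p.map (algebraMap R S))
    (h : (1 : Localization.AtPrime p ⧸ (p ^ n).map (algebraMap R (Localization.AtPrime p)))
      ⊗ₜ[R] (t * x) = 0) :
    (1 : Localization.AtPrime p ⧸ (p ^ n).map (algebraMap R (Localization.AtPrime p)))
      ⊗ₜ[R] x = 0 := by
  set Rp := Localization.AtPrime p with hRp
  set I : Ideal Rp := (p ^ n).map (algebraMap R Rp) with hI
  have hIm : I = (maximalIdeal Rp) ^ n := by
    rw [hI, Ideal.map_pow, Localization.AtPrime.map_eq_maximalIdeal]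
  have hne : I ≠ ⊤ := by
    rw [hIm]
    intro htop
    have h1 : (maximalIdeal Rp) ^ n ≤ maximalIdeal Rp := Ideal.pow_le_self hn
    rw [htop] at h1
    exact (IsLocalRing.maximalIdeal.isMaximal Rp).ne_top (top_le_iff.mp h1)
  have : Nontrivial (Rp ⧸ I) := Ideal.Quotient.nontrivial_iff.mpr hne
  have : IsLocalRing (Rp ⧸ I) :=
    IsLocalRing.of_surjective' (Ideal.Quotient.mk I) Ideal.Quotient.mk_surjective
  have hle : maximalIdeal (Rp ⧸ I) ≤ (maximalIdeal Rp).map (Ideal.Quotient.mk I) := by
    intro a ha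
    obtain ⟨z, rfl⟩ := Ideal.Quotient.mk_surjective a
    refine Ideal.mem_map_of_mem _ ?_
    rw [IsLocalRing.mem_maximalIdeal, mem_nonunits_iff] at ha ⊢
    exact fun hz => ha (hz.map _)
  have hnil : IsNilpotent (maximalIdeal (Rp ⧸ I)) := by
    refine ⟨n, ?_⟩
    rw [Ideal.zero_eq_bot, eq_bot_iff]
    calc (maximalIdeal (Rp ⧸ I)) ^ n ≤ ((maximalIdeal Rp).map (Ideal.Quotient.mk I)) ^ n :=
          Ideal.pow_right_mono hle n
      _ = I.map (Ideal.Quotient.mk I) := by rw [← Ideal.map_pow, hIm]
      _ = ⊥ := Ideal.map_quotient_self I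
  let K := ResidueField (Rp ⧸ I)
  have hsurj : Function.Surjective (algebraMap Rp K) := by
    have : algebraMap Rp K = (residue (Rp ⧸ I)).comp (Ideal.Quotient.mk I) := rfl
    rw [this]
    exact (residue_surjective).comp Ideal.Quotient.mk_surjective
  let f : S →ₗ[R] S := LinearMap.mulLeft R t
  have hinjK : Function.Injective (f.lTensor K) := lTensor_mulLeft_injective p K hsurj ht
  have hinj2 : Function.Injective ((f.baseChange (Rp ⧸ I)).lTensor K) := by
    have h1 : ((f.baseChange (Rp ⧸ I)).lTensor K : K ⊗[Rp ⧸ I] ((Rp ⧸ I) ⊗[R] S) → _) =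
        ((f.baseChange (Rp ⧸ I)).baseChange K) := by
      rw [LinearMap.baseChange_eq_ltensor]
    rw [h1, LinearMap.baseChange_baseChange]
    simp only [LinearMap.coe_comp, LinearEquiv.coe_coe]
    refine (LinearEquiv.injective _).comp (Function.Injective.comp ?_ (LinearEquiv.injective _))
    rw [LinearMap.baseChange_eq_ltensor]
    exact hinjK
  have hinj : Function.Injective (f.baseChange (Rp ⧸ I)) :=
    Groth.Agent.Lib.ArtinianFlat.injective_of_lTensor_injective hnil _ hinj2
  apply hinj
  rw [map_zero, LinearMap.baseChange_tmul]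
  exact h

/-- Symbolic powers commute with flat extensions along which the prime stays prime. -/
theorem symbolicPower_map_eq (n : ℕ) :
    (((p ^ n).map (algebraMap R (Localization.AtPrime p))).comap
        (algebraMap R (Localization.AtPrime p))).map (algebraMap R S) =
      (((p.map (algebraMap R S)) ^ n).map
        (algebraMap S (Localization.AtPrime (p.map (algebraMap R S))))).comap
        (algebraMap S (Localization.AtPrime (p.map (algebraMap R S)))) := by
  rcases eq_or_ne n 0 with rfl | hn
  · simp [Ideal.one_eq_top, Ideal.map_top, Ideal.comap_top]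
  apply le_antisymm
  · rw [Ideal.map_le_iff_le_comap]
    intro r hr
    rw [mem_comap_map_atPrime_iff] at hr
    obtain ⟨s, hs, hsr⟩ := hr
    rw [Ideal.mem_comap, mem_comap_map_atPrime_iff]
    refine ⟨algebraMap R S s, algebraMap_notMem_map_of_notMem p hq.ne_top hs, ?_⟩
    rw [← map_mul, ← Ideal.map_pow]
    exact Ideal.mem_map_of_mem _ hsr
  · intro x hx
    rw [mem_comap_map_atPrime_iff] at hx
    obtain ⟨t, ht, htx⟩ := hx
    rw [← Ideal.map_pow] at htx
    have hann : annOf R (1 : Localization.AtPrime p ⧸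
          (p ^ n).map (algebraMap R (Localization.AtPrime p))) =
        ((p ^ n).map (algebraMap R (Localization.AtPrime p))).comap
          (algebraMap R (Localization.AtPrime p)) := by
      ext a
      have h0 : a • (1 : Localization.AtPrime p ⧸
          (p ^ n).map (algebraMap R (Localization.AtPrime p))) =
          Ideal.Quotient.mk _ (algebraMap R (Localization.AtPrime p) a) := by
        rw [Algebra.algebraMap_eq_smul_one]
        rfl
      rw [mem_annOf, h0, Ideal.mem_comap, Ideal.Quotient.eq_zero_iff_mem]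
    have h1 : (1 : Localization.AtPrime p ⧸ (p ^ n).map (algebraMap R (Localization.AtPrime p)))
        ⊗ₜ[R] (t * x) = 0 := by
      have h0 : (t * x) ⊗ₜ[R] (1 : Localization.AtPrime p ⧸
          (p ^ n).map (algebraMap R (Localization.AtPrime p))) = 0 := by
        apply tmul_eq_zero_of_mem_map
        refine Ideal.map_mono ?_ htx
        rw [hann]
        exact Ideal.le_comap_map
      simpa using congrArg (TensorProduct.comm R S _) h0
    have h2 := one_tmul_eq_zero_of_one_tmul_mul_eq_zero p n hn ht h1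
    have h3 : x ⊗ₜ[R] (1 : Localization.AtPrime p ⧸
        (p ^ n).map (algebraMap R (Localization.AtPrime p))) = 0 := by
      simpa using congrArg (TensorProduct.comm R _ S) h2
    have h4 := mem_map_annOf_of_tmul_eq_zero _ x h3
    rwa [hann] at h4

end Main

end Groth.Agent.Lib.SymbPowFlat88
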