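import Groth.Agent.Lib.SyntRelGCI89
import Groth.Agent.Lib.KoszulAtLCI
import Groth.Agent.Lib.SyntFibre
import Groth.Agent.S9147

/-!
# Charts for syntomic morphisms (helper89)

* `isSyntomic_toAlgebra_iff`: hom form of `Synt.IsSyntomic`.
* `exists_chart_of_isSyntomicAt`: if `f` is syntomic at `x`, then for EVERY affine open `V ∋ f x`
  there is an affine open `U ∋ x` over `V` with `Γ(V) → Γ(U)` syntomic.
-/

set_option autoImplicit false
set_option linter.style.haveILetI false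
universe u

open CategoryTheory CategoryTheory.Limits AlgebraicGeometry TopologicalSpace

namespace Groth.Agent.Lib.SyntChart89

open Groth.Agent.Lib.LCIMaps Groth.Agent.Lib.KoszulAtLCI Groth.Agent.Lib.SyntLCI
  Groth.Agent.Lib.SyntFibre

section Hom

variable {A B A' B' : Type u} [CommRing A] [CommRing B] [CommRing A'] [CommRing B']

/-- syntomic ring homomorphism, hom form -/
def SyntHom (φ : A →+* B) : Prop := φ.Flat ∧ LCIHom φ

theorem isSyntomic_toAlgebra_iff (φ : A →+* B) :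
    (@Synt.IsSyntomic A _ B _ φ.toAlgebra) ↔ SyntHom φ := by
  letI := φ.toAlgebra
  rw [isSyntomic_iff]
  rfl

theorem syntHom_algebraMap [Algebra A B] : SyntHom (algebraMap A B) ↔ Synt.IsSyntomic A B := by
  rw [← isSyntomic_toAlgebra_iff, toAlgebra_algebraMap]

theorem SyntHom.comp_equiv {φ : A →+* B} (h : SyntHom φ) (σ : A' ≃+* A) (τ : B ≃+* B') :
    SyntHom ((τ : B →+* B').comp (φ.comp (σ : A' →+* A))) := by
  refine ⟨?_, (lciHom_ringEquiv_comp h.2 σ).comp_ringEquiv τ⟩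
  exact RingHom.Flat.comp (RingHom.Flat.comp (RingHom.Flat.of_bijective σ.bijective) h.1)
    (RingHom.Flat.of_bijective τ.bijective)

theorem syntHom_respectsIso :
    RingHom.RespectsIso (fun {A B : Type u} [CommRing A] [CommRing B] (φ : A →+* B) =>
      SyntHom φ) := by
  constructor
  · intro R S T _ _ _ f e hf
    have := hf.comp_equiv (RingEquiv.refl R) e
    simpa using this
  · intro R S T _ _ _ f e hf
    have := hf.comp_equiv e (RingEquiv.refl T)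
    simpa using this

end Hom

section Chart

variable {X S : Scheme.{u}}

theorem comp_ι_appLE (f : X ⟶ S) (U₀ : X.Opens) (V : S.Opens) (W' : (U₀ : Scheme.{u}).Opens)
    (e'' : W' ≤ (U₀.ι ≫ f) ⁻¹ᵁ V) (e1 : U₀.ι ''ᵁ W' ≤ f ⁻¹ᵁ V) :
    (U₀.ι ≫ f).appLE V W' e'' = f.appLE V (U₀.ι ''ᵁ W') e1 := by
  rw [Scheme.Hom.comp_appLE]
  have h1 : U₀.ι.appLE (f ⁻¹ᵁ V) W' e'' = X.presheaf.map (homOfLE e1).op :=
    Scheme.Opens.ι_appLE U₀ (f ⁻¹ᵁ V) W' e''
  rw [h1]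
  rfl

theorem exists_chart_of_isSyntomicAt (f : X ⟶ S) (x : X) (hx : Synt.IsSyntomicAt f x)
    {V : S.Opens} (hV : IsAffineOpen V) (hxV : f x ∈ V) :
    ∃ (U : X.Opens) (_ : IsAffineOpen U) (e : U ≤ f ⁻¹ᵁ V), x ∈ U ∧
      SyntHom (f.appLE V U e).hom := by
  obtain ⟨U₀, V₀, e₀, hxU₀, hsyn⟩ := hx
  rw [isSyntomic_toAlgebra_iff] at hsyn
  let h : (U₀.1 : Scheme.{u}) ⟶ S := U₀.1.ι ≫ f
  haveI : IsAffine (U₀.1 : Scheme.{u}) := U₀.2
  have hTop : IsAffineOpen (⊤ : (U₀.1 : Scheme.{u}).Opens) := isAffineOpen_top _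
  have e' : (⊤ : (U₀.1 : Scheme.{u}).Opens) ≤ h ⁻¹ᵁ V₀.1 := by
    intro y _
    exact e₀ y.2
  -- the chart `(⊤, V₀)` of `h`
  have hchart : SyntHom (h.appLE V₀.1 ⊤ e').hom := by
    have h1 : h.appLE V₀.1 ⊤ e' = f.appLE V₀.1 (U₀.1.ι ''ᵁ ⊤)
        (by rw [Scheme.Opens.ι_image_top]; exact e₀) := comp_ι_appLE f U₀.1 V₀.1 ⊤ e' _
    rw [h1]
    exact (Scheme.Hom.appLE_congr f e₀ rfl (Scheme.Opens.ι_image_top U₀.1).symm
      (fun φ => SyntHom φ.hom)).mp hsyn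
  have hflat : Flat h := by
    rw [HasRingHomProperty.iff_exists_appLE (P := @Flat)
      (RingHom.Flat.stableUnderComposition.stableUnderCompositionWithLocalizationAway
        RingHom.Flat.holdsForLocalizationAway).left]
    intro y
    exact ⟨V₀, ⟨⊤, hTop⟩, trivial, e', hchart.1⟩
  let x' : (U₀.1 : Scheme.{u}) := ⟨x, hxU₀⟩
  have hK : Synt.IsKoszulAt h x' :=
    isKoszulAt_of_lciHom h x' hTop V₀.2 e' trivial hchart.2
  have hxV' : h x' ∈ V := hxV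
  obtain ⟨W', hW', e'', hxW', hl⟩ := exists_lciHom_of_isKoszulAt h x' hK hV hxV'
  have hfl := h.flat_appLE hV hW' e''
  have e1 : U₀.1.ι ''ᵁ W' ≤ f ⁻¹ᵁ V := by
    rintro _ ⟨y, hy, rfl⟩
    exact e'' hy
  have h2 : h.appLE V W' e'' = f.appLE V (U₀.1.ι ''ᵁ W') e1 := comp_ι_appLE f U₀.1 V W' e'' e1
  refine ⟨U₀.1.ι ''ᵁ W', hW'.image_of_isOpenImmersion _, e1, ⟨x', hxW', rfl⟩, ?_⟩
  rw [← h2]
  exact ⟨hfl, hl⟩

/-- an isomorphism of arrows of schemes induces an isomorphism of the arrows of global sections -/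
noncomputable def arrowAppTopIso {X Y X' Y' : Scheme.{u}} (g : X ⟶ Y) (g' : X' ⟶ Y')
    (i₁ : X ≅ X') (i₂ : Y ≅ Y') (hcomm : i₁.hom ≫ g' = g ≫ i₂.hom) :
    Arrow.mk g.appTop ≅ Arrow.mk g'.appTop :=
  Arrow.isoMk (Scheme.Γ.mapIso i₂.symm.op) (Scheme.Γ.mapIso i₁.symm.op) (by
    change i₂.inv.appTop ≫ g'.appTop = g.appTop ≫ i₁.inv.appTop
    rw [← Scheme.Hom.comp_appTop, ← Scheme.Hom.comp_appTop]
    congr 1
    rw [Iso.comp_inv_eq, Category.assoc, ← hcomm, Iso.inv_hom_id_assoc])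

/-- a standard syntomic restriction gives a syntomic ring map on sections -/
theorem syntHom_appLE_of_isStandardSyntomic (f : X ⟶ S) {U : X.Opens} {V : S.Opens}
    (e : U ≤ f ⁻¹ᵁ V) (h : Synt.IsStandardSyntomic (f.resLE V U e)) :
    SyntHom (f.appLE V U e).hom := by
  obtain ⟨R, _, n, c, F, hF, e₁, e₂, hcomm⟩ := h
  have hsyn : SyntHom (algebraMap R (Synt.RelGCIRing R n c F)) :=
    syntHom_algebraMap.mpr (Groth.Agent.S9147.result R n c F hF)
  rw [← syntHom_respectsIso.arrow_mk_iso_iff (arrowResLEAppIso f V U e),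
    syntHom_respectsIso.arrow_mk_iso_iff (arrowAppTopIso _ _ e₁ e₂ hcomm),
    ← syntHom_respectsIso.arrow_mk_iso_iff (arrowIsoΓSpecOfIsAffine _)]
  exact hsyn

/-- a syntomic chart can be shrunk to a standard syntomic chart -/
theorem exists_isStandardSyntomic_of_syntHom (f : X ⟶ S) (x : X) {U₁ : X.Opens} {V : S.Opens}
    (hU₁ : IsAffineOpen U₁) (hV : IsAffineOpen V) (e₁ : U₁ ≤ f ⁻¹ᵁ V) (hx : x ∈ U₁)
    (h : SyntHom (f.appLE V U₁ e₁).hom) :
    ∃ (U : X.Opens) (_ : IsAffineOpen U) (e : U ≤ f ⁻¹ᵁ V), x ∈ U ∧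
      Synt.IsStandardSyntomic (f.resLE V U e) := by
  letI algA : Algebra Γ(S, V) Γ(X, U₁) := (f.appLE V U₁ e₁).hom.toAlgebra
  have hsyn : Synt.IsSyntomic Γ(S, V) Γ(X, U₁) := (isSyntomic_toAlgebra_iff _).mpr h
  haveI : (hU₁.primeIdealOf ⟨x, hx⟩).asIdeal.IsPrime := (hU₁.primeIdealOf ⟨x, hx⟩).2
  obtain ⟨g, hg, n, c, F, hF, ⟨ε⟩⟩ :=
    Groth.Agent.Lib.SyntRelGCI89.exists_relGCI_of_isSyntomic hsyn
      (hU₁.primeIdealOf ⟨x, hx⟩).asIdeal
  have hle : X.basicOpen g ≤ U₁ := X.basicOpen_le g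
  have e : X.basicOpen g ≤ f ⁻¹ᵁ V := hle.trans e₁
  have hU : IsAffineOpen (X.basicOpen g) := hU₁.basicOpen g
  refine ⟨X.basicOpen g, hU, e,
    (Groth.Agent.Lib.KoszulLocusBC.mem_basicOpen_iff_notMem_primeIdealOf hU₁ x hx g).mpr hg, ?_⟩
  haveI := hU₁.isLocalization_basicOpen g
  let lam : Γ(X, X.basicOpen g) ≃ₐ[Γ(X, U₁)] Localization.Away g :=
    IsLocalization.algEquiv (Submonoid.powers g) _ _
  let τ : Synt.RelGCIRing Γ(S, V) n c F ≃+* Γ(X, X.basicOpen g) :=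
    ε.symm.toRingEquiv.trans lam.symm.toRingEquiv
  have hτ : CommRingCat.ofHom (algebraMap Γ(S, V) (Synt.RelGCIRing Γ(S, V) n c F)) ≫
      τ.toCommRingCatIso.hom = f.appLE V (X.basicOpen g) e := by
    ext a
    change lam.symm (ε.symm (algebraMap Γ(S, V) (Synt.RelGCIRing Γ(S, V) n c F) a)) = _
    rw [ε.symm.commutes, IsScalarTower.algebraMap_apply Γ(S, V) Γ(X, U₁) (Localization.Away g),
      lam.symm.commutes]
    have h1 := Scheme.Hom.appLE_map f e₁ (homOfLE hle).op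
    rw [← h1]
    rfl
  refine ⟨Γ(S, V), inferInstance, n, c, F, hF,
    hU.isoSpec ≪≫ Scheme.Spec.mapIso τ.toCommRingCatIso.op, hV.isoSpec, ?_⟩
  change (hU.isoSpec.hom ≫ Spec.map τ.toCommRingCatIso.hom) ≫ Spec.map _ = _
  rw [Category.assoc, ← Spec.map_comp, hτ]
  exact Scheme.Opens.toSpecΓ_SpecMap_appLE f V (X.basicOpen g) e

end Chart

end Groth.Agent.Lib.SyntChart89
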