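import Groth.Agent.Lib.LCIBaseChange
import Groth.Agent.Lib.H8LCICM
import Groth.Agent.Lib.GlobalCI
import Groth.Agent.S15821

/-!
# Complete intersections over a field are local complete intersection ring maps (helper19)

Namespace `Groth.Agent.Lib.SyntLCI`.

* `exists_genAt_of_atPrime` : `P` of finite presentation over a field, `I P_Q` generated by a Koszul-regular sequence ⇒
  `I P_G` generated by a Koszul-regular sequence for some `G ∉ Q`.
* `isLCI_of_isGlobalCI`, `isLCI_of_isLCIOver` : `Synt.IsGlobalCI k S → LCI.IsLCI k S`, `Synt.IsLCIOver k S → LCI.IsLCI k S`.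
-/

set_option autoImplicit false
set_option linter.style.haveILetI false
universe u
open CategoryTheory CategoryTheory.Limits TensorProduct Function MvPolynomial

namespace Groth.Agent.Lib.SyntLCI

open Groth.Agent.Lib.KoszulIdeal Groth.Agent.Lib.FibreKR4

section spread

/-- spreading out Koszul-regular generation from a local ring of a finitely presented algebra over a field -/
theorem exists_genAt_of_atPrime (k : Type u) {P : Type u} [Field k] [CommRing P] [Algebra k P]
    [Algebra.FinitePresentation k P] (I : Ideal P) (Q : Ideal P) [Q.IsPrime]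
    (l : List (Localization.AtPrime Q)) (hl : LCI.IsKoszulRegularSeq (Localization.AtPrime Q) l)
    (hIl : I.map (algebraMap P (Localization.AtPrime Q)) = Ideal.ofList l) :
    ∃ G : P, G ∉ Q ∧ GenAt I G := by
  haveI : IsNoetherianRing P := Algebra.FiniteType.isNoetherianRing k P
  have hI : I.FG := IsNoetherian.noetherian I
  have hJ : (⊥ : Ideal k).map (algebraMap k P) = ⊥ := Ideal.map_bot
  let T := Localization.AtPrime Q
  have h0 : ∀ x ∈ (⊥ : Ideal k).map (algebraMap k P), algebraMap P T x = 0 := by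
    intro x hx
    rw [hJ] at hx
    rw [(Ideal.mem_bot).mp hx, map_zero]
  letI : Algebra (P ⧸ (⊥ : Ideal k).map (algebraMap k P)) T :=
    (Ideal.Quotient.lift _ (algebraMap P T) h0).toAlgebra
  haveI : IsScalarTower P (P ⧸ (⊥ : Ideal k).map (algebraMap k P)) T :=
    IsScalarTower.of_algebraMap_eq (fun _ => rfl)
  haveI hloc : IsLocalization (Q.primeCompl.map (Ideal.Quotient.mk ((⊥ : Ideal k).map (algebraMap k P)))) T := by
    refine IsLocalization.of_surjective Q.primeCompl T (Ideal.Quotient.mk _) Ideal.Quotient.mk_surjective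
      (RingHom.id T) (fun x => ⟨x, rfl⟩) ?_ ?_
    · ext x
      rfl
    · intro x hx
      have : x = 0 := hx
      rw [this]
      exact Ideal.zero_mem _
  haveI : Module.Flat (P ⧸ (⊥ : Ideal k).map (algebraMap k P)) T := IsLocalization.flat T
      (Q.primeCompl.map (Ideal.Quotient.mk ((⊥ : Ideal k).map (algebraMap k P))))
  refine exists_genAt_of_test I (⊥ : Ideal k) Q hI (by rw [hJ]; exact bot_le) ?_ l hl hIl
  exact (IsLocalization.AtPrime.under_maximalIdeal T Q).symm

end spread

section field

variable {k : Type u} [Field k]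

/-- the unit ideal is Koszul-regular -/
theorem isKoszulRegularIdeal_top {A : Type u} [CommRing A] : LCI.IsKoszulRegularIdeal (⊤ : Ideal A) := by
  intro 𝔭 h𝔭
  exact absurd (top_le_iff.mp h𝔭) 𝔭.2.ne_top

/-- a global complete intersection over a field is a local complete intersection ring map -/
theorem isLCI_of_isGlobalCI {S : Type u} [CommRing S] [Algebra k S] (h : Synt.IsGlobalCI k S) :
    LCI.IsLCI k S := by
  rcases h with hs | ⟨n, c, hcn, φ, r, hsurj, hker, hdim⟩
  · let φ : MvPolynomial (Fin 0) k →ₐ[k] S := aeval (fun _ => 0)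
    have hφ : Function.Surjective φ := fun s => ⟨0, Subsingleton.elim _ _⟩
    refine ⟨Algebra.FiniteType.of_surjective φ hφ, 0, φ, hφ, ?_⟩
    have : RingHom.ker φ.toRingHom = ⊤ := by
      rw [Ideal.eq_top_iff_one, RingHom.mem_ker]
      exact Subsingleton.elim _ _
    rw [this]
    exact isKoszulRegularIdeal_top
  · refine ⟨Algebra.FiniteType.of_surjective φ hsurj, n, φ, hsurj, ?_⟩
    rw [isKoszulRegularIdeal_iff]
    intro 𝔭 h𝔭
    have hker' : RingHom.ker φ.toRingHom = Ideal.ofList (List.ofFn r) := by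
      rw [hker, Groth.Agent.Lib.H8LCICM.ofList_ofFn]
    have e : (MvPolynomial (Fin n) k ⧸ Ideal.ofList (List.ofFn r)) ≃+* S :=
      (Ideal.quotEquivOfEq hker'.symm).trans
        (RingHom.quotientKerEquivOfSurjective (f := φ.toRingHom) hsurj)
    have hB : ∀ (Q : Ideal (MvPolynomial (Fin n) k)) [Q.IsPrime],
        (Q.height : WithBot ℕ∞) + ringKrullDim (MvPolynomial (Fin n) k ⧸ Q) = n := by
      intro Q _
      rw [Groth.Agent.Lib.FTDim.height_add_ringKrullDim_quotient k _ Q,
        Groth.Agent.Lib.FTDim.ringKrullDim_mvPolynomial]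
    have hdim' : ringKrullDim (MvPolynomial (Fin n) k ⧸ Ideal.ofList (List.ofFn r)) +
        (List.ofFn r).length ≤ n := by
      rw [ringKrullDim_eq_of_ringEquiv e, hdim, List.length_ofFn]
      have : (n - c) + c ≤ n := by omega
      exact_mod_cast this
    haveI := 𝔭.2
    have hreg := Groth.Agent.Lib.H8LCICM.isRegular_localization n hB (List.ofFn r) hdim' 𝔭.asIdeal
      (by rw [← hker']; exact h𝔭)
    have hkr := (Groth.Agent.S15821.result _ _ hreg.toIsWeaklyRegular).1
    refine exists_genAt_of_atPrime k _ 𝔭.asIdeal _ hkr ?_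
    rw [hker', Ideal.map_ofList]

/-- a local complete intersection over a field is a local complete intersection ring map -/
theorem isLCI_of_isLCIOver {S : Type u} [CommRing S] [Algebra k S] (h : Synt.IsLCIOver k S) :
    LCI.IsLCI k S := by
  obtain ⟨hft, hloc⟩ := h
  obtain ⟨n, α, hα⟩ := Algebra.FiniteType.iff_quotient_mvPolynomial''.mp hft
  refine ⟨hft, n, α, hα, ?_⟩
  rw [isKoszulRegularIdeal_iff]
  intro 𝔭 h𝔭
  haveI := 𝔭.2
  let p : PrimeSpectrum S := ⟨𝔭.asIdeal.map α.toRingHom, Ideal.map_isPrime_of_surjective hα h𝔭⟩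
  obtain ⟨g, hg, hCI⟩ := hloc p
  obtain ⟨gt, rfl⟩ := hα g
  have hgt : gt ∉ 𝔭.asIdeal := fun h => hg (Ideal.mem_map_of_mem _ h)
  exact Groth.Agent.S9253.genAt_of_isLCI_away n α hα gt (isLCI_of_isGlobalCI hCI) 𝔭 h𝔭 hgt

end field

end Groth.Agent.Lib.SyntLCI
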