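import Groth.Agent.Lib.SyntLCI3

/-!
# Fibrewise criterion for local complete intersection ring maps, chart form (helper19)

Namespace `Groth.Agent.Lib.SyntLCI`.

* `isLCI_of_fibres` : `R → B` flat of finite presentation; if every prime of `B` lifts to a pushout `B'' = B ⊗_R k` with `k` a
  field and `k → B''` a local complete intersection, then `R → B` is a local complete intersection.
-/

set_option autoImplicit false
set_option linter.style.haveILetI false
universe u
open CategoryTheory CategoryTheory.Limits TensorProduct Function MvPolynomial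

namespace Groth.Agent.Lib.SyntLCI

open Groth.Agent.Lib.KoszulIdeal Groth.Agent.Lib.FibreKR5 Groth.Agent.Lib.PresBC
  Groth.Agent.Lib.LCIBaseChange Groth.Agent.Lib.LCIMaps

attribute [local instance] MvPolynomial.algebraMvPolynomial

/-- **fibrewise criterion for local complete intersections, chart form** -/
theorem isLCI_of_fibres {R B : Type u} [CommRing R] [CommRing B] [Algebra R B] [Module.Flat R B]
    [Algebra.FinitePresentation R B]
    (H : ∀ 𝔮B : PrimeSpectrum B, ∃ (k : Type u) (_ : Field k) (ρ : R →+* k) (B'' : Type u)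
      (_ : CommRing B'') (β : B →+* B'') (κ : k →+* B''),
      IsPushout (CommRingCat.ofHom (algebraMap R B)) (CommRingCat.ofHom ρ) (CommRingCat.ofHom β)
        (CommRingCat.ofHom κ) ∧ LCIHom κ ∧ ∃ q : Ideal B'', q.IsPrime ∧ q.comap β = 𝔮B.asIdeal) :
    LCI.IsLCI R B := by
  have hft : Algebra.FiniteType R B := inferInstance
  obtain ⟨n, α, hα⟩ := Algebra.FiniteType.iff_quotient_mvPolynomial''.mp hft
  refine ⟨hft, n, α, hα, ?_⟩
  rw [isKoszulRegularIdeal_iff]
  intro 𝔮 h𝔮
  haveI := 𝔮.2
  let 𝔮B : PrimeSpectrum B := ⟨𝔮.asIdeal.map α.toRingHom, Ideal.map_isPrime_of_surjective hα h𝔮⟩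
  obtain ⟨k, _, ρ, B'', _, β, κ, hpo, hl, q, hqprime, hq⟩ := H 𝔮B
  letI : Algebra R k := ρ.toAlgebra
  letI : Algebra B B'' := β.toAlgebra
  letI : Algebra k B'' := κ.toAlgebra
  letI : Algebra R B'' := (β.comp (algebraMap R B)).toAlgebra
  haveI : IsScalarTower R B B'' := IsScalarTower.of_algebraMap_eq (fun _ => rfl)
  haveI : IsScalarTower R k B'' := IsScalarTower.of_algebraMap_eq fun r => by
    have := congrArg (fun φ => φ.hom r) hpo.w
    exact this
  haveI : Algebra.IsPushout R B k B'' := CommRingCat.isPushout_iff_isPushout.mp hpo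
  have hLCI : LCI.IsLCI k B'' := hl
  have hα'' := presBC_surjective (A' := k) (B' := B'') α hα
  obtain ⟨-, m, β', hβ', hKβ⟩ := hLCI
  have hK'' := Groth.Agent.S9269.result k B'' m n β' hβ' (presBC k B'' α) hα'' hKβ
  rw [ker_presBC α hα] at hK''
  -- the prime upstairs
  let q'' : Ideal (MvPolynomial (Fin n) k) := q.comap (presBC k B'' α).toRingHom
  haveI : q''.IsPrime := Ideal.comap_isPrime _ _
  have hq'' : q''.comap (algebraMap (MvPolynomial (Fin n) R) (MvPolynomial (Fin n) k)) = 𝔮.asIdeal := by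
    ext x
    rw [Ideal.mem_comap, Ideal.mem_comap]
    show presBC k B'' α (mapP k x) ∈ q ↔ _
    rw [presBC_mapP]
    show α x ∈ q.comap β ↔ _
    rw [hq]
    show α.toRingHom x ∈ 𝔮.asIdeal.map α.toRingHom ↔ _
    rw [Ideal.mem_map_iff_of_surjective α.toRingHom hα]
    constructor
    · rintro ⟨y, hy, hxy⟩
      have : x - y ∈ RingHom.ker α.toRingHom := by
        rw [RingHom.mem_ker, map_sub, sub_eq_zero]
        exact hxy.symm
      have h2 := Ideal.add_mem _ (h𝔮 this) hy
      rwa [sub_add_cancel] at h2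
    · intro hx
      exact ⟨x, hx, rfl⟩
  have hle : (RingHom.ker α.toRingHom).map
      (mapP k : MvPolynomial (Fin n) R →ₐ[R] _).toRingHom ≤ q'' := by
    rw [Ideal.map_le_iff_le_comap]
    intro x hx
    have : x ∈ q''.comap (algebraMap (MvPolynomial (Fin n) R) (MvPolynomial (Fin n) k)) := by
      rw [hq'']
      exact h𝔮 hx
    exact this
  obtain ⟨G'', hG'', hGen''⟩ := (isKoszulRegularIdeal_iff _).mp hK'' ⟨q'', inferInstance⟩ hle
  have hI : (RingHom.ker α.toRingHom).FG := Algebra.FinitePresentation.ker_fG_of_surjective α hα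
  haveI : Module.Flat R (MvPolynomial (Fin n) R ⧸ RingHom.ker α.toRingHom) :=
    flat_quotient_ker (R := R) (A := R) α hα
  obtain ⟨G, hG, hGen⟩ := exists_genAt_of_field (R := R) (P := MvPolynomial (Fin n) R)
    (RingHom.ker α.toRingHom) k (MvPolynomial (Fin n) k) hI q'' G'' hG'' hGen''
  rw [hq''] at hG
  exact ⟨G, hG, hGen⟩

end Groth.Agent.Lib.SyntLCI
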