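import Mathlib.RingTheory.Flat.EquationalCriterion
import Mathlib.RingTheory.Nakayama
import Mathlib.RingTheory.LocalRing.MaximalIdeal.Basic
import Mathlib.RingTheory.Jacobson.Ideal
import Mathlib.LinearAlgebra.Matrix.NonsingularInverse
import Mathlib.RingTheory.Ideal.Maps
import Mathlib.RingTheory.Ideal.BigOperators
import Mathlib.RingTheory.Regular.RegularSequence

/-!
# Lifting syntomic algebras along a quotient: the local generation lemma (helper19)

Namespace `Groth.Agent.Lib.SyntLift19`.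

* `flat_rel`: the "projector controls relations" property `hE3` passes to flat algebras (for exact relations).
* `exists_local_gens`: in a local ring `Λ'` over a quotient `Λ₀` flat over `Q₀`, the ideal generated by the projected
  lifts `b = πᵀ a'` is generated by as many elements as the ideal `J₀ Λ₀` downstairs, and these reduce to generators
  of `J₀ Λ₀`.
-/

set_option autoImplicit false
universe u

namespace Groth.Agent.Lib.SyntLift19

section flatRel

variable {Q₀ Λ₀ : Type u} [CommRing Q₀] [CommRing Λ₀] [Algebra Q₀ Λ₀] [Module.Flat Q₀ Λ₀]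
  {m : ℕ} (J₀ : Ideal Q₀) (a : Fin m → Q₀) (E : Matrix (Fin m) (Fin m) Q₀)

include J₀ in
theorem flat_rel
    (hE3 : ∀ u : Fin m → Q₀, ∑ k, u k * a k ∈ J₀ ^ 2 → ∀ i, ∑ k, E i k * u k ∈ J₀)
    (u : Fin m → Λ₀) (hu : ∑ k, u k * algebraMap Q₀ Λ₀ (a k) = 0) (i : Fin m) :
    ∑ k, algebraMap Q₀ Λ₀ (E i k) * u k ∈ J₀.map (algebraMap Q₀ Λ₀) := by
  have h0 : ∑ k, a k • u k = 0 := by
    rw [← hu]
    refine Finset.sum_congr rfl fun k _ => ?_
    rw [Algebra.smul_def, mul_comm]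
  obtain ⟨κ, v, y, hxy, hv⟩ := Module.Flat.isTrivialRelation_of_sum_smul_eq_zero h0
  have h1 : ∀ j : Fin κ, ∑ k, E i k * v k j ∈ J₀ := by
    intro j
    refine hE3 (fun k => v k j) ?_ i
    have : ∑ k, v k j * a k = 0 := by
      rw [← hv j]
      exact Finset.sum_congr rfl fun k _ => mul_comm _ _
    rw [this]
    exact Ideal.zero_mem _
  have h2 : ∑ k, algebraMap Q₀ Λ₀ (E i k) * u k =
      ∑ j, algebraMap Q₀ Λ₀ (∑ k, E i k * v k j) * y j := by
    simp only [hxy, Finset.mul_sum, map_sum, map_mul, Finset.sum_mul]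
    rw [Finset.sum_comm]
    refine Finset.sum_congr rfl fun j _ => Finset.sum_congr rfl fun k _ => ?_
    rw [Algebra.smul_def]
    ring
  rw [h2]
  exact Ideal.sum_mem _ fun j _ => Ideal.mul_mem_right _ _ (Ideal.mem_map_of_mem _ (h1 j))

end flatRel

section loc

variable {Q₀ Λ₀ Λ' : Type u} [CommRing Q₀] [CommRing Λ₀] [CommRing Λ'] [Algebra Q₀ Λ₀]
  [Module.Flat Q₀ Λ₀] [IsLocalRing Λ'] [IsLocalRing Λ₀]
  {m : ℕ} (J₀ : Ideal Q₀) (a : Fin m → Q₀) (E : Matrix (Fin m) (Fin m) Q₀)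
  (ρ : Λ' →+* Λ₀) (a' : Fin m → Λ') (π : Matrix (Fin m) (Fin m) Λ')

/-- the projected lifts -/
def bvec (k : Fin m) : Λ' := ∑ i, π i k * a' i

omit [IsLocalRing Λ'] in
theorem bvec_fixed (hπ2 : π * π = π) (k : Fin m) : ∑ l, π l k * bvec a' π l = bvec a' π k := by
  unfold bvec
  simp only [Finset.mul_sum]
  rw [Finset.sum_comm]
  refine Finset.sum_congr rfl fun i _ => ?_
  have h1 : (π * π) i k = π i k := by rw [hπ2]
  rw [Matrix.mul_apply] at h1
  rw [← h1, Finset.sum_mul]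
  refine Finset.sum_congr rfl fun l _ => ?_
  ring

omit [IsLocalRing Λ'] in
theorem sum_mul_bvec (hπ2 : π * π = π) (u : Fin m → Λ') :
    ∑ k, u k * bvec a' π k = ∑ l, (∑ k, π l k * u k) * bvec a' π l := by
  have h1 : ∑ k, u k * bvec a' π k = ∑ k, u k * ∑ l, π l k * bvec a' π l := by
    refine Finset.sum_congr rfl fun k _ => ?_
    rw [bvec_fixed a' π hπ2 k]
  rw [h1]
  simp only [Finset.mul_sum, Finset.sum_mul]
  rw [Finset.sum_comm]
  refine Finset.sum_congr rfl fun l _ => Finset.sum_congr rfl fun k _ => ?_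
  ring

include J₀ E in
theorem exists_local_gens (hJ₀ : J₀ = Ideal.span (Set.range a))
    (hE2 : ∀ k, ∑ i, E i k * a i - a k ∈ J₀ ^ 2)
    (hE3 : ∀ u : Fin m → Q₀, ∑ k, u k * a k ∈ J₀ ^ 2 → ∀ i, ∑ k, E i k * u k ∈ J₀)
    (hρ : Function.Surjective ρ) (ha' : ∀ k, ρ (a' k) = algebraMap Q₀ Λ₀ (a k))
    (hπ2 : π * π = π)
    (hπE : ∀ i k, ρ (π i k) - algebraMap Q₀ Λ₀ (E i k) ∈ J₀.map (algebraMap Q₀ Λ₀))
    (hJm : J₀.map (algebraMap Q₀ Λ₀) ≤ IsLocalRing.maximalIdeal Λ₀)
    (w : List Λ₀) (hw : Ideal.ofList w = J₀.map (algebraMap Q₀ Λ₀)) :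
    ∃ lam : Fin w.length → Λ', Ideal.span (Set.range lam) = Ideal.span (Set.range (bvec a' π)) ∧
      Ideal.span (Set.range (ρ ∘ lam)) = J₀.map (algebraMap Q₀ Λ₀) := by
  classical
  set 𝔍 : Ideal Λ₀ := J₀.map (algebraMap Q₀ Λ₀) with h𝔍
  set ab : Fin m → Λ₀ := fun k => algebraMap Q₀ Λ₀ (a k) with hab
  have h𝔍span : 𝔍 = Ideal.span (Set.range ab) := by
    rw [h𝔍, hJ₀, Ideal.map_span, ← Set.range_comp]
    rfl
  have habmem : ∀ k, ab k ∈ 𝔍 := fun k => by
    rw [h𝔍span]; exact Ideal.subset_span ⟨k, rfl⟩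
  have hsq : (J₀ ^ 2).map (algebraMap Q₀ Λ₀) = 𝔍 ^ 2 := Ideal.map_pow _ _ _
  -- (1) the reductions of `b` agree with `ab` modulo `𝔍²`
  have hb1 : ∀ k, ρ (bvec a' π k) - ab k ∈ 𝔍 ^ 2 := by
    intro k
    have e : ρ (bvec a' π k) - ab k =
        ∑ i, (ρ (π i k) - algebraMap Q₀ Λ₀ (E i k)) * ab i +
          algebraMap Q₀ Λ₀ (∑ i, E i k * a i - a k) := by
      simp only [bvec, map_sum, map_mul, map_sub, ha', sub_mul, Finset.sum_sub_distrib, hab]
      ring
    rw [e]
    refine Ideal.add_mem _ (Ideal.sum_mem _ fun i _ => ?_) ?_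
    · rw [pow_two]
      exact Ideal.mul_mem_mul (hπE i k) (habmem i)
    · rw [← hsq]
      exact Ideal.mem_map_of_mem _ (hE2 k)
  have hbmem : ∀ k, ρ (bvec a' π k) ∈ 𝔍 := fun k => by
    have h1 := hb1 k
    have h2 : ρ (bvec a' π k) = (ρ (bvec a' π k) - ab k) + ab k := by ring
    rw [h2]
    exact Ideal.add_mem _ (Ideal.pow_le_self two_ne_zero h1) (habmem k)
  -- (2) coefficients of `w` in terms of `ab`
  have hwmem : ∀ j : Fin w.length, w.get j ∈ 𝔍 := fun j => by
    rw [← hw]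
    exact Ideal.subset_span (List.get_mem w j)
  have h2 : ∀ j : Fin w.length, ∃ c : Fin m → Λ₀, ∑ k, c k * ab k = w.get j := fun j => by
    rw [← Ideal.mem_span_range_iff_exists_fun, ← h𝔍span]
    exact hwmem j
  choose M' hM' using h2
  choose Mt' hMt' using fun j k => hρ (M' j k)
  -- (4) coefficients of `ab` in terms of `w`
  have h4 : ∀ i : Fin m, ∃ c : Fin w.length → Λ₀, ∑ j, c j * w.get j = ab i := fun i => by
    rw [← Ideal.mem_span_range_iff_exists_fun, Set.range_list_get]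
    have := habmem i
    rw [← hw] at this
    exact this
  choose M hM using h4
  choose Mt hMt using fun i j => hρ (M i j)
  let lam : Fin w.length → Λ' := fun j => ∑ k, Mt' j k * bvec a' π k
  have hjac : 𝔍 ≤ Ideal.jacobson ⊥ := by
    rw [IsLocalRing.jacobson_eq_maximalIdeal ⊥ bot_ne_top]
    exact hJm
  have h𝔍fg : (𝔍 : Submodule Λ₀ Λ₀).FG := by
    rw [h𝔍span]
    exact ⟨Finset.univ.image ab, by simp⟩
  -- (3) the reductions of `lam` generate `𝔍`
  have hlam1 : ∀ j, ρ (lam j) - w.get j ∈ 𝔍 ^ 2 := by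
    intro j
    have e : ρ (lam j) - w.get j = ∑ k, M' j k * (ρ (bvec a' π k) - ab k) := by
      rw [← hM' j]
      simp only [lam, map_sum, map_mul, hMt', mul_sub, Finset.sum_sub_distrib]
    rw [e]
    exact Ideal.sum_mem _ fun k _ => Ideal.mul_mem_left _ _ (hb1 k)
  have hlam𝔍 : Ideal.span (Set.range (ρ ∘ lam)) ≤ 𝔍 := by
    rw [Ideal.span_le]
    rintro _ ⟨j, rfl⟩
    show ρ (lam j) ∈ 𝔍
    simp only [lam, map_sum, map_mul]
    exact Ideal.sum_mem _ fun k _ => Ideal.mul_mem_left _ _ (hbmem k)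
  have hsup : Ideal.ofList w ≤ Ideal.span (Set.range (ρ ∘ lam)) ⊔ 𝔍 • 𝔍 := by
    unfold Ideal.ofList
    rw [Ideal.span_le]
    intro x hx
    obtain ⟨j, rfl⟩ := List.mem_iff_get.mp hx
    have h5 : w.get j = ρ (lam j) - (ρ (lam j) - w.get j) := by ring
    rw [h5]
    refine Submodule.sub_mem _ (Submodule.mem_sup_left (Ideal.subset_span ⟨j, rfl⟩))
      (Submodule.mem_sup_right ?_)
    have := hlam1 j
    rw [pow_two] at this
    exact this
  have hgen : 𝔍 ≤ Ideal.span (Set.range (ρ ∘ lam)) :=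
    Submodule.le_of_le_smul_of_le_jacobson_bot (I := 𝔍) h𝔍fg hjac
      (le_trans (le_of_eq hw.symm) hsup)
  refine ⟨lam, le_antisymm ?_ ?_, le_antisymm hlam𝔍 hgen⟩
  · rw [Ideal.span_le]
    rintro _ ⟨j, rfl⟩
    exact Ideal.sum_mem _ fun k _ => Ideal.mul_mem_left _ _ (Ideal.subset_span ⟨k, rfl⟩)
  · -- Nakayama upstairs
    set 𝔎 : Ideal Λ' := Ideal.span (Set.range (bvec a' π)) with h𝔎
    have h𝔎fg : (𝔎 : Submodule Λ' Λ').FG := ⟨Finset.univ.image (bvec a' π), by simp [h𝔎]⟩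
    have hjac' : IsLocalRing.maximalIdeal Λ' ≤ Ideal.jacobson ⊥ := by
      rw [IsLocalRing.jacobson_eq_maximalIdeal ⊥ bot_ne_top]
    refine Submodule.le_of_le_smul_of_le_jacobson_bot (I := IsLocalRing.maximalIdeal Λ') h𝔎fg hjac' ?_
    rw [h𝔎, Ideal.span_le]
    rintro _ ⟨i, rfl⟩
    -- the relation vector
    let uu : Fin m → Λ' := fun k => (if i = k then 1 else 0) - ∑ j, Mt i j * Mt' j k
    have e1 : bvec a' π i = ∑ j, Mt i j * lam j + ∑ k, uu k * bvec a' π k := by
      simp only [uu, lam, sub_mul, Finset.sum_sub_distrib, ite_mul, one_mul, zero_mul,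
        Finset.sum_ite_eq, Finset.mem_univ, if_true, Finset.mul_sum, Finset.sum_mul]
      rw [Finset.sum_comm]
      have : ∀ k j, Mt i j * Mt' j k * bvec a' π k = Mt i j * (Mt' j k * bvec a' π k) :=
        fun k j => by ring
      simp only [this]
      ring
    have hrel : ∑ k, ρ (uu k) * algebraMap Q₀ Λ₀ (a k) = 0 := by
      have h6 : ∀ k, ρ (uu k) = (if i = k then 1 else 0) - ∑ j, M i j * M' j k := by
        intro k
        simp only [uu, map_sub, map_sum, map_mul, hMt, hMt']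
        split_ifs <;> simp
      simp only [h6, sub_mul, Finset.sum_sub_distrib, ite_mul, one_mul, zero_mul,
        Finset.sum_ite_eq, Finset.mem_univ, if_true, Finset.sum_mul]
      rw [Finset.sum_comm]
      have h7 : ∀ j, ∑ k, M i j * M' j k * algebraMap Q₀ Λ₀ (a k) = M i j * w.get j := by
        intro j
        rw [← hM' j, Finset.mul_sum]
        exact Finset.sum_congr rfl fun k _ => by simp only [hab]; ring
      simp only [h7]
      rw [hM i]
      simp [hab]
    have hπu : ∀ l, ∑ k, π l k * uu k ∈ IsLocalRing.maximalIdeal Λ' := by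
      intro l
      have h8 : ρ (∑ k, π l k * uu k) ∈ 𝔍 := by
        have e : ρ (∑ k, π l k * uu k) =
            ∑ k, (ρ (π l k) - algebraMap Q₀ Λ₀ (E l k)) * ρ (uu k) +
              ∑ k, algebraMap Q₀ Λ₀ (E l k) * ρ (uu k) := by
          simp only [map_sum, map_mul, sub_mul, Finset.sum_sub_distrib]
          ring
        rw [e]
        refine Ideal.add_mem _ (Ideal.sum_mem _ fun k _ => Ideal.mul_mem_right _ _ (hπE l k)) ?_
        exact flat_rel J₀ a E hE3 (fun k => ρ (uu k)) hrel l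
      by_contra hnot
      have hu : IsUnit (∑ k, π l k * uu k) := by
        by_contra hnu
        exact hnot ((IsLocalRing.mem_maximalIdeal _).mpr hnu)
      have hu' : IsUnit (ρ (∑ k, π l k * uu k)) := hu.map ρ
      exact (IsLocalRing.maximalIdeal.isMaximal Λ₀).ne_top
        (Ideal.eq_top_of_isUnit_mem _ (hJm h8) hu')
    rw [e1, sum_mul_bvec a' π hπ2 uu]
    refine Submodule.add_mem _ (Submodule.mem_sup_left ?_) (Submodule.mem_sup_right ?_)
    · exact Ideal.sum_mem _ fun j _ => Ideal.mul_mem_left _ _ (Ideal.subset_span ⟨j, rfl⟩)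
    · refine Submodule.sum_mem _ fun l _ => ?_
      exact Submodule.smul_mem_smul (hπu l) (Ideal.subset_span ⟨l, rfl⟩)

end loc

end Groth.Agent.Lib.SyntLift19
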