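import Groth.Agent.Lib.RegSeqFlat64
import Groth.Agent.Lib.RegSeqFibre64
import Groth.Agent.Lib.CMQF33b
import Groth.Agent.Lib.KoszulRelBC
import Groth.Agent.Lib.FibreKR5
import Groth.Agent.Lib.SyntLCI3
import Mathlib.RingTheory.LocalRing.ResidueField.Fiber

/-!
# Lifting syntomic algebras along a quotient: flatness at a prime (helper19)

Namespace `Groth.Agent.Lib.SyntLift19`.

`flat_atPrime_quotient`: `R → B` flat of finite presentation, `I ⊆ R`, `𝔮` a prime of `B` over `V(I)`, `K ⊆ 𝔮` an ideal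
whose extension to `B_𝔮` is generated by a sequence `lam` which is Koszul-regular in `B_𝔮 / I B_𝔮` with `R/I`-flat
quotient.  Then `B_𝔮 / K B_𝔮` is flat over `R`.
-/

set_option autoImplicit false
set_option maxHeartbeats 400000
set_option linter.style.haveILetI false
universe u

open RingTheory.Sequence
open scoped Pointwise TensorProduct

namespace Groth.Agent.Lib.SyntLift19

section generic

/-- flat maps stay flat modulo an ideal of the base -/
theorem flat_quotient_map {X Y : Type u} [CommRing X] [CommRing Y] [Algebra X Y] [Module.Flat X Y]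
    (𝔞 : Ideal X) : Module.Flat (X ⧸ 𝔞) (Y ⧸ 𝔞.map (algebraMap X Y)) :=
  Module.Flat.of_linearEquiv
    (Algebra.TensorProduct.quotIdealMapEquivQuotTensor Y 𝔞).toLinearEquiv

end generic

section noeth

variable {R B : Type u} [CommRing R] [CommRing B] [Algebra R B] [Algebra.FiniteType R B]

omit [Algebra.FiniteType R B] in
/-- a prime of `B` over `p` comes from a prime of the fibre -/
theorem exists_fibre_prime (p : Ideal R) [p.IsPrime] (𝔮 : Ideal B) [𝔮.IsPrime]
    (h𝔮 : 𝔮.under R = p) :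
    ∃ (Q : Ideal (p.Fiber B)) (_ : Q.IsPrime),
      Q.comap (Algebra.TensorProduct.includeRight : B →ₐ[R] p.Fiber B) = 𝔮 := by
  let e := PrimeSpectrum.preimageEquivFiber R B ⟨p, inferInstance⟩
  have hmem : (⟨𝔮, inferInstance⟩ : PrimeSpectrum B) ∈
      PrimeSpectrum.comap (algebraMap R B) ⁻¹' {⟨p, inferInstance⟩} := by
    rw [Set.mem_preimage, Set.mem_singleton_iff]
    exact PrimeSpectrum.ext h𝔮
  have h0 : (e ⟨⟨𝔮, inferInstance⟩, hmem⟩).asIdeal.comap
      (Algebra.TensorProduct.includeRight : B →ₐ[R] p.Fiber B) = 𝔮 :=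
    congr($(e.symm_apply_apply ⟨⟨𝔮, inferInstance⟩, hmem⟩).1.asIdeal)
  exact ⟨(e ⟨⟨𝔮, inferInstance⟩, hmem⟩).asIdeal, inferInstance, h0⟩

/-- the local ring of the fibre at a prime is Noetherian -/
theorem isNoetherianRing_atPrime_quotient (p : Ideal R) [p.IsPrime] (𝔮 : Ideal B) [𝔮.IsPrime]
    (h𝔮 : 𝔮.under R = p) :
    IsNoetherianRing (Localization.AtPrime 𝔮 ⧸ p.map (algebraMap R (Localization.AtPrime 𝔮))) := by
  obtain ⟨Q, hQ, hQ𝔮⟩ := exists_fibre_prime p 𝔮 h𝔮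
  subst hQ𝔮
  haveI : IsNoetherianRing (p.Fiber B) :=
    Algebra.FiniteType.isNoetherianRing p.ResidueField (p.Fiber B)
  haveI : IsNoetherianRing (Localization.AtPrime Q) :=
    IsLocalization.isNoetherianRing Q.primeCompl _ inferInstance
  have e := Ideal.Fiber.algEquivAux₂ p Q
  have hmm : (p.map (algebraMap R B)).map (algebraMap B (Localization.AtPrime
      (Q.comap (Algebra.TensorProduct.includeRight : B →ₐ[R] p.Fiber B)))) =
      p.map (algebraMap R (Localization.AtPrime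
      (Q.comap (Algebra.TensorProduct.includeRight : B →ₐ[R] p.Fiber B)))) := by
    rw [Ideal.map_map, ← IsScalarTower.algebraMap_eq]
  rw [← hmm]
  exact isNoetherianRing_of_ringEquiv _ e.toRingEquiv

end noeth

section flatAt

variable {R B : Type u} [CommRing R] [CommRing B] [Algebra R B] [Algebra.FinitePresentation R B]
  [Module.Flat R B] (I : Ideal R) (K : Ideal B) (𝔮 : Ideal B) [𝔮.IsPrime]
  {Λ₁ : Type u} [CommRing Λ₁] [Algebra (R ⧸ I) Λ₁] [Module.Flat (R ⧸ I) Λ₁]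

local notation "Λ'" => Localization.AtPrime 𝔮

omit [Algebra.FinitePresentation R B] [Module.Flat R B] [Module.Flat (R ⧸ I) Λ₁] in
/-- the fibre ring of a reduction `Λ₁` of `B_𝔮` modulo `I`, with its surjection from `B_𝔮` -/
theorem ker_fibre_map (hI𝔮 : I.map (algebraMap R B) ≤ 𝔮)
    (ρ : Λ' →+* Λ₁) (hρ : Function.Surjective ρ)
    (hkerρ : RingHom.ker ρ = I.map (algebraMap R Λ'))
    (hcompat : (algebraMap (R ⧸ I) Λ₁).comp (Ideal.Quotient.mk I) = ρ.comp (algebraMap R Λ')) :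
    RingHom.ker ((Ideal.Quotient.mk (((𝔮.under R).map (Ideal.Quotient.mk I)).map
      (algebraMap (R ⧸ I) Λ₁))).comp ρ) = (𝔮.under R).map (algebraMap R Λ') := by
  set p : Ideal R := 𝔮.under R
  have hIp : I ≤ p := Ideal.map_le_iff_le_comap.mp hI𝔮
  set pb : Ideal (R ⧸ I) := p.map (Ideal.Quotient.mk I)
  have h1 : RingHom.ker ((Ideal.Quotient.mk (pb.map (algebraMap (R ⧸ I) Λ₁))).comp ρ) =
      (pb.map (algebraMap (R ⧸ I) Λ₁)).comap ρ := by
    ext x
    rw [RingHom.mem_ker, Ideal.mem_comap, RingHom.comp_apply, Ideal.Quotient.eq_zero_iff_mem]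
  have h2 : pb.map (algebraMap (R ⧸ I) Λ₁) = (p.map (algebraMap R Λ')).map ρ := by
    rw [Ideal.map_map, Ideal.map_map, hcompat]
  rw [h1, h2, Ideal.comap_map_of_surjective _ hρ, ← RingHom.ker_eq_comap_bot, hkerρ]
  exact sup_eq_left.mpr (Ideal.map_mono hIp)

theorem flat_atPrime_quotient (hI𝔮 : I.map (algebraMap R B) ≤ 𝔮) (hK𝔮 : K ≤ 𝔮)
    (ρ : Λ' →+* Λ₁) (hρ : Function.Surjective ρ)
    (hkerρ : RingHom.ker ρ = I.map (algebraMap R Λ'))
    (hcompat : (algebraMap (R ⧸ I) Λ₁).comp (Ideal.Quotient.mk I) = ρ.comp (algebraMap R Λ'))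
    (lam : List Λ') (hlamK : Ideal.ofList lam = K.map (algebraMap B Λ'))
    (hkr : LCI.IsKoszulRegularSeq Λ₁ (lam.map ρ))
    (hfl : Module.Flat (R ⧸ I) (Λ₁ ⧸ Ideal.ofList (lam.map ρ))) :
    Module.Flat R (Λ' ⧸ K.map (algebraMap B Λ')) := by
  classical
  let p : Ideal R := 𝔮.under R
  haveI : p.IsPrime := inferInstance
  haveI : 𝔮.LiesOver p := ⟨rfl⟩
  have hIp : I ≤ p := Ideal.map_le_iff_le_comap.mp hI𝔮
  haveI : Module.Flat B Λ' := IsLocalization.flat _ 𝔮.primeCompl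
  haveI : Module.Flat R Λ' := Module.Flat.trans R B Λ'
  -- the fibre ring
  let pb : Ideal (R ⧸ I) := p.map (Ideal.Quotient.mk I)
  let Λp := Λ₁ ⧸ pb.map (algebraMap (R ⧸ I) Λ₁)
  haveI hpush : Algebra.IsPushout (R ⧸ I) Λ₁ ((R ⧸ I) ⧸ pb) Λp :=
    (Groth.Agent.Lib.FibreKR5.isPushout_quotient (R ⧸ I) Λ₁ pb).symm
  have hkrp : LCI.IsKoszulRegularSeq Λp ((lam.map ρ).map (algebraMap Λ₁ Λp)) :=
    Groth.Agent.Lib.KoszulRelBC.isKoszulRegularSeq_map_of_isPushout (R ⧸ I) ((R ⧸ I) ⧸ pb)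
      (lam.map ρ) hkr
  -- the surjection `Λ' → Λp`
  let Ξ : Λ' →+* Λp := (Ideal.Quotient.mk _).comp ρ
  have hΞs : Function.Surjective Ξ := Ideal.Quotient.mk_surjective.comp hρ
  have hkerΞ : RingHom.ker Ξ = p.map (algebraMap R Λ') :=
    ker_fibre_map I 𝔮 hI𝔮 ρ hρ hkerρ hcompat
  have hpΛ : p.map (algebraMap R Λ') ≤ IsLocalRing.maximalIdeal Λ' := by
    rw [Ideal.map_le_iff_le_comap]
    intro r hr
    rw [Ideal.mem_comap, IsScalarTower.algebraMap_apply R B Λ']
    exact (IsLocalization.AtPrime.to_map_mem_maximal_iff _ 𝔮 _).mpr hr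
  haveI : Nontrivial Λp := by
    refine ⟨⟨Ξ 1, 0, fun h => ?_⟩⟩
    have : (1 : Λ') ∈ RingHom.ker Ξ := h
    rw [hkerΞ] at this
    exact (IsLocalRing.maximalIdeal.isMaximal Λ').ne_top ((Ideal.eq_top_iff_one _).mpr (hpΛ this))
  haveI : IsLocalRing Λp := IsLocalRing.of_surjective' Ξ hΞs
  haveI : Algebra.FiniteType R B := inferInstance
  haveI : IsNoetherianRing Λp := by
    haveI := isNoetherianRing_atPrime_quotient p 𝔮 rfl
    refine isNoetherianRing_of_surjective (Λ' ⧸ p.map (algebraMap R Λ')) Λp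
      (Ideal.Quotient.lift _ Ξ (fun x hx => by rw [← RingHom.mem_ker, hkerΞ]; exact hx)) ?_
    intro y
    obtain ⟨x, rfl⟩ := hΞs y
    exact ⟨Ideal.Quotient.mk _ x, rfl⟩
  have hlam𝔪 : ∀ x ∈ lam, x ∈ IsLocalRing.maximalIdeal Λ' := by
    intro x hx
    have h1 : x ∈ K.map (algebraMap B Λ') := by
      rw [← hlamK]
      exact Ideal.subset_span hx
    have h2 : K.map (algebraMap B Λ') ≤ IsLocalRing.maximalIdeal Λ' := by
      rw [Ideal.map_le_iff_le_comap]
      intro b hb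
      exact (IsLocalization.AtPrime.to_map_mem_maximal_iff _ 𝔮 _).mpr (hK𝔮 hb)
    exact h2 h1
  have hΞ𝔪 : ∀ x ∈ IsLocalRing.maximalIdeal Λ', Ξ x ∈ IsLocalRing.maximalIdeal Λp := by
    intro x hx
    rw [IsLocalRing.mem_maximalIdeal, mem_nonunits_iff]
    intro hu
    obtain ⟨y, hy⟩ := hu.exists_right_inv
    obtain ⟨y, rfl⟩ := hΞs y
    have h1 : x * y - 1 ∈ RingHom.ker Ξ := by
      rw [RingHom.mem_ker, map_sub, map_mul, hy, map_one, sub_self]
    rw [hkerΞ] at h1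
    have h2 : (1 : Λ') ∈ IsLocalRing.maximalIdeal Λ' := by
      have := Ideal.sub_mem _ (Ideal.mul_mem_right y _ hx) (hpΛ h1)
      rwa [sub_sub_cancel] at this
    exact (IsLocalRing.maximalIdeal.isMaximal Λ').ne_top ((Ideal.eq_top_iff_one _).mpr h2)
  rw [List.map_map] at hkrp
  replace hkrp : LCI.IsKoszulRegularSeq Λp (lam.map Ξ) := hkrp
  have hwr : IsWeaklyRegular Λp (lam.map Ξ) := by
    refine Groth.Agent.Lib.SyntLCI.isWeaklyRegular_of_isKoszulRegularSeq _ hkrp ?_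
    intro x hx
    obtain ⟨y, hy, rfl⟩ := List.mem_map.mp hx
    exact hΞ𝔪 y (hlam𝔪 y hy)
  -- local algebra structures
  letI algAB : Algebra (Localization.AtPrime p) Λ' := Localization.AtPrime.algebraOfLiesOver p 𝔮
  have hS := Groth.Agent.Lib.RegSeqFibre64.isEssFinitePresentation_atPrime (A := R) (B := B) p 𝔮
  haveI : IsLocalHom (algebraMap (Localization.AtPrime p) Λ') :=
    Localization.isLocalHom_localRingHom _ _ _ Ideal.LiesOver.over
  have hJ : (Groth.Agent.Lib.RegElemFlat64.mS (Localization.AtPrime p) Λ' • ⊤ : Submodule Λ' Λ') =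
      p.map (algebraMap R Λ') := by
    rw [smul_eq_mul, Ideal.mul_top]
    exact Groth.Agent.Lib.CMQF33.map_localRingHom_maximalIdeal p 𝔮
      (Ideal.LiesOver.over (P := 𝔮) (p := p))
  -- weak regularity on the closed fibre as a module
  letI algΞ : Algebra Λ' Λp := RingHom.toAlgebra Ξ
  have hwr' : IsWeaklyRegular Λp lam :=
    (isWeaklyRegular_map_algebraMap_iff Λp Λp lam).mp hwr
  let eΞ : (Λ' ⧸ (Groth.Agent.Lib.RegElemFlat64.mS (Localization.AtPrime p) Λ' • ⊤ :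
      Submodule Λ' Λ')) ≃ₗ[Λ'] Λp :=
    (Submodule.quotEquivOfEq _ _ (by
      rw [hJ, ← hkerΞ]
      rfl)).trans
      ((Algebra.linearMap Λ' Λp).quotKerEquivOfSurjective hΞs)
  have hregB : IsWeaklyRegular (Λ' ⧸ (Groth.Agent.Lib.RegElemFlat64.mS (Localization.AtPrime p) Λ' • ⊤ :
      Submodule Λ' Λ')) lam := (eΞ.isWeaklyRegular_congr lam).mpr hwr'
  haveI : Module.Flat (Localization.AtPrime p) Λ' :=
    (Module.flat_iff_of_isLocalization (Localization.AtPrime p) p.primeCompl _).mpr inferInstance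
  obtain ⟨-, hflat⟩ := Groth.Agent.Lib.RegSeqFlat64.isWeaklyRegular_and_flat hS lam Λ' hregB
  have h1 := hflat lam.length le_rfl
  rw [List.take_length] at h1
  have h2 : Module.Flat R (Λ' ⧸ (Ideal.ofList lam • ⊤ : Submodule Λ' Λ')) :=
    Module.Flat.trans R (Localization.AtPrime p) _
  have h3 : (Ideal.ofList lam • ⊤ : Submodule Λ' Λ') = K.map (algebraMap B Λ') := by
    rw [smul_eq_mul, Ideal.mul_top, hlamK]
  exact Module.Flat.of_linearEquiv ((Submodule.quotEquivOfEq _ _ h3).restrictScalars R).symm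

end flatAt

end Groth.Agent.Lib.SyntLift19
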