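import Groth.Agent.Lib.SyntNhd1

/-!
# Syntomic neighbourhoods of a prime (helper19)

Namespace `Groth.Agent.Lib.SyntNhd`.  Stacks 00SY-type equivalences (S9169).
-/

set_option autoImplicit false
set_option linter.style.haveILetI false
universe u

namespace Groth.Agent.Lib.SyntNhd

open TensorProduct

variable (R S : Type u) [CommRing R] [CommRing S] [Algebra R S] (q : Ideal S) [q.IsPrime]

section AB

variable {S}

omit [Algebra R S] in
theorem disjoint_powers {g : S} (hg : g ∉ q) : Disjoint (Submonoid.powers g : Set S) (q : Set S) := by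
  rw [Set.disjoint_left]
  rintro x ⟨m, rfl⟩ hx
  exact hg (Ideal.IsPrime.mem_of_pow_mem inferInstance m hx)

variable (S)

/-- (1) ⇒ (2) -/
theorem exists_relGCI_nhd_of_syntomic_nhd
    (h : ∃ g : S, g ∉ q ∧ Synt.IsSyntomic R (Localization.Away g)) :
    ∃ g : S, g ∉ q ∧ ∃ (n c : ℕ) (F : Fin c → MvPolynomial (Fin n) R), Synt.IsRelGCI R n c F ∧
      Nonempty (Localization.Away g ≃ₐ[R] Synt.RelGCIRing R n c F) := by
  obtain ⟨g, hg, hs⟩ := h
  let q' : Ideal (Localization.Away g) := q.map (algebraMap S (Localization.Away g))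
  haveI : q'.IsPrime := IsLocalization.isPrime_of_isPrime_disjoint (Submonoid.powers g) _ q
    inferInstance (disjoint_powers q hg)
  obtain ⟨b, hb, n, c, F, hF, ⟨e⟩⟩ :=
    Groth.Agent.Lib.SyntRelGCI89.exists_relGCI_of_isSyntomic hs q'
  obtain ⟨b', hb', ⟨E⟩⟩ := exists_away_away R g b
  exact ⟨g * b', mul_notMem_of_associated g b b' hb' q hg hb, n, c, F, hF, ⟨E.trans e⟩⟩

omit [q.IsPrime] in
/-- (2) ⇒ (1) -/
theorem exists_syntomic_nhd_of_relGCI_nhd
    (h : ∃ g : S, g ∉ q ∧ ∃ (n c : ℕ) (F : Fin c → MvPolynomial (Fin n) R), Synt.IsRelGCI R n c F ∧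
      Nonempty (Localization.Away g ≃ₐ[R] Synt.RelGCIRing R n c F)) :
    ∃ g : S, g ∉ q ∧ Synt.IsSyntomic R (Localization.Away g) := by
  obtain ⟨g, hg, n, c, F, hF, ⟨e⟩⟩ := h
  exact ⟨g, hg, isSyntomic_of_algEquiv e.symm (Groth.Agent.S9147.result R n c F hF)⟩

end AB

section AC

open Groth.Agent.Lib.CIOver

attribute [local instance] fibreAlgebra

variable {S}

theorem flat_atPrime_of_flat_away {g : S} (hg : g ∉ q) [Module.Flat R (Localization.Away g)] :
    Module.Flat R (Localization.AtPrime q) := by
  have hu : IsUnit (algebraMap S (Localization.AtPrime q) g) :=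
    (IsLocalization.AtPrime.isUnit_to_map_iff _ q g).mpr hg
  let φ : Localization.Away g →+* Localization.AtPrime q := IsLocalization.Away.lift g hu
  letI : Algebra (Localization.Away g) (Localization.AtPrime q) := φ.toAlgebra
  haveI : IsScalarTower S (Localization.Away g) (Localization.AtPrime q) :=
    IsScalarTower.of_algebraMap_eq (fun x => (IsLocalization.Away.lift_eq g hu x).symm)
  haveI : Module.Flat S (Localization.AtPrime q) := IsLocalization.flat _ q.primeCompl
  haveI : Module.Flat (Localization.Away g) (Localization.AtPrime q) :=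
    (Module.flat_iff_of_isLocalization (Localization.Away g) (Submonoid.powers g)
      (Localization.AtPrime q)).mpr inferInstance
  haveI : IsScalarTower R (Localization.Away g) (Localization.AtPrime q) := by
    refine IsScalarTower.of_algebraMap_eq (fun r => ?_)
    rw [IsScalarTower.algebraMap_apply R S (Localization.AtPrime q),
      IsScalarTower.algebraMap_apply R S (Localization.Away g),
      ← IsScalarTower.algebraMap_apply S (Localization.Away g) (Localization.AtPrime q)]
  exact Module.Flat.trans R (Localization.Away g) (Localization.AtPrime q)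

variable (p : Ideal R) [p.IsPrime] (Q : Ideal (p.Fiber S)) [Q.IsPrime]

omit [q.IsPrime] [Q.IsPrime] in
theorem one_tmul_notMem {g : S} (hg : g ∉ q)
    (hQ : Q.comap (Algebra.TensorProduct.includeRight.toRingHom) = q) :
    ((1 : p.ResidueField) ⊗ₜ[R] g) ∉ Q := by
  intro hmem
  apply hg
  rw [← hQ]
  exact hmem

omit [q.IsPrime] in
theorem isCIOver_fibre_of_syntomic_away {g : S} (hg : g ∉ q)
    (hQ : Q.comap (Algebra.TensorProduct.includeRight.toRingHom) = q)
    (hs : Synt.IsSyntomic R (Localization.Away g)) :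
    Synt.IsCIOver p.ResidueField (Localization.AtPrime Q) := by
  obtain ⟨Q₁, _, -, ⟨E⟩⟩ := exists_atPrime_algEquiv_of_away p.ResidueField
    (T := p.Fiber S) (T' := p.Fiber (Localization.Away g)) ((1 : p.ResidueField) ⊗ₜ[R] g) Q
    (one_tmul_notMem R q p Q hg hQ)
  have hl : Synt.IsLCIOver p.ResidueField (p.Fiber (Localization.Away g)) :=
    hs.2.2 ⟨p, inferInstance⟩
  haveI : Algebra.FiniteType p.ResidueField (p.Fiber (Localization.Away g)) := hl.1
  have h1 := (isLCIOver_iff_forall p.ResidueField (p.Fiber (Localization.Away g))).1.mp hl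
    ⟨Q₁, inferInstance⟩
  exact isCIOver_of_algEquiv p.ResidueField E.symm h1

end AC

section CA

open Groth.Agent.Lib.CIOver Groth.Agent.Lib.SyntLCI

variable {S}

/-- flatness at `q` spreads to a basic open neighbourhood (finite presentation) -/
theorem exists_flat_fp_away {g : S} (hg : g ∉ q)
    [Algebra.FinitePresentation R (Localization.Away g)] [Module.Flat R (Localization.AtPrime q)] :
    ∃ h : S, h ∉ q ∧ Algebra.FinitePresentation R (Localization.Away h) ∧
      Module.Flat R (Localization.Away h) := by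
  obtain ⟨Q', _, hcomap, ⟨E⟩⟩ := exists_atPrime_algEquiv_of_away R
    (T := S) (T' := Localization.Away g) g q hg
  have hQ'map : q.map (algebraMap S (Localization.Away g)) = Q' := by
    rw [← hcomap]
    exact IsLocalization.map_under (Submonoid.powers g) _ Q'
  have hflat : Module.Flat R (Localization.AtPrime Q') := Module.Flat.of_linearEquiv E.symm.toLinearEquiv
  have hopen := Groth.Agent.Lib.FlatLimFP88.isOpen_module_flat_locus (R := R)
    (S := Localization.Away g) (M := Localization.Away g)
  have hmem : (⟨Q', inferInstance⟩ : PrimeSpectrum (Localization.Away g)) ∈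
      {q : PrimeSpectrum (Localization.Away g) |
        Module.Flat R (LocalizedModule q.asIdeal.primeCompl (Localization.Away g))} :=
    (Groth.Agent.Lib.FlatLimAway88.flat_localizedModule_self_iff (A := R) Q').mpr hflat
  obtain ⟨_, ⟨j, rfl⟩, hjQ, hsub⟩ :=
    PrimeSpectrum.isTopologicalBasis_basic_opens.exists_subset_of_mem_open hmem hopen
  have hjQ' : j ∉ Q' := hjQ
  haveI : Module.Flat R (Localization.Away j) := by
    apply Groth.Agent.Lib.FlatLimAway88.flat_away_of_forall_prime (A := R) j
    intro P _ hjP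
    exact hsub (show (⟨P, inferInstance⟩ : PrimeSpectrum (Localization.Away g)) ∈
      (PrimeSpectrum.basicOpen j : Set _) from hjP)
  haveI : Algebra.FinitePresentation (Localization.Away g) (Localization.Away j) :=
    IsLocalization.Away.finitePresentation j
  haveI : Algebra.FinitePresentation R (Localization.Away j) :=
    Algebra.FinitePresentation.trans R (Localization.Away g) (Localization.Away j)
  obtain ⟨b', hb', ⟨E'⟩⟩ := exists_away_away R g j
  refine ⟨g * b', mul_notMem_of_associated g j b' hb' q hg (by rw [hQ'map]; exact hjQ'), ?_, ?_⟩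
  · exact Algebra.FinitePresentation.equiv E'.symm
  · exact Module.Flat.of_linearEquiv E'.toLinearEquiv

attribute [local instance] fibreAlgebra Algebra.TensorProduct.rightAlgebra

variable (p : Ideal R) [p.IsPrime] (Q : Ideal (p.Fiber S)) [Q.IsPrime]

/-- (3) ⇒ (1), given a flat finitely presented neighbourhood -/
theorem exists_syntomic_nhd_of_fibre_ci_aux {h : S} (hh : h ∉ q)
    (hQ : Q.comap (Algebra.TensorProduct.includeRight.toRingHom) = q)
    [Algebra.FinitePresentation R (Localization.Away h)] [Module.Flat R (Localization.Away h)]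
    (hci : Synt.IsCIOver p.ResidueField (Localization.AtPrime Q)) :
    ∃ g : S, g ∉ q ∧ Synt.IsSyntomic R (Localization.Away g) := by
  obtain ⟨Q₁, _, hcomap₁, ⟨E⟩⟩ := exists_atPrime_algEquiv_of_away p.ResidueField
    (T := p.Fiber S) (T' := p.Fiber (Localization.Away h)) ((1 : p.ResidueField) ⊗ₜ[R] h) Q
    (one_tmul_notMem R q p Q hh hQ)
  have hci₁ : Synt.IsCIOver p.ResidueField (Localization.AtPrime Q₁) :=
    isCIOver_of_algEquiv p.ResidueField E hci
  haveI : Algebra.FiniteType p.ResidueField (p.Fiber (Localization.Away h)) := inferInstance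
  obtain ⟨t, ht, hlt⟩ := (main p.ResidueField (p.Fiber (Localization.Away h)) Q₁).1.mp hci₁
  have hLCI : LCI.IsLCI p.ResidueField (Localization.Away t) := isLCI_of_isLCIOver hlt
  obtain ⟨b, hb, hbLCI⟩ := Groth.Agent.Lib.LCIBaseChange.exists_isLCI_away_of_baseChange
    (R := R) (A := R) (B := Localization.Away h) (R' := p.ResidueField) (A' := p.ResidueField)
    (B' := p.Fiber (Localization.Away h)) Q₁ t ht hLCI
  haveI : Module.Flat (Localization.Away h) (Localization.Away b) :=
    IsLocalization.flat _ (Submonoid.powers b)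
  haveI : Module.Flat R (Localization.Away b) :=
    Module.Flat.trans R (Localization.Away h) (Localization.Away b)
  have hsynt : Synt.IsSyntomic R (Localization.Away b) := isSyntomic_of_isLCI_of_flat hbLCI
  obtain ⟨b', hb', ⟨E'⟩⟩ := exists_away_away R h b
  refine ⟨h * b', mul_notMem_of_associated h b b' hb' q hh ?_,
    isSyntomic_of_algEquiv E'.symm hsynt⟩
  intro hmem
  apply hb
  have hle : q.map (algebraMap S (Localization.Away h)) ≤
      Q₁.comap (algebraMap (Localization.Away h) (p.Fiber (Localization.Away h))) := by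
    rw [Ideal.map_le_iff_le_comap]
    intro s hs
    rw [Ideal.mem_comap, Ideal.mem_comap]
    have h1 : algebraMap (Localization.Away h) (p.Fiber (Localization.Away h))
        (algebraMap S _ s) = algebraMap (p.Fiber S) (p.Fiber (Localization.Away h))
        ((1 : p.ResidueField) ⊗ₜ[R] s) := rfl
    rw [h1, ← Ideal.mem_comap, hcomap₁]
    rw [← hQ] at hs
    exact hs
  exact hle hmem

/-- (3) ⇒ (1) -/
theorem exists_syntomic_nhd_of_fibre_ci
    (hQ : Q.comap (Algebra.TensorProduct.includeRight.toRingHom) = q)
    (h : ∃ g : S, g ∉ q ∧ Algebra.FinitePresentation R (Localization.Away g) ∧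
      Module.Flat R (Localization.AtPrime q) ∧
      Synt.IsCIOver p.ResidueField (Localization.AtPrime Q)) :
    ∃ g : S, g ∉ q ∧ Synt.IsSyntomic R (Localization.Away g) := by
  obtain ⟨g, hg, hfp, hfl, hci⟩ := h
  obtain ⟨h', hh', hfp', hfl'⟩ := exists_flat_fp_away R q hg
  exact exists_syntomic_nhd_of_fibre_ci_aux R q p Q hh' hQ hci

/-- (1) ⇒ (3) -/
theorem exists_fibre_ci_of_syntomic_nhd
    (hQ : Q.comap (Algebra.TensorProduct.includeRight.toRingHom) = q)
    (h : ∃ g : S, g ∉ q ∧ Synt.IsSyntomic R (Localization.Away g)) :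
    ∃ g : S, g ∉ q ∧ Algebra.FinitePresentation R (Localization.Away g) ∧
      Module.Flat R (Localization.AtPrime q) ∧
      Synt.IsCIOver p.ResidueField (Localization.AtPrime Q) := by
  obtain ⟨g, hg, hs⟩ := h
  haveI : Module.Flat R (Localization.Away g) := hs.1
  exact ⟨g, hg, hs.2.1, flat_atPrime_of_flat_away R q hg,
    isCIOver_fibre_of_syntomic_away R q p Q hg hQ hs⟩

end CA

end Groth.Agent.Lib.SyntNhd
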