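import Groth.Agent.Lib.SyntLift19b
import Groth.Agent.Lib.SyntNhd2
import Groth.Agent.Lib.FibreKR4

/-!
# Lifting syntomic algebras along a quotient: spreading out (helper19)

Namespace `Groth.Agent.Lib.SyntLift19`.

`Good K 𝔮`: on a basic open neighbourhood `D(g)` of `𝔮`, the ideal `K` is generated by a Koszul-regular sequence and
`B_g / K B_g` is flat over `R`.  `exists_good`: the conclusion of `flat_atPrime_quotient` spreads out.
-/

set_option autoImplicit false
set_option maxHeartbeats 400000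
set_option linter.style.haveILetI false
universe u

open Groth.Agent.Lib.KoszulIdeal

namespace Groth.Agent.Lib.SyntLift19

section good

variable (R : Type u) {B : Type u} [CommRing R] [CommRing B] [Algebra R B]

/-- `K` is Koszul-regularly generated with `R`-flat quotient on a basic open neighbourhood of `𝔮` -/
def Good (K 𝔮 : Ideal B) : Prop :=
  ∃ g : B, g ∉ 𝔮 ∧ GenAt K g ∧ Module.Flat R (Localization.Away (Ideal.Quotient.mk K g))

end good

section quotLoc

variable {R B : Type u} [CommRing R] [CommRing B] [Algebra R B] (K : Ideal B)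

/-- the quotient of a localization at an element, as a localization of the quotient -/
theorem isLocalizationAway_quotient (g : B) (W : Type u) [CommRing W] [Algebra B W]
    [IsLocalization.Away g W] :
    IsLocalization.Away (Ideal.Quotient.mk K g) (W ⧸ K.map (algebraMap B W)) := by
  have h : IsLocalization (Algebra.algebraMapSubmonoid (B ⧸ K) (Submonoid.powers g))
      (W ⧸ K.map (algebraMap B W)) := inferInstance
  have e : Algebra.algebraMapSubmonoid (B ⧸ K) (Submonoid.powers g) =
      Submonoid.powers (Ideal.Quotient.mk K g) := by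
    show Submonoid.map (algebraMap B (B ⧸ K)) (Submonoid.powers g) = _
    rw [Submonoid.map_powers]
    rfl
  rw [e] at h
  exact h

/-- flatness of the quotient of a localization from flatness of the localization of the quotient -/
theorem flat_quotient_away_of_flat (g : B) (W : Type u) [CommRing W] [Algebra B W]
    [IsLocalization.Away g W] [Algebra R W] [IsScalarTower R B W]
    [Module.Flat R (Localization.Away (Ideal.Quotient.mk K g))] :
    Module.Flat R (W ⧸ K.map (algebraMap B W)) := by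
  haveI := isLocalizationAway_quotient K g W
  let e : Localization.Away (Ideal.Quotient.mk K g) ≃ₐ[B ⧸ K] (W ⧸ K.map (algebraMap B W)) :=
    IsLocalization.algEquiv (Submonoid.powers (Ideal.Quotient.mk K g)) _ _
  haveI : IsScalarTower R (B ⧸ K) (W ⧸ K.map (algebraMap B W)) := by
    refine IsScalarTower.of_algebraMap_eq fun r => ?_
    show Ideal.Quotient.mk _ (algebraMap R W r) =
      algebraMap (B ⧸ K) (W ⧸ K.map (algebraMap B W)) (Ideal.Quotient.mk K (algebraMap R B r))
    rw [IsScalarTower.algebraMap_apply R B W]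
    rfl
  exact Module.Flat.of_linearEquiv (e.restrictScalars R).symm.toLinearEquiv

end quotLoc

section spread

variable {R B : Type u} [CommRing R] [CommRing B] [Algebra R B] [Algebra.FinitePresentation R B]
  [Module.Flat R B] (I : Ideal R) (K : Ideal B) (𝔮 : Ideal B) [𝔮.IsPrime]

local notation "Λ'" => Localization.AtPrime 𝔮
local notation "IΛ" => Ideal.map (algebraMap R (Localization.AtPrime 𝔮)) I

omit [Algebra.FinitePresentation R B] [Module.Flat R B] in
/-- flatness at the image prime of `B/K` -/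
theorem flat_atPrime_map (hK𝔮 : K ≤ 𝔮)
    (hflat : Module.Flat R (Λ' ⧸ K.map (algebraMap B Λ'))) :
    ∃ (_ : (𝔮.map (Ideal.Quotient.mk K)).IsPrime),
      Module.Flat R (Localization.AtPrime (𝔮.map (Ideal.Quotient.mk K))) := by
  have hker : RingHom.ker (Ideal.Quotient.mk K) ≤ 𝔮 := by rw [Ideal.mk_ker]; exact hK𝔮
  haveI hprime : (𝔮.map (Ideal.Quotient.mk K)).IsPrime :=
    Ideal.map_isPrime_of_surjective Ideal.Quotient.mk_surjective hker
  refine ⟨hprime, ?_⟩
  have hcomap : (𝔮.map (Ideal.Quotient.mk K)).comap (Ideal.Quotient.mk K) = 𝔮 := by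
    rw [Ideal.comap_map_of_surjective _ Ideal.Quotient.mk_surjective, ← RingHom.ker_eq_comap_bot]
    exact sup_eq_left.mpr hker
  haveI : (𝔮.map (Ideal.Quotient.mk K)).LiesOver 𝔮 := ⟨hcomap.symm⟩
  have hsub : Algebra.algebraMapSubmonoid (B ⧸ K) 𝔮.primeCompl =
      (𝔮.map (Ideal.Quotient.mk K)).primeCompl :=
    Ideal.algebraMapSubmonoid_primeCompl_of_liesOver_surjective (𝔮.map (Ideal.Quotient.mk K)) 𝔮
      (Ideal.Quotient.mk_surjective (I := K))
  have h : IsLocalization (Algebra.algebraMapSubmonoid (B ⧸ K) 𝔮.primeCompl)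
      (Λ' ⧸ K.map (algebraMap B Λ')) := inferInstance
  rw [hsub] at h
  let e : Localization.AtPrime (𝔮.map (Ideal.Quotient.mk K)) ≃ₐ[B ⧸ K]
      (Λ' ⧸ K.map (algebraMap B Λ')) :=
    IsLocalization.algEquiv (𝔮.map (Ideal.Quotient.mk K)).primeCompl _ _
  haveI : IsScalarTower R (B ⧸ K) (Λ' ⧸ K.map (algebraMap B Λ')) := by
    refine IsScalarTower.of_algebraMap_eq fun r => ?_
    show Ideal.Quotient.mk _ (algebraMap R Λ' r) =
      algebraMap (B ⧸ K) (Λ' ⧸ K.map (algebraMap B Λ')) (Ideal.Quotient.mk K (algebraMap R B r))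
    rw [IsScalarTower.algebraMap_apply R B Λ']
    rfl
  exact Module.Flat.of_linearEquiv (e.restrictScalars R).toLinearEquiv

end spread

section spread2

/-- the quotient map of a local ring sends the maximal ideal into the maximal ideal -/
theorem mk_mem_maximalIdeal {Λ : Type u} [CommRing Λ] [IsLocalRing Λ] (J : Ideal Λ)
    [IsLocalRing (Λ ⧸ J)] (hJ : J ≤ IsLocalRing.maximalIdeal Λ) (x : Λ)
    (hx : x ∈ IsLocalRing.maximalIdeal Λ) :
    Ideal.Quotient.mk J x ∈ IsLocalRing.maximalIdeal (Λ ⧸ J) := by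
  rw [IsLocalRing.mem_maximalIdeal, mem_nonunits_iff]
  intro hu
  obtain ⟨y, hy⟩ := hu.exists_right_inv
  obtain ⟨y, rfl⟩ := Ideal.Quotient.mk_surjective y
  have h1 : x * y - 1 ∈ J := by
    rw [← Ideal.Quotient.eq_zero_iff_mem, map_sub, map_mul, hy, map_one, sub_self]
  have h2 : (1 : Λ) ∈ IsLocalRing.maximalIdeal Λ := by
    have := Ideal.sub_mem _ (Ideal.mul_mem_right y _ hx) (hJ h1)
    rwa [sub_sub_cancel] at this
  exact (IsLocalRing.maximalIdeal.isMaximal Λ).ne_top ((Ideal.eq_top_iff_one _).mpr h2)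

variable {R B : Type u} [CommRing R] [CommRing B] [Algebra R B] [Algebra.FinitePresentation R B]
  [Module.Flat R B] (I : Ideal R) (K : Ideal B) (𝔮 : Ideal B) [𝔮.IsPrime]

local notation "Λ'" => Localization.AtPrime 𝔮
local notation "IΛ" => Ideal.map (algebraMap R (Localization.AtPrime 𝔮)) I

theorem exists_good {Λ₁ : Type u} [CommRing Λ₁] (hK : K.FG) (hI𝔮 : I.map (algebraMap R B) ≤ 𝔮)
    (hK𝔮 : K ≤ 𝔮) (ρ : Λ' →+* Λ₁) (hρ : Function.Surjective ρ)
    (hkerρ : RingHom.ker ρ = I.map (algebraMap R Λ'))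
    (lam : List Λ') (hlamK : Ideal.ofList lam = K.map (algebraMap B Λ'))
    (hkr₁ : LCI.IsKoszulRegularSeq Λ₁ (lam.map ρ))
    (hflat : Module.Flat R (Λ' ⧸ K.map (algebraMap B Λ'))) : Good R K 𝔮 := by
  classical
  obtain ⟨hprime, hfl𝔮⟩ := flat_atPrime_map K 𝔮 hK𝔮 hflat
  haveI := hprime
  haveI := hfl𝔮
  haveI : Algebra.FinitePresentation R (B ⧸ K) := Algebra.FinitePresentation.quotient hK
  haveI : Algebra.FinitePresentation (B ⧸ K) (Localization.Away (1 : B ⧸ K)) :=
    IsLocalization.Away.finitePresentation (1 : B ⧸ K)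
  haveI : Algebra.FinitePresentation R (Localization.Away (1 : B ⧸ K)) :=
    Algebra.FinitePresentation.trans R (B ⧸ K) _
  have h1 : (1 : B ⧸ K) ∉ 𝔮.map (Ideal.Quotient.mk K) := fun h =>
    hprime.ne_top ((Ideal.eq_top_iff_one _).mpr h)
  obtain ⟨hb, hhb, -, hflh⟩ :=
    Groth.Agent.Lib.SyntNhd.exists_flat_fp_away R (𝔮.map (Ideal.Quotient.mk K)) h1
  obtain ⟨h, rfl⟩ := Ideal.Quotient.mk_surjective hb
  have hh𝔮 : h ∉ 𝔮 := fun hm => hhb (Ideal.mem_map_of_mem _ hm)
  haveI := hflh
  -- the localization `P = B_h`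
  let P := Localization.Away h
  haveI : Algebra.FinitePresentation B P := IsLocalization.Away.finitePresentation h
  haveI : Algebra.FinitePresentation R P := Algebra.FinitePresentation.trans R B P
  haveI : Module.Flat B P := IsLocalization.flat P (Submonoid.powers h)
  haveI : Module.Flat R P := Module.Flat.trans R B P
  haveI : Module.Flat R (P ⧸ K.map (algebraMap B P)) := flat_quotient_away_of_flat K h P
  -- `Λ'` as a `P`-algebra
  have hu : IsUnit (algebraMap B Λ' h) := (IsLocalization.AtPrime.isUnit_to_map_iff Λ' 𝔮 h).mpr hh𝔮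
  letI algPΛ : Algebra P Λ' := (IsLocalization.Away.lift h hu).toAlgebra
  haveI : IsScalarTower B P Λ' :=
    IsScalarTower.of_algebraMap_eq (fun x => (IsLocalization.Away.lift_eq h hu x).symm)
  haveI : IsScalarTower R P Λ' := by
    refine IsScalarTower.of_algebraMap_eq fun r => ?_
    rw [IsScalarTower.algebraMap_apply R B Λ', IsScalarTower.algebraMap_apply R B P,
      ← IsScalarTower.algebraMap_apply B P Λ']
  haveI : Module.Flat B Λ' := IsLocalization.flat _ 𝔮.primeCompl
  haveI : Module.Flat P Λ' := (Module.flat_iff_of_isLocalization P (Submonoid.powers h) Λ').mpr ‹_›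
  -- the test ring
  let IP : Ideal P := I.map (algebraMap R P)
  have hIeq : IP.map (algebraMap P Λ') = IΛ := by
    rw [Ideal.map_map, ← IsScalarTower.algebraMap_eq]
  have hkr : LCI.IsKoszulRegularSeq (Λ' ⧸ IP.map (algebraMap P Λ'))
      (lam.map (Ideal.Quotient.mk (IP.map (algebraMap P Λ')))) := by
    let e : (Λ' ⧸ IP.map (algebraMap P Λ')) ≃+* Λ₁ :=
      (Ideal.quotEquivOfEq (hIeq.trans hkerρ.symm)).trans
        (RingHom.quotientKerEquivOfSurjective hρ)
    refine (isKoszulRegularSeq_map_ringEquiv e _).mpr ?_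
    rw [List.map_map]
    exact hkr₁
  have hIΛ𝔪 : IP.map (algebraMap P Λ') ≤ IsLocalRing.maximalIdeal Λ' := by
    rw [hIeq, Ideal.map_le_iff_le_comap]
    intro r hr
    rw [Ideal.mem_comap, IsScalarTower.algebraMap_apply R B Λ']
    exact (IsLocalization.AtPrime.to_map_mem_maximal_iff _ 𝔮 _).mpr
      (hI𝔮 (Ideal.mem_map_of_mem _ hr))
  haveI : Nontrivial (Λ' ⧸ IP.map (algebraMap P Λ')) :=
    Ideal.Quotient.nontrivial_iff.mpr (fun h => (IsLocalRing.maximalIdeal.isMaximal Λ').ne_top
      (top_le_iff.mp (h ▸ hIΛ𝔪)))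
  haveI : IsLocalRing (Λ' ⧸ IP.map (algebraMap P Λ')) :=
    IsLocalRing.of_surjective' (Ideal.Quotient.mk _) Ideal.Quotient.mk_surjective
  haveI : Module.Flat (P ⧸ IP) (Λ' ⧸ IP.map (algebraMap P Λ')) := flat_quotient_map IP
  let T := Λ' ⧸ IP.map (algebraMap P Λ')
  let 𝔮P : Ideal P := (IsLocalRing.maximalIdeal T).comap (algebraMap P T)
  haveI : 𝔮P.IsPrime := Ideal.comap_isPrime _ _
  have hmkΛ : ∀ x : Λ', x ∈ IsLocalRing.maximalIdeal Λ' →
      Ideal.Quotient.mk (IP.map (algebraMap P Λ')) x ∈ IsLocalRing.maximalIdeal T :=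
    fun x hx => mk_mem_maximalIdeal _ hIΛ𝔪 x hx
  have hB𝔮P : ∀ b : B, b ∈ 𝔮 → algebraMap B P b ∈ 𝔮P := by
    intro b hb
    show algebraMap P T (algebraMap B P b) ∈ IsLocalRing.maximalIdeal T
    have : algebraMap P T (algebraMap B P b) =
        Ideal.Quotient.mk (IP.map (algebraMap P Λ')) (algebraMap B Λ' b) := by
      rw [IsScalarTower.algebraMap_apply B P Λ']
      rfl
    rw [this]
    exact hmkΛ _ ((IsLocalization.AtPrime.to_map_mem_maximal_iff _ 𝔮 _).mpr hb)
  have h𝔞 : IP ≤ 𝔮P := by
    intro x hx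
    show algebraMap P T x ∈ IsLocalRing.maximalIdeal T
    have : algebraMap P T x = 0 := by
      show Ideal.Quotient.mk (IP.map (algebraMap P Λ')) (algebraMap P Λ' x) = 0
      rw [Ideal.Quotient.eq_zero_iff_mem]
      exact Ideal.mem_map_of_mem _ hx
    rw [this]
    exact Ideal.zero_mem _
  have hIg : (K.map (algebraMap B P)).map (algebraMap P T) =
      Ideal.ofList (lam.map (Ideal.Quotient.mk (IP.map (algebraMap P Λ')))) := by
    have e1 : (K.map (algebraMap B P)).map (algebraMap P T) =
        K.map ((algebraMap P T).comp (algebraMap B P)) := Ideal.map_map _ _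
    have e2 : (K.map (algebraMap B Λ')).map (Ideal.Quotient.mk (IP.map (algebraMap P Λ'))) =
        K.map ((Ideal.Quotient.mk (IP.map (algebraMap P Λ'))).comp (algebraMap B Λ')) :=
      Ideal.map_map _ _
    rw [← Ideal.map_ofList, hlamK, e1, e2]
    congr 1
    ext b
    simp only [RingHom.comp_apply]
    rw [IsScalarTower.algebraMap_apply B P Λ']
    rfl
  obtain ⟨G, hG, hgen⟩ := Groth.Agent.Lib.FibreKR4.exists_genAt_of_test (R := R) (P := P)
    (K.map (algebraMap B P)) I 𝔮P (T := T) (hK.map _) h𝔞 rfl _ hkr hIg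
  -- back to `B`
  set G' : B := (IsLocalization.Away.sec h G).1 with hG'
  have hassoc : Associated (algebraMap B P G') G := IsLocalization.Away.associated_sec_fst h G
  have hG'𝔮 : G' ∉ 𝔮 := by
    intro hm
    obtain ⟨u, hu⟩ := hassoc
    apply hG
    rw [← hu]
    exact Ideal.mul_mem_right _ _ (hB𝔮P G' hm)
  refine ⟨h * G', fun hm => (Ideal.IsPrime.mem_or_mem inferInstance hm).elim hh𝔮 hG'𝔮, ?_, ?_⟩
  · obtain ⟨S₁, _, _, _, l, hl, hIl⟩ := hgen
    letI : Algebra B S₁ := ((algebraMap P S₁).comp (algebraMap B P)).toAlgebra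
    haveI : IsScalarTower B P S₁ := IsScalarTower.of_algebraMap_eq (fun _ => rfl)
    haveI : IsLocalization.Away (h * G') S₁ := IsLocalization.Away.mul_of_associated h G' G hassoc
    refine GenAt.mk S₁ l hl ?_
    rw [IsScalarTower.algebraMap_eq B P S₁, ← Ideal.map_map]
    exact hIl
  · -- flatness
    let hb' : B ⧸ K := Ideal.Quotient.mk K h
    let Gb' : B ⧸ K := Ideal.Quotient.mk K G'
    let T' := Localization.Away (algebraMap (B ⧸ K) (Localization.Away hb') Gb')
    haveI : Module.Flat (Localization.Away hb') T' :=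
      IsLocalization.flat T' (Submonoid.powers (algebraMap (B ⧸ K) (Localization.Away hb') Gb'))
    haveI : Module.Flat R T' := Module.Flat.trans R (Localization.Away hb') T'
    haveI hT' : IsLocalization.Away (Ideal.Quotient.mk K (h * G')) T' := by
      rw [map_mul]
      exact IsLocalization.Away.mul' (Localization.Away hb') T' hb' Gb'
    let e : T' ≃ₐ[B ⧸ K] Localization.Away (Ideal.Quotient.mk K (h * G')) :=
      IsLocalization.algEquiv (Submonoid.powers (Ideal.Quotient.mk K (h * G'))) _ _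
    exact Module.Flat.of_linearEquiv (e.restrictScalars R).symm.toLinearEquiv

end spread2

end Groth.Agent.Lib.SyntLift19
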