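import Groth.Agent.Lib.SyntLift19a
import Groth.Agent.Lib.SyntLift19c
import Groth.Agent.Lib.KRDescC
import Groth.Agent.Lib.KoszulRetract

/-!
# Lifting syntomic algebras along a quotient: the local claim (helper19)

Namespace `Groth.Agent.Lib.SyntLift19`.

`good_of_local`: `Q` flat over `R`, `L ⊇ I Q` an ideal with `L / I Q` Koszul-regular in `Q / I Q` and `R/I`-flat quotient,
generated modulo `I Q` by `a` with an approximate projector `c` (`hE2`, `hE3`).  `P'` a flat `Q`-algebra of finite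
presentation and flat over `R`, `π` an idempotent matrix over `P'` congruent to `c` modulo `L P'`.  Then the ideal
`K = (πᵀ a)` of `P'` is `Good` at every prime containing `L P'`.
-/

set_option autoImplicit false
set_option maxHeartbeats 800000
set_option linter.style.haveILetI false
universe u

open Groth.Agent.Lib.KoszulIdeal Groth.Agent.Lib.KRDescC

namespace Groth.Agent.Lib.SyntLift19

section generic

/-- transitivity of flatness through a quotient -/
theorem flat_quotient_trans {R₀ X Y : Type u} [CommRing R₀] [CommRing X] [CommRing Y] [Algebra R₀ X]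
    [Algebra X Y] [Algebra R₀ Y] [IsScalarTower R₀ X Y] [Module.Flat X Y] (J : Ideal X)
    [Module.Flat R₀ (X ⧸ J)] : Module.Flat R₀ (Y ⧸ J.map (algebraMap X Y)) := by
  haveI : Module.Flat (X ⧸ J) (Y ⧸ J.map (algebraMap X Y)) := flat_quotient_map J
  haveI : IsScalarTower R₀ (X ⧸ J) (Y ⧸ J.map (algebraMap X Y)) :=
    IsScalarTower.of_algebraMap_eq (fun r => by
      rw [IsScalarTower.algebraMap_apply R₀ Y (Y ⧸ J.map (algebraMap X Y)),
        IsScalarTower.algebraMap_apply R₀ X Y]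
      rfl)
  exact Module.Flat.trans R₀ (X ⧸ J) _

end generic

section alc

variable {R Q P' : Type u} [CommRing R] [CommRing Q] [CommRing P'] [Algebra R Q] [Algebra Q P']
  [Algebra R P'] [IsScalarTower R Q P'] [Module.Flat R Q] [Module.Flat Q P']
  [Algebra.FinitePresentation R P'] [Module.Flat R P']
  (I : Ideal R) (L : Ideal Q) {m : ℕ} (a : Fin m → Q) (c : Matrix (Fin m) (Fin m) Q)
  (π : Matrix (Fin m) (Fin m) P')

theorem good_of_local
    (hL : L = Ideal.span (Set.range a) ⊔ I.map (algebraMap R Q))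
    (hE2 : ∀ k, ∑ i, c i k * a i - a k ∈ L ^ 2 ⊔ I.map (algebraMap R Q))
    (hE3 : ∀ u : Fin m → Q, ∑ k, u k * a k ∈ L ^ 2 ⊔ I.map (algebraMap R Q) →
      ∀ i, ∑ k, c i k * u k ∈ L)
    (hKR : LCI.IsKoszulRegularIdeal (L.map (Ideal.Quotient.mk (I.map (algebraMap R Q)))))
    (hfl : Module.Flat (R ⧸ I) ((Q ⧸ I.map (algebraMap R Q)) ⧸
      L.map (Ideal.Quotient.mk (I.map (algebraMap R Q)))))
    (hπ2 : π * π = π)
    (hπc : ∀ i k, π i k - algebraMap Q P' (c i k) ∈ L.map (algebraMap Q P'))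
    (𝔮 : Ideal P') [𝔮.IsPrime] (hL𝔮 : L.map (algebraMap Q P') ≤ 𝔮) :
    Good R (Ideal.span (Set.range (bvec (fun k => algebraMap Q P' (a k)) π))) 𝔮 := by
  classical
  set IQ : Ideal Q := I.map (algebraMap R Q) with hIQ
  set J₁ : Ideal (Q ⧸ IQ) := L.map (Ideal.Quotient.mk IQ) with hJ₁
  set K : Ideal P' := Ideal.span (Set.range (bvec (fun k => algebraMap Q P' (a k)) π)) with hKdef
  have hIQL : IQ ≤ L := by rw [hL]; exact le_sup_right
  have haL : ∀ k, a k ∈ L := fun k => by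
    rw [hL]; exact Ideal.mem_sup_left (Ideal.subset_span ⟨k, rfl⟩)
  -- the local rings
  haveI : Module.Flat P' (Localization.AtPrime 𝔮) := IsLocalization.flat _ 𝔮.primeCompl
  haveI : Module.Flat Q (Localization.AtPrime 𝔮) := Module.Flat.trans Q P' _
  haveI : IsScalarTower R Q (Localization.AtPrime 𝔮) := by
    refine IsScalarTower.of_algebraMap_eq fun r => ?_
    rw [IsScalarTower.algebraMap_apply R P' (Localization.AtPrime 𝔮),
      IsScalarTower.algebraMap_apply R Q P',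
      ← IsScalarTower.algebraMap_apply Q P' (Localization.AtPrime 𝔮)]
  set IΛ₁ : Ideal (Localization.AtPrime 𝔮) := IQ.map (algebraMap Q (Localization.AtPrime 𝔮)) with hIΛ₁
  haveI : Module.Flat (Q ⧸ IQ) (Localization.AtPrime 𝔮 ⧸ IΛ₁) := flat_quotient_map IQ
  have hLΛ𝔪 : L.map (algebraMap Q (Localization.AtPrime 𝔮)) ≤
      IsLocalRing.maximalIdeal (Localization.AtPrime 𝔮) := by
    rw [Ideal.map_le_iff_le_comap]
    intro x hx
    rw [Ideal.mem_comap, IsScalarTower.algebraMap_apply Q P' (Localization.AtPrime 𝔮)]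
    exact (IsLocalization.AtPrime.to_map_mem_maximal_iff _ 𝔮 _).mpr
      (hL𝔮 (Ideal.mem_map_of_mem _ hx))
  have hIΛ₁𝔪 : IΛ₁ ≤ IsLocalRing.maximalIdeal (Localization.AtPrime 𝔮) :=
    (Ideal.map_mono hIQL).trans hLΛ𝔪
  haveI : Nontrivial (Localization.AtPrime 𝔮 ⧸ IΛ₁) :=
    Ideal.Quotient.nontrivial_iff.mpr (fun h => (IsLocalRing.maximalIdeal.isMaximal _).ne_top
      (top_le_iff.mp (h ▸ hIΛ₁𝔪)))
  haveI : IsLocalRing (Localization.AtPrime 𝔮 ⧸ IΛ₁) :=
    IsLocalRing.of_surjective' (Ideal.Quotient.mk _) Ideal.Quotient.mk_surjective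
  let ρ : Localization.AtPrime 𝔮 →+* (Localization.AtPrime 𝔮 ⧸ IΛ₁) := Ideal.Quotient.mk IΛ₁
  have hρ : Function.Surjective ρ := Ideal.Quotient.mk_surjective
  have hJ₁map : J₁.map (algebraMap (Q ⧸ IQ) (Localization.AtPrime 𝔮 ⧸ IΛ₁)) =
      (L.map (algebraMap Q (Localization.AtPrime 𝔮))).map ρ := by
    have e1 : J₁.map (algebraMap (Q ⧸ IQ) (Localization.AtPrime 𝔮 ⧸ IΛ₁)) =
        L.map ((algebraMap (Q ⧸ IQ) (Localization.AtPrime 𝔮 ⧸ IΛ₁)).comp (Ideal.Quotient.mk IQ)) :=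
      Ideal.map_map _ _
    have e2 : (L.map (algebraMap Q (Localization.AtPrime 𝔮))).map ρ =
        L.map (ρ.comp (algebraMap Q (Localization.AtPrime 𝔮))) := Ideal.map_map _ _
    rw [e1, e2]
    rfl
  have hJm : J₁.map (algebraMap (Q ⧸ IQ) (Localization.AtPrime 𝔮 ⧸ IΛ₁)) ≤
      IsLocalRing.maximalIdeal (Localization.AtPrime 𝔮 ⧸ IΛ₁) := by
    rw [hJ₁map, Ideal.map_le_iff_le_comap]
    intro x hx
    exact mk_mem_maximalIdeal IΛ₁ hIΛ₁𝔪 x (hLΛ𝔪 hx)
  -- the Koszul-regular data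
  let 𝔮₁ : Ideal (Q ⧸ IQ) := (IsLocalRing.maximalIdeal (Localization.AtPrime 𝔮 ⧸ IΛ₁)).comap
    (algebraMap (Q ⧸ IQ) (Localization.AtPrime 𝔮 ⧸ IΛ₁))
  haveI : 𝔮₁.IsPrime := Ideal.comap_isPrime _ _
  have hJ𝔮₁ : J₁ ≤ 𝔮₁ := fun x hx => hJm (Ideal.mem_map_of_mem _ hx)
  obtain ⟨G₁, hG₁, hgen⟩ := (isKoszulRegularIdeal_iff J₁).mp hKR ⟨𝔮₁, inferInstance⟩ hJ𝔮₁
  obtain ⟨s, hs⟩ := hgen.exists_genLen
  have hGu : IsUnit (algebraMap (Q ⧸ IQ) (Localization.AtPrime 𝔮 ⧸ IΛ₁) G₁) := by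
    by_contra hnu
    exact hG₁ ((IsLocalRing.mem_maximalIdeal _).mpr hnu)
  obtain ⟨w, hwlen, hwkr, hJw⟩ := hs.transfer (Localization.AtPrime 𝔮 ⧸ IΛ₁) hGu
  -- hypotheses of the local generation lemma
  have hJ₁span : J₁ = Ideal.span (Set.range (fun k => Ideal.Quotient.mk IQ (a k))) := by
    rw [hJ₁, hL, Ideal.map_sup, Ideal.map_span, ← Set.range_comp, Ideal.map_quotient_self, sup_bot_eq]
    rfl
  have hmapsq : (L ^ 2 ⊔ IQ).map (Ideal.Quotient.mk IQ) = J₁ ^ 2 := by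
    rw [Ideal.map_sup, Ideal.map_pow, Ideal.map_quotient_self, sup_bot_eq]
  have hE2₁ : ∀ k, ∑ i, (c.map (Ideal.Quotient.mk IQ)) i k * Ideal.Quotient.mk IQ (a i) -
      Ideal.Quotient.mk IQ (a k) ∈ J₁ ^ 2 := by
    intro k
    have := Ideal.mem_map_of_mem (Ideal.Quotient.mk IQ) (hE2 k)
    rw [hmapsq] at this
    simpa only [map_sub, map_sum, map_mul, Matrix.map_apply] using this
  have hE3₁ : ∀ u : Fin m → Q ⧸ IQ, ∑ k, u k * Ideal.Quotient.mk IQ (a k) ∈ J₁ ^ 2 →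
      ∀ i, ∑ k, (c.map (Ideal.Quotient.mk IQ)) i k * u k ∈ J₁ := by
    intro u hu i
    choose ut hut using fun k => Ideal.Quotient.mk_surjective (u k)
    have h1 : Ideal.Quotient.mk IQ (∑ k, ut k * a k) ∈ (L ^ 2 ⊔ IQ).map (Ideal.Quotient.mk IQ) := by
      rw [hmapsq, map_sum]
      simpa only [map_mul, hut] using hu
    have h2 : ∑ k, ut k * a k ∈ L ^ 2 ⊔ IQ := by
      have := Ideal.mem_comap.mpr h1
      rw [Ideal.comap_map_of_surjective _ Ideal.Quotient.mk_surjective, ← RingHom.ker_eq_comap_bot,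
        Ideal.mk_ker, sup_assoc, sup_idem] at this
      exact this
    have h3 := Ideal.mem_map_of_mem (Ideal.Quotient.mk IQ) (hE3 ut h2 i)
    simpa only [map_sum, map_mul, hut, Matrix.map_apply] using h3
  have hπ2' : (π.map (algebraMap P' (Localization.AtPrime 𝔮))) *
      (π.map (algebraMap P' (Localization.AtPrime 𝔮))) =
      π.map (algebraMap P' (Localization.AtPrime 𝔮)) := by
    rw [← Matrix.map_mul, hπ2]
  have hπE : ∀ i k, ρ ((π.map (algebraMap P' (Localization.AtPrime 𝔮))) i k) -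
      algebraMap (Q ⧸ IQ) (Localization.AtPrime 𝔮 ⧸ IΛ₁) ((c.map (Ideal.Quotient.mk IQ)) i k) ∈
      J₁.map (algebraMap (Q ⧸ IQ) (Localization.AtPrime 𝔮 ⧸ IΛ₁)) := by
    intro i k
    rw [hJ₁map]
    have h1 := Ideal.mem_map_of_mem (algebraMap P' (Localization.AtPrime 𝔮)) (hπc i k)
    rw [Ideal.map_map, ← IsScalarTower.algebraMap_eq] at h1
    have h2 := Ideal.mem_map_of_mem ρ h1
    have e : ρ ((π.map (algebraMap P' (Localization.AtPrime 𝔮))) i k) -
        algebraMap (Q ⧸ IQ) (Localization.AtPrime 𝔮 ⧸ IΛ₁) ((c.map (Ideal.Quotient.mk IQ)) i k) =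
        ρ (algebraMap P' (Localization.AtPrime 𝔮) (π i k - algebraMap Q P' (c i k))) := by
      rw [map_sub, map_sub, ← IsScalarTower.algebraMap_apply Q P' (Localization.AtPrime 𝔮)]
      rfl
    rw [e]
    exact h2
  obtain ⟨lam, hlam1, hlam2⟩ := exists_local_gens J₁ (fun k => Ideal.Quotient.mk IQ (a k))
    (c.map (Ideal.Quotient.mk IQ)) ρ (fun k => algebraMap Q (Localization.AtPrime 𝔮) (a k))
    (π.map (algebraMap P' (Localization.AtPrime 𝔮))) hJ₁span hE2₁ hE3₁ hρ (fun k => rfl) hπ2' hπE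
    hJm w hJw.symm
  -- the extension of `K`
  have hbmap : ∀ k, algebraMap P' (Localization.AtPrime 𝔮)
      (bvec (fun k => algebraMap Q P' (a k)) π k) =
      bvec (fun k => algebraMap Q (Localization.AtPrime 𝔮) (a k))
        (π.map (algebraMap P' (Localization.AtPrime 𝔮))) k := by
    intro k
    simp only [bvec, map_sum, map_mul, Matrix.map_apply]
    refine Finset.sum_congr rfl fun i _ => ?_
    rw [← IsScalarTower.algebraMap_apply Q P' (Localization.AtPrime 𝔮)]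
  have hKmap : K.map (algebraMap P' (Localization.AtPrime 𝔮)) =
      Ideal.span (Set.range (bvec (fun k => algebraMap Q (Localization.AtPrime 𝔮) (a k))
        (π.map (algebraMap P' (Localization.AtPrime 𝔮))))) := by
    rw [hKdef, Ideal.map_span, ← Set.range_comp]
    congr 2
    funext k
    exact hbmap k
  let lamL : List (Localization.AtPrime 𝔮) := List.ofFn lam
  have hlamK : Ideal.ofList lamL = K.map (algebraMap P' (Localization.AtPrime 𝔮)) := by
    rw [ofList_ofFn, hlam1, hKmap]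
  have hof : Ideal.ofList (lamL.map ρ) =
      J₁.map (algebraMap (Q ⧸ IQ) (Localization.AtPrime 𝔮 ⧸ IΛ₁)) := by
    rw [List.map_ofFn, ofList_ofFn]
    exact hlam2
  have hkr : LCI.IsKoszulRegularSeq (Localization.AtPrime 𝔮 ⧸ IΛ₁) (lamL.map ρ) :=
    Groth.Agent.Lib.KoszulRetract.Retr.isKoszulRegularSeq_of_length_le _ w (hof.trans hJw)
      (by simp [lamL]) hwkr
  -- the `R/I`-structure
  haveI : Module.Flat (R ⧸ I) (Q ⧸ IQ) := flat_quotient_map I
  letI algRI : Algebra (R ⧸ I) (Localization.AtPrime 𝔮 ⧸ IΛ₁) :=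
    ((algebraMap (Q ⧸ IQ) (Localization.AtPrime 𝔮 ⧸ IΛ₁)).comp (algebraMap (R ⧸ I) (Q ⧸ IQ))).toAlgebra
  haveI : IsScalarTower (R ⧸ I) (Q ⧸ IQ) (Localization.AtPrime 𝔮 ⧸ IΛ₁) :=
    IsScalarTower.of_algebraMap_eq (fun _ => rfl)
  haveI : Module.Flat (R ⧸ I) (Localization.AtPrime 𝔮 ⧸ IΛ₁) := Module.Flat.trans (R ⧸ I) (Q ⧸ IQ) _
  have hkerρ : RingHom.ker ρ = I.map (algebraMap R (Localization.AtPrime 𝔮)) := by
    rw [Ideal.mk_ker, hIΛ₁, hIQ, Ideal.map_map, ← IsScalarTower.algebraMap_eq]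
  have hcompat : (algebraMap (R ⧸ I) (Localization.AtPrime 𝔮 ⧸ IΛ₁)).comp (Ideal.Quotient.mk I) =
      ρ.comp (algebraMap R (Localization.AtPrime 𝔮)) := by
    ext r
    show algebraMap (Q ⧸ IQ) (Localization.AtPrime 𝔮 ⧸ IΛ₁)
      (algebraMap (R ⧸ I) (Q ⧸ IQ) (Ideal.Quotient.mk I r)) = ρ (algebraMap R (Localization.AtPrime 𝔮) r)
    rw [IsScalarTower.algebraMap_apply R Q (Localization.AtPrime 𝔮)]
    rfl
  have hfl' : Module.Flat (R ⧸ I) ((Localization.AtPrime 𝔮 ⧸ IΛ₁) ⧸ Ideal.ofList (lamL.map ρ)) := by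
    rw [hof]
    haveI := hfl
    exact flat_quotient_trans (R₀ := R ⧸ I) (X := Q ⧸ IQ) (Y := Localization.AtPrime 𝔮 ⧸ IΛ₁) J₁
  have hLP'mem : ∀ k, algebraMap Q P' (a k) ∈ L.map (algebraMap Q P') :=
    fun k => Ideal.mem_map_of_mem _ (haL k)
  have hI𝔮 : I.map (algebraMap R P') ≤ 𝔮 := by
    have : I.map (algebraMap R P') = IQ.map (algebraMap Q P') := by
      rw [hIQ, Ideal.map_map, ← IsScalarTower.algebraMap_eq]
    rw [this]
    exact (Ideal.map_mono hIQL).trans hL𝔮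
  have hK𝔮 : K ≤ 𝔮 := by
    rw [hKdef, Ideal.span_le]
    rintro _ ⟨k, rfl⟩
    exact hL𝔮 (Ideal.sum_mem _ fun i _ => Ideal.mul_mem_left _ _ (hLP'mem i))
  have hK : K.FG := ⟨Finset.univ.image (bvec (fun k => algebraMap Q P' (a k)) π), by
    rw [hKdef]; simp⟩
  have hflat := flat_atPrime_quotient I K 𝔮 hI𝔮 hK𝔮 ρ hρ hkerρ hcompat lamL hlamK hkr hfl'
  exact exists_good I K 𝔮 hK hI𝔮 hK𝔮 ρ hρ hkerρ lamL hlamK hkr hflat

end alc

end Groth.Agent.Lib.SyntLift19
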