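import Groth.Agent.Lib.SyntLift19d
import Groth.Agent.Lib.SmoothLCI
import Groth.Agent.Lib.LCIComp
import Groth.Agent.Lib.FlatOverAlg

/-!
# Lifting syntomic algebras along a quotient: global assembly (helper19)

Namespace `Groth.Agent.Lib.SyntLift19`.

* `exists_good_elt`: if `K` is `Good` at all primes containing `𝔩`, it is `Good` at all primes of a basic open `D(ũ)` with
  `ũ ≡ 1 mod 𝔩`.
* `isSyntomic_away_of_good`: `R → B` smooth, `K` `Good` on `D(ũ)`; then `(B/K)_ũ` is syntomic over `R`.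
-/

set_option autoImplicit false
set_option maxHeartbeats 400000
set_option linter.style.haveILetI false
universe u

open Groth.Agent.Lib.KoszulIdeal

namespace Groth.Agent.Lib.SyntLift19

section compact

variable {R B : Type u} [CommRing R] [CommRing B] [Algebra R B]

theorem exists_good_elt (K 𝔩 : Ideal B)
    (h : ∀ (𝔮 : Ideal B) [𝔮.IsPrime], 𝔩 ≤ 𝔮 → Good R K 𝔮) :
    ∃ ũ : B, ũ - 1 ∈ 𝔩 ∧ ∀ (𝔯 : Ideal B) [𝔯.IsPrime], ũ ∉ 𝔯 → Good R K 𝔯 := by
  classical
  let S : Set B := {g | GenAt K g ∧ Module.Flat R (Localization.Away (Ideal.Quotient.mk K g))}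
  have htop : Ideal.span S ⊔ 𝔩 = ⊤ := by
    by_contra hne
    obtain ⟨𝔪, hmax, hle⟩ := Ideal.exists_le_maximal _ hne
    haveI := hmax.isPrime
    obtain ⟨g, hg, hgen, hfl⟩ := h 𝔪 (le_sup_right.trans hle)
    exact hg (hle (Ideal.mem_sup_left (Ideal.subset_span ⟨hgen, hfl⟩)))
  obtain ⟨β, hβ, l, hl, hsum⟩ := Submodule.mem_sup.mp ((Ideal.eq_top_iff_one _).mp htop)
  refine ⟨β, ?_, ?_⟩
  · have : β - 1 = -l := by rw [← hsum]; ring
    rw [this]
    exact 𝔩.neg_mem hl
  · intro 𝔯 _ hβ𝔯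
    by_contra hbad
    apply hβ𝔯
    have hS : S ⊆ (𝔯 : Set B) := by
      intro g hg
      by_contra hg𝔯
      exact hbad ⟨g, hg𝔯, hg.1, hg.2⟩
    exact (Ideal.span_le.mpr hS) hβ

end compact

section assemble

variable {R B : Type u} [CommRing R] [CommRing B] [Algebra R B] [Algebra.Smooth R B]

theorem isLCI_away_of_good (K : Ideal B) (ũ : B)
    (h : ∀ (𝔯 : Ideal B) [𝔯.IsPrime], ũ ∉ 𝔯 → Good R K 𝔯) :
    LCI.IsLCI R (Localization.Away (Ideal.Quotient.mk K ũ)) := by
  classical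
  let A' := Localization.Away ũ
  haveI : Algebra.Smooth B A' := Algebra.Smooth.of_isLocalization_Away ũ
  haveI : Algebra.Smooth R A' := Algebra.Smooth.comp R B A'
  haveI : Module.Flat B A' := IsLocalization.flat A' (Submonoid.powers ũ)
  have hKR : LCI.IsKoszulRegularIdeal (K.map (algebraMap B A')) := by
    rw [isKoszulRegularIdeal_iff]
    intro 𝔭 _
    let 𝔯 : Ideal B := 𝔭.asIdeal.comap (algebraMap B A')
    haveI : 𝔯.IsPrime := Ideal.comap_isPrime _ _
    have hũ : ũ ∉ 𝔯 := by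
      intro hm
      have hu : IsUnit (algebraMap B A' ũ) := IsLocalization.Away.algebraMap_isUnit ũ
      exact 𝔭.isPrime.ne_top (Ideal.eq_top_of_isUnit_mem _ hm hu)
    obtain ⟨g, hg, hgen, -⟩ := h 𝔯 hũ
    exact ⟨algebraMap B A' g, hg, Groth.Agent.Lib.LCIComp.GenAt.map_of_flat hgen⟩
  have h1 : LCI.IsLCI R A' := Groth.Agent.Lib.SmoothLCI.isLCI_of_smooth
  have h2 : LCI.IsLCI A' (A' ⧸ K.map (algebraMap B A')) :=
    Groth.Agent.Lib.SmoothLCI.isLCI_quotient _ hKR
  have h3 : LCI.IsLCI R (A' ⧸ K.map (algebraMap B A')) := Groth.Agent.Lib.LCIComp.isLCI_comp h1 h2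
  haveI := isLocalizationAway_quotient K ũ A'
  let e : (A' ⧸ K.map (algebraMap B A')) ≃ₐ[B ⧸ K] Localization.Away (Ideal.Quotient.mk K ũ) :=
    IsLocalization.algEquiv (Submonoid.powers (Ideal.Quotient.mk K ũ)) _ _
  haveI : IsScalarTower R (B ⧸ K) (A' ⧸ K.map (algebraMap B A')) := by
    refine IsScalarTower.of_algebraMap_eq fun r => ?_
    show Ideal.Quotient.mk _ (algebraMap R A' r) =
      algebraMap (B ⧸ K) (A' ⧸ K.map (algebraMap B A')) (Ideal.Quotient.mk K (algebraMap R B r))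
    rw [IsScalarTower.algebraMap_apply R B A']
    rfl
  exact Groth.Agent.Lib.LCIComp.isLCI_of_algEquiv (e.restrictScalars R) h3

end assemble

section flatness

variable {R B : Type u} [CommRing R] [CommRing B] [Algebra R B]

theorem flat_away_of_good (K : Ideal B) (ũ : B)
    (h : ∀ (𝔯 : Ideal B) [𝔯.IsPrime], ũ ∉ 𝔯 → Good R K 𝔯) :
    Module.Flat R (Localization.Away (Ideal.Quotient.mk K ũ)) := by
  classical
  set u : B ⧸ K := Ideal.Quotient.mk K ũ with hu
  refine Groth.Agent.Lib.FlatOverAlg.flat_of_forall_maximal_exists (R := R)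
    (S := Localization.Away u) (M := Localization.Away u) fun 𝔫 hmax => ?_
  haveI : 𝔫.IsPrime := hmax.isPrime
  let Qp : Ideal (B ⧸ K) := 𝔫.comap (algebraMap (B ⧸ K) (Localization.Away u))
  haveI : Qp.IsPrime := Ideal.comap_isPrime _ _
  have huQ : u ∉ Qp := by
    intro hm
    have hun : IsUnit (algebraMap (B ⧸ K) (Localization.Away u) u) :=
      IsLocalization.Away.algebraMap_isUnit u
    exact (inferInstance : 𝔫.IsPrime).ne_top (Ideal.eq_top_of_isUnit_mem _ hm hun)
  let 𝔯 : Ideal B := Qp.comap (Ideal.Quotient.mk K)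
  haveI : 𝔯.IsPrime := Ideal.comap_isPrime _ _
  have hũ𝔯 : ũ ∉ 𝔯 := huQ
  obtain ⟨g, hg, -, hfl⟩ := h 𝔯 hũ𝔯
  haveI := hfl
  have hgQ : Ideal.Quotient.mk K g ∉ Qp := hg
  obtain ⟨Q'', _, -, ⟨E₁⟩⟩ := Groth.Agent.Lib.SyntNhd.exists_atPrime_algEquiv_of_away R
    (T := B ⧸ K) (T' := Localization.Away (Ideal.Quotient.mk K g)) (Ideal.Quotient.mk K g) Qp hgQ
  haveI : Module.Flat (Localization.Away (Ideal.Quotient.mk K g)) (Localization.AtPrime Q'') :=
    IsLocalization.flat _ Q''.primeCompl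
  haveI : Module.Flat R (Localization.AtPrime Q'') :=
    Module.Flat.trans R (Localization.Away (Ideal.Quotient.mk K g)) _
  haveI : Module.Flat R (Localization.AtPrime Qp) := Module.Flat.of_linearEquiv E₁.toLinearEquiv
  obtain ⟨Q', hQ'prime, hQ', ⟨E₂⟩⟩ := Groth.Agent.Lib.SyntNhd.exists_atPrime_algEquiv_of_away R
    (T := B ⧸ K) (T' := Localization.Away u) u Qp huQ
  have hQ'𝔫 : Q' = 𝔫 := by
    rw [← IsLocalization.map_comap (Submonoid.powers u) (Localization.Away u) Q',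
      ← IsLocalization.map_comap (Submonoid.powers u) (Localization.Away u) 𝔫]
    exact congrArg (Ideal.map (algebraMap (B ⧸ K) (Localization.Away u))) hQ'
  subst hQ'𝔫
  refine ⟨Localization.AtPrime Q', inferInstance, inferInstance, inferInstance, inferInstance,
    Algebra.linearMap _ _, inferInstance, ?_⟩
  exact Module.Flat.of_linearEquiv E₂.symm.toLinearEquiv

end flatness

end Groth.Agent.Lib.SyntLift19
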