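import Groth.Agent.Lib.SyntLift19e
import Groth.Agent.Lib.SmoothAlgLift22d
import Groth.Agent.Lib.SmoothAlgLift22e
import Groth.Agent.Lib.SmoothAlgLift22g
import Groth.Agent.Lib.ProjCutD19
import Groth.Agent.Lib.SyntLCI2
import Groth.Agent.Lib.ConormalKoszul32

/-!
# Lifting syntomic algebras along a quotient (helper19)

Namespace `Groth.Agent.Lib.SyntLift19`.

`exists_syntomic_lift`: `I` an ideal of `R`, `A₀` a syntomic `R/I`-algebra.  Then there is a syntomic `R`-algebra `A` with
`A / I A ≅ A₀` as `R/I`-algebras.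
-/

set_option autoImplicit false
set_option maxHeartbeats 400000
set_option linter.style.haveILetI false
universe u

open Groth.Agent.Lib.KoszulIdeal Groth.Agent.Lib.PairEtaleNbhd

namespace Groth.Agent.Lib.SyntLift19

section projector

/-- an honest projector on an étale neighbourhood -/
theorem exists_nbhd_projector' {P : Type u} [CommRing P] (L : Ideal P) {n : ℕ}
    (c : Matrix (Fin n) (Fin n) P) (hc : ∀ j l, (c * c - c) j l ∈ L) :
    ∃ (P' : Type u) (_ : CommRing P') (_ : Algebra P P'), IsNbhd L P' ∧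
      ∃ π : Matrix (Fin n) (Fin n) P', π * π = π ∧
        ∀ j l, π j l - algebraMap P P' (c j l) ∈ L.map (algebraMap P P') := by
  obtain ⟨P', _, _, hP', π, t, ht, htπ, hπ⟩ :=
    Groth.Agent.Lib.SmoothAlgLift22.exists_nbhd_projector L c hc
  refine ⟨Localization.Away t, inferInstance, inferInstance, hP'.away t ht,
    π.map (algebraMap P' (Localization.Away t)), ?_, ?_⟩
  · have hu : IsUnit (algebraMap P' (Localization.Away t) t) :=
      IsLocalization.Away.algebraMap_isUnit t
    have key : ∀ j l, algebraMap P' (Localization.Away t) ((π * π) j l) =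
        algebraMap P' (Localization.Away t) (π j l) := by
      intro j l
      have h1 : t * (π * π - π) j l = 0 := by
        have := congrFun (congrFun htπ j) l
        simpa [Matrix.smul_apply] using this
      have h2 := congrArg (algebraMap P' (Localization.Away t)) h1
      rw [map_mul, map_zero] at h2
      have h3 := (hu.mul_right_eq_zero).mp h2
      rw [Matrix.sub_apply, map_sub, sub_eq_zero] at h3
      exact h3
    rw [← Matrix.map_mul]
    ext j l
    simp only [Matrix.map_apply]
    exact key j l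
  · intro j l
    have h1 := Ideal.mem_map_of_mem (algebraMap P' (Localization.Away t)) (hπ j l)
    rw [Ideal.map_map, ← IsScalarTower.algebraMap_eq, map_sub,
      ← IsScalarTower.algebraMap_apply] at h1
    exact h1

end projector

section nak

variable {R Q P' : Type u} [CommRing R] [CommRing Q] [CommRing P'] [Algebra R Q] [Algebra Q P']
  [Algebra R P'] [IsScalarTower R Q P'] (I : Ideal R) (L : Ideal Q) {m : ℕ} (a : Fin m → Q)
  (c : Matrix (Fin m) (Fin m) Q) (π : Matrix (Fin m) (Fin m) P')

/-- `Q → P' → P'/K` -/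
noncomputable def thetaK : Q →+* P' ⧸ Ideal.span (Set.range (bvec (fun k => algebraMap Q P' (a k)) π)) :=
  (Ideal.Quotient.mk _).comp (algebraMap Q P')

theorem thetaK_comp_algebraMap :
    (thetaK a π).comp (algebraMap R Q) = algebraMap R
      (P' ⧸ Ideal.span (Set.range (bvec (fun k => algebraMap Q P' (a k)) π))) := by
  ext r
  show Ideal.Quotient.mk _ (algebraMap Q P' (algebraMap R Q r)) = _
  rw [← IsScalarTower.algebraMap_apply R Q P']
  rfl

theorem exists_unit_mul_mem'
    (hL : L = Ideal.span (Set.range a) ⊔ I.map (algebraMap R Q))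
    (hE2 : ∀ k, ∑ i, c i k * a i - a k ∈ L ^ 2 ⊔ I.map (algebraMap R Q))
    (hπc : ∀ i k, π i k - algebraMap Q P' (c i k) ∈ L.map (algebraMap Q P')) :
    ∃ u : P' ⧸ Ideal.span (Set.range (bvec (fun k => algebraMap Q P' (a k)) π)),
      u - 1 ∈ L.map (thetaK a π) ∧ ∀ x ∈ L.map (thetaK a π),
        u * x ∈ I.map (algebraMap R
          (P' ⧸ Ideal.span (Set.range (bvec (fun k => algebraMap Q P' (a k)) π)))) := by
  classical
  set K : Ideal P' := Ideal.span (Set.range (bvec (fun k => algebraMap Q P' (a k)) π)) with hK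
  set θ : Q →+* P' ⧸ K := thetaK a π with hθ
  set N : Ideal (P' ⧸ K) := L.map θ with hN
  set IT : Ideal (P' ⧸ K) := I.map (algebraMap R (P' ⧸ K)) with hIT
  have haL : ∀ k, a k ∈ L := fun k => by
    rw [hL]; exact Ideal.mem_sup_left (Ideal.subset_span ⟨k, rfl⟩)
  have hIQ : (I.map (algebraMap R Q)).map θ = IT := by
    rw [Ideal.map_map, hθ, thetaK_comp_algebraMap]
  have hsq : (L ^ 2 ⊔ I.map (algebraMap R Q)).map θ ≤ N ^ 2 ⊔ IT := by
    rw [Ideal.map_sup, Ideal.map_pow, hIQ]
  have hπN : ∀ i k, Ideal.Quotient.mk K (π i k - algebraMap Q P' (c i k)) ∈ N := by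
    intro i k
    have := Ideal.mem_map_of_mem (Ideal.Quotient.mk K) (hπc i k)
    rw [Ideal.map_map] at this
    exact this
  have hθa : ∀ k, θ (a k) ∈ N ^ 2 ⊔ IT := by
    intro k
    have hb : Ideal.Quotient.mk K (bvec (fun k => algebraMap Q P' (a k)) π k) = 0 :=
      Ideal.Quotient.eq_zero_iff_mem.mpr (Ideal.subset_span ⟨k, rfl⟩)
    have e : θ (a k) = -θ (∑ i, c i k * a i - a k) -
        ∑ i, Ideal.Quotient.mk K (π i k - algebraMap Q P' (c i k)) * θ (a i) := by
      have h0 : θ (a k) = θ (a k) - Ideal.Quotient.mk K (bvec (fun k => algebraMap Q P' (a k)) π k) := by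
        rw [hb, sub_zero]
      conv_lhs => rw [h0]
      simp only [bvec, hθ, thetaK, map_sub, map_sum, map_mul, RingHom.comp_apply, sub_mul,
        Finset.sum_sub_distrib]
      ring
    rw [e]
    refine Ideal.sub_mem _ (neg_mem (hsq (Ideal.mem_map_of_mem _ (hE2 k))))
      (Ideal.sum_mem _ fun i _ => Ideal.mem_sup_left ?_)
    rw [pow_two]
    exact Ideal.mul_mem_mul (hπN i k) (Ideal.mem_map_of_mem _ (haL i))
  have hNs : N = Ideal.span (Set.range (fun k => θ (a k))) ⊔ IT := by
    rw [hN]
    conv_lhs => rw [hL]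
    rw [Ideal.map_sup, Ideal.map_span, ← Set.range_comp, hIQ]
    rfl
  have hle : N ≤ N ^ 2 ⊔ IT := by
    conv_lhs => rw [hNs]
    refine sup_le ?_ le_sup_right
    rw [Ideal.span_le]
    rintro _ ⟨k, rfl⟩
    exact hθa k
  let Nb : Submodule (P' ⧸ K) ((P' ⧸ K) ⧸ IT) := Submodule.map (Submodule.mkQ IT) N
  have hNbfg : Nb.FG := by
    have : Nb = Submodule.map (Submodule.mkQ IT)
        (Ideal.span (Set.range (fun k => θ (a k)))) := by
      change Submodule.map (Submodule.mkQ IT) N = _
      rw [hNs, Submodule.map_sup]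
      have : Submodule.map (Submodule.mkQ IT) IT = ⊥ := by
        rw [Submodule.mkQ_map_self]
      rw [this, sup_bot_eq]
    rw [this]
    apply Submodule.FG.map
    exact ⟨Finset.univ.image (fun k => θ (a k)), by simp⟩
  have hNb : Nb ≤ N • Nb := by
    change Submodule.map (Submodule.mkQ IT) N ≤ N • Submodule.map (Submodule.mkQ IT) N
    rw [← Submodule.map_smul'']
    have h2 : Submodule.map (Submodule.mkQ IT) N ≤
        Submodule.map (Submodule.mkQ IT) (N ^ 2 ⊔ IT) := Submodule.map_mono hle
    refine h2.trans ?_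
    rw [Submodule.map_sup]
    have : Submodule.map (Submodule.mkQ IT) IT = ⊥ := by
      rw [Submodule.mkQ_map_self]
    rw [this, sup_bot_eq, pow_two]
    rfl
  obtain ⟨r, hr1, hr2⟩ :=
    Submodule.exists_sub_one_mem_and_smul_eq_zero_of_fg_of_le_smul N Nb hNbfg hNb
  refine ⟨r, hr1, fun x hx => ?_⟩
  have h3 := hr2 (Submodule.mkQ IT x) (Submodule.mem_map_of_mem hx)
  rw [← map_smul, Submodule.mkQ_apply, Submodule.Quotient.mk_eq_zero] at h3
  exact h3

end nak

end Groth.Agent.Lib.SyntLift19
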