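import Groth.Agent.Lib.SyntLift19f
import Groth.Agent.Lib.SyntLCI3
import Groth.Agent.Lib.LCIComp
import Groth.Agent.Lib.KRDescC

/-!
# Lifting syntomic algebras along a quotient (helper19), part g: the polynomial set-up

Namespace `Groth.Agent.Lib.SyntLift19`.
-/

set_option autoImplicit false
set_option maxHeartbeats 400000
set_option linter.style.haveILetI false
universe u

open MvPolynomial Groth.Agent.Lib.SmoothAlgLift22

namespace Groth.Agent.Lib.SyntLift19

section setup

variable {R A₀ : Type u} [CommRing R] (I : Ideal R) [CommRing A₀] [Algebra (R ⧸ I) A₀]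

theorem exists_setup (h : Synt.IsSyntomic (R ⧸ I) A₀) :
    ∃ (n : ℕ) (φb : MvPolynomial (Fin n) (R ⧸ I) →ₐ[R ⧸ I] A₀) (_ : Function.Surjective φb)
      (m : ℕ) (a : Fin m → MvPolynomial (Fin n) R)
      (c : Matrix (Fin m) (Fin m) (MvPolynomial (Fin n) R)),
      RingHom.ker (psi I φb) = Ideal.span (Set.range a) ⊔
        I.map (algebraMap R (MvPolynomial (Fin n) R)) ∧
      (∀ k, ∑ i, c i k * a i - a k ∈ (RingHom.ker (psi I φb)) ^ 2 ⊔
        I.map (algebraMap R (MvPolynomial (Fin n) R))) ∧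
      (∀ u : Fin m → MvPolynomial (Fin n) R, ∑ k, u k * a k ∈ (RingHom.ker (psi I φb)) ^ 2 ⊔
        I.map (algebraMap R (MvPolynomial (Fin n) R)) →
          ∀ i, ∑ k, c i k * u k ∈ RingHom.ker (psi I φb)) ∧
      (∀ j l, (c * c - c) j l ∈ RingHom.ker (psi I φb)) ∧
      LCI.IsKoszulRegularIdeal ((RingHom.ker (psi I φb)).map
        (Ideal.Quotient.mk (I.map (algebraMap R (MvPolynomial (Fin n) R))))) ∧
      Module.Flat (R ⧸ I) ((MvPolynomial (Fin n) R ⧸ I.map (algebraMap R (MvPolynomial (Fin n) R))) ⧸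
        (RingHom.ker (psi I φb)).map
          (Ideal.Quotient.mk (I.map (algebraMap R (MvPolynomial (Fin n) R))))) := by
  classical
  have hLCI : LCI.IsLCI (R ⧸ I) A₀ := Groth.Agent.Lib.SyntLCI.isLCI_of_isSyntomic h
  obtain ⟨hft, n, φb, hφb, hK⟩ := hLCI
  haveI : Module.Flat (R ⧸ I) A₀ := h.1
  let Pext : Algebra.Extension.{u} (R ⧸ I) A₀ := Algebra.Extension.ofSurjective φb hφb
  have hK' : LCI.IsKoszulRegularIdeal Pext.ker := hK
  obtain ⟨hfin, hproj⟩ := Groth.Agent.Lib.ConormalKoszul32.finite_projective_cotangent Pext hK'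
  have hfg : (RingHom.ker φb.toRingHom).FG :=
    Groth.Agent.Lib.KRDescC.fg_of_isKoszulRegularIdeal hK
  obtain ⟨m, ab, hab⟩ := Submodule.fg_iff_exists_fin_generating_family.mp hfg
  have hker : RingHom.ker φb.toRingHom = Ideal.span (Set.range ab) := hab.symm
  have habI : ∀ k, ab k ∈ RingHom.ker φb.toRingHom := fun k => by
    rw [hker]; exact Ideal.subset_span ⟨k, rfl⟩
  obtain ⟨E₀, hE₀2, hE₀3⟩ := Groth.Agent.Lib.ProjCut19.exists_projector Pext ab hker
  obtain ⟨Eb, hEb1, hEb2, hEb3⟩ := Groth.Agent.Lib.ProjCut19.exists_good_projector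
    (RingHom.ker φb.toRingHom) ab habI E₀ hE₀2 hE₀3
  set J₀ : Ideal (MvPolynomial (Fin n) (R ⧸ I)) := RingHom.ker φb.toRingHom with hJ₀
  set L : Ideal (MvPolynomial (Fin n) R) := RingHom.ker (psi I φb) with hLdef
  set IQ : Ideal (MvPolynomial (Fin n) R) := I.map (algebraMap R (MvPolynomial (Fin n) R))
    with hIQdef
  choose a ha using fun k => redHom_surjective I (ab k)
  choose c hc using fun i k => redHom_surjective I (Eb i k)
  have hIQ : IQ = RingHom.ker (redHom I (n := n)) := by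
    rw [ker_redHom, hIQdef, MvPolynomial.algebraMap_eq]
  have hmemL : ∀ x : MvPolynomial (Fin n) R, x ∈ L ↔ redHom I x ∈ J₀ := by
    intro x
    rw [hLdef, RingHom.mem_ker, psi_apply, hJ₀, RingHom.mem_ker]
    rfl
  have hmapL : L.map (redHom I) = J₀ := map_ker_psi I φb
  have hIQL : IQ ≤ L := by
    intro x hx
    rw [hIQ, RingHom.mem_ker] at hx
    rw [hmemL, hx]
    exact Ideal.zero_mem _
  have h2 : L ^ 2 ⊔ IQ = (J₀ ^ 2).comap (redHom I) := by
    rw [← hmapL, ← Ideal.map_pow, Ideal.comap_map_of_surjective _ (redHom_surjective I), hIQ]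
    rfl
  have hmem2 : ∀ x : MvPolynomial (Fin n) R, x ∈ L ^ 2 ⊔ IQ ↔ redHom I x ∈ J₀ ^ 2 := by
    intro x
    rw [h2, Ideal.mem_comap]
  have hLeq : L = Ideal.span (Set.range a) ⊔ IQ := by
    have h1 : J₀ = (Ideal.span (Set.range a)).map (redHom I) := by
      rw [Ideal.map_span, ← Set.range_comp]
      have : (redHom I (n := n)) ∘ a = ab := _root_.funext ha
      rw [this]
      exact hker
    have h3 : L = J₀.comap (redHom I) := by
      ext x
      rw [hmemL, Ideal.mem_comap]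
    rw [h3, h1, Ideal.comap_map_of_surjective _ (redHom_surjective I), hIQ]
    rfl
  refine ⟨n, φb, hφb, m, a, Matrix.of c, hLeq, ?_, ?_, ?_, ?_, ?_⟩
  · intro k
    rw [hmem2, map_sub, map_sum]
    simp only [map_mul, Matrix.of_apply, ha, hc]
    exact hEb2 k
  · intro u hu i
    rw [hmem2, map_sum] at hu
    simp only [map_mul, ha] at hu
    rw [hmemL, map_sum]
    simp only [map_mul, Matrix.of_apply, hc]
    exact hEb3 (fun k => redHom I (u k)) hu i
  · intro j l
    rw [hmemL, Matrix.sub_apply, Matrix.mul_apply, map_sub, map_sum]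
    simp only [map_mul, Matrix.of_apply, hc]
    have := hEb1 j l
    rw [Matrix.sub_apply, Matrix.mul_apply] at this
    exact Ideal.pow_le_self two_ne_zero this
  · -- Koszul-regularity
    let e : (MvPolynomial (Fin n) R ⧸ IQ) ≃+* MvPolynomial (Fin n) (R ⧸ I) :=
      (Ideal.quotEquivOfEq hIQ).trans
        (RingHom.quotientKerEquivOfSurjective (redHom_surjective I))
    have he : ∀ x : MvPolynomial (Fin n) R, e (Ideal.Quotient.mk IQ x) = redHom I x := fun x => rfl
    have hcomap : L.map (Ideal.Quotient.mk IQ) = J₀.comap (e : (MvPolynomial (Fin n) R ⧸ IQ) →+* _) := by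
      ext x
      obtain ⟨x, rfl⟩ := Ideal.Quotient.mk_surjective x
      rw [Ideal.mem_quotient_iff_mem hIQL, Ideal.mem_comap, hmemL]
      rfl
    rw [hcomap]
    exact Groth.Agent.Lib.LCIComp.isKoszulRegularIdeal_comap_ringEquiv e J₀ hK
  · -- flatness
    set J₁ : Ideal (MvPolynomial (Fin n) R ⧸ IQ) := L.map (Ideal.Quotient.mk IQ) with hJ₁
    let ψ₁ : (MvPolynomial (Fin n) R ⧸ IQ) →+* A₀ := Ideal.Quotient.lift IQ (psi I φb) (fun x hx => hIQL hx)
    let ψ₁a : (MvPolynomial (Fin n) R ⧸ IQ) →ₐ[R ⧸ I] A₀ :=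
      { ψ₁ with
        commutes' := by
          intro r
          obtain ⟨r, rfl⟩ := Ideal.Quotient.mk_surjective r
          show psi I φb (algebraMap R (MvPolynomial (Fin n) R) r) = _
          rw [MvPolynomial.algebraMap_eq, psi_C] }
    have hψ₁a : ∀ x : MvPolynomial (Fin n) R, ψ₁a (Ideal.Quotient.mk IQ x) = psi I φb x := fun x => rfl
    let ψ₂ : ((MvPolynomial (Fin n) R ⧸ IQ) ⧸ J₁) →ₐ[R ⧸ I] A₀ := Ideal.Quotient.liftₐ J₁ ψ₁a (by
      intro x hx
      obtain ⟨x, rfl⟩ := Ideal.Quotient.mk_surjective x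
      rw [hJ₁, Ideal.mem_quotient_iff_mem hIQL] at hx
      rw [hψ₁a]
      exact hx)
    have hψ₂ : ∀ x : MvPolynomial (Fin n) R, ψ₂ (Ideal.Quotient.mk J₁ (Ideal.Quotient.mk IQ x)) = psi I φb x :=
      fun x => rfl
    have hbij : Function.Bijective ψ₂ := by
      constructor
      · rw [injective_iff_map_eq_zero]
        intro x hx
        obtain ⟨x, rfl⟩ := Ideal.Quotient.mk_surjective x
        obtain ⟨x, rfl⟩ := Ideal.Quotient.mk_surjective x
        rw [hψ₂] at hx
        rw [Ideal.Quotient.eq_zero_iff_mem, hJ₁, Ideal.mem_quotient_iff_mem hIQL]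
        exact hx
      · intro y
        obtain ⟨x, rfl⟩ := psi_surjective I φb hφb y
        exact ⟨_, hψ₂ x⟩
    exact Module.Flat.of_linearEquiv (AlgEquiv.ofBijective ψ₂ hbij).toLinearEquiv

end setup

end Groth.Agent.Lib.SyntLift19
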