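import Groth.Agent.Lib.SyntLift19g

/-!
# Lifting syntomic algebras along a quotient (helper19), part h: the theorem

Namespace `Groth.Agent.Lib.SyntLift19`.

`exists_syntomic_lift`: `I` an ideal of `R`, `A₀` a syntomic `R/I`-algebra.  Then there is a
syntomic `R`-algebra `A` with `A / I A ≅ A₀` as `R/I`-algebras.
-/

set_option autoImplicit false
set_option maxHeartbeats 400000
set_option linter.style.haveILetI false
universe u

open MvPolynomial Groth.Agent.Lib.SmoothAlgLift22 Groth.Agent.Lib.PairEtaleNbhd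
  Groth.Agent.Lib.KoszulIdeal

namespace Groth.Agent.Lib.SyntLift19

theorem exists_syntomic_lift {R A₀ : Type u} [CommRing R] (I : Ideal R) [CommRing A₀]
    [Algebra (R ⧸ I) A₀] (h : Synt.IsSyntomic (R ⧸ I) A₀) :
    ∃ (A : Type u) (_ : CommRing A) (_ : Algebra R A), Synt.IsSyntomic R A ∧
      Nonempty ((A ⧸ I.map (algebraMap R A)) ≃ₐ[R ⧸ I] A₀) := by
  classical
  obtain ⟨n, φb, hφb, m, a, c, hL, hE2, hE3, hc, hKR, hfl⟩ := exists_setup I h
  obtain ⟨P', _, _, hP', π, hπ2, hπc⟩ := exists_nbhd_projector' (RingHom.ker (psi I φb)) c hc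
  letI : Algebra R P' :=
    ((algebraMap (MvPolynomial (Fin n) R) P').comp
      (algebraMap R (MvPolynomial (Fin n) R))).toAlgebra
  haveI : IsScalarTower R (MvPolynomial (Fin n) R) P' :=
    IsScalarTower.of_algebraMap_eq fun _ => rfl
  haveI : Algebra.Etale (MvPolynomial (Fin n) R) P' := hP'.etale
  haveI : Algebra.FinitePresentation R P' :=
    Algebra.FinitePresentation.trans R (MvPolynomial (Fin n) R) P'
  haveI : Module.Flat (MvPolynomial (Fin n) R) P' := inferInstance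
  haveI : Module.Flat R P' := Module.Flat.trans R (MvPolynomial (Fin n) R) P'
  haveI : Algebra.Smooth R (MvPolynomial (Fin n) R) := ⟨inferInstance, inferInstance⟩
  haveI : Algebra.Smooth R P' := Algebra.Smooth.comp R (MvPolynomial (Fin n) R) P'
  have haL : ∀ k, a k ∈ RingHom.ker (psi I φb) := fun k => by
    rw [hL]; exact Ideal.mem_sup_left (Ideal.subset_span ⟨k, rfl⟩)
  have haL' : ∀ l, algebraMap (MvPolynomial (Fin n) R) P' (a l) ∈
      (RingHom.ker (psi I φb)).map (algebraMap (MvPolynomial (Fin n) R) P') :=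
    fun l => Ideal.mem_map_of_mem _ (haL l)
  have hgood : ∀ (𝔮 : Ideal P') [𝔮.IsPrime],
      (RingHom.ker (psi I φb)).map (algebraMap (MvPolynomial (Fin n) R) P') ≤ 𝔮 →
      Good R (Ideal.span (Set.range
        (bvec (fun k => algebraMap (MvPolynomial (Fin n) R) P' (a k)) π))) 𝔮 :=
    fun 𝔮 _ h𝔮 => good_of_local I (RingHom.ker (psi I φb)) a c π hL hE2 hE3 hKR hfl hπ2 hπc 𝔮 h𝔮
  obtain ⟨ũ₁, hũ₁, hũ₁good⟩ := exists_good_elt _ _ hgood
  obtain ⟨u₂, hu₂, hu₂N⟩ := exists_unit_mul_mem' I (RingHom.ker (psi I φb)) a c π hL hE2 hπc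
  obtain ⟨ũ₂, rfl⟩ := Ideal.Quotient.mk_surjective u₂
  have hgood' : ∀ (𝔯 : Ideal P') [𝔯.IsPrime], ũ₁ * ũ₂ ∉ 𝔯 →
      Good R (Ideal.span (Set.range
        (bvec (fun k => algebraMap (MvPolynomial (Fin n) R) P' (a k)) π))) 𝔯 :=
    fun 𝔯 _ h𝔯 => hũ₁good 𝔯 (fun h1 => h𝔯 (Ideal.mul_mem_right _ _ h1))
  have hlci := isLCI_away_of_good _ (ũ₁ * ũ₂) hgood'
  haveI hflat := flat_away_of_good _ (ũ₁ * ũ₂) hgood'
  have hsynt := Groth.Agent.Lib.SyntLCI.isSyntomic_of_isLCI_of_flat hlci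
  have key : ∀ w : P' ⧸ Ideal.span (Set.range
      (bvec (fun k => algebraMap (MvPolynomial (Fin n) R) P' (a k)) π)),
      w = Ideal.Quotient.mk _ (ũ₁ * ũ₂) → Synt.IsSyntomic R (Localization.Away w) := by
    rintro _ rfl
    exact hsynt
  refine ⟨Localization.Away (Ideal.Quotient.mk _ ũ₁ * Ideal.Quotient.mk _ ũ₂), inferInstance,
    inferInstance, key _ (map_mul _ _ _).symm, ?_⟩
  -- the map to `A₀`
  letI : Algebra R A₀ := ((algebraMap (R ⧸ I) A₀).comp (Ideal.Quotient.mk I)).toAlgebra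
  haveI : IsScalarTower R (R ⧸ I) A₀ := IsScalarTower.of_algebraMap_eq fun _ => rfl
  let χ₀ : P' →+* A₀ := (RingHom.kerLift (psi I φb)).comp
    ((hP'.qbij.retr : P' →ₐ[MvPolynomial (Fin n) R] _) : P' →+* _)
  have hχ₀ker : ∀ x : P', χ₀ x = 0 ↔
      x ∈ (RingHom.ker (psi I φb)).map (algebraMap (MvPolynomial (Fin n) R) P') := by
    intro x
    constructor
    · intro hx
      apply hP'.qbij.mem_of_retr_eq_zero
      exact (RingHom.kerLift_injective (psi I φb)) (by rw [map_zero]; exact hx)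
    · intro hx
      change RingHom.kerLift (psi I φb) (hP'.qbij.retr x) = 0
      rw [algHom_eq_zero_of_mem hP'.qbij.retr hx, map_zero]
  have hχ₀alg : ∀ p : MvPolynomial (Fin n) R,
      χ₀ (algebraMap (MvPolynomial (Fin n) R) P' p) = psi I φb p := by
    intro p
    change RingHom.kerLift (psi I φb) (hP'.qbij.retr (algebraMap _ P' p)) = _
    rw [AlgHom.commutes]
    rfl
  have hχ₀surj : Function.Surjective χ₀ := by
    intro y
    obtain ⟨p, rfl⟩ := psi_surjective I φb hφb y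
    exact ⟨algebraMap _ P' p, hχ₀alg p⟩
  have hKker : ∀ x ∈ Ideal.span (Set.range
      (bvec (fun k => algebraMap (MvPolynomial (Fin n) R) P' (a k)) π)), χ₀ x = 0 := by
    intro x hx
    rw [hχ₀ker]
    refine (Ideal.span_le (I := (RingHom.ker (psi I φb)).map
      (algebraMap (MvPolynomial (Fin n) R) P'))).2 ?_ hx
    rintro _ ⟨k, rfl⟩
    exact Ideal.sum_mem _ fun l _ => Ideal.mul_mem_left _ _ (haL' l)
  let χ₁r : (P' ⧸ Ideal.span (Set.range
      (bvec (fun k => algebraMap (MvPolynomial (Fin n) R) P' (a k)) π))) →+* A₀ :=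
    Ideal.Quotient.lift _ χ₀ hKker
  let χ₁ : (P' ⧸ Ideal.span (Set.range
      (bvec (fun k => algebraMap (MvPolynomial (Fin n) R) P' (a k)) π))) →ₐ[R] A₀ :=
    { χ₁r with
      commutes' := fun r => by
        change χ₀ (algebraMap (MvPolynomial (Fin n) R) P' (C r)) = _
        rw [hχ₀alg, psi_C]
        rfl }
  have hχ₁mk : ∀ x : P', χ₁ (Ideal.Quotient.mk _ x) = χ₀ x := fun x => rfl
  have hχ₁surj : Function.Surjective χ₁ := by
    intro y
    obtain ⟨x, rfl⟩ := hχ₀surj y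
    exact ⟨Ideal.Quotient.mk _ x, hχ₁mk x⟩
  have hmapmap : ((RingHom.ker (psi I φb)).map (algebraMap (MvPolynomial (Fin n) R) P')).map
      (Ideal.Quotient.mk (Ideal.span (Set.range
        (bvec (fun k => algebraMap (MvPolynomial (Fin n) R) P' (a k)) π)))) =
      (RingHom.ker (psi I φb)).map (thetaK a π) := by
    rw [Ideal.map_map]; rfl
  have hχ₁ker : ∀ x, x ∈ RingHom.ker χ₁ ↔ x ∈ (RingHom.ker (psi I φb)).map (thetaK a π) := by
    intro x
    obtain ⟨x, rfl⟩ := Ideal.Quotient.mk_surjective x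
    rw [RingHom.mem_ker, hχ₁mk, hχ₀ker, ← hmapmap]
    constructor
    · intro hx
      exact Ideal.mem_map_of_mem _ hx
    · intro hx
      rw [Ideal.mem_map_iff_of_surjective _ Ideal.Quotient.mk_surjective] at hx
      obtain ⟨y, hy, hxy⟩ := hx
      have h1 : x - y ∈ Ideal.span (Set.range
          (bvec (fun k => algebraMap (MvPolynomial (Fin n) R) P' (a k)) π)) := by
        rw [← Ideal.Quotient.eq_zero_iff_mem, map_sub, hxy, sub_self]
      have h2 : x - y ∈ (RingHom.ker (psi I φb)).map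
          (algebraMap (MvPolynomial (Fin n) R) P') := by
        rw [← hχ₀ker]
        exact hKker _ h1
      have := Ideal.add_mem _ h2 hy
      rwa [sub_add_cancel] at this
  have hu1 : χ₁ (Ideal.Quotient.mk _ ũ₁ * Ideal.Quotient.mk _ ũ₂) = 1 := by
    have h1 : χ₁ (Ideal.Quotient.mk _ ũ₁ - 1) = 0 := by
      rw [← RingHom.mem_ker, hχ₁ker, ← hmapmap, ← map_one (Ideal.Quotient.mk _), ← map_sub]
      exact Ideal.mem_map_of_mem _ hũ₁
    have h2 : χ₁ (Ideal.Quotient.mk _ ũ₂ - 1) = 0 := (hχ₁ker _).2 hu₂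
    rw [map_sub, map_one, sub_eq_zero] at h1 h2
    rw [map_mul, h1, h2, one_mul]
  exact nonempty_algEquiv_of_away I χ₁ hχ₁surj _ _ hu1
    (fun x hx => hu₂N x ((hχ₁ker x).1 hx))

end Groth.Agent.Lib.SyntLift19
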