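import Groth.Agent.Lib.LimDescentFlat64
import Groth.Agent.Lib.LimDescentIso
import Groth.Agent.Lib.KoszulLocusBC
import Groth.Agent.Lib.SyntLocal33
import Groth.Agent.Lib.H14KoszulEtLocal
import Groth.Agent.S9758

/-!
# Descent of syntomic morphisms through cofiltered limits of schemes (helper19)

Namespace `Groth.Agent.Lib.SyntLim19`.

* `kLocus_of_isPullback` : the Koszul locus of a flat, locally finitely presented morphism commutes with
  arbitrary base change.
* `syntomicP` : the morphism property `Synt.IsSyntomicMor`; it respects isomorphisms.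
* `exists_syntomic_stage` : in helper62/helper96's `LimDescent` framework, a syntomic limit morphism is
  already syntomic at some stage.
-/

set_option autoImplicit false
set_option linter.style.haveILetI false
universe u

open CategoryTheory CategoryTheory.Limits AlgebraicGeometry TopologicalSpace

namespace Groth.Agent.Lib.SyntLim19

open Groth.Agent.Lib.LimDescent Groth.Agent.Lib.LimPullback Groth.Agent.Lib.KoszulLocusBC

section basics

variable {X Y X' Y' : Scheme.{u}}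

/-- syntomic ⇔ flat and Koszul at every point -/
theorem isSyntomicMor_iff (f : X ⟶ Y) :
    Synt.IsSyntomicMor f ↔ Flat f ∧ ∀ x : X, Synt.IsKoszulAt f x :=
  (Groth.Agent.S9758.result f).symm

/-- the Koszul locus of a flat, locally finitely presented morphism commutes with base change -/
theorem kLocus_of_isPullback (f : X ⟶ Y) [Flat f] [LocallyOfFinitePresentation f] (h : Y' ⟶ Y)
    (gX : X' ⟶ X) (f' : X' ⟶ Y') (hX : IsPullback gX f' f h) :
    kLocus f' = gX ⁻¹' kLocus f := by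
  haveI : Flat (f ≫ 𝟙 Y) := by rw [Category.comp_id]; infer_instance
  haveI : LocallyOfFinitePresentation (f ≫ 𝟙 Y) := by rw [Category.comp_id]; infer_instance
  refine kLocus_baseChange f (𝟙 Y) h h (𝟙 Y') (IsPullback.of_vert_isIso ⟨by simp⟩) gX f' ?_ hX.w
  rw [Category.comp_id, Category.comp_id]
  exact hX

/-- the morphism property "syntomic" -/
def syntomicP : MorphismProperty Scheme.{u} := fun _ _ f => Synt.IsSyntomicMor f

instance : MorphismProperty.RespectsIso syntomicP.{u} := by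
  apply MorphismProperty.RespectsIso.mk
  · intro X Y Z e f hf
    change Synt.IsSyntomicMor (e.hom ≫ f)
    obtain ⟨hfl, hk⟩ := (isSyntomicMor_iff f).mp hf
    haveI := hfl
    exact (isSyntomicMor_iff _).mpr ⟨inferInstance, fun x =>
      Groth.Agent.Lib.H14KoszulEtLocal.isKoszulAt_smooth_comp e.hom f x (hk _)⟩
  · intro X Y Z e f hf
    change Synt.IsSyntomicMor (f ≫ e.hom)
    obtain ⟨hfl, hk⟩ := (isSyntomicMor_iff f).mp hf
    haveI := hfl
    exact (isSyntomicMor_iff _).mpr ⟨inferInstance, fun x =>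
      Groth.Agent.Lib.H14KoszulEtLocal.isKoszulAt_comp_smooth f e.hom x (hk _)⟩

end basics

section Stage

variable {I : Type u} [Category.{u} I] (D : I ⥤ Scheme.{u}) (c : Cone D) [IsCofiltered I]
variable {i₀ : I} {X₀ Y₀ : Scheme.{u}} (f₀ : X₀ ⟶ Y₀) (g₀ : Y₀ ⟶ D.obj i₀)
variable (hc : IsLimit c) [∀ {i j} (f : i ⟶ j), IsAffineHom (D.map f)]

include hc in
/-- **Descent of syntomic morphisms to a stage of a cofiltered limit.** -/
theorem exists_syntomic_stage [CompactSpace X₀] [LocallyOfFinitePresentation f₀]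
    (h : Synt.IsSyntomicMor (bcMap f₀ g₀ (c.π.app i₀))) :
    ∃ j : Over i₀, Synt.IsSyntomicMor (bcMap f₀ g₀ (D.map j.hom)) := by
  obtain ⟨hflat, hkos⟩ := (isSyntomicMor_iff _).mp h
  obtain ⟨j₀, hj₀⟩ :=
    Groth.Agent.Lib.LimDescentFlat64.exists_flat_stage_of_compactSpace D c f₀ g₀ hc hflat
  have hlfp : ∀ j : Over i₀, LocallyOfFinitePresentation (bcMap f₀ g₀ (D.map j.hom)) := fun j =>
    MorphismProperty.of_isPullback (isPullback_bcMap f₀ g₀ (D.map j.hom)) inferInstance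
  haveI := hlfp j₀
  haveI := hj₀
  -- the Koszul locus at the stage `j₀`
  let U : ((pbDiagram D i₀ (f₀ ≫ g₀)).obj j₀).Opens :=
    ⟨kLocus (bcMap f₀ g₀ (D.map j₀.hom)), isOpen_kLocus _⟩
  have hlim : (pbCone D c i₀ (f₀ ≫ g₀)).π.app j₀ ⁻¹ᵁ U = ⊤ := by
    rw [eq_top_iff]
    intro x _
    show pbProj D c i₀ (f₀ ≫ g₀) j₀ x ∈ kLocus (bcMap f₀ g₀ (D.map j₀.hom))
    have h1 := kLocus_of_isPullback (bcMap f₀ g₀ (D.map j₀.hom)) (pbProj D c i₀ g₀ j₀)
      (pbProj D c i₀ (f₀ ≫ g₀) j₀) (bcMap f₀ g₀ (c.π.app i₀)) (isPullback_pbProj_bcMap D c f₀ g₀ j₀)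
    have h2 : x ∈ kLocus (bcMap f₀ g₀ (c.π.app i₀)) := (mem_kLocus_iff _ x).mpr (hkos x)
    rw [h1] at h2
    exact h2
  obtain ⟨k, m, hk⟩ := exists_map_eq_top (pbDiagram D i₀ (f₀ ≫ g₀)) (pbCone D c i₀ (f₀ ≫ g₀))
    (isLimitPbCone hc) U hlim
  refine ⟨k, (isSyntomicMor_iff _).mpr ⟨?_, fun x => ?_⟩⟩
  · exact MorphismProperty.of_isPullback (isPullback_pbMap_bcMap D f₀ g₀ m) hj₀
  · have h1 := kLocus_of_isPullback (bcMap f₀ g₀ (D.map j₀.hom)) (pbMap D i₀ g₀ m)
      (pbMap D i₀ (f₀ ≫ g₀) m) (bcMap f₀ g₀ (D.map k.hom)) (isPullback_pbMap_bcMap D f₀ g₀ m)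
    rw [← mem_kLocus_iff, h1]
    have h2 : x ∈ ((pbDiagram D i₀ (f₀ ≫ g₀)).map m ⁻¹ᵁ U) := by rw [hk]; trivial
    exact h2

end Stage

end Groth.Agent.Lib.SyntLim19
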