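import Groth.Agent.Lib.SyntLocal33
import Groth.Agent.Lib.CMQF33l
import Mathlib

/-!
# Syntomic morphisms are Cohen–Macaulay morphisms (helper33)

* `fibCM_localRingHom`: for a syntomic ring map `R → T` and a prime `r` of `T`, the local
  homomorphism `R_p → T_r` is flat with Cohen–Macaulay closed fibre.
* `isCMAt_of_isSyntomicAt`: a morphism syntomic at `x` is Cohen–Macaulay at `x`.
* `isLocallyConstant_fibreDimAt`: the fibre dimension of a syntomic morphism is locally constant.
-/

set_option autoImplicit false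
universe u

open IsLocalRing CategoryTheory AlgebraicGeometry Groth.Agent.Lib

namespace Groth.Agent.Lib.SyntLocal33

section Ring

variable {R T : Type u} [CommRing R] [CommRing T] [Algebra R T]

theorem fibCM_localRingHom (h : Synt.IsSyntomic R T) (r : Ideal T) [r.IsPrime] (p : Ideal R)
    [p.IsPrime] (hp : r.under R = p) :
    CMQF33.FibCM (Localization.localRingHom p r (algebraMap R T) hp.symm) := by
  rw [CMQF33.fibCM_iff]
  refine ⟨RingHom.Flat.localRingHom (RingHom.flat_algebraMap_iff.2 h.1) r p hp.symm, ?_⟩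
  rw [CMQF33.map_localRingHom_maximalIdeal p r hp.symm]
  obtain ⟨Q, hQ, rfl⟩ := CMQF33.exists_fiber_prime p r hp
  exact (CMQF33.isCM_localization_fiber_iff p Q).1
    ((isCMRing_fiber h p).isCohenMacaulayLocalRing_localization Q)

end Ring

section Scheme

variable {X S : Scheme.{u}}

/-- A morphism which is syntomic at `x` is Cohen–Macaulay at `x`. -/
theorem isCMAt_of_isSyntomicAt (f : X ⟶ S) (x : X) (hx : Synt.IsSyntomicAt f x) :
    MoreMor.IsCMAt f x := by
  obtain ⟨U, V, e, hxU, hsyn⟩ := hx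
  rw [CMQF33.isCMAt_iff_fibCM_appLE f V.1 V.2 U.1 U.2 e hxU]
  let alg : Algebra Γ(S, V.1) Γ(X, U.1) := (f.appLE V.1 U.1 e).hom.toAlgebra
  exact fibCM_localRingHom (R := Γ(S, V.1)) (T := Γ(X, U.1)) hsyn _ _
    congr($(IsAffineOpen.comap_primeIdealOf_appLE V.1 V.2 U.1 U.2 e hxU).1)

/-- The fibre dimension of a syntomic morphism is locally constant. -/
theorem isLocallyConstant_fibreDimAt (f : X ⟶ S) (hf : Synt.IsSyntomicMor f) :
    IsLocallyConstant (fun x : X => FlatMor.fibreDimAt f x) := by
  have h1 := lfp_of_isSyntomicMor f hf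
  rw [IsLocallyConstant.iff_exists_open]
  intro x
  obtain ⟨n, U, hxU, g, hg, hqf, hfl⟩ :=
    (CMQF33.hasQFChart f x (isCMAt_of_isSyntomicAt f x (hf x))).exists_opens
  refine ⟨U, U.2, hxU, fun y hy => ?_⟩
  rw [CMQF33.chart_dim_eq f y n U hy g hg (Flat.stalkMap g _),
    CMQF33.chart_dim_eq f x n U hxU g hg (Flat.stalkMap g _)]

end Scheme

end Groth.Agent.Lib.SyntLocal33
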