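import Groth.Agent.Lib.CIOver3
import Groth.Agent.Lib.SyntChart89
import Groth.Agent.Lib.FlatLimAway88

/-!
# Syntomic neighbourhoods of a prime: localization plumbing (helper19)

Namespace `Groth.Agent.Lib.SyntNhd`.
-/

set_option autoImplicit false
set_option linter.style.haveILetI false
universe u

namespace Groth.Agent.Lib.SyntNhd

open TensorProduct

section atPrimeAway

/-- localization at a prime of a principal localization -/
theorem exists_atPrime_algEquiv_of_away (k : Type u) {T T' : Type u} [CommRing k] [CommRing T]
    [CommRing T'] [Algebra k T] [Algebra k T'] [Algebra T T'] [IsScalarTower k T T']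
    (t : T) [IsLocalization.Away t T'] (Q : Ideal T) [Q.IsPrime] (ht : t ∉ Q) :
    ∃ (Q' : Ideal T') (_ : Q'.IsPrime), Q'.comap (algebraMap T T') = Q ∧
      Nonempty (Localization.AtPrime Q ≃ₐ[k] Localization.AtPrime Q') := by
  have hdisj : Disjoint (Submonoid.powers t : Set T) (Q : Set T) := by
    rw [Set.disjoint_left]
    rintro x ⟨m, rfl⟩ hx
    exact ht (Ideal.IsPrime.mem_of_pow_mem inferInstance m hx)
  let Q' : Ideal T' := Q.map (algebraMap T T')
  haveI hQ' : Q'.IsPrime := IsLocalization.isPrime_of_isPrime_disjoint (Submonoid.powers t) T' Q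
    inferInstance hdisj
  have hcomap : Q'.comap (algebraMap T T') = Q :=
    IsLocalization.under_map_of_isPrime_disjoint (Submonoid.powers t) T' inferInstance hdisj
  have hsub : (Q'.comap (algebraMap T T')).primeCompl = Q.primeCompl := by
    ext x
    show x ∉ Q'.comap (algebraMap T T') ↔ x ∉ Q
    rw [hcomap]
  haveI hloc : IsLocalization Q.primeCompl (Localization.AtPrime Q') :=
    hsub ▸ (IsLocalization.isLocalization_isLocalization_atPrime_isLocalization
      (Submonoid.powers t) (Localization.AtPrime Q') Q')
  refine ⟨Q', hQ', hcomap, ⟨?_⟩⟩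
  haveI : IsScalarTower k T (Localization.AtPrime Q') := by
    refine IsScalarTower.of_algebraMap_eq (fun x => ?_)
    rw [IsScalarTower.algebraMap_apply k T' (Localization.AtPrime Q'),
      IsScalarTower.algebraMap_apply k T T',
      ← IsScalarTower.algebraMap_apply T T' (Localization.AtPrime Q')]
  exact (IsLocalization.algEquiv Q.primeCompl (Localization.AtPrime Q)
    (Localization.AtPrime Q')).restrictScalars k

end atPrimeAway

section awayAway

variable (R : Type u) {S : Type u} [CommRing R] [CommRing S] [Algebra R S]

/-- a principal localization of a principal localization is a principal localization -/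
theorem exists_away_away (g : S) (b : Localization.Away g) :
    ∃ b' : S, Associated (algebraMap S (Localization.Away g) b') b ∧
      Nonempty (Localization.Away (g * b') ≃ₐ[R] Localization.Away b) := by
  refine ⟨(IsLocalization.Away.sec g b).1, IsLocalization.Away.associated_sec_fst g b, ⟨?_⟩⟩
  haveI : IsLocalization.Away (g * (IsLocalization.Away.sec g b).1) (Localization.Away b) :=
    IsLocalization.Away.mul_of_associated g (IsLocalization.Away.sec g b).1 b
      (IsLocalization.Away.associated_sec_fst g b)
  exact (IsLocalization.algEquiv (Submonoid.powers (g * (IsLocalization.Away.sec g b).1))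
    (Localization.Away (g * (IsLocalization.Away.sec g b).1)) (Localization.Away b)).restrictScalars R

omit [Algebra R S] in
theorem mul_notMem_of_associated (g : S) (b : Localization.Away g) (b' : S)
    (hb' : Associated (algebraMap S (Localization.Away g) b') b) (q : Ideal S) [q.IsPrime]
    (hg : g ∉ q) (hb : b ∉ q.map (algebraMap S (Localization.Away g))) : g * b' ∉ q := by
  intro hmem
  have h1 : b' ∈ q := (Ideal.IsPrime.mem_or_mem inferInstance hmem).resolve_left hg
  obtain ⟨u, hu⟩ := hb'
  apply hb
  rw [← hu]
  exact Ideal.mul_mem_right _ _ (Ideal.mem_map_of_mem _ h1)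

end awayAway

section fibre

variable {R S : Type u} [CommRing R] [CommRing S] [Algebra R S] (p : Ideal R) [p.IsPrime] (g : S)

/-- the map of fibre rings induced by `S → S_g` -/
noncomputable def fibreMap : p.Fiber S →ₐ[p.ResidueField] p.Fiber (Localization.Away g) :=
  Algebra.TensorProduct.map (AlgHom.id _ _) (IsScalarTower.toAlgHom R S (Localization.Away g))

theorem fibreMap_tmul (a : p.ResidueField) (s : S) :
    fibreMap p g (a ⊗ₜ[R] s) = a ⊗ₜ[R] algebraMap S (Localization.Away g) s := rfl

/-- the fibre of `S_g` as an algebra over the fibre of `S` -/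
noncomputable abbrev fibreAlgebra : Algebra (p.Fiber S) (p.Fiber (Localization.Away g)) :=
  (fibreMap p g).toRingHom.toAlgebra

attribute [local instance] fibreAlgebra

instance fibre_isScalarTower :
    IsScalarTower p.ResidueField (p.Fiber S) (p.Fiber (Localization.Away g)) :=
  IsScalarTower.of_algebraMap_eq (fun a => ((fibreMap p g).commutes a).symm)

instance fibre_isLocalization_away :
    IsLocalization.Away ((1 : p.ResidueField) ⊗ₜ[R] g) (p.Fiber (Localization.Away g)) := by
  have h := IsLocalization.tensorProduct_tensorProduct_right R p.ResidueField (Submonoid.powers g)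
    (Localization.Away g) (by
      ext s
      rfl)
  rw [Submonoid.map_powers] at h
  exact h

end fibre

section transfer

open Groth.Agent.Lib.SyntChart89

variable {R S T : Type u} [CommRing R] [CommRing S] [CommRing T] [Algebra R S] [Algebra R T]

theorem isSyntomic_of_algEquiv (e : S ≃ₐ[R] T) (h : Synt.IsSyntomic R S) : Synt.IsSyntomic R T := by
  rw [← syntHom_algebraMap] at h ⊢
  have h1 := h.comp_equiv (RingEquiv.refl R) e.toRingEquiv
  have h2 : ((e.toRingEquiv : S →+* T).comp ((algebraMap R S).comp
      ((RingEquiv.refl R : R ≃+* R) : R →+* R))) = algebraMap R T := by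
    ext r
    exact e.commutes r
  rw [h2] at h1
  exact h1

end transfer

end Groth.Agent.Lib.SyntNhd
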