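import Groth.Agent.Lib.KoszulSurj2
import Groth.Agent.Lib.RelGCIFlat89
import Groth.Agent.Lib.KRLocal89
import Groth.Agent.Lib.KRDescC
import Groth.Agent.Lib.NLTorAmp32
import Groth.Agent.Lib.KoszulRelBC
import Groth.Agent.Lib.FibreKR5
import Groth.Agent.S9147

/-!
# Local complete intersections descend along syntomic maps on the source: ring level, part 1 (helper19)

Namespace `Groth.Agent.Lib.SyntSrcDesc`.

* `not_mem_of_kr_quotient` : independence of a sequence `z` modulo `𝔮 (K + (z))` when `z` is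
  Koszul-regular modulo `K`.
* `isKoszulRegularSeq_ofFn_of_isRelGCI` : the equations of a relative global complete intersection
  form a Koszul-regular sequence of the polynomial ring.
* `isKoszulRegularIdeal_map_of_isRelGCI` : `S = P[y]/(F)` a relative global complete intersection,
  `I ⊂ P`; if the preimage of `IS` in `P[y]` is a Koszul-regular ideal then so is `IS`.
-/

set_option autoImplicit false
set_option linter.style.haveILetI false
universe u

namespace Groth.Agent.Lib.SyntSrcDesc

open Groth.Agent.Lib.KoszulQuot Groth.Agent.Lib.KoszulIdeal Groth.Agent.Lib.KoszulExchange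
  Groth.Agent.Lib.KoszulSurj

section indep

variable {Q : Type u} [CommRing Q]

/-- if `z` is Koszul-regular modulo `K`, its members are independent modulo `𝔮 (K + (z))` -/
theorem not_mem_of_kr_quotient (K : Ideal Q) (z : List Q)
    (hz : LCI.IsKoszulRegularSeq (Q ⧸ K) (z.map (Ideal.Quotient.mk K)))
    (𝔮 : Ideal Q) [𝔮.IsPrime] (h𝔮 : K ⊔ Ideal.ofList z ≤ 𝔮)
    (pre : List Q) (y : Q) (post : List Q) (hsplit : z = pre ++ y :: post) (s : Q) (hs : s ∉ 𝔮) :
    s * y ∉ Ideal.ofList pre ⊔ 𝔮 * (K ⊔ Ideal.ofList z) := by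
  intro hmem
  subst hsplit
  -- decompose
  have h1 : 𝔮 * (K ⊔ Ideal.ofList (pre ++ y :: post)) ≤
      K ⊔ (Ideal.ofList pre ⊔ (𝔮 * Ideal.span {y} ⊔ Ideal.ofList post)) := by
    rw [Ideal.ofList_append, Ideal.ofList_cons, Ideal.mul_sup, Ideal.mul_sup, Ideal.mul_sup]
    refine sup_le (le_sup_of_le_left Ideal.mul_le_right) (sup_le ?_ (sup_le ?_ ?_))
    · exact le_sup_of_le_right (le_sup_of_le_left Ideal.mul_le_right)
    · exact le_sup_of_le_right (le_sup_of_le_right le_sup_left)
    · exact le_sup_of_le_right (le_sup_of_le_right (le_sup_of_le_right Ideal.mul_le_right))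
  have h2 : s * y ∈ K ⊔ (Ideal.ofList pre ⊔ (𝔮 * Ideal.span {y} ⊔ Ideal.ofList post)) := by
    refine (sup_le ?_ h1) hmem
    exact le_sup_of_le_right le_sup_left
  obtain ⟨k, hk, r, hr, hkr⟩ := Submodule.mem_sup.mp h2
  obtain ⟨p, hp, r', hr', hpr⟩ := Submodule.mem_sup.mp hr
  obtain ⟨qy, hqy, t, ht, hqt⟩ := Submodule.mem_sup.mp hr'
  obtain ⟨q, hq, rfl⟩ := Ideal.mem_mul_span_singleton.mp hqy
  -- in the quotient
  have h3 : Ideal.Quotient.mk K (s - q) * Ideal.Quotient.mk K y ∈
      Ideal.ofList (pre.map (Ideal.Quotient.mk K)) ⊔ Ideal.ofList (post.map (Ideal.Quotient.mk K)) := by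
    have e : (s - q) * y = k + (p + t) := by
      have : s * y = k + (p + (q * y + t)) := by rw [← hkr, ← hpr, ← hqt]
      linear_combination this
    rw [← map_mul, e, map_add, Ideal.Quotient.eq_zero_iff_mem.mpr hk, zero_add, map_add,
      ← Ideal.map_ofList, ← Ideal.map_ofList]
    exact Ideal.add_mem _ (Ideal.mem_sup_left (Ideal.mem_map_of_mem _ hp))
      (Ideal.mem_sup_right (Ideal.mem_map_of_mem _ ht))
  have hz' : LCI.IsKoszulRegularSeq (Q ⧸ K)
      (pre.map (Ideal.Quotient.mk K) ++ Ideal.Quotient.mk K y :: post.map (Ideal.Quotient.mk K)) := by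
    simpa using hz
  have h4 := mem_ofList_of_mul_mem _ _ _ hz' _ h3
  have h5 : s - q ∈ K ⊔ Ideal.ofList (pre ++ y :: post) := by
    have : pre.map (Ideal.Quotient.mk K) ++ Ideal.Quotient.mk K y :: post.map (Ideal.Quotient.mk K) =
        (pre ++ y :: post).map (Ideal.Quotient.mk K) := by simp
    rw [this, ← Ideal.map_ofList, Ideal.mem_map_iff_of_surjective _ Ideal.Quotient.mk_surjective] at h4
    obtain ⟨w, hw, hws⟩ := h4
    have h6 : s - q - w ∈ K := by
      rw [← Ideal.Quotient.eq_zero_iff_mem, map_sub, hws, sub_self]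
    have : s - q = (s - q - w) + w := by ring
    rw [this]
    exact Ideal.add_mem _ (Ideal.mem_sup_left h6) (Ideal.mem_sup_right hw)
  have h7 : s - q ∈ 𝔮 := h𝔮 h5
  have : s = (s - q) + q := by ring
  rw [this] at hs
  exact hs (Ideal.add_mem _ h7 hq)

end indep

section relGCI

open MvPolynomial

variable {P : Type u} [CommRing P] {m c : ℕ} (F : Fin c → MvPolynomial (Fin m) P)
  (h : Synt.IsRelGCI P m c F)

include h in
/-- the equations of a relative global complete intersection form a Koszul-regular sequence -/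
theorem isKoszulRegularSeq_ofFn_of_isRelGCI :
    LCI.IsKoszulRegularSeq (MvPolynomial (Fin m) P) (List.ofFn F) := by
  apply Groth.Agent.Lib.KRLocal89.isKoszulRegularSeq_of_atPrime
  intro 𝔪 h𝔪
  by_cases hle : Ideal.span (Set.range F) ≤ 𝔪
  · have h1 := (Groth.Agent.Lib.RelGCIFlat89.isRegular_and_flat F h 𝔪 hle).1
    exact Groth.Agent.Lib.NLTorAmp32.isKoszulRegularSeq_of_isWeaklyRegular _ h1.toIsWeaklyRegular
  · apply Groth.Agent.Lib.KRDescA.isKoszulRegularSeq_of_ofList_eq_top
    rw [← Ideal.map_ofList, Groth.Agent.Lib.KRDescC.ofList_ofFn]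
    obtain ⟨x, hx, hx𝔪⟩ := Set.not_subset.mp hle
    exact Ideal.eq_top_of_isUnit_mem _ (Ideal.mem_map_of_mem _ hx)
      ((IsLocalization.AtPrime.isUnit_to_map_iff (Localization.AtPrime 𝔪) 𝔪 x).mpr hx𝔪)

include h in
/-- `S = P[y]/(F)` a relative global complete intersection over `P`, `I ⊂ P`: if the preimage of
`IS` in `P[y]` is a Koszul-regular ideal then `IS` is a Koszul-regular ideal of `S`. -/
theorem isKoszulRegularIdeal_map_of_isRelGCI (I : Ideal P)
    (hK : LCI.IsKoszulRegularIdeal ((I.map (algebraMap P (Synt.RelGCIRing P m c F))).comap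
      (Ideal.Quotient.mk (Ideal.span (Set.range F))))) :
    LCI.IsKoszulRegularIdeal (I.map (algebraMap P (Synt.RelGCIRing P m c F))) := by
  set ev : MvPolynomial (Fin m) P →+* Synt.RelGCIRing P m c F :=
    Ideal.Quotient.mk (Ideal.span (Set.range F)) with hev
  have hkr := isKoszulRegularSeq_ofFn_of_isRelGCI F h
  have hker : RingHom.ker ev = Ideal.ofList (List.ofFn F) := by
    rw [Groth.Agent.Lib.KRDescC.ofList_ofFn, hev, Ideal.mk_ker]
  -- the preimage
  have hcomap : (I.map (algebraMap P (Synt.RelGCIRing P m c F))).comap ev =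
      I.map (algebraMap P (MvPolynomial (Fin m) P)) ⊔ Ideal.ofList (List.ofFn F) := by
    have h1 : I.map (algebraMap P (Synt.RelGCIRing P m c F)) = (I.map (algebraMap P (MvPolynomial (Fin m) P))).map ev := by
      rw [Ideal.map_map]
      rfl
    rw [h1, Ideal.comap_map_of_surjective ev Ideal.Quotient.mk_surjective,
      ← RingHom.ker_eq_comap_bot, hker]
  -- Koszul-regularity modulo `I`
  haveI hflatS : Module.Flat P (Synt.RelGCIRing P m c F) := (Groth.Agent.S9147.result P m c F h).1
  haveI : Module.Flat P (MvPolynomial (Fin m) P ⧸ Ideal.ofList (List.ofFn F)) := by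
    have e : Ideal.ofList (List.ofFn F) = Ideal.span (Set.range F) :=
      Groth.Agent.Lib.KRDescC.ofList_ofFn F
    exact Module.Flat.of_linearEquiv
      ((Submodule.quotEquivOfEq _ _ e).restrictScalars P)
  haveI : Algebra.IsPushout P (MvPolynomial (Fin m) P) (P ⧸ I) (MvPolynomial (Fin m) P ⧸ I.map (algebraMap P (MvPolynomial (Fin m) P))) :=
    (Groth.Agent.Lib.FibreKR5.isPushout_quotient P (MvPolynomial (Fin m) P) I).symm
  have hkrbar := Groth.Agent.Lib.KoszulRelBC.isKoszulRegularSeq_map_of_isPushout P (P ⧸ I)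
    (P := MvPolynomial (Fin m) P) (P' := MvPolynomial (Fin m) P ⧸ I.map (algebraMap P (MvPolynomial (Fin m) P))) (List.ofFn F) hkr
  refine isKoszulRegularIdeal_of_comap' ev Ideal.Quotient.mk_surjective (List.ofFn F) hkr hker _
    ?_ hK
  intro 𝔮 _ h𝔮 pre y post hsplit s hs
  rw [hcomap] at h𝔮 ⊢
  exact not_mem_of_kr_quotient (I.map (algebraMap P (MvPolynomial (Fin m) P))) (List.ofFn F) hkrbar 𝔮 h𝔮 pre y post
    hsplit s hs

end relGCI

end Groth.Agent.Lib.SyntSrcDesc
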