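import Groth.Agent.Lib.SyntSrcDesc1
import Groth.Agent.Lib.LCIComp

/-!
# Local complete intersections descend along syntomic maps on the source: ring level, part 2 (helper19)

Namespace `Groth.Agent.Lib.SyntSrcDesc`.

* `faithfullyFlat_away_of_subset_range` : `P → S` flat, `D(G₀)` in the image of `Spec S → Spec P`;
  then `P_{G₀} → S_{G₀}` is faithfully flat.
* `exists_genAt_of_flat` : `P → S` flat of finite presentation, `I ⊂ P`, `IS` a Koszul-regular ideal,
  `𝔮 ⊇ IS` a prime of `S`; then `I` is generated by a Koszul-regular sequence near `𝔮 ∩ P`.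
-/

set_option autoImplicit false
set_option linter.style.haveILetI false
universe u

namespace Groth.Agent.Lib.SyntSrcDesc

open Groth.Agent.Lib.KoszulQuot Groth.Agent.Lib.KoszulIdeal Groth.Agent.Lib.LCIComp

variable {P S : Type u} [CommRing P] [CommRing S] [Algebra P S]

theorem faithfullyFlat_away_of_subset_range [Module.Flat P S] (G₀ : P)
    (hG₀ : ∀ 𝔭 : PrimeSpectrum P, G₀ ∉ 𝔭.asIdeal →
      𝔭 ∈ Set.range (PrimeSpectrum.comap (algebraMap P S)))
    (PG : Type u) [CommRing PG] [Algebra P PG] [IsLocalization.Away G₀ PG]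
    (T : Type u) [CommRing T] [Algebra P T] [Algebra S T] [IsScalarTower P S T]
    [IsLocalization.Away (algebraMap P S G₀) T] [Algebra PG T] [IsScalarTower P PG T] :
    Module.FaithfullyFlat PG T := by
  have hflatST : Module.Flat S T := IsLocalization.flat T (Submonoid.powers (algebraMap P S G₀))
  have hflatPT : Module.Flat P T := Module.Flat.trans P S T
  have : Module.Flat PG T :=
    (Module.flat_iff_of_isLocalization PG (Submonoid.powers G₀) T).mpr hflatPT
  apply Module.FaithfullyFlat.of_comap_surjective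
  intro Pp
  have hG₀Pp : G₀ ∉ (PrimeSpectrum.comap (algebraMap P PG) Pp).asIdeal := by
    intro h1
    exact Pp.isPrime.ne_top
      (Ideal.eq_top_of_isUnit_mem _ h1 (IsLocalization.Away.algebraMap_isUnit G₀))
  obtain ⟨𝔮, h𝔮⟩ := hG₀ _ hG₀Pp
  have ha𝔮 : algebraMap P S G₀ ∉ 𝔮.asIdeal := by
    intro hmem
    apply hG₀Pp
    rw [← h𝔮]
    exact hmem
  have hdisj : Disjoint (Submonoid.powers (algebraMap P S G₀) : Set S) (𝔮.asIdeal : Set S) :=
    (Ideal.disjoint_powers_iff_notMem _ 𝔮.isPrime.isRadical).mpr ha𝔮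
  let Q : PrimeSpectrum T := ⟨𝔮.asIdeal.map (algebraMap S T),
    IsLocalization.isPrime_of_isPrime_disjoint _ T _ 𝔮.isPrime hdisj⟩
  have hQ : PrimeSpectrum.comap (algebraMap S T) Q = 𝔮 :=
    PrimeSpectrum.ext (IsLocalization.under_map_of_isPrime_disjoint _ T 𝔮.isPrime hdisj)
  refine ⟨Q, ?_⟩
  apply PrimeSpectrum.localization_comap_injective PG (Submonoid.powers G₀)
  rw [← PrimeSpectrum.comap_comp_apply, ← IsScalarTower.algebraMap_eq P PG T,
    IsScalarTower.algebraMap_eq P S T, PrimeSpectrum.comap_comp_apply, hQ, h𝔮]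

/-- **descent of Koszul-regular generation along a flat finitely presented map, near a prime in the image** -/
theorem exists_genAt_of_flat [Module.Flat P S] [Algebra.FinitePresentation P S] (I : Ideal P)
    (hIS : LCI.IsKoszulRegularIdeal (I.map (algebraMap P S))) (𝔮 : Ideal S) [𝔮.IsPrime]
    (hI𝔮 : I.map (algebraMap P S) ≤ 𝔮) :
    ∃ G : P, G ∉ 𝔮.comap (algebraMap P S) ∧ GenAt I G := by
  -- the open image
  have hopen : IsOpen (Set.range (PrimeSpectrum.comap (algebraMap P S))) :=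
    (PrimeSpectrum.isOpenMap_comap_of_hasGoingDown_of_finitePresentation (R := P) (S := S)).isOpen_range
  let 𝔮' : PrimeSpectrum S := ⟨𝔮, inferInstance⟩
  let 𝔭 : PrimeSpectrum P := PrimeSpectrum.comap (algebraMap P S) 𝔮'
  have h𝔭 : 𝔭.asIdeal = 𝔮.comap (algebraMap P S) := rfl
  obtain ⟨_, ⟨_, ⟨G₀, rfl⟩, rfl⟩, h𝔭G₀, hsub⟩ := PrimeSpectrum.isBasis_basic_opens.exists_subset_of_mem_open
    (show 𝔭 ∈ Set.range (PrimeSpectrum.comap (algebraMap P S)) from ⟨𝔮', rfl⟩) hopen
  have hG₀𝔭 : G₀ ∉ 𝔭.asIdeal := h𝔭G₀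
  have hG₀ : ∀ 𝔭₁ : PrimeSpectrum P, G₀ ∉ 𝔭₁.asIdeal →
      𝔭₁ ∈ Set.range (PrimeSpectrum.comap (algebraMap P S)) := fun 𝔭₁ h => hsub h
  -- the localizations
  let PG := Localization.Away G₀
  let T := Localization.Away (algebraMap P S G₀)
  have huT : IsUnit (algebraMap P T G₀) := by
    rw [IsScalarTower.algebraMap_apply P S T]
    exact IsLocalization.Away.algebraMap_isUnit _
  let φ : PG →+* T := IsLocalization.Away.lift G₀ (g := algebraMap P T) huT
  letI : Algebra PG T := φ.toAlgebra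
  haveI : IsScalarTower P PG T := IsScalarTower.of_algebraMap_eq
    (fun x => (IsLocalization.Away.lift_eq G₀ huT x).symm)
  haveI : Module.FaithfullyFlat PG T := faithfullyFlat_away_of_subset_range G₀ hG₀ PG T
  haveI hflatST : Module.Flat S T := IsLocalization.flat T (Submonoid.powers (algebraMap P S G₀))
  -- Koszul-regularity upstairs
  have h1 : LCI.IsKoszulRegularIdeal ((I.map (algebraMap P PG)).map (algebraMap PG T)) := by
    have := isKoszulRegularIdeal_map_of_flat (A₂ := T) (I.map (algebraMap P S)) hIS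
    rwa [Ideal.map_map, ← IsScalarTower.algebraMap_eq P S T, IsScalarTower.algebraMap_eq P PG T,
      ← Ideal.map_map] at this
  have h2 : LCI.IsKoszulRegularIdeal (I.map (algebraMap P PG)) :=
    Groth.Agent.Lib.KRDescC.isKoszulRegularIdeal_of_faithfullyFlat _ h1
  -- the prime of `PG`
  have hdisj : Disjoint (Submonoid.powers G₀ : Set P) (𝔭.asIdeal : Set P) :=
    (Ideal.disjoint_powers_iff_notMem _ 𝔭.isPrime.isRadical).mpr hG₀𝔭
  let 𝔭G : PrimeSpectrum PG := ⟨𝔭.asIdeal.map (algebraMap P PG),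
    IsLocalization.isPrime_of_isPrime_disjoint _ PG _ 𝔭.isPrime hdisj⟩
  have h𝔭G : 𝔭G.asIdeal.comap (algebraMap P PG) = 𝔭.asIdeal :=
    IsLocalization.under_map_of_isPrime_disjoint _ PG 𝔭.isPrime hdisj
  have hI𝔭 : I ≤ 𝔭.asIdeal := by
    rw [h𝔭]
    exact Ideal.map_le_iff_le_comap.mp hI𝔮
  obtain ⟨g', hg', hgen⟩ := (isKoszulRegularIdeal_iff _).mp h2 𝔭G (Ideal.map_mono hI𝔭)
  -- numerator
  obtain ⟨⟨p, s⟩, hps⟩ := IsLocalization.surj (Submonoid.powers G₀) g'
  simp only at hps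
  have hgen' : GenAt (I.map (algebraMap P PG)) (algebraMap P PG p) := by
    rw [← hps]
    exact hgen.mul _
  have hp𝔭 : p ∉ 𝔭.asIdeal := by
    intro hp
    have h3 : algebraMap P PG p ∈ 𝔭G.asIdeal := Ideal.mem_map_of_mem _ hp
    rw [← hps] at h3
    rcases 𝔭G.isPrime.mem_or_mem h3 with h4 | h4
    · exact hg' h4
    · exact 𝔭G.isPrime.ne_top (Ideal.eq_top_of_isUnit_mem _ h4
        (IsLocalization.map_units PG s))
  refine ⟨G₀ * p, ?_, ?_⟩
  · rw [← h𝔭]
    intro hmem
    rcases 𝔭.isPrime.mem_or_mem hmem with h4 | h4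
    · exact hG₀𝔭 h4
    · exact hp𝔭 h4
  · obtain ⟨T', _, _, _, l, hl, hIl⟩ := hgen'
    letI : Algebra P T' := ((algebraMap PG T').comp (algebraMap P PG)).toAlgebra
    haveI : IsScalarTower P PG T' := IsScalarTower.of_algebraMap_eq (fun _ => rfl)
    haveI : IsLocalization.Away (G₀ * p) T' := IsLocalization.Away.mul' PG T' G₀ p
    refine GenAt.mk T' l hl ?_
    rw [IsScalarTower.algebraMap_eq P PG T', ← Ideal.map_map, hIl]

end Groth.Agent.Lib.SyntSrcDesc
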