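import Groth.Agent.Lib.SyntSrcDesc2
import Groth.Agent.Lib.SyntChart89
import Groth.Agent.Lib.LCIBaseChange
import Groth.Agent.S9150
import Groth.Agent.S9269

/-!
# Local complete intersections descend along syntomic maps on the source: ring level, part 3 (helper19)

Namespace `Groth.Agent.Lib.SyntSrcDesc`.

* `exists_lciHom_away` : `φ : R₀ → A` of finite type, `ψ : A → A'` syntomic, `ψ ∘ φ` a local complete
  intersection, `𝔮'` a prime of `A'`; then `R₀ → A_a` is a local complete intersection for some `a ∈ A`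
  with `ψ a ∉ 𝔮'`.
-/

set_option autoImplicit false
set_option linter.style.haveILetI false
universe u

namespace Groth.Agent.Lib.SyntSrcDesc

open Groth.Agent.Lib.KoszulQuot Groth.Agent.Lib.KoszulIdeal Groth.Agent.Lib.LCIComp
  Groth.Agent.Lib.LCIMaps Groth.Agent.Lib.SyntChart89

section poly

variable (R₀ : Type u) [CommRing R₀] (m n : ℕ)

/-- the nested polynomial ring as an honest polynomial ring -/
noncomputable def nestEquiv :
    MvPolynomial (Fin (m + n)) R₀ ≃ₐ[R₀] MvPolynomial (Fin m) (MvPolynomial (Fin n) R₀) :=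
  (MvPolynomial.renameEquiv R₀ (finSumFinEquiv : Fin m ⊕ Fin n ≃ Fin (m + n))).symm.trans
    (MvPolynomial.sumAlgEquiv R₀ (Fin m) (Fin n))

variable {R₀ m n}

/-- for a local complete intersection algebra `B` over `R₀`, any surjection from a nested polynomial ring
has a Koszul-regular kernel -/
theorem isKoszulRegularIdeal_ker_of_isLCI {B : Type u} [CommRing B] [Algebra R₀ B]
    (hB : LCI.IsLCI R₀ B) (χ : MvPolynomial (Fin m) (MvPolynomial (Fin n) R₀) →ₐ[R₀] B)
    (hχ : Function.Surjective χ) : LCI.IsKoszulRegularIdeal (RingHom.ker χ.toRingHom) := by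
  obtain ⟨-, n₁, α₁, hα₁, hK₁⟩ := hB
  let β : MvPolynomial (Fin (m + n)) R₀ →ₐ[R₀] B := χ.comp (nestEquiv R₀ m n).toAlgHom
  have hβ : Function.Surjective β := hχ.comp (nestEquiv R₀ m n).surjective
  have h1 := Groth.Agent.S9269.result R₀ B n₁ (m + n) α₁ hα₁ β hβ hK₁
  have h2 := isKoszulRegularIdeal_comap_ringEquiv ((nestEquiv R₀ m n).symm.toRingEquiv) _ h1
  convert h2 using 1
  ext q
  rw [Ideal.mem_comap, RingHom.mem_ker, RingHom.mem_ker]
  show χ q = 0 ↔ χ ((nestEquiv R₀ m n) ((nestEquiv R₀ m n).symm q)) = 0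
  rw [AlgEquiv.apply_symm_apply]

end poly

section main

variable {R₀ : Type u} [CommRing R₀] (n : ℕ)

local notation "PP" => MvPolynomial (Fin n) R₀

/-- **Key ring-level statement** (algebra form, `A = P/I`): if `A'` is syntomic over `P/I` and a local
complete intersection over `R₀`, then `I` is generated by a Koszul-regular sequence near the image of
every prime of `A'`. -/
theorem exists_genAt_of_syntomic (I : Ideal PP) (A' : Type u) [CommRing A']
    [Algebra PP A'] [Algebra (PP ⧸ I) A'] [IsScalarTower PP (PP ⧸ I) A']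
    [Algebra R₀ A'] [IsScalarTower R₀ PP A']
    (hsyn : Synt.IsSyntomic (PP ⧸ I) A') (hlci : LCI.IsLCI R₀ A')
    (𝔮' : Ideal A') [h𝔮' : 𝔮'.IsPrime] :
    ∃ G : PP, algebraMap PP A' G ∉ 𝔮' ∧ GenAt I G := by
  classical
  obtain ⟨s, hs, hrest⟩ := Groth.Agent.S9150.result PP I A' hsyn
  obtain ⟨g, hgs, hg𝔮⟩ : ∃ g ∈ s, g ∉ 𝔮' := by
    by_contra hcon
    push Not at hcon
    have h1 : Ideal.span (s : Set A') ≤ 𝔮' := Ideal.span_le.mpr (fun x hx => hcon x hx)
    rw [hs] at h1
    exact h𝔮'.ne_top (top_le_iff.mp h1)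
  obtain ⟨m, c, F, hF, ⟨e⟩⟩ := hrest g hgs
  -- the localization `B = A'_g` is a local complete intersection over `R₀`
  have hlciB : LCI.IsLCI R₀ (Localization.Away g) := by
    have h1 : LCIHom (algebraMap R₀ A') := lciHom_algebraMap.mpr hlci
    have h2 := Groth.Agent.Lib.KoszulLocusBC.lciHom_comp_away h1
      (algebraMap A' (Localization.Away g)) g (by rw [toAlgebra_algebraMap]; infer_instance)
    rw [← IsScalarTower.algebraMap_eq R₀ A' (Localization.Away g)] at h2
    exact lciHom_algebraMap.mp h2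
  -- scalar towers
  haveI : IsScalarTower R₀ PP (Localization.Away g) := IsScalarTower.of_algebraMap_eq (fun r => by
    rw [IsScalarTower.algebraMap_apply R₀ A' (Localization.Away g),
      IsScalarTower.algebraMap_apply PP A' (Localization.Away g),
      ← IsScalarTower.algebraMap_apply R₀ PP A'])
  -- the presentation of `B`
  let χP : MvPolynomial (Fin m) PP →ₐ[PP] Localization.Away g :=
    (e.symm.toAlgHom.comp (Ideal.Quotient.mkₐ PP _)).comp
      (Ideal.Quotient.mkₐ PP (Ideal.span (Set.range F)))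
  have hχP : Function.Surjective χP :=
    (e.symm.surjective.comp (Ideal.Quotient.mkₐ_surjective PP _)).comp
      (Ideal.Quotient.mkₐ_surjective PP _)
  let χ : MvPolynomial (Fin m) PP →ₐ[R₀] Localization.Away g := χP.restrictScalars R₀
  have hK := isKoszulRegularIdeal_ker_of_isLCI hlciB χ hχP
  have hker : RingHom.ker χ.toRingHom =
      (I.map (algebraMap PP (Synt.RelGCIRing PP m c F))).comap
        (Ideal.Quotient.mk (Ideal.span (Set.range F))) := by
    ext q
    rw [RingHom.mem_ker, Ideal.mem_comap]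
    show e.symm (Ideal.Quotient.mk _ (Ideal.Quotient.mk _ q)) = 0 ↔ _
    rw [map_eq_zero_iff _ e.symm.injective, Ideal.Quotient.eq_zero_iff_mem]
  rw [hker] at hK
  have hIS := isKoszulRegularIdeal_map_of_isRelGCI F hF I hK
  -- the prime of `S`
  have hdisj : Disjoint (Submonoid.powers g : Set A') (𝔮' : Set A') :=
    (Ideal.disjoint_powers_iff_notMem _ h𝔮'.isRadical).mpr hg𝔮
  haveI h𝔮B : (𝔮'.map (algebraMap A' (Localization.Away g))).IsPrime :=
    IsLocalization.isPrime_of_isPrime_disjoint _ (Localization.Away g) _ h𝔮' hdisj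
  let θ : Synt.RelGCIRing PP m c F →ₐ[PP] Localization.Away g :=
    e.symm.toAlgHom.comp (Ideal.Quotient.mkₐ PP _)
  haveI : ((𝔮'.map (algebraMap A' (Localization.Away g))).comap θ.toRingHom).IsPrime :=
    Ideal.comap_isPrime _ _
  have hI𝔮 : I.map (algebraMap PP (Synt.RelGCIRing PP m c F)) ≤
      (𝔮'.map (algebraMap A' (Localization.Away g))).comap θ.toRingHom := by
    intro x hx
    rw [Ideal.mem_comap]
    have : θ.toRingHom x = 0 := by
      show e.symm (Ideal.Quotient.mk _ x) = 0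
      rw [Ideal.Quotient.eq_zero_iff_mem.mpr hx, map_zero]
    rw [this]
    exact Ideal.zero_mem _
  have hsynS := Groth.Agent.S9147.result PP m c F hF
  haveI : Module.Flat PP (Synt.RelGCIRing PP m c F) := hsynS.1
  haveI : Algebra.FinitePresentation PP (Synt.RelGCIRing PP m c F) := hsynS.2.1
  obtain ⟨G, hG, hGen⟩ := exists_genAt_of_flat I hIS _ hI𝔮
  refine ⟨G, fun hmem => hG ?_, hGen⟩
  rw [Ideal.mem_comap, Ideal.mem_comap]
  have h1 : θ.toRingHom (algebraMap PP (Synt.RelGCIRing PP m c F) G) =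
      algebraMap A' (Localization.Away g) (algebraMap PP A' G) := by
    rw [← IsScalarTower.algebraMap_apply PP A' (Localization.Away g)]
    exact θ.commutes G
  rw [h1]
  exact Ideal.mem_map_of_mem _ hmem

end main

section hom

/-- **Key ring-level statement** (hom form). -/
theorem exists_lciHom_away {R₀ A A' : Type u} [CommRing R₀] [CommRing A] [CommRing A']
    (φ : R₀ →+* A) (ψ : A →+* A') (hφ : φ.FiniteType) (hψ : SyntHom ψ)
    (hlci : LCIHom (ψ.comp φ)) (𝔮' : Ideal A') [𝔮'.IsPrime] :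
    ∃ a : A, ψ a ∉ 𝔮' ∧ LCIHom ((algebraMap A (Localization.Away a)).comp φ) := by
  letI algA : Algebra R₀ A := φ.toAlgebra
  haveI hft : Algebra.FiniteType R₀ A := hφ
  obtain ⟨n, α, hα⟩ := Algebra.FiniteType.iff_quotient_mvPolynomial''.mp hft
  let e₀ : (MvPolynomial (Fin n) R₀ ⧸ RingHom.ker α.toRingHom) ≃ₐ[R₀] A :=
    Ideal.quotientKerAlgEquivOfSurjective hα
  have he₀ : ∀ p, e₀ (Ideal.Quotient.mk _ p) = α p := fun p => rfl
  let ψ' : (MvPolynomial (Fin n) R₀ ⧸ RingHom.ker α.toRingHom) →+* A' :=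
    ψ.comp (e₀ : (MvPolynomial (Fin n) R₀ ⧸ RingHom.ker α.toRingHom) →+* A)
  have hψ' : SyntHom ψ' := by
    have h1 := hψ.comp_equiv e₀.toRingEquiv (RingEquiv.refl A')
    exact h1
  letI : Algebra (MvPolynomial (Fin n) R₀ ⧸ RingHom.ker α.toRingHom) A' := ψ'.toAlgebra
  letI : Algebra (MvPolynomial (Fin n) R₀) A' :=
    (ψ'.comp (Ideal.Quotient.mk (RingHom.ker α.toRingHom))).toAlgebra
  haveI : IsScalarTower (MvPolynomial (Fin n) R₀)
      (MvPolynomial (Fin n) R₀ ⧸ RingHom.ker α.toRingHom) A' := ⟨fun x y z => by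
    rw [Algebra.smul_def x y, Algebra.smul_def _ z, Algebra.smul_def y z, Algebra.smul_def x,
      map_mul, mul_assoc]
    rfl⟩
  letI : Algebra R₀ A' := (ψ.comp φ).toAlgebra
  haveI : IsScalarTower R₀ (MvPolynomial (Fin n) R₀) A' := IsScalarTower.of_algebraMap_eq (fun r => by
    show ψ (φ r) = ψ (e₀ (Ideal.Quotient.mk _ (algebraMap R₀ (MvPolynomial (Fin n) R₀) r)))
    rw [he₀, α.commutes]
    rfl)
  have hsyn : Synt.IsSyntomic (MvPolynomial (Fin n) R₀ ⧸ RingHom.ker α.toRingHom) A' :=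
    (isSyntomic_toAlgebra_iff ψ').mpr hψ'
  have hlci' : LCI.IsLCI R₀ A' := hlci
  obtain ⟨G, hG, hGen⟩ := exists_genAt_of_syntomic n (RingHom.ker α.toRingHom) A' hsyn hlci' 𝔮'
  refine ⟨α G, ?_, ?_⟩
  · intro hmem
    apply hG
    show ψ (e₀ (Ideal.Quotient.mk _ G)) ∈ 𝔮'
    rw [he₀]
    exact hmem
  · have h1 := Groth.Agent.Lib.LCIBaseChange.isLCI_away_of_genAt α hα G hGen
    rw [← lciHom_algebraMap, IsScalarTower.algebraMap_eq R₀ A (Localization.Away (α G))] at h1
    exact h1

end hom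

end Groth.Agent.Lib.SyntSrcDesc
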