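/-
helper49: syzygies of a left resolution `L_• → F → 0` in an abelian category: objects `K j`
(`K 0 = F` definitionally), epis `ε j : L_j ⟶ K j` (`ε 0 = π`), monos `ι j : K (j+1) ⟶ L_j` with
`ε (j+1) ≫ ι j = d_{j+1}` and short exact sequences `0 → K (j+1) → L_j → K j → 0`.
-/
import Mathlib.Algebra.Homology.ShortComplex.HomologicalComplex
import Mathlib.Algebra.Homology.ShortComplex.ShortExact
import Mathlib.Algebra.Homology.ShortComplex.Abelian

set_option autoImplicit false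
open CategoryTheory CategoryTheory.Limits

namespace Groth.Agent.Lib.Syzygies

variable {𝒜 : Type*} [Category 𝒜] [Abelian 𝒜] (L : ChainComplex 𝒜 ℕ)

/-- the data carried along the recursion -/
structure SyzData (j : ℕ) where
  /-- the syzygy object -/
  K : 𝒜
  /-- the epimorphism from the resolution -/
  ε : L.X j ⟶ K
  epi : Epi ε
  hd : L.d (j + 1) j ≫ ε = 0
  exact : (ShortComplex.mk (L.d (j + 1) j) ε hd).Exact

variable {L}

lemma exact_sc_of_exactAt (hex : ∀ j : ℕ, L.ExactAt (j + 1)) (j : ℕ) :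
    (ShortComplex.mk (L.d (j + 2) (j + 1)) (L.d (j + 1) j) (L.d_comp_d _ _ _)).Exact :=
  (L.exactAt_iff' (j + 2) (j + 1) j (by simp) (by simp)).1 (hex j)

/-- one step of the recursion -/
noncomputable def SyzData.next (hex : ∀ j : ℕ, L.ExactAt (j + 1)) {j : ℕ} (D : SyzData L j) :
    SyzData L (j + 1) where
  K := kernel D.ε
  ε := kernel.lift D.ε (L.d (j + 1) j) D.hd
  epi := (ShortComplex.exact_iff_epi_kernel_lift _).1 D.exact
  hd := by
    rw [← cancel_mono (kernel.ι D.ε), Category.assoc, kernel.lift_ι, zero_comp, L.d_comp_d]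
  exact := by
    have h := exact_sc_of_exactAt hex j
    let φ : ShortComplex.mk (L.d (j + 2) (j + 1)) (kernel.lift D.ε (L.d (j + 1) j) D.hd)
        (by rw [← cancel_mono (kernel.ι D.ε), Category.assoc, kernel.lift_ι, zero_comp,
          L.d_comp_d]) ⟶
        ShortComplex.mk (L.d (j + 2) (j + 1)) (L.d (j + 1) j) (L.d_comp_d _ _ _) :=
      { τ₁ := 𝟙 _
        τ₂ := 𝟙 _
        τ₃ := kernel.ι D.ε
        comm₁₂ := by simp
        comm₂₃ := by simp }
    have : Epi φ.τ₁ := by dsimp [φ]; infer_instance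
    have : IsIso φ.τ₂ := by dsimp [φ]; infer_instance
    have : Mono φ.τ₃ := by dsimp [φ]; infer_instance
    exact (ShortComplex.exact_iff_of_epi_of_isIso_of_mono φ).2 h

variable {F : 𝒜} (π : L.X 0 ⟶ F) [Epi π] (hπ : L.d 1 0 ≫ π = 0)
  (hex0 : (ShortComplex.mk (L.d 1 0) π hπ).Exact) (hex : ∀ j : ℕ, L.ExactAt (j + 1))

/-- the syzygy data of a resolution -/
noncomputable def syz : (j : ℕ) → SyzData L j
  | 0 => ⟨F, π, inferInstance, hπ, hex0⟩
  | j + 1 => (syz j).next hex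

/-- the syzygies; `K 0 = F` -/
noncomputable def K (j : ℕ) : 𝒜 := (syz π hπ hex0 hex j).K

/-- the epimorphisms `L_j ⟶ K j`; `ε 0 = π` -/
noncomputable def ε (j : ℕ) : L.X j ⟶ K π hπ hex0 hex j := (syz π hπ hex0 hex j).ε

/-- the monomorphisms `K (j+1) ⟶ L_j` -/
noncomputable def ι (j : ℕ) : K π hπ hex0 hex (j + 1) ⟶ L.X j :=
  kernel.ι (ε π hπ hex0 hex j)

instance (j : ℕ) : Epi (ε π hπ hex0 hex j) := (syz π hπ hex0 hex j).epi

instance (j : ℕ) : Mono (ι π hπ hex0 hex j) :=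
  equalizer.ι_mono

lemma K_zero : K π hπ hex0 hex 0 = F := rfl

lemma ε_zero : ε π hπ hex0 hex 0 = π := rfl

@[reassoc]
lemma ε_ι (j : ℕ) : ε π hπ hex0 hex (j + 1) ≫ ι π hπ hex0 hex j = L.d (j + 1) j :=
  kernel.lift_ι _ _ _

@[reassoc]
lemma ι_ε (j : ℕ) : ι π hπ hex0 hex j ≫ ε π hπ hex0 hex j = 0 :=
  kernel.condition _

/-- the short exact sequences `0 → K (j+1) → L_j → K j → 0` -/
lemma shortExact (j : ℕ) :
    (ShortComplex.mk (ι π hπ hex0 hex j) (ε π hπ hex0 hex j) (ι_ε π hπ hex0 hex j)).ShortExact where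
  exact := ShortComplex.exact_of_f_is_kernel _ (kernelIsKernel _)

end Groth.Agent.Lib.Syzygies
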