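import Mathlib
import Groth.Prelude.Def_W4c5t1liftcy3defoArt

/-!
# Ring-level facts about the curvilinear test algebras `k[t]/(t^(n+1))`, `k[t,y]/(t^(n+1),y^2)` (helper1)
-/

set_option autoImplicit false
universe u

open Polynomial T1Lift

namespace Groth.Agent.Lib.T1LiftAlg

variable (k : Type u) [Field k]

theorem αAlg_mk (n : ℕ) (p : k[X]) :
    αAlg k n (AdjoinRoot.mk _ p) = AdjoinRoot.mk _ p := by
  induction p using Polynomial.induction_on' with
  | add p q hp hq => rw [map_add, map_add, map_add, hp, hq]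
  | monomial m c =>
    rw [← C_mul_X_pow_eq_monomial, map_mul, map_mul, map_pow, map_pow, map_mul, map_pow,
      AdjoinRoot.mk_X, AdjoinRoot.mk_X, αAlg_t, AdjoinRoot.mk_C, AdjoinRoot.mk_C]
    congr 1
    exact (αAlg k n).commutes c

theorem αAlg_surjective (n : ℕ) : Function.Surjective (αAlg k n) := by
  intro x
  obtain ⟨p, rfl⟩ := AdjoinRoot.mk_surjective x
  exact ⟨AdjoinRoot.mk _ p, αAlg_mk k n p⟩

/-- elements of the augmentation ideal are multiples of `t` -/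
theorem exists_eq_t_mul (n : ℕ) (a : Tr k n) (ha : resA k n a = 0) : ∃ b : Tr k n, a = t k n * b := by
  obtain ⟨b, hb⟩ := eq_algebraMap_add_t_mul k n a
  refine ⟨b, ?_⟩
  rw [hb, ha, map_zero, zero_add]

/-- the kernel of `k[t]/(t^(n+2)) → k[t]/(t^(n+1))` is spanned by `t^(n+1)` -/
theorem exists_of_αAlg_eq_zero (n : ℕ) (x : Tr k (n + 1)) (h : αAlg k n x = 0) :
    ∃ c : k, x = c • t k (n + 1) ^ (n + 1) := by
  obtain ⟨p, rfl⟩ := AdjoinRoot.mk_surjective x
  rw [αAlg_mk, AdjoinRoot.mk_eq_zero] at h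
  obtain ⟨r, rfl⟩ := h
  obtain ⟨b, hb⟩ := eq_algebraMap_add_t_mul k (n + 1) (AdjoinRoot.mk _ r)
  generalize resA k (n + 1) (AdjoinRoot.mk _ r) = c at hb
  refine ⟨c, ?_⟩
  rw [map_mul, map_pow, AdjoinRoot.mk_X, hb, mul_add, ← mul_assoc, ← pow_succ, t_pow, zero_mul,
    add_zero, Algebra.smul_def, mul_comm]

theorem mul_t_pow_eq_zero (n : ℕ) (a : Tr k n) (ha : resA k n a = 0) : a * t k n ^ n = 0 := by
  obtain ⟨b, rfl⟩ := exists_eq_t_mul k n a ha
  rw [mul_comm (t k n) b, mul_assoc, ← pow_succ', t_pow, mul_zero]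

/-- `t^n ≠ 0` in `k[t]/(t^(n+1))` -/
theorem t_pow_ne_zero (n : ℕ) : t k n ^ n ≠ 0 := by
  intro h
  have h1 : AdjoinRoot.mk ((X : k[X]) ^ (n + 1)) (X ^ n) = 0 := by
    rw [map_pow, AdjoinRoot.mk_X]; exact h
  rw [AdjoinRoot.mk_eq_zero] at h1
  have := Polynomial.degree_le_of_dvd h1 (pow_ne_zero n X_ne_zero)
  rw [degree_X_pow, degree_X_pow] at this
  have : (n + 1 : ℕ) ≤ n := by exact_mod_cast this
  omega

theorem smul_t_pow_eq_zero_iff (n : ℕ) (c : k) : c • t k n ^ n = 0 ↔ c = 0 := by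
  constructor
  · intro h
    by_contra hc
    apply t_pow_ne_zero k n
    have := congrArg (fun z => c⁻¹ • z) h
    simpa [smul_smul, inv_mul_cancel₀ hc] using this
  · rintro rfl; rw [zero_smul]

/-- `(t + y)^m = t^m + m t^(m-1) y` in the dual numbers -/
theorem inl_add_eps_pow {R : Type u} [CommRing R] (a : R) (m : ℕ) :
    ((TrivSqZeroExt.inl a : DualNumber R) + DualNumber.eps) ^ m =
      TrivSqZeroExt.inl (a ^ m) + TrivSqZeroExt.inr (m • a ^ m.pred) := by
  apply TrivSqZeroExt.ext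
  · rw [TrivSqZeroExt.fst_pow]
    simp
  · rw [TrivSqZeroExt.snd_pow]
    simp

theorem εAlg_t_pow (n m : ℕ) : εAlg k n (t k (n + 1) ^ m) =
    TrivSqZeroExt.inl (t k n ^ m) + TrivSqZeroExt.inr (m • t k n ^ m.pred) := by
  rw [map_pow, εAlg_t, inl_add_eps_pow]

end Groth.Agent.Lib.T1LiftAlg
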