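import Groth.Agent.Lib.T1LiftAlg1
import Groth.Agent.Lib.ArtFunSmall

/-!
# The abstract `T¹`-lifting criterion for functors of Artin rings with a functorial obstruction theory (helper1)
-/

set_option autoImplicit false
universe u v

open CategoryTheory Polynomial T1Lift ArtFun ArtFun.Art TensorProduct

namespace Groth.Agent.Lib.T1LiftAlg

variable (k : Type u) [Field k]

theorem ε_comp_β (n : ℕ) : ε k n ≫ β k n = α k n := by
  apply hom_ext
  apply AdjoinRoot.algHom_ext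
  change (TrivSqZeroExt.fstHom k (Tr k n) (Tr k n)) (εAlg k n (t k (n + 1))) = αAlg k n (t k (n + 1))
  rw [εAlg_t, αAlg_t, map_add]
  change (TrivSqZeroExt.inl (t k n) : DualNumber (Tr k n)).fst + (DualNumber.eps : DualNumber (Tr k n)).fst = _
  rw [TrivSqZeroExt.fst_inl, DualNumber.fst_eps, add_zero]

theorem ε_comp_ξ (n : ℕ) : ε k (n + 1) ≫ ξ k n = α k (n + 1) ≫ ε k n := by
  apply hom_ext
  apply AdjoinRoot.algHom_ext
  change dualMap k (αAlg k n) (εAlg k (n + 1) (t k (n + 2))) = εAlg k n (αAlg k (n + 1) (t k (n + 2)))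
  rw [εAlg_t, αAlg_t, εAlg_t]
  apply TrivSqZeroExt.ext
  · change αAlg k n ((TrivSqZeroExt.inl (t k (n + 1)) + DualNumber.eps : DualNumber (Tr k (n + 1))).fst) = _
    rw [TrivSqZeroExt.fst_add, TrivSqZeroExt.fst_inl, DualNumber.fst_eps, add_zero, αAlg_t,
      TrivSqZeroExt.fst_add, TrivSqZeroExt.fst_inl, DualNumber.fst_eps, add_zero]
  · change αAlg k n ((TrivSqZeroExt.inl (t k (n + 1)) + DualNumber.eps : DualNumber (Tr k (n + 1))).snd) = _
    rw [TrivSqZeroExt.snd_add, TrivSqZeroExt.snd_inl, DualNumber.snd_eps, zero_add, map_one,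
      TrivSqZeroExt.snd_add, TrivSqZeroExt.snd_inl, DualNumber.snd_eps, zero_add]

theorem ξ_comp_β (n : ℕ) : ξ k n ≫ β k n = β k (n + 1) ≫ α k n := by
  apply hom_ext
  apply AlgHom.ext
  intro x
  rfl

theorem α_surjective (n : ℕ) : Function.Surjective (α k n) := αAlg_surjective k n

theorem mul_eq_zero_of_ker (n : ℕ) (a j : Tr k (n + 1)) (ha : resA k (n + 1) a = 0)
    (hj : αAlg k n j = 0) : a * j = 0 := by
  obtain ⟨c, rfl⟩ := exists_of_αAlg_eq_zero k n j hj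
  rw [mul_smul_comm, mul_t_pow_eq_zero k (n + 1) a ha, smul_zero]

theorem isSemismallExt_α (n : ℕ) : IsSemismallExt (α k n) := by
  refine ⟨α_surjective k n, ?_⟩
  rw [← le_bot_iff, Ideal.mul_le]
  intro a ha j hj
  rw [mem_maximalIdeal_iff] at ha
  exact mul_eq_zero_of_ker k n a j ha hj

/-- elements of `B_(n+1)` killed by `ξ` and `β` -/
theorem mul_eq_zero_of_ξ_β (n : ℕ) (a j : DualNumber (Tr k (n + 1)))
    (ha : resA k (n + 1) a.fst = 0) (h1 : dualMap k (αAlg k n) j = 0) (h2 : j.fst = 0) :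
    a * j = 0 := by
  have h3 : αAlg k n j.snd = 0 := congrArg TrivSqZeroExt.snd h1
  apply TrivSqZeroExt.ext
  · rw [TrivSqZeroExt.fst_mul, h2, mul_zero, TrivSqZeroExt.fst_zero]
  · rw [TrivSqZeroExt.snd_mul, h2, MulOpposite.op_zero, zero_smul, add_zero, smul_eq_mul,
      TrivSqZeroExt.snd_zero]
    exact mul_eq_zero_of_ker k n a.fst j.snd ha h3

theorem εAlg_injOn_ker [CharZero k] (n : ℕ) (j : Tr k (n + 2)) (hj : αAlg k (n + 1) j = 0)
    (h : εAlg k (n + 1) j = 0) : j = 0 := by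
  obtain ⟨c, rfl⟩ := exists_of_αAlg_eq_zero k (n + 1) j hj
  rw [map_smul, εAlg_t_pow] at h
  have h2 := congrArg TrivSqZeroExt.snd h
  rw [TrivSqZeroExt.snd_smul, TrivSqZeroExt.snd_add, TrivSqZeroExt.snd_inl, zero_add,
    TrivSqZeroExt.snd_inr, TrivSqZeroExt.snd_zero, Nat.pred_succ] at h2
  have h3 : (c * ((n + 1 + 1 : ℕ) : k)) • t k (n + 1) ^ (n + 1) = 0 := by
    rw [mul_smul, Nat.cast_smul_eq_nsmul]
    exact h2
  rw [smul_t_pow_eq_zero_iff] at h3
  rcases mul_eq_zero.1 h3 with h4 | h4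
  · rw [h4, zero_smul]
  · exact absurd h4 (Nat.cast_ne_zero.2 (by omega))

section Main

variable {k}
variable [CharZero k] (F : Art k k ⥤ Type v)
  (hRS : ∀ ⦃P A A' A'' : Art k k⦄ (p' : P ⟶ A') (p'' : P ⟶ A'') (f' : A' ⟶ A) (f'' : A'' ⟶ A)
    (h : IsFibreProd p' p'' f' f''), Function.Surjective f'' → Function.Bijective (cmp F h))
  (V : Type u) [AddCommGroup V] [Module k V] (O : ObsTheory F V)
  (hnat : ∀ ⦃A' A C' C : Art k k⦄ (φ : A' ⟶ A) (hφ : IsSemismallExt φ)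
    (ψ : C' ⟶ C) (hψ : IsSemismallExt ψ) (g' : A' ⟶ C') (g : A ⟶ C), φ ≫ g = g' ≫ ψ →
    ∀ (ℓ : ↥(RingHom.ker φ.toAlgHom) →ₗ[k] ↥(RingHom.ker ψ.toAlgHom)),
      (∀ j : ↥(RingHom.ker φ.toAlgHom), ((ℓ j : ↥(RingHom.ker ψ.toAlgHom)) : C') = g' (j : A')) →
      ∀ u : F.obj A, O.obs ψ hψ (F.map g u) = LinearMap.lTensor V ℓ (O.obs φ hφ u))

include hRS hnat in
theorem exists_lift_of_tangent_lift (n : ℕ) (X : F.obj (T1Lift.A k (n + 1)))
    (Y : F.obj (T1Lift.B k (n + 1))) (hY1 : F.map (β k (n + 1)) Y = X)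
    (hY2 : F.map (ξ k n) Y = F.map (ε k n) X) :
    ∃ X' : F.obj (T1Lift.A k (n + 2)), F.map (α k (n + 1)) X' = X := by
  -- the fibre product `C = B_n ×_{A_n} A_(n+1)`
  obtain ⟨C, p₁, p₂, hfp⟩ := Groth.Agent.Lib.ArtFunFibre.exists_isFibreProd_of_surjective
    (β k n) (α k n) (α_surjective k n)
  obtain ⟨q, hq1, hq2⟩ := Groth.Agent.Lib.ArtFunSmall.exists_hom_lift hfp (ξ k n) (β k (n + 1))
    (ξ_comp_β k n)
  obtain ⟨g, hg1, hg2⟩ := Groth.Agent.Lib.ArtFunSmall.exists_hom_lift hfp (ε k n) (𝟙 _)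
    ((ε_comp_β k n).trans (Category.id_comp _).symm)
  have hsq : α k (n + 1) ≫ g = ε k (n + 1) ≫ q := by
    apply Groth.Agent.Lib.ArtFunSmall.hom_eq_of_isFibreProd hfp
    · rw [Category.assoc, Category.assoc, hg1, hq1, ε_comp_ξ]
    · rw [Category.assoc, Category.assoc, hg2, hq2, Category.comp_id, ε_comp_β]
  -- `q` is a semismall extension
  have hq1' : ∀ b, p₁ (q b) = ξ k n b := fun b =>
    Groth.Agent.Lib.ArtFunSmall.hom_congr_apply hq1 b
  have hq2' : ∀ b, p₂ (q b) = β k (n + 1) b := fun b =>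
    Groth.Agent.Lib.ArtFunSmall.hom_congr_apply hq2 b
  have hqsurj : Function.Surjective q := by
    intro c
    obtain ⟨v', hv'⟩ := αAlg_surjective k n (TrivSqZeroExt.snd (p₁ c : DualNumber (Tr k n)))
    let w : Tr k (n + 1) := p₂ c
    let b : DualNumber (Tr k (n + 1)) := (w, v')
    have hw : αAlg k n w = TrivSqZeroExt.fst (p₁ c : DualNumber (Tr k n)) := (hfp.w_apply c).symm
    refine ⟨b, hfp.inj _ _ ?_ ?_⟩
    · refine (hq1' b).trans ?_
      exact TrivSqZeroExt.ext hw hv'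
    · refine (hq2' b).trans ?_
      rfl
  have hqss : IsSemismallExt q := by
    refine ⟨hqsurj, ?_⟩
    rw [← le_bot_iff, Ideal.mul_le]
    intro a ha j hj
    rw [mem_maximalIdeal_iff] at ha
    have hj0 : q j = 0 := hj
    have h1 : ξ k n j = 0 := by rw [← hq1', hj0, map_zero]
    have h2 : β k (n + 1) j = 0 := by rw [← hq2', hj0, map_zero]
    exact mul_eq_zero_of_ξ_β k n a j ha h1 h2
  have hαss := isSemismallExt_α k (n + 1)
  -- the map on kernels
  have hmem : ∀ j : ↥(RingHom.ker (α k (n + 1)).toAlgHom),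
      ε k (n + 1) (j : T1Lift.A k (n + 2)) ∈ RingHom.ker q.toAlgHom := by
    intro j
    have h1 : q (ε k (n + 1) (j : T1Lift.A k (n + 2))) = g (α k (n + 1) (j : T1Lift.A k (n + 2))) :=
      (Groth.Agent.Lib.ArtFunSmall.hom_congr_apply hsq (j : T1Lift.A k (n + 2))).symm
    have h2 : α k (n + 1) (j : T1Lift.A k (n + 2)) = 0 := j.2
    change q (ε k (n + 1) (j : T1Lift.A k (n + 2))) = 0
    rw [h1, h2, map_zero]
  let ℓ : ↥(RingHom.ker (α k (n + 1)).toAlgHom) →ₗ[k] ↥(RingHom.ker q.toAlgHom) :=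
    { toFun := fun j => ⟨ε k (n + 1) (j : T1Lift.A k (n + 2)), hmem j⟩
      map_add' := fun x y => Subtype.ext (map_add (ε k (n + 1)).toAlgHom _ _)
      map_smul' := fun c x => Subtype.ext (map_smul (ε k (n + 1)).toAlgHom c _) }
  have hℓinj : Function.Injective ℓ := by
    rw [← LinearMap.ker_eq_bot, LinearMap.ker_eq_bot']
    intro j hj
    have h1 : εAlg k (n + 1) (j : T1Lift.A k (n + 2)) = 0 := congrArg Subtype.val hj
    exact Subtype.ext (εAlg_injOn_ker k n _ j.2 h1)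
  have hkey := hnat (α k (n + 1)) hαss q hqss (ε k (n + 1)) g hsq ℓ (fun j => rfl) X
  -- `F(g) X = F(q) Y`
  have hRSb := hRS p₁ p₂ (β k n) (α k n) hfp (α_surjective k n)
  have hXY : F.map g X = F.map q Y := by
    apply hRSb.1
    apply FibProd.ext
    · change F.map p₁ (F.map g X) = F.map p₁ (F.map q Y)
      rw [← Functor.map_comp_apply, ← Functor.map_comp_apply, hg1, hq1, hY2]
    · change F.map p₂ (F.map g X) = F.map p₂ (F.map q Y)
      rw [← Functor.map_comp_apply, ← Functor.map_comp_apply, hg2, hq2, hY1,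
        Functor.map_id_apply]
  have hzero : O.obs q hqss (F.map g X) = 0 := (O.obs_eq_zero_iff q hqss _).2 ⟨Y, hXY.symm⟩
  rw [hkey] at hzero
  have hinj : Function.Injective (LinearMap.lTensor V ℓ) :=
    Module.Flat.lTensor_preserves_injective_linearMap ℓ hℓinj
  have : O.obs (α k (n + 1)) hαss X = 0 := hinj (by rw [hzero, map_zero])
  exact (O.obs_eq_zero_iff _ hαss X).1 this

omit [CharZero k] in
theorem tangent_lift_of_lift (n : ℕ) (X : F.obj (T1Lift.A k (n + 1)))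
    (X' : F.obj (T1Lift.A k (n + 2))) (hX' : F.map (α k (n + 1)) X' = X) :
    ∃ Y : F.obj (T1Lift.B k (n + 1)), F.map (β k (n + 1)) Y = X ∧
      F.map (ξ k n) Y = F.map (ε k n) X := by
  refine ⟨F.map (ε k (n + 1)) X', ?_, ?_⟩
  · rw [← Functor.map_comp_apply, ε_comp_β, hX']
  · rw [← Functor.map_comp_apply, ε_comp_ξ, Functor.map_comp_apply, hX']

end Main

end Groth.Agent.Lib.T1LiftAlg
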