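import Mathlib
import Groth.Prelude.Def_CotT2
import Groth.Agent.Lib.T2Syz
import Groth.Agent.Lib.SmoothT1

/-!
# Consequences of `T² = 0` and of formal smoothness for a presentation

* `projective_cotangent_of_T2`: `T²(P, L₂) = 0` gives `I/I²` projective;
* `H1_of_T2`: `T²(P, L₂) = 0`: a relation with coefficients in an ideal `𝔞` is trivial modulo `𝔞 • Q`;
* `H2_of_formallySmooth`: `B` formally smooth over `A`, `K = ker`, `K ≤ 𝔞`: `K ∩ 𝔞² ≤ 𝔞 K`.
-/

set_option autoImplicit false
set_option linter.unusedVariables false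
set_option linter.unusedSectionVars false
universe u w
open scoped TensorProduct

namespace Groth.Agent.Lib.T2Pres

open CotT Groth.Agent.Lib.T2Syz

variable {A : Type u} {B : Type u} [CommRing A] [CommRing B] [Algebra A B] {ι σ : Type w}
  (P : Algebra.Presentation A B ι σ)

theorem exists_retraction_d2 (h : Subsingleton (T2 P (L2 P))) :
    ∃ φ : L1 P →ₗ[B] L2 P, φ ∘ₗ d2 P = LinearMap.id := by
  have h1 : (LinearMap.id : L2 P →ₗ[B] L2 P) ∈ LinearMap.range (d2Star P (L2 P)) := by
    rw [← Submodule.Quotient.mk_eq_zero]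
    exact h.elim _ _
  obtain ⟨φ, hφ⟩ := h1
  exact ⟨φ, hφ⟩

theorem projective_cotangent_of_T2 (h : Subsingleton (T2 P (L2 P))) :
    Module.Projective B P.toExtension.Cotangent := by
  obtain ⟨φ, hφ⟩ := exists_retraction_d2 P h
  have h1 : Function.Injective (d2 P) ∧ ∃ l, toCot P ∘ₗ l = LinearMap.id :=
    ((exact_d2_toCot P).split_tfae'.out 1 0).mp
      (And.intro (Groth.Agent.S12289.toCot_surjective P) (Exists.intro φ hφ))
  obtain ⟨-, l, hl⟩ := h1
  have : Module.Free B (L1 P) := Module.Free.of_basis (L1basis P)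
  exact Module.Projective.of_split l (toCot P) hl

theorem H1_of_T2 (h : Subsingleton (T2 P (L2 P))) (𝔞 : Ideal P.toExtension.Ring)
    (a : relMod P) (ha : a ∈ relKer P) (hc : ∀ s, a s ∈ 𝔞) :
    a ∈ trivRel P ⊔ 𝔞 • relKer P := by
  classical
  obtain ⟨φ, hφ⟩ := exists_retraction_d2 P h
  have h1 : ∀ s : σ, ∃ hs : relKer P,
      φ ((1 : B) ⊗ₜ[P.toExtension.Ring] (Finsupp.single s (1 : P.toExtension.Ring) : relMod P)) =
        Submodule.Quotient.mk ((1 : B) ⊗ₜ[P.toExtension.Ring] hs) := by
    intro s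
    obtain ⟨z, hz⟩ := Submodule.Quotient.mk_surjective _
      (φ ((1 : B) ⊗ₜ[P.toExtension.Ring] (Finsupp.single s (1 : P.toExtension.Ring) : relMod P)))
    obtain ⟨q, rfl⟩ := exists_one_tmul P z
    exact ⟨q, hz.symm⟩
  choose hh hhs using h1
  -- the correction term
  let c : relKer P := ∑ s ∈ a.support, a s • hh s
  have hc𝔞 : (c : relMod P) ∈ 𝔞 • relKer P := by
    change ((∑ s ∈ a.support, a s • hh s : relKer P) : relMod P) ∈ _
    rw [Submodule.coe_sum]
    refine Submodule.sum_mem _ fun s _ => ?_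
    exact Submodule.smul_mem_smul (hc s) (hh s).2
  have h2 : (Submodule.Quotient.mk ((1 : B) ⊗ₜ[P.toExtension.Ring] (⟨a, ha⟩ : relKer P)) : L2 P) =
      Submodule.Quotient.mk ((1 : B) ⊗ₜ[P.toExtension.Ring] c) := by
    have e1 : (Submodule.Quotient.mk ((1 : B) ⊗ₜ[P.toExtension.Ring] (⟨a, ha⟩ : relKer P)) : L2 P) =
        φ (d2 P (Submodule.Quotient.mk ((1 : B) ⊗ₜ[P.toExtension.Ring] (⟨a, ha⟩ : relKer P)))) := by
      rw [← LinearMap.comp_apply, hφ, LinearMap.id_apply]
    rw [e1, d2_mk_tmul]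
    change φ ((1 : B) ⊗ₜ[P.toExtension.Ring] a) = _
    have e2 : (1 : B) ⊗ₜ[P.toExtension.Ring] a =
        ∑ s ∈ a.support, algebraMap P.toExtension.Ring B (a s) •
          ((1 : B) ⊗ₜ[P.toExtension.Ring] (Finsupp.single s (1 : P.toExtension.Ring) : relMod P)) := by
      conv_lhs => rw [← Finsupp.sum_single a]
      rw [Finsupp.sum, TensorProduct.tmul_sum]
      refine Finset.sum_congr rfl fun s _ => ?_
      have : (Finsupp.single s (a s) : relMod P) = a s • Finsupp.single s 1 := by
        rw [Finsupp.smul_single, smul_eq_mul, mul_one]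
      rw [this, ← TensorProduct.smul_tmul, TensorProduct.smul_tmul', Algebra.smul_def, mul_one,
        smul_eq_mul, mul_one]
    rw [e2, map_sum]
    have e3 : ((1 : B) ⊗ₜ[P.toExtension.Ring] c : B ⊗[P.toExtension.Ring] relKer P) =
        ∑ s ∈ a.support, algebraMap P.toExtension.Ring B (a s) • ((1 : B) ⊗ₜ[P.toExtension.Ring] hh s) := by
      change (1 : B) ⊗ₜ[P.toExtension.Ring] (∑ s ∈ a.support, a s • hh s) = _
      rw [TensorProduct.tmul_sum]
      refine Finset.sum_congr rfl fun s _ => ?_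
      rw [← TensorProduct.smul_tmul, TensorProduct.smul_tmul', Algebra.smul_def, mul_one,
        smul_eq_mul, mul_one]
    rw [e3]
    have e4 : (Submodule.Quotient.mk (∑ s ∈ a.support, algebraMap P.toExtension.Ring B (a s) •
        ((1 : B) ⊗ₜ[P.toExtension.Ring] hh s)) : L2 P) =
        ∑ s ∈ a.support, algebraMap P.toExtension.Ring B (a s) •
          (Submodule.Quotient.mk ((1 : B) ⊗ₜ[P.toExtension.Ring] hh s) : L2 P) := by
      rw [← Submodule.mkQ_apply, map_sum]
      rfl
    rw [e4]
    refine Finset.sum_congr rfl fun s _ => ?_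
    rw [map_smul, hhs]
  have h3 : (Submodule.Quotient.mk ((1 : B) ⊗ₜ[P.toExtension.Ring] ((⟨a, ha⟩ : relKer P) - c)) : L2 P) = 0 := by
    have e := (TensorProduct.mk P.toExtension.Ring B (relKer P) 1).map_sub (⟨a, ha⟩ : relKer P) c
    have e' : ((1 : B) ⊗ₜ[P.toExtension.Ring] ((⟨a, ha⟩ : relKer P) - c) : B ⊗[P.toExtension.Ring] relKer P) =
        (1 : B) ⊗ₜ[P.toExtension.Ring] (⟨a, ha⟩ : relKer P) - (1 : B) ⊗ₜ[P.toExtension.Ring] c := e
    rw [e', Submodule.Quotient.mk_sub, h2, sub_self]
  rw [Submodule.Quotient.mk_eq_zero] at h3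
  have h4 := mem_trivRel_of_mem_range P _ h3
  have h5 : a = (((⟨a, ha⟩ : relKer P) - c : relKer P) : relMod P) + (c : relMod P) := by
    simp
  rw [h5]
  exact Submodule.add_mem_sup h4 hc𝔞

instance formallySmooth_ring : Algebra.FormallySmooth A P.toExtension.Ring :=
  inferInstanceAs (Algebra.FormallySmooth A (MvPolynomial ι A))

/-- `algebraMap r • m = r • m` on the cotangent module. -/
theorem algebraMap_smul_cotangent (r : P.toExtension.Ring) (m : P.toExtension.Cotangent) :
    algebraMap P.toExtension.Ring B r • m = r • m := by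
  apply Algebra.Extension.Cotangent.ext
  rw [Algebra.Extension.Cotangent.val_smul, Algebra.Extension.Cotangent.val_smul', ← sub_eq_zero, ← sub_smul]
  refine Algebra.Extension.Cotangent.smul_eq_zero_of_mem _ ?_ _
  rw [Algebra.Extension.ker, RingHom.mem_ker, map_sub, Algebra.Extension.algebraMap_σ, sub_self]

theorem H2_of_formallySmooth [Algebra.FormallySmooth A B] (𝔞 : Ideal P.toExtension.Ring)
    (h𝔞 : P.toExtension.ker ≤ 𝔞) (x : P.toExtension.Ring) (hx : x ∈ P.toExtension.ker)
    (hx2 : x ∈ 𝔞 * 𝔞) : x ∈ 𝔞 * P.toExtension.ker := by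
  obtain ⟨l, hl⟩ := (Algebra.Extension.formallySmooth_iff_split_injection P.toExtension).mp inferInstance
  set IB : Ideal B := 𝔞.map (algebraMap P.toExtension.Ring B) with hIB
  -- step B
  have hB : ∀ y ∈ 𝔞 * 𝔞, ((1 : B) ⊗ₜ[P.toExtension.Ring] KaehlerDifferential.D A P.toExtension.Ring y :
      P.toExtension.CotangentSpace) ∈ IB • (⊤ : Submodule B P.toExtension.CotangentSpace) := by
    intro y hy
    refine Submodule.mul_induction_on hy ?_ ?_
    · intro u hu v hv
      rw [Derivation.leibniz, TensorProduct.tmul_add]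
      refine Submodule.add_mem _ ?_ ?_
      · have : ((1 : B) ⊗ₜ[P.toExtension.Ring] (u • KaehlerDifferential.D A P.toExtension.Ring v) :
            P.toExtension.CotangentSpace) = algebraMap P.toExtension.Ring B u •
            ((1 : B) ⊗ₜ[P.toExtension.Ring] KaehlerDifferential.D A P.toExtension.Ring v) := by
          rw [← TensorProduct.smul_tmul, TensorProduct.smul_tmul', Algebra.smul_def, mul_one,
            smul_eq_mul, mul_one]
        rw [this]
        exact Submodule.smul_mem_smul (Ideal.mem_map_of_mem _ hu) Submodule.mem_top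
      · have : ((1 : B) ⊗ₜ[P.toExtension.Ring] (v • KaehlerDifferential.D A P.toExtension.Ring u) :
            P.toExtension.CotangentSpace) = algebraMap P.toExtension.Ring B v •
            ((1 : B) ⊗ₜ[P.toExtension.Ring] KaehlerDifferential.D A P.toExtension.Ring u) := by
          rw [← TensorProduct.smul_tmul, TensorProduct.smul_tmul', Algebra.smul_def, mul_one,
            smul_eq_mul, mul_one]
        rw [this]
        exact Submodule.smul_mem_smul (Ideal.mem_map_of_mem _ hv) Submodule.mem_top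
    · intro y z hy hz
      rw [map_add, TensorProduct.tmul_add]
      exact Submodule.add_mem _ hy hz
  -- step C
  have hC : ∀ z ∈ IB • (⊤ : Submodule B P.toExtension.CotangentSpace),
      l z ∈ IB • (⊤ : Submodule B P.toExtension.Cotangent) := by
    intro z hz
    refine Submodule.smul_induction_on hz ?_ ?_
    · intro i hi n _
      rw [map_smul]
      exact Submodule.smul_mem_smul hi Submodule.mem_top
    · intro y z hy hz
      rw [map_add]
      exact Submodule.add_mem _ hy hz
  -- step D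
  have hD : ∀ m ∈ IB • (⊤ : Submodule B P.toExtension.Cotangent),
      ∃ y : P.toExtension.ker, y.1 ∈ 𝔞 * P.toExtension.ker ∧ m = Algebra.Extension.Cotangent.mk y := by
    intro m hm
    refine Submodule.smul_induction_on hm ?_ ?_
    · intro i hi n _
      obtain ⟨a', ha', rfl⟩ := (Ideal.mem_map_iff_of_surjective _ P.toExtension.algebraMap_surjective).mp hi
      obtain ⟨κ, rfl⟩ := Algebra.Extension.Cotangent.mk_surjective n
      refine ⟨a' • κ, ?_, ?_⟩
      · exact Ideal.mul_mem_mul ha' κ.2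
      · rw [algebraMap_smul_cotangent, map_smul]
    · rintro m₁ m₂ ⟨y₁, hy₁, rfl⟩ ⟨y₂, hy₂, rfl⟩
      exact ⟨y₁ + y₂, Ideal.add_mem _ hy₁ hy₂, (map_add _ _ _).symm⟩
  have h1 : Algebra.Extension.Cotangent.mk (⟨x, hx⟩ : P.toExtension.ker) ∈
      IB • (⊤ : Submodule B P.toExtension.Cotangent) := by
    have e : Algebra.Extension.Cotangent.mk (⟨x, hx⟩ : P.toExtension.ker) =
        l (P.toExtension.cotangentComplex (Algebra.Extension.Cotangent.mk (⟨x, hx⟩ : P.toExtension.ker))) := by
      rw [← LinearMap.comp_apply, hl, LinearMap.id_apply]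
    rw [e, Algebra.Extension.cotangentComplex_mk]
    exact hC _ (hB x hx2)
  obtain ⟨y, hy, hxy⟩ := hD _ h1
  rw [Algebra.Extension.Cotangent.mk_eq_mk_iff_sub_mem] at hxy
  have h2 : P.toExtension.ker ^ 2 ≤ 𝔞 * P.toExtension.ker := by
    rw [pow_two]
    exact Ideal.mul_mono_left h𝔞
  have h3 : x = (x - y.1) + y.1 := by ring
  rw [h3]
  exact Ideal.add_mem _ (h2 hxy) hy

end Groth.Agent.Lib.T2Pres
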