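import Mathlib
import Groth.Prelude.Def_CotT2
import Groth.Agent.Lib.T2Syz
import Groth.Agent.Lib.T2Pres
import Groth.Agent.Lib.T2Trans

/-!
# `T²(B/k) = 0 ↔ T²(B/A) = 0` for `k → A → B` with `A → B` presented without variables and `T¹(A/k) = T²(A/k) = 0`

`P` a presentation of `A` over `k`, `Q` a presentation of `B` over `A` with no variables, `Q.comp P` Mathlib's composite
presentation of `B` over `k`.
-/

set_option autoImplicit false
set_option linter.unusedVariables false
set_option linter.unusedSectionVars false
universe u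
open scoped TensorProduct

namespace Groth.Agent.Lib.T2Comp

open CotT Groth.Agent.Lib.SyzLoc Groth.Agent.Lib.T2Trans

section Transport

variable {R R' : Type*} [CommRing R] [CommRing R'] (ε : R →+* R') {σ : Type*} (f : σ → R)

theorem mapRange_mem_triv {x : σ →₀ R} (hx : x ∈ triv f) :
    Finsupp.mapRange ε (map_zero _) x ∈ triv (fun s => ε (f s)) := by
  induction hx using Submodule.span_induction with
  | mem y hy =>
    obtain ⟨a, b, rfl⟩ := hy
    have e : Finsupp.mapRange ε (map_zero _)
        (Finsupp.linearCombination R f a • b - Finsupp.linearCombination R f b • a) =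
        Finsupp.linearCombination R' (fun s => ε (f s)) (Finsupp.mapRange ε (map_zero _) a) •
          Finsupp.mapRange ε (map_zero _) b -
        Finsupp.linearCombination R' (fun s => ε (f s)) (Finsupp.mapRange ε (map_zero _) b) •
          Finsupp.mapRange ε (map_zero _) a := by
      rw [lc_mapRange, lc_mapRange]
      ext s
      simp [Finsupp.mapRange_apply]
    rw [e]
    exact mem_triv_gen _ _ _
  | zero => rw [Finsupp.mapRange_zero]; exact Submodule.zero_mem _
  | add a b _ _ ha hb => rw [Finsupp.mapRange_add (map_add _)]; exact Submodule.add_mem _ ha hb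
  | smul r a _ ha =>
    have e : Finsupp.mapRange ε (map_zero _) (r • a) = ε r • Finsupp.mapRange ε (map_zero _) a := by
      ext s
      simp [Finsupp.mapRange_apply]
    rw [e]
    exact Submodule.smul_mem _ _ ha

theorem mapRange_mem_smul_ker (𝔞 : Ideal R) {x : σ →₀ R}
    (hx : x ∈ 𝔞 • LinearMap.ker (Finsupp.linearCombination R f)) :
    Finsupp.mapRange ε (map_zero _) x ∈
      (𝔞.map ε) • LinearMap.ker (Finsupp.linearCombination R' (fun s => ε (f s))) := by
  refine Submodule.smul_induction_on hx ?_ ?_
  · intro i hi h hh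
    have e : Finsupp.mapRange ε (map_zero _) (i • h) = ε i • Finsupp.mapRange ε (map_zero _) h := by
      ext s
      simp [Finsupp.mapRange_apply]
    rw [e]
    refine Submodule.smul_mem_smul (Ideal.mem_map_of_mem _ hi) ?_
    rw [LinearMap.mem_ker, lc_mapRange, LinearMap.mem_ker.mp hh, map_zero]
  · intro a b ha hb
    rw [Finsupp.mapRange_add (map_add _)]
    exact Submodule.add_mem _ ha hb

end Transport

section Comp

variable {k A B : Type u} [CommRing k] [CommRing A] [CommRing B] [Algebra k A] [Algebra A B] [Algebra k B]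
  [IsScalarTower k A B] {ι σ J : Type u}
  (P : Algebra.Presentation k A ι σ) (Q : Algebra.Presentation A B PEmpty.{u+1} J)

/-- `R' → A' = MvPolynomial PEmpty A`. -/
noncomputable def piHom : (Q.comp P).toExtension.Ring →+* Q.toExtension.Ring :=
  (Q.toGenerators.ofComp P.toGenerators).toExtensionHom.toRingHom

/-- `R → R'`, a bijection. -/
noncomputable def eps : P.toExtension.Ring →+* (Q.comp P).toExtension.Ring :=
  (Q.toGenerators.toComp P.toGenerators).toExtensionHom.toRingHom

theorem eps_apply (p : P.toExtension.Ring) :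
    eps P Q p = (MvPolynomial.rename Sum.inr (p : MvPolynomial ι k) : MvPolynomial (PEmpty.{u+1} ⊕ ι) k) := by
  change (Q.toGenerators.toComp P.toGenerators).toAlgHom p = _
  rw [Algebra.Generators.toComp_toAlgHom]

theorem eps_bijective : Function.Bijective (eps P Q) := by
  constructor
  · intro a b hab
    rw [eps_apply, eps_apply] at hab
    exact MvPolynomial.rename_injective _ Sum.inr_injective hab
  · intro p
    obtain ⟨q, hq⟩ := MvPolynomial.exists_rename_eq_of_vars_subset_range
      (p : MvPolynomial (PEmpty.{u+1} ⊕ ι) k) (Sum.inr : ι → PEmpty.{u+1} ⊕ ι) Sum.inr_injective (by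
        intro i _
        rcases i with i | i
        · exact i.elim
        · exact ⟨i, rfl⟩)
    exact ⟨q, (eps_apply P Q q).trans hq⟩

theorem piHom_surjective : Function.Surjective (piHom P Q) :=
  Algebra.Generators.toAlgHom_ofComp_surjective Q.toGenerators P.toGenerators

theorem rel_comp_eq : rel (Q.comp P) =
    gg (fun s => eps P Q (rel P s)) (fun j => rel (Q.comp P) (Sum.inl j)) := by
  funext i
  rcases i with j | s
  · rfl
  · change _ = eps P Q (rel P s)
    rw [eps_apply]
    rfl

theorem span_kappa : Ideal.span (Set.range fun s => eps P Q (rel P s)) = RingHom.ker (piHom P Q) := by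
  have h1 := Algebra.Generators.map_toComp_ker Q.toGenerators P.toGenerators
  have h2 : Ideal.span (Set.range fun s => eps P Q (rel P s)) =
      Ideal.map (eps P Q) (Ideal.span (Set.range (rel P))) := by
    rw [Ideal.map_span, ← Set.range_comp]
    rfl
  rw [h2, show Ideal.span (Set.range (rel P)) = P.ker from P.span_range_relation_eq_ker]
  exact h1

theorem piHom_rel (j : J) : piHom P Q (rel (Q.comp P) (Sum.inl j)) = rel Q j :=
  Algebra.Presentation.comp_aeval_relation_inl Q P j

theorem rawSyz_iff_syz {A₀ B₀ : Type u} [CommRing A₀] [CommRing B₀] [Algebra A₀ B₀] {ι₀ σ₀ : Type u}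
    (P₀ : Algebra.Presentation A₀ B₀ ι₀ σ₀) :
    RawSyz (rel P₀) ↔ ∀ q : relMod P₀, q ∈ relKer P₀ → (∀ s, q s ∈ P₀.toExtension.ker) → q ∈ trivRel P₀ := by
  have e : Ideal.span (Set.range (rel P₀)) = P₀.toExtension.ker := P₀.span_range_relation_eq_ker
  constructor
  · intro h q hq hc
    exact h q hq (fun s => e ▸ hc s)
  · intro h q hq hc
    exact h q hq (fun s => e ▸ hc s)

theorem span_rel_comp : Ideal.span (Set.range (gg (fun s => eps P Q (rel P s))
    (fun j => rel (Q.comp P) (Sum.inl j)))) = (Q.comp P).toExtension.ker := by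
  rw [← rel_comp_eq]
  exact (Q.comp P).span_range_relation_eq_ker

/-- `(H1)` for the composite. -/
theorem H1_comp (hT2 : Subsingleton (T2 P (L2 P))) (a' : σ →₀ (Q.comp P).toExtension.Ring)
    (ha' : Finsupp.linearCombination (Q.comp P).toExtension.Ring (fun s => eps P Q (rel P s)) a' = 0)
    (hc' : ∀ s, a' s ∈ Ideal.span (Set.range (gg (fun s => eps P Q (rel P s))
      (fun j => rel (Q.comp P) (Sum.inl j))))) :
    a' ∈ triv (fun s => eps P Q (rel P s)) ⊔
      (Ideal.span (Set.range (gg (fun s => eps P Q (rel P s)) (fun j => rel (Q.comp P) (Sum.inl j))))) •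
        LinearMap.ker (Finsupp.linearCombination (Q.comp P).toExtension.Ring (fun s => eps P Q (rel P s))) := by
  classical
  set I' := Ideal.span (Set.range (gg (fun s => eps P Q (rel P s))
    (fun j => rel (Q.comp P) (Sum.inl j)))) with hI'
  let εe : P.toExtension.Ring ≃+* (Q.comp P).toExtension.Ring := RingEquiv.ofBijective (eps P Q) (eps_bijective P Q)
  have hεe : ∀ x, eps P Q (εe.symm x) = x := fun x => εe.apply_symm_apply x
  set a : relMod P := Finsupp.mapRange εe.symm (map_zero _) a' with ha
  have haa' : Finsupp.mapRange (eps P Q) (map_zero _) a = a' := by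
    ext s
    rw [Finsupp.mapRange_apply, ha, Finsupp.mapRange_apply, hεe]
  have halc : a ∈ relKer P := by
    change Finsupp.linearCombination _ (rel P) a = 0
    apply (eps_bijective P Q).1
    rw [← lc_mapRange, haa', ha', map_zero]
  have hac : ∀ s, a s ∈ I'.comap (eps P Q) := by
    intro s
    rw [Ideal.mem_comap, ha, Finsupp.mapRange_apply, hεe]
    exact hc' s
  have h1 := Groth.Agent.Lib.T2Pres.H1_of_T2 P hT2 (I'.comap (eps P Q)) a halc hac
  obtain ⟨t, ht, v, hv, htv⟩ := Submodule.mem_sup.mp h1
  rw [← haa', ← htv, Finsupp.mapRange_add (map_add _)]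
  refine Submodule.add_mem_sup (mapRange_mem_triv (eps P Q) (rel P) ht) ?_
  have h2 := mapRange_mem_smul_ker (eps P Q) (rel P) (I'.comap (eps P Q)) hv
  exact Submodule.smul_mono_left Ideal.map_comap_le h2

/-- `(H2)` for the composite. -/
theorem H2_comp [Algebra.FormallySmooth k A] (x' : (Q.comp P).toExtension.Ring)
    (hx' : x' ∈ RingHom.ker (piHom P Q))
    (hx2 : x' ∈ Ideal.span (Set.range (gg (fun s => eps P Q (rel P s)) (fun j => rel (Q.comp P) (Sum.inl j)))) *
      Ideal.span (Set.range (gg (fun s => eps P Q (rel P s)) (fun j => rel (Q.comp P) (Sum.inl j))))) :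
    x' ∈ Ideal.span (Set.range (gg (fun s => eps P Q (rel P s)) (fun j => rel (Q.comp P) (Sum.inl j)))) *
      RingHom.ker (piHom P Q) := by
  set I' := Ideal.span (Set.range (gg (fun s => eps P Q (rel P s))
    (fun j => rel (Q.comp P) (Sum.inl j)))) with hI'
  have hsurj := (eps_bijective P Q).2
  have hinj := (eps_bijective P Q).1
  have hker : RingHom.ker (piHom P Q) = Ideal.map (eps P Q) P.toExtension.ker :=
    (Algebra.Generators.map_toComp_ker Q.toGenerators P.toGenerators).symm
  have hI'map : I' = Ideal.map (eps P Q) (I'.comap (eps P Q)) := (Ideal.map_comap_of_surjective _ hsurj I').symm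
  have h𝔞 : P.toExtension.ker ≤ I'.comap (eps P Q) := by
    intro y hy
    rw [Ideal.mem_comap]
    have : eps P Q y ∈ RingHom.ker (piHom P Q) := hker ▸ Ideal.mem_map_of_mem _ hy
    rw [← span_kappa] at this
    exact range_κ_le _ _ this
  rw [hker] at hx'
  obtain ⟨x, hx, rfl⟩ := (Ideal.mem_map_iff_of_surjective _ hsurj).mp hx'
  have hx2' : x ∈ I'.comap (eps P Q) * I'.comap (eps P Q) := by
    rw [hI'map, ← Ideal.map_mul] at hx2
    obtain ⟨z, hz, hzx⟩ := (Ideal.mem_map_iff_of_surjective _ hsurj).mp hx2
    rw [← hinj hzx]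
    exact hz
  have h1 := Groth.Agent.Lib.T2Pres.H2_of_formallySmooth P (I'.comap (eps P Q)) h𝔞 x hx hx2'
  have h2 := Ideal.mem_map_of_mem (eps P Q) h1
  rw [Ideal.map_mul, ← hI'map, ← hker] at h2
  exact h2

/-- the syzygy conditions of `Q.comp P` and `Q` are equivalent. -/
theorem syz_comp_iff [Algebra.FormallySmooth k A] (hT2 : Subsingleton (T2 P (L2 P))) :
    RawSyz (rel (Q.comp P)) ↔ RawSyz (rel Q) := by
  have e : (fun j => piHom P Q (rel (Q.comp P) (Sum.inl j))) = rel Q := funext (piHom_rel P Q)
  constructor
  · intro h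
    rw [rel_comp_eq] at h
    have := rawSyz_of_gg (piHom P Q) (fun s => eps P Q (rel P s)) (fun j => rel (Q.comp P) (Sum.inl j))
      (piHom_surjective P Q) (span_kappa P Q) h (H2_comp P Q)
    rw [e] at this
    exact this
  · intro h
    rw [rel_comp_eq]
    rw [← e] at h
    exact rawSyz_gg (piHom P Q) (fun s => eps P Q (rel P s)) (fun j => rel (Q.comp P) (Sum.inl j))
      (piHom_surjective P Q) (span_kappa P Q) h (H1_comp P Q hT2)

section Proj

open Algebra Algebra.Generators

attribute [local instance] SMulCommClass.of_commMonoid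

theorem exists_split [Algebra.FormallySmooth k A] :
    ∃ e : (Q.toGenerators.comp P.toGenerators).toExtension.Cotangent ≃ₗ[B]
      (B ⊗[A] P.toExtension.Cotangent) × Q.toExtension.Cotangent, True := by
  obtain ⟨l, hl⟩ := (Algebra.Extension.formallySmooth_iff_split_injection P.toExtension).mp inferInstance
  have hex := Algebra.Generators.Cotangent.exact Q.toGenerators P.toGenerators
  have hsurj := Algebra.Generators.Cotangent.surjective_map_ofComp Q.toGenerators P.toGenerators
  let r₁ : (Q.toGenerators.comp P.toGenerators).toExtension.Cotangent →ₗ[B] B ⊗[A] P.toExtension.Cotangent :=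
    (l.baseChange B) ∘ₗ (LinearMap.snd B _ _) ∘ₗ
      (Algebra.Generators.CotangentSpace.compEquiv Q.toGenerators P.toGenerators).toLinearMap ∘ₗ
      (Q.toGenerators.comp P.toGenerators).toExtension.cotangentComplex
  have hr : r₁ ∘ₗ ((Extension.Cotangent.map
      (Q.toGenerators.toComp P.toGenerators).toExtensionHom).liftBaseChange B) = LinearMap.id := by
    apply TensorProduct.AlgebraTensorModule.ext
    intro b x
    have hb : (b ⊗ₜ[A] x : B ⊗[A] P.toExtension.Cotangent) = b • ((1 : B) ⊗ₜ[A] x) := by
      rw [TensorProduct.smul_tmul', smul_eq_mul, mul_one]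
    rw [hb, map_smul, map_smul]
    congr 1
    simp only [LinearMap.coe_comp, Function.comp_apply, LinearMap.id_coe, id_eq, LinearEquiv.coe_coe,
      LinearMap.liftBaseChange_tmul, one_smul, r₁]
    rw [← Extension.CotangentSpace.map_cotangentComplex]
    have h1 : Extension.CotangentSpace.map (Q.toGenerators.toComp P.toGenerators).toExtensionHom
        (P.toExtension.cotangentComplex x) =
        (Algebra.Generators.CotangentSpace.compEquiv Q.toGenerators P.toGenerators).symm
          (0, (1 : B) ⊗ₜ[A] P.toExtension.cotangentComplex x) := by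
      rw [Algebra.Generators.CotangentSpace.compEquiv_symm_zero, LinearMap.liftBaseChange_tmul, one_smul]
    rw [h1, LinearEquiv.apply_symm_apply]
    change (l.baseChange B) ((1 : B) ⊗ₜ[A] P.toExtension.cotangentComplex x) = _
    rw [LinearMap.baseChange_tmul, ← LinearMap.comp_apply, hl, LinearMap.id_apply]
  have h2 := (hex.split_tfae'.out 1 2).mp (And.intro hsurj (Exists.intro r₁ hr))
  obtain ⟨e, -, -⟩ := h2
  exact ⟨e, trivial⟩

theorem projective_comp_iff [Algebra.FormallySmooth k A] :
    Module.Projective B (Q.comp P).toExtension.Cotangent ↔ Module.Projective B Q.toExtension.Cotangent := by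
  obtain ⟨e, -⟩ := exists_split P Q
  have : Module.Projective A P.toExtension.Cotangent := Groth.Agent.Lib.SmoothT1.projective_cotangent P
  have hP : Module.Projective B (B ⊗[A] P.toExtension.Cotangent) := inferInstance
  constructor
  · intro h
    have h' : Module.Projective B (Q.toGenerators.comp P.toGenerators).toExtension.Cotangent := h
    have h1 : Module.Projective B ((B ⊗[A] P.toExtension.Cotangent) × Q.toExtension.Cotangent) :=
      Module.Projective.of_equiv e
    exact Module.Projective.of_split
      (LinearMap.inr B (B ⊗[A] P.toExtension.Cotangent) Q.toExtension.Cotangent)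
      (LinearMap.snd B (B ⊗[A] P.toExtension.Cotangent) Q.toExtension.Cotangent) (by ext; rfl)
  · intro h
    have h1 : Module.Projective B ((B ⊗[A] P.toExtension.Cotangent) × Q.toExtension.Cotangent) := inferInstance
    have h2 : Module.Projective B (Q.toGenerators.comp P.toGenerators).toExtension.Cotangent :=
      Module.Projective.of_equiv e.symm
    exact h2

end Proj

/-- **`T²(B/k) = 0 ↔ T²(B/A) = 0`** (via `Q.comp P` and `Q`). -/
theorem T2_comp_iff [Algebra.FormallySmooth k A] (hT2 : Subsingleton (T2 P (L2 P))) :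
    (∀ (M : Type u) [AddCommGroup M] [Module B M], Subsingleton (T2 (Q.comp P) M)) ↔
      ∀ (M : Type u) [AddCommGroup M] [Module B M], Subsingleton (T2 Q M) := by
  constructor
  · intro h M _ _
    have h1 := h (L2 (Q.comp P))
    have hsyz : RawSyz (rel (Q.comp P)) := (rawSyz_iff_syz (Q.comp P)).mpr
      (fun q hq hc => Groth.Agent.Lib.T2Syz.mem_trivRel_of_subsingleton_T2 (Q.comp P) h1 q hq hc)
    have hproj := Groth.Agent.Lib.T2Pres.projective_cotangent_of_T2 (Q.comp P) h1
    have hsyzQ := (rawSyz_iff_syz Q).mp ((syz_comp_iff P Q hT2).mp hsyz)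
    have hprojQ : Module.Projective B Q.toExtension.Cotangent := (projective_comp_iff P Q).mp hproj
    exact Groth.Agent.Lib.T2Syz.subsingleton_T2_of_syz Q hsyzQ M
  · intro h M _ _
    have h1 := h (L2 Q)
    have hsyz : RawSyz (rel Q) := (rawSyz_iff_syz Q).mpr
      (fun q hq hc => Groth.Agent.Lib.T2Syz.mem_trivRel_of_subsingleton_T2 Q h1 q hq hc)
    have hproj := Groth.Agent.Lib.T2Pres.projective_cotangent_of_T2 Q h1
    have hsyzPQ := (rawSyz_iff_syz (Q.comp P)).mp ((syz_comp_iff P Q hT2).mpr hsyz)
    have hprojPQ : Module.Projective B (Q.comp P).toExtension.Cotangent := (projective_comp_iff P Q).mpr hproj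
    exact Groth.Agent.Lib.T2Syz.subsingleton_T2_of_syz (Q.comp P) hsyzPQ M

end Comp

end Groth.Agent.Lib.T2Comp
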