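import Mathlib
import Groth.Prelude.Def_CotT2
import Groth.Agent.Lib.T2Comp
import Groth.Agent.Lib.SmoothT2
import Groth.Agent.S2103
import Groth.Agent.S5803

/-!
# `T²(C/A) = 0` for a quotient `C` of a Noetherian local ring `A` forces the kernel to be generated by a regular sequence

Minimal generators of the kernel, Nakayama on the module of relations modulo trivial relations, then
`H₁`-regular ⇒ quasi-regular ⇒ regular.
-/

set_option autoImplicit false
set_option linter.unusedVariables false
set_option linter.unusedSectionVars false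
universe u
open scoped TensorProduct

namespace Groth.Agent.Lib.T2CI

open CotT IsLocalRing Groth.Agent.Lib.SyzLoc Groth.Agent.Lib.T2Trans Groth.Agent.Lib.SmoothT2

/-- minimal generators of an ideal of a Noetherian local ring: every relation has coefficients in the maximal ideal. -/
theorem exists_min_gens_ideal {R : Type*} [CommRing R] [IsLocalRing R] [IsNoetherianRing R] (I : Ideal R) :
    ∃ (d : ℕ) (x : Fin d → R), Ideal.span (Set.range x) = I ∧
      ∀ c : Fin d → R, ∑ i, c i * x i = 0 → ∀ i, c i ∈ maximalIdeal R := by
  classical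
  have hex : ∃ d, ∃ x : Fin d → R, Ideal.span (Set.range x) = I := by
    obtain ⟨n, s, hs⟩ := Submodule.fg_iff_exists_fin_generating_family.1 (IsNoetherian.noetherian I)
    exact ⟨n, s, hs⟩
  obtain ⟨x, hgen⟩ := Nat.find_spec hex
  have hmin := fun m (hm : m < Nat.find hex) => Nat.find_min hex hm
  generalize hd : Nat.find hex = d at x hgen hmin
  refine ⟨d, x, hgen, ?_⟩
  intro c hc j
  by_contra hcj
  have hu : IsUnit (c j) := by
    by_contra hnu
    exact hcj ((mem_maximalIdeal _).2 hnu)
  cases d with
  | zero => exact Fin.elim0 j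
  | succ d' =>
    apply hmin d' (Nat.lt_succ_self d')
    refine ⟨x ∘ j.succAbove, ?_⟩
    set T : Ideal R := Ideal.span (Set.range (x ∘ j.succAbove)) with hT
    have hsum : ∑ i, c (j.succAbove i) * x (j.succAbove i) ∈ T := by
      apply Submodule.sum_mem
      intro i _
      exact Ideal.mul_mem_left _ _ (Ideal.subset_span ⟨i, rfl⟩)
    have hcx : c j * x j ∈ T := by
      rw [Fin.sum_univ_succAbove _ j] at hc
      have h2 : c j * x j = - ∑ i, c (j.succAbove i) * x (j.succAbove i) := eq_neg_of_add_eq_zero_left hc
      rw [h2]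
      exact T.neg_mem hsum
    have hxj : x j ∈ T := by
      have h3 : x j = ↑hu.unit⁻¹ * (c j * x j) := by
        rw [← mul_assoc, IsUnit.val_inv_mul, one_mul]
      rw [h3]
      exact Ideal.mul_mem_left _ _ hcx
    have hspan : Ideal.span (Set.range x) ≤ T := by
      rw [Ideal.span_le]
      rintro _ ⟨i, rfl⟩
      by_cases hij : i = j
      · rw [hij]; exact hxj
      · obtain ⟨i', rfl⟩ := Fin.exists_succAbove_eq hij
        exact Ideal.subset_span ⟨i', rfl⟩
    apply le_antisymm
    · rw [← hgen]
      exact Ideal.span_mono (Set.range_comp_subset_range _ _)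
    · rw [← hgen]
      exact hspan

/-- the trivial relations are spanned by the basic ones `f_j e_i - f_i e_j`. -/
theorem coe_mem_span_of_mem_triv {R : Type*} [CommRing R] {n : ℕ} (f : Fin n → R) {x : Fin n →₀ R}
    (hx : x ∈ triv f) :
    (⇑x : Fin n → R) ∈ Submodule.span R
      {v : Fin n → R | ∃ i j : Fin n, v = Pi.single i (f j) - Pi.single j (f i)} := by
  classical
  set S := Submodule.span R
    {v : Fin n → R | ∃ i j : Fin n, v = Pi.single i (f j) - Pi.single j (f i)} with hS
  let φ : (Fin n →₀ R) →ₗ[R] (Fin n → R) := (Finsupp.linearEquivFunOnFinite R R (Fin n)).toLinearMap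
  have hφ : ∀ y : Fin n →₀ R, φ y = ⇑y := fun y => rfl
  have key : ∀ a b : Fin n →₀ R,
      φ (Finsupp.linearCombination R f a • b - Finsupp.linearCombination R f b • a) ∈ S := by
    intro a b
    induction a using Finsupp.induction_linear with
    | zero => simp
    | add a₁ a₂ h₁ h₂ =>
      have e : Finsupp.linearCombination R f (a₁ + a₂) • b - Finsupp.linearCombination R f b • (a₁ + a₂) =
          (Finsupp.linearCombination R f a₁ • b - Finsupp.linearCombination R f b • a₁) +
          (Finsupp.linearCombination R f a₂ • b - Finsupp.linearCombination R f b • a₂) := by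
        rw [map_add, add_smul, smul_add]; abel
      rw [e, map_add]
      exact S.add_mem h₁ h₂
    | single i x =>
      induction b using Finsupp.induction_linear with
      | zero => simp
      | add b₁ b₂ h₁ h₂ =>
        have e : Finsupp.linearCombination R f (Finsupp.single i x) • (b₁ + b₂) -
            Finsupp.linearCombination R f (b₁ + b₂) • Finsupp.single i x =
            (Finsupp.linearCombination R f (Finsupp.single i x) • b₁ -
              Finsupp.linearCombination R f b₁ • Finsupp.single i x) +
            (Finsupp.linearCombination R f (Finsupp.single i x) • b₂ -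
              Finsupp.linearCombination R f b₂ • Finsupp.single i x) := by
          rw [map_add, add_smul, smul_add]; abel
        rw [e, map_add]
        exact S.add_mem h₁ h₂
      | single j y =>
        have e : φ (Finsupp.linearCombination R f (Finsupp.single i x) • Finsupp.single j y -
            Finsupp.linearCombination R f (Finsupp.single j y) • Finsupp.single i x) =
            (x * y) • (Pi.single j (f i) - Pi.single i (f j) : Fin n → R) := by
          funext k
          rw [hφ]
          simp only [Finsupp.linearCombination_single, smul_eq_mul, Finsupp.coe_sub, Finsupp.coe_smul,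
            Pi.sub_apply, Pi.smul_apply, Finsupp.single_apply, Pi.single_apply]
          by_cases hjk : j = k
          · subst hjk
            by_cases hik : i = j
            · subst hik
              simp only [if_true]
              ring
            · have hik' : ¬ j = i := fun h => hik h.symm
              simp only [if_true, if_neg hik, if_neg hik']
              ring
          · have hjk' : ¬ k = j := fun h => hjk h.symm
            by_cases hik : i = k
            · subst hik
              simp only [if_true, if_neg hjk, if_neg hjk']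
              ring
            · have hik' : ¬ k = i := fun h => hik h.symm
              simp only [if_neg hjk, if_neg hjk', if_neg hik, if_neg hik']
              ring
        rw [e]
        exact S.smul_mem _ (Submodule.subset_span ⟨j, i, rfl⟩)
  have hle : triv f ≤ S.comap φ := by
    refine Submodule.span_le.mpr ?_
    rintro _ ⟨a, b, rfl⟩
    exact key a b
  exact hle hx

section Main

variable {A C : Type u} [CommRing A] [CommRing C] [Algebra A C] {σ : Type u}

/-- evaluation `MvPolynomial PEmpty A → A`. -/
noncomputable def ev : MvPolynomial PEmpty.{u+1} A →+* A := MvPolynomial.eval PEmpty.elim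

theorem ev_C (a : A) : ev (MvPolynomial.C a : MvPolynomial PEmpty.{u+1} A) = a := MvPolynomial.eval_C a

/-- Nakayama: with minimal generators, `T² = 0` forces every relation to be trivial. -/
theorem ker_le_triv_of_T2 [IsLocalRing A] [IsNoetherianRing A] [Finite σ]
    (hs : Function.Surjective (algebraMap A C)) (r : σ → A)
    (hI : RingHom.ker (algebraMap A C) = Ideal.span (Set.range r))
    (hmin : ∀ a : σ →₀ A, Finsupp.linearCombination A r a = 0 → ∀ s, a s ∈ maximalIdeal A)
    (hT2 : Subsingleton (T2 (presOfSurj hs r hI) (L2 (presOfSurj hs r hI)))) :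
    LinearMap.ker (Finsupp.linearCombination A r) ≤ triv r := by
  have hfg : (LinearMap.ker (Finsupp.linearCombination A r)).FG := IsNoetherian.noetherian _
  refine Submodule.le_of_le_smul_of_le_jacobson_bot hfg (IsLocalRing.maximalIdeal_le_jacobson ⊥) ?_
  intro a ha
  rw [LinearMap.mem_ker] at ha
  let q₀ : σ →₀ MvPolynomial PEmpty.{u+1} A :=
    Finsupp.mapRange (MvPolynomial.C : A →+* MvPolynomial PEmpty.{u+1} A) (map_zero _) a
  have hq₀ : Finsupp.linearCombination (MvPolynomial PEmpty.{u+1} A)
      (fun s => (MvPolynomial.C (r s) : MvPolynomial PEmpty.{u+1} A)) q₀ = 0 := by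
    rw [lc_mapRange (MvPolynomial.C : A →+* MvPolynomial PEmpty.{u+1} A) r a, ha, map_zero]
  let q : relMod (presOfSurj hs r hI) := q₀
  have hq : q ∈ relKer (presOfSurj hs r hI) := hq₀
  let 𝔞 : Ideal (presOfSurj hs r hI).toExtension.Ring := Ideal.comap (ev (A := A)) (maximalIdeal A)
  have hc : ∀ s, q s ∈ 𝔞 := by
    intro s
    change ev (MvPolynomial.C (a s) : MvPolynomial PEmpty.{u+1} A) ∈ maximalIdeal A
    rw [ev_C]
    exact hmin a ha s
  have h1 := Groth.Agent.Lib.T2Pres.H1_of_T2 (presOfSurj hs r hI) hT2 𝔞 q hq hc
  obtain ⟨t, ht, z, hz, htz⟩ := Submodule.mem_sup.mp h1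
  have e1 : Finsupp.mapRange (ev (A := A)) (map_zero _) q₀ = a := by
    ext s
    change ev (MvPolynomial.C (a s) : MvPolynomial PEmpty.{u+1} A) = a s
    exact ev_C _
  have e2 : (fun s => ev (A := A) (rel (presOfSurj hs r hI) s)) = r := funext fun s => ev_C (r s)
  have ht' := Groth.Agent.Lib.T2Comp.mapRange_mem_triv (ev (A := A)) (rel (presOfSurj hs r hI)) ht
  have hz' := Groth.Agent.Lib.T2Comp.mapRange_mem_smul_ker (ev (A := A)) (rel (presOfSurj hs r hI)) 𝔞 hz
  rw [e2] at ht' hz'
  have e3 := Finsupp.mapRange_add (hf := map_zero (ev (A := A))) (map_add (ev (A := A)))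
    (t : σ →₀ MvPolynomial PEmpty.{u+1} A) z
  have e4 : a = Finsupp.mapRange (ev (A := A)) (map_zero _) (t : σ →₀ MvPolynomial PEmpty.{u+1} A) +
      Finsupp.mapRange (ev (A := A)) (map_zero _) (z : σ →₀ MvPolynomial PEmpty.{u+1} A) := by
    rw [← e3, ← e1]
    exact congrArg (Finsupp.mapRange (ev (A := A)) (map_zero _)) htz.symm
  rw [e4]
  exact Submodule.add_mem_sup ht' (Submodule.smul_mono_left Ideal.map_comap_le hz')

/-- `T² = 0` for the presentation by minimal generators gives `H₁`-regularity. -/
theorem isH1Regular_of_T2 [IsLocalRing A] [IsNoetherianRing A] {n : ℕ} (f : Fin n → A)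
    (hs : Function.Surjective (algebraMap A C))
    (hI : RingHom.ker (algebraMap A C) = Ideal.span (Set.range (fun j : ULift.{u} (Fin n) => f j.down)))
    (hmin : ∀ c : Fin n → A, ∑ i, c i * f i = 0 → ∀ i, c i ∈ maximalIdeal A)
    (hT2 : Subsingleton (T2 (presOfSurj hs _ hI) (L2 (presOfSurj hs _ hI)))) :
    CAlgX.IsH1Regular f := by
  classical
  intro c hc
  have hsum : ∀ a : ULift.{u} (Fin n) →₀ A,
      Finsupp.linearCombination A (fun j : ULift.{u} (Fin n) => f j.down) a = ∑ i, a ⟨i⟩ * f i := by
    intro a
    rw [Finsupp.linearCombination_apply, Finsupp.sum_fintype _ _ (by simp)]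
    exact (Equiv.ulift.{u}.sum_comp (fun i : Fin n => a ⟨i⟩ * f i))
  have hmin' : ∀ a : ULift.{u} (Fin n) →₀ A,
      Finsupp.linearCombination A (fun j : ULift.{u} (Fin n) => f j.down) a = 0 →
        ∀ s, a s ∈ maximalIdeal A := by
    intro a ha s
    rw [hsum] at ha
    exact hmin (fun i => a ⟨i⟩) ha s.down
  have hle := ker_le_triv_of_T2 hs _ hI hmin' hT2
  let a : ULift.{u} (Fin n) →₀ A := Finsupp.equivFunOnFinite.symm (fun s => c s.down)
  have ha : a ∈ LinearMap.ker (Finsupp.linearCombination A (fun j : ULift.{u} (Fin n) => f j.down)) := by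
    rw [LinearMap.mem_ker, hsum]
    exact hc
  have h1 : Finsupp.mapDomain ULift.down a ∈ triv f :=
    mapDomain_mem_triv f ULift.down (hle ha)
  have h2 := coe_mem_span_of_mem_triv f h1
  have e : (⇑(Finsupp.mapDomain ULift.down a) : Fin n → A) = c := by
    funext i
    have := Finsupp.mapDomain_apply (ULift.down_injective) a (ULift.up i)
    exact this
  rw [e] at h2
  exact h2

/-- **`T² = 0` ⇒ the kernel is generated by a regular sequence.** -/
theorem exists_isRegular_of_T2 [IsLocalRing A] [IsNoetherianRing A]
    (hs : Function.Surjective (algebraMap A C)) (hne : RingHom.ker (algebraMap A C) ≠ ⊤)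
    (hT2 : ∀ {σ : Type u} [Finite σ] (r : σ → A)
      (hI : RingHom.ker (algebraMap A C) = Ideal.span (Set.range r)),
      Subsingleton (T2 (presOfSurj hs r hI) (L2 (presOfSurj hs r hI)))) :
    ∃ rs : List A, Ideal.ofList rs = RingHom.ker (algebraMap A C) ∧ RingTheory.Sequence.IsRegular A rs := by
  obtain ⟨n, f, hgen, hmin⟩ := exists_min_gens_ideal (RingHom.ker (algebraMap A C))
  have hrange : Set.range (fun j : ULift.{u} (Fin n) => f j.down) = Set.range f :=
    ULift.down_surjective.range_comp f
  have hI : RingHom.ker (algebraMap A C) = Ideal.span (Set.range (fun j : ULift.{u} (Fin n) => f j.down)) := by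
    rw [hrange, hgen]
  have H1 := isH1Regular_of_T2 f hs hI hmin (hT2 _ hI)
  have hq := Groth.Agent.S2103.result f H1
  have hle : RingHom.ker (algebraMap A C) ≤ maximalIdeal A := le_maximalIdeal hne
  have hjac : ∀ i, f i ∈ Ring.jacobson A := by
    intro i
    rw [IsLocalRing.ringJacobson_eq_maximalIdeal]
    exact hle (hgen ▸ Ideal.subset_span ⟨i, rfl⟩)
  have hw := Groth.Agent.S5803.result A n f hjac hq
  have hof : Ideal.ofList (List.ofFn f) = RingHom.ker (algebraMap A C) := by
    rw [← hgen]
    unfold Ideal.ofList
    congr 1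
    ext y
    simp [List.mem_ofFn]
  refine ⟨List.ofFn f, hof, ⟨hw, ?_⟩⟩
  rw [smul_eq_mul, Ideal.mul_top, hof]
  exact fun h => hne h.symm

end Main

end Groth.Agent.Lib.T2CI
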