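import Mathlib
import Groth.Prelude.Def_CotT2
import Groth.Agent.Lib.T2Syz
import Groth.Agent.Lib.SmoothT2
import Groth.Agent.Lib.Ext1Pres
import Groth.Agent.S6295

/-!
# `T²(B/k, B) ≅ Ext¹(I/I², B)` for a reduced finitely presented algebra over a field
-/

set_option autoImplicit false
set_option linter.unusedVariables false
set_option linter.unusedSectionVars false
set_option linter.style.haveILetI false
universe u
open scoped TensorProduct

namespace Groth.Agent.Lib.T2Ext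

open CotT Groth.Agent.Lib.SmoothT2

variable {k B : Type u} [Field k] [CommRing B] [Algebra k B] {ι σ : Type u}
  (P : Algebra.Presentation k B ι σ)

attribute [local instance] algLoc

/-- local form of `SmoothT2.syz_of_regular`: at a prime where `B` is regular, relations with coefficients in the kernel
become trivial after multiplying by an element outside the prime. -/
theorem exists_smul_mem_trivRel [Finite ι] (𝔫 : Ideal B) [𝔫.IsPrime]
    [IsRegularLocalRing (Localization.AtPrime 𝔫)]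
    (q : relMod P) (hq : q ∈ relKer P) (hc : ∀ s, q s ∈ P.toExtension.ker) :
    ∃ s : P.toExtension.Ring, s ∉ 𝔫.comap (algebraMap P.toExtension.Ring B) ∧ s • q ∈ trivRel P := by
  classical
  haveI : IsRegularRing P.toExtension.Ring :=
    inferInstanceAs (IsRegularRing (MvPolynomial ι k))
  haveI : IsRegularLocalRing (Aloc P 𝔫) := IsRegularRing.isRegularLocalRing_localization _
  let q'' : σ →₀ MvPolynomial PEmpty.{u+1} (Aloc P 𝔫) :=
    Finsupp.mapRange (algebraMap P.toExtension.Ring (MvPolynomial PEmpty.{u+1} (Aloc P 𝔫))) (map_zero _) q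
  have hq'' : Finsupp.linearCombination (MvPolynomial PEmpty.{u+1} (Aloc P 𝔫))
      (fun s => (MvPolynomial.C (algebraMap P.toExtension.Ring (Aloc P 𝔫) (rel P s)) :
        MvPolynomial PEmpty.{u+1} (Aloc P 𝔫))) q'' = 0 := by
    have := Groth.Agent.Lib.SyzLoc.linearCombination_mapRange (R₂ := MvPolynomial PEmpty.{u+1} (Aloc P 𝔫)) (rel P) q
    have hq0 : Finsupp.linearCombination P.toExtension.Ring (rel P) q = 0 := hq
    rw [hq0, map_zero] at this
    exact this
  have hc'' : ∀ s, ∃ a : Aloc P 𝔫, q'' s = MvPolynomial.C a ∧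
      algebraMap (Aloc P 𝔫) (Localization.AtPrime 𝔫) a = 0 := by
    intro s
    refine ⟨algebraMap P.toExtension.Ring (Aloc P 𝔫) (q s), rfl, ?_⟩
    change gloc P 𝔫 (algebraMap P.toExtension.Ring (Aloc P 𝔫) (q s)) = 0
    rw [gloc, Localization.localRingHom_to_map]
    have : algebraMap P.toExtension.Ring B (q s) = 0 := hc s
    rw [this, map_zero]
  have h3 := local_syz' (gloc_surjective P 𝔫) _ (ker_gloc P 𝔫) q'' hq'' hc''
  haveI := isLocalization_mv P 𝔫
  obtain ⟨s, hs, hsq⟩ := Groth.Agent.Lib.SyzLoc.exists_smul_mem_triv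
    (R₂ := MvPolynomial PEmpty.{u+1} (Aloc P 𝔫)) (rel P)
    (𝔫.comap (algebraMap P.toExtension.Ring B)).primeCompl q h3
  exact ⟨s, hs, hsq⟩

/-- elements of `ker d₂` are killed by an element outside any prime where `B` is regular. -/
theorem exists_smul_eq_zero [Finite ι] (𝔫 : Ideal B) [𝔫.IsPrime]
    [IsRegularLocalRing (Localization.AtPrime 𝔫)] (x : L2 P) (hx : d2 P x = 0) :
    ∃ b : B, b ∉ 𝔫 ∧ b • x = 0 := by
  obtain ⟨z, rfl⟩ := Submodule.Quotient.mk_surjective _ x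
  obtain ⟨q, rfl⟩ := Groth.Agent.Lib.T2Syz.exists_one_tmul P z
  rw [d2_mk_tmul] at hx
  have hc := Groth.Agent.Lib.T2Syz.coeff_mem_of_one_tmul_eq_zero P (q : relMod P) hx
  obtain ⟨s, hs, hsq⟩ := exists_smul_mem_trivRel P 𝔫 (q : relMod P) q.2 hc
  refine ⟨algebraMap P.toExtension.Ring B s, hs, ?_⟩
  rw [← Submodule.Quotient.mk_smul, Submodule.Quotient.mk_eq_zero]
  have e : (algebraMap P.toExtension.Ring B s) • ((1 : B) ⊗ₜ[P.toExtension.Ring] q) =
      (1 : B) ⊗ₜ[P.toExtension.Ring] (s • q) := by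
    rw [TensorProduct.smul_tmul', smul_eq_mul, mul_one, TensorProduct.tmul_smul,
      TensorProduct.smul_tmul', Algebra.smul_def, mul_one]
  rw [e]
  exact ⟨(1 : B) ⊗ₜ[P.toExtension.Ring] (⟨s • q, hsq⟩ : trivRelKer P), rfl⟩

/-- localizations of a reduced ring at minimal primes are regular local rings (they are fields). -/
theorem isRegularLocalRing_of_minimal [IsReduced B] (𝔭 : Ideal B) (h𝔭 : 𝔭 ∈ minimalPrimes B) :
    haveI : 𝔭.IsPrime := h𝔭.1.1
    IsRegularLocalRing (Localization.AtPrime 𝔭) := by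
  haveI : 𝔭.IsPrime := h𝔭.1.1
  have hf : IsField (Localization.AtPrime 𝔭) := (Groth.Agent.S6295.result B).1 ⟨𝔭, inferInstance⟩ h𝔭
  letI : Field (Localization.AtPrime 𝔭) := hf.toField
  infer_instance

/-- over a reduced ring, linear forms on `L₂` vanish on `ker d₂`. -/
theorem apply_eq_zero_of_d2_eq_zero [Finite ι] [IsReduced B] (ψ : L2 P →ₗ[B] B) (x : L2 P) (hx : d2 P x = 0) :
    ψ x = 0 := by
  have hall : ∀ 𝔭 ∈ minimalPrimes B, ψ x ∈ 𝔭 := by
    intro 𝔭 h𝔭
    haveI : 𝔭.IsPrime := h𝔭.1.1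
    haveI := isRegularLocalRing_of_minimal 𝔭 h𝔭
    obtain ⟨b, hb, hbx⟩ := exists_smul_eq_zero P 𝔭 x hx
    have h1 : b * ψ x = 0 := by
      rw [← smul_eq_mul, ← map_smul, hbx, map_zero]
    have h2 : b * ψ x ∈ 𝔭 := by rw [h1]; exact 𝔭.zero_mem
    exact (Ideal.IsPrime.mem_or_mem inferInstance h2).resolve_left hb
  have h1 : ψ x ∈ sInf (minimalPrimes B) := by
    rw [Ideal.mem_sInf]
    intro p hp
    exact hall p hp
  have h2 : sInf (minimalPrimes B) = (⊥ : Ideal B).radical := Ideal.sInf_minimalPrimes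
  rw [h2] at h1
  obtain ⟨n, hn⟩ := h1
  have h3 : IsNilpotent (ψ x) := ⟨n, by simpa using hn⟩
  exact h3.eq_zero

/-- `K = ker (L₁ → I/I²)`. -/
noncomputable abbrev K : Submodule B (L1 P) := LinearMap.ker (toCot P)

/-- `L₂ → K`. -/
noncomputable def rhoK : L2 P →ₗ[B] K P :=
  (d2 P).codRestrict (K P) (fun z => LinearMap.congr_fun (toCot_comp_d2 P) z)

theorem rhoK_surjective : Function.Surjective (rhoK P) := by
  rintro ⟨y, hy⟩
  obtain ⟨z, hz⟩ := Groth.Agent.S12289.ker_toCot_le_range_d2 P hy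
  exact ⟨z, Subtype.ext hz⟩

theorem ker_rhoK : LinearMap.ker (rhoK P) = LinearMap.ker (d2 P) := by
  ext z
  rw [LinearMap.mem_ker, LinearMap.mem_ker, rhoK]
  constructor
  · intro h
    exact congrArg Subtype.val h
  · intro h
    exact Subtype.ext h

/-- `Hom(K, B) → Hom(L₂, B)`. -/
noncomputable def Γ : (K P →ₗ[B] B) →ₗ[B] (L2 P →ₗ[B] B) := LinearMap.lcomp B B (rhoK P)

theorem Γ_injective : Function.Injective (Γ P) := by
  intro a b hab
  ext y
  obtain ⟨z, rfl⟩ := rhoK_surjective P y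
  exact LinearMap.congr_fun hab z

theorem Γ_surjective [Finite ι] [IsReduced B] : Function.Surjective (Γ P) := by
  intro ψ
  have hle : LinearMap.ker (rhoK P) ≤ LinearMap.ker ψ := by
    rw [ker_rhoK]
    intro z hz
    exact apply_eq_zero_of_d2_eq_zero P ψ z hz
  let e := LinearMap.quotKerEquivOfSurjective (R := B) (M := L2 P) (M₂ := K P) (rhoK P) (rhoK_surjective P)
  refine ⟨((LinearMap.ker (rhoK P)).liftQ ψ hle) ∘ₗ e.symm.toLinearMap, ?_⟩
  refine LinearMap.ext fun z => ?_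
  change ((LinearMap.ker (rhoK P)).liftQ ψ hle) (e.symm (rhoK P z)) = ψ z
  have : e.symm (rhoK P z) = Submodule.Quotient.mk z := by
    rw [LinearEquiv.symm_apply_eq]
    rfl
  rw [this, Submodule.liftQ_apply]

/-- **`T²(P, B) ≅ Hom(K, B) / Hom(L₁, B)`** for reduced `B`. -/
theorem nonempty_T2_equiv [Finite ι] [IsReduced B] :
    Nonempty (((K P →ₗ[B] B) ⧸ LinearMap.range (LinearMap.lcomp B B (K P).subtype)) ≃ₗ[B] T2 P B) := by
  let e : (K P →ₗ[B] B) ≃ₗ[B] (L2 P →ₗ[B] B) :=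
    LinearEquiv.ofBijective (Γ P) ⟨Γ_injective P, Γ_surjective P⟩
  refine ⟨Submodule.Quotient.equiv _ _ e ?_⟩
  ext ψ
  constructor
  · rintro ⟨_, ⟨φ, rfl⟩, rfl⟩
    refine ⟨φ, ?_⟩
    refine LinearMap.ext fun z => ?_
    rfl
  · rintro ⟨φ, rfl⟩
    refine ⟨LinearMap.lcomp B B (K P).subtype φ, ⟨φ, rfl⟩, ?_⟩
    refine LinearMap.ext fun z => ?_
    rfl

/-- **`T²(P, B) ≅ Ext¹(I/I², B)`.** -/
theorem nonempty_T2_equiv_ext [Finite ι] [IsReduced B] :
    Nonempty (T2 P B ≃ₗ[B]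
      CategoryTheory.Abelian.Ext (ModuleCat.of B P.toExtension.Cotangent) (ModuleCat.of B B) 1) := by
  obtain ⟨e1⟩ := nonempty_T2_equiv P
  haveI : Module.Free B (L1 P) := Module.Free.of_basis (L1basis P)
  obtain ⟨e2⟩ := Groth.Agent.Lib.Ext1Pres.nonempty_equiv (Y := B) (toCot P) (Groth.Agent.S12289.toCot_surjective P)
  exact ⟨e1.symm.trans e2⟩

end Groth.Agent.Lib.T2Ext
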