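import Groth.Prelude.Def_SGA4c
import Mathlib.CategoryTheory.MorphismProperty.Limits
import Mathlib.CategoryTheory.Limits.Shapes.Pullback.IsPullback.Basic
import Mathlib.CategoryTheory.Limits.Types.Pullbacks
import Mathlib.CategoryTheory.Sites.LocallySurjective
import Mathlib.CategoryTheory.Sites.Subsheaf
import Mathlib.CategoryTheory.Limits.Shapes.Diagonal
import Mathlib.CategoryTheory.Limits.Shapes.Pullback.Mono

/-!
# Finiteness conditions in sheaf topoi: shared helper library

Part A: quasi-compact morphisms as a `MorphismProperty`, stable under base change and composition.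
-/

set_option autoImplicit false
universe u
open CategoryTheory CategoryTheory.Limits Opposite

namespace Groth.Agent.Lib.TFin

open _root_.ToposFin

variable {C : Type u} [SmallCategory C] {J : GrothendieckTopology C}

/-- Quasi-compactness is invariant under isomorphism. -/
lemma isQC_of_iso {X Y : Sh J} (e : X ≅ Y) (hX : IsQC X) : IsQC Y := by
  intro ι F π hπ
  have h1 : Sigma.desc (fun i => π i ≫ e.inv) = Sigma.desc π ≫ e.inv := by
    apply Sigma.hom_ext
    intro i
    simp
  have : Epi (Sigma.desc (fun i => π i ≫ e.inv)) := by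
    rw [h1]
    infer_instance
  obtain ⟨s, hs⟩ := hX ι F _ this
  refine ⟨s, ?_⟩
  have h2 : Sigma.desc (fun i : s => π i) =
      Sigma.desc (fun i : s => π i ≫ e.inv) ≫ e.hom := by
    apply Sigma.hom_ext
    intro i
    simp
  rw [h2]
  infer_instance

lemma isQC_iff_of_iso {X Y : Sh J} (e : X ≅ Y) : IsQC X ↔ IsQC Y :=
  ⟨isQC_of_iso e, isQC_of_iso e.symm⟩

/-- Quasi-compactness of a morphism can be tested on arbitrary pullback squares. -/
lemma IsQCHom.isQC_of_isPullback {X Y : Sh J} {f : X ⟶ Y} (hf : IsQCHom f)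
    {P Y' : Sh J} {p : P ⟶ X} {q : P ⟶ Y'} {g : Y' ⟶ Y} (sq : IsPullback p q f g)
    (hY' : IsQC Y') : IsQC P :=
  isQC_of_iso sq.isoPullback.symm (hf Y' g hY')

/-- The morphism property of quasi-compact morphisms. -/
def qcHom : MorphismProperty (Sh J) := fun _ _ f => IsQCHom f

lemma qcHom_iff {X Y : Sh J} (f : X ⟶ Y) : qcHom f ↔ IsQCHom f := Iff.rfl

instance : (qcHom (J := J)).IsStableUnderBaseChange where
  of_isPullback {X Y Y' S f g f' g'} sq hg := by
    intro T t hT
    have h1 := IsPullback.of_hasPullback g' t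
    exact IsQCHom.isQC_of_isPullback hg (h1.paste_horiz sq) hT

instance : (qcHom (J := J)).IsStableUnderComposition where
  comp_mem {X Y Z} f g hf hg := by
    intro T t hT
    have hR : IsQC (pullback g t) := hg T t hT
    have hQ : IsQC (pullback f (pullback.fst g t)) := hf _ _ hR
    have sq := (IsPullback.of_hasPullback f (pullback.fst g t)).paste_vert
      (IsPullback.of_hasPullback g t)
    exact isQC_of_iso sq.isoPullback hQ

instance : (qcHom (J := J)).ContainsIdentities where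
  id_mem Y := by
    intro T t hT
    have sq : IsPullback t (𝟙 T) (𝟙 Y) t := IsPullback.of_vert_isIso ⟨by simp⟩
    exact isQC_of_iso sq.isoPullback hT

instance : (qcHom (J := J)).IsMultiplicative where

lemma isQCHom_of_isIso {X Y : Sh J} (f : X ⟶ Y) [IsIso f] : IsQCHom f :=
  (qcHom (J := J)).of_isIso f

lemma isQSHom_iff {X Y : Sh J} (f : X ⟶ Y) : IsQSHom f ↔ (qcHom (J := J)).diagonal f := Iff.rfl

/-- Monomorphisms are quasi-separated. -/
lemma isQSHom_of_mono {X Y : Sh J} (f : X ⟶ Y) [Mono f] : IsQSHom f :=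
  isQCHom_of_isIso (pullback.diagonal f)

/-- If `f ≫ g` is quasi-separated, so is `f`. -/
lemma isQSHom_of_comp {X Y Z : Sh J} (f : X ⟶ Y) (g : Y ⟶ Z) (h : IsQSHom (f ≫ g)) :
    IsQSHom f := by
  have : (qcHom (J := J)).diagonal.HasOfPostcompProperty ⊤ := by
    rw [MorphismProperty.hasOfPostcompProperty_iff_le_diagonal]
    intro A B k _
    exact isQSHom_of_mono (pullback.diagonal k)
  exact (qcHom (J := J)).diagonal.of_postcomp (W' := ⊤) f g trivial h

/-- If `g` is quasi-separated and `f ≫ g` is quasi-compact, then `f` is quasi-compact. -/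
lemma isQCHom_of_comp_of_isQSHom {X Y Z : Sh J} (f : X ⟶ Y) (g : Y ⟶ Z) (hg : IsQSHom g)
    (h : IsQCHom (f ≫ g)) : IsQCHom f := by
  have : (qcHom (J := J)).HasOfPostcompProperty (qcHom (J := J)).diagonal := by
    rw [MorphismProperty.hasOfPostcompProperty_iff_le_diagonal]
  exact (qcHom (J := J)).of_postcomp (W' := (qcHom (J := J)).diagonal) f g hg h

/-! ## Part B: sections and covering families -/

section Sections

/-- Sections of a sheaf over an object of the site. -/
abbrev sec (X : Sh J) (U : C) : Type u := X.obj.obj (op U)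

/-- Restriction of sections. -/
abbrev res {X : Sh J} {U V : C} (f : V ⟶ U) (x : sec X U) : sec X V := X.obj.map f.op x

/-- Action of a morphism of sheaves on sections. -/
abbrev ap {X Y : Sh J} (φ : X ⟶ Y) {U : C} (x : sec X U) : sec Y U := φ.hom.app (op U) x

lemma ap_res {X Y : Sh J} (φ : X ⟶ Y) {U V : C} (f : V ⟶ U) (x : sec X U) :
    ap φ (res f x) = res f (ap φ x) :=
  NatTrans.naturality_apply φ.hom f.op x

lemma ap_comp {X Y Z : Sh J} (φ : X ⟶ Y) (ψ : Y ⟶ Z) {U : C} (x : sec X U) :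
    ap (φ ≫ ψ) x = ap ψ (ap φ x) := rfl

lemma ap_id {X : Sh J} {U : C} (x : sec X U) : ap (𝟙 X) x = x := rfl

lemma res_comp {X : Sh J} {U V W : C} (g : W ⟶ V) (f : V ⟶ U) (x : sec X U) :
    res (g ≫ f) x = res g (res f x) := by
  simp [res]

lemma res_id {X : Sh J} {U : C} (x : sec X U) : res (𝟙 U) x = x := by
  simp [res]

/-- Sections of a sheaf are determined locally. -/
lemma sec_ext {X : Sh J} {U : C} (x y : sec X U) (S : Sieve U) (hS : S ∈ J U)
    (h : ∀ ⦃V : C⦄ (f : V ⟶ U), S f → res f x = res f y) : x = y :=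
  (((isSheaf_iff_isSheaf_of_type _ _).1 X.property).isSeparated _ hS).ext
    (fun _ f hf => h f hf)

lemma hom_ext_sec {X Y : Sh J} {φ ψ : X ⟶ Y}
    (h : ∀ (U : C) (x : sec X U), ap φ x = ap ψ x) : φ = ψ := by
  apply Sheaf.hom_ext
  ext ⟨U⟩ x
  exact h U x

end Sections

section Cov

universe w

variable {ι : Type w} {X : Sh J} {F : ι → Sh J}

/-- The sieve of arrows along which a section lifts to some member of the family. -/
def covSieve (π : ∀ i, F i ⟶ X) {U : C} (x : sec X U) : Sieve U where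
  arrows V f := ∃ (i : ι) (y : sec (F i) V), ap (π i) y = res f x
  downward_closed := by
    rintro V W f ⟨i, y, hy⟩ g
    exact ⟨i, res g y, by rw [ap_res, hy, res_comp]⟩

lemma covSieve_res (π : ∀ i, F i ⟶ X) {U V : C} (f : V ⟶ U) (x : sec X U) :
    covSieve π (res f x) = (covSieve π x).pullback f := by
  ext W g
  simp only [covSieve, Sieve.pullback_apply, res_comp]

/-- A family of morphisms of sheaves is covering (locally jointly surjective). -/
def Cov (π : ∀ i, F i ⟶ X) : Prop :=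
  ∀ (U : C) (x : sec X U), covSieve π x ∈ J U

/-- The union of the images of a family, as a subfunctor. -/
def imgUnion (π : ∀ i, F i ⟶ X) : Subfunctor X.obj := ⨆ i, Subfunctor.range (π i).hom

lemma mem_imgUnion (π : ∀ i, F i ⟶ X) {U : C} (x : sec X U) :
    x ∈ (imgUnion π).obj (op U) ↔ ∃ (i : ι) (y : sec (F i) U), ap (π i) y = x := by
  simp [imgUnion, Subfunctor.iSup_obj, Subfunctor.range]

lemma sieveOfSection_imgUnion (π : ∀ i, F i ⟶ X) {U : C} (x : sec X U) :
    (imgUnion π).sieveOfSection (U := op U) x = covSieve π x := by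
  ext V f
  exact mem_imgUnion π (res f x)

/-- The subsheaf of sections locally in the union of the images. -/
def imgSheaf (π : ∀ i, F i ⟶ X) : Sh J :=
  ⟨((imgUnion π).sheafify J).toFunctor, by
    rw [isSheaf_iff_isSheaf_of_type]
    apply Subfunctor.sheafify_isSheaf
    rw [← isSheaf_iff_isSheaf_of_type]
    exact X.property⟩

/-- The inclusion of the image subsheaf. -/
def imgSheafι (π : ∀ i, F i ⟶ X) : imgSheaf π ⟶ X := ⟨Subfunctor.ι _⟩

/-- Each member of the family factors through the image subsheaf. -/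
def toImgSheaf (π : ∀ i, F i ⟶ X) (i : ι) : F i ⟶ imgSheaf π :=
  ⟨Subfunctor.lift (π i).hom ((le_iSup (fun i => Subfunctor.range (π i).hom) i).trans
    (Subfunctor.le_sheafify J _))⟩

lemma toImgSheaf_ι (π : ∀ i, F i ⟶ X) (i : ι) : toImgSheaf π i ≫ imgSheafι π = π i := rfl

lemma mem_imgSheaf_iff (π : ∀ i, F i ⟶ X) {U : C} (x : sec X U) :
    x ∈ ((imgUnion π).sheafify J).obj (op U) ↔ covSieve π x ∈ J U := by
  rw [← sieveOfSection_imgUnion]
  rfl

theorem epi_sigmaDesc_iff_cov [HasCoproduct F] (π : ∀ i, F i ⟶ X) :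
    Epi (Sigma.desc π) ↔ Cov π := by
  constructor
  · intro h U x
    have h1 : Sigma.desc (toImgSheaf π) ≫ imgSheafι π = Sigma.desc π := by
      apply Sigma.hom_ext
      intro i
      simp [toImgSheaf_ι]
    have h2 : Epi (imgSheafι π) := by
      have : Epi (Sigma.desc (toImgSheaf π) ≫ imgSheafι π) := by rw [h1]; exact h
      exact epi_of_epi (Sigma.desc (toImgSheaf π)) (imgSheafι π)
    have h3 : Sheaf.IsLocallySurjective (imgSheafι π) :=
      (Sheaf.isLocallySurjective_iff_epi _).2 h2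
    have h4 := Presheaf.imageSieve_mem J (imgSheafι π).hom x
    refine J.transitive h4 _ ?_
    rintro V f ⟨t, ht⟩
    rw [← covSieve_res]
    have : res f x ∈ ((imgUnion π).sheafify J).obj (op V) := by
      have h5 : res f x = t.1 := ht.symm
      rw [h5]
      exact t.2
    exact (mem_imgSheaf_iff π _).1 this
  · intro h
    constructor
    intro Z a b hab
    have hi : ∀ i, π i ≫ a = π i ≫ b := fun i => by
      have := congrArg (fun t => Sigma.ι F i ≫ t) hab
      simpa using this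
    apply hom_ext_sec
    intro U x
    apply sec_ext _ _ (covSieve π x) (h U x)
    rintro V f ⟨i, y, hy⟩
    rw [← ap_res, ← ap_res, ← hy, ← ap_comp, ← ap_comp, hi i]

end Cov

section PullbackSections

variable {P X Y Z : Sh J} {p : P ⟶ X} {q : P ⟶ Y} {f : X ⟶ Z} {g : Y ⟶ Z}

/-- The sections functor. -/
abbrev secFunctor (U : C) : Sh J ⥤ Type u :=
  sheafToPresheaf J (Type u) ⋙ (evaluation Cᵒᵖ (Type u)).obj (op U)

lemma isPullback_sec (sq : IsPullback p q f g) (U : C) :
    IsPullback ((secFunctor U).map p) ((secFunctor U).map q)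
      ((secFunctor U).map f) ((secFunctor U).map g) :=
  sq.map (secFunctor U)

lemma exists_sec_of_isPullback (sq : IsPullback p q f g) {U : C} (a : sec X U) (b : sec Y U)
    (h : ap f a = ap g b) : ∃ z : sec P U, ap p z = a ∧ ap q z = b :=
  Types.exists_of_isPullback (isPullback_sec sq U) a b h

lemma sec_ext_of_isPullback (sq : IsPullback p q f g) {U : C} (z z' : sec P U)
    (h1 : ap p z = ap p z') (h2 : ap q z = ap q z') : z = z' :=
  Types.ext_of_isPullback (isPullback_sec sq U) h1 h2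

lemma ap_eq_of_isPullback (sq : IsPullback p q f g) {U : C} (z : sec P U) :
    ap f (ap p z) = ap g (ap q z) := by
  rw [← ap_comp, ← ap_comp, sq.w]

/-- A square of sheaves is a pullback as soon as it is so on sections. -/
lemma isPullback_of_sec (comm : p ≫ f = q ≫ g)
    (inj : ∀ (U : C) (z z' : sec P U), ap p z = ap p z' → ap q z = ap q z' → z = z')
    (surj : ∀ (U : C) (a : sec X U) (b : sec Y U), ap f a = ap g b →
      ∃ z : sec P U, ap p z = a ∧ ap q z = b) :
    IsPullback p q f g := by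
  apply IsPullback.of_map (sheafToPresheaf J (Type u)) comm
  apply IsPullback.of_forall_isPullback_app
  rintro ⟨U⟩
  rw [Types.isPullback_iff]
  refine ⟨?_, fun z z' ⟨h1, h2⟩ => inj U z z' h1 h2, fun a b h => surj U a b h⟩
  ext z
  exact congrArg (fun k => ap k z) comm

section

variable (f g)

lemma pb_ext {U : C} (z z' : sec (pullback f g) U)
    (h1 : ap (pullback.fst f g) z = ap (pullback.fst f g) z')
    (h2 : ap (pullback.snd f g) z = ap (pullback.snd f g) z') : z = z' :=
  sec_ext_of_isPullback (IsPullback.of_hasPullback f g) z z' h1 h2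

lemma pb_exists {U : C} (a : sec X U) (b : sec Y U) (h : ap f a = ap g b) :
    ∃ z : sec (pullback f g) U, ap (pullback.fst f g) z = a ∧ ap (pullback.snd f g) z = b :=
  exists_sec_of_isPullback (IsPullback.of_hasPullback f g) a b h

lemma pb_condition {U : C} (z : sec (pullback f g) U) :
    ap f (ap (pullback.fst f g) z) = ap g (ap (pullback.snd f g) z) :=
  ap_eq_of_isPullback (IsPullback.of_hasPullback f g) z

end

lemma ap_lift_fst {W : Sh J} (a : W ⟶ X) (b : W ⟶ Y) (h : a ≫ f = b ≫ g) {U : C} (w : sec W U) :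
    ap (pullback.fst f g) (ap (pullback.lift a b h) w) = ap a w := by
  rw [← ap_comp, pullback.lift_fst]

lemma ap_lift_snd {W : Sh J} (a : W ⟶ X) (b : W ⟶ Y) (h : a ≫ f = b ≫ g) {U : C} (w : sec W U) :
    ap (pullback.snd f g) (ap (pullback.lift a b h) w) = ap b w := by
  rw [← ap_comp, pullback.lift_snd]

end PullbackSections

section CovOps

universe w w'

variable {ι : Type w} {X : Sh J} {F : ι → Sh J}

/-- A family through which a covering family factors is covering. -/
lemma Cov.of_factor {κ : Type w'} {G : κ → Sh J} (π : ∀ i, F i ⟶ X) (σ : ∀ k, G k ⟶ X)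
    (hσ : Cov σ) (h : ∀ k, ∃ (i : ι) (t : G k ⟶ F i), t ≫ π i = σ k) : Cov π := by
  intro U x
  refine J.superset_covering ?_ (hσ U x)
  rintro V f ⟨k, y, hy⟩
  obtain ⟨i, t, ht⟩ := h k
  exact ⟨i, ap t y, by rw [← ap_comp, ht, hy]⟩

/-- Composition of covering families. -/
lemma Cov.comp {κ : ι → Type w'} (π : ∀ i, F i ⟶ X) (hπ : Cov π)
    {G : ∀ i, κ i → Sh J} (ρ : ∀ i (k : κ i), G i k ⟶ F i) (hρ : ∀ i, Cov (ρ i)) :
    Cov (fun p : Σ i, κ i => ρ p.1 p.2 ≫ π p.1) := by
  intro U x
  refine J.transitive (hπ U x) _ ?_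
  rintro V f ⟨i, y, hy⟩
  refine J.superset_covering ?_ (hρ i V y)
  rintro W g ⟨k, z, hz⟩
  refine ⟨⟨i, k⟩, z, ?_⟩
  rw [ap_comp, hz, ap_res, hy, res_comp]

/-- Base change of covering families. -/
lemma Cov.pullback {X' : Sh J} (π : ∀ i, F i ⟶ X) (hπ : Cov π) (g : X' ⟶ X)
    {P : ι → Sh J} (p : ∀ i, P i ⟶ F i) (q : ∀ i, P i ⟶ X')
    (sq : ∀ i, IsPullback (p i) (q i) (π i) g) : Cov q := by
  intro U x'
  refine J.superset_covering ?_ (hπ U (ap g x'))
  rintro V f ⟨i, y, hy⟩
  obtain ⟨z, -, hz2⟩ := exists_sec_of_isPullback (sq i) y (res f x') (by rw [hy, ap_res])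
  exact ⟨i, z, hz2⟩

/-- Quasi-compactness in terms of covering families. -/
lemma isQC_iff_cov (X : Sh J) : IsQC X ↔ ∀ (ι : Type u) (F : ι → Sh J) (π : ∀ i, F i ⟶ X),
    Cov π → ∃ s : Finset ι, Cov (fun i : s => π i) := by
  constructor
  · intro h ι F π hπ
    obtain ⟨s, hs⟩ := h ι F π ((epi_sigmaDesc_iff_cov π).2 hπ)
    exact ⟨s, (epi_sigmaDesc_iff_cov _).1 hs⟩
  · intro h ι F π hπ
    obtain ⟨s, hs⟩ := h ι F π ((epi_sigmaDesc_iff_cov π).1 hπ)
    exact ⟨s, (epi_sigmaDesc_iff_cov _).2 hs⟩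

/-- An object covered by finitely many quasi-compact objects is quasi-compact. -/
lemma isQC_of_cov_finite {κ : Type w} [Finite κ] {X : Sh J} (F : κ → Sh J) (π : ∀ k, F k ⟶ X)
    (hπ : Cov π) (hF : ∀ k, IsQC (F k)) : IsQC X := by
  classical
  have := Fintype.ofFinite κ
  rw [isQC_iff_cov]
  intro ι G ρ hρ
  have hq : ∀ k, Cov (fun i => pullback.snd (ρ i) (π k)) := fun k =>
    Cov.pullback ρ hρ (π k) (fun i => pullback.fst (ρ i) (π k)) _
      (fun i => IsPullback.of_hasPullback (ρ i) (π k))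
  choose s hs using fun k => (isQC_iff_cov (F k)).1 (hF k) ι _ _ (hq k)
  refine ⟨Finset.univ.biUnion s, ?_⟩
  refine Cov.of_factor _ _ (Cov.comp π hπ (fun k (i : s k) => pullback.snd (ρ i) (π k)) hs) ?_
  rintro ⟨k, i⟩
  refine ⟨⟨i.1, Finset.mem_biUnion.2 ⟨k, Finset.mem_univ _, i.2⟩⟩, pullback.fst (ρ i) (π k), ?_⟩
  exact pullback.condition

end CovOps

section QCHomCov

universe w

/-- If a finite covering family of the source composes to quasi-compact morphisms, the morphism is
quasi-compact. -/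
lemma isQCHom_of_cov_finite_source {Y Z : Sh J} (g : Y ⟶ Z) {κ : Type w} [Finite κ]
    (X : κ → Sh J) (f : ∀ k, X k ⟶ Y) (hf : Cov f) (h : ∀ k, IsQCHom (f k ≫ g)) :
    IsQCHom g := by
  intro T t hT
  let m : ∀ k, pullback (f k ≫ g) t ⟶ pullback g t := fun k =>
    pullback.lift (pullback.fst _ _ ≫ f k) (pullback.snd _ _)
      (by simp [pullback.condition])
  have sq : ∀ k, IsPullback (pullback.fst (f k ≫ g) t) (m k) (f k) (pullback.fst g t) := by
    intro k
    refine IsPullback.of_bot ?_ (pullback.lift_fst _ _ _).symm (IsPullback.of_hasPullback g t)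
    have : m k ≫ pullback.snd g t = pullback.snd (f k ≫ g) t := pullback.lift_snd _ _ _
    rw [this]
    exact IsPullback.of_hasPullback (f k ≫ g) t
  exact isQC_of_cov_finite _ m (Cov.pullback f hf (pullback.fst g t) _ m sq)
    (fun k => h k T t hT)

/-- Base change of a covering family of `T` along `pullback.snd f t`. -/
lemma cov_pullback_lift_snd {X Y T : Sh J} (f : X ⟶ Y) (t : T ⟶ Y) {ι : Type w}
    {E : ι → Sh J} (e : ∀ i, E i ⟶ T) (he : Cov e) :
    Cov (fun i => (pullback.lift (pullback.fst f (e i ≫ t)) (pullback.snd f (e i ≫ t) ≫ e i)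
      (by rw [pullback.condition, Category.assoc]) : pullback f (e i ≫ t) ⟶ pullback f t)) := by
  refine Cov.pullback e he (pullback.snd f t) (fun i => pullback.snd f (e i ≫ t)) _ ?_
  intro i
  refine IsPullback.flip (IsPullback.of_right ?_ (pullback.lift_snd _ _ _)
    (IsPullback.of_hasPullback f t))
  rw [pullback.lift_fst]
  exact IsPullback.of_hasPullback f (e i ≫ t)

/-- A morphism is quasi-compact as soon as this can be checked locally on quasi-compact test
objects. -/
lemma isQCHom_of_local {X Y : Sh J} (f : X ⟶ Y)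
    (h : ∀ (T : Sh J) (t : T ⟶ Y), IsQC T → ∃ (ι : Type u) (E : ι → Sh J) (e : ∀ i, E i ⟶ T),
      Cov e ∧ ∀ i, IsQC (pullback f (e i ≫ t))) : IsQCHom f := by
  intro T t hT
  obtain ⟨ι, E, e, he, hq⟩ := h T t hT
  obtain ⟨s, hs⟩ := (isQC_iff_cov T).1 hT ι E e he
  exact isQC_of_cov_finite _ _ (cov_pullback_lift_snd f t (fun i : s => e i) hs)
    (fun i => hq i)

end QCHomCov

section LocalTarget

/-- Refinement of a covering family by quasi-compact objects. -/
lemma exists_qc_refinement (hE : HasQCGenerators J) {T : Sh J} {ι : Type u} {E : ι → Sh J}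
    (e : ∀ i, E i ⟶ T) (he : Cov e) :
    ∃ (κ : Type u) (i : κ → ι) (Q : κ → Sh J) (r : ∀ k, Q k ⟶ E (i k)),
      (∀ k, IsQC (Q k)) ∧ Cov (fun k => r k ≫ e (i k)) := by
  choose ι' F π hF hπ using fun i => hE (E i)
  refine ⟨Σ i, ι' i, Sigma.fst, fun k => F k.1 k.2, fun k => π k.1 k.2,
    fun k => hF k.1 k.2, ?_⟩
  exact Cov.comp e he π (fun i => (epi_sigmaDesc_iff_cov _).1 (hπ i))

lemma isPullback_lift_snd {X Y T E : Sh J} (f : X ⟶ Y) (t : T ⟶ Y) (e : E ⟶ T) :
    IsPullback (pullback.lift (pullback.fst f (e ≫ t)) (pullback.snd f (e ≫ t) ≫ e)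
      (by rw [pullback.condition, Category.assoc])) (pullback.snd f (e ≫ t))
      (pullback.snd f t) e := by
  refine IsPullback.of_right ?_ (pullback.lift_snd _ _ _) (IsPullback.of_hasPullback f t)
  rw [pullback.lift_fst]
  exact IsPullback.of_hasPullback f (e ≫ t)

/-- Quasi-compactness of a morphism is local on the target. -/
theorem isQCHom_of_cover_target (hE : HasQCGenerators J) {X Y : Sh J} (f : X ⟶ Y)
    {ι : Type u} (Yi : ι → Sh J) (g : ∀ i, Yi i ⟶ Y) (hg : Cov g)
    (h : ∀ i, IsQCHom (pullback.snd f (g i))) : IsQCHom f := by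
  apply isQCHom_of_local
  intro T t hT
  have hcov : Cov (fun i => pullback.snd (g i) t) :=
    Cov.pullback g hg t (fun i => pullback.fst (g i) t) _
      (fun i => IsPullback.of_hasPullback (g i) t)
  obtain ⟨κ, i, Q, r, hQ, hr⟩ := exists_qc_refinement hE _ hcov
  refine ⟨κ, Q, _, hr, fun k => ?_⟩
  have e1 : (r k ≫ pullback.snd (g (i k)) t) ≫ t =
      (r k ≫ pullback.fst (g (i k)) t) ≫ g (i k) := by
    rw [Category.assoc, Category.assoc, pullback.condition]
  refine isQC_of_iso (pullback.congrHom rfl e1.symm) ?_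
  exact IsQCHom.isQC_of_isPullback (h (i k))
    (isPullback_lift_snd f (g (i k)) (r k ≫ pullback.fst _ _)) (hQ k)

lemma ap_diagonal_fst {X Y : Sh J} (f : X ⟶ Y) {U : C} (x : sec X U) :
    ap (pullback.fst f f) (ap (pullback.diagonal f) x) = x := by
  rw [← ap_comp, pullback.diagonal_fst, ap_id]

lemma ap_diagonal_snd {X Y : Sh J} (f : X ⟶ Y) {U : C} (x : sec X U) :
    ap (pullback.snd f f) (ap (pullback.diagonal f) x) = x := by
  rw [← ap_comp, pullback.diagonal_snd, ap_id]

/-- The diagonal of a base change is the base change of the diagonal. -/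
lemma isPullback_diagonal_baseChange {X Y Y' : Sh J} (f : X ⟶ Y) (g : Y' ⟶ Y) :
    IsPullback (pullback.fst f g) (pullback.diagonal (pullback.snd f g)) (pullback.diagonal f)
      (pullback.map (pullback.snd f g) (pullback.snd f g) f f (pullback.fst f g)
        (pullback.fst f g) g pullback.condition.symm pullback.condition.symm) := by
  apply isPullback_of_sec
  · apply pullback.hom_ext
    · rw [Category.assoc, pullback.diagonal_fst, Category.comp_id, Category.assoc,
        pullback.map, pullback.lift_fst, ← Category.assoc, pullback.diagonal_fst,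
        Category.id_comp]
    · rw [Category.assoc, pullback.diagonal_snd, Category.comp_id, Category.assoc,
        pullback.map, pullback.lift_snd, ← Category.assoc, pullback.diagonal_snd,
        Category.id_comp]
  · intro U z z' _ h2
    have := congrArg (ap (pullback.fst (pullback.snd f g) (pullback.snd f g))) h2
    rwa [ap_diagonal_fst, ap_diagonal_fst] at this
  · intro U a b h
    have h1 := congrArg (ap (pullback.fst f f)) h
    have h2 := congrArg (ap (pullback.snd f f)) h
    rw [ap_diagonal_fst, ← ap_comp, pullback.lift_fst, ap_comp] at h1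
    rw [ap_diagonal_snd, ← ap_comp, pullback.lift_snd, ap_comp] at h2
    have hb : ap (pullback.fst _ _) b = ap (pullback.snd _ _) b := by
      apply pb_ext f g
      · rw [← h1, ← h2]
      · exact pb_condition _ _ b
    refine ⟨ap (pullback.fst _ _) b, h1.symm, ?_⟩
    apply pb_ext
    · rw [ap_diagonal_fst]
    · rw [ap_diagonal_snd, hb]

lemma pb_map_fst {W X Y Z S T : Sh J} (f₁ : W ⟶ S) (f₂ : X ⟶ S) (g₁ : Y ⟶ T) (g₂ : Z ⟶ T)
    (i₁ : W ⟶ Y) (i₂ : X ⟶ Z) (i₃ : S ⟶ T) (e₁ : f₁ ≫ i₃ = i₁ ≫ g₁) (e₂ : f₂ ≫ i₃ = i₂ ≫ g₂) :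
    pullback.map f₁ f₂ g₁ g₂ i₁ i₂ i₃ e₁ e₂ ≫ pullback.fst g₁ g₂ = pullback.fst f₁ f₂ ≫ i₁ :=
  pullback.lift_fst _ _ _

lemma pb_map_snd {W X Y Z S T : Sh J} (f₁ : W ⟶ S) (f₂ : X ⟶ S) (g₁ : Y ⟶ T) (g₂ : Z ⟶ T)
    (i₁ : W ⟶ Y) (i₂ : X ⟶ Z) (i₃ : S ⟶ T) (e₁ : f₁ ≫ i₃ = i₁ ≫ g₁) (e₂ : f₂ ≫ i₃ = i₂ ≫ g₂) :
    pullback.map f₁ f₂ g₁ g₂ i₁ i₂ i₃ e₁ e₂ ≫ pullback.snd g₁ g₂ = pullback.snd f₁ f₂ ≫ i₂ :=
  pullback.lift_snd _ _ _

lemma cov_diagonal_baseChange {X Y : Sh J} (f : X ⟶ Y) {ι : Type u} (Yi : ι → Sh J)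
    (g : ∀ i, Yi i ⟶ Y) (hg : Cov g) :
    Cov (fun i => pullback.map (pullback.snd f (g i)) (pullback.snd f (g i)) f f
      (pullback.fst f (g i)) (pullback.fst f (g i)) (g i)
      pullback.condition.symm pullback.condition.symm) := by
  intro U w
  have hw := pb_condition f f w
  refine J.superset_covering ?_ (hg U (ap f (ap (pullback.fst f f) w)))
  rintro V h ⟨i, y, hy⟩
  obtain ⟨x1, hx1a, hx1b⟩ := pb_exists f (g i) (res h (ap (pullback.fst f f) w)) y
    (by rw [ap_res, hy])
  obtain ⟨x2, hx2a, hx2b⟩ := pb_exists f (g i) (res h (ap (pullback.snd f f) w)) y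
    (by rw [ap_res, ← hw, hy])
  obtain ⟨v, hv1, hv2⟩ := pb_exists (pullback.snd f (g i)) (pullback.snd f (g i)) x1 x2
    (by rw [hx1b, hx2b])
  refine ⟨i, v, ?_⟩
  apply pb_ext f f
  · rw [← ap_comp, pb_map_fst, ap_comp, hv1, hx1a, ap_res]
  · rw [← ap_comp, pb_map_snd, ap_comp, hv2, hx2a, ap_res]

/-- Quasi-separatedness of a morphism is local on the target. -/
theorem isQSHom_of_cover_target (hE : HasQCGenerators J) {X Y : Sh J} (f : X ⟶ Y)
    {ι : Type u} (Yi : ι → Sh J) (g : ∀ i, Yi i ⟶ Y) (hg : Cov g)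
    (h : ∀ i, IsQSHom (pullback.snd f (g i))) : IsQSHom f := by
  refine isQCHom_of_cover_target hE (pullback.diagonal f) _ _
    (cov_diagonal_baseChange f Yi g hg) (fun i => ?_)
  have sq := isPullback_diagonal_baseChange f (g i)
  rw [← sq.isoPullback_inv_snd]
  exact ((qcHom (J := J)).cancel_left_of_respectsIso _ _).2 (h i)

end LocalTarget

section QS

/-- An object is quasi-separated iff every morphism to it from a quasi-compact object is
quasi-compact. -/
lemma isQS_iff (X : Sh J) : IsQS X ↔ ∀ (Y : Sh J) (a : Y ⟶ X), IsQC Y → IsQCHom a :=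
  ⟨fun h Y a hY Z b hZ => h Y Z a b hY hZ, fun h Y Z a b hY hZ => h Y a hY Z b hZ⟩

/-- The source of a quasi-separated morphism to a quasi-separated object is quasi-separated. -/
lemma isQS_of_isQSHom {X Y : Sh J} (f : X ⟶ Y) (hf : IsQSHom f) (hY : IsQS Y) : IsQS X := by
  rw [isQS_iff] at hY ⊢
  intro A a hA
  exact isQCHom_of_comp_of_isQSHom a f hf (hY A (a ≫ f) hA)

/-- A subobject of a quasi-separated object is quasi-separated. -/
lemma isQS_of_mono {X Y : Sh J} (i : X ⟶ Y) [Mono i] (hY : IsQS Y) : IsQS X :=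
  isQS_of_isQSHom i (isQSHom_of_mono i) hY

/-- If `Y` is covered by coherent objects through quasi-compact morphisms, `Y` is
quasi-separated. -/
lemma isQS_of_cov_isQCHom {Y : Sh J} {ι : Type u} (Yi : ι → Sh J) (g : ∀ i, Yi i ⟶ Y)
    (hg : Cov g) (hY : ∀ i, IsCoherent (Yi i)) (h : ∀ i, IsQCHom (g i)) : IsQS Y := by
  rw [isQS_iff]
  intro A t hA
  have sq : ∀ i, IsPullback (pullback.snd t (g i)) (pullback.fst t (g i)) (g i) t :=
    fun i => (IsPullback.of_hasPullback t (g i)).flip
  have hcov : Cov (fun i => pullback.fst t (g i)) := Cov.pullback g hg t _ _ sq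
  have hAi : ∀ i, IsQC (pullback t (g i)) := fun i => IsQCHom.isQC_of_isPullback (h i) (sq i) hA
  obtain ⟨s, hs⟩ := (isQC_iff_cov A).1 hA ι _ _ hcov
  refine isQCHom_of_cov_finite_source t _ _ hs (fun i => ?_)
  rw [pullback.condition]
  exact (qcHom (J := J)).comp_mem _ _ ((isQS_iff (Yi i)).1 (hY i).2 _ _ (hAi i)) (h i)

/-- If `Y` is covered by quasi-separated objects through quasi-compact morphisms, `Y` is
quasi-separated. -/
lemma isQS_of_cov_isQS_isQCHom {Y : Sh J} {ι : Type u} (Yi : ι → Sh J) (g : ∀ i, Yi i ⟶ Y)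
    (hg : Cov g) (hY : ∀ i, IsQS (Yi i)) (h : ∀ i, IsQCHom (g i)) : IsQS Y := by
  rw [isQS_iff]
  intro A t hA
  have sq : ∀ i, IsPullback (pullback.snd t (g i)) (pullback.fst t (g i)) (g i) t :=
    fun i => (IsPullback.of_hasPullback t (g i)).flip
  have hcov : Cov (fun i => pullback.fst t (g i)) := Cov.pullback g hg t _ _ sq
  have hAi : ∀ i, IsQC (pullback t (g i)) := fun i => IsQCHom.isQC_of_isPullback (h i) (sq i) hA
  obtain ⟨s, hs⟩ := (isQC_iff_cov A).1 hA ι _ _ hcov
  refine isQCHom_of_cov_finite_source t _ _ hs (fun i => ?_)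
  rw [pullback.condition]
  exact (qcHom (J := J)).comp_mem _ _ ((isQS_iff (Yi i)).1 (hY i) _ _ (hAi i)) (h i)

/-- The fibre products of members of a covering family of `X` cover `X ×_Y X`. -/
lemma cov_pullback_map_of_cov {X Y : Sh J} (f : X ⟶ Y) {ι : Type u} (Xi : ι → Sh J)
    (g : ∀ i, Xi i ⟶ X) (hg : Cov g) :
    Cov (fun p : ι × ι => pullback.map (g p.1 ≫ f) (g p.2 ≫ f) f f (g p.1) (g p.2) (𝟙 Y)
      (Category.comp_id _) (Category.comp_id _)) := by
  intro U w
  have hw := pb_condition f f w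
  refine J.superset_covering ?_ (J.intersection_covering (hg U (ap (pullback.fst f f) w))
    (hg U (ap (pullback.snd f f) w)))
  rintro V h ⟨⟨i, x1, h1⟩, ⟨j, x2, h2⟩⟩
  obtain ⟨v, hv1, hv2⟩ := pb_exists (g i ≫ f) (g j ≫ f) x1 x2
    (by rw [ap_comp, ap_comp, h1, h2, ap_res, ap_res, hw])
  refine ⟨(i, j), v, ?_⟩
  apply pb_ext f f
  · rw [← ap_comp, pb_map_fst, ap_comp, hv1, h1, ap_res]
  · rw [← ap_comp, pb_map_snd, ap_comp, hv2, h2, ap_res]

/-- A criterion for a morphism with quasi-separated source to be quasi-separated. -/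
theorem isQSHom_of_cover_with_qs_products (hE : HasQCGenerators J) {X Y : Sh J} (f : X ⟶ Y)
    {ι : Type u} (Xi : ι → Sh J) (g : ∀ i, Xi i ⟶ X) (hg : Cov g) (hqc : ∀ i, IsQC (Xi i))
    (hqs : ∀ i j, IsQS (pullback (g i ≫ f) (g j ≫ f))) (hX : IsQS X) : IsQSHom f := by
  refine isQCHom_of_cover_target hE (pullback.diagonal f) _ _
    (cov_pullback_map_of_cov f Xi g hg) (fun p => ?_)
  refine (isQS_iff _).1 (hqs p.1 p.2) _ _ ?_
  exact isQC_of_iso (pullbackDiagonalMapIdIso (g p.1) (g p.2) f).symm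
    (hX _ _ (g p.1) (g p.2) (hqc p.1) (hqc p.2))

/-- Quasi-separatedness can be checked on a covering of the source by quasi-compact morphisms. -/
theorem isQSHom_of_cover_source (hE : HasQCGenerators J) {Y Z : Sh J} (g : Y ⟶ Z)
    {ι : Type u} (X : ι → Sh J) (f : ∀ i, X i ⟶ Y) (hf : Cov f)
    (hqc : ∀ i, IsQCHom (f i)) (hqs : ∀ i, IsQSHom (f i ≫ g)) : IsQSHom g := by
  refine isQCHom_of_cover_target hE (pullback.diagonal g) _ _
    (cov_pullback_map_of_cov g X f hf) (fun p => ?_)
  refine isQCHom_of_comp_of_isQSHom _ (pullback.fst (f p.1 ≫ g) (f p.2 ≫ g)) ?_ ?_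
  · exact (qcHom (J := J)).diagonal.pullback_fst _ _ (hqs p.2)
  · rw [← pullbackDiagonalMapIdIso_hom_fst]
    exact (qcHom (J := J)).comp_mem _ _ (isQCHom_of_isIso _)
      ((qcHom (J := J)).pullback_fst _ _ (hqc p.2))

/-- Reindexing a covering family along a surjection. -/
lemma Cov.reindex {ι κ : Type*} {X : Sh J} {F : ι → Sh J} (π : ∀ i, F i ⟶ X) (hπ : Cov π)
    (e : κ → ι) (he : Function.Surjective e) : Cov (fun k => π (e k)) := by
  refine Cov.of_factor _ π hπ (fun i => ?_)
  obtain ⟨k, rfl⟩ := he i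
  exact ⟨k, 𝟙 _, Category.id_comp _⟩

end QS

end Groth.Agent.Lib.TFin
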