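import Groth.Agent.Lib.TFin
import Mathlib.CategoryTheory.Sites.Limits
import Mathlib.CategoryTheory.Sites.LocallyInjective
import Mathlib.CategoryTheory.Sites.LocallyBijective
import Mathlib.CategoryTheory.Sites.LeftExact
import Mathlib.CategoryTheory.Limits.Shapes.Products
import Mathlib.CategoryTheory.Limits.Shapes.Terminal

set_option autoImplicit false
open CategoryTheory CategoryTheory.Limits Opposite
universe u
open ToposFin

namespace Groth.Agent.Lib.TFinCoprod
open Groth.Agent.Lib.TFin

variable {C : Type u} [SmallCategory C] {J : GrothendieckTopology C}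

section Model
variable {ι : Type u} (X : ι → Sh J)

/-- The coproduct presheaf. -/
def sigmaPresheaf : Cᵒᵖ ⥤ Type u where
  obj U := Σ i, (X i).obj.obj U
  map f := TypeCat.ofHom (fun p => ⟨p.1, (X p.1).obj.map f p.2⟩)
  map_id U := by
    refine ConcreteCategory.hom_ext _ _ (fun ⟨i, x⟩ => ?_)
    show (⟨i, (X i).obj.map (𝟙 U) x⟩ : Σ i, (X i).obj.obj U) = ⟨i, x⟩
    rw [CategoryTheory.Functor.map_id]; rfl
  map_comp f g := by
    refine ConcreteCategory.hom_ext _ _ (fun ⟨i, x⟩ => ?_)
    show (⟨i, (X i).obj.map (f ≫ g) x⟩ : Σ i, (X i).obj.obj _) = ⟨i, (X i).obj.map g ((X i).obj.map f x)⟩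
    rw [CategoryTheory.Functor.map_comp]; rfl

lemma sigmaPresheaf_map {U V : Cᵒᵖ} (f : U ⟶ V) (i : ι) (x : (X i).obj.obj U) :
    (sigmaPresheaf X).map f ⟨i, x⟩ = ⟨i, (X i).obj.map f x⟩ := rfl

/-- The injections into the coproduct presheaf. -/
def sigmaPresheafι (i : ι) : (X i).obj ⟶ sigmaPresheaf X where
  app U := TypeCat.ofHom (fun x => ⟨i, x⟩)
  naturality U V f := by
    ext x
    rfl

/-- The cocone of presheaves. -/
def sigmaCocone : Cocone (Discrete.functor X ⋙ sheafToPresheaf J (Type u)) where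
  pt := sigmaPresheaf X
  ι := Discrete.natTrans (fun i => sigmaPresheafι X i.as)

/-- It is a colimit. -/
def sigmaCoconeIsColimit : IsColimit (sigmaCocone X) where
  desc s := 
    { app := fun U => TypeCat.ofHom (fun p => (s.ι.app ⟨p.1⟩).app U p.2)
      naturality := by
        intro U V f
        refine ConcreteCategory.hom_ext _ _ (fun ⟨i, x⟩ => ?_)
        exact NatTrans.naturality_apply (s.ι.app ⟨i⟩) f x }
  fac s j := by
    ext U x
    rfl
  uniq s m hm := by
    ext U : 2
    refine ConcreteCategory.hom_ext _ _ (fun ⟨i, x⟩ => ?_)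
    have := congrArg (fun t => (t.app U) x) (hm ⟨i⟩)
    exact this

variable {X}
variable (c : Cofan X) (hc : IsColimit c)

/-- Comparison with the explicit model. -/
noncomputable def modelIso : (Sheaf.sheafifyCocone (sigmaCocone X)).pt ≅ c.pt :=
  (Sheaf.isColimitSheafifyCocone _ (sigmaCoconeIsColimit X)).coconePointUniqueUpToIso hc

lemma modelIso_inj (i : ι) :
    (Sheaf.sheafifyCocone (sigmaCocone X)).ι.app ⟨i⟩ ≫ (modelIso c hc).hom = c.inj i :=
  IsColimit.comp_coconePointUniqueUpToIso_hom _ _ _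

lemma ap_inj_eq {V : C} (i : ι) (y : sec (X i) V) :
    ap (c.inj i) y = ap (modelIso c hc).hom
      ((toSheafify J (sigmaPresheaf X)).app (op V) (⟨i, y⟩ : Σ i, (X i).obj.obj (op V))) := by
  rw [← modelIso_inj c hc i, ap_comp]
  congr 1
  have := Sheaf.sheafifyCocone_ι_app_val (sigmaCocone X) (⟨i⟩ : Discrete ι)
  exact congrArg (fun t => t.app (op V) y) this

include hc

lemma toSheafify_eq_of_ap_inj_eq {V : C} {i j : ι} (y : sec (X i) V) (y' : sec (X j) V)
    (h : ap (c.inj i) y = ap (c.inj j) y') :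
    (toSheafify J (sigmaPresheaf X)).app (op V) (⟨i, y⟩ : Σ i, (X i).obj.obj (op V)) =
      (toSheafify J (sigmaPresheaf X)).app (op V) (⟨j, y'⟩ : Σ i, (X i).obj.obj (op V)) := by
  rw [ap_inj_eq c hc, ap_inj_eq c hc] at h
  have h2 := congrArg (fun t => ap (modelIso c hc).inv t) h
  simp only [← ap_comp, Iso.hom_inv_id, ap_id] at h2
  exact h2

/-- Distinct coproduct injections are disjoint. -/
lemma bot_mem_of_ap_inj_eq {V : C} {i j : ι} (hij : i ≠ j) (y : sec (X i) V) (y' : sec (X j) V)
    (h : ap (c.inj i) y = ap (c.inj j) y') : (⊥ : Sieve V) ∈ J V := by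
  have h1 := toSheafify_eq_of_ap_inj_eq c hc y y' h
  have h2 := Presheaf.equalizerSieve_mem J (toSheafify J (sigmaPresheaf X)) (X := op V) _ _ h1
  refine J.superset_covering ?_ h2
  intro W g hg
  exfalso
  have h3 : (sigmaPresheaf X).map g.op ⟨i, y⟩ = (sigmaPresheaf X).map g.op ⟨j, y'⟩ := hg
  rw [sigmaPresheaf_map, sigmaPresheaf_map] at h3
  exact hij (congrArg Sigma.fst h3)

/-- Coproduct injections are injective on sections. -/
lemma ap_inj_injective {V : C} (i : ι) (y y' : sec (X i) V)
    (h : ap (c.inj i) y = ap (c.inj i) y') : y = y' := by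
  have h1 := toSheafify_eq_of_ap_inj_eq c hc y y' h
  have h2 := Presheaf.equalizerSieve_mem J (toSheafify J (sigmaPresheaf X)) (X := op V) _ _ h1
  refine sec_ext _ _ _ h2 ?_
  intro W g hg
  have h3 : (sigmaPresheaf X).map g.op ⟨i, y⟩ = (sigmaPresheaf X).map g.op ⟨i, y'⟩ := hg
  rw [sigmaPresheaf_map, sigmaPresheaf_map] at h3
  exact eq_of_heq (Sigma.mk.inj h3).2

/-- Coproduct injections of sheaves are monomorphisms. -/
lemma mono_inj (i : ι) : Mono (c.inj i) := by
  constructor
  intro Z a b hab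
  apply hom_ext_sec
  intro U z
  apply ap_inj_injective c hc i
  rw [← ap_comp, ← ap_comp, hab]

end Model

section General

universe w

variable {ι : Type w} {X : ι → Sh J}

/-- The injections of a coproduct form a covering family. -/
lemma cov_inj (c : Cofan X) (hc : IsColimit c) : Cov c.inj := by
  have : HasCoproduct X := ⟨⟨⟨c, hc⟩⟩⟩
  refine (epi_sigmaDesc_iff_cov c.inj).1 ?_
  constructor
  intro Z a b hab
  refine Cofan.IsColimit.hom_ext hc _ _ (fun i => ?_)
  have := congrArg (fun t => Sigma.ι X i ≫ t) hab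
  simpa using this

/-- A criterion for a sieve of liftable arrows to be covering, checked locally. -/
lemma covSieve_mem_of_locally {Y : Sh J} (π : ∀ i, X i ⟶ Y) {U : C} (x : sec Y U)
    (S : Sieve U) (hS : S ∈ J U)
    (h : ∀ (V : C) (g : V ⟶ U), S g → covSieve π (res g x) ∈ J V) : covSieve π x ∈ J U := by
  refine J.transitive hS _ (fun V g hg => ?_)
  rw [← covSieve_res]
  exact h V g hg

lemma covSieve_mem_of_locally' {Y : Sh J} (π : ∀ i, X i ⟶ Y) {U : C} (x : sec Y U)
    (S : Sieve U) (hS : S ∈ J U)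
    (h : ∀ (V : C) (g : V ⟶ U), S g → covSieve π x g ∨ (⊥ : Sieve V) ∈ J V) :
    covSieve π x ∈ J U := by
  refine covSieve_mem_of_locally π x S hS (fun V g hg => ?_)
  rcases h V g hg with h1 | h1
  · rw [covSieve_res, Sieve.pullback_eq_top_of_mem _ h1]
    exact J.top_mem V
  · exact J.superset_covering bot_le h1

lemma bot_mem_of_locally {U : C} (S : Sieve U) (hS : S ∈ J U)
    (h : ∀ (V : C) (g : V ⟶ U), S g → (⊥ : Sieve V) ∈ J V) : (⊥ : Sieve U) ∈ J U := by
  refine J.transitive hS _ (fun V g hg => ?_)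
  have : (⊥ : Sieve U).pullback g = ⊥ := by
    ext W k
    simp
  rw [this]
  exact h V g hg

end General


section Initial

/-- The empty cofan on the initial sheaf. -/
noncomputable def emptyCofan : Cofan (fun i : PEmpty.{1} => (i.elim : Sh J)) :=
  Cofan.mk (⊥_ (Sh J)) (fun i => i.elim)

noncomputable def emptyCofanIsColimit : IsColimit (emptyCofan (J := J)) :=
  Cofan.IsColimit.mk _ (fun _ => initial.to _) (fun _ j => j.elim)
    (fun _ _ _ => initialIsInitial.hom_ext _ _)

/-- Sections of the initial sheaf only exist over objects covered by the empty sieve. -/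
lemma bot_mem_of_sec_initial {V : C} (z : sec (⊥_ (Sh J)) V) : (⊥ : Sieve V) ∈ J V := by
  have h := cov_inj (emptyCofan (J := J)) emptyCofanIsColimit V z
  refine J.superset_covering ?_ h
  rintro W g ⟨i, -⟩
  exact i.elim

lemma bot_mem_of_sec_of_iso_initial {Z : Sh J} (e : Z ≅ ⊥_ (Sh J)) {V : C} (z : sec Z V) :
    (⊥ : Sieve V) ∈ J V :=
  bot_mem_of_sec_initial (ap e.hom z)

lemma subsingleton_sec_of_bot_mem (W : Sh J) {V : C} (h : (⊥ : Sieve V) ∈ J V) :
    Subsingleton (sec W V) :=
  ⟨fun x y => sec_ext x y ⊥ h (fun _ _ hg => hg.elim)⟩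

lemma nonempty_sec_of_bot_mem (W : Sh J) {V : C} (h : (⊥ : Sieve V) ∈ J V) :
    Nonempty (sec W V) := by
  have := Types.isTerminalEquivUnique _ (Sheaf.isTerminalOfBotCover W V h)
  exact ⟨this.default⟩

/-- A sheaf all of whose sections live over objects covered by the empty sieve is initial. -/
noncomputable def isInitialOfForallSec (Z : Sh J)
    (h : ∀ (V : C), sec Z V → (⊥ : Sieve V) ∈ J V) : IsInitial Z := by
  refine IsInitial.ofUniqueHom (fun W => ⟨{
    app := fun U => TypeCat.ofHom (fun z => (nonempty_sec_of_bot_mem W (h U.unop z)).some)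
    naturality := ?_ }⟩) ?_
  · intro U V f
    refine ConcreteCategory.hom_ext _ _ (fun z => ?_)
    have := subsingleton_sec_of_bot_mem W (h V.unop (Z.obj.map f z))
    exact Subsingleton.elim _ _
  · intro W m
    apply hom_ext_sec
    intro U z
    have := subsingleton_sec_of_bot_mem W (h U z)
    exact Subsingleton.elim _ _

lemma nonempty_iso_initial_of_forall_sec (Z : Sh J)
    (h : ∀ (V : C), sec Z V → (⊥ : Sieve V) ∈ J V) : Nonempty (Z ≅ ⊥_ (Sh J)) :=
  ⟨(isInitialOfForallSec Z h).uniqueUpToIso initialIsInitial⟩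

end Initial
section QC

variable {ι : Type u} {X : ι → Sh J} (c : Cofan X) (hc : IsColimit c)

include hc

/-- Coproduct injections are quasi-compact morphisms. -/
theorem isQCHom_inj (i : ι) : IsQCHom (c.inj i) := by
  classical
  intro T t hT
  rw [isQC_iff_cov]
  intro κ G ρ hρ
  -- the covering family of `T` made of the `G k` and the other summands
  let F' : κ ⊕ {j : ι // j ≠ i} → Sh J := Sum.elim G (fun j => pullback (c.inj j.1) t)
  let σ : ∀ m, F' m ⟶ T := fun m =>
    match m with
    | Sum.inl k => ρ k ≫ pullback.snd (c.inj i) t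
    | Sum.inr j => pullback.snd (c.inj j.1) t
  have hp : Cov (fun j => pullback.snd (c.inj j) t) :=
    Cov.pullback c.inj (cov_inj c hc) t (fun j => pullback.fst (c.inj j) t) _
      (fun j => IsPullback.of_hasPullback (c.inj j) t)
  have hσ : Cov σ := by
    intro U x
    refine covSieve_mem_of_locally σ x _ (hp U x) ?_
    rintro V g ⟨j, z, hz⟩
    by_cases hj : j = i
    · subst hj
      refine J.superset_covering ?_ (hρ V z)
      rintro W h ⟨k, w, hw⟩
      refine ⟨Sum.inl k, w, ?_⟩
      show ap (ρ k ≫ pullback.snd (c.inj j) t) w = _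
      rw [ap_comp, hw, ap_res, hz]
    · have : covSieve σ (res g x) (𝟙 V) := by
        refine ⟨Sum.inr ⟨j, hj⟩, z, ?_⟩
        show ap (pullback.snd (c.inj j) t) z = _
        rw [hz, res_id]
      rw [(Sieve.id_mem_iff_eq_top).1 this]
      exact J.top_mem V
  obtain ⟨s, hs⟩ := (isQC_iff_cov T).1 hT _ F' σ hσ
  refine ⟨s.toLeft, ?_⟩
  intro U z
  refine covSieve_mem_of_locally' _ z _ (hs U (ap (pullback.snd (c.inj i) t) z)) ?_
  rintro V g ⟨⟨m, hm⟩, w, hw⟩
  rcases m with k | j
  · left
    refine ⟨⟨k, Finset.mem_toLeft.2 hm⟩, w, ?_⟩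
    have hw' : ap (pullback.snd (c.inj i) t) (ap (ρ k) w) =
        ap (pullback.snd (c.inj i) t) (res g z) := by
      rw [← ap_comp, ap_res]; exact hw
    apply pb_ext (c.inj i) t _ _ ?_ hw'
    apply ap_inj_injective c hc i
    rw [pb_condition, pb_condition, hw']
  · right
    have hw' : ap (pullback.snd (c.inj j.1) t) w = ap (pullback.snd (c.inj i) t) (res g z) := by
      rw [ap_res]; exact hw
    refine bot_mem_of_ap_inj_eq c hc j.2 (ap (pullback.fst (c.inj j.1) t) w)
      (ap (pullback.fst (c.inj i) t) (res g z)) ?_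
    rw [pb_condition, pb_condition, hw']

/-- A summand of a quasi-compact coproduct is quasi-compact. -/
theorem isQC_of_isQC_cofan_pt (h : IsQC c.pt) (i : ι) : IsQC (X i) := by
  have h1 := isQCHom_inj c hc i c.pt (𝟙 _) h
  have e : pullback (c.inj i) (𝟙 c.pt) ≅ X i := asIso (pullback.fst (c.inj i) (𝟙 c.pt))
  exact isQC_of_iso e h1

/-- A quasi-compact coproduct has only finitely many non-initial summands. -/
theorem finite_of_isQC_cofan_pt (h : IsQC c.pt) :
    {i | IsEmpty (X i ≅ ⊥_ (Sh J))}.Finite := by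
  classical
  obtain ⟨s, hs⟩ := (isQC_iff_cov c.pt).1 h ι X c.inj (cov_inj c hc)
  refine Set.Finite.subset s.finite_toSet ?_
  intro i hi
  by_contra hne
  have hne' : i ∉ s := fun h' => hne (Finset.mem_coe.2 h')
  refine hi.false (nonempty_iso_initial_of_forall_sec (X i) ?_).some
  intro V y
  refine bot_mem_of_locally _ (hs V (ap (c.inj i) y)) ?_
  rintro W g ⟨⟨j, hj⟩, w, hw⟩
  have hji : j ≠ i := fun e => hne' (e ▸ hj)
  refine bot_mem_of_ap_inj_eq c hc hji w (res g y) ?_
  rw [ap_res]; exact hw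

/-- A coproduct of quasi-compact objects, almost all of which are initial, is quasi-compact. -/
theorem isQC_cofan_pt (h1 : ∀ i, IsQC (X i))
    (h2 : {i | IsEmpty (X i ≅ ⊥_ (Sh J))}.Finite) : IsQC c.pt := by
  have : Finite {i | IsEmpty (X i ≅ ⊥_ (Sh J))} := h2.to_subtype
  refine isQC_of_cov_finite (κ := {i | IsEmpty (X i ≅ ⊥_ (Sh J))}) (fun i => X i.1)
    (fun i => c.inj i.1) ?_ (fun i => h1 i.1)
  intro U x
  refine covSieve_mem_of_locally' _ x _ (cov_inj c hc U x) ?_
  rintro V g ⟨i, y, hy⟩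
  by_cases hi : IsEmpty (X i ≅ ⊥_ (Sh J))
  · left
    exact ⟨⟨i, hi⟩, y, hy⟩
  · right
    rw [not_isEmpty_iff] at hi
    exact bot_mem_of_sec_of_iso_initial hi.some y

end QC

section Local

/-- Quasi-compactness of a morphism can be checked on a covering of the target by
quasi-compact morphisms. -/
theorem isQCHom_of_cover_target_of_isQCHom {X Y : Sh J} (f : X ⟶ Y)
    {ι : Type u} (Yi : ι → Sh J) (g : ∀ i, Yi i ⟶ Y) (hg : Cov g) (hgq : ∀ i, IsQCHom (g i))
    (h : ∀ i, IsQCHom (pullback.snd f (g i))) : IsQCHom f := by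
  apply isQCHom_of_local
  intro T t hT
  have hcov : Cov (fun i => pullback.snd (g i) t) :=
    Cov.pullback g hg t (fun i => pullback.fst (g i) t) _
      (fun i => IsPullback.of_hasPullback (g i) t)
  refine ⟨ι, fun i => pullback (g i) t, _, hcov, fun i => ?_⟩
  have e1 : pullback.snd (g i) t ≫ t = pullback.fst (g i) t ≫ g i := pullback.condition.symm
  refine isQC_of_iso (pullback.congrHom rfl e1.symm) ?_
  exact IsQCHom.isQC_of_isPullback (h i)
    (isPullback_lift_snd f (g i) (pullback.fst _ _)) (hgq i T t hT)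

/-- Quasi-separatedness can be checked on a covering of the source by quasi-compact morphisms
(no hypothesis on generators). -/
theorem isQSHom_of_cover_source_of_isQCHom {Y Z : Sh J} (g : Y ⟶ Z)
    {ι : Type u} (X : ι → Sh J) (f : ∀ i, X i ⟶ Y) (hf : Cov f)
    (hqc : ∀ i, IsQCHom (f i)) (hqs : ∀ i, IsQSHom (f i ≫ g)) : IsQSHom g := by
  refine isQCHom_of_cover_target_of_isQCHom (pullback.diagonal g) _ _
    (cov_pullback_map_of_cov g X f hf) (fun p => ?_) (fun p => ?_)
  · exact (qcHom (J := J)).pullbackMap (hqc p.1) (hqc p.2) rfl rfl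
  · refine isQCHom_of_comp_of_isQSHom _ (pullback.fst (f p.1 ≫ g) (f p.2 ≫ g)) ?_ ?_
    · exact (qcHom (J := J)).diagonal.pullback_fst _ _ (hqs p.2)
    · rw [← pullbackDiagonalMapIdIso_hom_fst]
      exact (qcHom (J := J)).comp_mem _ _ (isQCHom_of_isIso _)
        ((qcHom (J := J)).pullback_fst _ _ (hqc p.2))

end Local

section Iff

variable {ι : Type u} {X : ι → Sh J} (c : Cofan X) (hc : IsColimit c)

include hc

/-- A coproduct of quasi-separated objects is quasi-separated. -/
theorem isQS_cofan_pt (h : ∀ i, IsQS (X i)) : IsQS c.pt := by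
  rw [isQS_iff]
  intro A a hA
  have hp : Cov (fun j => pullback.snd (c.inj j) a) :=
    Cov.pullback c.inj (cov_inj c hc) a (fun j => pullback.fst (c.inj j) a) _
      (fun j => IsPullback.of_hasPullback (c.inj j) a)
  obtain ⟨s, hs⟩ := (isQC_iff_cov A).1 hA _ _ _ hp
  refine isQCHom_of_cov_finite_source a _ _ hs (fun i => ?_)
  rw [← pullback.condition]
  exact (qcHom (J := J)).comp_mem _ _
    ((isQS_iff (X i)).1 (h i) _ _ (isQCHom_inj c hc i A a hA)) (isQCHom_inj c hc i)

/-- The summands of a quasi-separated coproduct are quasi-separated. -/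
theorem isQS_of_isQS_cofan_pt (h : IsQS c.pt) (i : ι) : IsQS (X i) := by
  have := mono_inj c hc i
  exact isQS_of_mono (c.inj i) h

/-- Quasi-separatedness of a morphism out of a coproduct is checked on the summands. -/
theorem isQSHom_cofan_iff {Y : Sh J} (f : c.pt ⟶ Y) :
    IsQSHom f ↔ ∀ i, IsQSHom (c.inj i ≫ f) := by
  constructor
  · intro h i
    have := mono_inj c hc i
    exact (qcHom (J := J)).diagonal.comp_mem _ _ (isQSHom_of_mono (c.inj i)) h
  · intro h
    exact isQSHom_of_cover_source_of_isQCHom f X c.inj (cov_inj c hc) (isQCHom_inj c hc) h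

/-- Quasi-compactness of a morphism out of a finite coproduct is checked on the summands. -/
theorem isQCHom_cofan_iff [Finite ι] {Y : Sh J} (f : c.pt ⟶ Y) :
    IsQCHom f ↔ ∀ i, IsQCHom (c.inj i ≫ f) := by
  constructor
  · intro h i
    exact (qcHom (J := J)).comp_mem _ _ (isQCHom_inj c hc i) h
  · intro h
    exact isQCHom_of_cov_finite_source f X c.inj (cov_inj c hc) h

/-- Coherence of a morphism out of a finite coproduct is checked on the summands. -/
theorem isCohHom_cofan_iff [Finite ι] {Y : Sh J} (f : c.pt ⟶ Y) :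
    IsCohHom f ↔ ∀ i, IsCohHom (c.inj i ≫ f) := by
  unfold IsCohHom
  rw [isQCHom_cofan_iff c hc f, isQSHom_cofan_iff c hc f]
  exact ⟨fun h i => ⟨h.1 i, h.2 i⟩, fun h => ⟨fun i => (h i).1, fun i => (h i).2⟩⟩

end Iff

section ULift

variable {D : Type*} [Category D] {ι : Type} {X : ι → D}

/-- Reindexing a cofan along `ULift.down`. -/
def cofanULift (c : Cofan X) : Cofan (fun k : ULift.{u} ι => X k.down) :=
  Cofan.mk c.pt (fun k => c.inj k.down)

/-- The reindexed cofan is a colimit. -/
def cofanULiftIsColimit (c : Cofan X) (hc : IsColimit c) : IsColimit (cofanULift.{u} c) :=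
  Cofan.IsColimit.mk _ (fun s => Cofan.IsColimit.desc hc (fun i => s.inj ⟨i⟩))
    (fun s k => by
      show c.inj k.down ≫ _ = _
      rw [Cofan.IsColimit.fac])
    (fun s m hm => by
      refine Cofan.IsColimit.hom_ext hc _ _ (fun i => ?_)
      rw [Cofan.IsColimit.fac]
      exact hm ⟨i⟩)

end ULift

end Groth.Agent.Lib.TFinCoprod
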