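import Groth.Agent.Lib.TFinEps
import Groth.Agent.Lib.TFinCoprod2
import Mathlib.CategoryTheory.Limits.Shapes.Pullback.IsPullback.Kernels

/-!
# Coproduct decompositions of sheaves associated to representables
-/

set_option autoImplicit false
open CategoryTheory CategoryTheory.Limits Opposite
universe u
open ToposFin

namespace Groth.Agent.Lib.TFinEpsCoprod
open Groth.Agent.Lib.TFin Groth.Agent.Lib.TFinEps Groth.Agent.Lib.TFinCoprod

variable {C : Type u} [SmallCategory C] (J : GrothendieckTopology C)

/-- If the maps `eps (s i)` cover `eps X`, then the sieve generated by the `s i` is covering. -/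
lemma ofArrows_mem_of_cov_epsMap {X : C} {ι : Type u} (Y : ι → C) (s : ∀ i, Y i ⟶ X)
    (h : Cov (fun i => epsMap J (s i))) : Sieve.ofArrows Y s ∈ J X := by
  refine J.transitive (h X (etaSec J X (𝟙 X))) _ ?_
  rintro V g ⟨i, y, hy⟩
  refine J.transitive (etaSec_surj J (Y i) y) _ ?_
  rintro W k ⟨t, ht⟩
  have ht' : etaSec J (Y i) t = res k y := ht
  have e : etaSec J X (t ≫ s i) = etaSec J X (k ≫ g) := by
    rw [← ap_epsMap_etaSec, ht', ap_res, hy, ← res_comp, res_etaSec, Category.comp_id]
  refine J.superset_covering ?_ (etaSec_inj J X _ _ e)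
  intro W' m hm
  have hm' : m ≫ t ≫ s i = m ≫ k ≫ g := hm
  show Sieve.ofArrows Y s ((m ≫ k) ≫ g)
  rw [Category.assoc, ← hm', ← Category.assoc]
  exact Sieve.downward_closed _ (Sieve.ofArrows_mk Y s i) _

/-- The generated sieve is covering iff the maps `eps (s i)` form a covering family. -/
lemma cov_epsMap_of_ofArrows_mem {X : C} {ι : Type u} (Y : ι → C) (s : ∀ i, Y i ⟶ X)
    (h : Sieve.ofArrows Y s ∈ J X) : Cov (fun i => epsMap J (s i)) := by
  have h1 := cov_epsMap_of_mem J X _ h
  refine Cov.of_factor _ _ h1 ?_
  rintro ⟨V, f, hf⟩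
  obtain ⟨W, a, b, ⟨i⟩, hab⟩ := hf
  refine ⟨i, epsMap J a, ?_⟩
  show epsMap J a ≫ epsMap J (s i) = epsMap J f
  rw [← hab]
  simp [epsMap, ← Functor.map_comp]

section Functor

variable {D E : Type*} [Category D] [Category E] (G : D ⥤ E) [HasPullbacks D]

/-- For a functor preserving the relevant pullback, the image of a diagonal is an isomorphism iff
the image of the morphism is a monomorphism. -/
lemma isIso_map_diagonal_iff {P Q : D} (f : P ⟶ Q) [PreservesLimit (cospan f f) G] :
    IsIso (G.map (pullback.diagonal f)) ↔ Mono (G.map f) := by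
  have sq : IsKernelPair (G.map f) (G.map (pullback.fst f f)) (G.map (pullback.snd f f)) :=
    (IsPullback.of_hasPullback f f).map G
  have h1 : G.map (pullback.diagonal f) ≫ G.map (pullback.fst f f) = 𝟙 _ := by
    rw [← G.map_comp, pullback.diagonal_fst, G.map_id]
  constructor
  · intro h
    have : IsIso (G.map (pullback.fst f f)) := by
      have e : G.map (pullback.fst f f) = inv (G.map (pullback.diagonal f)) := by
        rw [← cancel_epi (G.map (pullback.diagonal f)), h1, IsIso.hom_inv_id]
      rw [e]; infer_instance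
    exact sq.mono_of_isIso_fst
  · intro h
    have : IsIso (G.map (pullback.fst f f)) := sq.isIso_of_mono
    have e : G.map (pullback.diagonal f) = inv (G.map (pullback.fst f f)) := by
      rw [← cancel_mono (G.map (pullback.fst f f)), h1, IsIso.inv_hom_id]
    rw [e]; infer_instance

end Functor

/-- SGA4-style criterion: the sheaf associated to `X` is the coproduct of the sheaves associated
to the `Y i` iff the family is covering, each `eps (s i)` is a monomorphism (diagonal condition)
and the fibre products are empty. -/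
theorem covering_diag_disjoint_iff {X : C} {ι : Type u} (Y : ι → C) (s : ∀ i, Y i ⟶ X) :
    (Sieve.ofArrows Y s ∈ J X ∧
      (∀ i, IsIso ((presheafToSheaf J (Type u)).map (pullback.diagonal (yoneda.map (s i))))) ∧
      (∀ i j, i ≠ j → Nonempty (IsInitial ((presheafToSheaf J (Type u)).obj
        (pullback (yoneda.map (s i)) (yoneda.map (s j))))))) ↔
    Nonempty (IsColimit (Cofan.mk ((presheafToSheaf J (Type u)).obj (yoneda.obj X))
      (fun i => (presheafToSheaf J (Type u)).map (yoneda.map (s i))))) := by
  let a := presheafToSheaf J (Type u)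
  have sq : ∀ i j, IsPullback (a.map (pullback.fst (yoneda.map (s i)) (yoneda.map (s j))))
      (a.map (pullback.snd (yoneda.map (s i)) (yoneda.map (s j))))
      (a.map (yoneda.map (s i))) (a.map (yoneda.map (s j))) := fun i j =>
    (IsPullback.of_hasPullback (yoneda.map (s i)) (yoneda.map (s j))).map a
  constructor
  · rintro ⟨h1, h2, h3⟩
    refine nonempty_isColimit_cofan_of_cov_disjoint _ (cov_epsMap_of_ofArrows_mem J Y s h1) ?_ ?_
    · intro i V y y' hy
      have : Mono (a.map (yoneda.map (s i))) := (isIso_map_diagonal_iff a _).1 (h2 i)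
      exact ap_injective_of_mono (a.map (yoneda.map (s i))) y y' hy
    · intro i j hij V y y' hy
      obtain ⟨z, -, -⟩ := exists_sec_of_isPullback (sq i j) y y' hy
      obtain ⟨hI⟩ := h3 i j hij
      exact bot_mem_of_sec_of_iso_initial (hI.uniqueUpToIso initialIsInitial) z
  · rintro ⟨hc⟩
    refine ⟨?_, ?_, ?_⟩
    · exact ofArrows_mem_of_cov_epsMap J Y s (cov_inj _ hc)
    · intro i
      rw [isIso_map_diagonal_iff]
      exact mono_inj _ hc i
    · intro i j hij
      refine ⟨isInitialOfForallSec _ (fun V z => ?_)⟩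
      exact bot_mem_of_ap_inj_eq _ hc hij _ _ (ap_eq_of_isPullback (sq i j) z)

end Groth.Agent.Lib.TFinEpsCoprod
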