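import Groth.Agent.Lib.TFinFilt3

/-!
# Finitely presentable objects of sheaf topoi: elementwise criteria and permanence
-/

set_option autoImplicit false
open CategoryTheory CategoryTheory.Limits Opposite
universe u
open ToposFin

namespace Groth.Agent.Lib.TFinFP
open Groth.Agent.Lib.TFin Groth.Agent.Lib.TFinEps Groth.Agent.Lib.TFinCoprod
open Groth.Agent.Lib.TFinFilt

variable {C : Type u} [SmallCategory C] {J : GrothendieckTopology C}

/-- Elementwise injectivity of `colim Hom(X, D i) → Hom(X, colim D)`. -/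
def EInj (X : Sh J) : Prop :=
  ∀ (I : Type u) [SmallCategory I] [IsFiltered I] (D : I ⥤ Sh J) (c : Cocone D) (_ : IsColimit c)
    (i : I) (φ ψ : X ⟶ D.obj i), φ ≫ c.ι.app i = ψ ≫ c.ι.app i →
      ∃ (k : I) (f : i ⟶ k), φ ≫ D.map f = ψ ≫ D.map f

/-- Elementwise surjectivity of `colim Hom(X, D i) → Hom(X, colim D)`. -/
def ESurj (X : Sh J) : Prop :=
  ∀ (I : Type u) [SmallCategory I] [IsFiltered I] (D : I ⥤ Sh J) (c : Cocone D) (_ : IsColimit c)
    (φ : X ⟶ c.pt), ∃ (j : I) (χ : X ⟶ D.obj j), χ ≫ c.ι.app j = φ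

section Equiv

variable (X : Sh J)

lemma eInj_of_post_injective
    (h : ∀ (I : Type u) [SmallCategory I] [IsFiltered I] (D : I ⥤ Sh J),
      Function.Injective (colimit.post D (coyoneda.obj (op X)))) : EInj X := by
  intro I _ _ D c hc i φ ψ hφψ
  let e : c.pt ≅ colimit D := hc.coconePointUniqueUpToIso (colimit.isColimit D)
  have he : ∀ i, c.ι.app i ≫ e.hom = colimit.ι D i := fun i =>
    IsColimit.comp_coconePointUniqueUpToIso_hom _ _ _
  have h1 : colimit.ι (D ⋙ coyoneda.obj (op X)) i φ =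
      colimit.ι (D ⋙ coyoneda.obj (op X)) i ψ := by
    apply h I D
    rw [post_ι_apply, post_ι_apply, ← he i, ← Category.assoc, hφψ, Category.assoc]
  exact (Types.FilteredColimit.isColimit_eq_iff'
    (colimit.isColimit (D ⋙ coyoneda.obj (op X))) φ ψ).1 h1

lemma post_injective_of_eInj (h : EInj X) (I : Type u) [SmallCategory I] [IsFiltered I]
    (D : I ⥤ Sh J) : Function.Injective (colimit.post D (coyoneda.obj (op X))) := by
  intro z₁ z₂ hz
  obtain ⟨i, φ, ψ, rfl, rfl⟩ := Types.FilteredColimit.jointly_surjective_of_isColimit₂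
    (colimit.isColimit (D ⋙ coyoneda.obj (op X))) z₁ z₂
  have hz' : colimit.post D (coyoneda.obj (op X)) (colimit.ι (D ⋙ coyoneda.obj (op X)) i φ) =
      colimit.post D (coyoneda.obj (op X)) (colimit.ι (D ⋙ coyoneda.obj (op X)) i ψ) := hz
  rw [post_ι_apply, post_ι_apply] at hz'
  obtain ⟨k, f, hf⟩ := h I D (colimit.cocone D) (colimit.isColimit D) i φ ψ hz'
  exact (Types.FilteredColimit.isColimit_eq_iff' (colimit.isColimit (D ⋙ coyoneda.obj (op X)))
    φ ψ).2 ⟨k, f, hf⟩

lemma eSurj_of_post_surjective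
    (h : ∀ (I : Type u) [SmallCategory I] [IsFiltered I] (D : I ⥤ Sh J),
      Function.Surjective (colimit.post D (coyoneda.obj (op X)))) : ESurj X := by
  intro I _ _ D c hc φ
  let e : c.pt ≅ colimit D := hc.coconePointUniqueUpToIso (colimit.isColimit D)
  have he : ∀ i, c.ι.app i ≫ e.hom = colimit.ι D i := fun i =>
    IsColimit.comp_coconePointUniqueUpToIso_hom _ _ _
  obtain ⟨z, hz⟩ := h I D (φ ≫ e.hom)
  obtain ⟨j, χ, rfl⟩ := Types.jointly_surjective_of_isColimit
    (colimit.isColimit (D ⋙ coyoneda.obj (op X))) z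
  have hz' : colimit.post D (coyoneda.obj (op X)) (colimit.ι (D ⋙ coyoneda.obj (op X)) j χ) =
      φ ≫ e.hom := hz
  rw [post_ι_apply] at hz'
  refine ⟨j, χ, ?_⟩
  rw [← cancel_mono e.hom, Category.assoc, he j, hz']

lemma post_surjective_of_eSurj (h : ESurj X) (I : Type u) [SmallCategory I] [IsFiltered I]
    (D : I ⥤ Sh J) : Function.Surjective (colimit.post D (coyoneda.obj (op X))) := by
  intro φ
  obtain ⟨j, χ, hχ⟩ := h I D (colimit.cocone D) (colimit.isColimit D) φ
  exact ⟨colimit.ι (D ⋙ coyoneda.obj (op X)) j χ, by rw [post_ι_apply]; exact hχ⟩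

/-- Finite presentability in elementwise terms. -/
theorem isFP_iff : IsFP X ↔ EInj X ∧ ESurj X := by
  constructor
  · intro h
    exact ⟨eInj_of_post_injective X (fun I _ _ D => (h I D).1),
      eSurj_of_post_surjective X (fun I _ _ D => (h I D).2)⟩
  · rintro ⟨h1, h2⟩ I _ _ D
    exact ⟨post_injective_of_eInj X h1 I D, post_surjective_of_eSurj X h2 I D⟩

lemma eInj_of_isQC (hX : IsQC X) : EInj X :=
  fun _ _ _ D c hc _ φ ψ h => exists_eq_of_isQC D hX c hc φ ψ h

lemma isQC_of_eInj (h : EInj X) : IsQC X :=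
  isQC_of_post_injective X (fun I _ _ D => post_injective_of_eInj X h I D)

lemma isQC_of_isFP (h : IsFP X) : IsQC X := isQC_of_eInj X ((isFP_iff X).1 h).1

lemma isFP_of_isCoherent (hE : HasQCGenerators J) (hX : IsCoherent X) : IsFP X :=
  fun _ _ _ D => post_bijective_of_isCoherent D hE hX

end Equiv

section Permanence

/-- Retracts of finitely presentable objects are finitely presentable. -/
theorem isFP_of_retract {X Y : Sh J} (i : X ⟶ Y) (p : Y ⟶ X) (hip : i ≫ p = 𝟙 X)
    (hY : IsFP Y) : IsFP X := by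
  rw [isFP_iff] at hY ⊢
  obtain ⟨h1, h2⟩ := hY
  constructor
  · intro I _ _ D c hc k φ ψ h
    obtain ⟨k', f, hf⟩ := h1 I D c hc k (p ≫ φ) (p ≫ ψ) (by
      rw [Category.assoc, Category.assoc, h])
    refine ⟨k', f, ?_⟩
    have := congrArg (fun t => i ≫ t) hf
    simp only [Category.assoc] at this
    rw [← Category.assoc i, ← Category.assoc i, hip, Category.id_comp, Category.id_comp] at this
    exact this
  · intro I _ _ D c hc φ
    obtain ⟨j, χ, hχ⟩ := h2 I D c hc (p ≫ φ)
    refine ⟨j, i ≫ χ, ?_⟩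
    rw [Category.assoc, hχ, ← Category.assoc, hip, Category.id_comp]

/-- The coequalizer of a pair `X₁ ⇉ X₀` with `X₀` finitely presentable and `X₁` quasi-compact
is finitely presentable. -/
theorem isFP_coequalizer {X₀ X₁ : Sh J} (a b : X₁ ⟶ X₀) (h₀ : IsFP X₀) (h₁ : IsQC X₁) :
    IsFP (coequalizer a b) := by
  rw [isFP_iff] at h₀ ⊢
  obtain ⟨hi, hs⟩ := h₀
  have hi₁ : EInj X₁ := eInj_of_isQC X₁ h₁
  constructor
  · intro I _ _ D c hc k φ ψ h
    obtain ⟨k', f, hf⟩ := hi I D c hc k (coequalizer.π a b ≫ φ) (coequalizer.π a b ≫ ψ) (by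
      rw [Category.assoc, Category.assoc, h])
    refine ⟨k', f, ?_⟩
    rw [← cancel_epi (coequalizer.π a b)]
    simpa only [Category.assoc] using hf
  · intro I _ _ D c hc φ
    obtain ⟨j, χ, hχ⟩ := hs I D c hc (coequalizer.π a b ≫ φ)
    obtain ⟨k, f, hf⟩ := hi₁ I D c hc j (a ≫ χ) (b ≫ χ) (by
      rw [Category.assoc, Category.assoc, hχ, ← Category.assoc, ← Category.assoc,
        coequalizer.condition])
    have hf' : a ≫ (χ ≫ D.map f) = b ≫ (χ ≫ D.map f) := by
      simpa only [Category.assoc] using hf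
    refine ⟨k, coequalizer.desc (χ ≫ D.map f) hf', ?_⟩
    rw [← cancel_epi (coequalizer.π a b), ← Category.assoc, coequalizer.π_desc, Category.assoc,
      c.w, hχ]

end Permanence

end Groth.Agent.Lib.TFinFP
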