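import Groth.Agent.Lib.TFinFP

/-!
# Presenting objects of a sheaf topos as filtered colimits of finite coequalizers
-/

set_option autoImplicit false
open CategoryTheory CategoryTheory.Limits Opposite
universe u
open ToposFin

namespace Groth.Agent.Lib.TFinFP
open Groth.Agent.Lib.TFin Groth.Agent.Lib.TFinEps Groth.Agent.Lib.TFinCoprod
open Groth.Agent.Lib.TFinFilt

variable {C : Type u} [SmallCategory C] {J : GrothendieckTopology C}

section CoeqDiagram

variable {B : Sh J} {Λ : Type u} (A : Λ → Sh J) (a b : ∀ l, A l ⟶ B)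

noncomputable def cdA (s : Finset Λ) : (∐ fun l : s => A l) ⟶ B := Sigma.desc (fun l => a l)

noncomputable def cdB (s : Finset Λ) : (∐ fun l : s => A l) ⟶ B := Sigma.desc (fun l => b l)

/-- The coequalizer of the finitely many pairs indexed by `s`. -/
noncomputable def cdObj (s : Finset Λ) : Sh J := coequalizer (cdA A a s) (cdB A b s)

noncomputable def cdQ (s : Finset Λ) : B ⟶ cdObj A a b s :=
  coequalizer.π (cdA A a s) (cdB A b s)

instance (s : Finset Λ) : Epi (cdQ A a b s) :=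
  inferInstanceAs (Epi (coequalizer.π (cdA A a s) (cdB A b s)))

lemma cd_condition (s : Finset Λ) (l : Λ) (hl : l ∈ s) :
    a l ≫ cdQ A a b s = b l ≫ cdQ A a b s := by
  have h : cdA A a s ≫ cdQ A a b s = cdB A b s ≫ cdQ A a b s :=
    coequalizer.condition (cdA A a s) (cdB A b s)
  have h2 := congrArg (fun t => Sigma.ι (fun l : s => A l) ⟨l, hl⟩ ≫ t) h
  simp only [cdA, cdB, Sigma.ι_desc_assoc] at h2
  exact h2

lemma cd_condition' {s s' : Finset Λ} (h : s ≤ s') :
    cdA A a s ≫ cdQ A a b s' = cdB A b s ≫ cdQ A a b s' := by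
  apply Sigma.hom_ext
  intro l
  simp only [cdA, cdB, Sigma.ι_desc_assoc]
  exact cd_condition A a b s' l (h l.2)

noncomputable def cdMap {s s' : Finset Λ} (h : s ≤ s') : cdObj A a b s ⟶ cdObj A a b s' :=
  coequalizer.desc (cdQ A a b s') (cd_condition' A a b h)

@[reassoc]
lemma cdQ_map {s s' : Finset Λ} (h : s ≤ s') :
    cdQ A a b s ≫ cdMap A a b h = cdQ A a b s' :=
  coequalizer.π_desc _ _

/-- The filtered diagram of finite partial coequalizers. -/
noncomputable abbrev cdDiagram : Finset Λ ⥤ Sh J where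
  obj s := cdObj A a b s
  map f := cdMap A a b (leOfHom f)
  map_id s := by
    apply coequalizer.hom_ext
    show cdQ A a b s ≫ _ = cdQ A a b s ≫ _
    rw [cdQ_map, Category.comp_id]
  map_comp f g := by
    apply coequalizer.hom_ext
    show cdQ A a b _ ≫ _ = cdQ A a b _ ≫ _
    rw [cdQ_map, cdQ_map_assoc, cdQ_map]

variable {A a b}

lemma cd_desc_condition {Z : Sh J} (q : B ⟶ Z) (hq : ∀ l, a l ≫ q = b l ≫ q) (s : Finset Λ) :
    cdA A a s ≫ q = cdB A b s ≫ q := by
  apply Sigma.hom_ext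
  intro l
  simp only [cdA, cdB, Sigma.ι_desc_assoc]
  exact hq l

/-- The cocone on the diagram of partial coequalizers induced by a morphism coequalizing all the
pairs. -/
noncomputable abbrev cdCocone {Z : Sh J} (q : B ⟶ Z) (hq : ∀ l, a l ≫ q = b l ≫ q) :
    Cocone (cdDiagram A a b) where
  pt := Z
  ι :=
    { app := fun s => coequalizer.desc q (cd_desc_condition q hq s)
      naturality := by
        intro s s' f
        apply coequalizer.hom_ext
        show cdQ A a b s ≫ cdMap A a b (leOfHom f) ≫ _ = cdQ A a b s ≫ _ ≫ 𝟙 Z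
        rw [cdQ_map_assoc, Category.comp_id]
        exact (coequalizer.π_desc _ _).trans (coequalizer.π_desc _ _).symm }

@[reassoc]
lemma cdQ_cocone {Z : Sh J} (q : B ⟶ Z) (hq : ∀ l, a l ≫ q = b l ≫ q) (s : Finset Λ) :
    cdQ A a b s ≫ (cdCocone q hq).ι.app s = q :=
  coequalizer.π_desc _ _

/-- If `q` is universal among the morphisms coequalizing all the pairs, then the induced cocone is
a colimit. -/
theorem cdCocone_isColimit {Z : Sh J} (q : B ⟶ Z) (hq : ∀ l, a l ≫ q = b l ≫ q)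
    (huniv : ∀ (W : Sh J) (g : B ⟶ W), (∀ l, a l ≫ g = b l ≫ g) → ∃! h : Z ⟶ W, q ≫ h = g) :
    Nonempty (IsColimit (cdCocone q hq)) := by
  classical
  have hg : ∀ (t : Cocone (cdDiagram A a b)) (l : Λ),
      a l ≫ (cdQ A a b ∅ ≫ t.ι.app ∅) = b l ≫ (cdQ A a b ∅ ≫ t.ι.app ∅) := by
    intro t l
    have hle : (∅ : Finset Λ) ≤ {l} := Finset.empty_subset _
    have e1 : cdQ A a b ∅ ≫ t.ι.app ∅ = cdQ A a b {l} ≫ t.ι.app {l} := by
      rw [← t.w (homOfLE hle)]
      exact (cdQ_map_assoc A a b hle _)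
    rw [e1, ← Category.assoc, ← Category.assoc,
      cd_condition A a b {l} l (Finset.mem_singleton_self l)]
  have hQ : ∀ (t : Cocone (cdDiagram A a b)) (s : Finset Λ),
      cdQ A a b s ≫ t.ι.app s = cdQ A a b ∅ ≫ t.ι.app ∅ := by
    intro t s
    have hle : (∅ : Finset Λ) ≤ s := Finset.empty_subset _
    rw [← t.w (homOfLE hle)]
    exact (cdQ_map_assoc A a b hle _).symm
  refine ⟨{
    desc := fun t => (huniv t.pt _ (hg t)).choose
    fac := ?_
    uniq := ?_ }⟩
  · intro t s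
    have h1 : q ≫ (huniv t.pt _ (hg t)).choose = cdQ A a b ∅ ≫ t.ι.app ∅ :=
      (huniv t.pt _ (hg t)).choose_spec.1
    rw [← cancel_epi (cdQ A a b s), cdQ_cocone_assoc q hq s, h1, hQ t s]
  · intro t m hm
    have h2 : q ≫ m = cdQ A a b ∅ ≫ t.ι.app ∅ := by
      rw [← cdQ_cocone q hq ∅, Category.assoc, hm ∅]
    exact (huniv t.pt _ (hg t)).choose_spec.2 m h2

end CoeqDiagram

section KernelPair

variable {K X : Sh J} (p : K ⟶ X) [Epi p] {Λ : Type u} (L : Λ → Sh J)
  (ℓ : ∀ l, L l ⟶ pullback p p) (hℓ : Cov ℓ)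

include hℓ

/-- An epimorphism `p` is universal among morphisms coequalizing a covering family of its kernel
pair. -/
lemma existsUnique_desc_of_cov_kernelPair (W : Sh J) (g : K ⟶ W)
    (hg : ∀ l, (ℓ l ≫ pullback.fst p p) ≫ g = (ℓ l ≫ pullback.snd p p) ≫ g) :
    ∃! h : X ⟶ W, p ≫ h = g := by
  have : IsRegularEpi p := IsRegularEpiCategory.regularEpiOfEpi p
  have : EffectiveEpi p := inferInstance
  have h1 : pullback.fst p p ≫ g = pullback.snd p p ≫ g :=
    hom_ext_of_cov ℓ hℓ (fun l => by simpa only [Category.assoc] using hg l)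
  have key : ∀ {Z : Sh J} (g₁ g₂ : Z ⟶ K), g₁ ≫ p = g₂ ≫ p → g₁ ≫ g = g₂ ≫ g := by
    intro Z g₁ g₂ h
    have e1 : pullback.lift g₁ g₂ h ≫ pullback.fst p p = g₁ := pullback.lift_fst _ _ _
    have e2 : pullback.lift g₁ g₂ h ≫ pullback.snd p p = g₂ := pullback.lift_snd _ _ _
    calc g₁ ≫ g = (pullback.lift g₁ g₂ h ≫ pullback.fst p p) ≫ g := by rw [e1]
      _ = pullback.lift g₁ g₂ h ≫ pullback.snd p p ≫ g := by rw [Category.assoc, h1]
      _ = g₂ ≫ g := by rw [← Category.assoc, e2]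
  refine ⟨EffectiveEpi.desc p g key, EffectiveEpi.fac p g key, ?_⟩
  intro h' hh'
  rw [← cancel_epi p, hh', EffectiveEpi.fac p g key]

/-- An object `X` with surjective `colim Hom(X, -) → Hom(X, colim -)` presented by an
epimorphism `p : K ⟶ X` and a covering family of the kernel pair of `p` is a retract of a finite
partial coequalizer. -/
theorem exists_retract_of_eSurj (hX : ESurj X) :
    ∃ (s : Finset Λ)
      (i : X ⟶ cdObj L (fun l => ℓ l ≫ pullback.fst p p) (fun l => ℓ l ≫ pullback.snd p p) s)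
      (r : cdObj L (fun l => ℓ l ≫ pullback.fst p p) (fun l => ℓ l ≫ pullback.snd p p) s ⟶ X),
      i ≫ r = 𝟙 X := by
  classical
  have hq : ∀ l, (ℓ l ≫ pullback.fst p p) ≫ p = (ℓ l ≫ pullback.snd p p) ≫ p := by
    intro l
    rw [Category.assoc, Category.assoc, pullback.condition]
  obtain ⟨hc⟩ := cdCocone_isColimit (A := L) p hq
    (fun W g hg => existsUnique_desc_of_cov_kernelPair p L ℓ hℓ W g hg)
  obtain ⟨s, χ, hχ⟩ := hX (Finset Λ) _ _ hc (𝟙 X)
  exact ⟨s, χ, _, hχ⟩

end KernelPair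

end Groth.Agent.Lib.TFinFP
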