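import Groth.Agent.Lib.TFinFP3
import Groth.Agent.Lib.TFinAlg
import Mathlib.CategoryTheory.FinCategory.Basic
import Mathlib.CategoryTheory.Limits.Shapes.FiniteLimits

/-!
# Generating sets of quasi-compact objects stable under finite colimits and fibre products
-/

set_option autoImplicit false
open CategoryTheory CategoryTheory.Limits Opposite
universe u
open ToposFin

namespace Groth.Agent.Lib.TFinFP
open Groth.Agent.Lib.TFin Groth.Agent.Lib.TFinEps Groth.Agent.Lib.TFinCoprod
open Groth.Agent.Lib.TFinFilt Groth.Agent.Lib.TFinAlg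

variable {C : Type u} [SmallCategory C] {J : GrothendieckTopology C}

section ClosedSet

variable (S : Set (Sh J))
  (hiso : ∀ ⦃K L : Sh J⦄, K ∈ S → Nonempty (K ≅ L) → L ∈ S)
  (hcolim : ∀ (K : Type) [SmallCategory K] [FinCategory K] (D : K ⥤ Sh J),
    (∀ k, D.obj k ∈ S) → colimit D ∈ S)

include hiso hcolim

lemma sigma_mem_of_finite {κ : Type u} [Finite κ] (F : κ → Sh J) (hF : ∀ k, F k ∈ S) :
    ∐ F ∈ S := by
  obtain ⟨n, ⟨e⟩⟩ := Finite.exists_equiv_fin κ
  have h1 : ∐ (F ∘ e.symm) ∈ S :=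
    hcolim (Discrete (Fin n)) (Discrete.functor (F ∘ e.symm)) (fun k => hF _)
  exact hiso h1 ⟨Sigma.reindex e.symm F⟩

omit hiso in
lemma coequalizer_mem {L K : Sh J} (a b : L ⟶ K) (hL : L ∈ S) (hK : K ∈ S) :
    coequalizer a b ∈ S := by
  refine hcolim WalkingParallelPair (parallelPair a b) ?_
  rintro (_ | _)
  · exact hL
  · exact hK

variable (hqc : ∀ K ∈ S, IsQC K) (hgen : IsGenerating S)

include hqc hgen

/-- Coherent objects belong to a generating set of quasi-compact objects which is stable under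
finite colimits. -/
theorem mem_of_isCoherent {X : Sh J} (hX : IsCoherent X) : X ∈ S := by
  obtain ⟨κ, _, F, π, hF, hπ⟩ := exists_finite_cov_of_isQC S hgen hX.1
  have hK : ∐ F ∈ S := sigma_mem_of_finite S hiso hcolim F hF
  have hp : Epi (Sigma.desc π) := (epi_sigmaDesc_iff_cov π).2 hπ
  have hR : IsQC (pullback (Sigma.desc π) (Sigma.desc π)) :=
    hX.2 _ _ _ _ (hqc _ hK) (hqc _ hK)
  obtain ⟨κ', _, L, ℓ, hL, hℓ⟩ := exists_finite_cov_of_isQC S hgen hR
  have hA : ∐ L ∈ S := sigma_mem_of_finite S hiso hcolim L hL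
  let a : ∐ L ⟶ ∐ F := Sigma.desc (fun l => ℓ l ≫ pullback.fst _ _)
  let b : ∐ L ⟶ ∐ F := Sigma.desc (fun l => ℓ l ≫ pullback.snd _ _)
  have w : a ≫ Sigma.desc π = b ≫ Sigma.desc π := by
    apply Sigma.hom_ext
    intro l
    simp only [a, b, Sigma.ι_desc_assoc, Category.assoc, pullback.condition]
  have hπc : ∀ l, (ℓ l ≫ pullback.fst (Sigma.desc π) (Sigma.desc π)) ≫ coequalizer.π a b =
      (ℓ l ≫ pullback.snd (Sigma.desc π) (Sigma.desc π)) ≫ coequalizer.π a b := by
    intro l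
    have h := congrArg (fun t => Sigma.ι L l ≫ t) (coequalizer.condition a b)
    simpa only [a, b, Sigma.ι_desc_assoc] using h
  obtain ⟨v, hv, -⟩ := existsUnique_desc_of_cov_kernelPair (Sigma.desc π) L ℓ hℓ _
    (coequalizer.π a b) hπc
  let u : coequalizer a b ⟶ X := coequalizer.desc (Sigma.desc π) w
  have huv : u ≫ v = 𝟙 _ := by
    apply coequalizer.hom_ext
    rw [← Category.assoc, coequalizer.π_desc, hv, Category.comp_id]
  have hvu : v ≫ u = 𝟙 _ := by
    rw [← cancel_epi (Sigma.desc π), ← Category.assoc, hv, coequalizer.π_desc, Category.comp_id]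
  exact hiso (coequalizer_mem S hcolim a b hA hK) ⟨⟨u, v, huv, hvu⟩⟩

omit hqc in
/-- Finitely presentable objects belong to a generating set of quasi-compact objects which is
stable under finite colimits. -/
theorem mem_of_isFP {X : Sh J} (hX : IsFP X) : X ∈ S := by
  classical
  have hXqc := isQC_of_isFP X hX
  obtain ⟨κ, _, F, π, hF, hπ⟩ := exists_finite_cov_of_isQC S hgen hXqc
  have hK : ∐ F ∈ S := sigma_mem_of_finite S hiso hcolim F hF
  have hp : Epi (Sigma.desc π) := (epi_sigmaDesc_iff_cov π).2 hπ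
  obtain ⟨Λ, L, ℓ, hL, hℓ⟩ := hgen (pullback (Sigma.desc π) (Sigma.desc π))
  have hℓ' : Cov ℓ := cov_of_jointlyEpi ℓ hℓ
  obtain ⟨s, i, r, hir⟩ := exists_retract_of_eSurj (Sigma.desc π) L ℓ hℓ' ((isFP_iff X).1 hX).2
  have hY : cdObj L (fun l => ℓ l ≫ pullback.fst _ _) (fun l => ℓ l ≫ pullback.snd _ _) s ∈ S :=
    coequalizer_mem S hcolim _ _
      (sigma_mem_of_finite S hiso hcolim (fun l : s => L l) (fun l => hL l)) hK
  have w : 𝟙 _ ≫ r = (r ≫ i) ≫ r := by
    rw [Category.id_comp, Category.assoc, hir, Category.comp_id]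
  let u : coequalizer (𝟙 _) (r ≫ i) ⟶ X := coequalizer.desc r w
  let v : X ⟶ coequalizer (𝟙 _) (r ≫ i) := i ≫ coequalizer.π _ _
  have hvu : v ≫ u = 𝟙 _ := by
    show (i ≫ coequalizer.π _ _) ≫ coequalizer.desc r w = _
    rw [Category.assoc, coequalizer.π_desc, hir]
  have huv : u ≫ v = 𝟙 _ := by
    apply coequalizer.hom_ext
    show coequalizer.π _ _ ≫ coequalizer.desc r w ≫ i ≫ coequalizer.π _ _ = _
    rw [← Category.assoc, coequalizer.π_desc, ← Category.assoc,
      ← coequalizer.condition (𝟙 _) (r ≫ i), Category.id_comp, Category.comp_id]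
  exact hiso (coequalizer_mem S hcolim _ _ hY hY) ⟨⟨u, v, huv, hvu⟩⟩

end ClosedSet

/-- A generating set of quasi-compact objects, stable under isomorphisms, finite colimits and
fibre products, is the set of coherent objects; finitely presentable objects are coherent. -/
theorem eq_coherent_of_generating_closed (S : Set (Sh J)) (hqc : ∀ K ∈ S, IsQC K)
    (hiso : ∀ ⦃K L : Sh J⦄, K ∈ S → Nonempty (K ≅ L) → L ∈ S)
    (hgen : IsGenerating S) (hpb : ClosedUnderPullbacks S)
    (hcolim : ∀ (K : Type) [SmallCategory K] [FinCategory K] (D : K ⥤ Sh J),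
      (∀ k, D.obj k ∈ S) → colimit D ∈ S) :
    (∀ X : Sh J, X ∈ S ↔ IsCoherent X) ∧ (∀ X : Sh J, IsFP X → IsCoherent X) := by
  refine ⟨fun X => ⟨fun h => isCoherent_of_mem S hqc hgen hpb h,
    fun h => mem_of_isCoherent S hiso hcolim hqc hgen h⟩, fun X hX => ?_⟩
  exact isCoherent_of_mem S hqc hgen hpb (mem_of_isFP S hiso hcolim hgen hX)

end Groth.Agent.Lib.TFinFP
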