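import Groth.Agent.Lib.TFinFP4
import Mathlib.Order.Category.Preord
import Mathlib.Data.Finset.Union

/-!
# Every object of a locally coherent topos is a filtered colimit of finite coequalizers
-/

set_option autoImplicit false
set_option linter.unusedSectionVars false
open CategoryTheory CategoryTheory.Limits Opposite
universe u
open ToposFin

namespace Groth.Agent.Lib.TFinFP
open Groth.Agent.Lib.TFin Groth.Agent.Lib.TFinEps Groth.Agent.Lib.TFinCoprod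
open Groth.Agent.Lib.TFinFilt

variable {C : Type u} [SmallCategory C] {J : GrothendieckTopology C}

namespace Pres

variable {X : Sh J} {M : Type u} [DecidableEq M] (F : M → Sh J) (π : ∀ m, F m ⟶ X)

/-- Finite partial coproducts of the generators. -/
noncomputable def K (s : Finset M) : Sh J := ∐ fun m : s => F m

noncomputable def P (s : Finset M) : K F s ⟶ X := Sigma.desc (fun m => π m)

noncomputable def inj (s : Finset M) (m : M) (hm : m ∈ s) : F m ⟶ K F s :=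
  Sigma.ι (fun m : s => F m) ⟨m, hm⟩

@[reassoc (attr := simp)]
lemma inj_P (s : Finset M) (m : M) (hm : m ∈ s) : inj F s m hm ≫ P F π s = π m :=
  Sigma.ι_desc _ _

noncomputable def incl {s s' : Finset M} (h : s ⊆ s') : K F s ⟶ K F s' :=
  Sigma.desc (fun m => inj F s' m.1 (h m.2))

@[reassoc (attr := simp)]
lemma inj_incl {s s' : Finset M} (h : s ⊆ s') (m : M) (hm : m ∈ s) :
    inj F s m hm ≫ incl F h = inj F s' m (h hm) :=
  Sigma.ι_desc _ _

lemma K_hom_ext {s : Finset M} {Z : Sh J} (f g : K F s ⟶ Z)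
    (h : ∀ (m : M) (hm : m ∈ s), inj F s m hm ≫ f = inj F s m hm ≫ g) : f = g := by
  apply Sigma.hom_ext
  rintro ⟨m, hm⟩
  exact h m hm

@[reassoc (attr := simp)]
lemma incl_P {s s' : Finset M} (h : s ⊆ s') : incl F h ≫ P F π s' = P F π s := by
  apply K_hom_ext
  intro m hm
  rw [inj_incl_assoc, inj_P, inj_P]

@[simp]
lemma incl_refl (s : Finset M) : incl F (Finset.Subset.refl s) = 𝟙 _ := by
  apply K_hom_ext
  intro m hm
  rw [inj_incl, Category.comp_id]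

@[reassoc (attr := simp)]
lemma incl_trans {s s' s'' : Finset M} (h : s ⊆ s') (h' : s' ⊆ s'') :
    incl F h ≫ incl F h' = incl F (h.trans h') := by
  apply K_hom_ext
  intro m hm
  rw [inj_incl_assoc, inj_incl, inj_incl]

variable (Λ : Finset M → Type u) (L : ∀ s, Λ s → Sh J)
  (ℓ : ∀ s (l : Λ s), L s l ⟶ pullback (P F π s) (P F π s))

/-- The type of all relation generators. -/
abbrev Rel : Type u := Σ s : Finset M, Λ s

variable {Λ}

/-- The support function. -/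
def σ [DecidableEq (Rel Λ)] (x : Finset M × Finset (Rel Λ)) : Finset M :=
  x.1 ∪ x.2.biUnion (fun ρ => ρ.1)

lemma σ_mono [DecidableEq (Rel Λ)] {x x' : Finset M × Finset (Rel Λ)} (h : x ≤ x') :
    σ x ⊆ σ x' := by
  intro m hm
  rcases Finset.mem_union.1 hm with h1 | h1
  · exact Finset.mem_union_left _ (h.1 h1)
  · obtain ⟨ρ, hρ, hm'⟩ := Finset.mem_biUnion.1 h1
    exact Finset.mem_union_right _ (Finset.mem_biUnion.2 ⟨ρ, h.2 hρ, hm'⟩)

lemma subset_σ [DecidableEq (Rel Λ)] (x : Finset M × Finset (Rel Λ)) : x.1 ⊆ σ x :=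
  Finset.subset_union_left

lemma rel_subset_σ [DecidableEq (Rel Λ)] (x : Finset M × Finset (Rel Λ)) (ρ : Rel Λ)
    (hρ : ρ ∈ x.2) : ρ.1 ⊆ σ x := by
  intro m hm
  exact Finset.mem_union_right _ (Finset.mem_biUnion.2 ⟨ρ, hρ, hm⟩)

variable [DecidableEq (Rel Λ)]

noncomputable def ra (ρ : Rel Λ) : L ρ.1 ρ.2 ⟶ K F ρ.1 := ℓ ρ.1 ρ.2 ≫ pullback.fst _ _

noncomputable def rb (ρ : Rel Λ) : L ρ.1 ρ.2 ⟶ K F ρ.1 := ℓ ρ.1 ρ.2 ≫ pullback.snd _ _

lemma ra_P (ρ : Rel Λ) : ra F π L ℓ ρ ≫ P F π ρ.1 = rb F π L ℓ ρ ≫ P F π ρ.1 := by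
  simp only [ra, rb, Category.assoc, pullback.condition]

noncomputable def A (x : Finset M × Finset (Rel Λ)) : Sh J := ∐ fun ρ : x.2 => L ρ.1.1 ρ.1.2

noncomputable def a (x : Finset M × Finset (Rel Λ)) : A L x ⟶ K F (σ x) :=
  Sigma.desc (fun ρ => ra F π L ℓ ρ.1 ≫ incl F (rel_subset_σ x ρ.1 ρ.2))

noncomputable def b (x : Finset M × Finset (Rel Λ)) : A L x ⟶ K F (σ x) :=
  Sigma.desc (fun ρ => rb F π L ℓ ρ.1 ≫ incl F (rel_subset_σ x ρ.1 ρ.2))

/-- The finite partial presentation indexed by `x`. -/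
noncomputable def Xobj (x : Finset M × Finset (Rel Λ)) : Sh J :=
  coequalizer (a F π L ℓ x) (b F π L ℓ x)

noncomputable def Q (x : Finset M × Finset (Rel Λ)) : K F (σ x) ⟶ Xobj F π L ℓ x :=
  coequalizer.π (a F π L ℓ x) (b F π L ℓ x)

instance (x : Finset M × Finset (Rel Λ)) : Epi (Q F π L ℓ x) :=
  inferInstanceAs (Epi (coequalizer.π (a F π L ℓ x) (b F π L ℓ x)))

noncomputable def Aι (x : Finset M × Finset (Rel Λ)) (ρ : Rel Λ) (hρ : ρ ∈ x.2) :
    L ρ.1 ρ.2 ⟶ A L x :=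
  Sigma.ι (fun ρ : x.2 => L ρ.1.1 ρ.1.2) ⟨ρ, hρ⟩

lemma A_hom_ext {x : Finset M × Finset (Rel Λ)} {Z : Sh J} (f g : A L x ⟶ Z)
    (h : ∀ (ρ : Rel Λ) (hρ : ρ ∈ x.2), Aι L x ρ hρ ≫ f = Aι L x ρ hρ ≫ g) : f = g := by
  apply Sigma.hom_ext
  rintro ⟨ρ, hρ⟩
  exact h ρ hρ

@[reassoc (attr := simp)]
lemma Aι_a (x : Finset M × Finset (Rel Λ)) (ρ : Rel Λ) (hρ : ρ ∈ x.2) :
    Aι L x ρ hρ ≫ a F π L ℓ x = ra F π L ℓ ρ ≫ incl F (rel_subset_σ x ρ hρ) :=
  Sigma.ι_desc _ _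

@[reassoc (attr := simp)]
lemma Aι_b (x : Finset M × Finset (Rel Λ)) (ρ : Rel Λ) (hρ : ρ ∈ x.2) :
    Aι L x ρ hρ ≫ b F π L ℓ x = rb F π L ℓ ρ ≫ incl F (rel_subset_σ x ρ hρ) :=
  Sigma.ι_desc _ _

lemma Q_condition (x : Finset M × Finset (Rel Λ)) (ρ : Rel Λ) (hρ : ρ ∈ x.2) :
    ra F π L ℓ ρ ≫ incl F (rel_subset_σ x ρ hρ) ≫ Q F π L ℓ x =
      rb F π L ℓ ρ ≫ incl F (rel_subset_σ x ρ hρ) ≫ Q F π L ℓ x := by
  have h : a F π L ℓ x ≫ Q F π L ℓ x = b F π L ℓ x ≫ Q F π L ℓ x :=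
    coequalizer.condition (a F π L ℓ x) (b F π L ℓ x)
  have h2 := congrArg (fun t => Aι L x ρ hρ ≫ t) h
  simp only [Aι_a_assoc, Aι_b_assoc] at h2
  exact h2

lemma Q_condition' {x x' : Finset M × Finset (Rel Λ)} (h : x ≤ x') :
    a F π L ℓ x ≫ incl F (σ_mono h) ≫ Q F π L ℓ x' =
      b F π L ℓ x ≫ incl F (σ_mono h) ≫ Q F π L ℓ x' := by
  apply A_hom_ext
  intro ρ hρ
  rw [Aι_a_assoc, Aι_b_assoc, incl_trans_assoc]
  exact Q_condition F π L ℓ x' ρ (h.2 hρ)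

noncomputable def Xmap {x x' : Finset M × Finset (Rel Λ)} (h : x ≤ x') :
    Xobj F π L ℓ x ⟶ Xobj F π L ℓ x' :=
  coequalizer.desc (incl F (σ_mono h) ≫ Q F π L ℓ x') (Q_condition' F π L ℓ h)

@[reassoc]
lemma Q_Xmap {x x' : Finset M × Finset (Rel Λ)} (h : x ≤ x') :
    Q F π L ℓ x ≫ Xmap F π L ℓ h = incl F (σ_mono h) ≫ Q F π L ℓ x' :=
  coequalizer.π_desc _ _

lemma leOfProdHom {x x' : Finset M × Finset (Rel Λ)} (f : x ⟶ x') : x ≤ x' :=
  ⟨leOfHom f.1, leOfHom f.2⟩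

/-- The filtered diagram of finite partial presentations. -/
noncomputable abbrev diagram : (Finset M × Finset (Rel Λ)) ⥤ Sh J where
  obj x := Xobj F π L ℓ x
  map f := Xmap F π L ℓ (leOfProdHom f)
  map_id x := by
    apply coequalizer.hom_ext
    show Q F π L ℓ x ≫ _ = Q F π L ℓ x ≫ _
    rw [Q_Xmap, incl_refl, Category.id_comp, Category.comp_id]
  map_comp f g := by
    apply coequalizer.hom_ext
    show Q F π L ℓ _ ≫ _ = Q F π L ℓ _ ≫ _
    rw [Q_Xmap, Q_Xmap_assoc, Q_Xmap, incl_trans_assoc]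

lemma a_P (x : Finset M × Finset (Rel Λ)) :
    a F π L ℓ x ≫ P F π (σ x) = b F π L ℓ x ≫ P F π (σ x) := by
  apply A_hom_ext
  intro ρ hρ
  rw [Aι_a_assoc, Aι_b_assoc, incl_P]
  exact ra_P F π L ℓ ρ

/-- The cocone with vertex `X`. -/
noncomputable abbrev cocone : Cocone (diagram F π L ℓ) where
  pt := X
  ι :=
    { app := fun x => coequalizer.desc (P F π (σ x)) (a_P F π L ℓ x)
      naturality := by
        intro x x' f
        apply coequalizer.hom_ext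
        show Q F π L ℓ x ≫ Xmap F π L ℓ (leOfProdHom f) ≫ _ = Q F π L ℓ x ≫ _ ≫ 𝟙 X
        rw [Q_Xmap_assoc, Category.comp_id]
        have e1 : Q F π L ℓ x' ≫ coequalizer.desc (P F π (σ x')) (a_P F π L ℓ x') =
            P F π (σ x') := coequalizer.π_desc _ _
        have e2 : Q F π L ℓ x ≫ coequalizer.desc (P F π (σ x)) (a_P F π L ℓ x) =
            P F π (σ x) := coequalizer.π_desc _ _
        rw [e1, e2, incl_P] }

@[reassoc]
lemma Q_cocone (x : Finset M × Finset (Rel Λ)) :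
    Q F π L ℓ x ≫ (cocone F π L ℓ).ι.app x = P F π (σ x) :=
  coequalizer.π_desc _ _

/-- The morphism of the index category attached to an inequality. -/
def homOfProdLE {x x' : Finset M × Finset (Rel Λ)} (h : x ≤ x') : x ⟶ x' :=
  (homOfLE h.1, homOfLE h.2)

section Colimit

variable (c : Cocone (diagram F π L ℓ))

lemma c_w {x x' : Finset M × Finset (Rel Λ)} (h : x ≤ x') :
    Xmap F π L ℓ h ≫ c.ι.app x' = c.ι.app x :=
  c.w (homOfProdLE h)

lemma inj_Q_c {x x' : Finset M × Finset (Rel Λ)} (h : x ≤ x') (m : M) (hm : m ∈ σ x) :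
    inj F (σ x) m hm ≫ Q F π L ℓ x ≫ c.ι.app x =
      inj F (σ x') m (σ_mono h hm) ≫ Q F π L ℓ x' ≫ c.ι.app x' := by
  rw [← c_w F π L ℓ c h, Q_Xmap_assoc, inj_incl_assoc]

lemma mem_σ_single (m : M) : m ∈ σ (({m}, ∅) : Finset M × Finset (Rel Λ)) :=
  subset_σ _ (Finset.mem_singleton_self m)

/-- The components of the descended morphism on the generators. -/
noncomputable def g (m : M) : F m ⟶ c.pt :=
  inj F (σ (({m}, ∅) : Finset M × Finset (Rel Λ))) m (mem_σ_single m) ≫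
    Q F π L ℓ ({m}, ∅) ≫ c.ι.app ({m}, ∅)

lemma inj_Q_c_eq_g (x : Finset M × Finset (Rel Λ)) (m : M) (hm : m ∈ σ x) :
    inj F (σ x) m hm ≫ Q F π L ℓ x ≫ c.ι.app x = g F π L ℓ c m := by
  have h1 : x ≤ x ⊔ (({m}, ∅) : Finset M × Finset (Rel Λ)) := le_sup_left
  have h2 : (({m}, ∅) : Finset M × Finset (Rel Λ)) ≤ x ⊔ ({m}, ∅) := le_sup_right
  rw [inj_Q_c F π L ℓ c h1 m hm, g, inj_Q_c F π L ℓ c h2 m (mem_σ_single m)]

lemma g_compat (hℓ : ∀ s, Cov (ℓ s)) (m m' : M) :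
    pullback.fst (π m) (π m') ≫ g F π L ℓ c m = pullback.snd (π m) (π m') ≫ g F π L ℓ c m' := by
  let s : Finset M := {m, m'}
  have hm : m ∈ s := Finset.mem_insert_self m _
  have hm' : m' ∈ s := Finset.mem_insert_of_mem (Finset.mem_singleton_self m')
  let θ : pullback (π m) (π m') ⟶ pullback (P F π s) (P F π s) :=
    pullback.lift (pullback.fst _ _ ≫ inj F s m hm) (pullback.snd _ _ ≫ inj F s m' hm')
      (by rw [Category.assoc, Category.assoc, inj_P, inj_P, pullback.condition])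
  have hθ1 : θ ≫ pullback.fst _ _ = pullback.fst _ _ ≫ inj F s m hm := pullback.lift_fst _ _ _
  have hθ2 : θ ≫ pullback.snd _ _ = pullback.snd _ _ ≫ inj F s m' hm' := pullback.lift_snd _ _ _
  have hcov : Cov (fun l : Λ s => pullback.snd (ℓ s l) θ) :=
    Cov.pullback (ℓ s) (hℓ s) θ (fun l => pullback.fst (ℓ s l) θ) _
      (fun l => IsPullback.of_hasPullback _ _)
  apply hom_ext_of_cov _ hcov
  intro l
  let ρ : Rel Λ := ⟨s, l⟩
  let x : Finset M × Finset (Rel Λ) := (∅, {ρ})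
  have hρ : ρ ∈ x.2 := Finset.mem_singleton_self ρ
  have hs : s ⊆ σ x := rel_subset_σ x ρ hρ
  have e1 : pullback.snd (ℓ s l) θ ≫ pullback.fst (π m) (π m') ≫ g F π L ℓ c m =
      pullback.fst (ℓ s l) θ ≫ ra F π L ℓ ρ ≫ incl F hs ≫ Q F π L ℓ x ≫ c.ι.app x := by
    rw [← inj_Q_c_eq_g F π L ℓ c x m (hs hm), ← inj_incl_assoc F hs m hm, ← reassoc_of% hθ1,
      ← pullback.condition_assoc]
    rfl
  have e2 : pullback.snd (ℓ s l) θ ≫ pullback.snd (π m) (π m') ≫ g F π L ℓ c m' =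
      pullback.fst (ℓ s l) θ ≫ rb F π L ℓ ρ ≫ incl F hs ≫ Q F π L ℓ x ≫ c.ι.app x := by
    rw [← inj_Q_c_eq_g F π L ℓ c x m' (hs hm'), ← inj_incl_assoc F hs m' hm', ← reassoc_of% hθ2,
      ← pullback.condition_assoc]
    rfl
  rw [e1, e2, reassoc_of% (Q_condition F π L ℓ x ρ hρ)]

theorem exists_desc (hπ : Cov π) (hℓ : ∀ s, Cov (ℓ s)) :
    ∃ χ : X ⟶ c.pt, ∀ m, π m ≫ χ = g F π L ℓ c m :=
  exists_desc_of_cov π hπ (g F π L ℓ c) (g_compat F π L ℓ c hℓ)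

end Colimit

theorem cocone_isColimit (hπ : Cov π) (hℓ : ∀ s, Cov (ℓ s)) :
    Nonempty (IsColimit (cocone F π L ℓ)) := by
  have hχ : ∀ c : Cocone (diagram F π L ℓ), ∃ χ : X ⟶ c.pt, ∀ m, π m ≫ χ = g F π L ℓ c m :=
    fun c => exists_desc F π L ℓ c hπ hℓ
  choose χ hχ using hχ
  refine ⟨{ desc := χ, fac := ?_, uniq := ?_ }⟩
  · intro c x
    rw [← cancel_epi (Q F π L ℓ x), Q_cocone_assoc]
    apply K_hom_ext
    intro m hm
    rw [inj_P_assoc, hχ, inj_Q_c_eq_g]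
  · intro c χ' h
    apply hom_ext_of_cov π hπ
    intro m
    rw [hχ, g, ← h ({m}, ∅), Q_cocone_assoc, inj_P_assoc]

end Pres

end Groth.Agent.Lib.TFinFP
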