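import Groth.Agent.Lib.TFinFP5

/-!
# Locally coherent topoi: equivalence of the coherence conditions
-/

set_option autoImplicit false
open CategoryTheory CategoryTheory.Limits Opposite
universe u
open ToposFin

namespace Groth.Agent.Lib.TFinFP
open Groth.Agent.Lib.TFin Groth.Agent.Lib.TFinEps Groth.Agent.Lib.TFinCoprod
open Groth.Agent.Lib.TFinFilt

variable {C : Type u} [SmallCategory C] {J : GrothendieckTopology C}

/-- A retract of a coherent object is coherent. -/
lemma isCoherent_of_retract {X Y : Sh J} (i : X ⟶ Y) (p : Y ⟶ X) (hip : i ≫ p = 𝟙 X)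
    (hY : IsCoherent Y) : IsCoherent X := by
  constructor
  · refine isQC_of_cov_finite (κ := Unit) (fun _ => Y) (fun _ => p) ?_ (fun _ => hY.1)
    intro U x
    refine J.superset_covering ?_ (J.top_mem U)
    intro V f _
    refine ⟨(), ap i (res f x), ?_⟩
    rw [← ap_comp, hip]
    rfl
  · have : Mono (i ≫ p) := by rw [hip]; infer_instance
    have : Mono i := mono_of_mono i p
    exact isQS_of_mono i hY.2

/-- In a topos with coherent generators where coequalizers of coherent objects are coherent,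
every object is a small filtered colimit of coherent objects. -/
theorem exists_filtered_colimit_of_coherent (hE : HasCoherentGenerators J)
    (hA : ∀ (X₀ X₁ : Sh J) (a b : X₁ ⟶ X₀), IsCoherent X₀ → IsCoherent X₁ →
      IsCoherent (coequalizer a b)) (X : Sh J) :
    ∃ (I : Type u) (_ : SmallCategory I) (_ : IsFiltered I) (D : I ⥤ Sh J),
      (∀ i, IsCoherent (D.obj i)) ∧ Nonempty (X ≅ colimit D) := by
  classical
  obtain ⟨M, F, π, hF, hπ⟩ := hE X
  have hπ' : Cov π := (epi_sigmaDesc_iff_cov π).1 hπ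
  have hrel : ∀ s : Finset M, ∃ (Λ : Type u) (L : Λ → Sh J)
      (ℓ : ∀ l, L l ⟶ pullback (Pres.P F π s) (Pres.P F π s)),
      (∀ l, IsCoherent (L l)) ∧ Epi (Sigma.desc ℓ) := fun s => hE _
  choose Λ L ℓ hL hℓ using hrel
  have hℓ' : ∀ s, Cov (ℓ s) := fun s => (epi_sigmaDesc_iff_cov (ℓ s)).1 (hℓ s)
  refine ⟨Finset M × Finset (Pres.Rel Λ), inferInstance, inferInstance,
    Pres.diagram F π L ℓ, ?_, ?_⟩
  · intro x
    refine hA _ _ _ _ ?_ ?_
    · exact isCoherent_sigma_of_finite _ (fun m => hF m)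
    · exact isCoherent_sigma_of_finite _ (fun ρ => hL _ _)
  · obtain ⟨hc⟩ := Pres.cocone_isColimit F π L ℓ hπ' hℓ'
    exact ⟨hc.coconePointUniqueUpToIso (colimit.isColimit _)⟩

/-- The equivalence of the three coherence conditions. -/
theorem coherence_conditions (hE : HasCoherentGenerators J) :
    ((∀ (X₀ X₁ : Sh J) (a b : X₁ ⟶ X₀), IsCoherent X₀ → IsCoherent X₁ →
        IsCoherent (coequalizer a b)) ↔
      (∀ X : Sh J, IsFP X → IsCoherent X)) ∧
    ((∀ X : Sh J, ∃ (I : Type u) (_ : SmallCategory I) (_ : IsFiltered I) (D : I ⥤ Sh J),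
        (∀ i, IsCoherent (D.obj i)) ∧ Nonempty (X ≅ colimit D)) ↔
      (∀ X : Sh J, IsFP X → IsCoherent X)) := by
  have hQ := hasQCGenerators_of_hasCoherentGenerators hE
  have hBA : (∀ X : Sh J, IsFP X → IsCoherent X) →
      (∀ (X₀ X₁ : Sh J) (a b : X₁ ⟶ X₀), IsCoherent X₀ → IsCoherent X₁ →
        IsCoherent (coequalizer a b)) := by
    intro hB X₀ X₁ a b h₀ h₁
    exact hB _ (isFP_coequalizer a b (isFP_of_isCoherent _ hQ h₀) h₁.1)
  refine ⟨⟨?_, hBA⟩, ⟨?_, ?_⟩⟩
  · intro hA X hX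
    obtain ⟨X₀, X₁, a, b, i, p, h₀, h₁, hip⟩ :=
      (isFP_iff_retract_coequalizer_coherent hE X).1 hX
    exact isCoherent_of_retract i p hip (hA _ _ a b h₀ h₁)
  · intro hC X hX
    obtain ⟨I, _, _, D, hD, ⟨e⟩⟩ := hC X
    obtain ⟨j, χ, hχ⟩ := ((isFP_iff X).1 hX).2 I D (colimit.cocone D) (colimit.isColimit D) e.hom
    refine isCoherent_of_retract χ (colimit.ι D j ≫ e.inv) ?_ (hD j)
    have hχ' : χ ≫ colimit.ι D j = e.hom := hχ
    rw [reassoc_of% hχ', e.hom_inv_id]
  · intro hB X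
    exact exists_filtered_colimit_of_coherent hE (hBA hB) X

end Groth.Agent.Lib.TFinFP
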