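import Groth.Agent.Lib.TFinCoprod2
import Groth.Agent.Lib.TFinEps
import Mathlib.CategoryTheory.Limits.Types.Filtered
import Mathlib.CategoryTheory.Limits.FunctorCategory.Basic
import Mathlib.CategoryTheory.Filtered.Basic

/-!
# Filtered colimits in sheaf topoi and quasi-compact objects
-/

set_option autoImplicit false
open CategoryTheory CategoryTheory.Limits Opposite
universe u
open ToposFin

namespace Groth.Agent.Lib.TFinFilt
open Groth.Agent.Lib.TFin Groth.Agent.Lib.TFinEps Groth.Agent.Lib.TFinCoprod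

variable {C : Type u} [SmallCategory C] {J : GrothendieckTopology C}

section Local

variable {I : Type u} [SmallCategory I] (D : I ⥤ Sh J)

/-- The sieve of arrows along which two sections of members of a diagram become equal at a later
stage. -/
def eqSieve {U : C} {i j : I} (x : sec (D.obj i) U) (x' : sec (D.obj j) U) : Sieve U where
  arrows V g := ∃ (k : I) (a : i ⟶ k) (b : j ⟶ k),
    ap (D.map a) (res g x) = ap (D.map b) (res g x')
  downward_closed := by
    rintro V W g ⟨k, a, b, h⟩ f
    refine ⟨k, a, b, ?_⟩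
    rw [res_comp, res_comp, ap_res (D.map a) f, ap_res (D.map b) f, h]

/-- The legs of a colimit cocone of sheaves are jointly covering. -/
lemma cov_cocone (c : Cocone D) (hc : IsColimit c) : Cov (fun i => c.ι.app i) := by
  refine (epi_sigmaDesc_iff_cov (fun i => c.ι.app i)).1 ?_
  constructor
  intro Z a b hab
  refine hc.hom_ext (fun i => ?_)
  have := congrArg (fun t => Sigma.ι (fun i => D.obj i) i ≫ t) hab
  simpa using this

variable [IsFiltered I]

/-- Local injectivity of the legs of a filtered colimit of sheaves: sections which become equal in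
the colimit become equal, locally, at a later stage of the diagram. -/
theorem eqSieve_mem (c : Cocone D) (hc : IsColimit c) {U : C} {i j : I}
    (x : sec (D.obj i) U) (x' : sec (D.obj j) U)
    (h : ap (c.ι.app i) x = ap (c.ι.app j) x') : eqSieve D x x' ∈ J U := by
  let P : I ⥤ Cᵒᵖ ⥤ Type u := D ⋙ sheafToPresheaf J (Type u)
  let E : Cocone P := colimit.cocone P
  have hE : IsColimit E := colimit.isColimit P
  let c₀ : Cocone D := Sheaf.sheafifyCocone E
  have hc₀ : IsColimit c₀ := Sheaf.isColimitSheafifyCocone E hE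
  let e : c₀.pt ≅ c.pt := hc₀.coconePointUniqueUpToIso hc
  have he : ∀ i, c₀.ι.app i ≫ e.hom = c.ι.app i := fun i =>
    IsColimit.comp_coconePointUniqueUpToIso_hom _ _ _
  have key : ∀ (i : I) (x : sec (D.obj i) U), ap (c.ι.app i) x =
      ap e.hom ((toSheafify J E.pt).app (op U) ((E.ι.app i).app (op U) x)) := by
    intro i x
    rw [← he i, ap_comp]
    congr 1
    exact congrArg (fun t => t.app (op U) x) (Sheaf.sheafifyCocone_ι_app_val E i)
  rw [key i x, key j x'] at h
  have h2 := congrArg (fun t => ap e.inv t) h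
  simp only [← ap_comp, Iso.hom_inv_id, ap_id] at h2
  have h3 := Presheaf.equalizerSieve_mem J (toSheafify J E.pt) (X := op U) _ _ h2
  refine J.superset_covering ?_ h3
  intro V g hg
  have hg' : E.pt.map g.op ((E.ι.app i).app (op U) x) =
      E.pt.map g.op ((E.ι.app j).app (op U) x') := hg
  have n1 : E.pt.map g.op ((E.ι.app i).app (op U) x) = (E.ι.app i).app (op V) (res g x) :=
    (NatTrans.naturality_apply (E.ι.app i) g.op x).symm
  have n2 : E.pt.map g.op ((E.ι.app j).app (op U) x') = (E.ι.app j).app (op V) (res g x') :=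
    (NatTrans.naturality_apply (E.ι.app j) g.op x').symm
  rw [n1, n2] at hg'
  let ev := (evaluation Cᵒᵖ (Type u)).obj (op V)
  have hev : IsColimit (ev.mapCocone E) := isColimitOfPreserves ev hE
  obtain ⟨k, a, b, hk⟩ := (Types.FilteredColimit.isColimit_eq_iff (P ⋙ ev) hev
    (xi := res g x) (xj := res g x')).1 hg'
  exact ⟨k, a, b, hk⟩

end Local

section QCInj

variable {I : Type u} [SmallCategory I] [IsFiltered I] (D : I ⥤ Sh J)

omit [IsFiltered I] in
/-- In a filtered category, finitely many arrows with common source are dominated by one arrow. -/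
lemma exists_common_arrow [IsFiltered I] {i : I} {κ : Type*} (s : Finset κ) (k : κ → I)
    (f : ∀ m, i ⟶ k m) :
    ∃ (k' : I) (f' : i ⟶ k'), ∀ m ∈ s, ∃ c : k m ⟶ k', f m ≫ c = f' := by
  classical
  induction s using Finset.induction_on with
  | empty => exact ⟨i, 𝟙 i, by simp⟩
  | insert m s hm ih =>
    obtain ⟨k', f', h⟩ := ih
    obtain ⟨k'', g, g', hg⟩ := IsFiltered.span f' (f m)
    refine ⟨k'', f' ≫ g, ?_⟩
    intro m' hm'
    rcases Finset.mem_insert.1 hm' with rfl | hm'
    · exact ⟨g', hg.symm⟩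
    · obtain ⟨c, hc⟩ := h m' hm'
      exact ⟨c ≫ g, by rw [← Category.assoc, hc]⟩

/-- Morphisms from a quasi-compact object to a stage of a filtered diagram which agree in the
colimit agree at a later stage. -/
theorem exists_eq_of_isQC {X : Sh J} (hX : IsQC X) (c : Cocone D) (hc : IsColimit c) {i : I}
    (φ ψ : X ⟶ D.obj i) (h : φ ≫ c.ι.app i = ψ ≫ c.ι.app i) :
    ∃ (k : I) (f : i ⟶ k), φ ≫ D.map f = ψ ≫ D.map f := by
  let T : Type u := Σ (U : C) (x : sec X U),
    {t : Σ k, (i ⟶ k) // ap (D.map t.2) (ap φ x) = ap (D.map t.2) (ap ψ x)}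
  let F : T → Sh J := fun t => eps J t.1
  let π : ∀ t : T, F t ⟶ X := fun t => homOfSec J t.2.1
  have hπ : Cov π := by
    intro U x
    have h' : ap (c.ι.app i) (ap φ x) = ap (c.ι.app i) (ap ψ x) := by
      rw [← ap_comp, ← ap_comp, h]
    refine J.superset_covering ?_ (eqSieve_mem D c hc _ _ h')
    rintro V g ⟨k, a, b, hk⟩
    have hf : ap (D.map (a ≫ IsFiltered.coeqHom a b)) (ap φ (res g x)) =
        ap (D.map (a ≫ IsFiltered.coeqHom a b)) (ap ψ (res g x)) := by
      conv_rhs => rw [IsFiltered.coeq_condition a b]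
      rw [D.map_comp, D.map_comp, ap_comp, ap_comp, ap_res φ, ap_res ψ, hk]
    refine ⟨⟨V, res g x, ⟨⟨_, a ≫ IsFiltered.coeqHom a b⟩, hf⟩⟩, etaSec J V (𝟙 V), ?_⟩
    show ap (homOfSec J (res g x)) (etaSec J V (𝟙 V)) = res g x
    rw [ap_homOfSec, res_id]
  obtain ⟨s, hs⟩ := (isQC_iff_cov X).1 hX T F π hπ
  obtain ⟨k', f', hf'⟩ := exists_common_arrow s (fun t : T => t.2.2.1.1) (fun t => t.2.2.1.2)
  refine ⟨k', f', hom_ext_of_cov (fun t : s => π t) hs (fun t => ?_)⟩
  obtain ⟨c', hc'⟩ := hf' t.1 t.2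
  apply eps_hom_ext J
  have e1 : ap (π t.1) (etaSec J t.1.1 (𝟙 _)) = t.1.2.1 := by
    show ap (homOfSec J t.1.2.1) (etaSec J t.1.1 (𝟙 _)) = _
    rw [ap_homOfSec, res_id]
  rw [ap_comp, ap_comp, ap_comp, ap_comp, e1, ← hc', D.map_comp, ap_comp, ap_comp, t.1.2.2.2]

end QCInj

end Groth.Agent.Lib.TFinFilt
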