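import Groth.Agent.Lib.TFinFilt
import Mathlib.CategoryTheory.Limits.Shapes.Equalizers
import Mathlib.CategoryTheory.Limits.Shapes.BinaryProducts
import Mathlib.Order.Category.Preord
import Mathlib.Data.Finset.Lattice.Basic

/-!
# Quasi-compact objects and injectivity of `colim Hom(X, -) → Hom(X, colim -)`
-/

set_option autoImplicit false
open CategoryTheory CategoryTheory.Limits Opposite
universe u
open ToposFin

namespace Groth.Agent.Lib.TFinFilt
open Groth.Agent.Lib.TFin Groth.Agent.Lib.TFinEps Groth.Agent.Lib.TFinCoprod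

variable {C : Type u} [SmallCategory C] {J : GrothendieckTopology C}

section Post

variable {I : Type u} [SmallCategory I] (D : I ⥤ Sh J) (X : Sh J)

lemma post_ι_apply {i : I} (φ : X ⟶ D.obj i) :
    colimit.post D (coyoneda.obj (op X)) (colimit.ι (D ⋙ coyoneda.obj (op X)) i φ) =
      φ ≫ colimit.ι D i :=
  ConcreteCategory.congr_hom (colimit.ι_post D (coyoneda.obj (op X)) i) φ

variable [IsFiltered I]

/-- Quasi-compact objects: `colim Hom(X, D i) → Hom(X, colim D)` is injective. -/
theorem post_injective_of_isQC (hX : IsQC X) :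
    Function.Injective (colimit.post D (coyoneda.obj (op X))) := by
  intro z₁ z₂ hz
  obtain ⟨i, φ, ψ, rfl, rfl⟩ := Types.FilteredColimit.jointly_surjective_of_isColimit₂
    (colimit.isColimit (D ⋙ coyoneda.obj (op X))) z₁ z₂
  have hz' : colimit.post D (coyoneda.obj (op X)) (colimit.ι (D ⋙ coyoneda.obj (op X)) i φ) =
      colimit.post D (coyoneda.obj (op X)) (colimit.ι (D ⋙ coyoneda.obj (op X)) i ψ) := hz
  rw [post_ι_apply, post_ι_apply] at hz'
  obtain ⟨k, f, hf⟩ := exists_eq_of_isQC D hX (colimit.cocone D) (colimit.isColimit D) φ ψ hz'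
  exact (Types.FilteredColimit.isColimit_eq_iff' (colimit.isColimit (D ⋙ coyoneda.obj (op X)))
    φ ψ).2 ⟨k, f, hf⟩

end Post

section Converse

variable {X : Sh J} {M : Type u} (F : M → Sh J) (π : ∀ m, F m ⟶ X)

/-- The two maps whose coequalizer glues two copies of `X` along the members indexed by `s`. -/
noncomputable def glueA (s : Finset M) : (∐ fun m : s => F m) ⟶ X ⨿ X :=
  Sigma.desc (fun m => π m ≫ coprod.inl)

noncomputable def glueB (s : Finset M) : (∐ fun m : s => F m) ⟶ X ⨿ X :=
  Sigma.desc (fun m => π m ≫ coprod.inr)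

/-- Two copies of `X` glued along the members indexed by `s`. -/
noncomputable def glueObj (s : Finset M) : Sh J := coequalizer (glueA F π s) (glueB F π s)

noncomputable def glueQ (s : Finset M) : X ⨿ X ⟶ glueObj F π s :=
  coequalizer.π (glueA F π s) (glueB F π s)

lemma glue_condition (s : Finset M) (m : M) (hm : m ∈ s) :
    π m ≫ coprod.inl ≫ glueQ F π s = π m ≫ coprod.inr ≫ glueQ F π s := by
  have h : glueA F π s ≫ glueQ F π s = glueB F π s ≫ glueQ F π s :=
    coequalizer.condition (glueA F π s) (glueB F π s)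
  have h2 := congrArg (fun t => Sigma.ι (fun m : s => F m) ⟨m, hm⟩ ≫ t) h
  simp only [glueA, glueB, Sigma.ι_desc_assoc, Category.assoc] at h2
  exact h2

lemma glue_condition' {s s' : Finset M} (h : s ≤ s') :
    glueA F π s ≫ glueQ F π s' = glueB F π s ≫ glueQ F π s' := by
  apply Sigma.hom_ext
  intro m
  simp only [glueA, glueB, Sigma.ι_desc_assoc, Category.assoc]
  exact glue_condition F π s' m (h m.2)

noncomputable def glueMap {s s' : Finset M} (h : s ≤ s') : glueObj F π s ⟶ glueObj F π s' :=
  coequalizer.desc (glueQ F π s') (glue_condition' F π h)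

@[reassoc]
lemma glueQ_map {s s' : Finset M} (h : s ≤ s') :
    glueQ F π s ≫ glueMap F π h = glueQ F π s' :=
  coequalizer.π_desc _ _

/-- The filtered diagram of glued copies. -/
noncomputable def glueDiagram : Finset M ⥤ Sh J where
  obj s := glueObj F π s
  map f := glueMap F π (leOfHom f)
  map_id s := by
    apply coequalizer.hom_ext
    show glueQ F π s ≫ _ = glueQ F π s ≫ _
    rw [glueQ_map, Category.comp_id]
  map_comp f g := by
    apply coequalizer.hom_ext
    show glueQ F π _ ≫ _ = glueQ F π _ ≫ _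
    rw [glueQ_map, glueQ_map_assoc, glueQ_map]

/-- If the two inclusions of `X` into the glued object agree, the members indexed by `s` are
jointly epimorphic. -/
lemma epi_of_glue_eq (s : Finset M)
    (h : coprod.inl ≫ glueQ F π s = coprod.inr ≫ glueQ F π s) :
    Epi (Sigma.desc (fun m : s => π m)) := by
  constructor
  intro Z α β hαβ
  have hm : ∀ m : s, π m ≫ α = π m ≫ β := fun m => by
    have := congrArg (fun t => Sigma.ι (fun m : s => F m) m ≫ t) hαβ
    simpa using this
  have hc : glueA F π s ≫ coprod.desc α β = glueB F π s ≫ coprod.desc α β := by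
    apply Sigma.hom_ext
    intro m
    simp only [glueA, glueB, Sigma.ι_desc_assoc, Category.assoc]
    rw [coprod.inl_desc, coprod.inr_desc]
    exact hm m
  have h1 : glueQ F π s ≫ coequalizer.desc (coprod.desc α β) hc = coprod.desc α β :=
    coequalizer.π_desc _ _
  calc α = coprod.inl ≫ coprod.desc α β := (coprod.inl_desc α β).symm
    _ = coprod.inl ≫ glueQ F π s ≫ coequalizer.desc (coprod.desc α β) hc := by rw [h1]
    _ = coprod.inr ≫ glueQ F π s ≫ coequalizer.desc (coprod.desc α β) hc := by
      rw [← Category.assoc, h, Category.assoc]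
    _ = coprod.inr ≫ coprod.desc α β := by rw [h1]
    _ = β := coprod.inr_desc α β

lemma glueQ_ι {s s' : Finset M} (h : s ≤ s') :
    glueQ F π s ≫ colimit.ι (glueDiagram F π) s =
      glueQ F π s' ≫ colimit.ι (glueDiagram F π) s' := by
  rw [← colimit.w (glueDiagram F π) (homOfLE h)]
  exact glueQ_map_assoc F π h _

end Converse

/-- An object `X` such that `colim Hom(X, D i) → Hom(X, colim D)` is injective for all small
filtered diagrams is quasi-compact. -/
theorem isQC_of_post_injective (X : Sh J)
    (h : ∀ (I : Type u) [SmallCategory I] [IsFiltered I] (D : I ⥤ Sh J),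
      Function.Injective (colimit.post D (coyoneda.obj (op X)))) : IsQC X := by
  classical
  intro M F π hπ
  let D := glueDiagram F π
  let G := coyoneda.obj (op X)
  let u : ∀ s : Finset M, X ⟶ D.obj s := fun s => coprod.inl ≫ glueQ F π s
  let v : ∀ s : Finset M, X ⟶ D.obj s := fun s => coprod.inr ≫ glueQ F π s
  have huv : u ∅ ≫ colimit.ι D ∅ = v ∅ ≫ colimit.ι D ∅ := by
    rw [← cancel_epi (Sigma.desc π)]
    apply Sigma.hom_ext
    intro m
    have hle : (∅ : Finset M) ≤ {m} := Finset.empty_subset _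
    have e1 := glueQ_ι F π hle
    have e2 := glue_condition F π {m} m (Finset.mem_singleton_self m)
    calc Sigma.ι F m ≫ Sigma.desc π ≫ u ∅ ≫ colimit.ι D ∅
        = π m ≫ coprod.inl ≫ glueQ F π ∅ ≫ colimit.ι (glueDiagram F π) ∅ := by
          rw [Sigma.ι_desc_assoc]; rfl
      _ = π m ≫ coprod.inl ≫ glueQ F π {m} ≫ colimit.ι (glueDiagram F π) {m} := by rw [e1]
      _ = π m ≫ coprod.inr ≫ glueQ F π {m} ≫ colimit.ι (glueDiagram F π) {m} := by
          rw [← Category.assoc, ← Category.assoc, Category.assoc (π m), e2]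
          simp only [Category.assoc]
      _ = π m ≫ coprod.inr ≫ glueQ F π ∅ ≫ colimit.ι (glueDiagram F π) ∅ := by rw [e1]
      _ = Sigma.ι F m ≫ Sigma.desc π ≫ v ∅ ≫ colimit.ι D ∅ := by
          rw [Sigma.ι_desc_assoc]; rfl
  have h1 := h (Finset M) D
  have h2 : colimit.ι (D ⋙ G) ∅ (u ∅) = colimit.ι (D ⋙ G) ∅ (v ∅) := by
    apply h1
    rw [post_ι_apply, post_ι_apply]
    exact huv
  obtain ⟨s, f, hf⟩ := (Types.FilteredColimit.isColimit_eq_iff'
    (colimit.isColimit (D ⋙ G)) (u ∅) (v ∅)).1 h2
  refine ⟨s, epi_of_glue_eq F π s ?_⟩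
  have hf' : (coprod.inl ≫ glueQ F π ∅) ≫ glueMap F π (leOfHom f) =
      (coprod.inr ≫ glueQ F π ∅) ≫ glueMap F π (leOfHom f) := hf
  rw [Category.assoc, Category.assoc, glueQ_map] at hf'
  exact hf'

end Groth.Agent.Lib.TFinFilt
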