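import Groth.Agent.Lib.TFinAlg
import Mathlib.CategoryTheory.Limits.Preserves.Shapes.Products
import Mathlib.CategoryTheory.Adjunction.Limits

/-!
# Inverse image functors between sheaf topoi and finiteness conditions
-/

set_option autoImplicit false
universe u
open CategoryTheory CategoryTheory.Limits Opposite

namespace Groth.Agent.Lib.TFinFun

open _root_.ToposFin Groth.Agent.Lib.TFin Groth.Agent.Lib.TFinAlg

variable {C D : Type u} [SmallCategory C] [SmallCategory D] {J : GrothendieckTopology C}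
  {K : GrothendieckTopology D} (F : Sh K ⥤ Sh J) (R : Sh J ⥤ Sh K) (adj : F ⊣ R)

include adj

/-- A left adjoint preserves covering families. -/
lemma cov_map_of_adj {ι : Type u} {X : Sh K} {G : ι → Sh K} (π : ∀ i, G i ⟶ X) (hπ : Cov π) :
    Cov (fun i => F.map (π i)) := by
  rw [← epi_sigmaDesc_iff_cov] at hπ ⊢
  have := adj.leftAdjoint_preservesColimits
  have : F.PreservesEpimorphisms := inferInstance
  have h1 : Epi (F.map (Sigma.desc π)) := inferInstance
  rw [← sigmaComparison_map_desc]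
  infer_instance

lemma isQC_map_of_generating (S : Set (Sh K)) (hgen : IsGenerating S)
    (h : ∀ X ∈ S, IsQC (F.obj X)) (X : Sh K) (hX : IsQC X) : IsQC (F.obj X) := by
  obtain ⟨κ, _, G, π, hG, hπ⟩ := exists_finite_cov_of_isQC S hgen hX
  exact isQC_of_cov_finite _ _ (cov_map_of_adj F R adj π hπ) (fun k => h _ (hG k))

lemma isQS_map_of_generating [PreservesFiniteLimits F] (hE' : HasQCGenerators J)
    (S : Set (Sh K)) (hS : ∀ X ∈ S, IsCoherent X) (hgen : IsGenerating S)
    (h : ∀ X ∈ S, IsCoherent (F.obj X)) (X : Sh K) (hX : IsQS X) : IsQS (F.obj X) := by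
  obtain ⟨ι, G, π, hG, hπ⟩ := hgen X
  have hcov := cov_map_of_adj F R adj π (cov_of_jointlyEpi π hπ)
  refine isQS_of_cov_isQCHom _ _ hcov (fun i => h _ (hG i)) (fun i => ?_)
  refine isQCHom_of_cover_target hE' (F.map (π i)) _ _ hcov
    (fun j => (isQS_iff _).1 (h _ (hG j)).2 _ _ ?_)
  have sq := (IsPullback.of_hasPullback (π i) (π j)).map F
  refine isQC_of_iso sq.isoPullback ?_
  exact isQC_map_of_generating F R adj S hgen (fun X hX => (h X hX).1) _
    (hX _ _ (π i) (π j) (hS _ (hG i)).1 (hS _ (hG j)).1)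

theorem isQCHom_map [PreservesFiniteLimits F] (S : Set (Sh K)) (hqc : ∀ X ∈ S, IsQC X)
    (hgen : IsGenerating S) (hpb : ClosedUnderPullbacks S)
    (S' : Set (Sh J)) (hqc' : ∀ X ∈ S', IsQC X) (hgen' : IsGenerating S')
    (hFqc : ∀ X : Sh K, IsQC X → IsQC (F.obj X)) (hFqs : ∀ X : Sh K, IsQS X → IsQS (F.obj X))
    {X Y : Sh K} (v : X ⟶ Y) (hv : IsQCHom v) : IsQCHom (F.map v) := by
  obtain ⟨ι, G, π, hG, hπ⟩ := hgen Y
  have hcov := cov_map_of_adj F R adj π (cov_of_jointlyEpi π hπ)
  have hE' := hasQCGenerators_of_isGenerating S' hqc' hgen'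
  refine isQCHom_of_cover_target hE' (F.map v) _ _ hcov (fun i => ?_)
  refine (isQS_iff _).1 (hFqs _ (isQS_of_mem S hqc hgen hpb (hG i))) _ _ ?_
  have sq := (IsPullback.of_hasPullback v (π i)).map F
  exact isQC_of_iso sq.isoPullback (hFqc _ (hv _ (π i) (hqc _ (hG i))))

end Groth.Agent.Lib.TFinFun
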