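import Groth.Agent.Lib.TFunOpcycles
import Groth.Agent.Lib.TFunFlat
import Groth.Agent.Lib.TildePullback
import Mathlib.RingTheory.Flat.Stability
import Mathlib.RingTheory.Flat.FaithfullyFlat.Basic

set_option autoImplicit false
universe u

namespace Groth.Agent.Lib.TFunBC

open CategoryTheory CategoryTheory.Limits CohIII TensorProduct Groth.Agent.Lib.TFun

variable {A : Type u} [CommRing A] (B : Type u) [CommRing B] [Algebra A B]

/-- Extension of scalars along `A → B`. -/
noncomputable abbrev FB : ModuleCat.{u} A ⥤ ModuleCat.{u} B :=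
  ModuleCat.extendScalars (algebraMap A B)

/-- `B ⊗ -` applied to `Y → Y/range d` is exact and surjective. -/
theorem exact_FB_mkQ {X Y : ModuleCat.{u} A} (d : X ⟶ Y) :
    Function.Exact ((FB B).map d).hom
        ((FB B).map (ModuleCat.ofHom (LinearMap.range d.hom).mkQ)).hom ∧
      Function.Surjective ((FB B).map (ModuleCat.ofHom (LinearMap.range d.hom).mkQ)).hom := by
  let q : Y ⟶ ModuleCat.of A (Y ⧸ LinearMap.range d.hom) :=
    ModuleCat.ofHom (LinearMap.range d.hom).mkQ
  have hzero : d ≫ q = 0 := by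
    ext x
    exact (Submodule.Quotient.mk_eq_zero _).mpr ⟨x, rfl⟩
  let T : ShortComplex (ModuleCat.{u} A) := ShortComplex.mk d q hzero
  have hT : T.Exact := by
    rw [ShortComplex.ShortExact.moduleCat_exact_iff_function_exact]
    exact LinearMap.exact_map_mkQ_range d.hom
  have hepi : Epi T.g := (ModuleCat.epi_iff_surjective _).mpr (Submodule.mkQ_surjective _)
  have hpres : PreservesColimitsOfSize.{0, 0} (FB (A := A) B) :=
    (ModuleCat.extendRestrictScalarsAdj (algebraMap A B)).leftAdjoint_preservesColimits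
  have hTF : (T.map (FB B)).Exact :=
    hT.map_of_epi_of_preservesCokernel (FB B) hepi inferInstance
  have hepi' : Epi ((FB B).map q) := by
    have : (FB (A := A) B).IsLeftAdjoint :=
      (ModuleCat.extendRestrictScalarsAdj.{u, u, u} (algebraMap A B)).isLeftAdjoint
    exact (FB B).map_epi q
  exact ⟨(ShortComplex.ShortExact.moduleCat_exact_iff_function_exact _).mp hTF,
    (ModuleCat.epi_iff_surjective _).mp hepi'⟩

/-- `B ⊗ (Y / range d) ≃ (B ⊗ Y) / range (B ⊗ d)`. -/
noncomputable def cokerEquiv {X Y : ModuleCat.{u} A} (d : X ⟶ Y) :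
    ((FB B).obj Y ⧸ LinearMap.range ((FB B).map d).hom) ≃ₗ[B]
      (FB B).obj (ModuleCat.of A (Y ⧸ LinearMap.range d.hom)) :=
  (Submodule.quotEquivOfEq _ _ (exact_FB_mkQ B d).1.linearMap_ker_eq.symm) ≪≫ₗ
    LinearMap.quotKerEquivOfSurjective _ (exact_FB_mkQ B d).2

variable {ι : Type} {c : ComplexShape ι} (P : HomologicalComplex (ModuleCat.{u} A) c) (p : ι)

/-- The opcycles of the base-changed complex are the base change of the opcycles. -/
noncomputable def copcEquiv :
    Copc (bcCx (algebraMap A B) P) p ≃ₗ[B] B ⊗[A] Copc P p :=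
  cokerEquiv B (P.d (c.prev p) p) ≪≫ₗ
    Groth.Agent.Lib.TildePullback.extendScalarsEquiv A B (Copc P p)

theorem flat_Copc_bcCx_iff :
    Module.Flat B (Copc (bcCx (algebraMap A B) P) p) ↔ Module.Flat B (B ⊗[A] Copc P p) :=
  Module.Flat.equiv_iff (copcEquiv B P p)

theorem flat_bcCx_X (hP : ∀ i, Module.Flat A (P.X i)) (i : ι) :
    Module.Flat B ((bcCx (algebraMap A B) P).X i) := by
  have : Module.Flat A (P.X i) := hP i
  exact (Module.Flat.equiv_iff
    (Groth.Agent.Lib.TildePullback.extendScalarsEquiv A B (P.X i))).mpr inferInstance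

/-- `T^B_p` preserves monos iff `B ⊗ C_p` is `B`-flat. -/
theorem preservesMono_bcCx_iff (hP : ∀ i, Module.Flat A (P.X i)) :
    (TFun (bcCx (algebraMap A B) P) p).PreservesMonomorphisms ↔
      Module.Flat B (B ⊗[A] Copc P p) := by
  rw [← flat_Copc_bcCx_iff]
  exact ⟨flat_Copc_of_preservesMono _ p (flat_bcCx_X B P hP _), preservesMono_of_flat_Copc _ p⟩

/-- `T_p` preserves monos iff `C_p` is flat. -/
theorem preservesMono_iff (hP : ∀ i, Module.Flat A (P.X i)) :
    (TFun P p).PreservesMonomorphisms ↔ Module.Flat A (Copc P p) :=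
  ⟨flat_Copc_of_preservesMono _ p (hP _), preservesMono_of_flat_Copc _ p⟩

/-- `T^B_i` preserves epis iff `B ⊗ C_j` is `B`-flat (`c.Rel i j`). -/
theorem preservesEpi_bcCx_iff (hP : ∀ i, Module.Flat A (P.X i)) (i j : ι) (hij : c.Rel i j) :
    (TFun (bcCx (algebraMap A B) P) i).PreservesEpimorphisms ↔
      Module.Flat B (B ⊗[A] Copc P j) := by
  rw [preservesEpi_iff_preservesMono (bcCx (algebraMap A B) P) (flat_bcCx_X B P hP) i j hij,
    preservesMono_bcCx_iff B P j hP]

/-- `T_i` preserves epis iff `C_j` is flat (`c.Rel i j`). -/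
theorem preservesEpi_iff (hP : ∀ i, Module.Flat A (P.X i)) (i j : ι) (hij : c.Rel i j) :
    (TFun P i).PreservesEpimorphisms ↔ Module.Flat A (Copc P j) := by
  rw [preservesEpi_iff_preservesMono P hP i j hij, preservesMono_iff P j hP]

end Groth.Agent.Lib.TFunBC
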