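import Groth.Agent.Lib.TFun
import Mathlib.Algebra.Homology.ShortComplex.ModuleCat

set_option autoImplicit false
universe u

namespace Groth.Agent.Lib.TFun

open CategoryTheory CategoryTheory.Limits MonoidalCategory CohIII TensorProduct

variable {A : Type u} [CommRing A] {ι : Type} {c : ComplexShape ι}
variable (P : HomologicalComplex (ModuleCat.{u} A) c) (p : ι)

/-- The short complex `P_{prev p} ⊗ M ⟶ P_p ⊗ M ⟶ P_{next p} ⊗ M`. -/
noncomputable abbrev scM (M : ModuleCat.{u} A) : ShortComplex (ModuleCat.{u} A) :=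
  (tensorObj P M).sc p

theorem scM_g_hom (M : ModuleCat.{u} A) :
    (scM P p M).g.hom = LinearMap.rTensor M (P.d p (c.next p)).hom := rfl

theorem scM_f_hom (M : ModuleCat.{u} A) :
    (scM P p M).f.hom = LinearMap.rTensor M (P.d (c.prev p) p).hom := rfl

/-- The class map from concrete cycles `ker (d ⊗ M)` to `T_p(M)`. -/
noncomputable def toT (M : ModuleCat.{u} A) :
    LinearMap.ker (scM P p M).g.hom →ₗ[A] (scM P p M).homology :=
  (scM P p M).moduleCatHomologyIso.inv.hom ∘ₗ
    (LinearMap.range (scM P p M).moduleCatToCycles).mkQ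

theorem toT_surjective (M : ModuleCat.{u} A) : Function.Surjective (toT P p M) := by
  have h1 : Function.Surjective (scM P p M).moduleCatHomologyIso.inv.hom :=
    (ModuleCat.epi_iff_surjective _).mp inferInstance
  exact h1.comp (Submodule.mkQ_surjective _)

theorem toT_eq_zero_iff (M : ModuleCat.{u} A) (z : LinearMap.ker (scM P p M).g.hom) :
    toT P p M z = 0 ↔ z.1 ∈ LinearMap.range (scM P p M).f.hom := by
  have h1 : Function.Injective (scM P p M).moduleCatHomologyIso.inv.hom :=
    (ModuleCat.mono_iff_injective _).mp inferInstance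
  have key : toT P p M z = 0 ↔ (LinearMap.range (scM P p M).moduleCatToCycles).mkQ z = 0 := by
    constructor
    · intro h
      exact h1 (h.trans (map_zero _).symm)
    · intro h
      exact (congrArg (scM P p M).moduleCatHomologyIso.inv.hom h).trans
        (map_zero (scM P p M).moduleCatHomologyIso.inv.hom)
  rw [key, Submodule.mkQ_apply, Submodule.Quotient.mk_eq_zero]
  constructor
  · rintro ⟨x, hx⟩
    exact ⟨x, congrArg Subtype.val hx⟩
  · rintro ⟨x, hx⟩
    exact ⟨x, Subtype.ext hx⟩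

/-- The morphism of short complexes induced by `g : M ⟶ N`. -/
noncomputable abbrev scMap {M N : ModuleCat.{u} A} (g : M ⟶ N) : scM P p M ⟶ scM P p N :=
  (HomologicalComplex.shortComplexFunctor (ModuleCat.{u} A) c p).map (tensorMap P g)

theorem scMap_τ₂_hom {M N : ModuleCat.{u} A} (g : M ⟶ N) :
    (scMap P p g).τ₂.hom = LinearMap.lTensor (P.X p) g.hom := rfl

theorem mem_ker_of_mem_ker {M N : ModuleCat.{u} A} (g : M ⟶ N)
    (z : LinearMap.ker (scM P p M).g.hom) :
    (scMap P p g).τ₂.hom z.1 ∈ LinearMap.ker (scM P p N).g.hom := by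
  rw [LinearMap.mem_ker]
  have h := congrArg (fun f => f.hom z.1) (scMap P p g).comm₂₃
  simp only [ModuleCat.hom_comp, LinearMap.coe_comp, Function.comp_apply] at h
  rw [h, LinearMap.mem_ker.mp z.2, map_zero]

/-- Naturality of the class map. -/
theorem TFun_map_toT {M N : ModuleCat.{u} A} (g : M ⟶ N) (z : LinearMap.ker (scM P p M).g.hom) :
    ((TFun P p).map g).hom (toT P p M z) =
      toT P p N ⟨(scMap P p g).τ₂.hom z.1, mem_ker_of_mem_ker P p g z⟩ := by
  let h₁ := (scM P p M).moduleCatLeftHomologyData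
  let h₂ := (scM P p N).moduleCatLeftHomologyData
  let γ : ShortComplex.LeftHomologyMapData (scMap P p g) h₁ h₂ := default
  have hcomm : ShortComplex.homologyMap (scMap P p g) ≫ h₂.homologyIso.hom =
      h₁.homologyIso.hom ≫ γ.φH := γ.homologyMap_comm
  have hcomm' : h₁.homologyIso.inv ≫ ShortComplex.homologyMap (scMap P p g) =
      γ.φH ≫ h₂.homologyIso.inv := by
    rw [Iso.inv_comp_eq, ← Category.assoc, Iso.eq_comp_inv]
    exact hcomm
  have hK : γ.φK.hom z = (⟨(scMap P p g).τ₂.hom z.1, mem_ker_of_mem_ker P p g z⟩ :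
      LinearMap.ker (scM P p N).g.hom) := by
    apply Subtype.ext
    have := congrArg (fun f => f.hom z) γ.commi
    exact this
  have h1 : ((TFun P p).map g).hom (toT P p M z) = (h₂.homologyIso.inv).hom (γ.φH.hom (h₁.π.hom z)) := by
    have := congrArg (fun f => f.hom (h₁.π.hom z)) hcomm'
    exact this
  rw [h1]
  have h2 : γ.φH.hom (h₁.π.hom z) = h₂.π.hom (γ.φK.hom z) := by
    have := congrArg (fun f => f.hom z) γ.commπ
    exact this
  rw [h2, hK]
  rfl

section cls

variable {P p}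

/-- Commutation of `rTensor` and `lTensor` on elements. -/
theorem rTensor_lTensor_apply {X Y M N : Type*} [AddCommGroup X] [AddCommGroup Y] [AddCommGroup M]
    [AddCommGroup N] [Module A X] [Module A Y] [Module A M] [Module A N]
    (f : X →ₗ[A] Y) (g : M →ₗ[A] N) (z : X ⊗[A] M) :
    LinearMap.rTensor N f (LinearMap.lTensor X g z) = LinearMap.lTensor Y g (LinearMap.rTensor M f z) := by
  induction z using TensorProduct.induction_on with
  | zero => simp
  | tmul x m => simp
  | add z₁ z₂ h₁ h₂ => simp only [map_add, h₁, h₂]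

/-- The homology class in `T_p(M)` of a cycle `z ∈ P_p ⊗ M`. -/
noncomputable def cls {M : ModuleCat.{u} A} (z : P.X p ⊗[A] M)
    (hz : LinearMap.rTensor M (P.d p (c.next p)).hom z = 0) : (TFun P p).obj M :=
  toT P p M ⟨z, LinearMap.mem_ker.mpr hz⟩

theorem exists_cls {M : ModuleCat.{u} A} (t : (TFun P p).obj M) :
    ∃ (z : P.X p ⊗[A] M) (hz : LinearMap.rTensor M (P.d p (c.next p)).hom z = 0), cls z hz = t := by
  obtain ⟨⟨z, hz⟩, rfl⟩ := toT_surjective P p M t
  exact ⟨z, LinearMap.mem_ker.mp hz, rfl⟩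

theorem cls_eq_zero_iff {M : ModuleCat.{u} A} (z : P.X p ⊗[A] M)
    (hz : LinearMap.rTensor M (P.d p (c.next p)).hom z = 0) :
    cls z hz = 0 ↔ ∃ y : P.X (c.prev p) ⊗[A] M, LinearMap.rTensor M (P.d (c.prev p) p).hom y = z :=
  toT_eq_zero_iff P p M ⟨z, LinearMap.mem_ker.mpr hz⟩

theorem lTensor_cycle {M N : ModuleCat.{u} A} (g : M ⟶ N) (z : P.X p ⊗[A] M)
    (hz : LinearMap.rTensor M (P.d p (c.next p)).hom z = 0) :
    LinearMap.rTensor N (P.d p (c.next p)).hom (LinearMap.lTensor (P.X p) g.hom z) = 0 := by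
  rw [rTensor_lTensor_apply, hz, map_zero]

theorem map_cls {M N : ModuleCat.{u} A} (g : M ⟶ N) (z : P.X p ⊗[A] M)
    (hz : LinearMap.rTensor M (P.d p (c.next p)).hom z = 0) :
    ((TFun P p).map g).hom (cls z hz) =
      cls (LinearMap.lTensor (P.X p) g.hom z) (lTensor_cycle g z hz) :=
  TFun_map_toT P p g ⟨z, LinearMap.mem_ker.mpr hz⟩

theorem cls_add {M : ModuleCat.{u} A} (z z' : P.X p ⊗[A] M)
    (hz : LinearMap.rTensor M (P.d p (c.next p)).hom z = 0)
    (hz' : LinearMap.rTensor M (P.d p (c.next p)).hom z' = 0) :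
    cls (z + z') (by rw [map_add, hz, hz', add_zero]) = cls z hz + cls z' hz' :=
  map_add (toT P p M) ⟨z, LinearMap.mem_ker.mpr hz⟩ ⟨z', LinearMap.mem_ker.mpr hz'⟩

theorem cls_smul {M : ModuleCat.{u} A} (a : A) (z : P.X p ⊗[A] M)
    (hz : LinearMap.rTensor M (P.d p (c.next p)).hom z = 0) :
    cls (a • z) (by rw [map_smul, hz, smul_zero]) = a • cls z hz :=
  map_smul (toT P p M) a ⟨z, LinearMap.mem_ker.mpr hz⟩

theorem cls_congr {M : ModuleCat.{u} A} {z z' : P.X p ⊗[A] M} (h : z = z')
    (hz : LinearMap.rTensor M (P.d p (c.next p)).hom z = 0) :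
    cls z hz = cls z' (h ▸ hz) := by
  subst h
  rfl

end cls

end Groth.Agent.Lib.TFun
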