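import Groth.Agent.Lib.TFunCompare
import Mathlib.Algebra.Category.ModuleCat.Descent
import Mathlib.RingTheory.RingHom.Flat

set_option autoImplicit false
universe u

namespace Groth.Agent.Lib.TFunFlatBC

open CategoryTheory CategoryTheory.Limits MonoidalCategory CohIII TensorProduct Groth.Agent.Lib.TFun
  Groth.Agent.Lib.TFunCompare

variable {A : Type u} [CommRing A] (B : Type u) [CommRing B] [Algebra A B] [Module.Flat A B]

instance : PreservesFiniteLimits (FB (A := A) B) :=
  ModuleCat.preservesFiniteLimits_extendScalars_of_flat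
    ((RingHom.flat_algebraMap_iff).mpr inferInstance)

instance : PreservesFiniteColimits (FB (A := A) B) :=
  ⟨fun _ _ _ => ⟨fun {_} => inferInstance⟩⟩

instance : (FB (A := A) B).PreservesHomology := {}

variable {ι : Type} {c : ComplexShape ι} (P : HomologicalComplex (ModuleCat.{u} A) c) (p : ι)

/-- Flat base change for homology, `B`-linearly: `H_p(B ⊗ P) ≅ B ⊗ H_p(P)`. -/
noncomputable def homologyFBIso :
    (bcCx (algebraMap A B) P).homology p ≅ (FB (A := A) B).obj (P.homology p) :=
  (P.sc p).mapHomologyIso (FB (A := A) B)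

/-- `H_p(B ⊗ P) ≃ B ⊗ H_p(P)` as `B`-modules. -/
noncomputable def homologyFBEquiv :
    (bcCx (algebraMap A B) P).homology p ≃ₗ[B] B ⊗[A] (P.homology p) :=
  (homologyFBIso B P p).toLinearEquiv ≪≫ₗ
    Groth.Agent.Lib.TildePullback.extendScalarsEquiv A B (P.homology p)

end Groth.Agent.Lib.TFunFlatBC
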