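import Groth.Agent.Lib.TFunLESLength
import Groth.Agent.Lib.TFunUnit

set_option autoImplicit false
universe u

namespace Groth.Agent.Lib.TFunFiniteBelow

open CategoryTheory CategoryTheory.Limits MonoidalCategory CohIII TensorProduct Groth.Agent.Lib.TFun
  Groth.Agent.Lib.TFunUnit Groth.Agent.Lib.TFunLESLength

variable {A : Type u} [CommRing A] [IsNoetherianRing A]

omit [IsNoetherianRing A] in
/-- `T_q(L)` is finite for `L` finite flat when `H_q(P)` is finite. -/
theorem finite_TFun_obj_of_flat {ι : Type} {c : ComplexShape ι}
    (P : HomologicalComplex (ModuleCat.{u} A) c) (q : ι)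
    (hfin : Module.Finite A ((TFun P q).obj (ModuleCat.of A A)))
    (L : ModuleCat.{u} A) [Module.Flat A L] [Module.Finite A L] :
    Module.Finite A ((TFun P q).obj L) := by
  have h1 : Module.Finite A (P.homology q) := Module.Finite.equiv (TUnitIso P q).toLinearEquiv
  have h2 : Module.Finite A (P.homology q ⊗[A] L) := inferInstance
  exact Module.Finite.equiv (alpha P q L).toLinearEquiv.symm

/-- Over a Noetherian ring, for a bounded-below complex of flat modules with all `T_n(A)` finite,
`T_n(M)` is finite for every finite `M`. -/
theorem finite_TFun_obj_of_bddBelow (P : ChainComplex (ModuleCat.{u} A) ℤ)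
    (hP : ∀ i, Module.Flat A (P.X i)) (i₀ : ℤ) (hb : ∀ i < i₀, IsZero (P.X i))
    (hfin : ∀ n : ℤ, Module.Finite A ((TFun P n).obj (ModuleCat.of A A)))
    (n : ℤ) (M : ModuleCat.{u} A) [Module.Finite A M] : Module.Finite A ((TFun P n).obj M) := by
  have key : ∀ k : ℕ, ∀ q : ℤ, q < i₀ + k → ∀ (M : ModuleCat.{u} A), Module.Finite A M →
      Module.Finite A ((TFun P q).obj M) := by
    intro k
    induction k with
    | zero =>
      intro q hq M _
      have hz := isZero_TFun_obj_of_isZero P q (hb q (by simpa using hq)) M
      have : Subsingleton ((TFun P q).obj M) := ModuleCat.subsingleton_of_isZero hz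
      infer_instance
    | succ k ih =>
      intro q hq M hM
      obtain ⟨r, π, hπ⟩ := Module.Finite.exists_fin' A M
      let S : ShortComplex (ModuleCat.{u} A) :=
        ShortComplex.mk (ModuleCat.ofHom (LinearMap.ker π).subtype :
          ModuleCat.of A (LinearMap.ker π) ⟶ ModuleCat.of A (Fin r → A))
          (ModuleCat.ofHom π : ModuleCat.of A (Fin r → A) ⟶ M) (by
            ext x
            exact x.2)
      have hS : S.ShortExact := ModuleCat.shortComplex_shortExact S
        (LinearMap.exact_subtype_ker_map π) (Submodule.subtype_injective _) hπ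
      have h1 : Module.Finite A ((TFun P q).obj S.X₂) :=
        finite_TFun_obj_of_flat P q (hfin q) (ModuleCat.of A (Fin r → A))
      have h2 : Module.Finite A ((TFun P (q - 1)).obj S.X₁) :=
        ih (q - 1) (by push_cast at hq; omega) (ModuleCat.of A (LinearMap.ker π)) inferInstance
      have h3 : IsNoetherian A ((TFun P (q - 1)).obj S.X₁) := inferInstance
      exact finite_T_X₃ P hP S hS q (q - 1) (down_rel q)
  exact key ((n - i₀ + 1).toNat) n (by omega) M inferInstance

end Groth.Agent.Lib.TFunFiniteBelow
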