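import Groth.Agent.Lib.TFun

/-!
# `TFun` is functorial in the complex (helper44)

An isomorphism of complexes `P ≅ P'` induces a natural isomorphism `TFun P p ≅ TFun P' p`; preservation of
monomorphisms/epimorphisms does not change under composition with `forget₂ (ModuleCat A) AddCommGrpCat`.
-/

set_option autoImplicit false
universe u

open CategoryTheory CategoryTheory.Limits MonoidalCategory CohIII

namespace Groth.Agent.Lib.TFunMapIsoH44

variable {A : Type u} [CommRing A] {ι : Type} {c : ComplexShape ι}

/-- an isomorphism of complexes induces a natural isomorphism of the functors `M ↦ H_p(P ⊗ M)` -/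
noncomputable def TFunMapIso {P P' : HomologicalComplex (ModuleCat.{u} A) c} (e : P ≅ P') (p : ι) :
    TFun P p ≅ TFun P' p :=
  NatIso.ofComponents (fun M => (HomologicalComplex.homologyFunctor _ c p).mapIso
      (((tensorRight M).mapHomologicalComplex c).mapIso e)) (by
    intro M N g
    change HomologicalComplex.homologyMap (tensorMap P g) p ≫
        HomologicalComplex.homologyMap (((tensorRight N).mapHomologicalComplex c).map e.hom) p =
      HomologicalComplex.homologyMap (((tensorRight M).mapHomologicalComplex c).map e.hom) p ≫
        HomologicalComplex.homologyMap (tensorMap P' g) p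
    rw [← HomologicalComplex.homologyMap_comp, ← HomologicalComplex.homologyMap_comp]
    congr 1
    exact ((NatTrans.mapHomologicalComplex ((tensoringRight (ModuleCat.{u} A)).map g) c).naturality
      e.hom).symm)

/-- composing with the forgetful functor to abelian groups does not change whether monomorphisms are
preserved -/
theorem preservesMono_comp_forget₂_iff {C : Type*} [Category C] (T : C ⥤ ModuleCat.{u} A) :
    (T ⋙ forget₂ (ModuleCat.{u} A) AddCommGrpCat.{u}).PreservesMonomorphisms ↔
      T.PreservesMonomorphisms := by
  constructor
  · intro h
    refine ⟨fun {X Y} f hf => ?_⟩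
    have h1 : Mono ((T ⋙ forget₂ (ModuleCat.{u} A) AddCommGrpCat.{u}).map f) := h.preserves f
    exact (forget₂ (ModuleCat.{u} A) AddCommGrpCat.{u}).mono_of_mono_map h1
  · intro h
    refine ⟨fun {X Y} f hf => ?_⟩
    have h1 : Mono (T.map f) := h.preserves f
    show Mono ((forget₂ (ModuleCat.{u} A) AddCommGrpCat.{u}).map (T.map f))
    infer_instance

end Groth.Agent.Lib.TFunMapIsoH44
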