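import Mathlib.CategoryTheory.Limits.Shapes.Products
import Mathlib.CategoryTheory.Limits.Preserves.Shapes.Products
import Mathlib.CategoryTheory.Linear.LinearFunctor
import Mathlib.CategoryTheory.Preadditive.AdditiveFunctor

/-!
# The operator `1 - shift ∘ t` on a countable power (helper25)

For an object `K` with an endomorphism `t` in a preadditive category with countable products,
`delta K t : ∏ᶜ K ⟶ ∏ᶜ K` is `(x_n) ↦ (x_n - t x_{n+1})`.  If it is an isomorphism (i.e. the
derived limit `T(K, t)` of `… → K → K` vanishes), then every morphism `Y ⟶ K` from an object on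
which `t` "acts invertibly" vanishes.
-/

set_option autoImplicit false
universe w v u

open CategoryTheory Limits

namespace Groth.Agent.Lib.TKf

section delta

variable {D : Type u} [Category.{v} D] [Preadditive D] (K : D) [HasProduct (fun _ : ℕ => K)]
  (t : K ⟶ K)

/-- `(x_n) ↦ (x_n - t x_{n+1})` on the countable power of `K`. -/
noncomputable def delta : (∏ᶜ fun _ : ℕ => K) ⟶ ∏ᶜ fun _ : ℕ => K :=
  Pi.lift (fun n => Pi.π (fun _ : ℕ => K) n - Pi.π (fun _ : ℕ => K) (n + 1) ≫ t)

@[reassoc (attr := simp)]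
lemma delta_π (n : ℕ) :
    delta K t ≫ Pi.π (fun _ : ℕ => K) n =
      Pi.π (fun _ : ℕ => K) n - Pi.π (fun _ : ℕ => K) (n + 1) ≫ t := by
  simp [delta]

/-- if `delta K t` is a monomorphism, then a morphism `g : Y ⟶ K` which is infinitely
`t`-divisible in a compatible way vanishes. -/
lemma eq_zero_of_mono_delta [Mono (delta K t)] {Y : D} (g : ℕ → (Y ⟶ K))
    (hg : ∀ n, g (n + 1) ≫ t = g n) (n : ℕ) : g n = 0 := by
  have h0 : Pi.lift g ≫ delta K t = 0 := by
    apply Pi.hom_ext
    intro n
    rw [Category.assoc, delta_π, Preadditive.comp_sub, Pi.lift_π, Pi.lift_π_assoc, hg, sub_self,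
      zero_comp]
  have h1 : Pi.lift g = 0 := by
    rw [← cancel_mono (delta K t), h0, zero_comp]
  have := congrArg (fun m => m ≫ Pi.π (fun _ : ℕ => K) n) h1
  simpa using this

/-- iterates of an endomorphism -/
def iter {Y : D} (u : Y ⟶ Y) : ℕ → (Y ⟶ Y)
  | 0 => 𝟙 Y
  | n + 1 => iter u n ≫ u

/-- if `delta K t` is a monomorphism and `s : Y ⟶ Y` is an isomorphism with `s ≫ g = g ≫ t` for
all `g : Y ⟶ K`, then all morphisms `Y ⟶ K` vanish. -/
theorem eq_zero_of_isIso [Mono (delta K t)] {Y : D} (s : Y ⟶ Y) [IsIso s]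
    (hs : ∀ g : Y ⟶ K, s ≫ g = g ≫ t) (g : Y ⟶ K) : g = 0 := by
  have key := eq_zero_of_mono_delta K t (fun n => iter (inv s) n ≫ g) (fun n => by
    change ((iter (inv s) n ≫ inv s) ≫ g) ≫ t = _
    rw [Category.assoc, Category.assoc, ← hs, IsIso.inv_hom_id_assoc]) 0
  change 𝟙 Y ≫ g = 0 at key
  rwa [Category.id_comp] at key

end delta

section functor

variable {D : Type u} [Category.{v} D] [Preadditive D] {E : Type*} [Category E] [Preadditive E]
  (Φ : D ⥤ E) [Φ.Additive] (K : D) [HasProduct (fun _ : ℕ => K)]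
  [HasProduct (fun _ : ℕ => Φ.obj K)] (t : K ⟶ K)

lemma map_delta_comp_piComparison :
    Φ.map (delta K t) ≫ piComparison Φ (fun _ : ℕ => K) =
      piComparison Φ (fun _ : ℕ => K) ≫ delta (Φ.obj K) (Φ.map t) := by
  apply Pi.hom_ext
  intro n
  rw [Category.assoc, piComparison_comp_π, ← Φ.map_comp, delta_π, Category.assoc, delta_π,
    Preadditive.comp_sub, piComparison_comp_π, piComparison_comp_π_assoc, Φ.map_sub, Φ.map_comp]

lemma isIso_map_delta_iff [PreservesLimit (Discrete.functor (fun _ : ℕ => K)) Φ] :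
    IsIso (Φ.map (delta K t)) ↔ IsIso (delta (Φ.obj K) (Φ.map t)) := by
  have h := map_delta_comp_piComparison Φ K t
  constructor
  · intro _
    have : delta (Φ.obj K) (Φ.map t) = inv (piComparison Φ (fun _ : ℕ => K)) ≫
        Φ.map (delta K t) ≫ piComparison Φ (fun _ : ℕ => K) := by
      rw [h, IsIso.inv_hom_id_assoc]
    rw [this]
    infer_instance
  · intro _
    have : Φ.map (delta K t) = piComparison Φ (fun _ : ℕ => K) ≫
        delta (Φ.obj K) (Φ.map t) ≫ inv (piComparison Φ (fun _ : ℕ => K)) := by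
      rw [← Category.assoc, ← h, Category.assoc, IsIso.hom_inv_id, Category.comp_id]
    rw [this]
    infer_instance

end functor

end Groth.Agent.Lib.TKf
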