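import Groth.Agent.Lib.TKfAdj
import Mathlib.Algebra.Homology.DerivedCategory.HomologySequence

/-!
# Cohomological amplitude of derived completion (helper25)

* `step_isZero`, `steps_isZero`: each completion step loses at most one degree at the bottom.
* `exists_steps_iso_derivedCompletion`: any derived completion functor agrees on objects with
  the explicit construction of `Lib/TKfCompl`.
-/

set_option autoImplicit false
universe u

open CategoryTheory Limits Pretriangulated

attribute [local instance] HasDerivedCategory.standard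

namespace Groth.Agent.Lib.TKfAmp

open Groth.Agent.Lib.TKfMod Groth.Agent.Lib.TKfIdeal Groth.Agent.Lib.TKfCompl
  Groth.Agent.Lib.TKfAdj

variable {A : Type u} [CommRing A]

/-- the cohomology functors of `D(A)` -/
noncomputable abbrev H (A : Type u) [CommRing A] (i : ℤ) : Dual.D A ⥤ ModuleCat.{u} A :=
  DerivedCategory.homologyFunctor (ModuleCat.{u} A) i

lemma isZero_H_pi (X : Dual.D A) (i : ℤ) (h : IsZero ((H A i).obj X)) :
    IsZero ((H A i).obj (∏ᶜ fun _ : ℕ => X)) := by
  have e := PreservesProduct.iso (H A i) (fun _ : ℕ => X)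
  refine IsZero.of_iso ?_ e
  rw [IsZero.iff_id_eq_zero]
  apply Pi.hom_ext
  intro n
  exact h.eq_of_tgt _ _

lemma step_isZero (X X' : Dual.D A) (hs : Step X X') (S : Set ℤ)
    (hX : ∀ i ∈ S, IsZero ((H A i).obj X)) (i : ℤ) (hi : i ∈ S) (hi1 : i + 1 ∈ S) :
    IsZero ((H A i).obj X') := by
  obtain ⟨C, δ, j, p, η, ρ, w, hT, hT2⟩ := hs
  have hC : IsZero ((H A i).obj C) :=
    (DerivedCategory.HomologySequence.exact₃ _ hT i (i + 1) rfl).isZero_of_both_isZero
      (isZero_H_pi X i (hX i hi)) (isZero_H_pi X (i + 1) (hX (i + 1) hi1))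
  exact (DerivedCategory.HomologySequence.exact₂ _ hT2 i).isZero_of_both_isZero (hX i hi) hC

lemma steps_isZero (n : ℕ) (X X' : Dual.D A) (hs : Steps n X X') (S : Set ℤ)
    (hX : ∀ i ∈ S, IsZero ((H A i).obj X)) :
    ∀ i : ℤ, (∀ k : ℕ, k ≤ n → i + k ∈ S) → IsZero ((H A i).obj X') := by
  induction hs with
  | zero K =>
    intro i hi
    have := hi 0 le_rfl
    simp only [Nat.cast_zero, add_zero] at this
    exact hX i this
  | @succ n K K₁ K₂ _ hstep ih =>
    intro i hi
    refine step_isZero K₁ K₂ hstep {i | ∀ k : ℕ, k ≤ n → i + k ∈ S} (fun i hi' => ih hX i hi') i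
      (fun k hk => hi k (Nat.le_succ_of_le hk)) (fun k hk => ?_)
    have := hi (k + 1) (Nat.succ_le_succ hk)
    have e : i + 1 + (k : ℤ) = i + ((k + 1 : ℕ) : ℤ) := by push_cast; ring
    rw [e]
    exact this

/-- Any derived completion of `K` is isomorphic to the explicit iterated construction. -/
theorem exists_steps_iso_derivedCompletion (s : Finset A) (I : Ideal A)
    (hs : Ideal.span (s : Set A) = I) [DRing.HasDerivedCompletion I] (K : Dual.D A) :
    ∃ Khat : Dual.D A, Steps s.card K Khat ∧
      Nonempty (((DRing.derivedCompletion I).obj K).obj ≅ Khat) := by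
  subst hs
  obtain ⟨Khat, η, h1, h2, hst⟩ := exists_completion_list_steps (A := A) s.toList K
  rw [Finset.length_toList] at hst
  refine ⟨Khat, hst, ?_⟩
  set I := Ideal.span (s : Set A)
  set Kc := (DRing.derivedCompletion I).obj K
  set η' := DRing.toDerivedCompletion I K
  have hKc : ∀ f ∈ s.toList, Cpl f Kc.obj := (isDerivedComplete_iff_forall_Cpl s _).mp Kc.property
  have hKhat : DRing.IsDerivedComplete I Khat := (isDerivedComplete_iff_forall_Cpl s _).mpr h1
  obtain ⟨g, hg⟩ := (h2 _ hKc).2 η'
  change η ≫ g = η' at hg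
  let Z : DRing.DComp I := ⟨Khat, hKhat⟩
  let g'' : Kc ⟶ Z := ((DRing.derivedCompletionAdj I).homEquiv K Z).symm η
  have hg'' : η' ≫ g''.hom = η := by
    have := ((DRing.derivedCompletionAdj I).homEquiv K Z).apply_symm_apply η
    rw [Adjunction.homEquiv_unit] at this
    exact this
  refine ⟨⟨g''.hom, g, ?_, ?_⟩⟩
  · have h3 : g'' ≫ ObjectProperty.homMk g = 𝟙 Kc := by
      apply ((DRing.derivedCompletionAdj I).homEquiv K Kc).injective
      rw [Adjunction.homEquiv_unit, Adjunction.homEquiv_unit]
      change η' ≫ g''.hom ≫ g = η' ≫ 𝟙 _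
      rw [← Category.assoc, hg'', hg, Category.comp_id]
    have := congrArg (fun m => m.hom) h3
    exact this
  · apply (h2 Khat h1).1
    change η ≫ g ≫ g''.hom = η ≫ 𝟙 Khat
    rw [← Category.assoc, hg, hg'', Category.comp_id]

end Groth.Agent.Lib.TKfAmp
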