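import Groth.Agent.Lib.TKf
import Mathlib.CategoryTheory.Triangulated.Pretriangulated
import Mathlib.CategoryTheory.Shift.Linear
import Mathlib.CategoryTheory.Limits.Preserves.Shapes.Products
import Mathlib.CategoryTheory.Adjunction.Limits

/-!
# Completion with respect to one element in a linear triangulated category (helper25)

Let `D` be an `A`-linear pretriangulated category with countable products, `f : A`.
An object `L` is `f`-complete (`Cpl f L`) if `Hom(Y, L) = 0` for all `Y` on which `f` acts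
invertibly.  For every `K` we construct `η : K ⟶ Khat` with `Khat` `f`-complete and universal
among maps to `f`-complete objects (`exists_completion`), where `Khat` is the cone of
`T(K, f) ⟶ K`, `T(K, f)` the homotopy limit of `⋯ →f K →f K`.
-/

set_option autoImplicit false
set_option linter.unusedSectionVars false
universe w v u

open CategoryTheory Limits Pretriangulated

namespace Groth.Agent.Lib.TKfCompl

open Groth.Agent.Lib.TKf

section fan

variable {D : Type u} [Category.{v} D] [Preadditive D]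
  {K' P' : D} (π' : ℕ → (P' ⟶ K')) (hc : IsLimit (Fan.mk P' π')) (t' : K' ⟶ K') (δ' : P' ⟶ P')
  (hδ : ∀ n, δ' ≫ π' n = π' n - π' (n + 1) ≫ t')
  {Y : D} (s : Y ⟶ Y) [IsIso s] (hs : ∀ g : Y ⟶ K', s ≫ g = g ≫ t')

include hc hδ hs

/-- uniqueness of compatible divisible families -/
lemma fan_eq_zero (g : Y ⟶ P') (h1 : g ≫ δ' = 0) (h0 : g ≫ π' 0 = 0) : g = 0 := by
  have hn : ∀ n, g ≫ π' n = 0 := by
    intro n
    induction n with
    | zero => exact h0
    | succ n ih =>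
      have h2 := congrArg (fun m => m ≫ π' n) h1
      simp only [Category.assoc, zero_comp, hδ, Preadditive.comp_sub, ih, zero_sub, neg_eq_zero]
        at h2
      rw [← Category.assoc, ← hs] at h2
      rw [← cancel_epi s, h2, comp_zero]
  apply Fan.IsLimit.hom_ext hc
  intro n
  rw [zero_comp]
  exact hn n

/-- `δ'` is surjective on `Hom(Y, -)` -/
lemma fan_exists_comp_eq (m : Y ⟶ P') : ∃ g : Y ⟶ P', g ≫ δ' = m := by
  let gs : ℕ → (Y ⟶ K') := fun n => Nat.rec (0 : Y ⟶ K')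
    (fun n gn => inv s ≫ (gn - m ≫ π' n)) n
  have hgs : ∀ n, s ≫ gs (n + 1) = gs n - m ≫ π' n := fun n => by
    change s ≫ inv s ≫ _ = _
    rw [IsIso.hom_inv_id_assoc]
  refine ⟨Fan.IsLimit.lift hc gs, ?_⟩
  apply Fan.IsLimit.hom_ext hc
  intro n
  change (_ ≫ δ') ≫ π' n = m ≫ π' n
  have h1 : ∀ k, Fan.IsLimit.lift hc gs ≫ π' k = gs k := fun k => Fan.IsLimit.fac hc gs k
  rw [Category.assoc, hδ, Preadditive.comp_sub, h1, ← Category.assoc, h1, ← hs, hgs]
  abel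

/-- compatible divisible families with given `0`-th component exist -/
lemma fan_exists_lift (h : Y ⟶ K') : ∃ g : Y ⟶ P', g ≫ δ' = 0 ∧ g ≫ π' 0 = h := by
  let gs : ℕ → (Y ⟶ K') := fun n => Nat.rec h (fun _ gn => inv s ≫ gn) n
  have hgs : ∀ n, s ≫ gs (n + 1) = gs n := fun n => by
    change s ≫ inv s ≫ _ = _
    rw [IsIso.hom_inv_id_assoc]
  have h1 : ∀ k, Fan.IsLimit.lift hc gs ≫ π' k = gs k := fun k => Fan.IsLimit.fac hc gs k
  refine ⟨Fan.IsLimit.lift hc gs, ?_, h1 0⟩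
  apply Fan.IsLimit.hom_ext hc
  intro n
  change (_ ≫ δ') ≫ π' n = 0 ≫ π' n
  rw [Category.assoc, hδ, Preadditive.comp_sub, h1, ← Category.assoc, h1, ← hs, hgs, sub_self,
    zero_comp]

end fan

section linear

variable {A : Type w} [CommRing A] {D : Type u} [Category.{v} D] [Preadditive D] [Linear A D]

lemma smul_id_comp (a : A) {X Y : D} (g : X ⟶ Y) : (a • 𝟙 X) ≫ g = a • g := by
  rw [Linear.smul_comp, Category.id_comp]

lemma comp_smul_id (a : A) {X Y : D} (g : X ⟶ Y) : g ≫ (a • 𝟙 Y) = a • g := by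
  rw [Linear.comp_smul, Category.comp_id]

lemma isIso_smul_map' {E : Type*} [Category E] [Preadditive E] [Linear A E] (Φ : D ⥤ E)
    [Φ.Additive] [Φ.Linear A] (a : A) {X : D} (h : IsIso (a • 𝟙 X)) :
    IsIso (a • 𝟙 (Φ.obj X)) := by
  have : a • 𝟙 (Φ.obj X) = Φ.map (a • 𝟙 X) := by
    rw [Functor.map_smul, CategoryTheory.Functor.map_id]
  rw [this]
  infer_instance

/-- `L` is `f`-complete: it receives no nonzero map from an object on which `f` is invertible. -/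
def Cpl (f : A) (L : D) : Prop := ∀ Y : D, IsIso (f • 𝟙 Y) → ∀ g : Y ⟶ L, g = 0

end linear

section triangulated

variable {A : Type w} [CommRing A] {D : Type u} [Category.{v} D] [Preadditive D] [Linear A D]
  [HasZeroObject D] [HasShift D ℤ] [∀ n : ℤ, (shiftFunctor D n).Additive] [Pretriangulated D]
  [∀ n : ℤ, (shiftFunctor D n).Linear A]

/-- `f` acts invertibly on the cone of `1 - f S`. -/
theorem isIso_smul_cone {P C : D} (δ : P ⟶ P) (j : P ⟶ C) (p : C ⟶ P⟦(1 : ℤ)⟧)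
    (hT : Triangle.mk δ j p ∈ distTriang D) (S : P ⟶ P) (f : A) (hδ : δ = 𝟙 P - f • S) :
    IsIso (f • 𝟙 C) := by
  have comm : δ ≫ S = S ≫ δ := by
    rw [hδ, Preadditive.sub_comp, Preadditive.comp_sub, Category.id_comp, Category.comp_id,
      Linear.smul_comp, Linear.comp_smul]
  obtain ⟨σ, hσ1, hσ2⟩ := complete_distinguished_triangle_morphism _ _ hT hT S S comm
  change C ⟶ C at σ
  change j ≫ σ = S ≫ j at hσ1
  change p ≫ S⟦(1 : ℤ)⟧' = σ ≫ p at hσ2
  set c : C ⟶ C := 𝟙 C - f • σ with hc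
  have h1 : j ≫ c = 0 := by
    rw [hc, Preadditive.comp_sub, Category.comp_id, Linear.comp_smul, hσ1, ← Linear.smul_comp]
    have : j - (f • S) ≫ j = δ ≫ j := by
      rw [hδ, Preadditive.sub_comp, Category.id_comp]
    rw [this]
    exact comp_distTriang_mor_zero₁₂ _ hT
  have h2 : c ≫ p = 0 := by
    rw [hc, Preadditive.sub_comp, Category.id_comp, Linear.smul_comp, ← hσ2, ← Linear.comp_smul]
    have : p - p ≫ (f • S⟦(1 : ℤ)⟧') = p ≫ δ⟦(1 : ℤ)⟧' := by
      rw [hδ, Functor.map_sub, Functor.map_smul, CategoryTheory.Functor.map_id,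
        Preadditive.comp_sub, Category.comp_id]
    rw [this]
    exact comp_distTriang_mor_zero₃₁ _ hT
  obtain ⟨t, ht⟩ := Triangle.yoneda_exact₃ _ hT c h1
  change c = p ≫ t at ht
  have hcc : c ≫ c = 0 := by
    rw [ht, ← Category.assoc, ← ht, h2, zero_comp]
  have hfσ : f • σ = 𝟙 C - c := by rw [hc]; abel
  have e1 : (f • σ) ≫ (𝟙 C + c) = 𝟙 C := by
    rw [hfσ, Preadditive.sub_comp, Category.id_comp, Preadditive.comp_add, Category.comp_id, hcc,
      add_zero]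
    abel
  refine ⟨⟨σ ≫ (𝟙 C + c), ?_, ?_⟩⟩
  · rw [← Category.assoc, smul_id_comp]
    exact e1
  · rw [Category.assoc, comp_smul_id, ← smul_id_comp, ← Category.assoc, comp_smul_id]
    exact e1

lemma Cpl.of_iso {f : A} {L L' : D} (e : L ≅ L') (h : Cpl f L) : Cpl f L' := fun Y hY g => by
  have := h Y hY (g ≫ e.inv)
  rw [← cancel_mono e.inv, this, zero_comp]

lemma Cpl.shift {f : A} {L : D} (h : Cpl f L) (n : ℤ) : Cpl f (L⟦n⟧) := fun Y hY g => by
  have h0 := h _ (isIso_smul_map' (shiftFunctor D (-n)) f hY)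
    (g⟦-n⟧' ≫ (shiftShiftNeg L n).hom)
  apply (shiftFunctor D (-n)).map_injective
  rw [Functor.map_zero, ← cancel_mono (shiftShiftNeg L n).hom, h0, zero_comp]

lemma Cpl.of_triangle₂ {f : A} (T : Triangle D) (hT : T ∈ distTriang D) (h₁ : Cpl f T.obj₁)
    (h₃ : Cpl f T.obj₃) : Cpl f T.obj₂ := fun Y hY g => by
  obtain ⟨g', hg'⟩ := Triangle.coyoneda_exact₂ T hT g (h₃ Y hY _)
  rw [hg', h₁ Y hY g', zero_comp]

lemma Cpl.of_triangle₃ {f : A} (T : Triangle D) (hT : T ∈ distTriang D) (h₁ : Cpl f T.obj₁)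
    (h₂ : Cpl f T.obj₂) : Cpl f T.obj₃ := fun Y hY g => by
  obtain ⟨g', hg'⟩ := Triangle.coyoneda_exact₃ T hT g ((h₁.shift 1) Y hY _)
  rw [hg', h₂ Y hY g', zero_comp]

lemma Cpl.pi {f : A} {K : D} [HasProduct (fun _ : ℕ => K)] (h : Cpl f K) :
    Cpl f (∏ᶜ fun _ : ℕ => K) := fun Y hY g => by
  apply Pi.hom_ext
  intro n
  rw [zero_comp]
  exact h Y hY _

/-- the shift operator on a countable power -/
noncomputable def shiftPi (K : D) [HasProduct (fun _ : ℕ => K)] :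
    (∏ᶜ fun _ : ℕ => K) ⟶ ∏ᶜ fun _ : ℕ => K :=
  Pi.lift (fun n => Pi.π (fun _ : ℕ => K) (n + 1))

lemma delta_eq (f : A) (K : D) [HasProduct (fun _ : ℕ => K)] :
    delta K (f • 𝟙 K) = 𝟙 _ - f • shiftPi K := by
  apply Pi.hom_ext
  intro n
  rw [delta_π, Preadditive.sub_comp, Category.id_comp, Linear.smul_comp, shiftPi, Pi.lift_π,
    Linear.comp_smul, Category.comp_id]

/-- `X'` is obtained from `X` by one completion step: there are distinguished triangles
`∏ X ⟶ ∏ X ⟶ C ⟶` and `X ⟶ X' ⟶ C ⟶`. -/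
def Step (X X' : D) [HasProduct (fun _ : ℕ => X)] : Prop :=
  ∃ (C : D) (δ : (∏ᶜ fun _ : ℕ => X) ⟶ ∏ᶜ fun _ : ℕ => X) (j : (∏ᶜ fun _ : ℕ => X) ⟶ C)
    (p : C ⟶ (∏ᶜ fun _ : ℕ => X)⟦(1 : ℤ)⟧) (η : X ⟶ X') (ρ : X' ⟶ C) (w : C ⟶ X⟦(1 : ℤ)⟧),
    Triangle.mk δ j p ∈ distTriang D ∧ Triangle.mk η ρ w ∈ distTriang D

/-- `n` successive completion steps. -/
inductive Steps [∀ K : D, HasProduct (fun _ : ℕ => K)] : ℕ → D → D → Prop
  | zero (K : D) : Steps 0 K K
  | succ {n : ℕ} {K K₁ K₂ : D} : Steps n K K₁ → Step K₁ K₂ → Steps (n + 1) K K₂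

/-- Existence of the `f`-completion: a universal arrow to an `f`-complete object, which moreover
stays `g`-complete for every `g` for which `K` was; with the shape of the construction. -/
theorem exists_completion_step (f : A) (K : D) [HasProduct (fun _ : ℕ => K)] :
    ∃ (Khat : D) (η : K ⟶ Khat), Cpl f Khat ∧
      (∀ L : D, Cpl f L → Function.Bijective (fun h : Khat ⟶ L => η ≫ h)) ∧
      (∀ g : A, Cpl g K → Cpl g Khat) ∧ Step K Khat := by
  set P : D := ∏ᶜ fun _ : ℕ => K with hP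
  set δ : P ⟶ P := delta K (f • 𝟙 K) with hδdef
  obtain ⟨C, j, p, hT⟩ := distinguished_cocone_triangle δ
  have hC : IsIso (f • 𝟙 C) := isIso_smul_cone δ j p hT (shiftPi K) f (delta_eq f K)
  set w : C ⟶ K⟦(1 : ℤ)⟧ := p ≫ (Pi.π (fun _ : ℕ => K) 0)⟦(1 : ℤ)⟧' with hw
  obtain ⟨Khat, η, ρ, hT2⟩ := distinguished_cocone_triangle₂ w
  refine ⟨Khat, η, ?_, ?_, ?_, ⟨C, δ, j, p, η, ρ, w, hT, hT2⟩⟩
  · -- `Khat` is `f`-complete
    intro Y hY u
    have hs : ∀ (K' : D) (g : Y ⟶ K'), (f • 𝟙 Y) ≫ g = g ≫ (f • 𝟙 K') := fun K' g => by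
      rw [smul_id_comp, comp_smul_id]
    have hY1 : IsIso (f • 𝟙 (Y⟦(1 : ℤ)⟧)) := isIso_smul_map' (shiftFunctor D (1 : ℤ)) f hY
    have hs1 : ∀ (K' : D) (g : Y⟦(1 : ℤ)⟧ ⟶ K'),
        (f • 𝟙 (Y⟦(1 : ℤ)⟧)) ≫ g = g ≫ (f • 𝟙 K') := fun K' g => by
      rw [smul_id_comp, comp_smul_id]
    -- the two fans
    have hc0 : IsLimit (Fan.mk P (fun n => Pi.π (fun _ : ℕ => K) n)) := productIsProduct _
    have hc1 : IsLimit (Fan.mk (P⟦(1 : ℤ)⟧) (fun n => (Pi.π (fun _ : ℕ => K) n)⟦(1 : ℤ)⟧')) :=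
      isLimitFanMkObjOfIsLimit (shiftFunctor D (1 : ℤ)) _ _ hc0
    have hδ0 : ∀ n, δ ≫ Pi.π (fun _ : ℕ => K) n =
        Pi.π (fun _ : ℕ => K) n - Pi.π (fun _ : ℕ => K) (n + 1) ≫ (f • 𝟙 K) :=
      fun n => delta_π K (f • 𝟙 K) n
    have hδ1 : ∀ n, δ⟦(1 : ℤ)⟧' ≫ (Pi.π (fun _ : ℕ => K) n)⟦(1 : ℤ)⟧' =
        (Pi.π (fun _ : ℕ => K) n)⟦(1 : ℤ)⟧' -
          (Pi.π (fun _ : ℕ => K) (n + 1))⟦(1 : ℤ)⟧' ≫ (f • 𝟙 (K⟦(1 : ℤ)⟧)) := fun n => by
      rw [← Functor.map_comp, hδ0, Functor.map_sub, Functor.map_comp, Functor.map_smul,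
        CategoryTheory.Functor.map_id]
    -- Step 1 : `u ≫ ρ = 0`
    have step1 : u ≫ ρ = 0 := by
      have hvw : (u ≫ ρ) ≫ w = 0 := by
        rw [Category.assoc]
        have := comp_distTriang_mor_zero₂₃ _ hT2
        change ρ ≫ w = 0 at this
        rw [this, comp_zero]
      have hg : (u ≫ ρ) ≫ p = 0 := by
        have := hY
        refine fan_eq_zero _ hc1 (f • 𝟙 (K⟦(1 : ℤ)⟧)) (δ⟦(1 : ℤ)⟧') hδ1 (f • 𝟙 Y) (hs _) _ ?_ ?_
        · have := comp_distTriang_mor_zero₃₁ _ hT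
          change p ≫ δ⟦(1 : ℤ)⟧' = 0 at this
          rw [Category.assoc, this, comp_zero]
        · rw [Category.assoc]
          exact hvw
      obtain ⟨v', hv'⟩ : ∃ v' : Y ⟶ P, u ≫ ρ = v' ≫ j :=
        Triangle.coyoneda_exact₃ _ hT (u ≫ ρ) hg
      have := hY
      obtain ⟨g', hg'⟩ := fan_exists_comp_eq _ hc0 (f • 𝟙 K) δ hδ0 (f • 𝟙 Y) (hs _) v'
      have hδj := comp_distTriang_mor_zero₁₂ _ hT
      change δ ≫ j = 0 at hδj
      rw [hv', ← hg']
      exact (Category.assoc g' δ j).trans (by rw [hδj, comp_zero])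
    -- Step 2
    obtain ⟨u', hu'⟩ : ∃ u' : Y ⟶ K, u = u' ≫ η := Triangle.coyoneda_exact₂ _ hT2 u step1
    -- Step 3
    have step3 : u' ≫ η = 0 := by
      apply (shiftFunctor D (1 : ℤ)).map_injective
      rw [Functor.map_zero, Functor.map_comp]
      have := hY1
      obtain ⟨g, hg1, hg2⟩ := fan_exists_lift _ hc1 (f • 𝟙 (K⟦(1 : ℤ)⟧)) (δ⟦(1 : ℤ)⟧') hδ1
        (f • 𝟙 (Y⟦(1 : ℤ)⟧)) (hs1 _) (u'⟦(1 : ℤ)⟧')
      obtain ⟨g', hg'⟩ : ∃ g' : Y⟦(1 : ℤ)⟧ ⟶ C, g = g' ≫ p :=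
        Triangle.coyoneda_exact₃ _ (rot_of_distTriang _ hT) g (by
          change g ≫ (- δ⟦(1 : ℤ)⟧') = 0
          rw [Preadditive.comp_neg, hg1, neg_zero])
      have hwη := comp_distTriang_mor_zero₃₁ _ hT2
      change w ≫ η⟦(1 : ℤ)⟧' = 0 at hwη
      rw [← hg2, hg', Category.assoc, Category.assoc]
      have h3 : p ≫ (Pi.π (fun _ : ℕ => K) 0)⟦(1 : ℤ)⟧' ≫ η⟦(1 : ℤ)⟧' = 0 := by
        rw [← Category.assoc]
        exact hwη
      rw [h3, comp_zero]
    rw [hu', step3]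
  · -- universal property
    intro L hL
    constructor
    · intro h₁ h₂ h12
      have hd : η ≫ (h₁ - h₂) = 0 := by
        rw [Preadditive.comp_sub]
        exact sub_eq_zero.mpr h12
      obtain ⟨d', hd'⟩ : ∃ d' : C ⟶ L, h₁ - h₂ = ρ ≫ d' :=
        Triangle.yoneda_exact₂ _ hT2 (h₁ - h₂) hd
      have : d' = 0 := hL C hC d'
      rw [this, comp_zero] at hd'
      exact sub_eq_zero.mp hd'
    · intro h
      obtain ⟨g, hg⟩ : ∃ g : Khat ⟶ L, h = η ≫ g :=
        Triangle.yoneda_exact₂ _ (inv_rot_of_distTriang _ hT2) h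
          (hL _ (isIso_smul_map' (shiftFunctor D (-1 : ℤ)) f hC) _)
      exact ⟨g, hg.symm⟩
  · -- preservation of completeness with respect to other elements
    intro g0 hK
    have hPc : Cpl g0 P := hK.pi
    have hCc : Cpl g0 C := Cpl.of_triangle₃ _ hT hPc hPc
    exact Cpl.of_triangle₂ _ hT2 hK hCc

theorem exists_completion (f : A) (K : D) [HasProduct (fun _ : ℕ => K)] :
    ∃ (Khat : D) (η : K ⟶ Khat), Cpl f Khat ∧
      (∀ L : D, Cpl f L → Function.Bijective (fun h : Khat ⟶ L => η ≫ h)) ∧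
      (∀ g : A, Cpl g K → Cpl g Khat) := by
  obtain ⟨Khat, η, h1, h2, h3, -⟩ := exists_completion_step f K
  exact ⟨Khat, η, h1, h2, h3⟩

/-- Completion with respect to a finite list of elements, with the shape of the construction. -/
theorem exists_completion_list_steps [∀ K : D, HasProduct (fun _ : ℕ => K)] (l : List A) (K : D) :
    ∃ (Khat : D) (η : K ⟶ Khat), (∀ f ∈ l, Cpl f Khat) ∧
      (∀ L : D, (∀ f ∈ l, Cpl f L) → Function.Bijective (fun h : Khat ⟶ L => η ≫ h)) ∧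
      Steps l.length K Khat := by
  induction l with
  | nil =>
    refine ⟨K, 𝟙 K, fun f hf => by simp at hf, fun L _ => ?_, Steps.zero K⟩
    have : (fun h : K ⟶ L => 𝟙 K ≫ h) = id := by
      funext h
      exact Category.id_comp h
    rw [this]
    exact Function.bijective_id
  | cons f l ih =>
    obtain ⟨K₁, η₁, h1, h2, hst⟩ := ih
    obtain ⟨K₂, η₂, hc, hu, hp, hstep⟩ := exists_completion_step f K₁
    refine ⟨K₂, η₁ ≫ η₂, ?_, ?_, Steps.succ hst hstep⟩
    · intro g hg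
      rcases List.mem_cons.mp hg with rfl | hg'
      · exact hc
      · exact hp g (h1 g hg')
    · intro L hL
      have e1 := hu L (hL f (List.mem_cons_self))
      have e2 := h2 L (fun g hg => hL g (List.mem_cons_of_mem f hg))
      have : (fun h : K₂ ⟶ L => (η₁ ≫ η₂) ≫ h) =
          (fun h : K₁ ⟶ L => η₁ ≫ h) ∘ (fun h : K₂ ⟶ L => η₂ ≫ h) := by
        funext h
        exact Category.assoc _ _ _
      rw [this]
      exact e2.comp e1

/-- Completion with respect to a finite list of elements. -/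
theorem exists_completion_list [∀ K : D, HasProduct (fun _ : ℕ => K)] (l : List A) (K : D) :
    ∃ (Khat : D) (η : K ⟶ Khat), (∀ f ∈ l, Cpl f Khat) ∧
      (∀ L : D, (∀ f ∈ l, Cpl f L) → Function.Bijective (fun h : Khat ⟶ L => η ≫ h)) := by
  obtain ⟨Khat, η, h1, h2, -⟩ := exists_completion_list_steps l K
  exact ⟨Khat, η, h1, h2⟩

end triangulated

end Groth.Agent.Lib.TKfCompl
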