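import Groth.Agent.Lib.TKfNoeth
import Mathlib.Algebra.Homology.SingleHomology
import Mathlib.Algebra.Homology.DerivedCategory.FullyFaithful

/-!
# Unique extension to `A^∧ ⊗ X` of maps into derived complete modules (helper25)

`existsUnique_extension`: `A` Noetherian, `X` finite, `N` derived complete (sequence complete for
all `f ∈ I`): every linear map `X → N` extends uniquely along `X → A^∧ ⊗_A X`.
-/

set_option autoImplicit false
set_option linter.unusedSectionVars false
universe u

open CategoryTheory Limits Pretriangulated MonoidalCategory TensorProduct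

namespace Groth.Agent.Lib.TKfExt

open Groth.Agent.Lib.TorsionOrth Groth.Agent.Lib.TorsionOrthMod CochainComplex
  Groth.Agent.Lib.TKf Groth.Agent.Lib.TKfMod Groth.Agent.Lib.TKfCompl Groth.Agent.Lib.TKfAdj
  Groth.Agent.Lib.TKfKos Groth.Agent.Lib.TKfAmp Groth.Agent.Lib.TKfIdeal
  Groth.Agent.Lib.TKfNoeth Groth.Agent.Lib.SeqComplete

attribute [local instance] HasDerivedCategory.standard

section

variable {A : Type u} [CommRing A] [IsNoetherianRing A] (I : Ideal A)

/-- the complex `X[0]` -/
noncomputable abbrev sC (X : ModuleCat.{u} A) : Cx A :=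
  (HomologicalComplex.single (ModuleCat.{u} A) (ComplexShape.up ℤ) 0).obj X

lemma finH_sC (X : ModuleCat.{u} A) [Module.Finite A X] : FinH (DerivedCategory.Q.obj (sC X)) := by
  intro n
  let e := ((DerivedCategory.homologyFunctorFactors (ModuleCat.{u} A) n).app (sC X))
  by_cases hn : n = 0
  · subst hn
    let e2 := HomologicalComplex.singleObjHomologySelfIso (ComplexShape.up ℤ) 0 X
    exact Module.Finite.equiv (e ≪≫ e2).toLinearEquiv.symm
  · have hz : IsZero ((sC X).homology n) :=
      HomologicalComplex.isZero_single_obj_homology (ComplexShape.up ℤ) 0 X n hn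
    have hz' : IsZero ((H A n).obj (DerivedCategory.Q.obj (sC X))) := hz.of_iso e
    have : Subsingleton ((H A n).obj (DerivedCategory.Q.obj (sC X))) :=
      ModuleCat.subsingleton_of_isZero hz'
    infer_instance

/-- `A^∧ ⊗ (X[0]) ≅ (A^∧ ⊗ X)[0]` -/
noncomputable def cIso (X : ModuleCat.{u} A) : GB I (sC X) ≅ sC ((HB I).obj X) :=
  (HomologicalComplex.singleMapHomologicalComplex (HB I) (ComplexShape.up ℤ) 0).app X

lemma ηC_cIso (X : ModuleCat.{u} A) :
    ηC (HB I) (ηB I) (sC X) ≫ (cIso I X).hom =
      (HomologicalComplex.single (ModuleCat.{u} A) (ComplexShape.up ℤ) 0).map ((ηB I).app X) := by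
  apply HomologicalComplex.from_single_hom_ext
  rw [HomologicalComplex.comp_f, HomologicalComplex.single_map_f_self]
  change (ηB I).app _ ≫ ((HomologicalComplex.singleMapHomologicalComplex (HB I)
    (ComplexShape.up ℤ) 0).hom.app X).f 0 = _
  have hn := (ηB I).naturality
    (HomologicalComplex.singleObjXSelf (ComplexShape.up ℤ) 0 X).hom
  rw [HomologicalComplex.singleMapHomologicalComplex_hom_app_self, ← Category.assoc]
  erw [← hn]

/-- derived completeness of a module in terms of sequence completeness -/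
lemma isDerivedComplete_inD_of_isSeqComplete (N : Type u) [AddCommGroup N] [Module A N]
    (hN : ∀ f ∈ I, IsSeqComplete f N) : DRing.IsDerivedComplete I (Dual.inD A N) := by
  rw [isDerivedComplete_iff_le]
  intro f hf
  rw [mem_dcIdeal]
  exact (DC_inD_iff f N).mpr (hN f hf)

/-- **Unique extension**: for a finite module `X` over a Noetherian ring and a derived complete
module `N`, every linear map `X → N` extends uniquely to `A^∧ ⊗ X → N`. -/
theorem existsUnique_extension (X : Type u) [AddCommGroup X] [Module A X] [Module.Finite A X]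
    (N : Type u) [AddCommGroup N] [Module A N] (hN : ∀ f ∈ I, IsSeqComplete f N)
    (g : X →ₗ[A] N) :
    ∃! g' : AdicCompletion I A ⊗[A] X →ₗ[A] N,
      g' ∘ₗ (TensorProduct.mk A (AdicCompletion I A) X 1) = g := by
  obtain ⟨s, hs⟩ : I.FG := IsNoetherian.noetherian I
  have hl : Ideal.span {f | f ∈ s.toList} = I := by
    rw [← hs]
    congr 1
    ext f
    simp
  let X' : ModuleCat.{u} A := ModuleCat.of A X
  let N' : ModuleCat.{u} A := ModuleCat.of A N
  have hE : DRing.IsDerivedComplete I (Dual.inD A N) := isDerivedComplete_inD_of_isSeqComplete I N hN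
  have hb := bijective_comp_ηC I s.toList hl (sC X') (finH_sC X') (Dual.inD A N) hE
  let S := DerivedCategory.singleFunctor (ModuleCat.{u} A) 0
  let Sm : ((HB I).obj X' ⟶ N') → (DerivedCategory.Q.obj (sC ((HB I).obj X')) ⟶ Dual.inD A N) :=
    fun g' => S.map g'
  let Sm0 : (X' ⟶ N') → (DerivedCategory.Q.obj (sC X') ⟶ Dual.inD A N) := fun g' => S.map g'
  have hSm_inj : Function.Injective Sm := fun a b h => S.map_injective h
  have hSm_surj : Function.Surjective Sm := fun a => S.map_surjective a
  have hSm0_inj : Function.Injective Sm0 := fun a b h => S.map_injective h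
  -- the translation
  have key : ∀ g' : (HB I).obj X' ⟶ N',
      DerivedCategory.Q.map (ηC (HB I) (ηB I) (sC X')) ≫
        (DerivedCategory.Q.map (cIso I X').hom ≫ Sm g') = Sm0 ((ηB I).app X' ≫ g') := by
    intro g'
    rw [← Category.assoc, ← Functor.map_comp, ηC_cIso]
    exact (S.map_comp _ _).symm
  have hc : ∀ g₁ : DerivedCategory.Q.obj (GB I (sC X')) ⟶ Dual.inD A N,
      DerivedCategory.Q.map (cIso I X').hom ≫ DerivedCategory.Q.map (cIso I X').inv ≫ g₁ = g₁ := by
    intro g₁
    rw [← Category.assoc, ← Functor.map_comp, Iso.hom_inv_id, CategoryTheory.Functor.map_id,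
      Category.id_comp]
  have hc' : ∀ g₁ : DerivedCategory.Q.obj (sC ((HB I).obj X')) ⟶ Dual.inD A N,
      DerivedCategory.Q.map (cIso I X').inv ≫ DerivedCategory.Q.map (cIso I X').hom ≫ g₁ = g₁ := by
    intro g₁
    rw [← Category.assoc, ← Functor.map_comp, Iso.inv_hom_id, CategoryTheory.Functor.map_id,
      Category.id_comp]
  apply existsUnique_of_exists_of_unique
  · obtain ⟨g₁, hg₁⟩ := hb.2 (Sm0 (ModuleCat.ofHom g))
    change DerivedCategory.Q.map (ηC (HB I) (ηB I) (sC X')) ≫ g₁ = Sm0 (ModuleCat.ofHom g) at hg₁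
    obtain ⟨g', hg'⟩ := hSm_surj (DerivedCategory.Q.map (cIso I X').inv ≫ g₁)
    refine ⟨g'.hom, ?_⟩
    have h1 : Sm0 ((ηB I).app X' ≫ g') = Sm0 (ModuleCat.ofHom g) := by
      rw [← key g', hg', hc, hg₁]
    have h2 := hSm0_inj h1
    have h3 := congrArg (fun m => m.hom) h2
    exact h3
  · intro g₁ g₂ h₁ h₂
    have e0 : ∀ g₀ : AdicCompletion I A ⊗[A] X →ₗ[A] N,
        g₀ ∘ₗ (TensorProduct.mk A (AdicCompletion I A) X 1) = g →
        (ηB I).app X' ≫ ModuleCat.ofHom g₀ = ModuleCat.ofHom g := by
      intro g₀ h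
      rw [← h]
      rfl
    have e1 : Sm0 ((ηB I).app X' ≫ ModuleCat.ofHom g₁) =
        Sm0 ((ηB I).app X' ≫ ModuleCat.ofHom g₂) := by
      rw [e0 g₁ h₁, e0 g₂ h₂]
    rw [← key, ← key] at e1
    have e2 := hb.1 e1
    have e3 : Sm (ModuleCat.ofHom g₁) = Sm (ModuleCat.ofHom g₂) := by
      have := congrArg (fun m => DerivedCategory.Q.map (cIso I X').inv ≫ m) e2
      simp only [hc'] at this
      exact this
    have e4 := hSm_inj e3
    have e5 := congrArg (fun m => m.hom) e4
    exact e5

end

end Groth.Agent.Lib.TKfExt
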