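import Groth.Agent.Lib.TorsionOrth
import Groth.Agent.Lib.ConeNat
import Groth.Agent.Lib.DerivedCoprod
import Groth.Agent.Lib.DerivedHocolim
import Mathlib.Algebra.Homology.HomotopyCategory.Pretriangulated
import Mathlib.Algebra.Homology.Linear
import Mathlib.Algebra.Module.Torsion.Basic
import Mathlib.Algebra.Homology.ShortComplex.Linear
import Mathlib.Algebra.Homology.ShortComplex.ExactFunctor
import Mathlib.Algebra.Homology.QuasiIso
import Mathlib.RingTheory.Finiteness.Ideal

/-!
# Torsion modules are orthogonal to Koszul-acyclic maps in `D(A)` (helper25)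

* `cf f K`, `kd l K`: (iterated) cones of multiplication maps on a complex of `A`-modules, with
  functoriality `cfMap`, `kdMap`.
* `seqF`, `seqCocone`, `seqIsColimit`: an exhaustive increasing union of submodules is a colimit.
* `bij_of_kd`: if `φ : X ⟶ Y` becomes a quasi-isomorphism after applying `kd (f₁^m₁, …, f_r^m_r)`
  for all exponents, then `Hom(T, X[s]) → Hom(T, Y[s])` is bijective for every module `T` all of
  whose elements are killed by powers of the `f_i`.
* `NilD`-lemmas: homology of `kd (f^m) K` is `(f)`-power torsion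
  (`exists_pow_smul_homology_eq_zero`).
* `quasiIso_ηC`, `quasiIso_kdMap_ηC`: for an exact endofunctor `H` with `η : 𝟭 ⟶ H`.
-/

set_option autoImplicit false
universe w v u

open CategoryTheory Limits Pretriangulated Opposite

namespace Groth.Agent.Lib.TorsionOrthMod

open Groth.Agent.Lib.TorsionOrth CochainComplex Groth.Agent.Lib.ConeNat

attribute [local instance] HasDerivedCategory.standard

section defs

variable {A : Type u} [CommRing A]

/-- complexes of `A`-modules -/
abbrev Cx (A : Type u) [CommRing A] := CochainComplex (ModuleCat.{u} A) ℤ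

/-- the cone of multiplication by `f` on `K` -/
noncomputable def cf (f : A) (K : Cx A) : Cx A := mappingCone (f • 𝟙 K)

/-- functoriality of `cf` -/
noncomputable def cfMap (f : A) {K L : Cx A} (φ : K ⟶ L) : cf f K ⟶ cf f L :=
  mappingCone.map (f • 𝟙 K) (f • 𝟙 L) φ φ (by
    rw [Linear.smul_comp, Linear.comp_smul, Category.id_comp, Category.comp_id])

lemma cfMap_id (f : A) (K : Cx A) : cfMap f (𝟙 K) = 𝟙 _ := mappingCone.map_id _

lemma cfMap_comp (f : A) {K L M : Cx A} (φ : K ⟶ L) (ψ : L ⟶ M) :
    cfMap f (φ ≫ ψ) = cfMap f φ ≫ cfMap f ψ :=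
  mappingCone.map_comp _ _ _ _ _ _ _ _ _

/-- iterated cones (the head of the list is applied first). -/
noncomputable def kd : List A → Cx A → Cx A
  | [], K => K
  | f :: fs, K => kd fs (cf f K)

/-- functoriality of `kd` -/
noncomputable def kdMap : (l : List A) → {K L : Cx A} → (K ⟶ L) → (kd l K ⟶ kd l L)
  | [], _, _, φ => φ
  | f :: fs, _, _, φ => kdMap fs (cfMap f φ)

lemma kdMap_id (l : List A) (K : Cx A) : kdMap l (𝟙 K) = 𝟙 _ := by
  induction l generalizing K with
  | nil => rfl
  | cons f fs ih =>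
    change kdMap fs (cfMap f (𝟙 K)) = _
    rw [cfMap_id]
    exact ih _

lemma kdMap_comp (l : List A) {K L M : Cx A} (φ : K ⟶ L) (ψ : L ⟶ M) :
    kdMap l (φ ≫ ψ) = kdMap l φ ≫ kdMap l ψ := by
  induction l generalizing K L M with
  | nil => rfl
  | cons f fs ih =>
    change kdMap fs (cfMap f (φ ≫ ψ)) = kdMap fs (cfMap f φ) ≫ kdMap fs (cfMap f ψ)
    rw [cfMap_comp]
    exact ih _ _

lemma isIso_kdMap (l : List A) {K L : Cx A} (φ : K ⟶ L) [IsIso φ] : IsIso (kdMap l φ) :=
  ⟨kdMap l (inv φ), by rw [← kdMap_comp, IsIso.hom_inv_id, kdMap_id],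
    by rw [← kdMap_comp, IsIso.inv_hom_id, kdMap_id]⟩

end defs

section union

variable {A : Type u} [CommRing A] (T : ModuleCat.{u} A) (N : ℕ → Submodule A T)
  (hN : Monotone N)

/-- an increasing sequence of submodules as a functor -/
noncomputable def seqF : ℕ ⥤ ModuleCat.{u} A where
  obj n := ModuleCat.of A (N n)
  map {i j} h := ModuleCat.ofHom (Submodule.inclusion (hN (leOfHom h)))
  map_id := by intros; rfl
  map_comp := by intros; rfl

/-- the cocone to the ambient module -/
noncomputable def seqCocone : Cocone (seqF T N hN) where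
  pt := T
  ι := { app := fun n => ModuleCat.ofHom (N n).subtype
         naturality := by intros; rfl }

lemma cocone_app_eq (s : Cocone (seqF T N hN)) {n m : ℕ} (x : T) (hn : x ∈ N n) (hm : x ∈ N m) :
    s.ι.app n ⟨x, hn⟩ = s.ι.app m ⟨x, hm⟩ := by
  wlog h : n ≤ m generalizing n m
  · exact (this hm hn (le_of_not_ge h)).symm
  have := s.w (homOfLE h)
  rw [← this]
  rfl

/-- an exhaustive increasing union is a colimit -/
noncomputable def seqIsColimit (hU : ∀ x : T, ∃ n, x ∈ N n) : IsColimit (seqCocone T N hN) where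
  desc s := ModuleCat.ofHom
    { toFun := fun x => s.ι.app (Classical.choose (hU x)) ⟨x, Classical.choose_spec (hU x)⟩
      map_add' := fun x y => by
        obtain ⟨n, hn⟩ : ∃ n, x ∈ N n ∧ y ∈ N n := by
          obtain ⟨n1, h1⟩ := hU x
          obtain ⟨n2, h2⟩ := hU y
          exact ⟨max n1 n2, hN (le_max_left _ _) h1, hN (le_max_right _ _) h2⟩
        rw [cocone_app_eq T N hN s (x + y) (Classical.choose_spec (hU (x + y)))
            ((N n).add_mem hn.1 hn.2),
          cocone_app_eq T N hN s x (Classical.choose_spec (hU x)) hn.1,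
          cocone_app_eq T N hN s y (Classical.choose_spec (hU y)) hn.2, ← map_add]
        rfl
      map_smul' := fun a x => by
        rw [cocone_app_eq T N hN s (a • x) (Classical.choose_spec (hU (a • x)))
            ((N _).smul_mem a (Classical.choose_spec (hU x))), RingHom.id_apply, ← map_smul]
        rfl }
  fac s n := by
    ext x
    exact cocone_app_eq T N hN s x.1 _ x.2
  uniq s m hm := by
    ext x
    change m x = s.ι.app _ _
    rw [← hm]
    rfl

end union

section main

variable {A : Type u} [CommRing A]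

/-- the single functor in degree 0 -/
noncomputable abbrev sg (A : Type u) [CommRing A] :
    ModuleCat.{u} A ⥤ DerivedCategory (ModuleCat.{u} A) :=
  DerivedCategory.singleFunctor (ModuleCat.{u} A) 0

lemma smul_id_sg_eq_zero (T : ModuleCat.{u} A) (a : A) (h : ∀ x : T, a • x = 0) :
    a • 𝟙 ((sg A).obj T) = 0 := by
  have h0 : a • 𝟙 T = 0 := by
    ext x
    exact h x
  rw [← (sg A).map_id, ← Functor.map_smul, h0, Functor.map_zero]

theorem bij_of_kd (l : List A) {X Y : Cx A} (φ : X ⟶ Y)
    (hyp : ∀ ms : List ℕ, ms.length = l.length →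
      QuasiIso (kdMap (List.zipWith (· ^ ·) l ms) φ))
    (T : ModuleCat.{u} A) (htors : ∀ x : T, ∃ k : ℕ, ∀ f ∈ l, f ^ k • x = 0) :
    Bij ((sg A).obj T) (DerivedCategory.Q.map φ) := by
  induction l generalizing X Y T with
  | nil =>
    have h0 := hyp [] rfl
    change QuasiIso φ at h0
    exact bij_of_isIso _ _
  | cons f fs ih =>
    let N : ℕ → Submodule A T := fun n => Submodule.torsionBy A T (f ^ n)
    have hN : Monotone N := fun n m h =>
      Submodule.torsionBy_le_torsionBy_of_dvd _ _ (pow_dvd_pow f h)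
    have hU : ∀ x : T, ∃ n, x ∈ N n := by
      intro x
      obtain ⟨k, hk⟩ := htors x
      exact ⟨k, (Submodule.mem_torsionBy_iff _ _).mpr (hk f List.mem_cons_self)⟩
    have step1 : ∀ n : ℕ, Bij ((sg A).obj (ModuleCat.of A (N n))) (DerivedCategory.Q.map φ) := by
      intro n
      have hb : Bij ((sg A).obj (ModuleCat.of A (N n)))
          (DerivedCategory.Q.map (cfMap (f ^ n) φ)) := by
        apply ih
        · intro ms hms
          exact hyp (n :: ms) (by simp [hms])
        · intro x
          obtain ⟨k, hk⟩ := htors x.1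
          exact ⟨k, fun g hg => Subtype.ext (hk g (List.mem_cons_of_mem _ hg))⟩
      have hz : (f ^ n) • 𝟙 ((sg A).obj (ModuleCat.of A (N n))) = 0 :=
        smul_id_sg_eq_zero _ _ (fun x => Subtype.ext ((Submodule.mem_torsionBy_iff _ _).mp x.2))
      have comm : ((f ^ n) • 𝟙 X) ≫ φ = φ ≫ ((f ^ n) • 𝟙 Y) := by
        rw [Linear.smul_comp, Linear.comp_smul, Category.id_comp, Category.comp_id]
      have key := inj_surj_of_bij_cone ((sg A).obj (ModuleCat.of A (N n)))
        (DerivedCategory.Q.mapTriangle.obj (mappingCone.triangle ((f ^ n) • 𝟙 X)))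
        (DerivedCategory.Q.mapTriangle.obj (mappingCone.triangle ((f ^ n) • 𝟙 Y)))
        (DerivedCategory.mappingCone_triangle_distinguished _)
        (DerivedCategory.mappingCone_triangle_distinguished _)
        (DerivedCategory.Q.mapTriangle.map (mappingCone.triangleMap _ _ φ φ comm))
        (fun s => by
          change ((HF _).shift s).map (DerivedCategory.Q.map ((f ^ n) • 𝟙 X)) = 0
          rw [Functor.map_smul, CategoryTheory.Functor.map_id]
          exact HF_shift_map_smul_eq_zero _ _ _ hz s)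
        (fun s => by
          change ((HF _).shift s).map (DerivedCategory.Q.map ((f ^ n) • 𝟙 Y)) = 0
          rw [Functor.map_smul, CategoryTheory.Functor.map_id]
          exact HF_shift_map_smul_eq_zero _ _ _ hz s)
        hb
      intro s
      exact ⟨(key s).1, (key s).2⟩
    have hT := DerivedCategory.mappingCone_triangle_distinguished φ
    have step2 : ∀ n : ℕ, Van ((sg A).obj (ModuleCat.of A (N n)))
        (DerivedCategory.Q.obj (mappingCone φ)) := fun n =>
      (bij_iff_van _ _ hT).mp (step1 n)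
    have hc := isColimitOfPreserves
      (HomologicalComplex.single (ModuleCat.{u} A) (ComplexShape.up ℤ) 0) (seqIsColimit T N hN hU)
    have hh := Groth.Agent.Lib.DerivedHocolim.isHocolim_of_isColimit
      (seqF T N hN ⋙ HomologicalComplex.single (ModuleCat.{u} A) (ComplexShape.up ℤ) 0) _ hc
    have step3 : Van ((sg A).obj T) (DerivedCategory.Q.obj (mappingCone φ)) :=
      van_of_isHocolim _ _ _ _ hh _ step2
    exact (bij_iff_van _ _ hT).mpr step3


lemma nilD_cf (a g : A) (K : Cx A) (h : NilD a (DerivedCategory.Q.obj K)) :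
    NilD a (DerivedCategory.Q.obj (cf g K)) :=
  nilD_obj₃ _ (DerivedCategory.mappingCone_triangle_distinguished (g • 𝟙 K)) a h h

lemma nilD_cf_self (a : A) (K : Cx A) : NilD a (DerivedCategory.Q.obj (cf a K)) := by
  have hT := DerivedCategory.mappingCone_triangle_distinguished (a • 𝟙 K)
  have e : DerivedCategory.Q.map (a • 𝟙 K) = a • 𝟙 (DerivedCategory.Q.obj K) := by
    rw [Functor.map_smul, CategoryTheory.Functor.map_id]
  have hT' : Triangle.mk (a • 𝟙 (DerivedCategory.Q.obj K))
      (DerivedCategory.Q.mapTriangle.obj (mappingCone.triangle (a • 𝟙 K))).mor₂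
      (DerivedCategory.Q.mapTriangle.obj (mappingCone.triangle (a • 𝟙 K))).mor₃ ∈
        distTriang _ := by
    rw [← e]
    exact hT
  exact nilD_of_dist_self a _ _ hT'

lemma nilD_kd (a : A) (l : List A) (K : Cx A) (h : NilD a (DerivedCategory.Q.obj K)) :
    NilD a (DerivedCategory.Q.obj (kd l K)) := by
  induction l generalizing K with
  | nil => exact h
  | cons g gs ih => exact ih _ (nilD_cf a g K h)

lemma nilD_kd_of_mem (l : List A) (ms : List ℕ) (hlen : ms.length = l.length) (K : Cx A)
    (f : A) (hf : f ∈ l) :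
    NilD f (DerivedCategory.Q.obj (kd (List.zipWith (· ^ ·) l ms) K)) := by
  induction l generalizing ms K with
  | nil => simp at hf
  | cons g gs ih =>
    match ms, hlen with
    | m :: ms', hlen =>
      change NilD f (DerivedCategory.Q.obj (kd (List.zipWith (· ^ ·) gs ms') (cf (g ^ m) K)))
      rcases List.mem_cons.mp hf with rfl | hf'
      · exact nilD_kd _ _ _ (NilD.pow (nilD_cf_self (f ^ m) K))
      · exact ih ms' (by simpa using hlen) _ hf'

lemma homologyMap_smul_id (a : A) (L : Cx A) (j : ℤ) :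
    HomologicalComplex.homologyMap (a • 𝟙 L) j = a • 𝟙 (L.homology j) := by
  have : (HomologicalComplex.shortComplexFunctor (ModuleCat.{u} A) (ComplexShape.up ℤ) j).map
      (a • 𝟙 L) = a • 𝟙 (L.sc j) := by
    ext <;> rfl
  change ShortComplex.homologyMap _ = _
  rw [this, ShortComplex.homologyMap_smul, ShortComplex.homologyMap_id]
  rfl

lemma smul_homology_eq_zero (a : A) (L : Cx A) (h : a • 𝟙 (DerivedCategory.Q.obj L) = 0) (j : ℤ)
    (x : L.homology j) : a • x = 0 := by
  have h1 : DerivedCategory.Q.map (a • 𝟙 L) = 0 := by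
    rw [Functor.map_smul, CategoryTheory.Functor.map_id, h]
  have h2 : HomologicalComplex.homologyMap (a • 𝟙 L) j = 0 := by
    have nat := (DerivedCategory.homologyFunctorFactors (ModuleCat.{u} A) j).hom.naturality
      (a • 𝟙 L)
    change (HomologicalComplex.homologyFunctor (ModuleCat.{u} A) (ComplexShape.up ℤ) j).map
      (a • 𝟙 L) = 0
    rw [← cancel_epi ((DerivedCategory.homologyFunctorFactors (ModuleCat.{u} A) j).hom.app L),
      ← nat, Functor.comp_map, h1, Functor.map_zero, zero_comp, comp_zero]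
  rw [homologyMap_smul_id] at h2
  have := congrArg (fun m => m x) h2
  simpa using this

/-- homology of `kd (l^ms) K` is `I`-power torsion for `I = span l`. -/
lemma exists_pow_smul_homology_eq_zero (l : List A) (ms : List ℕ) (hlen : ms.length = l.length)
    (K : Cx A) (j : ℤ) :
    ∃ k : ℕ, ∀ a ∈ (Ideal.span {f | f ∈ l}) ^ k,
      ∀ x : (kd (List.zipWith (· ^ ·) l ms) K).homology j, a • x = 0 := by
  set H := (kd (List.zipWith (· ^ ·) l ms) K).homology j
  have hrad : Ideal.span {f | f ∈ l} ≤ (Module.annihilator A H).radical := by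
    rw [Ideal.span_le]
    intro f hf
    obtain ⟨n, hn⟩ := nilD_kd_of_mem l ms hlen K f hf
    refine ⟨n, ?_⟩
    rw [Module.mem_annihilator]
    exact fun x => smul_homology_eq_zero _ _ hn j x
  obtain ⟨k, hk⟩ := Ideal.exists_pow_le_of_le_radical_of_fg hrad
    (Submodule.fg_span (List.finite_toSet l))
  exact ⟨k, fun a ha x => Module.mem_annihilator.mp (hk ha) x⟩

end main

section eta

variable {A : Type u} [CommRing A] (H : ModuleCat.{u} A ⥤ ModuleCat.{u} A) [H.Additive]
  (η : 𝟭 (ModuleCat.{u} A) ⟶ H)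

/-- the natural transformation on complexes -/
noncomputable abbrev ηC (K : Cx A) : K ⟶ (H.mapHomologicalComplex (ComplexShape.up ℤ)).obj K :=
  ηc H (fun X => η.app X) (fun _ _ f => η.naturality f) K

lemma quasiIso_ηC [PreservesFiniteLimits H] [PreservesFiniteColimits H] (L : Cx A)
    (h : ∀ j : ℤ, IsIso (η.app (L.homology j))) : QuasiIso (ηC H η L) := by
  rw [quasiIso_iff]
  intro j
  rw [quasiIsoAt_iff_isIso_homologyMap]
  have h1 := NatTrans.app_homology η (L.sc j)
  have h2 : HomologicalComplex.homologyMap (ηC H η L) j =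
      ShortComplex.homologyMap ((L.sc j).mapNatTrans η) := rfl
  have h3 : ShortComplex.homologyMap ((L.sc j).mapNatTrans η) =
      ((L.sc j).mapHomologyIso (𝟭 _)).hom ≫ η.app (L.sc j).homology ≫
        ((L.sc j).mapHomologyIso H).inv := by
    rw [h1]
    simp
  rw [h2, h3]
  have h4 : IsIso (η.app (L.sc j).homology) := h j
  exact IsIso.comp_isIso' inferInstance (IsIso.comp_isIso' h4 inferInstance)

variable (hlin : ∀ (a : A) (X : ModuleCat.{u} A), H.map (a • 𝟙 X) = a • 𝟙 (H.obj X))

include hlin in
lemma map_smul_id_Hc (a : A) (K : Cx A) :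
    (H.mapHomologicalComplex (ComplexShape.up ℤ)).map (a • 𝟙 K) =
      a • 𝟙 ((H.mapHomologicalComplex (ComplexShape.up ℤ)).obj K) := by
  refine HomologicalComplex.hom_ext _ _ (fun n => ?_)
  exact hlin a (K.X n)

lemma mappingCone_map_eq_of_eq {K₁ L₁ K₂ L₂ : Cx A} (φ₁ : K₁ ⟶ L₁) (φ₂ φ₂' : K₂ ⟶ L₂)
    (h : φ₂ = φ₂') (a : K₁ ⟶ K₂) (b : L₁ ⟶ L₂) (comm : φ₁ ≫ b = a ≫ φ₂) :
    ∃ (e : mappingCone φ₂ ≅ mappingCone φ₂'),
      mappingCone.map φ₁ φ₂' a b (h ▸ comm) = mappingCone.map φ₁ φ₂ a b comm ≫ e.hom := by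
  subst h
  exact ⟨Iso.refl _, (Category.comp_id _).symm⟩

include hlin in
/-- `cfMap f (ηC K)` is `ηC (cf f K)` up to an isomorphism. -/
lemma exists_cfMap_ηC (f : A) (K : Cx A) :
    ∃ (e : (H.mapHomologicalComplex (ComplexShape.up ℤ)).obj (cf f K) ≅
        cf f ((H.mapHomologicalComplex (ComplexShape.up ℤ)).obj K)),
      cfMap f (ηC H η K) = ηC H η (cf f K) ≫ e.hom := by
  have hc := cone_nat H (fun X => η.app X) (fun _ _ f => η.naturality f) (f • 𝟙 K)
  obtain ⟨e, he⟩ := mappingCone_map_eq_of_eq (f • 𝟙 K) _ _ (map_smul_id_Hc H hlin f K)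
    (ηC H η K) (ηC H η K) (ηc_naturality H _ _ (f • 𝟙 K))
  refine ⟨mappingCone.mapHomologicalComplexIso (f • 𝟙 K) H ≪≫ e, ?_⟩
  change mappingCone.map _ _ _ _ _ = _
  rw [he, ← hc, Category.assoc]
  rfl

include hlin in
theorem quasiIso_kdMap_ηC (l : List A) (K : Cx A) (h : QuasiIso (ηC H η (kd l K))) :
    QuasiIso (kdMap l (ηC H η K)) := by
  induction l generalizing K with
  | nil => exact h
  | cons f fs ih =>
    obtain ⟨e, he⟩ := exists_cfMap_ηC H η hlin f K
    change QuasiIso (kdMap fs (cfMap f (ηC H η K)))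
    rw [he, kdMap_comp]
    have h1 : QuasiIso (kdMap fs (ηC H η (cf f K))) := ih _ h
    have h2 : IsIso (kdMap fs e.hom) := isIso_kdMap fs e.hom
    infer_instance

end eta

end Groth.Agent.Lib.TorsionOrthMod
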