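import Groth.Agent.Lib.TKf
import Groth.Agent.Lib.DerivedProd
import Groth.Agent.Lib.DDerComplete
import Groth.Agent.Lib.SeqComplete
import Groth.Agent.Lib.TorsionOrthMod
import Groth.Agent.Lib.FlatBaseChangeD
import Groth.Prelude.Def_DDual2
import Mathlib.Algebra.Category.ModuleCat.Products
import Mathlib.Algebra.Category.ModuleCat.AB

/-!
# Derived completeness with respect to one element via `T(K, f)` (helper25)

`DC f K` : `Hom_{D(A)}(A_f, K[n]) = 0` for all `n` (the single-element form of
`DRing.IsDerivedComplete`).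

* `isSeqComplete_of_subsingleton`, `isSeqComplete_HD`: if `DC f K` then each `H^i(K)` is
  `f`-sequentially complete (helper61's `IsSeqComplete`).
* `isIso_delta_of_isSeqComplete`, `isIso_delta_of_DC`: then `1 - f·shift` is an isomorphism of
  `∏_ℕ K` (i.e. `T(K, f) = 0`).
* `hom_eq_zero_of_DC`: hence `Hom(Y, K) = 0` whenever `f` acts invertibly on `Y`;
  `DC_iff` is the resulting characterization.
* `isIso_smul_Q_of_bijective`, `isIso_smul_restrictD`, `isIso_smul_inD_away`: sources of such `Y`.
* `DC_iff_restrict`: `DC f K` iff `Hom(E, K) = 0` for all `E` restricted from `D(A_f)`.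
-/

set_option autoImplicit false
universe u

open CategoryTheory Limits Polynomial Pretriangulated

attribute [local instance] HasDerivedCategory.standard

namespace Groth.Agent.Lib.TKfMod

open Groth.Agent.Lib.TKf Groth.Agent.Lib.SeqComplete Groth.Agent.Lib.DerivedComplete
  Groth.Agent.Lib.DProjRes1 Groth.Agent.Lib.DDerComplete

variable {A : Type u} [CommRing A]

-- ## part TK1





section module

variable (f : A) (M : ModuleCat.{u} A)

lemma pi_ext (x y : (∏ᶜ fun _ : ℕ => M : ModuleCat.{u} A))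
    (h : ∀ n, Pi.π (fun _ : ℕ => M) n x = Pi.π (fun _ : ℕ => M) n y) : x = y := by
  apply (ModuleCat.piIsoPi (fun _ : ℕ => M)).toLinearEquiv.injective
  funext n
  have := fun z => ModuleCat.piIsoPi_hom_ker_subtype_apply (fun _ : ℕ => M) n z
  exact (this x).trans ((h n).trans (this y).symm)

lemma delta_π_apply (x : (∏ᶜ fun _ : ℕ => M : ModuleCat.{u} A)) (n : ℕ) :
    Pi.π (fun _ : ℕ => M) n (delta M (f • 𝟙 M) x) =
      Pi.π (fun _ : ℕ => M) n x - f • Pi.π (fun _ : ℕ => M) (n + 1) x := by
  have := congrArg (fun m : ((∏ᶜ fun _ : ℕ => M : ModuleCat.{u} A) ⟶ M) => m.hom x)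
    (delta_π M (f • 𝟙 M) n)
  simp only [ModuleCat.hom_comp, ModuleCat.hom_sub, ModuleCat.hom_smul, ModuleCat.hom_id,
    LinearMap.comp_apply, LinearMap.sub_apply, LinearMap.smul_apply, LinearMap.id_apply] at this
  exact this

theorem isIso_delta_of_isSeqComplete (h : IsSeqComplete f M) : IsIso (delta M (f • 𝟙 M)) := by
  rw [ConcreteCategory.isIso_iff_bijective]
  constructor
  · intro x y hxy
    have hz : ∀ n, Pi.π (fun _ : ℕ => M) n (x - y) =
        f • Pi.π (fun _ : ℕ => M) (n + 1) (x - y) := by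
      intro n
      have h1 := delta_π_apply f M (x - y) n
      have h2 : delta M (f • 𝟙 M) (x - y) = 0 := by
        rw [map_sub, sub_eq_zero]; exact hxy
      rw [h2, map_zero] at h1
      exact (sub_eq_zero.mp h1.symm)
    have h0 := h.1 (fun n => Pi.π (fun _ : ℕ => M) n (x - y)) hz
    have : x - y = 0 := by
      apply pi_ext
      intro n
      rw [h0 n, map_zero]
    exact sub_eq_zero.mp this
  · intro y
    obtain ⟨x', hx'⟩ := h.2 (fun n => Pi.π (fun _ : ℕ => M) n y)
    let x : (∏ᶜ fun _ : ℕ => M : ModuleCat.{u} A) :=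
      (ModuleCat.piIsoPi (fun _ : ℕ => M)).inv x'
    have hx : ∀ n, Pi.π (fun _ : ℕ => M) n x = x' n := fun n =>
      ModuleCat.piIsoPi_inv_kernel_ι_apply (fun _ : ℕ => M) n x'
    refine ⟨x, ?_⟩
    apply pi_ext
    intro n
    rw [delta_π_apply, hx, hx, hx' n]

end module


-- ## part TK2





section single

variable {M : Type u} [AddCommGroup M] [Module A M]

/-- single-element version of helper61's `DerivedComplete.hom_eq_zero`. -/
theorem hom_eq_zero' (f : A)
    (h0 : Subsingleton (Dual.inD A (Localization.Away f) ⟶ (Dual.inD A M)⟦(0 : ℤ)⟧))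
    (g : Localization.Away f →ₗ[A] M) : g = 0 := by
  let F := DerivedCategory.singleFunctor (ModuleCat.{u} A) 0
  let φ : Dual.inD A (Localization.Away f) ⟶ Dual.inD A M := F.map (ModuleCat.ofHom g)
  have h1 : φ ≫ (shiftFunctorZero (Dual.D A) ℤ).inv.app (Dual.inD A M) = 0 := h0.elim _ _
  have h2 : φ = 0 := by
    have := congrArg (fun k => k ≫ (shiftFunctorZero (Dual.D A) ℤ).hom.app (Dual.inD A M)) h1
    simp only [Category.assoc, Iso.inv_hom_id_app, Limits.zero_comp] at this
    simpa using this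
  have h3 : ModuleCat.ofHom g = 0 := F.map_injective (by rw [F.map_zero]; exact h2)
  have h4 := congrArg ModuleCat.Hom.hom h3
  simpa using h4

theorem seq_eq_zero' (f : A)
    (h0 : Subsingleton (Dual.inD A (Localization.Away f) ⟶ (Dual.inD A M)⟦(0 : ℤ)⟧))
    (u : ℕ → M) (hu : ∀ n, u n = f • u (n + 1)) (n : ℕ) : u n = 0 := by
  obtain ⟨ℓ, hℓ⟩ := exists_linearMap_away f (fun k => u (n + k)) (fun k => hu (n + k))
  have := hom_eq_zero' f h0 ℓ
  rw [this] at hℓ
  simpa using hℓ.symm

theorem exists_factor' (f : A)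
    (hsub1 : Subsingleton (Dual.inD A (Localization.Away f) ⟶ (Dual.inD A M)⟦(1 : ℤ)⟧))
    (φ : A[X] →ₗ[A] M) :
    ∃ ψ : A[X] →ₗ[A] M, ∀ p, φ p = ψ ((C f * X - 1) * p) := by
  let F := DerivedCategory.singleFunctor (ModuleCat.{u} A) 0
  have hS := awaySC_shortExact f
  have hT := hS.singleTriangle_distinguished
  have hT' := inv_rot_of_distTriang _ hT
  let e : ModuleCat.of A (AdjoinRoot (C f * X - 1 : A[X])) ≅ ModuleCat.of A (Localization.Away f) :=
    (Localization.awayEquivAdjoin f).symm.toLinearEquiv.toModuleIso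
  have hsub2 : Subsingleton (F.obj (awaySC f).X₃ ⟶ (Dual.inD A M)⟦(1 : ℤ)⟧) :=
    ((F.mapIso e).homFromEquiv (Z := (Dual.inD A M)⟦(1 : ℤ)⟧)).subsingleton
  have hsub3 : Subsingleton ((F.obj (awaySC f).X₃)⟦(-1 : ℤ)⟧ ⟶ Dual.inD A M) := by
    have e := (shiftEquiv (Dual.D A) (1 : ℤ)).symm.toAdjunction.homEquiv
      (F.obj (awaySC f).X₃) (Dual.inD A M)
    exact @Equiv.subsingleton _ _ e hsub2
  obtain ⟨g', hg'⟩ := Triangle.yoneda_exact₂ _ hT' (F.map (ModuleCat.ofHom φ)) (hsub3.elim _ _)
  obtain ⟨ψ, hψ⟩ := F.map_surjective g'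
  refine ⟨ψ.hom, fun p => ?_⟩
  have h1 : F.map (ModuleCat.ofHom φ) = F.map ((awaySC f).f ≫ ψ) := by
    rw [F.map_comp, hψ]; exact hg'
  have h2 := F.map_injective h1
  have h3 := congrArg (fun k => k.hom p) h2
  exact h3

theorem exists_seq' (f : A)
    (hsub1 : Subsingleton (Dual.inD A (Localization.Away f) ⟶ (Dual.inD A M)⟦(1 : ℤ)⟧))
    (m : ℕ → M) : ∃ x : ℕ → M, ∀ n, x n - f • x (n + 1) = m n := by
  let φ : A[X] →ₗ[A] M := (Polynomial.basisMonomials A).constr A m
  have hφ : ∀ n, φ (Polynomial.monomial n 1) = m n := fun n => by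
    have := (Polynomial.basisMonomials A).constr_basis A m n
    simpa [φ] using this
  obtain ⟨ψ, hψ⟩ := exists_factor' f hsub1 φ
  refine ⟨fun n => - ψ (monomial n 1), fun n => ?_⟩
  have h1 : (C f * X - 1 : A[X]) * monomial n 1 = f • monomial (n + 1) 1 - monomial n 1 := by
    rw [sub_mul, one_mul, mul_assoc, X_mul_monomial, ← smul_eq_C_mul]
  rw [← hφ n, hψ, h1, map_sub, map_smul]
  simp only [smul_neg]
  abel

theorem isSeqComplete_of_subsingleton (f : A)
    (h : ∀ n : ℤ, Subsingleton (Dual.inD A (Localization.Away f) ⟶ (Dual.inD A M)⟦n⟧)) :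
    IsSeqComplete f M :=
  ⟨fun u hu n => seq_eq_zero' f (h 0) u hu n, fun m => exists_seq' f (h 1) m⟩

end single


-- ## part TK3





/-- derived completeness with respect to a single element. -/
def DC (f : A) (K : Dual.D A) : Prop :=
  ∀ n : ℤ, Subsingleton (Dual.inD A (Localization.Away f) ⟶ K⟦n⟧)

lemma DC_iff_homology (f : A) (K : Dual.D A) :
    DC f K ↔ ∀ i : ℤ, DC f (Dual.inD A (Dual.HD A K i)) := by
  have h1 : ∀ L : Dual.D A, DC f L ↔ ∀ n : ℤ, V (awaySC f) (L⟦n⟧) := fun L =>
    forall_congr' (fun n => subsingleton_iff_V f _)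
  rw [h1, hom_vanishing_iff_homology (awaySC_shortExact f) K]
  exact forall_congr' (fun i => (h1 _).symm)

theorem isSeqComplete_HD (f : A) (K : Dual.D A) (h : DC f K) (i : ℤ) :
    IsSeqComplete f (Dual.HD A K i) :=
  isSeqComplete_of_subsingleton f ((DC_iff_homology f K).mp h i)

lemma homologyFunctor_map_smul_id (a : A) (K : Dual.D A) (i : ℤ) :
    (DerivedCategory.homologyFunctor (ModuleCat.{u} A) i).map (a • 𝟙 K) =
      a • 𝟙 ((DerivedCategory.homologyFunctor (ModuleCat.{u} A) i).obj K) := by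
  obtain ⟨L, ⟨e⟩⟩ : ∃ L : CochainComplex (ModuleCat.{u} A) ℤ,
      Nonempty (DerivedCategory.Q.obj L ≅ K) := ⟨_, ⟨DerivedCategory.Q.objObjPreimageIso K⟩⟩
  set H := DerivedCategory.homologyFunctor (ModuleCat.{u} A) i
  -- first for `Q.obj L`
  have h1 : H.map (a • 𝟙 (DerivedCategory.Q.obj L)) = a • 𝟙 (H.obj (DerivedCategory.Q.obj L)) := by
    have nat := (DerivedCategory.homologyFunctorFactors (ModuleCat.{u} A) i).hom.naturality
      (a • 𝟙 L)
    have h2 : DerivedCategory.Q.map (a • 𝟙 L) = a • 𝟙 (DerivedCategory.Q.obj L) := by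
      rw [Functor.map_smul, CategoryTheory.Functor.map_id]
    rw [Functor.comp_map, h2] at nat
    have h3 : (HomologicalComplex.homologyFunctor (ModuleCat.{u} A) (ComplexShape.up ℤ) i).map
        (a • 𝟙 L) = a • 𝟙 _ :=
      Groth.Agent.Lib.TorsionOrthMod.homologyMap_smul_id a L i
    rw [h3, Linear.comp_smul, Category.comp_id] at nat
    have h5 := congrArg
      (fun m => m ≫ (DerivedCategory.homologyFunctorFactors (ModuleCat.{u} A) i).inv.app L) nat
    simp only [Category.assoc, Iso.hom_inv_id_app, Linear.smul_comp] at h5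
    rw [Category.comp_id] at h5
    exact h5
  have h4 : a • 𝟙 K = e.inv ≫ (a • 𝟙 (DerivedCategory.Q.obj L)) ≫ e.hom := by
    rw [Linear.smul_comp, Linear.comp_smul, Category.id_comp, e.inv_hom_id]
  rw [h4, H.map_comp, H.map_comp, h1, Linear.smul_comp, Linear.comp_smul, Category.id_comp,
    ← H.map_comp, e.inv_hom_id, H.map_id]

theorem isIso_delta_of_DC (f : A) (K : Dual.D A) (h : DC f K) : IsIso (delta K (f • 𝟙 K)) := by
  rw [DerivedCategory.isIso_iff]
  intro i
  rw [isIso_map_delta_iff, homologyFunctor_map_smul_id]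
  exact isIso_delta_of_isSeqComplete f _ (isSeqComplete_HD f K h i)


-- ## part TK4





section generalLinear

variable {D : Type*} [Category D] [Preadditive D] [Linear A D]

lemma isIso_smul_of_iso (a : A) {X X' : D} (e : X ≅ X') (h : IsIso (a • 𝟙 X)) :
    IsIso (a • 𝟙 X') := by
  have : a • 𝟙 X' = e.inv ≫ (a • 𝟙 X) ≫ e.hom := by
    rw [Linear.smul_comp, Linear.comp_smul, Category.id_comp, e.inv_hom_id]
  rw [this]
  infer_instance

lemma isIso_smul_map {E : Type*} [Category E] [Preadditive E] [Linear A E] (Φ : D ⥤ E)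
    [Φ.Additive] [Φ.Linear A] (a : A) {X : D} (h : IsIso (a • 𝟙 X)) :
    IsIso (a • 𝟙 (Φ.obj X)) := by
  have : a • 𝟙 (Φ.obj X) = Φ.map (a • 𝟙 X) := by
    rw [Functor.map_smul, CategoryTheory.Functor.map_id]
  rw [this]
  infer_instance

end generalLinear

/-- the key vanishing: if `K` is derived complete with respect to `f` and `f` acts invertibly on
`Y`, then `Hom(Y, K) = 0`. -/
theorem hom_eq_zero_of_DC (f : A) (K : Dual.D A) (h : DC f K) (Y : Dual.D A)
    (hY : IsIso (f • 𝟙 Y)) (g : Y ⟶ K) : g = 0 := by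
  have := isIso_delta_of_DC f K h
  exact eq_zero_of_isIso K (f • 𝟙 K) (f • 𝟙 Y) (fun g => by
    rw [Linear.smul_comp, Linear.comp_smul, Category.id_comp, Category.comp_id]) g

lemma isIso_smul_of_bijective (f : A) (M : ModuleCat.{u} A)
    (hM : Function.Bijective (fun x : M => f • x)) : IsIso (f • 𝟙 M) := by
  rw [ConcreteCategory.isIso_iff_bijective]
  exact hM

lemma isIso_smul_Q_of_bijective (f : A) (L : CochainComplex (ModuleCat.{u} A) ℤ)
    (hL : ∀ i : ℤ, Function.Bijective (fun x : L.X i => f • x)) :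
    IsIso (f • 𝟙 (DerivedCategory.Q.obj L)) := by
  have h1 : IsIso (f • 𝟙 L) := by
    have : ∀ i, IsIso ((f • 𝟙 L).f i) := fun i => isIso_smul_of_bijective f (L.X i) (hL i)
    exact HomologicalComplex.Hom.isIso_of_components _
  exact isIso_smul_map (DerivedCategory.Q) f h1

lemma bijective_smul_away (f : A) : Function.Bijective (fun x : Localization.Away f => f • x) := by
  have hu : IsUnit (algebraMap A (Localization.Away f) f) :=
    IsLocalization.Away.algebraMap_isUnit f
  have : (fun x : Localization.Away f => f • x) =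
      fun x => algebraMap A (Localization.Away f) f * x := by
    funext x
    exact Algebra.smul_def f x
  rw [this]
  exact ⟨fun x y h => hu.mul_left_cancel h, fun y => ⟨hu.unit⁻¹ * y, by
    change algebraMap A (Localization.Away f) f * (↑hu.unit⁻¹ * y) = y
    rw [← mul_assoc, IsUnit.mul_val_inv, one_mul]⟩⟩

lemma isIso_smul_inD_away (f : A) : IsIso (f • 𝟙 (Dual.inD A (Localization.Away f))) :=
  isIso_smul_map (DerivedCategory.singleFunctor (ModuleCat.{u} A) 0) f
    (isIso_smul_of_bijective f (ModuleCat.of A (Localization.Away f)) (bijective_smul_away f))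

/-- conversely: if `Hom(Y, K) = 0` for the shifts `Y` of `A_f`, then `K` is derived complete
with respect to `f`. -/
theorem DC_of_hom_eq_zero (f : A) (K : Dual.D A)
    (h : ∀ n : ℤ, ∀ g : (Dual.inD A (Localization.Away f))⟦n⟧ ⟶ K, g = 0) : DC f K := by
  intro n
  have e := (shiftEquiv (Dual.D A) n).symm.toAdjunction.homEquiv
    (Dual.inD A (Localization.Away f)) K
  have hsub : Subsingleton ((Dual.inD A (Localization.Away f))⟦-n⟧ ⟶ K) :=
    ⟨fun a b => by rw [h (-n) a, h (-n) b]⟩
  exact @Equiv.subsingleton _ _ e.symm hsub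

theorem DC_iff (f : A) (K : Dual.D A) :
    DC f K ↔ ∀ Y : Dual.D A, IsIso (f • 𝟙 Y) → ∀ g : Y ⟶ K, g = 0 := by
  constructor
  · intro h Y hY g
    exact hom_eq_zero_of_DC f K h Y hY g
  · intro h
    apply DC_of_hom_eq_zero
    intro n g
    exact h _ (isIso_smul_map (shiftFunctor (Dual.D A) n) f (isIso_smul_inD_away f)) g


-- ## part TK5





section restrict

variable {B : Type u} [CommRing B] (φ : A →+* B)

/-- if `φ a` is a unit of `B`, then `a` acts invertibly on every object of `D(A)` restricted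
from `D(B)`. -/
theorem isIso_smul_restrictD (a : A) (ha : IsUnit (φ a)) (E : Dual.D B) :
    IsIso (a • 𝟙 ((DRing.restrictD φ).obj E)) := by
  let L := DerivedCategory.Q.objPreimage E
  let e : DerivedCategory.Q.obj L ≅ E := DerivedCategory.Q.objObjPreimageIso E
  let L' := ((ModuleCat.restrictScalars.{u} φ).mapHomologicalComplex (ComplexShape.up ℤ)).obj L
  let e' : (DRing.restrictD φ).obj E ≅ DerivedCategory.Q.obj L' :=
    (DRing.restrictD φ).mapIso e.symm ≪≫
      ((ModuleCat.restrictScalars.{u} φ).mapDerivedCategoryFactors).app L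
  refine isIso_smul_of_iso a e'.symm (isIso_smul_Q_of_bijective a L' (fun i => ?_))
  change Function.Bijective (fun x : (ModuleCat.restrictScalars.{u} φ).obj (L.X i) => a • x)
  have hsm : ∀ x : (ModuleCat.restrictScalars.{u} φ).obj (L.X i),
      a • x = (φ a • (show L.X i from x) : L.X i) := fun x =>
    ModuleCat.restrictScalars.smul_def (M := L.X i) φ a x
  constructor
  · intro x y hxy
    simp only [hsm] at hxy
    have := congrArg (fun z : L.X i => ((ha.unit⁻¹ : Bˣ) : B) • z) hxy
    simp only [smul_smul, IsUnit.val_inv_mul, one_smul] at this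
    exact this
  · intro y
    refine ⟨(((ha.unit⁻¹ : Bˣ) : B) • (show L.X i from y) : L.X i), ?_⟩
    change a • _ = y
    rw [hsm]
    change φ a • ((ha.unit⁻¹ : Bˣ) : B) • (show L.X i from y) = y
    rw [smul_smul, IsUnit.mul_val_inv, one_smul]

end restrict

section algebra

variable (B : Type u) [CommRing B] [Algebra A B]

/-- `B[n]` restricted to `A` is `B[n]`. -/
noncomputable def restrictDShiftIso (n : ℤ) :
    (DRing.restrictD (algebraMap A B)).obj (((DerivedCategory.singleFunctor (ModuleCat.{u} B) 0).obj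
      (ModuleCat.of B B))⟦n⟧) ≅ (Dual.inD A B)⟦n⟧ :=
  ((DRing.restrictD (algebraMap A B)).commShiftIso n).app _ ≪≫
    (shiftFunctor (Dual.D A) n).mapIso
      (((ModuleCat.restrictScalars.{u} (algebraMap A B)).mapDerivedCategorySingleFunctor 0).app
          (ModuleCat.of B B) ≪≫
        (DerivedCategory.singleFunctor (ModuleCat.{u} A) 0).mapIso
          (Groth.Agent.Lib.FlatBaseChangeD.restrictEquiv (A := A) (B := B)).toModuleIso)

end algebra

/-- Derived completeness with respect to `f` is orthogonality to everything restricted from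
`D(A_f)`. -/
theorem DC_iff_restrict (f : A) (K : Dual.D A) :
    DC f K ↔ ∀ E : Dual.D (Localization.Away f),
        Subsingleton ((DRing.restrictD (algebraMap A (Localization.Away f))).obj E ⟶ K) := by
  constructor
  · intro h E
    have hE := isIso_smul_restrictD (algebraMap A (Localization.Away f)) f
      (IsLocalization.Away.algebraMap_isUnit f) E
    exact ⟨fun a b => by rw [hom_eq_zero_of_DC f K h _ hE a, hom_eq_zero_of_DC f K h _ hE b]⟩
  · intro h
    apply DC_of_hom_eq_zero
    intro n g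
    have h1 := (h _).elim ((restrictDShiftIso (A := A) (Localization.Away f) n).hom ≫ g) 0
    rw [← cancel_epi (restrictDShiftIso (A := A) (Localization.Away f) n).hom, h1, Limits.comp_zero]


end Groth.Agent.Lib.TKfMod
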