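import Groth.Agent.Lib.GammaNorm75
import Mathlib.RingTheory.Invariant.Basic
import Mathlib.RingTheory.Adjoin.Tower

/-!
# Symmetric tensors of a polynomial ring form an algebra of finite type (helper75)
-/

set_option autoImplicit false
universe u
open scoped TensorProduct
open MvPolynomial

namespace Groth.Agent.Lib.TSFinType75

open Groth.Agent.Lib.GammaNorm75 Groth.Agent.Lib.SymTensorGen Groth.Agent.Lib.SymTensorType

section Action

variable (A : Type u) [CommRing A] (B : Type u) [CommRing B] [Algebra A B] (d : ℕ)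

theorem perm_one (t : ⨂[A] _ : Fin d, B) : SymTen.perm A B d 1 t = t := by
  induction t using PiTensorProduct.induction_on with
  | smul_tprod r f =>
    simp only [map_smul, SymTen.perm_tprod]
    rfl
  | add x y hx hy => simp only [map_add, hx, hy]

/-- the permutation action on the tensor power -/
noncomputable def permAction : MulSemiringAction (Equiv.Perm (Fin d)) (⨂[A] _ : Fin d, B) where
  smul σ t := SymTen.perm A B d σ t
  one_smul t := perm_one A B d t
  mul_smul σ ρ t := perm_mul A B d σ ρ t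
  smul_zero σ := map_zero _
  smul_add σ x y := map_add _ x y
  smul_one σ := map_one _
  smul_mul σ x y := map_mul _ x y

/-- the tensor power is integral over the symmetric tensors -/
theorem isIntegral_TS : Algebra.IsIntegral (SymTen.TS A B d) (⨂[A] _ : Fin d, B) := by
  letI := permAction A B d
  haveI : Algebra.IsInvariant (SymTen.TS A B d) (⨂[A] _ : Fin d, B) (Equiv.Perm (Fin d)) :=
    ⟨fun b hb => ⟨⟨b, fun σ => by rw [← SymTen.perm_apply]; exact hb σ⟩, rfl⟩⟩
  exact Algebra.IsInvariant.isIntegral (SymTen.TS A B d) (⨂[A] _ : Fin d, B) (Equiv.Perm (Fin d))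

end Action

section FG

variable (A : Type u) [CommRing A] (n d : ℕ)

/-- the tensor power of a polynomial ring is of finite type -/
theorem finiteType_tensorPower :
    Algebra.FiniteType A (⨂[A] _ : Fin d, MvPolynomial (Fin n) A) := by
  classical
  refine ⟨⟨(Finset.univ : Finset (Fin d × Fin n)).image
    (fun p => PiTensorProduct.singleAlgHom (R := A) (A := fun _ : Fin d => MvPolynomial (Fin n) A) p.1 (X p.2)),
    ?_⟩⟩
  set E := Algebra.adjoin A (((Finset.univ : Finset (Fin d × Fin n)).image
    (fun p => PiTensorProduct.singleAlgHom (R := A) (A := fun _ : Fin d => MvPolynomial (Fin n) A) p.1 (X p.2)) :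
      Finset _) : Set (⨂[A] _ : Fin d, MvPolynomial (Fin n) A)) with hE
  have h1 : ∀ (k : Fin d) (p : MvPolynomial (Fin n) A),
      PiTensorProduct.singleAlgHom (R := A) (A := fun _ : Fin d => MvPolynomial (Fin n) A) k p ∈ E := by
    intro k p
    induction p using MvPolynomial.induction_on with
    | C a =>
      rw [← MvPolynomial.algebraMap_eq, AlgHom.commutes]
      exact E.algebraMap_mem a
    | add p q hp hq =>
      rw [map_add]
      exact E.add_mem hp hq
    | mul_X p i hp =>
      rw [map_mul]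
      refine E.mul_mem hp (Algebra.subset_adjoin ?_)
      rw [Finset.coe_image]
      exact ⟨(k, i), by simp, rfl⟩
  rw [eq_top_iff]
  intro t _
  induction t using PiTensorProduct.induction_on with
  | smul_tprod r f =>
    rw [← Groth.Agent.Lib.NormAlt23.prod_single]
    exact E.smul_mem (E.prod_mem fun k _ => h1 k (f k)) r
  | add x y hx hy => exact E.add_mem (hx trivial) (hy trivial)

end FG

section OverZ

variable (n d : ℕ)

/-- Artin–Tate: over `ℤ` the symmetric tensors of a polynomial ring form an algebra of finite type -/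
theorem fg_TS_int : (⊤ : Subalgebra ℤ (SymTen.TS ℤ (MvPolynomial (Fin n) ℤ) d)).FG := by
  have h1 : Algebra.FiniteType ℤ (⨂[ℤ] _ : Fin d, MvPolynomial (Fin n) ℤ) := finiteType_tensorPower ℤ n d
  have h2 : Algebra.IsIntegral (SymTen.TS ℤ (MvPolynomial (Fin n) ℤ) d)
      (⨂[ℤ] _ : Fin d, MvPolynomial (Fin n) ℤ) := isIntegral_TS ℤ _ d
  have h3 : Algebra.FiniteType (SymTen.TS ℤ (MvPolynomial (Fin n) ℤ) d)
      (⨂[ℤ] _ : Fin d, MvPolynomial (Fin n) ℤ) :=
    Algebra.FiniteType.of_restrictScalars_finiteType ℤ _ _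
  have h4 : Module.Finite (SymTen.TS ℤ (MvPolynomial (Fin n) ℤ) d)
      (⨂[ℤ] _ : Fin d, MvPolynomial (Fin n) ℤ) := Algebra.IsIntegral.finite
  exact fg_of_fg_of_fg ℤ (SymTen.TS ℤ (MvPolynomial (Fin n) ℤ) d)
    (⨂[ℤ] _ : Fin d, MvPolynomial (Fin n) ℤ) h1.out h4.fg_top Subtype.val_injective

end OverZ

section Repr

variable {A : Type u} [CommRing A] {n : ℕ}

/-- every element of `S ⊗ A[x]` is a finite combination of monomials with coefficients in `S` -/
theorem exists_monomial_repr {S : Type u} [CommSemiring S] [Algebra A S]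
    (z : S ⊗[A] MvPolynomial (Fin n) A) :
    ∃ (r : ℕ) (e : Fin r → (Fin n →₀ ℕ)) (s : Fin r → S),
      z = ∑ j, s j ⊗ₜ[A] (monomial (e j) (1 : A)) := by
  have hadd : ∀ z z' : S ⊗[A] MvPolynomial (Fin n) A,
      (∃ (r : ℕ) (e : Fin r → (Fin n →₀ ℕ)) (s : Fin r → S),
        z = ∑ j, s j ⊗ₜ[A] (monomial (e j) (1 : A))) →
      (∃ (r : ℕ) (e : Fin r → (Fin n →₀ ℕ)) (s : Fin r → S),
        z' = ∑ j, s j ⊗ₜ[A] (monomial (e j) (1 : A))) →
      ∃ (r : ℕ) (e : Fin r → (Fin n →₀ ℕ)) (s : Fin r → S),
        z + z' = ∑ j, s j ⊗ₜ[A] (monomial (e j) (1 : A)) := by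
    rintro _ _ ⟨r, e, s, rfl⟩ ⟨r', e', s', rfl⟩
    refine ⟨r + r', Fin.append e e', Fin.append s s', ?_⟩
    rw [Fin.sum_univ_add]
    simp only [Fin.append_left, Fin.append_right]
  induction z using TensorProduct.induction_on with
  | zero => exact ⟨0, Fin.elim0, Fin.elim0, by simp⟩
  | tmul s p =>
    induction p using MvPolynomial.induction_on' with
    | monomial m a =>
      refine ⟨1, fun _ => m, fun _ => a • s, ?_⟩
      rw [Fin.sum_univ_one, ← TensorProduct.smul_tmul', ← TensorProduct.tmul_smul, smul_monomial, smul_eq_mul,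
        mul_one]
    | add p q hp hq =>
      rw [TensorProduct.tmul_add]
      exact hadd _ _ hp hq
  | add x y hx hy => exact hadd _ _ hx hy

end Repr

section Reduce

variable (A : Type u) [CommRing A] (n d : ℕ)

/-- a submodule containing all class sums of monomials contains all symmetric tensors -/
theorem TS_le_of_classSums (W : Submodule A (⨂[A] _ : Fin d, MvPolynomial (Fin n) A))
    (hW : ∀ (r : ℕ) (e : Fin r → (Fin n →₀ ℕ)) (ν : Fin r →₀ ℕ),
      ∑ c ∈ Finset.univ.filter (fun c : Fin d → Fin r => etype c = ν),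
        PiTensorProduct.tprod A (fun i => (monomial (e (c i)) (1 : A) : MvPolynomial (Fin n) A)) ∈ W)
    (y : ⨂[A] _ : Fin d, MvPolynomial (Fin n) A) (hy : y ∈ SymTen.TS A (MvPolynomial (Fin n) A) d) :
    y ∈ W := by
  classical
  have h1 := Groth.Agent.Lib.GammaTS75.mem_span_of_flat A (MvPolynomial (Fin n) A) d y hy
  refine Submodule.span_le.2 ?_ h1
  rintro _ ⟨m, z, l, rfl⟩
  obtain ⟨r, e, s, rfl⟩ := exists_monomial_repr z
  rw [Groth.Agent.Lib.NormAlt23.tpowLaw_sum, map_sum]
  refine sum_mem_of_class_sums W.toAddSubmonoid _ Finset.univ (fun c _ σ => Finset.mem_univ _) ?_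
  intro ν
  have h2 : ∑ c ∈ Finset.univ.filter (fun c : Fin d → Fin r => etype c = ν),
      Groth.Agent.Lib.PolLawSpan23.evalFun (⨂[A] _ : Fin d, MvPolynomial (Fin n) A) l
        ((∏ j, s (c j)) ⊗ₜ[A] PiTensorProduct.tprod A
          (fun j => (monomial (e (c j)) (1 : A) : MvPolynomial (Fin n) A))) =
      l (ν.prod fun i k => s i ^ k) •
        ∑ c ∈ Finset.univ.filter (fun c : Fin d → Fin r => etype c = ν),
          PiTensorProduct.tprod A (fun i => (monomial (e (c i)) (1 : A) : MvPolynomial (Fin n) A)) := by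
    rw [Finset.smul_sum]
    refine Finset.sum_congr rfl fun c hc => ?_
    rw [Groth.Agent.Lib.PolLawSpan23.evalFun_tmul, Groth.Agent.Lib.GammaTS75.prod_eq_etype,
      (Finset.mem_filter.1 hc).2]
  rw [h2]
  exact W.smul_mem _ (hW r e ν)

end Reduce

section BaseChange

variable (A : Type u) [CommRing A] (n d : ℕ)

/-- change of coefficients `ℤ[x] → A[x]` -/
noncomputable def cInt : MvPolynomial (Fin n) ℤ →+* MvPolynomial (Fin n) A :=
  MvPolynomial.map (Int.castRingHom A)

theorem cInt_monomial (m : Fin n →₀ ℕ) : cInt A n (monomial m 1) = monomial m 1 := by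
  simp [cInt]

/-- the `ℤ`-multilinear map underlying the change of coefficients on tensor powers -/
noncomputable def PsiMulti : MultilinearMap ℤ (fun _ : Fin d => MvPolynomial (Fin n) ℤ)
    (⨂[A] _ : Fin d, MvPolynomial (Fin n) A) where
  toFun p := PiTensorProduct.tprod A (fun i => cInt A n (p i))
  map_update_add' := by
    intro _ p k x y
    have h : ∀ v : MvPolynomial (Fin n) ℤ, (fun i => cInt A n (Function.update p k v i)) =
        Function.update (fun i => cInt A n (p i)) k (cInt A n v) := by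
      intro v
      funext i
      by_cases hi : i = k
      · subst hi; simp
      · simp [Function.update_of_ne hi]
    rw [h, h, h, map_add, MultilinearMap.map_update_add]
  map_update_smul' := by
    intro _ p k r x
    have h : ∀ v : MvPolynomial (Fin n) ℤ, (fun i => cInt A n (Function.update p k v i)) =
        Function.update (fun i => cInt A n (p i)) k (cInt A n v) := by
      intro v
      funext i
      by_cases hi : i = k
      · subst hi; simp
      · simp [Function.update_of_ne hi]
    rw [h, h, map_zsmul, ← Int.cast_smul_eq_zsmul A r (cInt A n x), MultilinearMap.map_update_smul,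
      Int.cast_smul_eq_zsmul]

/-- change of coefficients on tensor powers -/
noncomputable def Psi : (⨂[ℤ] _ : Fin d, MvPolynomial (Fin n) ℤ) →ₗ[ℤ]
    (⨂[A] _ : Fin d, MvPolynomial (Fin n) A) :=
  PiTensorProduct.lift (PsiMulti A n d)

theorem Psi_tprod (p : Fin d → MvPolynomial (Fin n) ℤ) :
    Psi A n d (PiTensorProduct.tprod ℤ p) = PiTensorProduct.tprod A (fun i => cInt A n (p i)) := by
  rw [Psi, PiTensorProduct.lift.tprod]
  rfl

theorem Psi_one : Psi A n d 1 = 1 := by
  have h1 : (1 : ⨂[ℤ] _ : Fin d, MvPolynomial (Fin n) ℤ) = PiTensorProduct.tprod ℤ (fun _ => 1) := rfl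
  rw [h1, Psi_tprod]
  simp only [map_one]
  rfl

theorem Psi_mul (x y : ⨂[ℤ] _ : Fin d, MvPolynomial (Fin n) ℤ) :
    Psi A n d (x * y) = Psi A n d x * Psi A n d y := by
  induction x using PiTensorProduct.induction_on with
  | smul_tprod r f =>
    induction y using PiTensorProduct.induction_on with
    | smul_tprod r' g =>
      rw [smul_mul_smul_comm, PiTensorProduct.tprod_mul_tprod, map_zsmul, map_zsmul, map_zsmul, Psi_tprod,
        Psi_tprod, Psi_tprod, smul_mul_smul_comm, PiTensorProduct.tprod_mul_tprod]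
      congr 2
      funext i
      simp only [Pi.mul_apply, map_mul]
    | add a b ha hb => rw [mul_add, map_add, ha, hb, map_add, mul_add]
  | add a b ha hb => rw [add_mul, map_add, ha, hb, map_add, add_mul]

theorem Psi_reindex (σ : Equiv.Perm (Fin d)) (t : ⨂[ℤ] _ : Fin d, MvPolynomial (Fin n) ℤ) :
    Psi A n d (PiTensorProduct.reindex ℤ (fun _ : Fin d => MvPolynomial (Fin n) ℤ) σ t) =
      PiTensorProduct.reindex A (fun _ : Fin d => MvPolynomial (Fin n) A) σ (Psi A n d t) := by
  induction t using PiTensorProduct.induction_on with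
  | smul_tprod r f =>
    simp only [map_zsmul, PiTensorProduct.reindex_tprod, Psi_tprod]
  | add x y hx hy => simp only [map_add, hx, hy]

theorem Psi_mem_TS (t : ⨂[ℤ] _ : Fin d, MvPolynomial (Fin n) ℤ)
    (ht : t ∈ SymTen.TS ℤ (MvPolynomial (Fin n) ℤ) d) :
    Psi A n d t ∈ SymTen.TS A (MvPolynomial (Fin n) A) d := by
  rw [SymTen.mem_TS_iff] at ht ⊢
  intro σ
  rw [← Psi_reindex, ht σ]

/-- **symmetric tensors of a polynomial ring form an algebra of finite type** -/
theorem fg_TS : (SymTen.TS A (MvPolynomial (Fin n) A) d).FG := by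
  classical
  obtain ⟨G, hG⟩ := fg_TS_int n d
  let G' : Finset (⨂[A] _ : Fin d, MvPolynomial (Fin n) A) := G.image (fun g => Psi A n d g.1)
  refine ⟨G', le_antisymm ?_ ?_⟩
  · refine Algebra.adjoin_le ?_
    intro t ht
    rw [Finset.coe_image] at ht
    obtain ⟨g, -, rfl⟩ := ht
    exact Psi_mem_TS A n d g.1 g.2
  · -- every symmetric tensor lies in the adjoin
    set E := Algebra.adjoin A (G' : Set (⨂[A] _ : Fin d, MvPolynomial (Fin n) A)) with hE
    have hPsi : ∀ t : SymTen.TS ℤ (MvPolynomial (Fin n) ℤ) d, Psi A n d t.1 ∈ E := by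
      intro t
      have ht : t ∈ Algebra.adjoin ℤ (G : Set (SymTen.TS ℤ (MvPolynomial (Fin n) ℤ) d)) := by
        rw [hG]; trivial
      induction ht using Algebra.adjoin_induction with
      | mem x hx =>
        refine Algebra.subset_adjoin ?_
        rw [Finset.coe_image]
        exact ⟨x, hx, rfl⟩
      | algebraMap r =>
        have h1 : ((algebraMap ℤ (SymTen.TS ℤ (MvPolynomial (Fin n) ℤ) d) r :
            SymTen.TS ℤ (MvPolynomial (Fin n) ℤ) d) : ⨂[ℤ] _ : Fin d, MvPolynomial (Fin n) ℤ) =
            r • (1 : ⨂[ℤ] _ : Fin d, MvPolynomial (Fin n) ℤ) := by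
          rw [Algebra.algebraMap_eq_smul_one]
          rfl
        rw [h1, map_zsmul, Psi_one]
        exact zsmul_mem (one_mem E) r
      | add x y _ _ hx hy =>
        have : ((x + y : SymTen.TS ℤ (MvPolynomial (Fin n) ℤ) d) :
            ⨂[ℤ] _ : Fin d, MvPolynomial (Fin n) ℤ) = x.1 + y.1 := rfl
        rw [this, map_add]
        exact E.add_mem hx hy
      | mul x y _ _ hx hy =>
        have : ((x * y : SymTen.TS ℤ (MvPolynomial (Fin n) ℤ) d) :
            ⨂[ℤ] _ : Fin d, MvPolynomial (Fin n) ℤ) = x.1 * y.1 := rfl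
        rw [this, Psi_mul]
        exact E.mul_mem hx hy
    intro y hy
    refine TS_le_of_classSums A n d (Subalgebra.toSubmodule E) ?_ y hy
    intro r e ν
    have h1 : ∑ c ∈ Finset.univ.filter (fun c : Fin d → Fin r => etype c = ν),
        PiTensorProduct.tprod A (fun i => (monomial (e (c i)) (1 : A) : MvPolynomial (Fin n) A)) =
        Psi A n d (Ssum (R := ℤ) (fun j : Fin r => (monomial (e j) (1 : ℤ) : MvPolynomial (Fin n) ℤ))
          (Finset.univ.filter (fun c : Fin d → Fin r => etype c = ν))) := by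
      rw [Ssum, map_sum]
      refine Finset.sum_congr rfl fun c _ => ?_
      rw [Psi_tprod]
      simp only [cInt_monomial]
    rw [h1, Subalgebra.mem_toSubmodule]
    have hmem : Ssum (R := ℤ) (fun j : Fin r => (monomial (e j) (1 : ℤ) : MvPolynomial (Fin n) ℤ))
        (Finset.univ.filter (fun c : Fin d → Fin r => etype c = ν)) ∈
        SymTen.TS ℤ (MvPolynomial (Fin n) ℤ) d :=
      Groth.Agent.Lib.GammaTS75.Ssum_mem_TS' ℤ (MvPolynomial (Fin n) ℤ) d _ _
        (Groth.Agent.Lib.GammaTS75.stable_etype_fibre d ν)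
    exact hPsi ⟨Ssum (R := ℤ) (fun j : Fin r => (monomial (e j) (1 : ℤ) : MvPolynomial (Fin n) ℤ))
        (Finset.univ.filter (fun c : Fin d → Fin r => etype c = ν)), hmem⟩

end BaseChange

end Groth.Agent.Lib.TSFinType75
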