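import Mathlib

/-!
# Wild inertia is a `p`-group (ring-theoretic core)

`B` a Noetherian domain with an action of a group `G`, `m` a maximal ideal.  If `σ` stabilises `m`,
acts trivially on `B / m ^ 2`, and `σ ^ ℓ = 1` with `ℓ` invertible modulo `m`, then `σ` acts
trivially on `B`.
-/

set_option autoImplicit false

open scoped Pointwise

namespace Groth.Agent.Lib.Tame76

variable {B G : Type*} [CommRing B] [Group G] [MulSemiringAction G B]

/-- An element of the stabiliser of `m` maps `m` into itself. -/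
lemma smul_mem_of_stab {m : Ideal B} {σ : G} (hσ : σ • m = m) {x : B} (hx : x ∈ m) :
    σ • x ∈ m := by
  have : σ • x ∈ σ • m := Ideal.smul_mem_pointwise_smul _ _ _ hx
  rwa [hσ] at this

/-- An element of the stabiliser of `m` maps `m ^ n` into itself. -/
lemma smul_mem_pow_of_stab {m : Ideal B} {σ : G} (hσ : σ • m = m) (n : ℕ) {x : B}
    (hx : x ∈ m ^ n) : σ • x ∈ m ^ n := by
  have h2 : σ • (m ^ n) = m ^ n := by
    rw [Ideal.pointwise_smul_def, Ideal.map_pow, ← Ideal.pointwise_smul_def, hσ]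
  exact smul_mem_of_stab h2 hx

/-- If `σ` stabilises `m` and acts trivially modulo `m ^ i`, then for `h ∈ m ^ (j+1)` we have
`σ h - h ∈ m ^ (i + j)`. -/
lemma smul_sub_mem_pow {m : Ideal B} {σ : G} (hσ : σ • m = m) {i : ℕ}
    (hi : ∀ b : B, σ • b - b ∈ m ^ i) (j : ℕ) {h : B} (hh : h ∈ m ^ (j + 1)) :
    σ • h - h ∈ m ^ (i + j) := by
  induction j generalizing h with
  | zero => simpa using hi h
  | succ j ih =>
    rw [pow_succ] at hh
    refine Submodule.mul_induction_on hh ?_ ?_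
    · intro y hy x hx
      have e : σ • (y * x) - y * x = (σ • y - y) * σ • x + y * (σ • x - x) := by
        rw [smul_mul']; ring
      rw [e]
      refine Ideal.add_mem _ ?_ ?_
      · have : (σ • y - y) * σ • x ∈ m ^ (i + j) * m :=
          Ideal.mul_mem_mul (ih hy) (smul_mem_of_stab hσ hx)
        rwa [← pow_succ, add_assoc] at this
      · have : y * (σ • x - x) ∈ m ^ (j + 1) * m ^ i := Ideal.mul_mem_mul hy (hi x)
        rwa [← pow_add, show j + 1 + i = i + (j + 1) by ring] at this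
    · intro x y hx hy
      have e : σ • (x + y) - (x + y) = (σ • x - x) + (σ • y - y) := by
        rw [smul_add]; ring
      rw [e]
      exact Ideal.add_mem _ hx hy

/-- The telescoping identity `∑_{k<ℓ} σ^k (σ b - b) = σ^ℓ b - b`. -/
lemma sum_pow_smul_sub (σ : G) (b : B) (ℓ : ℕ) :
    ∑ k ∈ Finset.range ℓ, σ ^ k • (σ • b - b) = σ ^ ℓ • b - b := by
  induction ℓ with
  | zero => simp
  | succ ℓ ih =>
    rw [Finset.sum_range_succ, ih, smul_sub, ← mul_smul, ← pow_succ]
    ring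

/-- One step: trivial mod `m^n` (`n ≥ 2`) and `σ^ℓ = 1` with `ℓ ∉ m` gives trivial mod `m^(n+1)`. -/
lemma step_of_pow_eq_one {m : Ideal B} [m.IsMaximal] {σ : G} (hσ : σ • m = m) {ℓ : ℕ}
    (hℓ : (ℓ : B) ∉ m) (hpow : σ ^ ℓ = 1) {n : ℕ} (hn : 2 ≤ n)
    (hi : ∀ b : B, σ • b - b ∈ m ^ n) (b : B) : σ • b - b ∈ m ^ (n + 1) := by
  set h := σ • b - b with hh
  have hstab : ∀ k : ℕ, (σ ^ k) • m = m := by
    intro k
    induction k with
    | zero => simp
    | succ k ih => rw [pow_succ, mul_smul, hσ, ih]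
  have hiner : ∀ k : ℕ, ∀ c : B, (σ ^ k) • c - c ∈ m ^ n := by
    intro k
    induction k with
    | zero => intro c; simp
    | succ k ih =>
      intro c
      have e : (σ ^ (k + 1)) • c - c = ((σ ^ k) • (σ • c) - σ • c) + (σ • c - c) := by
        rw [pow_succ, mul_smul]; ring
      rw [e]
      exact Ideal.add_mem _ (ih _) (hi c)
  have hk : ∀ k : ℕ, (σ ^ k) • h - h ∈ m ^ (n + 1) := by
    intro k
    obtain ⟨j, rfl⟩ : ∃ j, n = j + 1 := ⟨n - 1, by omega⟩
    have := smul_sub_mem_pow (hstab k) (hiner k) j (hi b)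
    exact Ideal.pow_le_pow_right (by omega) this
  have hsum : ∑ k ∈ Finset.range ℓ, σ ^ k • h = 0 := by
    rw [sum_pow_smul_sub, hpow, one_smul, sub_self]
  have hmul : (ℓ : B) * h ∈ m ^ (n + 1) := by
    have e : (ℓ : B) * h = - ∑ k ∈ Finset.range ℓ, (σ ^ k • h - h) := by
      rw [Finset.sum_sub_distrib, hsum]; simp
    rw [e]
    exact Ideal.neg_mem_iff _ |>.mpr (Ideal.sum_mem _ fun k _ => hk k)
  exact (Ideal.IsMaximal.mul_mem_pow m hmul).resolve_left hℓ

/-- **Wild inertia core lemma.** If `σ` stabilises the maximal ideal `m` of the Noetherian domain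
`B`, acts trivially on `B / m ^ 2`, and `σ ^ ℓ = 1` with `ℓ` not in `m`, then `σ` acts trivially. -/
theorem smul_eq_of_pow_eq_one [IsDomain B] [IsNoetherianRing B] {m : Ideal B} [m.IsMaximal]
    {σ : G} (hσ : σ • m = m) (h2 : ∀ b : B, σ • b - b ∈ m ^ 2) {ℓ : ℕ} (hℓ : (ℓ : B) ∉ m)
    (hpow : σ ^ ℓ = 1) (b : B) : σ • b = b := by
  have hall : ∀ n : ℕ, ∀ b : B, σ • b - b ∈ m ^ (n + 2) := by
    intro n
    induction n with
    | zero => simpa using h2
    | succ n ih => exact fun b => step_of_pow_eq_one hσ hℓ hpow (by omega) ih b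
  have hbot : σ • b - b ∈ (⨅ i : ℕ, m ^ i) := by
    rw [Ideal.mem_iInf]
    intro i
    exact Ideal.pow_le_pow_right (by omega) (hall i b)
  rw [Ideal.iInf_pow_eq_bot_of_isDomain m (Ideal.IsMaximal.ne_top ‹_›), Ideal.mem_bot,
    sub_eq_zero] at hbot
  exact hbot

end Groth.Agent.Lib.Tame76
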