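import Mathlib
import Groth.Agent.Lib.Tame76A

/-!
# The tame character of the inertia group

`B` a commutative ring with an action of a group `G`, `m` a maximal ideal, `π ∈ m` a "uniformiser"
(`π ∉ m²` and `m = (π) + m²`).  For `σ` in the inertia group of `m` we have `σ π ≡ u π (mod m²)` for a
`u` unique modulo `m`; `σ ↦ u mod m` is a homomorphism `tameChar : I →* B ⧸ m`, and
`tameChar σ = 1` iff `σ π ≡ π (mod m²)`.
-/

set_option autoImplicit false

open scoped Pointwise

namespace Groth.Agent.Lib.Tame76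

variable {B G : Type*} [CommRing B] [Group G] [MulSemiringAction G B]

/-- `π` is a uniformiser at the maximal ideal `m`. -/
structure IsUnif (m : Ideal B) (π : B) : Prop where
  mem : π ∈ m
  notMem : π ∉ m ^ 2
  gen : ∀ b ∈ m, ∃ c : B, b - c * π ∈ m ^ 2

/-- Uniformisers exist at nonzero maximal ideals of Dedekind domains. -/
theorem exists_isUnif [IsDedekindDomain B] (m : Ideal B) [m.IsMaximal] (hm : m ≠ ⊥) :
    ∃ π : B, IsUnif m π := by
  have hprime : m.IsPrime := Ideal.IsMaximal.isPrime ‹_›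
  obtain ⟨π, hπ1, hπ2⟩ := Ideal.exists_mem_pow_notMem_pow_succ m hm (Ideal.IsMaximal.ne_top ‹_›) 1
  rw [pow_one] at hπ1
  refine ⟨π, hπ1, hπ2, ?_⟩
  have hI : Ideal.span {π} ⊔ m ^ 2 = m ^ 1 := by
    apply Ideal.eq_prime_pow_of_succ_lt_of_le hm
    · refine lt_of_le_of_ne le_sup_right ?_
      intro h
      apply hπ2
      have : π ∈ Ideal.span {π} ⊔ m ^ 2 :=
        Ideal.mem_sup_left (Ideal.mem_span_singleton_self π)
      rwa [← h] at this
    · rw [pow_one]
      refine sup_le ?_ (Ideal.pow_le_self (by norm_num))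
      rwa [Ideal.span_singleton_le_iff_mem]
  intro b hb
  rw [← pow_one m, ← hI] at hb
  obtain ⟨x, hx, y, hy, rfl⟩ := Submodule.mem_sup.mp hb
  obtain ⟨c, rfl⟩ := Ideal.mem_span_singleton'.mp hx
  exact ⟨c, by simpa using hy⟩

namespace IsUnif

variable {m : Ideal B} [m.IsMaximal] {π : B}

lemma cancel (hπ : IsUnif m π) {x : B} (hx : x * π ∈ m ^ 2) : x ∈ m :=
  (Ideal.IsMaximal.mul_mem_pow m hx).resolve_right hπ.notMem

/-- Two coefficients of `b` with respect to `π` agree modulo `m`. -/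
lemma coeff_unique (hπ : IsUnif m π) {b u v : B} (hu : b - u * π ∈ m ^ 2)
    (hv : b - v * π ∈ m ^ 2) : Ideal.Quotient.mk m u = Ideal.Quotient.mk m v := by
  rw [Ideal.Quotient.eq]
  apply hπ.cancel
  have : (u - v) * π = (b - v * π) - (b - u * π) := by ring
  rw [this]
  exact Ideal.sub_mem _ hv hu

end IsUnif

variable (G) in
/-- The value of the tame character (junk value `0` if `σ π ∉ m`). -/
noncomputable def chi {m : Ideal B} {π : B} (hπ : IsUnif m π) (σ : G) : B ⧸ m :=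
  open Classical in
  if h : σ • π ∈ m then Ideal.Quotient.mk m (Classical.choose (hπ.gen _ h)) else 0

lemma chi_eq {m : Ideal B} [m.IsMaximal] {π : B} (hπ : IsUnif m π) {σ : G} {u : B}
    (hu : σ • π - u * π ∈ m ^ 2) : chi G hπ σ = Ideal.Quotient.mk m u := by
  have hmem : σ • π ∈ m := by
    have : σ • π = (σ • π - u * π) + u * π := by ring
    rw [this]
    exact Ideal.add_mem _ (Ideal.pow_le_self (by norm_num) hu) (Ideal.mul_mem_left _ _ hπ.mem)
  rw [chi, dif_pos hmem]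
  exact hπ.coeff_unique (Classical.choose_spec (hπ.gen _ hmem)) hu

lemma exists_coeff {m : Ideal B} [m.IsMaximal] {π : B} (hπ : IsUnif m π) {σ : G}
    (hσ : σ • m = m) : ∃ u : B, σ • π - u * π ∈ m ^ 2 ∧ chi G hπ σ = Ideal.Quotient.mk m u := by
  obtain ⟨u, hu⟩ := hπ.gen _ (smul_mem_of_stab hσ hπ.mem)
  exact ⟨u, hu, chi_eq hπ hu⟩

lemma chi_one {m : Ideal B} [m.IsMaximal] {π : B} (hπ : IsUnif m π) : chi G hπ (1 : G) = 1 := by
  rw [chi_eq hπ (u := 1) (by simp)]
  rfl

lemma chi_mul {m : Ideal B} [m.IsMaximal] {π : B} (hπ : IsUnif m π) {σ τ : G}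
    (hσ : σ ∈ m.inertia G) (hτ : τ ∈ m.inertia G) :
    chi G hπ (σ * τ) = chi G hπ σ * chi G hπ τ := by
  have hσs : σ • m = m := Ideal.inertia_le_stabilizer m hσ
  have hτs : τ • m = m := Ideal.inertia_le_stabilizer m hτ
  obtain ⟨u, hu, hu'⟩ := exists_coeff hπ hσs
  obtain ⟨v, hv, hv'⟩ := exists_coeff hπ hτs
  rw [hu', hv', ← map_mul]
  apply chi_eq hπ
  have e : (σ * τ) • π - u * v * π
      = σ • (τ • π - v * π) + σ • v * (σ • π - u * π) + (σ • v - v) * (u * π) := by
    rw [mul_smul, smul_sub, smul_mul']; ring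
  rw [e]
  refine Ideal.add_mem _ (Ideal.add_mem _ ?_ ?_) ?_
  · exact smul_mem_pow_of_stab hσs 2 hv
  · exact Ideal.mul_mem_left _ _ hu
  · rw [pow_two]
    exact Ideal.mul_mem_mul (hσ v) (Ideal.mul_mem_left _ _ hπ.mem)

lemma chi_eq_one_iff {m : Ideal B} [m.IsMaximal] {π : B} (hπ : IsUnif m π) {σ : G}
    (hσs : σ • m = m) : chi G hπ σ = 1 ↔ σ • π - π ∈ m ^ 2 := by
  constructor
  · intro h
    obtain ⟨u, hu, hu'⟩ := exists_coeff hπ hσs
    rw [hu', ← map_one (Ideal.Quotient.mk m), Ideal.Quotient.eq] at h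
    have e : σ • π - π = (σ • π - u * π) + (u - 1) * π := by ring
    rw [e, pow_two]
    refine Ideal.add_mem _ (by rwa [← pow_two]) (Ideal.mul_mem_mul h hπ.mem)
  · intro h
    rw [chi_eq hπ (u := 1) (by simpa using h)]
    rfl

/-- The tame character, as a monoid homomorphism from the inertia group to `B ⧸ m`. -/
noncomputable def tameChar {m : Ideal B} [m.IsMaximal] {π : B} (hπ : IsUnif m π) :
    m.inertia G →* (B ⧸ m) where
  toFun σ := chi G hπ (σ : G)
  map_one' := chi_one hπ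
  map_mul' σ τ := chi_mul hπ σ.2 τ.2

@[simp]
lemma tameChar_apply {m : Ideal B} [m.IsMaximal] {π : B} (hπ : IsUnif m π) (σ : m.inertia G) :
    tameChar hπ σ = chi G hπ (σ : G) := rfl

lemma tameChar_eq_one_iff {m : Ideal B} [m.IsMaximal] {π : B} (hπ : IsUnif m π)
    (σ : m.inertia G) : tameChar hπ σ = 1 ↔ (σ : G) • π - π ∈ m ^ 2 :=
  chi_eq_one_iff hπ (Ideal.inertia_le_stabilizer m σ.2)

/-- If `σ` is in the inertia group and `σ π ≡ π (mod m²)` then `σ` is trivial on `m / m²`. -/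
lemma smul_sub_mem_sq_of_mem {m : Ideal B} [m.IsMaximal] {π : B} (hπ : IsUnif m π) {σ : G}
    (hσ : σ ∈ m.inertia G) (h : σ • π - π ∈ m ^ 2) {b : B} (hb : b ∈ m) :
    σ • b - b ∈ m ^ 2 := by
  have hσs : σ • m = m := Ideal.inertia_le_stabilizer m hσ
  obtain ⟨c, hc⟩ := hπ.gen b hb
  have e : σ • b - b = (σ • (b - c * π) - (b - c * π)) + σ • c * (σ • π - π) + (σ • c - c) * π := by
    rw [smul_sub, smul_mul']; ring
  rw [e]
  refine Ideal.add_mem _ (Ideal.add_mem _ ?_ ?_) ?_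
  · have := smul_sub_mem_pow hσs (i := 1) (fun b => by simpa using hσ b) 1 hc
    simpa using this
  · exact Ideal.mul_mem_left _ _ h
  · rw [pow_two]
    exact Ideal.mul_mem_mul (hσ c) hπ.mem

end Groth.Agent.Lib.Tame76
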