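import Mathlib
import Groth.Agent.Lib.Tame76B

/-!
# Separable residue extension: trivial on `m/m²` implies trivial on `B/m²`

The "derivation argument" in Taylor-expansion form.
-/

set_option autoImplicit false

open scoped Pointwise
open Polynomial

namespace Groth.Agent.Lib.Tame76

variable {A B G : Type*} [CommRing A] [CommRing B] [Algebra A B] [Group G] [MulSemiringAction G B]
  [SMulCommClass G A B]

/-- If `σ` is in the inertia group of `m`, acts trivially on `m / m²`, and the residue field
extension is separable, then `σ` acts trivially on `B / m²`. -/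
theorem smul_sub_mem_sq_of_isSeparable {m : Ideal B} [m.IsMaximal]
    [Algebra.IsSeparable (A ⧸ m.under A) (B ⧸ m)] {σ : G} (hσ : σ ∈ m.inertia G)
    (hm : ∀ b ∈ m, σ • b - b ∈ m ^ 2) (b : B) : σ • b - b ∈ m ^ 2 := by
  set xbar : B ⧸ m := Ideal.Quotient.mk m b with hxbar
  have hsep : (minpoly (A ⧸ m.under A) xbar).Separable :=
    Algebra.IsSeparable.isSeparable (A ⧸ m.under A) xbar
  obtain ⟨g, hg⟩ : ∃ g : A[X], g.map (Ideal.Quotient.mk (m.under A)) =
      minpoly (A ⧸ m.under A) xbar :=
    Polynomial.map_surjective _ Ideal.Quotient.mk_surjective _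
  have compat : ∀ q : A[X], Ideal.Quotient.mk m (aeval b q) =
      aeval xbar (q.map (Ideal.Quotient.mk (m.under A))) := by
    intro q
    have h1 : aeval xbar (q.map (algebraMap A (A ⧸ m.under A))) = aeval xbar q :=
      Polynomial.aeval_map_algebraMap (A ⧸ m.under A) xbar q
    have h2 : aeval xbar q = (Ideal.Quotient.mkₐ A m) (aeval b q) :=
      Polynomial.aeval_algHom_apply (Ideal.Quotient.mkₐ A m) b q
    rw [show (Ideal.Quotient.mk (m.under A)) = algebraMap A (A ⧸ m.under A) from rfl, h1, h2]
    rfl
  have h0 : aeval b g ∈ m := by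
    rw [← Ideal.Quotient.eq_zero_iff_mem, compat, hg, minpoly.aeval]
  have h1 : aeval b (derivative g) ∉ m := by
    rw [← Ideal.Quotient.eq_zero_iff_mem, compat, ← Polynomial.derivative_map, hg]
    exact hsep.aeval_derivative_ne_zero (minpoly.aeval _ _)
  set h := σ • b - b with hh
  obtain ⟨k, hk⟩ := Polynomial.binomExpansion (g.map (algebraMap A B)) b h
  have e1 : b + h = σ • b := by rw [hh]; ring
  have e2 : (g.map (algebraMap A B)).eval (σ • b) = σ • aeval b g := by
    rw [Polynomial.eval_map_algebraMap]
    exact Polynomial.aeval_algHom_apply (MulSemiringAction.toAlgHom A B σ) b g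
  rw [e1, e2, Polynomial.eval_map_algebraMap, Polynomial.derivative_map,
    Polynomial.eval_map_algebraMap] at hk
  have hmul : aeval b (derivative g) * h ∈ m ^ 2 := by
    have e3 : aeval b (derivative g) * h = (σ • aeval b g - aeval b g) - k * h ^ 2 := by
      rw [hk]; ring
    rw [e3]
    refine Ideal.sub_mem _ (hm _ h0) (Ideal.mul_mem_left _ _ ?_)
    exact Ideal.pow_mem_pow (hσ b) 2
  exact (Ideal.IsMaximal.mul_mem_pow m hmul).resolve_left h1

/-- With a uniformiser: the kernel of the tame character is the wild inertia group. -/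
theorem tameChar_eq_one_iff_of_isSeparable {m : Ideal B} [m.IsMaximal]
    [Algebra.IsSeparable (A ⧸ m.under A) (B ⧸ m)] {π : B} (hπ : IsUnif m π)
    (σ : m.inertia G) : tameChar hπ σ = 1 ↔ (σ : G) ∈ (m ^ 2).inertia G := by
  rw [tameChar_eq_one_iff]
  constructor
  · intro h b
    exact smul_sub_mem_sq_of_isSeparable (A := A) σ.2
      (fun b hb => smul_sub_mem_sq_of_mem hπ σ.2 h hb) b
  · intro h
    exact h π

end Groth.Agent.Lib.Tame76
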