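import Mathlib

/-!
# Group-theoretic structure of the tame quotient

`I` a finite group, `θ : I →* κ` a character with values in a domain, `P` its kernel.
Then `I ⧸ P` is cyclic, of order prime to the characteristic, and (when `P` is a `p`-group in
characteristic `p`, or trivial) isomorphic to the group of `|I|`-th roots of unity of `κ`.
-/

set_option autoImplicit false
set_option linter.unusedSectionVars false

namespace Groth.Agent.Lib.Tame76

section Basic

variable {H κ : Type*} [Group H] [Finite H] [CommRing κ] [IsDomain κ]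

/-- In characteristic `p`, `x ^ (p ^ k) = 1` implies `x = 1`. -/
lemma eq_one_of_pow_char_pow_eq_one (p : ℕ) [Fact p.Prime] [CharP κ p] {x : κ} {k : ℕ}
    (hx : x ^ p ^ k = 1) : x = 1 := by
  have h : (x - 1) ^ p ^ k = 0 := by rw [sub_pow_char_pow, hx, one_pow, sub_self]
  exact sub_eq_zero.mp (pow_eq_zero_iff (pow_ne_zero _ (Fact.out : p.Prime).ne_zero) |>.mp h)

/-- A finite group embedding into a domain of characteristic `p` has order prime to `p`. -/
lemma not_dvd_card_of_injective (f : H →* κ) (hf : Function.Injective f) (p : ℕ)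
    [Fact p.Prime] [CharP κ p] : ¬ p ∣ Nat.card H := by
  intro hdvd
  obtain ⟨g, hg⟩ := exists_prime_orderOf_dvd_card' p hdvd
  have h1 : f g ^ p ^ 1 = 1 := by
    rw [pow_one, ← map_pow, ← hg, pow_orderOf_eq_one, map_one]
  have h2 : f g = f 1 := by rw [map_one]; exact eq_one_of_pow_char_pow_eq_one p h1
  have h3 : g = 1 := hf h2
  rw [h3, orderOf_one] at hg
  exact (Fact.out : p.Prime).one_lt.ne hg

/-- A finite group of order `n` embedded in a domain, with `n ∣ e` and all `e`-th roots of unity
being `n`-th roots of unity, is isomorphic to the group of `e`-th roots of unity. -/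
theorem nonempty_mulEquiv_rootsOfUnity (f : H →* κ) (hf : Function.Injective f) (e : ℕ)
    (he : e ≠ 0) (hdvd : Nat.card H ∣ e) (hle : rootsOfUnity e κ ≤ rootsOfUnity (Nat.card H) κ) :
    Nonempty (H ≃* rootsOfUnity e κ) := by
  have hn : NeZero (Nat.card H) := ⟨Nat.card_pos.ne'⟩
  have he' : NeZero e := ⟨he⟩
  have : IsCyclic H := isCyclic_of_injective_ringHom f hf
  -- the units-valued version
  let fu : H →* κˣ := f.toHomUnits
  have hfu : Function.Injective fu := by
    intro a b hab
    apply hf
    have := congrArg (fun u : κˣ => (u : κ)) hab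
    simpa [fu] using this
  have hmem : ∀ h : H, fu h ∈ rootsOfUnity e κ := by
    intro h
    apply rootsOfUnity_le_of_dvd hdvd
    rw [mem_rootsOfUnity, ← map_pow, pow_card_eq_one', map_one]
  let g : H →* rootsOfUnity e κ := fu.codRestrict _ hmem
  have hg : Function.Injective g := by
    intro a b hab
    apply hfu
    exact congrArg Subtype.val hab
  have hc1 : Nat.card H ≤ Nat.card (rootsOfUnity e κ) := Nat.card_le_card_of_injective g hg
  have hc2 : Nat.card (rootsOfUnity e κ) ≤ Nat.card H :=
    (Subgroup.card_le_of_le hle).trans (card_rootsOfUnity κ (Nat.card H))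
  exact ⟨mulEquivOfCyclicCardEq (le_antisymm hc1 hc2)⟩

end Basic

section Quotient

variable {I κ : Type*} [Group I] [Finite I] [CommRing κ] [IsDomain κ]
  (θ : I →* κ) (P : Subgroup I) [P.Normal] (hker : ∀ σ : I, θ σ = 1 ↔ σ ∈ P)

/-- The injective character induced on the quotient by the kernel. -/
noncomputable def quotChar : I ⧸ P →* κ :=
  (Units.coeHom κ).comp (QuotientGroup.lift P θ.toHomUnits (fun σ hσ => by
    apply Units.ext
    simpa using (hker σ).mpr hσ))

include hker in
lemma quotChar_injective : Function.Injective (quotChar θ P hker) := by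
  rw [injective_iff_map_eq_one]
  intro q
  induction q using QuotientGroup.induction_on with
  | H σ =>
    intro h
    rw [QuotientGroup.eq_one_iff]
    apply (hker σ).mp
    simpa [quotChar] using h

include hker in
theorem isCyclic_quotient : IsCyclic (I ⧸ P) :=
  isCyclic_of_injective_ringHom (quotChar θ P hker) (quotChar_injective θ P hker)

include hker in
/-- Characteristic `p`, `P` a `p`-group. -/
theorem card_quotient_of_charP (p : ℕ) (hp : p.Prime) [CharP κ p] (hP : IsPGroup p P) :
    Nat.card (I ⧸ P) = Nat.card I / p ^ (Nat.card I).factorization p ∧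
      Nonempty (I ⧸ P ≃* rootsOfUnity (Nat.card I) κ) := by
  have : Fact p.Prime := ⟨hp⟩
  obtain ⟨k, hk⟩ := hP.exists_card_eq
  have hnd : ¬ p ∣ Nat.card (I ⧸ P) :=
    not_dvd_card_of_injective (quotChar θ P hker) (quotChar_injective θ P hker) p
  have hcard : Nat.card I = Nat.card (I ⧸ P) * p ^ k := by
    rw [← hk]; exact Subgroup.card_eq_card_quotient_mul_card_subgroup P
  have hn0 : Nat.card (I ⧸ P) ≠ 0 := Nat.card_pos.ne'
  have hfac : (Nat.card I).factorization p = k := by
    rw [hcard, Nat.factorization_mul hn0 (pow_ne_zero _ hp.ne_zero)]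
    simp [Nat.factorization_eq_zero_of_not_dvd hnd, hp.factorization_self]
  refine ⟨?_, ?_⟩
  · rw [hfac, hcard, Nat.mul_div_cancel _ (pow_pos hp.pos k)]
  · apply nonempty_mulEquiv_rootsOfUnity (quotChar θ P hker) (quotChar_injective θ P hker)
    · exact Nat.card_pos.ne'
    · exact ⟨p ^ k, hcard⟩
    · intro ζ hζ
      rw [mem_rootsOfUnity'] at hζ ⊢
      rw [hcard, pow_mul] at hζ
      exact eq_one_of_pow_char_pow_eq_one p hζ

include hker in
/-- `P` trivial. -/
theorem card_quotient_of_eq_bot (hP : P = ⊥) :
    Nat.card (I ⧸ P) = Nat.card I ∧ Nonempty (I ⧸ P ≃* rootsOfUnity (Nat.card I) κ) := by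
  have hcard : Nat.card I = Nat.card (I ⧸ P) := by
    have := Subgroup.card_eq_card_quotient_mul_card_subgroup P
    rw [this]
    subst hP
    simp
  refine ⟨hcard.symm, ?_⟩
  apply nonempty_mulEquiv_rootsOfUnity (quotChar θ P hker) (quotChar_injective θ P hker)
  · exact Nat.card_pos.ne'
  · rw [hcard]
  · rw [hcard]

end Quotient

end Groth.Agent.Lib.Tame76
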