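import Mathlib

/-!
# Counting in Galois extensions of domains without assumptions on residue fields

`|D| = e * f` and `|D| = |I| * |Aut(κ(P)/κ(p))|` for a finite Galois group `G` of `S/R`.
-/

set_option autoImplicit false

open scoped Pointwise
open Algebra Module

namespace Groth.Agent.Lib.Tame76

variable {R S G : Type*} [CommRing R] [CommRing S] [Algebra R S] [Group G]
  [MulSemiringAction G S] [IsGaloisGroup G R S] [Finite G]

/-- The order of the decomposition group is `e * f` (no assumption on the residue fields). -/
theorem card_stabilizer_eq_ramificationIdx_mul_inertiaDeg [IsDomain R] [IsDomain S]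
    [Module.Finite R S] [Module.Flat R S] (p : Ideal R) [p.IsPrime]
    (P : Ideal S) [P.IsPrime] [P.LiesOver p] :
    Nat.card (MulAction.stabilizer G P) = P.ramificationIdx R * P.inertiaDeg R := by
  have : SMulCommClass G R S := IsGaloisGroup.commutes
  have : Algebra.IsInvariant R S G := IsGaloisGroup.isInvariant
  have h1 := Ideal.ncard_primesOver_mul_ramificationIdxIn_mul_inertiaDegIn p S G
  rw [Ideal.ramificationIdxIn_eq_ramificationIdx p P G, Ideal.inertiaDegIn_eq_inertiaDeg p P G] at h1
  have h2 : (p.primesOver S).ncard * Nat.card (MulAction.stabilizer G P) = Nat.card G := by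
    rw [← IsInvariant.orbit_eq_primesOver R S G p P]
    simpa using Nat.card_congr (MulAction.orbitProdStabilizerEquivGroup G P)
  have h3 : (p.primesOver S).ncard ≠ 0 := by
    intro h0
    rw [h0, zero_mul] at h2
    exact Nat.card_pos.ne' h2.symm
  exact mul_left_cancel₀ h3 (h2.trans h1.symm)

/-- `|D| = |I| * |Aut(κ(P)/κ(p))|`. -/
theorem card_stabilizer_eq_card_inertia_mul_card_aut (p : Ideal R)
    (P : Ideal S) [P.IsPrime] [P.LiesOver p] :
    Nat.card (MulAction.stabilizer G P) =
      Nat.card (P.inertia G) * Nat.card ((S ⧸ P) ≃ₐ[R ⧸ p] (S ⧸ P)) := by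
  have : SMulCommClass G R S := IsGaloisGroup.commutes
  have : Algebra.IsInvariant R S G := IsGaloisGroup.isInvariant
  have h : Subgroup.index _ = _ := Nat.card_congr
    (Ideal.Quotient.stabilizerQuotientInertiaEquiv G p P).toEquiv
  rw [← h, ← ((P.inertia G).subgroupOf (MulAction.stabilizer G P)).card_mul_index,
    Nat.card_congr (Subgroup.subgroupOfEquivOfLe (Ideal.inertia_le_stabilizer (M := G) P)).toEquiv,
    AddSubgroup.subgroupOf_inertia]

end Groth.Agent.Lib.Tame76
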