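import Mathlib
import Groth.Agent.Lib.Tame76F

/-!
# The ring of inertia invariants is unramified with separable residue extension

`R ⊆ S' ⊆ S` domains, `G` a finite Galois group of `S/R`, `m` a maximal ideal of `S` with inertia
group `I`, and `I` a Galois group of `S/S'` (so `S' = S^I`).  Then `m' = m ∩ S'` has ramification
index `1` over `R` and its residue field is separable over that of `R`.
-/

set_option autoImplicit false

open scoped Pointwise
open Algebra Module

namespace Groth.Agent.Lib.Tame76

section Aut

variable {k k' l : Type*} [Field k] [Field k'] [Field l] [Algebra k k'] [Algebra k' l] [Algebra k l]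
  [IsScalarTower k k' l]

/-- If `l/k'` has no nontrivial automorphisms, restriction `Aut(l/k) → Hom_k(k', l)` is injective. -/
lemma restrict_injective_of_subsingleton [Subsingleton (l ≃ₐ[k'] l)] :
    Function.Injective (fun σ : l ≃ₐ[k] l =>
      (σ : l →ₐ[k] l).comp (IsScalarTower.toAlgHom k k' l)) := by
  intro σ τ h
  have hpt : ∀ x : k', σ (algebraMap k' l x) = τ (algebraMap k' l x) := fun x => by
    have := congrArg (fun f : k' →ₐ[k] l => f x) h
    simpa using this
  let ρ : l ≃ₐ[k'] l := AlgEquiv.ofRingEquiv (f := (σ.trans τ.symm).toRingEquiv) (fun x => by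
    show τ.symm (σ (algebraMap k' l x)) = algebraMap k' l x
    rw [hpt, AlgEquiv.symm_apply_apply])
  have hρ : ρ = AlgEquiv.refl := Subsingleton.elim _ _
  ext x
  have h1 : ρ x = x := by rw [hρ]; rfl
  have h2 : τ.symm (σ x) = x := h1
  rw [← h2, AlgEquiv.apply_symm_apply, h2]

/-- If `l/k` is normal, `k'/k` finite and `l/k'` has no nontrivial automorphisms, then
`|Aut(l/k)| ≤ [k' : k]_s`. -/
lemma card_aut_le_finSepDegree [Normal k l] [FiniteDimensional k k'] [Finite (l ≃ₐ[k] l)]
    [Subsingleton (l ≃ₐ[k'] l)] :
    Nat.card (l ≃ₐ[k] l) ≤ Field.finSepDegree k k' := by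
  have h1 : Field.finSepDegree k k' = Nat.card (k' →ₐ[k] l) := by
    apply Field.finSepDegree_eq_of_adjoin_splits (S := Set.univ) k k' l
      (IntermediateField.adjoin_univ k k')
    intro s _
    refine ⟨Algebra.IsIntegral.isIntegral s, ?_⟩
    have := Normal.splits (F := k) (K := l) inferInstance (algebraMap k' l s)
    rwa [minpoly.algebraMap_eq (algebraMap k' l).injective] at this
  rw [h1]
  have : Finite (k' →ₐ[k] l) := inferInstance
  exact Nat.card_le_card_of_injective _ (restrict_injective_of_subsingleton (k := k) (k' := k'))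

end Aut

end Groth.Agent.Lib.Tame76

namespace Groth.Agent.Lib.Tame76

section Main

variable {R S' S G : Type*} [CommRing R] [CommRing S'] [CommRing S]
  [IsDomain R] [IsDomain S'] [IsDomain S]
  [Algebra R S'] [Algebra S' S] [Algebra R S] [IsScalarTower R S' S]
  [Group G] [Finite G] [MulSemiringAction G S] [IsGaloisGroup G R S]
  [Module.Finite R S] [Module.Flat R S] [Module.Finite S' S] [Module.Flat S' S]
  [Module.Finite R S']

attribute [local instance] Ideal.Quotient.field

set_option maxHeartbeats 800000 in
/-- Key counting theorem for the inertia invariants. -/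
theorem inertia_invariants_unramified (p : Ideal R) (m' : Ideal S') (m : Ideal S)
    [m.IsMaximal] [m'.IsMaximal] [p.IsMaximal] [m.LiesOver m'] [m'.LiesOver p] [m.LiesOver p]
    [IsGaloisGroup (m.inertia G) S' S] :
    m'.ramificationIdx R = 1 ∧ Algebra.IsSeparable (R ⧸ p) (S' ⧸ m') := by
  have : SMulCommClass G R S := IsGaloisGroup.commutes
  have : Algebra.IsInvariant R S G := IsGaloisGroup.isInvariant
  have : SMulCommClass (m.inertia G) S' S := IsGaloisGroup.commutes
  have : Algebra.IsInvariant S' S (m.inertia G) := IsGaloisGroup.isInvariant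
  -- counting for G
  have hD := card_stabilizer_eq_ramificationIdx_mul_inertiaDeg (G := G) p m
  have hDI := card_stabilizer_eq_card_inertia_mul_card_aut (G := G) p m
  -- counting for I
  have hI := card_stabilizer_eq_ramificationIdx_mul_inertiaDeg (G := m.inertia G) m' m
  have hstab : MulAction.stabilizer (m.inertia G) m = ⊤ := by
    rw [_root_.eq_top_iff]
    intro σ _
    rw [MulAction.mem_stabilizer_iff]
    exact Ideal.inertia_le_stabilizer m σ.2
  have hcard : Nat.card (MulAction.stabilizer (m.inertia G) m) = Nat.card (m.inertia G) := by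
    rw [hstab, Subgroup.card_top]
  replace hI : Nat.card (m.inertia G) = m.ramificationIdx S' * m.inertiaDeg S' :=
    hcard.symm.trans hI
  -- towers
  have he := Ideal.ramificationIdx_tower (R := R) m' m
  have hf := Ideal.inertiaDeg_tower (R := R) m' m
  have hI0 : Nat.card (m.inertia G) ≠ 0 := Nat.card_pos.ne'
  have hprod : m'.ramificationIdx R * m'.inertiaDeg R =
      Nat.card ((S ⧸ m) ≃ₐ[R ⧸ p] (S ⧸ m)) := by
    apply mul_left_cancel₀ hI0
    rw [← hDI, hD, he, hf, hI]
    ring
  -- the residue tower
  have htower : IsScalarTower (R ⧸ p) (S' ⧸ m') (S ⧸ m) := by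
    refine IsScalarTower.of_algebraMap_eq fun x => ?_
    obtain ⟨r, rfl⟩ := Ideal.Quotient.mk_surjective x
    show Ideal.Quotient.mk m (algebraMap R S r) =
      Ideal.Quotient.mk m (algebraMap S' S (algebraMap R S' r))
    rw [← IsScalarTower.algebraMap_apply]
  -- no automorphisms of κ(m) over κ(m')
  have hsub : Subsingleton ((S ⧸ m) ≃ₐ[S' ⧸ m'] (S ⧸ m)) := by
    have e := Ideal.Quotient.stabilizerQuotientInertiaEquiv (m.inertia G) m' m
    refine ⟨fun a b => e.symm.injective ?_⟩
    generalize e.symm a = x
    generalize e.symm b = y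
    induction x using QuotientGroup.induction_on with
    | H σ =>
      induction y using QuotientGroup.induction_on with
      | H τ =>
        rw [QuotientGroup.eq]
        intro x
        exact (σ⁻¹ * τ).1.2 x
  have hnormal : Normal (R ⧸ p) (S ⧸ m) := Ideal.Quotient.normal G p m
  have hfinaut : Finite ((S ⧸ m) ≃ₐ[R ⧸ p] (S ⧸ m)) := inferInstance
  have hle1 := card_aut_le_finSepDegree (k := R ⧸ p) (k' := S' ⧸ m') (l := S ⧸ m)
  have hle2 := Field.finSepDegree_le_finrank (R ⧸ p) (S' ⧸ m')
  have hfeq : m'.inertiaDeg R = Module.finrank (R ⧸ p) (S' ⧸ m') :=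
    Ideal.inertiaDeg_eq_of_isMaximal p m'
  have hepos : 0 < m'.ramificationIdx R := Ideal.ramificationIdx_pos m' R
  have hfpos : 0 < m'.inertiaDeg R := Ideal.inertiaDeg_pos m' R
  -- arithmetic
  have hchain : m'.ramificationIdx R * m'.inertiaDeg R ≤ m'.inertiaDeg R := by
    rw [hprod, hfeq]; exact hle1.trans hle2
  have he1 : m'.ramificationIdx R = 1 := by
    by_contra hne
    have h2 : 2 ≤ m'.ramificationIdx R := by omega
    nlinarith
  refine ⟨he1, ?_⟩
  rw [← Field.finSepDegree_eq_finrank_iff]
  apply le_antisymm hle2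
  rw [← hfeq]
  calc m'.inertiaDeg R = m'.ramificationIdx R * m'.inertiaDeg R := by rw [he1, one_mul]
    _ = _ := hprod
    _ ≤ _ := hle1

end Main

end Groth.Agent.Lib.Tame76
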