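import Groth.Prelude.Def_W4c1tameactTame
import Groth.Agent.Lib.HopfAntipode

/-!
# The Reynolds operator of a total integral (helper41; TameAct cluster)

`k` a commutative ring, `A` a commutative Hopf algebra, `B` a comodule algebra, `M` a `(B, A)`-Hopf
module, `α : A → B` linear.
* `L M α : M ⊗ A → M`, `m ⊗ a ↦ α(S a) • m`; `reynolds_eq : reynolds α m = L (ρ m)`.
* `coact_L`, `Y`, `Y_comul` (`Σ a₁ S(a₂) ⊗ a₃ = 1 ⊗ a`), `H`, `Q_assoc_symm`.
* `coact_reynolds`, `reynolds_mem_fixedPts` (for a comodule map `α`), `reynolds_of_mem_fixedPts`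
  (`α 1 = 1`), `reynolds_map` (naturality).
-/

set_option autoImplicit false
set_option linter.unusedSectionVars false
universe u v w w' w''

open TensorProduct

namespace Groth.Agent.Lib.TameAct41

section Rey

variable {k : Type u} [CommRing k] {A : Type v} [CommRing A] [HopfAlgebra k A]
  {B : Type w} [CommRing B] [Algebra k B] [HopfRep.Comod k A B]
  {M : Type w'} [AddCommGroup M] [Module k M] [Module B M] [IsScalarTower k B M]
  [HopfRep.Comod k A M]

local notation "S" => HopfAlgebraStruct.antipode k (A := A)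
local notation "Δ" => CoalgebraStruct.comul (R := k) (A := A)

variable (M) in
/-- `m ⊗ a ↦ α(S a) • m`. -/
noncomputable def L (α : A →ₗ[k] B) : M ⊗[k] A →ₗ[k] M :=
  TensorProduct.lift
    ((Algebra.lsmul k k M : B →ₐ[k] Module.End k M).toLinearMap ∘ₗ α ∘ₗ S).flip

@[simp] theorem L_tmul (α : A →ₗ[k] B) (m : M) (a : A) : L M α (m ⊗ₜ[k] a) = α (S a) • m := by
  simp [L]

theorem reynolds_eq (α : A →ₗ[k] B) (m : M) :
    TameAct.reynolds k A B M α m = L M α (HopfRep.Comod.coact (k := k) (A := A) m) := rfl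

variable (M) in
/-- `x ⊗ a ↦ ρ_B(α(S a)) · x`. -/
noncomputable def Q (α : A →ₗ[k] B) : (M ⊗[k] A) ⊗[k] A →ₗ[k] M ⊗[k] A :=
  TensorProduct.lift ((TameAct.hmSMul k A B M ∘ₗ α.rTensor A ∘ₗ Δ ∘ₗ S).flip)

@[simp] theorem Q_tmul (α : A →ₗ[k] B) (x : M ⊗[k] A) (a : A) :
    Q M α (x ⊗ₜ[k] a) = TameAct.hmSMul k A B M (α.rTensor A (Δ (S a))) x := by
  simp [Q]

variable [TameAct.IsHopfMod k A B M]

theorem coact_L (α : A →ₗ[k] B) (hα : Hoch.IsComodHom A α) (x : M ⊗[k] A) :
    HopfRep.Comod.coact (k := k) (A := A) (L M α x) =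
      Q M α ((HopfRep.Comod.coact (k := k) (A := A) (V := M)).rTensor A x) := by
  induction x using TensorProduct.induction_on with
  | zero => simp
  | add x y hx hy => simp only [map_add, hx, hy]
  | tmul m a =>
    rw [L_tmul, TameAct.IsHopfMod.coact_smul, LinearMap.rTensor_tmul, Q_tmul]
    have h := LinearMap.congr_fun hα (S a)
    simp only [LinearMap.comp_apply] at h
    rw [h]
    rfl

variable (k A) in
/-- `a ⊗ a' ↦ Σ a S(a'₁) ⊗ a'₂`. -/
noncomputable def Y : A ⊗[k] A →ₗ[k] A ⊗[k] A :=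
  (LinearMap.mul' k A ∘ₗ (S).lTensor A).rTensor A ∘ₗ (TensorProduct.assoc k A A A).symm.toLinearMap ∘ₗ
    (Δ).lTensor A

theorem Y_comul (a : A) : Y k A (Δ a) = (1 : A) ⊗ₜ[k] a := by
  have h1 : (TensorProduct.assoc k A A A).symm ((Δ).lTensor A (Δ a)) = (Δ).rTensor A (Δ a) := by
    rw [LinearEquiv.symm_apply_eq]
    exact (Coalgebra.coassoc_apply a).symm
  rw [Y, LinearMap.comp_apply, LinearMap.comp_apply, LinearEquiv.coe_coe, h1,
    ← LinearMap.comp_apply, ← LinearMap.rTensor_comp]
  have h2 : (LinearMap.mul' k A ∘ₗ (S).lTensor A) ∘ₗ Δ =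
      Algebra.linearMap k A ∘ₗ CoalgebraStruct.counit (R := k) (A := A) := by
    apply LinearMap.ext
    intro b
    simp only [LinearMap.comp_apply]
    rw [HopfAlgebra.mul_antipode_lTensor_comul_apply]
    rfl
  rw [h2, LinearMap.rTensor_comp, LinearMap.comp_apply, Coalgebra.rTensor_counit_comul]
  simp [Algebra.algebraMap_eq_smul_one]

variable (M) in
/-- `x ⊗ y ↦ α(S y) • m ⊗ x`. -/
noncomputable def H (α : A →ₗ[k] B) (m : M) : A ⊗[k] A →ₗ[k] M ⊗[k] A :=
  (TensorProduct.comm k A M).toLinearMap ∘ₗ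
    ((LinearMap.toSpanSingleton B M m).restrictScalars k ∘ₗ α ∘ₗ S).lTensor A

@[simp] theorem H_tmul (α : A →ₗ[k] B) (m : M) (x y : A) :
    H M α m (x ⊗ₜ[k] y) = (α (S y) • m) ⊗ₜ[k] x := by
  simp [H]

theorem Q_assoc_symm (α : A →ₗ[k] B) (m : M) (t : A ⊗[k] A) :
    Q M α ((TensorProduct.assoc k M A A).symm (m ⊗ₜ[k] t)) = H M α m (Y k A t) := by
  induction t using TensorProduct.induction_on with
  | zero => simp
  | add x y hx hy => simp only [TensorProduct.tmul_add, map_add, hx, hy]
  | tmul a a' =>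
    rw [TensorProduct.assoc_symm_tmul, Q_tmul, Groth.Agent.Lib.HopfAntipode.comul_antipode]
    simp only [Y, LinearMap.comp_apply, LinearMap.lTensor_tmul, LinearEquiv.coe_coe]
    generalize Δ a' = u
    induction u using TensorProduct.induction_on with
    | zero => simp
    | add x y hx hy => simp only [TensorProduct.tmul_add, map_add, hx, hy, LinearMap.add_apply]
    | tmul p q =>
      simp [mul_comm]

/-- The Reynolds map takes values in the invariants. -/
theorem coact_reynolds (α : A →ₗ[k] B) (hα : Hoch.IsComodHom A α) (m : M) :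
    HopfRep.Comod.coact (k := k) (A := A) (TameAct.reynolds k A B M α m) =
      TameAct.reynolds k A B M α m ⊗ₜ[k] (1 : A) := by
  rw [reynolds_eq, coact_L α hα]
  have h := LinearMap.congr_fun (HopfRep.Comod.coassoc (k := k) (A := A) (V := M)) m
  simp only [LinearMap.comp_apply, LinearEquiv.coe_coe] at h
  have h' : (HopfRep.Comod.coact (k := k) (A := A) (V := M)).rTensor A
      (HopfRep.Comod.coact (k := k) (A := A) m) =
      (TensorProduct.assoc k M A A).symm ((Δ).lTensor M (HopfRep.Comod.coact (k := k) (A := A) m)) := by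
    rw [← h, LinearEquiv.symm_apply_apply]
  rw [h']
  generalize HopfRep.Comod.coact (k := k) (A := A) m = x
  induction x using TensorProduct.induction_on with
  | zero => simp
  | add x y hx hy => simp only [map_add, hx, hy, TensorProduct.add_tmul]
  | tmul m' a =>
    rw [LinearMap.lTensor_tmul, Q_assoc_symm, Y_comul, H_tmul, L_tmul]

theorem reynolds_mem_fixedPts (α : A →ₗ[k] B) (hα : Hoch.IsComodHom A α) (m : M) :
    TameAct.reynolds k A B M α m ∈ HopfRep.fixedPts k A M :=
  coact_reynolds α hα m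

omit [TameAct.IsHopfMod k A B M] in
theorem reynolds_of_mem_fixedPts (α : A →ₗ[k] B) (hα1 : α 1 = 1) {m : M}
    (hm : m ∈ HopfRep.fixedPts k A M) : TameAct.reynolds k A B M α m = m := by
  have hm' : HopfRep.Comod.coact (k := k) (A := A) m = m ⊗ₜ[k] (1 : A) := hm
  rw [TameAct.reynolds_apply_of_coact_eq k A B M α m m 1 hm', HopfAlgebra.antipode_one, hα1,
    one_smul]

omit [TameAct.IsHopfMod k A B M] in
/-- Naturality of the Reynolds map. -/
theorem reynolds_map {N : Type w''} [AddCommGroup N] [Module k N] [Module B N] [IsScalarTower k B N]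
    [HopfRep.Comod k A N] (α : A →ₗ[k] B) (f : M →ₗ[B] N)
    (hf : Hoch.IsComodHom A (f.restrictScalars k)) (m : M) :
    TameAct.reynolds k A B N α (f m) = f (TameAct.reynolds k A B M α m) := by
  rw [reynolds_eq, reynolds_eq]
  have h := LinearMap.congr_fun hf m
  simp only [LinearMap.comp_apply, LinearMap.restrictScalars_apply] at h
  rw [h]
  generalize HopfRep.Comod.coact (k := k) (A := A) m = x
  induction x using TensorProduct.induction_on with
  | zero => simp
  | add x y hx hy => simp only [map_add, hx, hy]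
  | tmul m' a => simp

end Rey

end Groth.Agent.Lib.TameAct41
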