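/-
helper41 library: total integral ⇒ comodule retraction of the coaction.
For a commutative Hopf algebra `A` over a commutative ring `k`, a commutative `k`-algebra `B` with
multiplicative coaction, and a linear map `α : A → B`, defines
`lamOf α : Hoch.Ind k A B → B`, `b ⊗ a ↦ Σ b₀ · α (S b₁ · a)` and proves
* `lamOf_comp_toInd` : `α 1 = 1 → lamOf α ∘ toInd = id`;
* `isComodHom_lamOf` : `α` comodule hom ⇒ `lamOf α` comodule hom (for the coaction `id ⊗ Δ` on `Ind`).
-/
import Groth.Agent.Lib.TameAct41b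
import Groth.Agent.Lib.ComodHom

set_option autoImplicit false
set_option linter.unusedSectionVars false
universe u v w

open TensorProduct WithConv

namespace Groth.Agent.Lib.TameAct41

section KeyIdentity

variable {k : Type u} [CommRing k] {A : Type v} [CommRing A] [HopfAlgebra k A]

local notation "S" => HopfAlgebraStruct.antipode k (A := A)
local notation "Δ" => CoalgebraStruct.comul (R := k) (A := A)

/-- `Σ (1 ⊗ a₁) · Δ(S a₂) = S a ⊗ 1`. -/
theorem lift_includeRight_comul_antipode (a : A) :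
    Algebra.TensorProduct.lift (Algebra.TensorProduct.includeRight : A →ₐ[k] A ⊗[k] A)
      ((Bialgebra.comulAlgHom k A).comp (HopfAlgebra.antipodeAlgHom k A))
      (fun _ _ => Commute.all _ _) (Δ a) = (S a) ⊗ₜ[k] (1 : A) := by
  let gL : WithConv (A →ₐ[k] A ⊗[k] A) := toConv Algebra.TensorProduct.includeLeft
  let gR : WithConv (A →ₐ[k] A ⊗[k] A) := toConv Algebra.TensorProduct.includeRight
  let D : WithConv (A →ₐ[k] A ⊗[k] A) := toConv (Bialgebra.comulAlgHom k A)
  have h1 : gL * gR = D := by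
    apply WithConv.ofConv_injective
    apply AlgHom.ext
    intro x
    have := AlgHom.convMul_apply gL gR x
    rw [show (gL * gR).ofConv x = (gL * gR) x from rfl, this]
    have hl : Algebra.TensorProduct.lift gL.ofConv gR.ofConv (fun _ _ => Commute.all _ _) =
        AlgHom.id k (A ⊗[k] A) := by
      apply Algebra.TensorProduct.ext <;> ext <;> simp [gL, gR]
    rw [hl]
    rfl
  have h2 : gR * D⁻¹ = gL⁻¹ := by
    have e1 : (gL * gR)⁻¹ = gR⁻¹ * gL⁻¹ := mul_inv_rev gL gR
    have e2 : gR * (gR⁻¹ * gL⁻¹) = gL⁻¹ := mul_inv_cancel_left gR gL⁻¹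
    rw [← h1, e1, e2]
  have h3 := congrArg (fun f : WithConv (A →ₐ[k] A ⊗[k] A) => f a) h2
  have h4 : (gR * D⁻¹) a = _ := AlgHom.convMul_apply gR D⁻¹ a
  rw [h4] at h3
  exact h3

end KeyIdentity

section Retraction

variable {k : Type u} [CommRing k] {A : Type v} [CommRing A] [HopfAlgebra k A]
  {B : Type w} [CommRing B] [Algebra k B] [HopfRep.Comod k A B] [GLin.IsCoactAlg k A B]

local notation "S" => HopfAlgebraStruct.antipode k (A := A)
local notation "Δ" => CoalgebraStruct.comul (R := k) (A := A)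
local notation "ρB" => HopfRep.Comod.coact (k := k) (A := A) (V := B)

/-- `(b ⊗ a') ⊗ a ↦ b * α(S(a') a)`. -/
noncomputable def Nmap (α : A →ₗ[k] B) : (B ⊗[k] A) ⊗[k] A →ₗ[k] B :=
  LinearMap.mul' k B ∘ₗ α.lTensor B ∘ₗ (LinearMap.mul' k A ∘ₗ (S).rTensor A).lTensor B ∘ₗ
    (TensorProduct.assoc k B A A).toLinearMap

@[simp] theorem Nmap_tmul (α : A →ₗ[k] B) (b : B) (a' a : A) :
    Nmap α ((b ⊗ₜ[k] a') ⊗ₜ[k] a) = b * α (S a' * a) := by
  simp [Nmap]

/-- The candidate retraction `b ⊗ a ↦ Σ b₀ α(S(b₁) a)`, on the plain tensor product. -/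
noncomputable def lamP (α : A →ₗ[k] B) : B ⊗[k] A →ₗ[k] B :=
  Nmap α ∘ₗ (ρB).rTensor A

theorem lamP_tmul (α : A →ₗ[k] B) (b : B) (a : A) :
    lamP α (b ⊗ₜ[k] a) = Nmap α (ρB b ⊗ₜ[k] a) := rfl

/-- The candidate retraction on the induced comodule. -/
noncomputable def lamOf (α : A →ₗ[k] B) : Hoch.Ind k A B →ₗ[k] B :=
  lamP α ∘ₗ (Hoch.Ind.equiv k A B).symm.toLinearMap

theorem Nmap_assoc_symm (α : A →ₗ[k] B) (b : B) (t : A ⊗[k] A) :
    Nmap α ((TensorProduct.assoc k B A A).symm (b ⊗ₜ[k] t)) =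
      b * α (LinearMap.mul' k A ((S).rTensor A t)) := by
  induction t using TensorProduct.induction_on with
  | zero => simp
  | add x y hx hy => simp only [TensorProduct.tmul_add, map_add, hx, hy, mul_add]
  | tmul p q => simp

theorem lamP_coact (α : A →ₗ[k] B) (hα1 : α 1 = 1) (b : B) : lamP α (ρB b) = b := by
  have h := LinearMap.congr_fun (HopfRep.Comod.coassoc (k := k) (A := A) (V := B)) b
  simp only [LinearMap.comp_apply, LinearEquiv.coe_coe] at h
  have h' : (ρB).rTensor A (ρB b) = (TensorProduct.assoc k B A A).symm ((Δ).lTensor B (ρB b)) := by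
    rw [← h, LinearEquiv.symm_apply_apply]
  have hc := LinearMap.congr_fun (HopfRep.Comod.counit_comp (k := k) (A := A) (V := B)) b
  simp only [LinearMap.comp_apply] at hc
  show Nmap α ((ρB).rTensor A (ρB b)) = b
  rw [h']
  have key : ∀ x : B ⊗[k] A, Nmap α ((TensorProduct.assoc k B A A).symm ((Δ).lTensor B x)) =
      TensorProduct.rid k B ((CoalgebraStruct.counit (R := k) (A := A)).lTensor B x) := by
    intro x
    induction x using TensorProduct.induction_on with
    | zero => simp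
    | add x y hx hy => simp only [map_add, hx, hy]
    | tmul b' a =>
      rw [LinearMap.lTensor_tmul, Nmap_assoc_symm, HopfAlgebra.mul_antipode_rTensor_comul_apply,
        LinearMap.lTensor_tmul, TensorProduct.rid_tmul, Algebra.algebraMap_eq_smul_one, map_smul,
        hα1, mul_smul_comm, mul_one]
  rw [key, hc]
  simp

theorem lamOf_comp_toInd (α : A →ₗ[k] B) (hα1 : α 1 = 1) :
    lamOf α ∘ₗ Hoch.toInd k A B = LinearMap.id := by
  apply LinearMap.ext
  intro b
  exact lamP_coact α hα1 b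

/-- `a' ⊗ a ↦ (α ⊗ id)(Δ(S(a') a))`. -/
noncomputable def Gmap (α : A →ₗ[k] B) : A ⊗[k] A →ₗ[k] B ⊗[k] A :=
  α.rTensor A ∘ₗ Δ ∘ₗ LinearMap.mul' k A ∘ₗ (S).rTensor A

/-- `(z ⊗ a') ⊗ a ↦ z * (α ⊗ id)(Δ(S(a') a))`. -/
noncomputable def Pmap (α : A →ₗ[k] B) : ((B ⊗[k] A) ⊗[k] A) ⊗[k] A →ₗ[k] B ⊗[k] A :=
  LinearMap.mul' k (B ⊗[k] A) ∘ₗ (Gmap α).lTensor (B ⊗[k] A) ∘ₗ
    (TensorProduct.assoc k (B ⊗[k] A) A A).toLinearMap

@[simp] theorem Pmap_tmul (α : A →ₗ[k] B) (z : B ⊗[k] A) (a' a : A) :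
    Pmap α ((z ⊗ₜ[k] a') ⊗ₜ[k] a) = z * α.rTensor A (Δ (S a' * a)) := by
  simp [Pmap, Gmap]

theorem coact_Nmap (α : A →ₗ[k] B) (hα : Hoch.IsComodHom A α) (y : B ⊗[k] A) (a : A) :
    ρB (Nmap α (y ⊗ₜ[k] a)) = Pmap α ((ρB).rTensor A y ⊗ₜ[k] a) := by
  induction y using TensorProduct.induction_on with
  | zero => simp
  | add x y hx hy => simp only [TensorProduct.add_tmul, map_add, hx, hy]
  | tmul b' a' =>
    rw [Nmap_tmul, GLin.IsCoactAlg.coact_mul, LinearMap.rTensor_tmul, Pmap_tmul]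
    have h := LinearMap.congr_fun hα (S a' * a)
    simp only [LinearMap.comp_apply] at h
    rw [h]
    rfl

theorem tmul_one_mul_rTensor (α : A →ₗ[k] B) (c : A) (u : A ⊗[k] A) :
    ((1 : B) ⊗ₜ[k] c) * α.rTensor A u = α.rTensor A (((1 : A) ⊗ₜ[k] c) * u) := by
  induction u using TensorProduct.induction_on with
  | zero => simp
  | add x y hx hy => simp only [mul_add, map_add, hx, hy]
  | tmul p q => simp

theorem Pmap_assoc_symm (α : A →ₗ[k] B) (b' : B) (t : A ⊗[k] A) (a : A) :
    Pmap α ((TensorProduct.assoc k B A A).symm (b' ⊗ₜ[k] t) ⊗ₜ[k] a) =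
      (b' ⊗ₜ[k] (1 : A)) * α.rTensor A
        (Algebra.TensorProduct.lift (Algebra.TensorProduct.includeRight : A →ₐ[k] A ⊗[k] A)
          ((Bialgebra.comulAlgHom k A).comp (HopfAlgebra.antipodeAlgHom k A))
          (fun _ _ => Commute.all _ _) t * Δ a) := by
  induction t using TensorProduct.induction_on with
  | zero => simp
  | add x y hx hy =>
    simp only [TensorProduct.tmul_add, TensorProduct.add_tmul, map_add, hx, hy, add_mul, mul_add]
  | tmul p q =>
    rw [TensorProduct.assoc_symm_tmul, Pmap_tmul, Algebra.TensorProduct.lift_tmul]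
    have h1 : (b' ⊗ₜ[k] p : B ⊗[k] A) = (b' ⊗ₜ[k] (1 : A)) * ((1 : B) ⊗ₜ[k] p) := by
      rw [Algebra.TensorProduct.tmul_mul_tmul, mul_one, one_mul]
    rw [h1, mul_assoc, tmul_one_mul_rTensor, Bialgebra.comul_mul]
    simp only [Algebra.TensorProduct.includeRight_apply, AlgHom.comp_apply,
      Bialgebra.comulAlgHom_apply, mul_assoc]
    rfl

theorem Nmap_rTensor_assoc_symm (α : A →ₗ[k] B) (b' : B) (a' : A) (t : A ⊗[k] A) :
    (Nmap α).rTensor A ((TensorProduct.assoc k (B ⊗[k] A) A A).symm ((b' ⊗ₜ[k] a') ⊗ₜ[k] t)) =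
      (b' ⊗ₜ[k] (1 : A)) * α.rTensor A ((S a' ⊗ₜ[k] (1 : A)) * t) := by
  induction t using TensorProduct.induction_on with
  | zero => simp
  | add x y hx hy => simp only [TensorProduct.tmul_add, map_add, hx, hy, mul_add]
  | tmul p q => simp

theorem lamP_rTensor_assoc_symm (α : A →ₗ[k] B) (b : B) (t : A ⊗[k] A) :
    (lamP α).rTensor A ((TensorProduct.assoc k B A A).symm (b ⊗ₜ[k] t)) =
      (Nmap α).rTensor A ((TensorProduct.assoc k (B ⊗[k] A) A A).symm (ρB b ⊗ₜ[k] t)) := by
  induction t using TensorProduct.induction_on with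
  | zero => simp
  | add x y hx hy => simp only [TensorProduct.tmul_add, map_add, hx, hy]
  | tmul p q =>
    rw [TensorProduct.assoc_symm_tmul, TensorProduct.assoc_symm_tmul, LinearMap.rTensor_tmul,
      LinearMap.rTensor_tmul, lamP_tmul]

theorem coact_lamP (α : A →ₗ[k] B) (hα : Hoch.IsComodHom A α) (x : B ⊗[k] A) :
    ρB (lamP α x) = (lamP α).rTensor A (Hoch.Ind.coactAux k A B x) := by
  induction x using TensorProduct.induction_on with
  | zero => simp
  | add x y hx hy => rw [map_add, map_add, hx, hy, map_add, map_add]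
  | tmul b a =>
    have h := LinearMap.congr_fun (HopfRep.Comod.coassoc (k := k) (A := A) (V := B)) b
    simp only [LinearMap.comp_apply, LinearEquiv.coe_coe] at h
    have h' : (ρB).rTensor A (ρB b) = (TensorProduct.assoc k B A A).symm ((Δ).lTensor B (ρB b)) := by
      rw [← h, LinearEquiv.symm_apply_apply]
    rw [lamP_tmul, coact_Nmap α hα, h', Hoch.Ind.coactAux_tmul, lamP_rTensor_assoc_symm]
    generalize ρB b = y
    induction y using TensorProduct.induction_on with
    | zero => simp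
    | add x y hx hy => simp only [TensorProduct.add_tmul, map_add, hx, hy]
    | tmul b' a' =>
      rw [LinearMap.lTensor_tmul, Pmap_assoc_symm, lift_includeRight_comul_antipode,
        Nmap_rTensor_assoc_symm]

theorem isComodHom_lamOf (α : A →ₗ[k] B) (hα : Hoch.IsComodHom A α) :
    Hoch.IsComodHom A (lamOf α) := by
  apply LinearMap.ext
  intro x
  exact coact_lamP α hα x

end Retraction

end Groth.Agent.Lib.TameAct41
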