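import Groth.Agent.Lib.TameAct41b
import Groth.Agent.Lib.ComodHomFix

/-!
# Exactness of invariants gives a total integral (helper41; TameAct cluster)

`B` a comodule algebra over a commutative Hopf algebra `A` over a commutative ring `k`.
* `isHopfMod_tensor`: `B ⊗ W` (tensor coaction, `B` acting on the left factor) is a `(B, A)`-Hopf
  module for every comodule `W`.
* `evAt m₀ : B ⊗ M^* →ₗ[B] B`, `b ⊗ ξ ↦ ξ m₀ • b`; `isComodHom_evAt` for `m₀` a fixed vector;
  `evAt_surjective`.
* `exists_totalIntegral_of_exact`: if invariants are exact on the single surjection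
  `B ⊗ A^* → B`, there is a total integral `A → B` (`A` finite projective over `k`).
-/

set_option autoImplicit false
set_option linter.unusedSectionVars false
universe u v w w'

open TensorProduct

namespace Groth.Agent.Lib.TameAct41

open Groth.Agent.Lib.ComodHomFix

section Tensor

variable {k : Type u} [CommRing k] {A : Type v} [CommRing A] [HopfAlgebra k A]
  {B : Type w} [CommRing B] [Algebra k B] [cB : HopfRep.Comod k A B] [GLin.IsCoactAlg k A B]
  {W : Type w'} [AddCommGroup W] [Module k W]

theorem tensor_coact_mul_aux (u u' : B ⊗[k] A) (z : W ⊗[k] A) :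
    TensorProduct.map LinearMap.id (LinearMap.mul' k A)
        (AlgebraTensorModule.tensorTensorTensorComm k k k k B A W A ((u * u') ⊗ₜ[k] z)) =
      TameAct.hmSMul k A B (B ⊗[k] W) u
        (TensorProduct.map LinearMap.id (LinearMap.mul' k A)
          (AlgebraTensorModule.tensorTensorTensorComm k k k k B A W A (u' ⊗ₜ[k] z))) := by
  induction u using TensorProduct.induction_on with
  | zero => simp
  | add x y hx hy =>
    simp only [add_mul, TensorProduct.add_tmul, map_add, LinearMap.add_apply, hx, hy]
  | tmul b a =>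
    induction u' using TensorProduct.induction_on with
    | zero => simp
    | add x y hx hy =>
      simp only [mul_add, TensorProduct.add_tmul, map_add, hx, hy]
    | tmul b' a' =>
      induction z using TensorProduct.induction_on with
      | zero => simp
      | add x y hx hy =>
        simp only [TensorProduct.tmul_add, map_add, hx, hy]
      | tmul w a'' =>
        rw [Algebra.TensorProduct.tmul_mul_tmul,
          AlgebraTensorModule.tensorTensorTensorComm_tmul,
          AlgebraTensorModule.tensorTensorTensorComm_tmul, TensorProduct.map_tmul,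
          TensorProduct.map_tmul, LinearMap.mul'_apply, LinearMap.mul'_apply,
          LinearMap.id_apply, LinearMap.id_apply, TameAct.hmSMul_tmul,
          TensorProduct.smul_tmul', smul_eq_mul, mul_assoc]

/-- `B ⊗ W` is a `(B, A)`-Hopf module for every comodule `W`. -/
theorem isHopfMod_tensor (d : HopfRep.Comod k A W) :
    @TameAct.IsHopfMod k _ A _ _ B _ _ (B ⊗[k] W) _ _ _ _ cB (ComodTens.Comod.tensor cB d) := by
  let _ : HopfRep.Comod k A (B ⊗[k] W) := ComodTens.Comod.tensor cB d
  refine ⟨fun b x => ?_⟩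
  induction x using TensorProduct.induction_on with
  | zero => simp
  | add x y hx hy =>
    rw [smul_add, map_add, hx, hy, map_add (HopfRep.Comod.coact (k := k) (A := A)) x y]
    exact (map_add (TameAct.hmSMul k A B (B ⊗[k] W) (HopfRep.Comod.coact (k := k) (A := A) b))
      _ _).symm
  | tmul b' w =>
    show (ComodTens.Comod.tensor cB d).coact (b • (b' ⊗ₜ[k] w)) =
      TameAct.hmSMul k A B (B ⊗[k] W) (cB.coact b)
        ((ComodTens.Comod.tensor cB d).coact (b' ⊗ₜ[k] w))
    rw [TensorProduct.smul_tmul', smul_eq_mul, ComodTens.tensor_coact_tmul,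
      ComodTens.tensor_coact_tmul]
    have hmul : cB.coact (b * b') = cB.coact b * cB.coact b' :=
      GLin.IsCoactAlg.coact_mul (k := k) (A := A) b b'
    rw [hmul, tensor_coact_mul_aux]

end Tensor

section Ev

variable {k : Type u} [CommRing k] {A : Type v} [CommRing A] [HopfAlgebra k A]
  {B : Type w} [CommRing B] [Algebra k B] [cB : HopfRep.Comod k A B]
  {M : Type w'} [AddCommGroup M] [Module k M]

/-- `b ⊗ ξ ↦ ξ m₀ • b`, a `B`-linear map `B ⊗ M^* → B`. -/
noncomputable def evAt (m₀ : M) : B ⊗[k] Module.Dual k M →ₗ[B] B :=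
  (TensorProduct.AlgebraTensorModule.rid k B B).toLinearMap ∘ₗ
    TensorProduct.AlgebraTensorModule.map (LinearMap.id : B →ₗ[B] B)
      (Module.Dual.eval k M m₀)

@[simp] theorem evAt_tmul (m₀ : M) (b : B) (ξ : Module.Dual k M) :
    evAt (k := k) (B := B) m₀ (b ⊗ₜ[k] ξ) = ξ m₀ • b := by
  simp [evAt]

theorem evAt_eq_phi (m₀ : M) (x : B ⊗[k] Module.Dual k M) :
    evAt (k := k) (B := B) m₀ x = phi k M B x m₀ := by
  induction x using TensorProduct.induction_on with
  | zero => simp
  | add x y hx hy => rw [map_add, map_add, LinearMap.add_apply, hx, hy]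
  | tmul b ξ => rw [evAt_tmul, phi_tmul]

theorem rTensor_evAt_eq_psi (m₀ : M) (y : (B ⊗[k] Module.Dual k M) ⊗[k] A) :
    ((evAt (k := k) (B := B) m₀).restrictScalars k).rTensor A y = psi k A M B y m₀ := by
  induction y using TensorProduct.induction_on with
  | zero => simp
  | add x y hx hy => rw [map_add, map_add, LinearMap.add_apply, hx, hy]
  | tmul x a =>
    induction x using TensorProduct.induction_on with
    | zero => simp
    | add x y hx hy =>
      rw [TensorProduct.add_tmul, map_add, map_add, LinearMap.add_apply, hx, hy]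
    | tmul b ξ =>
      rw [LinearMap.rTensor_tmul, LinearMap.restrictScalars_apply, evAt_tmul, psi_tmul,
        TensorProduct.smul_tmul']

theorem evAt_surjective {m₀ : M} (ξ : Module.Dual k M) (hξ : ξ m₀ = 1) :
    Function.Surjective (evAt (k := k) (B := B) m₀) := fun b =>
  ⟨b ⊗ₜ[k] ξ, by rw [evAt_tmul, hξ, one_smul]⟩

/-- Evaluation at a fixed vector is a comodule map `B ⊗ M^* → B`. -/
theorem isComodHom_evAt (cM : HopfRep.Comod k A M) (d : HopfRep.Comod k A (Module.Dual k M))
    (hd : ComodTens.Comod.IsDual cM d) {m₀ : M}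
    (hm₀ : cM.coact m₀ = m₀ ⊗ₜ[k] (1 : A)) :
    @Hoch.IsComodHom k _ A _ _ _ (B ⊗[k] Module.Dual k M) _ _ (ComodTens.Comod.tensor cB d)
      B _ _ cB ((evAt (k := k) (B := B) m₀).restrictScalars k) := by
  apply LinearMap.ext
  intro x
  show cB.coact (evAt (k := k) (B := B) m₀ x) =
    ((evAt (k := k) (B := B) m₀).restrictScalars k).rTensor A
      ((ComodTens.Comod.tensor cB d).coact x)
  rw [rTensor_evAt_eq_psi, psi_coact cM cB d hd, twistHom_apply, hm₀, TensorProduct.map_tmul,
    HopfAlgebra.antipode_one, rmul_tmul_one, LinearMap.comp_apply, evAt_eq_phi]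

end Ev

section Main

variable (k : Type u) [CommRing k] (A : Type u) [CommRing A] [HopfAlgebra k A]
  [Module.Finite k A] [Module.Projective k A]
  (B : Type u) [CommRing B] [Algebra k B] [HopfRep.Comod k A B] [GLin.IsCoactAlg k A B]

/-- If taking invariants is exact on `(B, A)`-Hopf modules, the action has a total integral. -/
theorem exists_totalIntegral_of_exact
    (hexact : ∀ (M N : Type u) [AddCommGroup M] [Module k M] [Module B M] [IsScalarTower k B M]
      [HopfRep.Comod k A M] [TameAct.IsHopfMod k A B M]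
      [AddCommGroup N] [Module k N] [Module B N] [IsScalarTower k B N]
      [HopfRep.Comod k A N] [TameAct.IsHopfMod k A B N] (f : M →ₗ[B] N),
      Hoch.IsComodHom A (f.restrictScalars k) → Function.Surjective f →
      ∀ n ∈ HopfRep.fixedPts k A N, ∃ m ∈ HopfRep.fixedPts k A M, f m = n) :
    ∃ α : A →ₗ[k] B, Hoch.IsComodHom A α ∧ α 1 = 1 := by
  let cA : HopfRep.Comod k A A := HopfRep.Comod.regular k A
  let d : HopfRep.Comod k A (Module.Dual k A) := Groth.Agent.Lib.ComodDual.dualComod cA
  have hd : ComodTens.Comod.IsDual cA d := Groth.Agent.Lib.ComodDual.isDual_dualComod cA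
  let cM : HopfRep.Comod k A (B ⊗[k] Module.Dual k A) :=
    ComodTens.Comod.tensor (inferInstance : HopfRep.Comod k A B) d
  have hM : @TameAct.IsHopfMod k _ A _ _ B _ _ (B ⊗[k] Module.Dual k A) _ _ _ _ _ cM :=
    isHopfMod_tensor d
  have h1 : cA.coact (1 : A) = (1 : A) ⊗ₜ[k] (1 : A) := by
    show CoalgebraStruct.comul (R := k) (1 : A) = (1 : A) ⊗ₜ[k] (1 : A)
    rw [Bialgebra.comul_one]
    rfl
  have hf := isComodHom_evAt (B := B) cA d hd h1
  have hsurj : Function.Surjective (evAt (k := k) (B := B) (1 : A)) :=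
    evAt_surjective (CoalgebraStruct.counit (R := k) (A := A)) (Bialgebra.counit_one)
  have hone : (1 : B) ∈ HopfRep.fixedPts k A B := by
    show HopfRep.Comod.coact (k := k) (A := A) (1 : B) = (1 : B) ⊗ₜ[k] (1 : A)
    rw [GLin.IsCoactAlg.coact_one (k := k) (A := A)]
    rfl
  obtain ⟨x, hx, hx1⟩ := @hexact (B ⊗[k] Module.Dual k A) B _ _ _ _ cM hM _ _ _ _ _ _
    (evAt (k := k) (B := B) (1 : A)) hf hsurj 1 hone
  refine ⟨phi k A B x, ?_, ?_⟩
  · exact (mem_fixedPts_iff_isComodHom cA _ d hd psi_injective x).1 hx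
  · rw [← evAt_eq_phi]
    exact hx1

end Main

end Groth.Agent.Lib.TameAct41
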