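import Mathlib.RingTheory.Henselian
import Mathlib.FieldTheory.IsAlgClosed.Basic
import Mathlib.RingTheory.RootsOfUnity.AlgebraicallyClosed
import Mathlib.RingTheory.Polynomial.Eisenstein.Basic
import Mathlib.FieldTheory.KummerExtension
import Mathlib.RingTheory.DiscreteValuationRing.Basic
import Mathlib.FieldTheory.PolynomialGaloisGroup
import Groth.Agent.Lib.HenselIntegralLocal

set_option autoImplicit false
universe u
open Polynomial IsLocalRing IntermediateField

namespace Groth.Agent.Lib.TameKummer

section basic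

variable {O : Type u} [CommRing O] [HenselianLocalRing O]

theorem ne_zero_of_isUnit_natCast {n : ℕ} (hn : IsUnit (n : O)) : n ≠ 0 := by
  rintro rfl
  simp at hn

/-- Hensel: simple roots of `X^n - u` lift. -/
theorem exists_pow_eq_of_residue {n : ℕ} (hn : IsUnit (n : O)) (u : O) (hu : IsUnit u) (w₀ : O)
    (h : w₀ ^ n - u ∈ maximalIdeal O) : ∃ w : O, w ^ n = u ∧ w - w₀ ∈ maximalIdeal O := by
  have hn0 : n ≠ 0 := ne_zero_of_isUnit_natCast hn
  have hw₀ : IsUnit w₀ := by
    by_contra hw
    have h1 : w₀ ∈ maximalIdeal O := (mem_maximalIdeal _).2 hw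
    have h2 : w₀ ^ n ∈ maximalIdeal O := Ideal.pow_mem_of_mem _ h1 n (Nat.pos_of_ne_zero hn0)
    have h3 : u ∈ maximalIdeal O := by
      have := Ideal.sub_mem _ h2 h
      simpa using this
    exact (mem_maximalIdeal _).1 h3 hu
  obtain ⟨w, hw, hw'⟩ := HenselianLocalRing.is_henselian (X ^ n - C u : O[X])
    (monic_X_pow_sub_C u hn0) w₀ (by simpa using h) (by
      simp only [derivative_sub, derivative_X_pow, derivative_C, sub_zero, eval_mul, eval_C,
        eval_pow, eval_X]
      exact hn.mul (hw₀.pow _))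
  refine ⟨w, ?_, hw'⟩
  have : eval w (X ^ n - C u : O[X]) = 0 := hw
  simpa [sub_eq_zero] using this

variable [IsAlgClosed (ResidueField O)]

theorem exists_pow_eq {n : ℕ} (hn : IsUnit (n : O)) (u : O) (hu : IsUnit u) :
    ∃ w : O, w ^ n = u := by
  have hn0 : n ≠ 0 := ne_zero_of_isUnit_natCast hn
  obtain ⟨z, hz⟩ := IsAlgClosed.exists_pow_nat_eq (residue O u) (Nat.pos_of_ne_zero hn0)
  obtain ⟨w₀, rfl⟩ := residue_surjective z
  have h : w₀ ^ n - u ∈ maximalIdeal O := by
    rw [← residue_eq_zero_iff, map_sub, map_pow, hz, sub_self]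
  obtain ⟨w, hw, -⟩ := exists_pow_eq_of_residue hn u hu w₀ h
  exact ⟨w, hw⟩

theorem exists_isPrimitiveRoot {n : ℕ} (hn : IsUnit (n : O)) :
    ∃ ζ : O, IsPrimitiveRoot ζ n := by
  have hn0 : n ≠ 0 := ne_zero_of_isUnit_natCast hn
  have : NeZero (n : ResidueField O) := by
    constructor
    have := hn.map (residue O)
    rw [map_natCast] at this
    exact this.ne_zero
  obtain ⟨z, hz⟩ := HasEnoughRootsOfUnity.exists_primitiveRoot (ResidueField O) n
  obtain ⟨w₀, rfl⟩ := residue_surjective z
  have h : w₀ ^ n - 1 ∈ maximalIdeal O := by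
    rw [← residue_eq_zero_iff, map_sub, map_pow, hz.pow_eq_one, map_one, sub_self]
  obtain ⟨w, hw, hw'⟩ := exists_pow_eq_of_residue hn 1 isUnit_one w₀ h
  refine ⟨w, ?_⟩
  rw [IsPrimitiveRoot.iff_def]
  refine ⟨hw, fun l hl => ?_⟩
  have h1 : residue O w = residue O w₀ := by
    rw [← sub_eq_zero, ← map_sub, residue_eq_zero_iff]; exact hw'
  apply hz.dvd_of_pow_eq_one
  rw [← h1, ← map_pow, hl, map_one]

end basic

section root

variable {O : Type u} [CommRing O] [HenselianLocalRing O]
  {O₁ : Type u} [CommRing O₁] [HenselianLocalRing O₁] [Algebra O O₁] [Algebra.IsIntegral O O₁]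

theorem algebraMap_mem_maximalIdeal {a : O} (ha : a ∈ maximalIdeal O) :
    algebraMap O O₁ a ∈ maximalIdeal O₁ :=
  Groth.Agent.Lib.HenselIntegralLocal.map_maximalIdeal_le (Ideal.mem_map_of_mem _ ha)

variable [IsAlgClosed (ResidueField O)]

/-- A monic Eisenstein polynomial of degree `e` (invertible in `O`) over a henselian local ring with
principal maximal ideal `(ϖ)` and algebraically closed residue field acquires a root in any
henselian local integral extension containing an `e`-th root of `ϖ`. -/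
theorem exists_root_of_eisenstein (ϖ : O) (hϖ : maximalIdeal O = Ideal.span {ϖ})
    (f : O[X]) (hmon : f.Monic) (he : IsUnit (f.natDegree : O))
    (hf : f.IsEisensteinAt (maximalIdeal O)) (τ : O₁)
    (hτ : τ ^ f.natDegree = algebraMap O O₁ ϖ) : ∃ y : O₁, aeval y f = 0 := by
  set e := f.natDegree with he_def
  have he0 : e ≠ 0 := ne_zero_of_isUnit_natCast he
  obtain ⟨e', he'⟩ : ∃ e', e = e' + 1 := Nat.exists_eq_succ_of_ne_zero he0
  -- coefficients divided by ϖ
  have hcoeff : ∀ i, i < e → ∃ a', f.coeff i = ϖ * a' := by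
    intro i hi
    have := hf.mem hi
    rw [hϖ, Ideal.mem_span_singleton'] at this
    obtain ⟨a', ha'⟩ := this
    exact ⟨a', by rw [← ha', mul_comm]⟩
  have hex : ∃ a' : ℕ → O, ∀ i, i < e → f.coeff i = ϖ * a' i := by
    refine ⟨fun i => if h : i < e then (hcoeff i h).choose else 0, fun i hi => ?_⟩
    simp only [hi, dite_true]
    exact (hcoeff i hi).choose_spec
  obtain ⟨a', ha'⟩ := hex
  -- a' 0 is a unit
  have ha0 : IsUnit (a' 0) := by
    by_contra hnu
    have h1 : a' 0 ∈ maximalIdeal O := (mem_maximalIdeal _).2 hnu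
    apply hf.notMem
    rw [ha' 0 (Nat.pos_of_ne_zero he0), pow_two]
    refine Ideal.mul_mem_mul ?_ h1
    rw [hϖ]; exact Ideal.mem_span_singleton_self ϖ
  -- τ is in the maximal ideal
  have hτm : τ ∈ maximalIdeal O₁ := by
    have h1 : τ ^ e ∈ maximalIdeal O₁ := by
      rw [hτ]; apply algebraMap_mem_maximalIdeal
      rw [hϖ]; exact Ideal.mem_span_singleton_self ϖ
    exact (maximalIdeal.isMaximal O₁).isPrime.mem_of_pow_mem _ h1
  -- a root w₀ of z^e + a' 0 mod m
  obtain ⟨z, hz⟩ := IsAlgClosed.exists_pow_nat_eq (residue O (-a' 0)) (Nat.pos_of_ne_zero he0)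
  obtain ⟨w₀, rfl⟩ := residue_surjective z
  have hw₀m : w₀ ^ e + a' 0 ∈ maximalIdeal O := by
    rw [← residue_eq_zero_iff, map_add, map_pow, hz, map_neg, neg_add_cancel]
  have hw₀ : IsUnit w₀ := by
    by_contra hw
    have h1 : w₀ ∈ maximalIdeal O := (mem_maximalIdeal _).2 hw
    have h2 : w₀ ^ e ∈ maximalIdeal O := Ideal.pow_mem_of_mem _ h1 e (Nat.pos_of_ne_zero he0)
    have h3 : a' 0 ∈ maximalIdeal O := by
      have := Ideal.sub_mem _ hw₀m h2
      simpa using this
    exact (mem_maximalIdeal _).1 h3 ha0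
  -- the polynomial g
  set q : O₁[X] := ∑ i ∈ Finset.range e, C (algebraMap O O₁ (a' i) * τ ^ i) * X ^ i with hq
  have hqdeg : q.degree < (e : WithBot ℕ) := by
    refine (Polynomial.degree_sum_le _ _).trans_lt ?_
    refine (Finset.sup_lt_iff (WithBot.bot_lt_coe e)).2 fun i hi => ?_
    refine (Polynomial.degree_C_mul_X_pow_le _ _).trans_lt ?_
    exact WithBot.coe_lt_coe.2 (Finset.mem_range.1 hi)
  have hgmon : (X ^ e + q).Monic := monic_X_pow_add hqdeg
  have key : ∀ z : O₁, aeval (τ * z) f = τ ^ e * eval z (X ^ e + q) := by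
    intro z
    conv_lhs => rw [hmon.as_sum]
    simp only [map_add, map_pow, aeval_X, map_sum, map_mul, aeval_C, eval_add, eval_pow, eval_X,
      hq, eval_finsetSum, eval_mul, eval_C, mul_add, Finset.mul_sum]
    congr 1
    · rw [mul_pow]
    · refine Finset.sum_congr rfl fun i hi => ?_
      rw [ha' i (Finset.mem_range.1 hi), map_mul, ← hτ, mul_pow]
      ring
  set z₀ : O₁ := algebraMap O O₁ w₀ with hz₀
  have h1 : eval z₀ (X ^ e + q) ∈ maximalIdeal O₁ := by
    have : eval z₀ (X ^ e + q) = algebraMap O O₁ (w₀ ^ e + a' 0) +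
        ∑ i ∈ Finset.range e', algebraMap O O₁ (a' (i + 1)) * τ ^ (i + 1) * z₀ ^ (i + 1) := by
      simp only [eval_add, eval_pow, eval_X, hq, eval_finsetSum, eval_mul, eval_C, he',
        Finset.sum_range_succ' _ e', map_add, map_pow, hz₀]
      ring
    rw [this]
    refine Ideal.add_mem _ (algebraMap_mem_maximalIdeal hw₀m) (Ideal.sum_mem _ fun i _ => ?_)
    rw [pow_succ' τ]
    refine Ideal.mul_mem_right _ _ (Ideal.mul_mem_left _ _ (Ideal.mul_mem_right _ _ hτm))
  have h2 : IsUnit (eval z₀ (derivative (X ^ e + q))) := by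
    have : eval z₀ (derivative (X ^ e + q)) = algebraMap O O₁ ((e : O) * w₀ ^ e') +
        ∑ i ∈ Finset.range e', algebraMap O O₁ (a' (i + 1)) * τ ^ (i + 1) *
          (((i + 1 : ℕ) : O₁) * z₀ ^ i) := by
      simp only [derivative_add, derivative_X_pow, hq, derivative_sum, derivative_C_mul_X_pow,
        eval_add, eval_mul, eval_pow, eval_X, eval_C,
        eval_finsetSum, he', Finset.sum_range_succ' _ e', Nat.add_sub_cancel]
      simp only [Nat.cast_zero, mul_zero, zero_mul, add_zero, map_mul, map_pow, map_natCast]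
      congr 1
      refine Finset.sum_congr rfl fun i _ => ?_
      ring
    rw [this]
    have hu : IsUnit (algebraMap O O₁ ((e : O) * w₀ ^ e')) := (he.mul (hw₀.pow _)).map _
    have hm : ∑ i ∈ Finset.range e', algebraMap O O₁ (a' (i + 1)) * τ ^ (i + 1) *
          (((i + 1 : ℕ) : O₁) * z₀ ^ i) ∈ maximalIdeal O₁ := by
      refine Ideal.sum_mem _ fun i _ => ?_
      rw [pow_succ' τ]
      refine Ideal.mul_mem_right _ _ (Ideal.mul_mem_left _ _ (Ideal.mul_mem_right _ _ hτm))
    by_contra hnu
    have h3 := Ideal.sub_mem _ ((mem_maximalIdeal _).2 hnu) hm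
    rw [add_sub_cancel_right] at h3
    exact (mem_maximalIdeal _).1 h3 hu
  obtain ⟨z, hzroot, -⟩ := HenselianLocalRing.is_henselian (X ^ e + q) hgmon z₀ h1 h2
  refine ⟨τ * z, ?_⟩
  rw [key z]
  have : eval z (X ^ e + q) = 0 := hzroot
  rw [this, mul_zero]

end root

section splitting

variable {K L : Type*} [Field K] [Field L] [Algebra K L] [FiniteDimensional K L]

/-- If `g` is a monic irreducible polynomial of degree `[L:K]` with a root in the normal extension
`L/K`, then `L` is a splitting field of `g`. -/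
theorem isSplittingField_of_root [Normal K L] (g : K[X]) (hg : Irreducible g) (hmon : g.Monic)
    (hdeg : g.natDegree = Module.finrank K L) (α : L) (hα : aeval α g = 0) :
    IsSplittingField K L g := by
  have hint : IsIntegral K α := IsIntegral.of_finite K α
  have hmin : g = minpoly K α := minpoly.eq_of_irreducible_of_monic hg hα hmon
  have htop : K⟮α⟯ = ⊤ := by
    apply IntermediateField.eq_of_le_of_finrank_eq le_top
    rw [IntermediateField.adjoin.finrank hint, ← hmin, hdeg, IntermediateField.finrank_top']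
  constructor
  · rw [hmin]; exact Normal.splits inferInstance α
  · rw [eq_top_iff]
    have h1 : Algebra.adjoin K {α} = ⊤ := by
      rw [← IntermediateField.adjoin_simple_toSubalgebra_of_isAlgebraic hint.isAlgebraic, htop,
        IntermediateField.top_toSubalgebra]
    rw [← h1]
    apply Algebra.adjoin_mono
    rw [Set.singleton_subset_iff, mem_rootSet_of_ne hg.ne_zero]
    exact hα

end splitting

/-- `X^n - ϖ` is irreducible over the fraction field. -/
theorem irreducible_X_pow_sub_C {O : Type u} [CommRing O] [IsDomain O]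
    [IsDiscreteValuationRing O] (ϖ : O) (hϖ : Irreducible ϖ) {n : ℕ} (hn : n ≠ 0) :
    Irreducible (X ^ n - C (algebraMap O (FractionRing O) ϖ) : (FractionRing O)[X]) := by
  have hmon : (X ^ n - C ϖ : O[X]).Monic := monic_X_pow_sub_C ϖ hn
  have hmax : maximalIdeal O = Ideal.span {ϖ} := hϖ.maximalIdeal_eq
  have hE : (X ^ n - C ϖ : O[X]).IsEisensteinAt (maximalIdeal O) := by
    refine ⟨?_, ?_, ?_⟩
    · rw [hmon.leadingCoeff]; exact (Ideal.ne_top_iff_one _).1 (maximalIdeal.isMaximal O).ne_top
    · intro i hi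
      rw [natDegree_X_pow_sub_C] at hi
      rw [coeff_sub, coeff_X_pow, if_neg hi.ne, zero_sub, coeff_C]
      split_ifs
      · rw [hmax]; exact neg_mem (Ideal.mem_span_singleton_self ϖ)
      · simp
    · rw [coeff_sub, coeff_X_pow, if_neg (Ne.symm hn), zero_sub, coeff_C_zero, hmax,
        Ideal.span_singleton_pow, Ideal.neg_mem_iff, Ideal.mem_span_singleton]
      intro h
      obtain ⟨c, hc⟩ := h
      have h1 : ϖ * (1 - ϖ * c) = 0 := by linear_combination hc
      rcases mul_eq_zero.1 h1 with h2 | h2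
      · exact hϖ.ne_zero h2
      · have : IsUnit ϖ := IsUnit.of_mul_eq_one c (by linear_combination -h2)
        exact hϖ.not_isUnit this
  have hirr : Irreducible (X ^ n - C ϖ : O[X]) :=
    hE.irreducible (maximalIdeal.isMaximal O).isPrime hmon.isPrimitive
      (by rw [natDegree_X_pow_sub_C]; exact Nat.pos_of_ne_zero hn)
  have := (Polynomial.Monic.irreducible_iff_irreducible_map_fraction_map (K := FractionRing O) hmon).1 hirr
  simpa using this


section main

variable {O : Type u} [CommRing O] [IsDomain O] [IsDiscreteValuationRing O] [HenselianLocalRing O]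
  [IsAlgClosed (ResidueField O)]

theorem isUnit_natCast_of_lt (p : ℕ) [Fact p.Prime] [CharP (ResidueField O) p] {n : ℕ}
    (hn : ¬ p ∣ n) : IsUnit (n : O) := by
  by_contra h
  have h1 : (n : O) ∈ maximalIdeal O := (mem_maximalIdeal _).2 h
  rw [← residue_eq_zero_iff, map_natCast, CharP.cast_eq_zero_iff (ResidueField O) p] at h1
  exact hn h1

theorem primitiveRoots_nonempty {n : ℕ} (hn : IsUnit (n : O)) :
    (primitiveRoots n (FractionRing O)).Nonempty := by
  obtain ⟨ζ, hζ⟩ := exists_isPrimitiveRoot hn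
  have hn0 : n ≠ 0 := ne_zero_of_isUnit_natCast hn
  refine ⟨algebraMap O (FractionRing O) ζ, ?_⟩
  rw [mem_primitiveRoots (Nat.pos_of_ne_zero hn0)]
  exact hζ.map_of_injective (IsFractionRing.injective O (FractionRing O))

theorem eisenstein_main (f : O[X]) (hmon : f.Monic) (he : IsUnit (f.natDegree : O))
    (hf : f.IsEisensteinAt (maximalIdeal O)) :
    Module.finrank (FractionRing O) (f.map (algebraMap O (FractionRing O))).SplittingField
        = f.natDegree ∧
      IsCyclic (f.map (algebraMap O (FractionRing O))).Gal := by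
  set e := f.natDegree with he_def
  have he0 : e ≠ 0 := ne_zero_of_isUnit_natCast he
  obtain ⟨ϖ, hϖ⟩ := IsDiscreteValuationRing.exists_irreducible O
  have hmax : maximalIdeal O = Ideal.span {ϖ} := hϖ.maximalIdeal_eq
  have H := irreducible_X_pow_sub_C ϖ hϖ he0
  have hζ := primitiveRoots_nonempty he
  have := Fact.mk H
  let K₁ := AdjoinRoot (X ^ e - C (algebraMap O (FractionRing O) ϖ) : (FractionRing O)[X])
  have hsf : IsSplittingField (FractionRing O) K₁ (X ^ e - C (algebraMap O (FractionRing O) ϖ)) :=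
    isSplittingField_AdjoinRoot_X_pow_sub_C hζ H
  have : FiniteDimensional (FractionRing O) K₁ :=
    IsSplittingField.finiteDimensional K₁ (X ^ e - C (algebraMap O (FractionRing O) ϖ))
  have hgal : IsGalois (FractionRing O) K₁ := isGalois_of_isSplittingField_X_pow_sub_C hζ H K₁
  have hcyc : IsCyclic (K₁ ≃ₐ[FractionRing O] K₁) :=
    have : NeZero e := ⟨he0⟩
    isCyclic_of_isSplittingField_X_pow_sub_C hζ H K₁
  have hrank : Module.finrank (FractionRing O) K₁ = e :=
    finrank_of_isSplittingField_X_pow_sub_C hζ H K₁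
  -- the integral closure of `O` in `K₁`
  have : IsLocalRing (integralClosure O K₁) :=
    HenselIntegralLocal.isLocalRing_of_isDomain_of_isIntegral O (integralClosure O K₁)
  have : HenselianLocalRing (integralClosure O K₁) :=
    HenselIntegralLocal.henselianLocalRing_of_isIntegral O (integralClosure O K₁)
  have hroot : (AdjoinRoot.root (X ^ e - C (algebraMap O (FractionRing O) ϖ)) : K₁) ^ e
      = algebraMap O K₁ ϖ := by
    rw [IsScalarTower.algebraMap_apply O (FractionRing O) K₁]
    exact root_X_pow_sub_C_pow e _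
  have hτint : IsIntegral O (AdjoinRoot.root (X ^ e - C (algebraMap O (FractionRing O) ϖ)) : K₁) := by
    refine ⟨X ^ e - C ϖ, monic_X_pow_sub_C ϖ he0, ?_⟩
    rw [eval₂_sub, eval₂_pow, eval₂_X, eval₂_C, hroot, sub_self]
  obtain ⟨y, hy⟩ := exists_root_of_eisenstein (O₁ := integralClosure O K₁) ϖ hmax f hmon he hf
    ⟨_, hτint⟩ (by
      apply Subtype.ext
      simpa using hroot)
  have hα : aeval (y : K₁) (f.map (algebraMap O (FractionRing O))) = 0 := by
    rw [aeval_map_algebraMap]
    have := congrArg (Subtype.val) hy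
    rwa [← Subalgebra.coe_val, ← aeval_algHom_apply] at this
  have hirr : Irreducible (f.map (algebraMap O (FractionRing O))) :=
    (Polynomial.Monic.irreducible_iff_irreducible_map_fraction_map (K := FractionRing O) hmon).1
      (hf.irreducible (maximalIdeal.isMaximal O).isPrime hmon.isPrimitive
        (Nat.pos_of_ne_zero he0))
  have := isSplittingField_of_root (f.map (algebraMap O (FractionRing O))) hirr (hmon.map _)
    (by rw [hmon.natDegree_map, hrank]) (y : K₁) hα
  let E := IsSplittingField.algEquiv K₁ (f.map (algebraMap O (FractionRing O)))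
  refine ⟨by rw [← E.toLinearEquiv.finrank_eq, hrank], ?_⟩
  exact isCyclic_of_surjective (AlgEquiv.autCongr E) (MulEquiv.surjective _)

end main

end Groth.Agent.Lib.TameKummer
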