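import Groth.Agent.Lib.TameKummer

set_option autoImplicit false
universe u
open Polynomial IsLocalRing IntermediateField

/-!
# Splitting field of `∏ (y^{r_i} - v_i ϖ^{b_i})` over a henselian DVR with algebraically closed
residue field (tame case): it is `K(ϖ^{1/lcm r_i})`.
-/

namespace Groth.Agent.Lib.TameKummer

section prodmain

variable {O : Type u} [CommRing O] [IsDomain O] [IsDiscreteValuationRing O] [HenselianLocalRing O]
  [IsAlgClosed (ResidueField O)]

theorem prod_main (ϖ : O) (hϖ : Irreducible ϖ) (m : ℕ) (r b : Fin m → ℕ) (v : Fin m → Oˣ)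
    (hrb : ∀ i, Nat.Coprime (r i) (b i)) (hru : ∀ i, IsUnit (r i : O))
    (hL : IsUnit ((Finset.univ.lcm r : ℕ) : O)) :
    Module.finrank (FractionRing O)
        (∏ i, (X ^ (r i) - C (algebraMap O (FractionRing O) ((v i : O) * ϖ ^ (b i))))).SplittingField =
      Finset.univ.lcm r := by
  set L := Finset.univ.lcm r with hL_def
  have hL0 : L ≠ 0 := ne_zero_of_isUnit_natCast hL
  have hr0 : ∀ i, r i ≠ 0 := fun i => ne_zero_of_isUnit_natCast (hru i)
  have H := irreducible_X_pow_sub_C ϖ hϖ hL0
  have hζ := primitiveRoots_nonempty hL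
  have := Fact.mk H
  let K₁ := AdjoinRoot (X ^ L - C (algebraMap O (FractionRing O) ϖ) : (FractionRing O)[X])
  have hsf : IsSplittingField (FractionRing O) K₁ (X ^ L - C (algebraMap O (FractionRing O) ϖ)) :=
    isSplittingField_AdjoinRoot_X_pow_sub_C hζ H
  have : FiniteDimensional (FractionRing O) K₁ :=
    IsSplittingField.finiteDimensional K₁ (X ^ L - C (algebraMap O (FractionRing O) ϖ))
  have hrank : Module.finrank (FractionRing O) K₁ = L :=
    finrank_of_isSplittingField_X_pow_sub_C hζ H K₁
  set τ : K₁ := AdjoinRoot.root (X ^ L - C (algebraMap O (FractionRing O) ϖ)) with hτ_def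
  have hτ : τ ^ L = algebraMap (FractionRing O) K₁ (algebraMap O (FractionRing O) ϖ) :=
    root_X_pow_sub_C_pow L _
  -- divisors
  have hdvd : ∀ i, r i ∣ L := fun i => Finset.dvd_lcm (Finset.mem_univ i)
  have hd : ∀ i, r i * (L / r i) = L := fun i => Nat.mul_div_cancel' (hdvd i)
  -- roots of the units
  have hw : ∀ i, ∃ w : O, w ^ (r i) = (v i : O) := fun i => exists_pow_eq (hru i) _ (v i).isUnit
  choose w hw using hw
  have hwu : ∀ i, IsUnit (w i) := fun i => by
    have : IsUnit ((w i) ^ (r i)) := by rw [hw i]; exact (v i).isUnit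
    exact (isUnit_pow_iff (hr0 i)).1 this
  -- the explicit roots
  set ι : O →+* K₁ := (algebraMap (FractionRing O) K₁).comp (algebraMap O (FractionRing O)) with hι
  have hιinj : Function.Injective ι :=
    (algebraMap (FractionRing O) K₁).injective.comp (IsFractionRing.injective O (FractionRing O))
  have hτι : τ ^ L = ι ϖ := hτ
  set α : Fin m → K₁ := fun i => ι (w i) * τ ^ ((L / r i) * b i) with hα_def
  have hα : ∀ i, α i ^ (r i) = ι ((v i : O) * ϖ ^ (b i)) := by
    intro i
    simp only [hα_def, mul_pow, ← map_pow, hw i, map_mul]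
    congr 1
    rw [← pow_mul, map_pow, ← hτι, ← pow_mul]
    congr 1
    rw [mul_right_comm, mul_comm (L / r i), hd i]
  set P : (FractionRing O)[X] :=
    ∏ i, (X ^ (r i) - C (algebraMap O (FractionRing O) ((v i : O) * ϖ ^ (b i)))) with hP
  have hP0 : P ≠ 0 := by
    rw [hP, Finset.prod_ne_zero_iff]
    intro i _
    exact (monic_X_pow_sub_C _ (hr0 i)).ne_zero
  have hαroot : ∀ i, aeval (α i) P = 0 := by
    intro i
    rw [hP, map_prod]
    refine Finset.prod_eq_zero (Finset.mem_univ i) ?_
    rw [map_sub, map_pow, aeval_X, aeval_C, hα i]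
    exact sub_self _
  -- splitting
  have hsplit : (P.map (algebraMap (FractionRing O) K₁)).Splits := by
    rw [hP, Polynomial.map_prod]
    refine Splits.prod fun i _ => ?_
    obtain ⟨ζ, hζ'⟩ := primitiveRoots_nonempty (hru i)
    rw [mem_primitiveRoots (Nat.pos_of_ne_zero (hr0 i))] at hζ'
    rw [Polynomial.map_sub, Polynomial.map_pow, Polynomial.map_X, Polynomial.map_C]
    exact X_pow_sub_C_splits_of_isPrimitiveRoot
      (hζ'.map_of_injective (algebraMap (FractionRing O) K₁).injective) (hα i)
  -- the field generated by the roots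
  set F : IntermediateField (FractionRing O) K₁ :=
    IntermediateField.adjoin (FractionRing O) (P.rootSet K₁) with hF
  have hαF : ∀ i, α i ∈ F := fun i =>
    IntermediateField.subset_adjoin _ _ ((mem_rootSet_of_ne hP0).2 (hαroot i))
  have hιF : ∀ x, ι x ∈ F := fun x => F.algebraMap_mem _
  have h1 : ∀ i, τ ^ ((L / r i) * b i) ∈ F := by
    intro i
    have hne : ι (w i) ≠ 0 := (map_ne_zero_iff ι hιinj).2 (hwu i).ne_zero
    have : τ ^ ((L / r i) * b i) = (ι (w i))⁻¹ * α i := by
      simp only [hα_def]; rw [inv_mul_cancel_left₀ hne]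
    rw [this]
    exact F.mul_mem (F.inv_mem (hιF _)) (hαF i)
  have h2 : ∀ i, τ ^ (L / r i) ∈ F := by
    intro i
    rcases (Nat.one_le_iff_ne_zero.2 (hr0 i)).eq_or_lt with h | h
    · rw [← h, Nat.div_one, hτι]; exact hιF _
    · obtain ⟨x, -, hx⟩ := Nat.exists_mul_mod_eq_one_of_coprime (hrb i).symm h
      set y := b i * x / r i
      have hxy : b i * x = r i * y + 1 := by rw [← hx]; exact (Nat.div_add_mod _ _).symm
      have : τ ^ (L / r i) = (τ ^ ((L / r i) * b i)) ^ x * (ι ϖ ^ y)⁻¹ := by
        have hne : ι ϖ ^ y ≠ 0 := pow_ne_zero _ ((map_ne_zero_iff ι hιinj).2 hϖ.ne_zero)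
        rw [eq_mul_inv_iff_mul_eq₀ hne, ← hτι, ← pow_mul, ← pow_mul, ← pow_add]
        congr 1
        rw [mul_assoc, hxy, mul_add, mul_one, ← mul_assoc, mul_comm (L / r i) (r i), hd i,
          add_comm]
      rw [this]
      exact F.mul_mem (pow_mem (h1 i) x) (F.inv_mem (pow_mem (hιF ϖ) y))
  have h3 : ∀ i, r i ∣ Module.finrank (FractionRing O) F := by
    intro i
    have hirr := irreducible_X_pow_sub_C ϖ hϖ (hr0 i)
    have hroot : aeval (τ ^ (L / r i)) (X ^ (r i) - C (algebraMap O (FractionRing O) ϖ)) = 0 := by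
      rw [map_sub, map_pow, aeval_X, aeval_C, ← pow_mul, mul_comm, hd i, hτ, sub_self]
    have hmin := minpoly.eq_of_irreducible_of_monic hirr hroot (monic_X_pow_sub_C _ (hr0 i))
    have hdeg : (minpoly (FractionRing O) (τ ^ (L / r i))).natDegree = r i := by
      rw [← hmin, natDegree_X_pow_sub_C]
    have := minpoly.degree_dvd (K := FractionRing O) (L := F) (x := ⟨τ ^ (L / r i), h2 i⟩)
      (IsIntegral.of_finite _ _)
    rwa [IntermediateField.minpoly_eq, hdeg] at this
  have h4 : L ∣ Module.finrank (FractionRing O) F := Finset.lcm_dvd fun i _ => h3 i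
  have hFtop : F = ⊤ := by
    apply IntermediateField.eq_of_le_of_finrank_le le_top
    rw [IntermediateField.finrank_top', hrank]
    exact Nat.le_of_dvd Module.finrank_pos h4
  have hsplitting : IsSplittingField (FractionRing O) K₁ P := by
    refine ⟨hsplit, ?_⟩
    have := IntermediateField.adjoin_toSubalgebra_of_isAlgebraic (F := FractionRing O) (E := K₁)
      (S := P.rootSet K₁) (fun x _ => (IsIntegral.of_finite _ x).isAlgebraic)
    rw [← this, ← hF, hFtop, IntermediateField.top_toSubalgebra]
  let E := IsSplittingField.algEquiv K₁ P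
  rw [← E.toLinearEquiv.finrank_eq, hrank]

end prodmain

end Groth.Agent.Lib.TameKummer
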