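import Groth.Prelude.Def_W4stk3formalspacesTaut
import Mathlib.Topology.Algebra.OpenSubgroup

set_option autoImplicit false
universe u v w

namespace Groth.Agent.Lib.TautBasic

open Filter Topology

section TopNilp

variable {B : Type v} [CommRing B] [TopologicalSpace B]

/-- In a linearly topologized ring, `f` is topologically nilpotent iff every ideal which is a
neighbourhood of `0` contains a power of `f`. -/
theorem isTopologicallyNilpotent_iff_forall_ideal [IsLinearTopology B B] {f : B} :
    IsTopologicallyNilpotent f ↔
      ∀ J : Ideal B, (J : Set B) ∈ 𝓝 (0 : B) → ∃ n : ℕ, f ^ n ∈ J := by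
  constructor
  · intro hf J hJ
    exact hf.exists_pow_mem_of_mem_nhds hJ
  · intro h
    simp only [IsTopologicallyNilpotent, atTop_basis.tendsto_iff IsLinearTopology.hasBasis_ideal,
      true_and]
    intro J hJ
    obtain ⟨n, hn⟩ := h J hJ
    refine ⟨n, fun k hk ↦ ?_⟩
    obtain ⟨d, rfl⟩ := Nat.exists_eq_add_of_le hk
    rw [pow_add]
    exact J.mul_mem_right _ hn

/-- An ideal which is a neighbourhood of `0` is open. -/
theorem isOpen_of_mem_nhds [ContinuousAdd B] {J : Ideal B} (hJ : (J : Set B) ∈ 𝓝 (0 : B)) :
    IsOpen (J : Set B) :=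
  (Submodule.toAddSubgroup J).isOpen_of_mem_nhds hJ

/-- An open ideal is closed. -/
theorem isClosed_of_isOpen [ContinuousAdd B] {J : Ideal B} (hJ : IsOpen (J : Set B)) :
    IsClosed (J : Set B) :=
  (Submodule.toAddSubgroup J).isClosed_of_isOpen hJ

/-- An ideal containing an open ideal is open. -/
theorem isOpen_mono [ContinuousAdd B] {I J : Ideal B} (h : I ≤ J) (hI : IsOpen (I : Set B)) :
    IsOpen (J : Set B) :=
  @AddSubgroup.isOpen_mono B _ _ _ (Submodule.toAddSubgroup I) (Submodule.toAddSubgroup J) h hI

/-- The ideal of topologically nilpotent elements of a linearly topologized ring is closed. -/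
theorem isClosed_topologicalNilradical [IsTopologicalRing B] [IsLinearTopology B B] :
    IsClosed ((topologicalNilradical B : Ideal B) : Set B) := by
  rw [← closure_subset_iff_isClosed]
  intro g hg
  change g ∈ topologicalNilradical B
  rw [IsTopologicallyNilpotent.mem_topologicalNilradical_iff,
    isTopologicallyNilpotent_iff_forall_ideal]
  intro J hJ
  have hnx : (fun y : B => y - g) ⁻¹' (J : Set B) ∈ 𝓝 g := by
    have hc : Continuous (fun y : B => y - g) := continuous_id.sub continuous_const
    apply hc.continuousAt
    simpa using hJ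
  obtain ⟨f, hf1, hf2⟩ := mem_closure_iff_nhds.mp hg _ hnx
  have hf2' : IsTopologicallyNilpotent f := hf2
  obtain ⟨n, hn⟩ := hf2'.exists_pow_mem_of_mem_nhds hJ
  refine ⟨n, ?_⟩
  have h1 : Ideal.Quotient.mk J f = Ideal.Quotient.mk J g := Ideal.Quotient.eq.mpr hf1
  rw [← Ideal.Quotient.eq_zero_iff_mem, map_pow, ← h1, ← map_pow,
    Ideal.Quotient.eq_zero_iff_mem]
  exact hn

/-- If `φ` is continuous and `I` consists of topologically nilpotent elements then so does the
closure of the ideal generated by `φ(I)`. -/
theorem isTopologicallyNilpotent_of_mem_closure_map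
    {A : Type u} [CommRing A] [TopologicalSpace A]
    [IsTopologicalRing B] [IsLinearTopology B B]
    (φ : A →+* B) (hφ : Continuous φ) (I : Ideal A) (hI : ∀ f ∈ I, IsTopologicallyNilpotent f)
    (g : B) (hg : g ∈ (I.map φ).closure) : IsTopologicallyNilpotent g := by
  have h1 : I.map φ ≤ topologicalNilradical B := by
    rw [Ideal.map_le_iff_le_comap]
    intro f hf
    exact IsTopologicallyNilpotent.mem_topologicalNilradical_iff.mpr ((hI f hf).map hφ)
  have h2 : closure ((I.map φ : Ideal B) : Set B) ⊆ (topologicalNilradical B : Ideal B) :=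
    closure_minimal h1 isClosed_topologicalNilradical
  exact IsTopologicallyNilpotent.mem_topologicalNilradical_iff.mp (h2 hg)

/-- Products of closures lie in the closure of the product. -/
theorem closure_mul_closure_le [IsTopologicalRing B] (K L : Ideal B) :
    K.closure * L.closure ≤ (K * L).closure := by
  rw [Ideal.mul_le]
  intro r hr s hs
  exact map_mem_closure₂ (f := fun a b : B => a * b) continuous_mul hr hs
    (fun a ha b hb => Ideal.mul_mem_mul ha hb)

theorem closure_mono' [IsTopologicalRing B] {K L : Ideal B} (h : K ≤ L) :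
    K.closure ≤ L.closure :=
  fun _ hx => closure_mono (show (K : Set B) ⊆ L from h) hx

theorem le_closure [IsTopologicalRing B] (K : Ideal B) : K ≤ K.closure :=
  fun _ hx => subset_closure hx

theorem closure_pow_le [IsTopologicalRing B] (K : Ideal B) (n : ℕ) :
    K.closure ^ n ≤ (K ^ n).closure := by
  induction n with
  | zero => simpa using le_closure (⊤ : Ideal B)
  | succ n ih =>
    rw [pow_succ, pow_succ]
    exact (Ideal.mul_mono_left ih).trans (closure_mul_closure_le _ _)

/-- If `K ≤ U` with `U` an open ideal then `K.closure ≤ U`. -/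
theorem closure_le_of_le_of_isOpen [IsTopologicalRing B] {K U : Ideal B} (h : K ≤ U)
    (hU : IsOpen (U : Set B)) : K.closure ≤ U :=
  fun _ hx => closure_minimal (show (K : Set B) ⊆ U from h) (isClosed_of_isOpen hU) hx

end TopNilp

section Taut

variable {A : Type u} [CommRing A] [TopologicalSpace A]
variable {B : Type v} [CommRing B] [TopologicalSpace B]

/-- The preimage of an open ideal under a continuous ring map is open. -/
theorem isOpen_comap (φ : A →+* B) (hφ : Continuous φ) {J : Ideal B} (hJ : IsOpen (J : Set B)) :
    IsOpen ((J.comap φ : Ideal A) : Set A) :=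
  hJ.preimage hφ

/-- In a linearly topologized ring every neighbourhood of zero in the target contains the closure
of the extension of an open ideal of the source, as soon as `φ` is continuous. -/
theorem exists_isOpen_closure_map_subset [IsTopologicalRing B] [IsLinearTopology B B]
    (φ : A →+* B) (hφ : Continuous φ) {U : Set B} (hU : U ∈ 𝓝 (0 : B)) :
    ∃ I : Ideal A, IsOpen (I : Set A) ∧ closure ((I.map φ : Ideal B) : Set B) ⊆ U := by
  obtain ⟨J, hJ, hJU⟩ := (IsLinearTopology.hasBasis_open_ideal (R := B)).mem_iff.mp hU
  refine ⟨J.comap φ, isOpen_comap φ hφ hJ, subset_trans ?_ hJU⟩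
  exact closure_le_of_le_of_isOpen Ideal.map_comap_le hJ

end Taut

end Groth.Agent.Lib.TautBasic
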