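import Mathlib

/-!
# Coordinates of the product with a Teichmüller representative

For any commutative ring `R`, `x : 𝕎 R` and `c : R`:
`(x * teichmuller p c).coeff j = x.coeff j * c ^ p ^ j`, and the truncated version.
(helper27)
-/

namespace Groth.Agent.Lib.TeichMulCoeff27

open WittVector MvPolynomial

variable (p : ℕ) [hp : Fact p.Prime]

local notation "𝕎" => WittVector p

/-- ghost-injective case. -/
private theorem aux₁ {R : Type*} [CommRing R] [Invertible (p : R)] (x : 𝕎 R) (c : R) :
    x * teichmuller p c = WittVector.mk p (fun j => x.coeff j * c ^ p ^ j) := by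
  apply (ghostMap.bijective_of_invertible p R).1
  funext n
  rw [map_mul, Pi.mul_apply, ghostMap_apply, ghostMap_apply, ghostMap_apply,
    ghostComponent_teichmuller, ghostComponent_apply, ghostComponent_apply,
    aeval_wittPolynomial, aeval_wittPolynomial, Finset.sum_mul]
  refine Finset.sum_congr rfl (fun i hi => ?_)
  have hi' : i ≤ n := Nat.lt_succ_iff.mp (Finset.mem_range.mp hi)
  rw [WittVector.coeff_mk, mul_pow, ← pow_mul, ← pow_add, Nat.add_sub_cancel' hi', mul_assoc]

theorem transfer {R S : Type*} [CommRing R] [CommRing S] (f : R →+* S) (x : 𝕎 R) (c : R) (j : ℕ)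
    (h : (x * teichmuller p c).coeff j = x.coeff j * c ^ p ^ j) :
    (WittVector.map f x * teichmuller p (f c)).coeff j =
      (WittVector.map f x).coeff j * (f c) ^ p ^ j := by
  rw [← map_teichmuller, ← map_mul, map_coeff, h, map_coeff, map_mul, map_pow]

private theorem aux₂ {σ : Type*} (x : 𝕎 (MvPolynomial σ ℤ)) (c : MvPolynomial σ ℤ) (j : ℕ) :
    (x * teichmuller p c).coeff j = x.coeff j * c ^ p ^ j := by
  have hinj : Function.Injective (MvPolynomial.map (Int.castRingHom ℚ) :
      MvPolynomial σ ℤ → MvPolynomial σ ℚ) :=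
    MvPolynomial.map_injective _ Int.cast_injective
  apply hinj
  have : Invertible ((p : ℚ)) := invertibleOfNonzero (by exact_mod_cast hp.out.ne_zero)
  have : Invertible ((p : MvPolynomial σ ℚ)) := by
    have : (p : MvPolynomial σ ℚ) = MvPolynomial.C (p : ℚ) := by simp
    rw [this]
    exact Invertible.map (MvPolynomial.C : ℚ →+* MvPolynomial σ ℚ) (p : ℚ)
  have h := aux₁ p (WittVector.map (MvPolynomial.map (Int.castRingHom ℚ)) x)
    (MvPolynomial.map (Int.castRingHom ℚ) c)
  rw [map_mul, map_pow, ← map_coeff, ← map_coeff, map_mul, map_teichmuller, h, WittVector.coeff_mk]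

/-- The coordinates of `x * [c]`. -/
theorem mul_teichmuller_coeff {R : Type*} [CommRing R] (x : 𝕎 R) (c : R) (j : ℕ) :
    (x * teichmuller p c).coeff j = x.coeff j * c ^ p ^ j := by
  have hsurj : Function.Surjective (MvPolynomial.eval₂Hom (Int.castRingHom R) (id : R → R)) := by
    intro r
    exact ⟨MvPolynomial.X r, by simp⟩
  obtain ⟨x', rfl⟩ := WittVector.map_surjective _ hsurj x
  obtain ⟨c', rfl⟩ := hsurj c
  exact transfer p _ x' c' j (aux₂ p x' c' j)

theorem teichmuller_mul_coeff {R : Type*} [CommRing R] (x : 𝕎 R) (c : R) (j : ℕ) :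
    (teichmuller p c * x).coeff j = c ^ p ^ j * x.coeff j := by
  rw [mul_comm, mul_teichmuller_coeff, mul_comm]

/-- Truncated version. -/
theorem truncated_mul_teichmuller_coeff {R : Type*} [CommRing R] {m : ℕ}
    (a : TruncatedWittVector p m R) (c : R) (j : Fin m) :
    TruncatedWittVector.coeff j (a * WittVector.truncate m (teichmuller p c)) =
      TruncatedWittVector.coeff j a * c ^ p ^ (j : ℕ) := by
  obtain ⟨x, rfl⟩ := WittVector.truncate_surjective p m R a
  rw [← map_mul, WittVector.coeff_truncate, WittVector.coeff_truncate, mul_teichmuller_coeff]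

theorem truncated_teichmuller_mul_coeff {R : Type*} [CommRing R] {m : ℕ}
    (a : TruncatedWittVector p m R) (c : R) (j : Fin m) :
    TruncatedWittVector.coeff j (WittVector.truncate m (teichmuller p c) * a) =
      c ^ p ^ (j : ℕ) * TruncatedWittVector.coeff j a := by
  rw [mul_comm, truncated_mul_teichmuller_coeff, mul_comm]

end Groth.Agent.Lib.TeichMulCoeff27
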