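import Groth.Agent.Lib.CoefSubquot

/-!
# From subquotients to direct summands, and character twists (helper55)

* `exists_subquot_tpow_fixed`: a finite-dimensional comodule whose coefficients lie in the
  coefficient space of a single tensor power `E^{⊗a}` is a subquotient of a finite direct sum of
  copies of `E^{⊗a}`.
* `exists_section_retraction`: a subquotient of a semisimple comodule is a direct summand.
* twist lemmas: coefficients of a twist, transfer of comodule maps across twists by inverse
  group-likes.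
-/

set_option autoImplicit false
universe u v w w' w''

open TensorProduct

namespace Groth.Agent.Lib.TensSummand55

open Groth.Agent.Lib.Comod Groth.Agent.Lib.CoeffSpace Groth.Agent.Lib.CoefSubquot

section Fixed

variable {k : Type u} [Field k] {A : Type u} [CommRing A] [Bialgebra k A]
  {E : Type u} [AddCommGroup E] [Module k E] (cE : HopfRep.Comod k A E)

theorem exists_subquot_tpow_fixed (a : ℕ)
    {W : Type u} [AddCommGroup W] [Module k W] [Module.Finite k W] (σ : HopfRep.Comod k A W)
    (h : cfS σ ≤ cfS (ComodTens.Comod.tpow cE a)) :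
    ∃ (b : ℕ) (E' : Submodule k (Fin b → TensorPower k a E))
      (τ : E' →ₗ[k] E' ⊗[k] A) (q : E' →ₗ[k] W),
      Function.Surjective q ∧
      (E'.subtype.rTensor A) ∘ₗ τ =
        (ComodTens.Comod.pi fun _ : Fin b => ComodTens.Comod.tpow cE a).coact ∘ₗ E'.subtype ∧
      (q.rTensor A) ∘ₗ τ = σ.coact ∘ₗ q := by
  classical
  let s := Module.finrank k W
  let bW : Module.Basis (Fin s) k W := Module.finBasis k W
  let φ : Fin s → Module.Dual k W := fun a => bW.coord a
  have hφ : ∀ w : W, (∀ a, φ a w = 0) → w = 0 := fun w hw =>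
    (bW.forall_coord_eq_zero_iff).1 hw
  let R : Submodule k A := ⨆ a₀ : Fin s, LinearMap.range (coef σ (φ a₀))
  have hRfg : R.FG := by
    apply Submodule.fg_iSup
    intro a₀
    rw [LinearMap.range_eq_map]
    exact (Module.Finite.fg_top).map _
  have hRc : IsCompactElement R := (Submodule.fg_iff_compact R).1 hRfg
  let f : Module.Dual k (TensorPower k a E) → Submodule k A :=
    fun t => LinearMap.range (coef (ComodTens.Comod.tpow cE a) t)
  have hf : R ≤ ⨆ t, f t := by
    refine le_trans ?_ h
    exact iSup_le fun a₀ => le_iSup (fun ψ => LinearMap.range (coef σ ψ)) (φ a₀)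
  obtain ⟨T, hT⟩ := CompleteLattice.IsCompactElement.exists_finset_of_le_iSup _ hRc f hf
  let N := T.card
  let eT : Fin N ≃ T := T.equivFin.symm
  let ψ' : Fin N → Module.Dual k (TensorPower k a E) := fun l => (eT l).1
  have hR' : R ≤ ⨆ l : Fin N, LinearMap.range (coef (ComodTens.Comod.tpow cE a) (ψ' l)) := by
    refine hT.trans ?_
    refine iSup_le fun t => iSup_le fun ht => ?_
    have h3 := le_iSup (fun l : Fin N => f (eT l).1) (eT.symm ⟨t, ht⟩)
    have h4 : ((eT (eT.symm ⟨t, ht⟩)).1 : Module.Dual k (TensorPower k a E)) = t := by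
      rw [Equiv.apply_symm_apply]
    exact (le_of_eq (congrArg f h4.symm)).trans h3
  let dec : Fin (s * N) ≃ Fin s × Fin N := finProdFinEquiv.symm
  refine ⟨s * N, ?_⟩
  refine exists_subquot_pi (fun _ : Fin (s * N) => ComodTens.Comod.tpow cE a) σ φ hφ
    (fun j => (dec j).1) (fun j => ψ' (dec j).2) ?_
  intro a₀
  refine (le_iSup (fun a₀ : Fin s => LinearMap.range (coef σ (φ a₀))) a₀).trans
    (hR'.trans (iSup_le fun l => ?_))
  obtain ⟨j, hj⟩ := dec.surjective (a₀, l)
  have h1 : (dec j).1 = a₀ := by rw [hj]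
  have h2 : (dec j).2 = l := by rw [hj]
  subst h1 h2
  exact le_iSup₂_of_le j rfl le_rfl

end Fixed

section Split

variable {k : Type u} [Field k] {A : Type v} [AddCommGroup A] [Module k A] [Coalgebra k A]
  {P : Type w} [AddCommGroup P] [Module k P] {W : Type w'} [AddCommGroup W] [Module k W]

/-- A subquotient of a semisimple comodule is a direct summand. -/
theorem exists_section_retraction (cP : HopfRep.Comod k A P)
    (hss : @HopfRep.IsSemisimpleComod k A _ _ _ _ P _ _ cP)
    (σ : HopfRep.Comod k A W) (E' : Submodule k P) (τ : E' →ₗ[k] E' ⊗[k] A) (q : E' →ₗ[k] W)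
    (hq : Function.Surjective q)
    (h1 : (E'.subtype.rTensor A) ∘ₗ τ = cP.coact ∘ₗ E'.subtype)
    (h2 : (q.rTensor A) ∘ₗ τ = σ.coact ∘ₗ q) :
    ∃ (i : W →ₗ[k] P) (p : P →ₗ[k] W), p ∘ₗ i = LinearMap.id ∧
      @Hoch.IsComodHom k _ A _ _ _ W _ _ σ P _ _ cP i ∧
      @Hoch.IsComodHom k _ A _ _ _ P _ _ cP W _ _ σ p := by
  letI := cP
  letI := σ
  have hE' : HopfRep.IsSubcomod (k := k) (A := A) E' := by
    intro w hw
    have := LinearMap.congr_fun h1 ⟨w, hw⟩
    simp only [LinearMap.coe_comp, Function.comp_apply, Submodule.subtype_apply] at this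
    exact ⟨τ ⟨w, hw⟩, this⟩
  obtain ⟨E'', hE'', hc⟩ := hss E' hE'
  let r : P →ₗ[k] E' := E'.projectionOnto E'' hc
  let p0 : P →ₗ[k] W := q ∘ₗ r
  have hp0E' : ∀ e : E', p0 e = q e := by
    intro e
    show q (E'.projectionOnto E'' hc (e : P)) = q e
    rw [Submodule.projectionOnto_apply_left]
  have hp0E'' : ∀ e : E'', p0 e = 0 := by
    intro e
    show q (E'.projectionOnto E'' hc (e : P)) = 0
    rw [Submodule.projectionOnto_apply_right, map_zero]
  have hp0c : Hoch.IsComodHom A p0 := by
    unfold Hoch.IsComodHom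
    apply LinearMap.ext
    intro x
    obtain ⟨e', he', e'', he'', rfl⟩ : ∃ e' ∈ E', ∃ e'' ∈ E'', e' + e'' = x := by
      have : x ∈ E' ⊔ E'' := by rw [hc.sup_eq_top]; trivial
      obtain ⟨e', he', e'', he'', hx⟩ := Submodule.mem_sup.1 this
      exact ⟨e', he', e'', he'', hx⟩
    simp only [LinearMap.coe_comp, Function.comp_apply, map_add]
    congr 1
    · -- on E'
      have ha := LinearMap.congr_fun h1 ⟨e', he'⟩
      have hb := LinearMap.congr_fun h2 ⟨e', he'⟩
      simp only [LinearMap.coe_comp, Function.comp_apply, Submodule.subtype_apply] at ha hb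
      rw [hp0E' ⟨e', he'⟩, ← hb, ← ha]
      have hq' : q = p0 ∘ₗ E'.subtype := by
        apply LinearMap.ext
        intro e
        exact (hp0E' e).symm
      conv_lhs => rw [hq', LinearMap.rTensor_comp, LinearMap.comp_apply]
    · -- on E''
      rw [hp0E'' ⟨e'', he''⟩, map_zero]
      obtain ⟨t, ht⟩ := hE'' e'' he''
      rw [← ht, ← LinearMap.comp_apply, ← LinearMap.rTensor_comp]
      have : p0 ∘ₗ E''.subtype = 0 := by
        apply LinearMap.ext
        intro e
        exact hp0E'' e
      rw [this, LinearMap.rTensor_zero, LinearMap.zero_apply]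
  have hp0s : Function.Surjective p0 := by
    intro w
    obtain ⟨e, rfl⟩ := hq w
    exact ⟨e, hp0E' e⟩
  have hK : HopfRep.IsSubcomod (k := k) (A := A) (LinearMap.ker p0) := isSubcomod_ker hp0c
  obtain ⟨K', hK', hcK⟩ := hss _ hK
  have hbij : Function.Bijective (p0.domRestrict K') := by
    constructor
    · rw [← LinearMap.ker_eq_bot, LinearMap.ker_eq_bot']
      intro x hx
      have hx1 : (x : P) ∈ LinearMap.ker p0 := hx
      have hx2 : (x : P) ∈ LinearMap.ker p0 ⊓ K' := ⟨hx1, x.2⟩
      rw [hcK.inf_eq_bot, Submodule.mem_bot] at hx2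
      exact Subtype.ext hx2
    · intro w
      obtain ⟨x, rfl⟩ := hp0s w
      have : x ∈ LinearMap.ker p0 ⊔ K' := by rw [hcK.sup_eq_top]; trivial
      obtain ⟨y, hy, z, hz, rfl⟩ := Submodule.mem_sup.1 this
      refine ⟨⟨z, hz⟩, ?_⟩
      rw [LinearMap.domRestrict_apply, map_add, LinearMap.mem_ker.1 hy, zero_add]
  let e : K' ≃ₗ[k] W := LinearEquiv.ofBijective (p0.domRestrict K') hbij
  let i : W →ₗ[k] P := K'.subtype ∘ₗ e.symm.toLinearMap
  have hpi : p0 ∘ₗ i = LinearMap.id := by
    apply LinearMap.ext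
    intro w
    simp only [i, LinearMap.comp_apply, LinearEquiv.coe_coe, Submodule.subtype_apply,
      LinearMap.id_apply]
    exact e.apply_symm_apply w
  refine ⟨i, p0, hpi, ?_, hp0c⟩
  unfold Hoch.IsComodHom
  apply LinearMap.ext
  intro w
  simp only [LinearMap.coe_comp, Function.comp_apply]
  obtain ⟨t, ht⟩ := hK' (i w) (by simp [i])
  have hw : p0 (i w) = w := LinearMap.congr_fun hpi w
  have h3 := LinearMap.congr_fun hp0c (i w)
  simp only [LinearMap.coe_comp, Function.comp_apply] at h3
  rw [hw] at h3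
  rw [h3, ← ht, ← LinearMap.comp_apply, ← LinearMap.rTensor_comp, ← LinearMap.comp_apply,
    ← LinearMap.rTensor_comp]
  congr 2
  apply LinearMap.ext
  intro x
  simp only [i, LinearMap.comp_apply, LinearEquiv.coe_coe, Submodule.subtype_apply]
  have : e x = p0 x := rfl
  rw [← this, e.symm_apply_apply]

end Split

section Twist

variable {k : Type u} [Field k] {A : Type v} [CommRing A] [Bialgebra k A]
  {V : Type w} [AddCommGroup V] [Module k V] {W : Type w'} [AddCommGroup W] [Module k W]

theorem coef_twist (c : HopfRep.Comod k A V) (g : A) (hg : IsGroupLikeElem k g)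
    (ψ : Module.Dual k V) (v : V) :
    coef (ComodTens.Comod.twist c g hg) ψ v = coef c ψ v * g := by
  rw [coef_apply, coef_apply, ComodTens.twist_coact, lcontr_lTensor]
  rfl

theorem cfS_twist_le (c : HopfRep.Comod k A V) (g : A) (hg : IsGroupLikeElem k g)
    (D : Submodule k A) (h : ∀ f ∈ cfS c, f * g ∈ D) :
    cfS (ComodTens.Comod.twist c g hg) ≤ D := by
  refine iSup_le fun ψ => ?_
  rintro _ ⟨v, rfl⟩
  rw [coef_twist]
  exact h _ (coef_mem_cfS c ψ v)

theorem lTensor_mulRight_mulRight (g g' : A) (hgg : g * g' = 1) (t : V ⊗[k] A) :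
    (LinearMap.mulRight k g').lTensor V ((LinearMap.mulRight k g).lTensor V t) = t := by
  rw [← LinearMap.comp_apply, ← LinearMap.lTensor_comp]
  have : LinearMap.mulRight k g' ∘ₗ LinearMap.mulRight k g = LinearMap.id := by
    apply LinearMap.ext
    intro x
    simp only [LinearMap.comp_apply, LinearMap.mulRight_apply, LinearMap.id_apply]
    rw [mul_assoc, hgg, mul_one]
  rw [this, LinearMap.lTensor_id, LinearMap.id_apply]

theorem rTensor_lTensor_comm' {A' : Type*} [AddCommGroup A'] [Module k A'] (f : V →ₗ[k] W)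
    (m : A →ₗ[k] A') (t : V ⊗[k] A) :
    f.rTensor A' (m.lTensor V t) = m.lTensor W (f.rTensor A t) := by
  induction t using TensorProduct.induction_on with
  | zero => simp
  | add x y hx hy => simp only [map_add, hx, hy]
  | tmul v c => simp

/-- A comodule map `twist ρ g → c` is a comodule map `ρ → twist c g'` when `g g' = 1`. -/
theorem isComodHom_twist_right (ρ : HopfRep.Comod k A V) (c : HopfRep.Comod k A W)
    (g g' : A) (hg : IsGroupLikeElem k g) (hg' : IsGroupLikeElem k g') (hgg : g * g' = 1)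
    (i : V →ₗ[k] W)
    (hi : @Hoch.IsComodHom k _ A _ _ _ V _ _ (ComodTens.Comod.twist ρ g hg) W _ _ c i) :
    @Hoch.IsComodHom k _ A _ _ _ V _ _ ρ W _ _ (ComodTens.Comod.twist c g' hg') i := by
  unfold Hoch.IsComodHom at hi ⊢
  apply LinearMap.ext
  intro v
  have h := LinearMap.congr_fun hi v
  simp only [LinearMap.coe_comp, Function.comp_apply] at h ⊢
  rw [ComodTens.twist_coact, h, ComodTens.twist_coact, rTensor_lTensor_comm',
    lTensor_mulRight_mulRight g g' hgg]

/-- A comodule map `c → twist ρ g` is a comodule map `twist c g' → ρ` when `g g' = 1`. -/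
theorem isComodHom_twist_left (ρ : HopfRep.Comod k A V) (c : HopfRep.Comod k A W)
    (g g' : A) (hg : IsGroupLikeElem k g) (hg' : IsGroupLikeElem k g') (hgg : g * g' = 1)
    (p : W →ₗ[k] V)
    (hp : @Hoch.IsComodHom k _ A _ _ _ W _ _ c V _ _ (ComodTens.Comod.twist ρ g hg) p) :
    @Hoch.IsComodHom k _ A _ _ _ W _ _ (ComodTens.Comod.twist c g' hg') V _ _ ρ p := by
  unfold Hoch.IsComodHom at hp ⊢
  apply LinearMap.ext
  intro x
  have h := LinearMap.congr_fun hp x
  simp only [LinearMap.coe_comp, Function.comp_apply] at h ⊢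
  rw [ComodTens.twist_coact] at h
  rw [ComodTens.twist_coact, rTensor_lTensor_comm', ← h, lTensor_mulRight_mulRight g g' hgg]

end Twist

end Groth.Agent.Lib.TensSummand55
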