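import Groth.Agent.Lib.TensSummand55a
import Groth.Agent.Lib.GLnInt38
import Groth.Agent.Lib.MatCoef55
import Mathlib.Data.Finsupp.Weight
import Mathlib.LinearAlgebra.PiTensorProduct.Finite

/-!
# Homogeneous coefficients of `GL_n` (helper55)

The grading of `O(GL_n)` by the central torus, clearing denominators, and the fact that a
function homogeneous of degree `h` times `det^c` is a coefficient of the `(h + n c)`-th tensor
power of the standard representation.
-/

set_option autoImplicit false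
universe u

open TensorProduct CoordGrp LaurentPolynomial

namespace Groth.Agent.Lib.TensSummand55

open Groth.Agent.Lib.Comod Groth.Agent.Lib.CoeffSpace Groth.Agent.Lib.CoefSubquot
  Groth.Agent.Lib.GLnInt38 Groth.Agent.Lib.MatCoef55 Groth.Agent.Lib.Omega38

section GLnPart

variable {n : ℕ} {k : Type u} [Field k]

/-- The standard representation of `GL_n`. -/
noncomputable abbrev stdU (n : ℕ) (k : Type u) [Field k] :
    HopfRep.Comod k (GLn n k) (Fin n → k) :=
  GLin.comodAlong (Mat.toGLn n k) (ComodTens.stdVec n k)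

theorem stdU_coact_single (i : Fin n) :
    (stdU n k).coact (Pi.single i 1) =
      ∑ j : Fin n, (Pi.single j (1 : k)) ⊗ₜ[k] (GLn.X j i : GLn n k) := by
  rw [GLin.comodAlong_coact, ComodTens.stdVec_coact_single]
  simp only [map_sum, TensorProduct.map_tmul, LinearMap.id_apply]
  refine Finset.sum_congr rfl fun j _ => ?_
  congr 1
  change Mat.toGLn n k (Mat.X j i) = _
  rw [Mat.toGLn_X]

theorem coef_stdU (i j : Fin n) :
    coef (stdU n k) (LinearMap.proj j) (Pi.single i 1) = (GLn.X j i : GLn n k) := by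
  rw [coef_apply, stdU_coact_single, map_sum]
  simp only [lcontr_tmul, LinearMap.proj_apply]
  rw [Finset.sum_eq_single j]
  · simp
  · intro l _ hl
    rw [Pi.single_eq_of_ne hl.symm, zero_smul]
  · intro h
    exact absurd (Finset.mem_univ j) h

theorem X_mem_cfS_stdU (i j : Fin n) : (GLn.X i j : GLn n k) ∈ cfS (stdU n k) := by
  rw [← coef_stdU]
  exact coef_mem_cfS _ _ _

/-- powers: `g^b * p ∈ cfS (E^{⊗(b+m)})`. -/
theorem pow_mul_mem_cfS_tpow {A : Type u} [CommRing A] [Bialgebra k A]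
    {E : Type u} [AddCommGroup E] [Module k E] (cE : HopfRep.Comod k A E) (m : ℕ) {p g : A}
    (hp : p ∈ cfS (ComodTens.Comod.tpow cE m)) (hg : g ∈ cfS cE) (b : ℕ) :
    g ^ b * p ∈ cfS (ComodTens.Comod.tpow cE (b + m)) := by
  induction b with
  | zero => rw [pow_zero, one_mul, zero_add]; exact hp
  | succ b ih =>
    have h := mul_mem_cfS_tpow_succ cE (b + m) ih hg
    have e : g ^ (b + 1) * p = g ^ b * p * g := by ring
    have e' : b + 1 + m = b + m + 1 := by omega
    rw [e, e']
    exact h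

/-- the image of a monomial in `O(GL_n)` -/
noncomputable def mono (μ : Fin n × Fin n →₀ ℕ) (c : k) : GLn n k :=
  GLn.mk n k (incl n k (MvPolynomial.monomial μ c))

theorem mono_zero (c : k) : mono (n := n) 0 c = algebraMap k (GLn n k) c := by
  rw [mono]
  have : (MvPolynomial.monomial (0 : Fin n × Fin n →₀ ℕ) c) = algebraMap k _ c := rfl
  rw [this, AlgHom.commutes, AlgHom.commutes]

theorem mono_single_add (x : Fin n × Fin n) (b : ℕ) (μ : Fin n × Fin n →₀ ℕ) (c : k) :
    mono (Finsupp.single x b + μ) c = (GLn.X x.1 x.2 : GLn n k) ^ b * mono μ c := by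
  obtain ⟨i, j⟩ := x
  rw [mono, mono, MvPolynomial.monomial_single_add, map_mul, map_mul, map_pow, map_pow, incl_X,
    GLn.mk_X]

theorem mono_mem (μ : Fin n × Fin n →₀ ℕ) (c : k) :
    mono μ c ∈ cfS (ComodTens.Comod.tpow (stdU n k) μ.degree) := by
  induction μ using Finsupp.induction with
  | zero =>
    rw [mono_zero, map_zero, Algebra.algebraMap_eq_smul_one]
    exact Submodule.smul_mem _ _ (one_mem_cfS_tpow_zero _)
  | single_add x b μ _ _ ih =>
    rw [mono_single_add, map_add, Finsupp.degree_single]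
    exact pow_mul_mem_cfS_tpow _ _ ih (X_mem_cfS_stdU _ _) b


/-- the scalar one-parameter subgroup, as an algebra map -/
noncomputable def dg (n : ℕ) (k : Type u) [Field k] : GLn n k →ₐ[k] k[T;T⁻¹] :=
  ((GLn.diag n k fun _ => 1 : GLn n k →ₐc[k] k[T;T⁻¹]) : GLn n k →ₐ[k] k[T;T⁻¹])

/-- the grading coaction `(id ⊗ diag) ∘ Δ` -/
noncomputable def Theta (n : ℕ) (k : Type u) [Field k] :
    GLn n k →ₐ[k] GLn n k ⊗[k] k[T;T⁻¹] :=
  (Algebra.TensorProduct.map (AlgHom.id k (GLn n k)) (dg n k)).comp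
    (Bialgebra.comulAlgHom k (GLn n k))

theorem Theta_apply (f : GLn n k) :
    Theta n k f = Algebra.TensorProduct.map (AlgHom.id k (GLn n k)) (dg n k)
      (CoalgebraStruct.comul (R := k) f) := rfl

theorem dg_X (i j : Fin n) : dg n k (GLn.X i j) = if i = j then T 1 else 0 :=
  GLn.diag_X (fun _ => 1) i j

theorem dg_det : dg n k GLn.det = T (n : ℤ) := by
  have h := GLn.diag_det (n := n) (k := k) (fun _ => 1)
  rw [Finset.sum_const, Finset.card_univ, Fintype.card_fin, nsmul_eq_mul, mul_one] at h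
  exact h

theorem Theta_X (i j : Fin n) : Theta n k (GLn.X i j) = GLn.X i j ⊗ₜ[k] T 1 := by
  rw [Theta_apply, GLn.comul_X, map_sum]
  simp only [Algebra.TensorProduct.map_tmul, AlgHom.id_apply, dg_X]
  rw [Finset.sum_eq_single j]
  · rw [if_pos rfl]
  · intro l _ hl
    rw [if_neg hl, TensorProduct.tmul_zero]
  · intro h
    exact absurd (Finset.mem_univ j) h

theorem Theta_det : Theta n k GLn.det = GLn.det ⊗ₜ[k] T (n : ℤ) := by
  rw [Theta_apply, GLn.comul_det, Algebra.TensorProduct.map_tmul, AlgHom.id_apply, dg_det]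

theorem Theta_mono (μ : Fin n × Fin n →₀ ℕ) (c : k) :
    Theta n k (mono μ c) = mono μ c ⊗ₜ[k] T (μ.degree : ℤ) := by
  induction μ using Finsupp.induction with
  | zero =>
    rw [mono_zero, AlgHom.commutes, map_zero, Nat.cast_zero, T_zero,
      Algebra.TensorProduct.algebraMap_apply]
  | single_add x b μ _ _ ih =>
    rw [mono_single_add, map_mul, map_pow, Theta_X, ih, Algebra.TensorProduct.tmul_pow,
      Algebra.TensorProduct.tmul_mul_tmul, T_pow, ← T_add, map_add, Finsupp.degree_single]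
    congr 2
    push_cast
    ring

/-- the coefficient of `T^e` -/
noncomputable def cT (e : ℤ) : k[T;T⁻¹] →ₗ[k] k :=
  Finsupp.lapply e ∘ₗ (AddMonoidAlgebra.coeffLinearEquiv k).toLinearMap

theorem cT_T (e m : ℤ) : cT e (T m : k[T;T⁻¹]) = if m = e then 1 else 0 :=
  T_apply e m

/-- extraction of the degree `e` part -/
noncomputable def ext (e : ℤ) : GLn n k ⊗[k] k[T;T⁻¹] →ₗ[k] GLn n k :=
  (TensorProduct.rid k (GLn n k)).toLinearMap ∘ₗ LinearMap.lTensor (GLn n k) (cT e)

theorem ext_tmul_T (e m : ℤ) (a : GLn n k) :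
    ext e (a ⊗ₜ[k] (T m : k[T;T⁻¹])) = if m = e then a else 0 := by
  rw [ext, LinearMap.comp_apply, LinearMap.lTensor_tmul, cT_T]
  split_ifs
  · simp
  · simp

theorem ext_Theta_mem (a : ℕ) (Q : MvPolynomial (Fin n × Fin n) k) :
    ext (a : ℤ) (Theta n k (GLn.mk n k (incl n k Q))) ∈
      cfS (ComodTens.Comod.tpow (stdU n k) a) := by
  induction Q using MvPolynomial.induction_on' with
  | monomial μ c =>
    change ext (a : ℤ) (Theta n k (mono μ c)) ∈ _
    rw [Theta_mono, ext_tmul_T]
    split_ifs with h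
    · have h' : μ.degree = a := by exact_mod_cast h
      rw [← h']
      exact mono_mem μ c
    · exact Submodule.zero_mem _
  | add p q hp hq =>
    simp only [map_add]
    exact Submodule.add_mem _ hp hq

/-- A function homogeneous of degree `h`, multiplied by `det^c` so that it becomes polynomial,
is a coefficient of the `(h + n c)`-th tensor power of the standard representation. -/
theorem mul_det_pow_mem (f : GLn n k) (h : ℤ) (hf : Theta n k f = f ⊗ₜ[k] T h) (c a : ℕ)
    (ha : (a : ℤ) = h + n * c) (Q : MvPolynomial (Fin n × Fin n) k)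
    (hQ : GLn.mk n k (incl n k Q) = f * GLn.det ^ c) :
    f * GLn.det ^ c ∈ cfS (ComodTens.Comod.tpow (stdU n k) a) := by
  have h1 : Theta n k (f * GLn.det ^ c) = (f * GLn.det ^ c) ⊗ₜ[k] T (a : ℤ) := by
    rw [map_mul, map_pow, hf, Theta_det, Algebra.TensorProduct.tmul_pow,
      Algebra.TensorProduct.tmul_mul_tmul, T_pow, ← T_add, ha, mul_comm (c : ℤ) (n : ℤ)]
  have h2 : ext (a : ℤ) (Theta n k (f * GLn.det ^ c)) = f * GLn.det ^ c := by
    rw [h1, ext_tmul_T, if_pos rfl]
  rw [← h2, ← hQ]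
  exact ext_Theta_mem a Q


/-- functions `f` such that `f det^c` is a polynomial in the matrix entries -/
noncomputable def Pden (n : ℕ) (k : Type u) [Field k] (c : ℕ) : Submodule k (GLn n k) :=
  Submodule.comap (LinearMap.mulRight k ((GLn.det : GLn n k) ^ c))
    (LinearMap.range ((GLn.mk n k).comp (incl n k)).toLinearMap)

theorem mem_Pden {c : ℕ} {f : GLn n k} :
    f ∈ Pden n k c ↔ ∃ Q, GLn.mk n k (incl n k Q) = f * GLn.det ^ c := by
  rw [Pden, Submodule.mem_comap, LinearMap.mem_range]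
  rfl

theorem Pden_mono {c c' : ℕ} (h : c ≤ c') : Pden n k c ≤ Pden n k c' := by
  intro f hf
  rw [mem_Pden] at hf ⊢
  obtain ⟨Q, hQ⟩ := hf
  refine ⟨Q * detP (Fin n) k ^ (c' - c), ?_⟩
  rw [map_mul, map_mul, map_pow, map_pow, incl_detP, GLn.mk_det, hQ, mul_assoc, ← pow_add,
    Nat.add_sub_cancel' h]

theorem exists_mem_Pden (f : GLn n k) : ∃ c, f ∈ Pden n k c := by
  obtain ⟨x, rfl⟩ := Ideal.Quotient.mkₐ_surjective k (GLb.relIdeal n k) f
  change ∃ c, GLn.mk n k x ∈ Pden n k c
  induction x using induction_incl with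
  | h g r =>
    refine ⟨r, ?_⟩
    rw [mem_Pden]
    refine ⟨g, ?_⟩
    rw [map_mul, map_pow, GLn.mk_D, mul_assoc, ← mul_pow, GLn.Dinv_mul_det, one_pow, mul_one]
  | hadd p q hp hq =>
    obtain ⟨c1, h1⟩ := hp
    obtain ⟨c2, h2⟩ := hq
    refine ⟨max c1 c2, ?_⟩
    rw [map_add]
    exact Submodule.add_mem _ (Pden_mono (le_max_left _ _) h1) (Pden_mono (le_max_right _ _) h2)

variable {V : Type u} [AddCommGroup V] [Module k V] [Module.Finite k V]

/-- coefficients of a homogeneous representation are homogeneous functions -/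
theorem Theta_coef (ρ : HopfRep.Comod k (GLn n k) V) (h : ℤ)
    (hh : ∀ v, (GLin.comodAlong (GLn.diag n k fun _ => 1) ρ).coact v = v ⊗ₜ[k] T h)
    (ψ : Module.Dual k V) (v : V) :
    Theta n k (coef ρ ψ v) = coef ρ ψ v ⊗ₜ[k] T h := by
  classical
  let b := Module.finBasis k V
  rw [Theta_apply, comul_coef ρ b ψ v, map_sum]
  simp only [Algebra.TensorProduct.map_tmul, AlgHom.id_apply]
  have key : ∀ l, dg n k (coef ρ (b.coord l) v) = (b.repr v l) • (T h : k[T;T⁻¹]) := by
    intro l
    have := coef_comodAlong (GLn.diag n k fun _ => 1) ρ (b.coord l) v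
    rw [coef_apply, hh v, lcontr_tmul] at this
    exact this.symm
  simp only [key, TensorProduct.tmul_smul, TensorProduct.smul_tmul']
  rw [← TensorProduct.sum_tmul, ← coef_eq_sum_right]

theorem exists_twist_le (hn : 0 < n) (ρ : HopfRep.Comod k (GLn n k) V) (h : ℤ)
    (hh : ∀ v, (GLin.comodAlong (GLn.diag n k fun _ => 1) ρ).coact v = v ⊗ₜ[k] T h) :
    ∃ a c : ℕ, 0 < c ∧
      ∀ f ∈ cfS ρ, f * GLn.det ^ c ∈ cfS (ComodTens.Comod.tpow (stdU n k) a) := by
  classical
  let b := Module.finBasis k V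
  choose cfun hcfun using fun p : Fin (Module.finrank k V) × Fin (Module.finrank k V) =>
    exists_mem_Pden (mat ρ b p.1 p.2)
  let c0 := Finset.univ.sup cfun
  let c := max (max c0 h.natAbs) 1
  have hc0 : c0 ≤ c := le_trans (le_max_left _ _) (le_max_left _ _)
  have hc1 : h.natAbs ≤ c := le_trans (le_max_right _ _) (le_max_left _ _)
  have hc2 : 1 ≤ c := le_max_right _ _
  have hnn : 0 ≤ h + n * c := by
    have h1 : -h ≤ (h.natAbs : ℤ) := by omega
    have h2 : ((h.natAbs : ℕ) : ℤ) ≤ (c : ℤ) := by exact_mod_cast hc1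
    have h3 : (1 : ℤ) ≤ n := by exact_mod_cast hn
    have h4 : (0 : ℤ) ≤ c := by positivity
    nlinarith
  refine ⟨(h + n * c).toNat, c, hc2, ?_⟩
  have ha : (((h + n * c).toNat : ℕ) : ℤ) = h + n * c := Int.toNat_of_nonneg hnn
  have hmat : ∀ i j, mat ρ b i j ∈ Pden n k c := fun i j =>
    Pden_mono (le_trans (Finset.le_sup (f := cfun) (Finset.mem_univ (i, j))) hc0) (hcfun (i, j))
  have hle : cfS ρ ≤ Submodule.comap (LinearMap.mulRight k ((GLn.det : GLn n k) ^ c))
      (cfS (ComodTens.Comod.tpow (stdU n k) (h + n * c).toNat)) := by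
    refine iSup_le fun ψ => ?_
    rintro _ ⟨v, rfl⟩
    have hP : coef ρ ψ v ∈ Pden n k c := by
      rw [coef_eq_sum_left ρ b ψ v]
      refine Submodule.sum_mem _ fun l _ => Submodule.smul_mem _ _ ?_
      rw [coef_eq_sum_right ρ b (b.coord l) v]
      exact Submodule.sum_mem _ fun j _ => Submodule.smul_mem _ _ (hmat l j)
    obtain ⟨Q, hQ⟩ := mem_Pden.1 hP
    exact mul_det_pow_mem _ h (Theta_coef ρ h hh ψ v) c _ ha Q hQ
  intro f hf
  exact hle hf

end GLnPart

end Groth.Agent.Lib.TensSummand55
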