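import Groth.Agent.Lib.TensorACechH44
import Groth.Agent.Lib.TensorALinH44
import Groth.Agent.Lib.EndEquivH44

/-!
# Cohomology of `F ⊗_A M` via the Čech complex: pointwise equivariant comparison (helper44, K2c geometry)
-/

set_option autoImplicit false
universe u

open CategoryTheory CategoryTheory.Limits AlgebraicGeometry Opposite MonoidalCategory CohIII

namespace Groth.Agent.Lib.TensorAModelH44

open Groth.Agent.Lib.TensorACechH44 Groth.Agent.Lib.EndEquivH44 Groth.Agent.Lib.CechEquivH44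

variable (A : Type u) [CommRing A] {X : Scheme.{u}} [X.Over (Spec (CommRingCat.of A))]
  (F : X.Modules) [F.IsQuasicoherent] {ι : Type u} (U : ι → X.Opens)

/-- **Čech-to-derived for `F ⊗_A -`**, equivariant for the endomorphisms of each module. -/
theorem endEquiv_cech (hcov : ⨆ i, U i = ⊤)
    (hU : ∀ s : Finset ι, s.Nonempty → IsAffineOpen (⨅ i ∈ s, U i)) (p : ℕ) :
    EndEquiv (cechFun A F U ⋙ HomologicalComplex.homologyFunctor AddCommGrpCat.{u} _ p)
      (tensorAFunctor A F ⋙ HAb X p) := by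
  intro W
  haveI : Coh.IsQCoh ((tensorAFunctor A F).obj W) := isQuasicoherent_tensorAFunctor_obj A F W
  obtain ⟨e, he⟩ := exists_addEquiv_act U hcov hU ((tensorAFunctor A F).obj W) (End W)
    ((tensorAFunctor A F ⋙ SheafOfModules.toSheaf X.ringCatSheaf).mapEnd W) p
  exact ⟨e, fun ψ x => he ψ x⟩

omit [X.Over (Spec (CommRingCat.of A))] [F.IsQuasicoherent] in
theorem isAffineOpen_prod (hU : ∀ s : Finset ι, s.Nonempty → IsAffineOpen (⨅ i ∈ s, U i))
    (n : ℕ) (a : Fin (n + 1) → ι) : IsAffineOpen (∏ᶜ fun k => U (a k)) := by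
  classical
  have hs : (Finset.univ.image a).Nonempty := ⟨a 0, Finset.mem_image_of_mem a (Finset.mem_univ 0)⟩
  have haff := hU _ hs
  have heq : (⨅ i ∈ Finset.univ.image a, U i) = ∏ᶜ fun k => U (a k) := by
    apply le_antisymm
    · exact leOfHom (Pi.lift fun k => homOfLE
        (iInf₂_le (a k) (Finset.mem_image_of_mem a (Finset.mem_univ k))))
    · refine le_iInf₂ fun i hi => ?_
      obtain ⟨k, -, rfl⟩ := Finset.mem_image.1 hi
      exact leOfHom (Pi.π (fun k => U (a k)) k)
  rw [heq] at haff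
  exact haff

/-- **`H^p(X, F ⊗_A W) ≅ H^p(C ⊗_A W)`**, compatibly with the endomorphisms of each `W`, where `C` is the
Čech complex of `F ⊗_A A` for a finite cover with affine multi-intersections. -/
theorem endEquiv_TFun [Finite ι] (hcov : ⨆ i, U i = ⊤)
    (hU : ∀ s : Finset ι, s.Nonempty → IsAffineOpen (⨅ i ∈ s, U i)) (p : ℕ) :
    EndEquiv (TFun (cechCx A F U) p ⋙ forget₂ (ModuleCat.{u} A) AddCommGrpCat.{u})
      (tensorAFunctor A F ⋙ HAb X p) := by
  obtain ⟨e⟩ := nonempty_cechTFunIso A F U (isAffineOpen_prod U hU) p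
  exact (EndEquiv.of_iso e).trans (endEquiv_cech A F U hcov hU p)

end Groth.Agent.Lib.TensorAModelH44
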