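import Groth.Agent.Lib.H78TensorGen
import Groth.Agent.Lib.H4TensorPair
import Groth.Agent.Lib.FreeModStalk
import Groth.Agent.Lib.QCohBiproduct
import Mathlib.LinearAlgebra.TensorProduct.Pi

/-!
# Local bases of `O_X`-modules and tensor products (helper23)

Rank `n` generalisation of helper90's `IsGen` / helper78's `tmul_gen_bijective`.

* `IsBasis L V s`: `s : Fin n → Γ(L, V)` is a basis of `L` over `V` (for every open `W ⊆ V`,
  `(a_i) ↦ ∑ a_i • s_i|_W` is a bijection `Γ(X, W)^n → Γ(L, W)`); `IsBasis.mono`, `IsBasis.of_iso`, `IsBasis.of_eq`.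
* `isBasis_freeMod`: the standard basis of `O_X^n`; `isBasis_of_isBasis_restrict`, `isBasis_restrict_of_isBasis`;
  `exists_isBasis_of_restrict_iso`, `exists_isBasis_of_isFinLocFree`.
* `ptmul_basis_bijective`, `tmul_basis_bijective`: if `e` is a basis of `N` over `U` then for `V ≤ U`,
  `(x_i) ↦ ∑ x_i ⊗ e_i|_V` is a bijection `Γ(M, V)^n → Γ(M ⊗ N, V)`.
-/

set_option autoImplicit false
universe u

open CategoryTheory CategoryTheory.Limits AlgebraicGeometry TopologicalSpace Opposite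
open AlgebraicGeometry.Scheme AlgebraicGeometry.Scheme.Modules
open Groth.Agent.Lib.StructureModule Groth.Agent.Lib.H90Invertible Groth.Agent.Lib.H78TensorGen

namespace Groth.Agent.Lib.TensorBasis23

variable {X : Scheme.{u}} {L L' : X.Modules}

def IsBasis (L : X.Modules) (V : X.Opens) {n : ℕ} (s : Fin n → Γ(L, V)) : Prop :=
  ∀ (W : X.Opens) (h : W ≤ V),
    Function.Bijective (fun a : Fin n → Γ(X, W) => ∑ i, a i • rs L h (s i))

theorem IsBasis.mono {V : X.Opens} {n : ℕ} {s : Fin n → Γ(L, V)} (hs : IsBasis L V s)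
    {V' : X.Opens} (h : V' ≤ V) : IsBasis L V' (fun i => rs L h (s i)) := by
  intro W hW
  have h0 := hs W (hW.trans h)
  have h1 : (fun a : Fin n → Γ(X, W) => ∑ i, a i • rs L hW (rs L h (s i))) =
      fun a => ∑ i, a i • rs L (hW.trans h) (s i) := by
    funext a
    refine Finset.sum_congr rfl (fun i _ => ?_)
    rw [rs_rs]
  rw [h1]
  exact h0

theorem IsBasis.of_iso {V : X.Opens} {n : ℕ} {s : Fin n → Γ(L, V)} (hs : IsBasis L V s)
    (e : L ≅ L') : IsBasis L' V (fun i => e.hom.app V (s i)) := by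
  intro W hW
  have h1 := hs W hW
  have h2 : Function.Bijective (e.hom.app W) :=
    (ConcreteCategory.isIso_iff_bijective (e.hom.app W)).mp inferInstance
  convert h2.comp h1 using 1
  funext a
  simp only [Function.comp_apply]
  rw [map_sum]
  refine Finset.sum_congr rfl (fun i _ => ?_)
  rw [Hom.app_smul]
  congr 1
  exact (NatTrans.naturality_apply e.hom.mapPresheaf (homOfLE hW).op (s i)).symm


section Free

open Groth.Agent.Lib.FreeModStalk Groth.Agent.Lib.FreeModSch Groth.Agent.Lib.QCohBiproduct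

variable (X) (n : ℕ)

lemma ι_app (i : Fin n) (W : X.Opens) (c : Γ(X, W)) :
    (Sigma.ι (fun _ : Fin n => Coh.structureModule X) i).app W (toSec W c) =
      c • rs (FlatMod.freeMod X n) le_top (basisSec X n i) := by
  have h1 : Sigma.ι (fun _ : Fin n => Coh.structureModule X) i =
      FreeModSch.ofSection _ (basisSec X n i) :=
    unit_hom_ext _ _ (toSection_ofSection _ _).symm
  rw [h1]
  rfl

lemma proj_app_basisSec (i j : Fin n) (W : X.Opens) :
    (proj X n j).app W (rs (FlatMod.freeMod X n) le_top (basisSec X n i)) =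
      toSec W (if i = j then 1 else 0) := by
  have h1 := ι_app X n i W 1
  rw [one_smul] at h1
  rw [← h1]
  have h2 := congrArg (fun χ => (Scheme.Modules.Hom.app χ W) (toSec W 1)) (ι_proj X n j i)
  refine h2.trans ?_
  split_ifs with h
  · rfl
  · rfl

/-- a section of the structure module as a function -/
def ofSec (W : X.Opens) (c : Γ(Coh.structureModule X, W)) : Γ(X, W) := c

lemma toSec_ofSec (W : X.Opens) (c : Γ(Coh.structureModule X, W)) : toSec W (ofSec X W c) = c := rfl

lemma proj_app_sum (j : Fin n) (W : X.Opens) (a : Fin n → Γ(X, W)) :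
    (proj X n j).app W (∑ i, a i • rs (FlatMod.freeMod X n) le_top (basisSec X n i)) =
      toSec W (a j) := by
  rw [app_sum']
  rw [Finset.sum_eq_single j]
  · rw [Scheme.Modules.Hom.app_smul, proj_app_basisSec, if_pos rfl]
    exact (toSec_eq_smul_one W (a j)).symm
  · intro i _ hij
    rw [Scheme.Modules.Hom.app_smul, proj_app_basisSec, if_neg hij]
    exact mul_zero (a i)
  · intro h
    exact absurd (Finset.mem_univ j) h

/-- the standard basis of `O_X^n` -/
theorem isBasis_freeMod : IsBasis (FlatMod.freeMod X n) ⊤ (basisSec X n) := by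
  intro W hW
  constructor
  · intro a a' h
    funext j
    have h1 := congrArg (fun t => (proj X n j).app W t) h
    simp only at h1
    rw [proj_app_sum, proj_app_sum] at h1
    exact toSec_injective W h1
  · intro t
    refine ⟨fun i => ofSec X W ((proj X n i).app W t), ?_⟩
    have h1 := congrArg (fun χ => (Scheme.Modules.Hom.app χ W) t) (sum_proj_ι X n)
    simp only [Scheme.Modules.Hom.id_app] at h1
    rw [sum_app] at h1
    refine Eq.trans ?_ h1
    refine Finset.sum_congr rfl (fun i _ => ?_)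
    have h2 := ι_app X n i W (ofSec X W ((proj X n i).app W t))
    exact h2.symm

end Free

section Restrict

variable {Y : Scheme.{u}} (j : Y ⟶ X) [IsOpenImmersion j]

theorem isBasis_of_isBasis_restrict (L : X.Modules) (W : Y.Opens) {n : ℕ}
    (s : Fin n → Γ(L, j ''ᵁ W)) (hs : IsBasis (L.restrict j) W s) : IsBasis L (j ''ᵁ W) s := by
  intro V' hV'
  obtain ⟨W'', hW'', rfl⟩ : ∃ W'' ≤ W, j ''ᵁ W'' = V' := by
    refine ⟨j ⁻¹ᵁ V', ?_, ?_⟩
    · intro y hy
      obtain ⟨y', hy', e⟩ := hV' hy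
      rwa [← j.isOpenEmbedding.injective e]
    · rw [Scheme.Hom.image_preimage_eq_opensRange_inf]
      refine inf_eq_right.mpr (hV'.trans ?_)
      rintro _ ⟨y, -, rfl⟩
      exact ⟨y, rfl⟩
  have h1 := hs W'' hW''
  have h2 : Function.Bijective (j.appIso W'').hom :=
    (ConcreteCategory.isIso_iff_bijective (j.appIso W'').hom).mp inferInstance
  have h3 : Function.Bijective (fun (b : Fin n → Γ(X, j ''ᵁ W'')) (i : Fin n) =>
      (j.appIso W'').hom (b i)) := h2.comp_left
  have key : (fun b : Fin n → Γ(X, j ''ᵁ W'') => ∑ i, b i • rs L hV' (s i)) =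
      (fun a : Fin n → Γ(Y, W'') => ∑ i, a i • rs (L.restrict j) hW'' (s i)) ∘
        (fun (b : Fin n → Γ(X, j ''ᵁ W'')) (i : Fin n) => (j.appIso W'').hom (b i)) := by
    funext b
    simp only [Function.comp_apply]
    refine Finset.sum_congr rfl (fun i _ => ?_)
    rw [restrict_smul, Iso.hom_inv_id_apply]
    rfl
  rw [key]
  exact h1.comp h3

theorem isBasis_restrict_of_isBasis (L : X.Modules) (W : Y.Opens) {n : ℕ}
    (s : Fin n → Γ(L, j ''ᵁ W)) (hs : IsBasis L (j ''ᵁ W) s) : IsBasis (L.restrict j) W s := by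
  intro W'' hW''
  have h1 := hs (j ''ᵁ W'') (j.image_mono hW'')
  have h2 : Function.Bijective (j.appIso W'').inv :=
    (ConcreteCategory.isIso_iff_bijective (j.appIso W'').inv).mp inferInstance
  have h3 : Function.Bijective (fun (a : Fin n → Γ(Y, W'')) (i : Fin n) =>
      (j.appIso W'').inv (a i)) := h2.comp_left
  exact h1.comp h3

end Restrict

theorem IsBasis.of_eq {V V' : X.Opens} {n : ℕ} {s : Fin n → Γ(L, V)} (hs : IsBasis L V s)
    (e : V' = V) : IsBasis L V' (fun i => rs L e.le (s i)) :=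
  hs.mono e.le

/-- a trivialisation `E|_U ≅ O_U^n` gives a basis of `E` over `U` -/
theorem exists_isBasis_of_restrict_iso (E : X.Modules) (U : X.Opens) (n : ℕ)
    (e : E.restrict U.ι ≅ FlatMod.freeMod (↑U : Scheme.{u}) n) :
    ∃ s : Fin n → Γ(E, U), IsBasis E U s := by
  have h1 : IsBasis (E.restrict U.ι) ⊤ (fun i => e.inv.app ⊤ (FreeModStalk.basisSec (↑U) n i)) :=
    (isBasis_freeMod (↑U : Scheme.{u}) n).of_iso e.symm
  have h2 := isBasis_of_isBasis_restrict U.ι E ⊤ _ h1
  have e' : U = U.ι ''ᵁ ⊤ := by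
    rw [U.ι.image_top_eq_opensRange, U.opensRange_ι]
  exact ⟨_, h2.of_eq e'⟩

/-- a finite locally free module has local bases -/
theorem exists_isBasis_of_isFinLocFree {E : X.Modules} (hE : FlatMod.IsFinLocFree E) (x : X) :
    ∃ (U : X.Opens) (n : ℕ) (s : Fin n → Γ(E, U)), x ∈ U ∧ IsBasis E U s := by
  obtain ⟨U, n, hxU, ⟨e⟩⟩ := hE x
  obtain ⟨s, hs⟩ := exists_isBasis_of_restrict_iso E U n e
  exact ⟨U, n, s, hxU, hs⟩

section Tensor

variable (M : X.Modules) {N : X.Modules}

lemma ptmul_sum_left {V : X.Opens} {ι : Type*} (t : Finset ι) (x : ι → Γ(M, V)) (y : Γ(N, V)) :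
    ptmul (∑ i ∈ t, x i) y = ∑ i ∈ t, ptmul (x i) y :=
  TensorProduct.sum_tmul _ _ _

/-- if `e` is a basis of `N` over `V`, every element of `M(V) ⊗ N(V)` is uniquely `∑ x_i ⊗ e_i` -/
lemma ptmul_basis_bijective {V : X.Opens} {n : ℕ} {e : Fin n → Γ(N, V)} (he : IsBasis N V e) :
    Function.Bijective (fun x : Fin n → Γ(M, V) => ∑ i, ptmul (x i) (e i)) := by
  classical
  have hb : Function.Bijective
      (Fintype.linearCombination (RR V) (fun i => (id (e i) : MM N V))) := by
    have h1 := he V le_rfl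
    have h2 : (fun a : Fin n → Γ(X, V) => ∑ i, a i • rs N le_rfl (e i)) =
        fun a : Fin n → Γ(X, V) => ∑ i, a i • e i := by
      funext a
      refine Finset.sum_congr rfl (fun i _ => ?_)
      rw [rs_self]
    rw [h2] at h1
    exact h1
  let b : (Fin n → RR V) ≃ₗ[RR V] MM N V := LinearEquiv.ofBijective _ hb
  let g : (Fin n → MM M V) ≃ₗ[RR V] TensorProduct (RR V) (MM M V) (MM N V) :=
    (TensorProduct.piScalarRight (RR V) (RR V) (MM M V) (Fin n)).symm ≪≫ₗ
      TensorProduct.congr (LinearEquiv.refl _ _) b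
  have hb1 : ∀ i, b (Pi.single i 1) = (id (e i) : MM N V) := by
    intro i
    change Fintype.linearCombination (RR V) (fun i => (id (e i) : MM N V)) (Pi.single i 1) = _
    rw [Fintype.linearCombination_apply_single, one_smul]
  have hg1 : ∀ (i : Fin n) (m : MM M V), g (Pi.single i m) = m ⊗ₜ[RR V] (id (e i) : MM N V) := by
    intro i m
    change (TensorProduct.congr (LinearEquiv.refl _ _) b)
      ((TensorProduct.piScalarRight (RR V) (RR V) (MM M V) (Fin n)).symm (Pi.single i m)) = _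
    rw [TensorProduct.piScalarRight_symm_single, TensorProduct.congr_tmul, hb1]
    rfl
  have hg : ∀ x : Fin n → Γ(M, V), g x = ∑ i, ptmul (x i) (e i) := by
    intro x
    let y : Fin n → MM M V := x
    have hy : (∑ i, Pi.single i (y i)) = y := Finset.univ_sum_single y
    have h1 : g y = ∑ i, g (Pi.single i (y i)) :=
      (congrArg g hy.symm).trans (map_sum g _ _)
    exact h1.trans (Finset.sum_congr rfl (fun i _ => hg1 i (y i)))
  have : (fun x : Fin n → Γ(M, V) => ∑ i, ptmul (x i) (e i)) = g := by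
    funext x
    exact (hg x).symm
  rw [this]
  exact g.bijective

lemma rs_sum (M : X.Modules) {V W : X.Opens} (h : W ≤ V) {ι : Type*} (t : Finset ι)
    (x : ι → Γ(M, V)) : rs M h (∑ i ∈ t, x i) = ∑ i ∈ t, rs M h (x i) :=
  map_sum (M.presheaf.map (homOfLE h).op).hom x t

lemma unitT_sum_ptmul {V : X.Opens} {ι : Type*} (t : Finset ι) (x : ι → Γ(M, V))
    (y : ι → Γ(N, V)) :
    ((unitT M N).app (op V)).hom (∑ i ∈ t, ptmul (x i) (y i)) = ∑ i ∈ t, tmul (x i) (y i) :=
  map_sum ((unitT M N).app (op V)).hom _ t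

lemma tpre_map_sum_ptmul {V W : X.Opens} (h : W ≤ V) {ι : Type*} (t : Finset ι) (x : ι → Γ(M, V))
    (y : ι → Γ(N, V)) :
    (tpre M N).map (homOfLE h).op (∑ i ∈ t, ptmul (x i) (y i)) =
      ∑ i ∈ t, ptmul (rs M h (x i)) (rs N h (y i)) := by
  have h1 := map_sum ((tpre M N).map (homOfLE h).op).hom (fun i => ptmul (x i) (y i)) t
  refine h1.trans (Finset.sum_congr rfl (fun i _ => ?_))
  exact ptmul_res (homOfLE h) (x i) (y i)

/-- **Tensoring with a module having a basis `e` over `U`**: for `V ≤ U`, the map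
`(x_i) ↦ ∑ x_i ⊗ e_i|_V` is a bijection `Γ(M, V)^n → Γ(M ⊗ N, V)`. -/
theorem tmul_basis_bijective {U : X.Opens} {n : ℕ} {e : Fin n → Γ(N, U)} (he : IsBasis N U e)
    {V : X.Opens} (hV : V ≤ U) :
    Function.Bijective (fun x : Fin n → Γ(M, V) => ∑ i, tmul (x i) (rs N hV (e i))) := by
  have hinj : ∀ {V : X.Opens} (hV : V ≤ U),
      Function.Injective (fun x : Fin n → Γ(M, V) => ∑ i, tmul (x i) (rs N hV (e i))) := by
    intro V hV x x' hxx'
    funext i
    refine sec_ext M (x i) (x' i) (fun z hz => ?_)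
    have hxx'' : ((unitT M N).app (op V)).hom (∑ i, ptmul (x i) (rs N hV (e i))) =
        ((unitT M N).app (op V)).hom (∑ i, ptmul (x' i) (rs N hV (e i))) := by
      rw [unitT_sum_ptmul, unitT_sum_ptmul]
      exact hxx'
    obtain ⟨W, hW, hzW, hp⟩ := local_inj M N _ _ hxx'' z hz
    refine ⟨W, hW, hzW, ?_⟩
    rw [tpre_map_sum_ptmul, tpre_map_sum_ptmul] at hp
    have hbas : IsBasis N W (fun i => rs N hW (rs N hV (e i))) := (he.mono hV).mono hW
    exact congrFun ((ptmul_basis_bijective M hbas).1 hp) i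
  refine ⟨hinj hV, ?_⟩
  intro q
  choose W hW hzW p hp using exists_local_rep M N q
  have hbas : ∀ z hz, IsBasis N (W z hz) (fun i => rs N ((hW z hz).trans hV) (e i)) :=
    fun z hz => he.mono _
  choose xs hxs using fun z hz => (ptmul_basis_bijective M (hbas z hz)).2 (p z hz)
  have key : ∀ z hz, ∑ i, tmul (xs z hz i) (rs N ((hW z hz).trans hV) (e i)) =
      rs _ (hW z hz) q := by
    intro z hz
    rw [← hp z hz, ← hxs z hz]
    exact (unitT_sum_ptmul M _ _ _).symm
  have hglue : ∀ i, ∃ x : Γ(M, V), ∀ z : V, rs M (hW z.1 z.2) x = xs z.1 z.2 i := by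
    intro i
    refine sec_glue M (fun z : V => W z.1 z.2) (fun z => hW z.1 z.2)
      (fun z hz => Opens.mem_iSup.2 ⟨⟨z, hz⟩, hzW z hz⟩) (fun z => xs z.1 z.2 i) ?_
    intro z z'
    have hle : W z.1 z.2 ⊓ W z'.1 z'.2 ≤ U := inf_le_left.trans ((hW z.1 z.2).trans hV)
    have hfam : (fun i => rs M (inf_le_left : W z.1 z.2 ⊓ W z'.1 z'.2 ≤ W z.1 z.2) (xs z.1 z.2 i)) =
        (fun i => rs M (inf_le_right : W z.1 z.2 ⊓ W z'.1 z'.2 ≤ W z'.1 z'.2) (xs z'.1 z'.2 i)) := by
      apply hinj hle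
      change ∑ i, tmul (rs M _ (xs z.1 z.2 i)) (rs N hle (e i)) =
        ∑ i, tmul (rs M _ (xs z'.1 z'.2 i)) (rs N hle (e i))
      have h1 : ∀ i, rs N hle (e i) = rs N (inf_le_left : W z.1 z.2 ⊓ W z'.1 z'.2 ≤ W z.1 z.2)
          (rs N ((hW z.1 z.2).trans hV) (e i)) := fun i => by rw [rs_rs]
      have h2 : ∀ i, rs N hle (e i) = rs N (inf_le_right : W z.1 z.2 ⊓ W z'.1 z'.2 ≤ W z'.1 z'.2)
          (rs N ((hW z'.1 z'.2).trans hV) (e i)) := fun i => by rw [rs_rs]
      have e1 : ∑ i, tmul (rs M inf_le_left (xs z.1 z.2 i)) (rs N hle (e i)) =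
          rs _ (inf_le_left : W z.1 z.2 ⊓ W z'.1 z'.2 ≤ W z.1 z.2) (rs _ (hW z.1 z.2) q) := by
        rw [← key z.1 z.2, rs_sum]
        refine Finset.sum_congr rfl (fun i _ => ?_)
        rw [tmul_rs, ← h1]
      have e2 : ∑ i, tmul (rs M inf_le_right (xs z'.1 z'.2 i)) (rs N hle (e i)) =
          rs _ (inf_le_right : W z.1 z.2 ⊓ W z'.1 z'.2 ≤ W z'.1 z'.2) (rs _ (hW z'.1 z'.2) q) := by
        rw [← key z'.1 z'.2, rs_sum]
        refine Finset.sum_congr rfl (fun i _ => ?_)
        rw [tmul_rs, ← h2]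
      rw [e1, e2, rs_rs, rs_rs]
    exact congrFun hfam i
  choose x hx using hglue
  refine ⟨x, sec_ext _ _ _ (fun z hz => ⟨W z hz, hW z hz, hzW z hz, ?_⟩)⟩
  change rs _ (hW z hz) (∑ i, tmul (x i) (rs N hV (e i))) = _
  rw [rs_sum, ← key z hz]
  refine Finset.sum_congr rfl (fun i _ => ?_)
  rw [tmul_rs, rs_rs, hx i ⟨z, hz⟩]

end Tensor

end Groth.Agent.Lib.TensorBasis23

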