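import Groth.Agent.Lib.CoactNorm55
import Groth.Prelude.Def_ComodTens

/-!
# The comodule algebra `P ⊗ B` (trivial coaction on `P`) and its invariants (helper55)

`B` a commutative comodule algebra over the commutative bialgebra `A` over `k`, `P` a commutative
`k`-algebra.  `P ⊗[k] B` is a comodule algebra over the same `(k, A)` with coaction
`p ⊗ b ↦ Σ (p ⊗ b₀) ⊗ b₁` (`comodP`, `isCoactAlgP`, definitions, not instances).

* `map_rhoP` : `ψ ⊗ id : P ⊗ B → P' ⊗ B` is a map of comodule algebras;
* `mem_range_of_flat` : for `P` flat over `k`, an invariant of `P ⊗ B` lies in the image of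
  `P ⊗ B^A → P ⊗ B`.
-/

set_option autoImplicit false
universe u v w w' w''

open TensorProduct

namespace Groth.Agent.Lib.TensorComod55

variable (k : Type u) [CommRing k] (A : Type v) [CommRing A] [Bialgebra k A]
  (B : Type w) [CommRing B] [Algebra k B] [HopfRep.Comod k A B] [GLin.IsCoactAlg k A B]
  (P : Type w') [CommRing P] [Algebra k P]

/-- The coaction on `P ⊗ B`, as an algebra map. -/
noncomputable def rhoP : P ⊗[k] B →ₐ[k] (P ⊗[k] B) ⊗[k] A :=
  ((Algebra.TensorProduct.assoc k k k P B A).symm : P ⊗[k] (B ⊗[k] A) →ₐ[k] (P ⊗[k] B) ⊗[k] A).comp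
    (Algebra.TensorProduct.map (AlgHom.id k P) (GLin.coactAlgHom k A B))

theorem rhoP_tmul (p : P) (b : B) :
    rhoP k A B P (p ⊗ₜ[k] b) =
      (Algebra.TensorProduct.assoc k k k P B A).symm (p ⊗ₜ[k] GLin.coactAlgHom k A B b) := by
  simp [rhoP]

theorem assoc_symm_mk (p : P) (y : B ⊗[k] A) :
    (Algebra.TensorProduct.assoc k k k P B A).symm (p ⊗ₜ[k] y) =
      (TensorProduct.mk k P B p).rTensor A y := by
  induction y using TensorProduct.induction_on with
  | zero => simp
  | add x y hx hy => simp only [tmul_add, map_add, hx, hy]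
  | tmul b a => simp

theorem rhoP_mk (p : P) :
    (rhoP k A B P).toLinearMap ∘ₗ (TensorProduct.mk k P B p) =
      (TensorProduct.mk k P B p).rTensor A ∘ₗ HopfRep.Comod.coact (k := k) (A := A) := by
  refine LinearMap.ext fun b => ?_
  simp only [LinearMap.coe_comp, Function.comp_apply, TensorProduct.mk_apply,
    AlgHom.toLinearMap_apply]
  rw [rhoP_tmul, assoc_symm_mk]
  rfl

/-- The comodule structure on `P ⊗ B`. -/
@[reducible] noncomputable def comodP : HopfRep.Comod k A (P ⊗[k] B) where
  coact := (rhoP k A B P).toLinearMap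
  coassoc := by
    apply TensorProduct.ext'
    intro p b
    have := ComodTens.coassoc_apply_of_hom (inferInstance : HopfRep.Comod k A B)
      (rhoP k A B P).toLinearMap (TensorProduct.mk k P B p) (rhoP_mk k A B P p) b
    simpa only [LinearMap.coe_comp, Function.comp_apply, LinearEquiv.coe_coe,
      TensorProduct.mk_apply] using this
  counit_comp := by
    apply TensorProduct.ext'
    intro p b
    have := ComodTens.counit_apply_of_hom (inferInstance : HopfRep.Comod k A B)
      (rhoP k A B P).toLinearMap (TensorProduct.mk k P B p) (rhoP_mk k A B P p) b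
    simpa only [LinearMap.coe_comp, Function.comp_apply, LinearMap.flip_apply,
      TensorProduct.mk_apply] using this

theorem isCoactAlgP : @GLin.IsCoactAlg k _ A _ _ (P ⊗[k] B) _ _ (comodP k A B P) :=
  @GLin.IsCoactAlg.mk k _ A _ _ (P ⊗[k] B) _ _ (comodP k A B P)
    (by change (rhoP k A B P).toLinearMap 1 = 1; rw [AlgHom.toLinearMap_apply, map_one])
    (fun f g => by
      change (rhoP k A B P).toLinearMap (f * g) =
        (rhoP k A B P).toLinearMap f * (rhoP k A B P).toLinearMap g
      rw [AlgHom.toLinearMap_apply, AlgHom.toLinearMap_apply, AlgHom.toLinearMap_apply, map_mul])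

theorem coactAlgHomP :
    @GLin.coactAlgHom k _ A _ _ (P ⊗[k] B) _ _ (comodP k A B P) (isCoactAlgP k A B P) =
      rhoP k A B P :=
  AlgHom.ext fun _ => rfl

section Map

variable {P} {P' : Type w''} [CommRing P'] [Algebra k P']

/-- `ψ ⊗ id` is a map of comodule algebras. -/
theorem map_rhoP (ψ : P →ₐ[k] P') (z : P ⊗[k] B) :
    Algebra.TensorProduct.map (Algebra.TensorProduct.map ψ (AlgHom.id k B)) (AlgHom.id k A)
        (rhoP k A B P z) =
      rhoP k A B P' (Algebra.TensorProduct.map ψ (AlgHom.id k B) z) := by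
  induction z using TensorProduct.induction_on with
  | zero => simp
  | add x y hx hy => simp only [map_add, hx, hy]
  | tmul p b =>
    rw [Algebra.TensorProduct.map_tmul, AlgHom.id_apply, rhoP_tmul, rhoP_tmul]
    generalize GLin.coactAlgHom k A B b = y
    induction y using TensorProduct.induction_on with
    | zero => simp
    | add x y hx hy => simp only [tmul_add, map_add, hx, hy]
    | tmul b a => simp

end Map

section Flat

/-- `b ↦ ρ b - b ⊗ 1`. -/
noncomputable def delta : B →ₗ[k] B ⊗[k] A :=
  HopfRep.Comod.coact (k := k) (A := A) - (TensorProduct.mk k B A).flip 1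

theorem delta_apply (b : B) :
    delta k A B b = HopfRep.Comod.coact (k := k) (A := A) b - b ⊗ₜ[k] (1 : A) := rfl

theorem exact_delta :
    Function.Exact (GLin.invariants k A B).val.toLinearMap (delta k A B) := by
  intro b
  rw [delta_apply, sub_eq_zero, ← GLin.mem_invariants_iff]
  constructor
  · intro hb
    exact ⟨⟨b, hb⟩, rfl⟩
  · rintro ⟨c, rfl⟩
    exact c.2

theorem assoc_symm_lTensor_delta (z : P ⊗[k] B) :
    (Algebra.TensorProduct.assoc k k k P B A).symm ((delta k A B).lTensor P z) =
      rhoP k A B P z - z ⊗ₜ[k] (1 : A) := by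
  induction z using TensorProduct.induction_on with
  | zero => simp
  | add x y hx hy => simp only [map_add, hx, hy, add_tmul]; abel
  | tmul p b =>
    rw [LinearMap.lTensor_tmul, delta_apply, tmul_sub, map_sub, rhoP_tmul]
    rfl

/-- For `P` flat, the invariants of `P ⊗ B` are the image of `P ⊗ B^A`. -/
theorem mem_range_of_flat [Module.Flat k P] (z : P ⊗[k] B)
    (hz : rhoP k A B P z = z ⊗ₜ[k] (1 : A)) :
    z ∈ LinearMap.range ((GLin.invariants k A B).val.toLinearMap.lTensor P) := by
  have hex := Module.Flat.lTensor_exact P (exact_delta k A B)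
  refine (hex z).1 ?_
  apply (Algebra.TensorProduct.assoc k k k P B A).symm.injective
  rw [assoc_symm_lTensor_delta, hz, sub_self, map_zero]

end Flat

end Groth.Agent.Lib.TensorComod55
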