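import Mathlib.Algebra.Homology.Monoidal
import Mathlib.Algebra.Homology.Refinements
import Mathlib.Algebra.Category.ModuleCat.Monoidal.Basic
import Mathlib.Algebra.Category.ModuleCat.Abelian
import Mathlib.Algebra.Homology.QuasiIso
import Mathlib.Algebra.Homology.Single
import Mathlib.Algebra.Category.ModuleCat.Colimits

/-!
# Elementwise tools for tensor products of chain complexes of modules (helper35)

* `epi_homologyMap_of_elementwise`, `mono_homologyMap_of_elementwise`: elementwise criteria for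
  the map induced on homology by a morphism of complexes of modules to be epi / mono.
* For `K L : ChainComplex (ModuleCat R) ℕ`: the summand inclusions `ι K L i j n h`, projections
  `pr K L i j n h`, the fact that the images of the `ι` span, and formulas for the differential
  and for `K ◁ f` on summands.
-/

set_option autoImplicit false

universe v u

namespace Groth.Agent.Lib.TensorCx35

open CategoryTheory Category Limits MonoidalCategory HomologicalComplex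

section criteria

variable {R : Type u} [Ring R] {ι : Type*} {c : ComplexShape ι}
  {K L : HomologicalComplex (ModuleCat.{v} R) c} (φ : K ⟶ L)

lemma epi_homologyMap_of_elementwise (i j k : ι) (hi : c.prev j = i) (hk : c.next j = k)
    (H : ∀ y : L.X j, L.d j k y = 0 →
      ∃ x : K.X j, K.d j k x = 0 ∧ ∃ w : L.X i, y = φ.f j x + L.d i j w) :
    Epi (homologyMap φ j) := by
  rw [epi_homologyMap_iff_up_to_refinements φ i j k hi hk]
  intro A y₂ hy₂
  let S : Submodule R (A × K.X j × L.X i) :=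
    { carrier := {t | K.d j k t.2.1 = 0 ∧ y₂ t.1 = φ.f j t.2.1 + L.d i j t.2.2}
      add_mem' := by
        rintro ⟨a, x, w⟩ ⟨a', x', w'⟩ ⟨h1, h2⟩ ⟨h1', h2'⟩
        refine ⟨?_, ?_⟩
        · simp only [Prod.snd_add, Prod.fst_add, map_add] at *
          rw [h1, h1', add_zero]
        · simp only [Prod.snd_add, Prod.fst_add, map_add] at *
          rw [h2, h2']; abel
      zero_mem' := by simp
      smul_mem' := by
        rintro r ⟨a, x, w⟩ ⟨h1, h2⟩
        refine ⟨?_, ?_⟩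
        · simp only [Prod.smul_snd, Prod.smul_fst, map_smul] at *
          rw [h1, smul_zero]
        · simp only [Prod.smul_snd, Prod.smul_fst, map_smul] at *
          rw [h2, smul_add] }
  let π : ModuleCat.of R S ⟶ A := ModuleCat.ofHom ((LinearMap.fst R _ _).comp S.subtype)
  have hπ : Epi π := by
    rw [ModuleCat.epi_iff_surjective]
    intro a
    obtain ⟨x, hx, w, hw⟩ := H (y₂ a) (by
      have := congrArg (fun f => f a) (congrArg (fun f => (f.hom : _ → _)) hy₂)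
      simpa using this)
    exact ⟨⟨(a, x, w), hx, hw⟩, rfl⟩
  refine ⟨ModuleCat.of R S, π, hπ,
    ModuleCat.ofHom (((LinearMap.fst R _ _).comp (LinearMap.snd R _ _)).comp S.subtype), ?_,
    ModuleCat.ofHom (((LinearMap.snd R _ _).comp (LinearMap.snd R _ _)).comp S.subtype), ?_⟩
  · ext ⟨⟨a, x, w⟩, h1, h2⟩
    exact h1
  · ext ⟨⟨a, x, w⟩, h1, h2⟩
    exact h2

lemma mono_homologyMap_of_elementwise (i j k : ι) (hi : c.prev j = i) (hk : c.next j = k)
    (H : ∀ x : K.X j, K.d j k x = 0 → (∃ w : L.X i, φ.f j x = L.d i j w) →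
      ∃ x₁ : K.X i, x = K.d i j x₁) :
    Mono (homologyMap φ j) := by
  rw [mono_homologyMap_iff_up_to_refinements φ i j k hi hk]
  intro A x₂ hx₂ y₁ hy₁
  let S : Submodule R (A × K.X i) :=
    { carrier := {t | x₂ t.1 = K.d i j t.2}
      add_mem' := by
        rintro ⟨a, x⟩ ⟨a', x'⟩ h1 h1'
        simp only [Set.mem_ofPred_eq, Prod.fst_add, Prod.snd_add, map_add] at *
        rw [h1, h1']
      zero_mem' := by simp
      smul_mem' := by
        rintro r ⟨a, x⟩ h1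
        simp only [Set.mem_ofPred_eq, Prod.smul_fst, Prod.smul_snd, map_smul] at *
        rw [h1] }
  let π : ModuleCat.of R S ⟶ A := ModuleCat.ofHom ((LinearMap.fst R _ _).comp S.subtype)
  have hπ : Epi π := by
    rw [ModuleCat.epi_iff_surjective]
    intro a
    obtain ⟨x₁, hx₁⟩ := H (x₂ a) (by
      have := congrArg (fun f => f a) (congrArg (fun f => (f.hom : _ → _)) hx₂)
      simpa using this) ⟨y₁ a, by
      have := congrArg (fun f => f a) (congrArg (fun f => (f.hom : _ → _)) hy₁)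
      simpa using this⟩
    exact ⟨⟨(a, x₁), hx₁⟩, rfl⟩
  refine ⟨ModuleCat.of R S, π, hπ,
    ModuleCat.ofHom ((LinearMap.snd R _ _).comp S.subtype), ?_⟩
  ext ⟨⟨a, x⟩, h1⟩
  exact h1

end criteria


section tensor

variable {R : Type v} [CommRing R] (K L : ChainComplex (ModuleCat.{v} R) ℕ)

/-- The inclusion of the summand `K_i ⊗ L_j` in `(K ⊗ L)_n`. -/
noncomputable abbrev ι (i j n : ℕ) (h : i + j = n) : K.X i ⊗ L.X j ⟶ (K ⊗ L).X n :=
  ιTensorObj K L i j n h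

lemma iSup_range_ι (n : ℕ) :
    (⨆ (i : ℕ) (j : ℕ) (h : i + j = n), LinearMap.range (ι K L i j n h).hom) = ⊤ := by
  set N := ⨆ (i : ℕ) (j : ℕ) (h : i + j = n), LinearMap.range (ι K L i j n h).hom with hN
  let q : (K ⊗ L).X n ⟶ ModuleCat.of R (((K ⊗ L).X n) ⧸ N) := ModuleCat.ofHom N.mkQ
  have hq : q = 0 := by
    apply mapBifunctor.hom_ext
    intro i j h
    rw [comp_zero]
    ext x
    change N.mkQ ((ι K L i j n h).hom x) = 0
    rw [Submodule.mkQ_apply, Submodule.Quotient.mk_eq_zero]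
    refine Submodule.mem_iSup_of_mem i (Submodule.mem_iSup_of_mem j
      (Submodule.mem_iSup_of_mem h ⟨x, rfl⟩))
  rw [eq_top_iff]
  intro x _
  have h1 : N.mkQ x = 0 := congrArg (fun f => f.hom x) hq
  rwa [Submodule.mkQ_apply, Submodule.Quotient.mk_eq_zero] at h1

/-- The projection `(K ⊗ L)_n ⟶ K_i ⊗ L_j`. -/
noncomputable def pr (i j n : ℕ) (h : i + j = n) : (K ⊗ L).X n ⟶ K.X i ⊗ L.X j :=
  mapBifunctorDesc (K₁ := K) (K₂ := L) (F := curriedTensor (ModuleCat.{v} R))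
    (c := ComplexShape.down ℕ) (j := n)
    (fun i' j' _ => if hh : i' = i ∧ j' = j then eqToHom (by rw [hh.1, hh.2]; rfl) else 0)

@[reassoc (attr := simp)]
lemma ι_pr_self (i j n : ℕ) (h : i + j = n) : ι K L i j n h ≫ pr K L i j n h = 𝟙 _ := by
  dsimp [ι, pr, ιTensorObj]
  rw [ι_mapBifunctorDesc, dif_pos ⟨rfl, rfl⟩]
  rfl

@[reassoc]
lemma ι_pr_ne (i j i' j' n : ℕ) (h : i + j = n) (h' : i' + j' = n) (hne : ¬ (i' = i ∧ j' = j)) :
    ι K L i' j' n h' ≫ pr K L i j n h = 0 := by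
  dsimp [ι, pr, ιTensorObj]
  rw [ι_mapBifunctorDesc, dif_neg hne]

lemma ι_d (i j n n' : ℕ) (h : i + j = n) :
    ι K L i j n h ≫ (K ⊗ L).d n n' =
      mapBifunctor.d₁ K L (curriedTensor (ModuleCat.{v} R)) (ComplexShape.down ℕ) i j n' +
      mapBifunctor.d₂ K L (curriedTensor (ModuleCat.{v} R)) (ComplexShape.down ℕ) i j n' := by
  change ιMapBifunctor K L _ _ i j n h ≫ (mapBifunctor K L _ _).d n n' = _
  rw [mapBifunctor.d_eq, Preadditive.comp_add, mapBifunctor.ι_D₁, mapBifunctor.ι_D₂]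

lemma d₁_succ (i j n' : ℕ) (h' : i + j = n') :
    mapBifunctor.d₁ K L (curriedTensor (ModuleCat.{v} R)) (ComplexShape.down ℕ) (i + 1) j n' =
      (K.d (i + 1) i ▷ L.X j) ≫ ι K L i j n' h' := by
  rw [mapBifunctor.d₁_eq K L _ _ (show (ComplexShape.down ℕ).Rel (i + 1) i from rfl) j n' h']
  change (1 : ℤˣ) • _ = _
  rw [one_smul]
  rfl

lemma d₁_zero (j n' : ℕ) :
    mapBifunctor.d₁ K L (curriedTensor (ModuleCat.{v} R)) (ComplexShape.down ℕ) 0 j n' = 0 := by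
  apply mapBifunctor.d₁_eq_zero
  rw [ChainComplex.next_nat_zero]
  intro h
  exact absurd h (by simp [ComplexShape.down_Rel])

lemma d₂_succ (i j n' : ℕ) (h' : i + j = n') :
    mapBifunctor.d₂ K L (curriedTensor (ModuleCat.{v} R)) (ComplexShape.down ℕ) i (j + 1) n' =
      ((-1 : ℤˣ) ^ i) • ((K.X i ◁ L.d (j + 1) j) ≫ ι K L i j n' h') := by
  rw [mapBifunctor.d₂_eq K L _ _ i (show (ComplexShape.down ℕ).Rel (j + 1) j from rfl) n' h']
  rfl

lemma d₂_zero (i n' : ℕ) :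
    mapBifunctor.d₂ K L (curriedTensor (ModuleCat.{v} R)) (ComplexShape.down ℕ) i 0 n' = 0 := by
  apply mapBifunctor.d₂_eq_zero
  rw [ChainComplex.next_nat_zero]
  intro h
  exact absurd h (by simp [ComplexShape.down_Rel])

variable {L} in
lemma ι_whiskerLeft {L' : ChainComplex (ModuleCat.{v} R) ℕ} (f : L ⟶ L') (i j n : ℕ)
    (h : i + j = n) :
    ι K L i j n h ≫ (K ◁ f).f n = (K.X i ◁ f.f j) ≫ ι K L' i j n h := by
  change ιMapBifunctor K L _ _ i j n h ≫ (mapBifunctorMap (𝟙 K) f _ _).f n = _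
  rw [ι_mapBifunctorMap]
  dsimp
  simp

end tensor


section lowdegree

variable {R : Type v} [CommRing R] (K L : ChainComplex (ModuleCat.{v} R) ℕ)

/-! ### Differentials on summands in low degrees -/

lemma ι10_d : ι K L 1 0 1 rfl ≫ (K ⊗ L).d 1 0 = (K.d 1 0 ▷ L.X 0) ≫ ι K L 0 0 0 rfl := by
  rw [ι_d, d₂_zero, add_zero]
  exact d₁_succ K L 0 0 0 rfl

lemma ι01_d : ι K L 0 1 1 rfl ≫ (K ⊗ L).d 1 0 = (K.X 0 ◁ L.d 1 0) ≫ ι K L 0 0 0 rfl := by
  rw [ι_d, d₁_zero, zero_add]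
  have := d₂_succ K L 0 0 0 rfl
  rw [pow_zero, one_smul] at this
  exact this

lemma ι20_d : ι K L 2 0 2 rfl ≫ (K ⊗ L).d 2 1 = (K.d 2 1 ▷ L.X 0) ≫ ι K L 1 0 1 rfl := by
  rw [ι_d, d₂_zero, add_zero]
  exact d₁_succ K L 1 0 1 rfl

lemma ι02_d : ι K L 0 2 2 rfl ≫ (K ⊗ L).d 2 1 = (K.X 0 ◁ L.d 2 1) ≫ ι K L 0 1 1 rfl := by
  rw [ι_d, d₁_zero, zero_add]
  have := d₂_succ K L 0 1 1 rfl
  rw [pow_zero, one_smul] at this
  exact this

lemma ι11_d : ι K L 1 1 2 rfl ≫ (K ⊗ L).d 2 1 =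
    (K.d 1 0 ▷ L.X 1) ≫ ι K L 0 1 1 rfl - (K.X 1 ◁ L.d 1 0) ≫ ι K L 1 0 1 rfl := by
  rw [ι_d]
  have h1 := d₁_succ K L 0 1 1 rfl
  have h2 := d₂_succ K L 1 0 1 rfl
  rw [pow_one, Units.neg_smul, one_smul] at h2
  rw [show mapBifunctor.d₁ K L (curriedTensor (ModuleCat.{v} R)) (ComplexShape.down ℕ) 1 1 1 = _
    from h1, show mapBifunctor.d₂ K L (curriedTensor (ModuleCat.{v} R)) (ComplexShape.down ℕ) 1 1 1
    = _ from h2, sub_eq_add_neg]

/-! ### Decomposition of elements in low degrees -/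

lemma dec0 (x : (K ⊗ L).X 0) : ∃ a : (K.X 0 ⊗ L.X 0 : ModuleCat.{v} R), x = ι K L 0 0 0 rfl a := by
  have hx : x ∈ (⊤ : Submodule R ((K ⊗ L).X 0)) := Submodule.mem_top
  rw [← iSup_range_ι K L 0] at hx
  have hle : (⨆ (i : ℕ) (j : ℕ) (h : i + j = 0), LinearMap.range (ι K L i j 0 h).hom) ≤
      LinearMap.range (ι K L 0 0 0 rfl).hom := by
    refine iSup_le fun i => iSup_le fun j => iSup_le fun h => ?_
    obtain ⟨rfl, rfl⟩ : i = 0 ∧ j = 0 := by omega
    exact le_rfl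
  obtain ⟨a, ha⟩ := hle hx
  exact ⟨a, ha.symm⟩

lemma dec1 (x : (K ⊗ L).X 1) : ∃ (a : (K.X 1 ⊗ L.X 0 : ModuleCat.{v} R))
    (b : (K.X 0 ⊗ L.X 1 : ModuleCat.{v} R)), x = ι K L 1 0 1 rfl a + ι K L 0 1 1 rfl b := by
  have hx : x ∈ (⊤ : Submodule R ((K ⊗ L).X 1)) := Submodule.mem_top
  rw [← iSup_range_ι K L 1] at hx
  have hle : (⨆ (i : ℕ) (j : ℕ) (h : i + j = 1), LinearMap.range (ι K L i j 1 h).hom) ≤
      LinearMap.range (ι K L 1 0 1 rfl).hom ⊔ LinearMap.range (ι K L 0 1 1 rfl).hom := by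
    refine iSup_le fun i => iSup_le fun j => iSup_le fun h => ?_
    obtain ⟨rfl, rfl⟩ | ⟨rfl, rfl⟩ : (i = 1 ∧ j = 0) ∨ (i = 0 ∧ j = 1) := by omega
    · exact le_sup_left
    · exact le_sup_right
  obtain ⟨_, ⟨a, rfl⟩, _, ⟨b, rfl⟩, hab⟩ := Submodule.mem_sup.1 (hle hx)
  exact ⟨a, b, hab.symm⟩

lemma dec2 (x : (K ⊗ L).X 2) : ∃ (c : (K.X 2 ⊗ L.X 0 : ModuleCat.{v} R))
    (e : (K.X 1 ⊗ L.X 1 : ModuleCat.{v} R)) (f : (K.X 0 ⊗ L.X 2 : ModuleCat.{v} R)),
    x = ι K L 2 0 2 rfl c + ι K L 1 1 2 rfl e + ι K L 0 2 2 rfl f := by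
  have hx : x ∈ (⊤ : Submodule R ((K ⊗ L).X 2)) := Submodule.mem_top
  rw [← iSup_range_ι K L 2] at hx
  have hle : (⨆ (i : ℕ) (j : ℕ) (h : i + j = 2), LinearMap.range (ι K L i j 2 h).hom) ≤
      (LinearMap.range (ι K L 2 0 2 rfl).hom ⊔ LinearMap.range (ι K L 1 1 2 rfl).hom) ⊔
        LinearMap.range (ι K L 0 2 2 rfl).hom := by
    refine iSup_le fun i => iSup_le fun j => iSup_le fun h => ?_
    obtain ⟨rfl, rfl⟩ | ⟨rfl, rfl⟩ | ⟨rfl, rfl⟩ :
      (i = 2 ∧ j = 0) ∨ (i = 1 ∧ j = 1) ∨ (i = 0 ∧ j = 2) := by omega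
    · exact le_sup_of_le_left le_sup_left
    · exact le_sup_of_le_left le_sup_right
    · exact le_sup_right
  obtain ⟨_, h12, _, ⟨f, rfl⟩, hab⟩ := Submodule.mem_sup.1 (hle hx)
  obtain ⟨_, ⟨c, rfl⟩, _, ⟨e, rfl⟩, hce⟩ := Submodule.mem_sup.1 h12
  exact ⟨c, e, f, by rw [← hab, ← hce]⟩

/-! ### Injectivity of the summand inclusions -/

lemma ι_injective (i j n : ℕ) (h : i + j = n) : Function.Injective (ι K L i j n h) := by
  intro x y hxy
  have := congrArg (pr K L i j n h) hxy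
  have e : ∀ z, pr K L i j n h (ι K L i j n h z) = z := fun z =>
    congrArg (fun f => f.hom z) (ι_pr_self K L i j n h)
  rwa [e, e] at this

lemma ι_pr_ne_apply (i j i' j' n : ℕ) (h : i + j = n) (h' : i' + j' = n)
    (hne : ¬ (i' = i ∧ j' = j)) (z : (K.X i' ⊗ L.X j' : ModuleCat.{v} R)) :
    pr K L i j n h (ι K L i' j' n h' z) = 0 :=
  congrArg (fun f => f.hom z) (ι_pr_ne K L i j i' j' n h h' hne)

lemma ι_pr_self_apply (i j n : ℕ) (h : i + j = n) (z : (K.X i ⊗ L.X j : ModuleCat.{v} R)) :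
    pr K L i j n h (ι K L i j n h z) = z :=
  congrArg (fun f => f.hom z) (ι_pr_self K L i j n h)

end lowdegree


section apply

variable {R : Type v} [CommRing R] (K L : ChainComplex (ModuleCat.{v} R) ℕ)

lemma ι10_d_apply (a : (K.X 1 ⊗ L.X 0 : ModuleCat.{v} R)) :
    (K ⊗ L).d 1 0 (ι K L 1 0 1 rfl a) = ι K L 0 0 0 rfl ((K.d 1 0 ▷ L.X 0) a) :=
  congrArg (fun f => f.hom a) (ι10_d K L)

lemma ι01_d_apply (b : (K.X 0 ⊗ L.X 1 : ModuleCat.{v} R)) :
    (K ⊗ L).d 1 0 (ι K L 0 1 1 rfl b) = ι K L 0 0 0 rfl ((K.X 0 ◁ L.d 1 0) b) :=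
  congrArg (fun f => f.hom b) (ι01_d K L)

lemma ι20_d_apply (c : (K.X 2 ⊗ L.X 0 : ModuleCat.{v} R)) :
    (K ⊗ L).d 2 1 (ι K L 2 0 2 rfl c) = ι K L 1 0 1 rfl ((K.d 2 1 ▷ L.X 0) c) :=
  congrArg (fun f => f.hom c) (ι20_d K L)

lemma ι02_d_apply (f : (K.X 0 ⊗ L.X 2 : ModuleCat.{v} R)) :
    (K ⊗ L).d 2 1 (ι K L 0 2 2 rfl f) = ι K L 0 1 1 rfl ((K.X 0 ◁ L.d 2 1) f) :=
  congrArg (fun g => g.hom f) (ι02_d K L)

lemma ι11_d_apply (e : (K.X 1 ⊗ L.X 1 : ModuleCat.{v} R)) :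
    (K ⊗ L).d 2 1 (ι K L 1 1 2 rfl e) =
      ι K L 0 1 1 rfl ((K.d 1 0 ▷ L.X 1) e) - ι K L 1 0 1 rfl ((K.X 1 ◁ L.d 1 0) e) :=
  congrArg (fun f => f.hom e) (ι11_d K L)

variable {L} in
lemma ι_whiskerLeft_apply {L' : ChainComplex (ModuleCat.{v} R) ℕ} (f : L ⟶ L') (i j n : ℕ)
    (h : i + j = n) (x : (K.X i ⊗ L.X j : ModuleCat.{v} R)) :
    (K ◁ f).f n (ι K L i j n h x) = ι K L' i j n h ((K.X i ◁ f.f j) x) :=
  congrArg (fun g => g.hom x) (ι_whiskerLeft K f i j n h)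

lemma whisker_exchange_apply {W X Y Z : ModuleCat.{v} R} (f : W ⟶ X) (g : Y ⟶ Z)
    (x : (W ⊗ Y : ModuleCat.{v} R)) :
    (f ▷ Z) ((W ◁ g) x) = (X ◁ g) ((f ▷ Y) x) :=
  congrArg (fun h => h.hom x) (whisker_exchange f g)

lemma eq_zero_of_isZero_right (X Z : ModuleCat.{v} R) (hZ : IsZero Z)
    (x : (X ⊗ Z : ModuleCat.{v} R)) : x = 0 := by
  haveI : Subsingleton Z := ModuleCat.subsingleton_of_isZero hZ
  have key : ∀ y : TensorProduct R X Z, y = 0 := by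
    intro y
    induction y using TensorProduct.induction_on with
    | zero => rfl
    | tmul m n => rw [Subsingleton.elim n 0, TensorProduct.tmul_zero]
    | add a b ha hb => rw [ha, hb, add_zero]
  exact key x

end apply

end Groth.Agent.Lib.TensorCx35
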