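import Groth.Agent.Lib.PurInsepTensorLength
import Groth.Agent.Lib.SmoothOmega6
import Groth.Agent.Lib.MacLane5H44
import Groth.Agent.Lib.H30GeomNormalPt
import Mathlib

/-!
# Multiplicities of the components of `K ⊗[k] L` are powers of the characteristic exponent (helper37)

* `isField_localization_of_minimal`: reduced ring localized at a minimal prime is a field.
* `tensorAlg`, `isLocalization_tensor`: `B ⊗[R] S` is the localization of `A ⊗[R] S` when `B` is a
  localization of `A`.
* `exists_length_eq_pow_of_ringEquiv`: transport of the statement along a ring isomorphism.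
* `exists_length_eq_pow_of_reduced`: `A₁` reduced `E`-algebra, `L/E` finite purely inseparable:
  lengths of `A₁ ⊗[E] L` at minimal primes are powers of `p`.
* `exists_sep_subfield`: a finitely generated field extension `L/k` contains `E` with `E ⊗[k] K`
  reduced for every field `K`, and `L/E` finite purely inseparable.
* `main`: `K ⊗[k] L`.
-/

set_option autoImplicit false
universe u
open TensorProduct

namespace Groth.Agent.Lib.TensorFieldLength37

open Groth.Agent.Lib.PurInsepTensorLength

section Field

theorem isField_localization_of_minimal {R : Type*} [CommRing R] [IsReduced R] (P : Ideal R)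
    [P.IsPrime] (hP : P ∈ minimalPrimes R) : IsField (Localization.AtPrime P) := by
  haveI : IsReduced (Localization.AtPrime P) :=
    isReduced_localizationPreserves P.primeCompl _ inferInstance
  rw [IsLocalRing.isField_iff_maximalIdeal_eq]
  have hnil : nilradical (Localization.AtPrime P) = ⊥ := nilradical_eq_zero _
  rw [eq_bot_iff, ← hnil, nilradical_eq_sInf, le_sInf_iff]
  intro J hJ
  have hJ' : J.IsPrime := hJ
  have h1 : J.under R ≤ P :=
    calc J.under R ≤ (IsLocalRing.maximalIdeal (Localization.AtPrime P)).under R :=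
          Ideal.comap_mono (IsLocalRing.le_maximalIdeal hJ'.ne_top)
      _ = P := Localization.AtPrime.under_maximalIdeal
  have h2 : P ≤ J.under R := hP.2 ⟨inferInstance, bot_le⟩ h1
  rw [← Localization.AtPrime.map_eq_maximalIdeal]
  calc P.map (algebraMap R (Localization.AtPrime P))
      ≤ (J.under R).map (algebraMap R (Localization.AtPrime P)) := Ideal.map_mono h2
    _ = J := IsLocalization.map_under P.primeCompl _ J

end Field

section TensorLoc

variable (R : Type*) [CommRing R] (A : Type*) [CommRing A] [Algebra R A]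
  (B : Type*) [CommRing B] [Algebra R B] [Algebra A B] [IsScalarTower R A B]
  (S : Type*) [CommRing S] [Algebra R S]

/-- the `A ⊗[R] S`-algebra structure on `B ⊗[R] S` -/
noncomputable abbrev tensorAlg : Algebra (A ⊗[R] S) (B ⊗[R] S) :=
  (Algebra.TensorProduct.map (IsScalarTower.toAlgHom R A B) (AlgHom.id R S)).toRingHom.toAlgebra

theorem tensorAlg_algebraMap_tmul (a : A) (s : S) :
    letI := tensorAlg R A B S
    algebraMap (A ⊗[R] S) (B ⊗[R] S) (a ⊗ₜ s) = algebraMap A B a ⊗ₜ s := rfl

theorem isLocalization_tensor (M : Submonoid A) [IsLocalization M B] :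
    letI := tensorAlg R A B S
    IsLocalization (Algebra.algebraMapSubmonoid (A ⊗[R] S) M) (B ⊗[R] S) := by
  letI := tensorAlg R A B S
  haveI : IsScalarTower A (A ⊗[R] S) (B ⊗[R] S) := by
    apply IsScalarTower.of_algebraMap_eq
    intro a
    rfl
  apply IsLocalization.tensorProduct_tensorProduct R S M B
  ext s
  show (algebraMap A B 1) ⊗ₜ[R] s = (1 : B) ⊗ₜ[R] s
  rw [map_one]

end TensorLoc

section Transport

theorem exists_length_eq_pow_of_ringEquiv {A A' : Type*} [CommRing A] [CommRing A'] (e : A ≃+* A')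
    (p : ℕ)
    (H : ∀ (q' : Ideal A') [q'.IsPrime], q' ∈ minimalPrimes A' →
      ∃ n : ℕ, Module.length (Localization.AtPrime q') (Localization.AtPrime q') = (p ^ n : ℕ))
    (q : Ideal A) [q.IsPrime] (hq : q ∈ minimalPrimes A) :
    ∃ n : ℕ, Module.length (Localization.AtPrime q) (Localization.AtPrime q) = (p ^ n : ℕ) := by
  let q' : Ideal A' := q.comap e.symm.toRingHom
  haveI : q'.IsPrime := Ideal.comap_isPrime _ _
  have hq' : q' ∈ minimalPrimes A' := by
    refine ⟨⟨inferInstance, bot_le⟩, ?_⟩
    rintro P ⟨hP, -⟩ hPle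
    haveI := hP
    have h1 : P.comap e.toRingHom ≤ q := by
      intro x hx
      have : e x ∈ q' := hPle hx
      change e.symm (e x) ∈ q at this
      rwa [RingEquiv.symm_apply_apply] at this
    have h2 : q ≤ P.comap e.toRingHom := hq.2 ⟨Ideal.comap_isPrime _ _, bot_le⟩ h1
    intro y hy
    have := h2 hy
    change e (e.symm y) ∈ P at this
    rwa [RingEquiv.apply_symm_apply] at this
  obtain ⟨n, hn⟩ := H q' hq'
  refine ⟨n, ?_⟩
  rw [← hn]
  have hmap : q.primeCompl.map e.toMonoidHom = q'.primeCompl := by
    ext y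
    simp only [Submonoid.mem_map, Ideal.mem_primeCompl_iff]
    constructor
    · rintro ⟨x, hx, rfl⟩
      intro h
      apply hx
      change e.symm (e x) ∈ q at h
      rwa [RingEquiv.symm_apply_apply] at h
    · intro h
      refine ⟨e.symm y, ?_, e.apply_symm_apply y⟩
      intro h'
      exact h h'
  exact length_self_eq_of_ringEquiv
    (IsLocalization.ringEquivOfRingEquiv (Localization.AtPrime q) (Localization.AtPrime q') e hmap)

end Transport

section Reduced

variable {E L : Type u} [Field E] [Field L] [Algebra E L] [IsPurelyInseparable E L]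
  [FiniteDimensional E L]

theorem exists_length_eq_pow_of_reduced (p : ℕ) [ExpChar E p]
    (A₁ : Type u) [CommRing A₁] [Algebra E A₁] [IsReduced A₁]
    (q : Ideal (A₁ ⊗[E] L)) [q.IsPrime] (hq : q ∈ minimalPrimes (A₁ ⊗[E] L)) :
    ∃ n : ℕ, Module.length (Localization.AtPrime q) (Localization.AtPrime q) = (p ^ n : ℕ) := by
  obtain ⟨q₁, hq₁def⟩ : ∃ q₁ : Ideal A₁, q₁ = q.under A₁ := ⟨_, rfl⟩
  have hq₁min : q₁ ∈ minimalPrimes A₁ := by
    rw [hq₁def]
    exact Groth.Agent.Lib.SmoothOmega6.under_mem_minimalPrimes_of_flat q hq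
  haveI hq₁prime : q₁.IsPrime := hq₁min.1.1
  have hF : IsField (Localization.AtPrime q₁) := isField_localization_of_minimal q₁ hq₁min
  letI : Field (Localization.AtPrime q₁) := hF.toField
  letI := tensorAlg E A₁ (Localization.AtPrime q₁) L
  haveI hloc : IsLocalization (Algebra.algebraMapSubmonoid (A₁ ⊗[E] L) q₁.primeCompl)
      (Localization.AtPrime q₁ ⊗[E] L) :=
    isLocalization_tensor E A₁ (Localization.AtPrime q₁) L q₁.primeCompl
  have hdisj : Disjoint
      ((Algebra.algebraMapSubmonoid (A₁ ⊗[E] L) q₁.primeCompl : Submonoid (A₁ ⊗[E] L)) :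
        Set (A₁ ⊗[E] L)) (q : Set (A₁ ⊗[E] L)) := by
    rw [Set.disjoint_left]
    rintro _ ⟨a, ha, rfl⟩ hx
    apply ha
    rw [hq₁def]
    exact hx
  haveI : IsLocalRing (Localization.AtPrime q₁ ⊗[E] L) :=
    isLocalRing_tensor (Localization.AtPrime q₁) L
  haveI hprime : (q.map (algebraMap (A₁ ⊗[E] L) (Localization.AtPrime q₁ ⊗[E] L))).IsPrime :=
    IsLocalization.isPrime_of_isPrime_disjoint _ _ q inferInstance hdisj
  have hmax : q.map (algebraMap (A₁ ⊗[E] L) (Localization.AtPrime q₁ ⊗[E] L)) =
      IsLocalRing.maximalIdeal (Localization.AtPrime q₁ ⊗[E] L) :=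
    eq_maximalIdeal_of_isPrime (Localization.AtPrime q₁) L _
  have hunder : (IsLocalRing.maximalIdeal (Localization.AtPrime q₁ ⊗[E] L)).comap
      (algebraMap (A₁ ⊗[E] L) (Localization.AtPrime q₁ ⊗[E] L)) = q := by
    rw [← hmax]
    exact IsLocalization.under_map_of_isPrime_disjoint _ _ inferInstance hdisj
  haveI hself : IsLocalization.AtPrime (Localization.AtPrime q₁ ⊗[E] L)
      (IsLocalRing.maximalIdeal (Localization.AtPrime q₁ ⊗[E] L)) := by
    apply IsLocalization.of_le_isUnit
    intro x hx
    exact IsLocalRing.notMem_maximalIdeal.mp hx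
  have hat := IsLocalization.isLocalization_isLocalization_atPrime_isLocalization
    (Algebra.algebraMapSubmonoid (A₁ ⊗[E] L) q₁.primeCompl) (Localization.AtPrime q₁ ⊗[E] L)
    (IsLocalRing.maximalIdeal (Localization.AtPrime q₁ ⊗[E] L))
  have hcompl : ((IsLocalRing.maximalIdeal (Localization.AtPrime q₁ ⊗[E] L)).comap
      (algebraMap (A₁ ⊗[E] L) (Localization.AtPrime q₁ ⊗[E] L))).primeCompl = q.primeCompl := by
    ext x
    simp only [Ideal.mem_primeCompl_iff]
    rw [hunder]
  haveI hatq : IsLocalization q.primeCompl (Localization.AtPrime q₁ ⊗[E] L) := by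
    rw [← hcompl]
    exact hat
  have e := IsLocalization.algEquiv q.primeCompl (Localization.AtPrime q)
    (Localization.AtPrime q₁ ⊗[E] L)
  rw [length_self_eq_of_ringEquiv e.toRingEquiv]
  haveI : Module.Finite (Localization.AtPrime q₁) (Localization.AtPrime q₁ ⊗[E] L) :=
    inferInstance
  haveI : IsNoetherian (Localization.AtPrime q₁) (Localization.AtPrime q₁ ⊗[E] L) :=
    inferInstance
  haveI : IsNoetherianRing (Localization.AtPrime q₁ ⊗[E] L) :=
    isNoetherian_of_tower (Localization.AtPrime q₁) inferInstance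
  exact exists_length_eq_pow (Localization.AtPrime q₁) L p

end Reduced

section Sep

open scoped IntermediateField.algebraAdjoinAdjoin

variable (k : Type u) {L : Type u} [Field k] [Field L] [Algebra k L]

theorem isReduced_adjoin_tensor {ι : Type u} {x : ι → L} (hx : AlgebraicIndependent k x)
    (K : Type u) [Field K] [Algebra k K] :
    IsReduced (IntermediateField.adjoin k (Set.range x) ⊗[k] K) := by
  let φ : (Algebra.adjoin k (Set.range x) ⊗[k] K) ≃ₐ[k] MvPolynomial ι K :=
    (Algebra.TensorProduct.congr hx.aevalEquiv.symm AlgEquiv.refl).trans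
      ((Algebra.TensorProduct.comm k (MvPolynomial ι k) K).trans
        ((MvPolynomial.algebraTensorAlgEquiv k K).restrictScalars k))
  haveI : IsReduced (Algebra.adjoin k (Set.range x) ⊗[k] K) :=
    isReduced_of_injective φ.toRingHom φ.injective
  letI := tensorAlg k (Algebra.adjoin k (Set.range x))
    (IntermediateField.adjoin k (Set.range x)) K
  haveI := isLocalization_tensor k (Algebra.adjoin k (Set.range x))
    (IntermediateField.adjoin k (Set.range x)) K (nonZeroDivisors (Algebra.adjoin k (Set.range x)))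
  exact isReduced_localizationPreserves (Algebra.algebraMapSubmonoid
    (Algebra.adjoin k (Set.range x) ⊗[k] K) (nonZeroDivisors (Algebra.adjoin k (Set.range x))))
    (IntermediateField.adjoin k (Set.range x) ⊗[k] K) inferInstance

theorem isReduced_tensor_of_sep (k F₀ E₀ K : Type u) [Field k] [Field F₀] [Field E₀] [Field K]
    [Algebra k F₀] [Algebra F₀ E₀] [Algebra k E₀] [IsScalarTower k F₀ E₀] [Algebra k K]
    [Algebra.IsSeparable F₀ E₀] [IsReduced (F₀ ⊗[k] K)] : IsReduced (E₀ ⊗[k] K) := by
  haveI : Algebra.IsGeometricallyReduced F₀ E₀ :=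
    Groth.Agent.Lib.H30GeomNormalPt.isGeometricallyReduced_of_isSeparable F₀ E₀
  haveI : IsReduced (E₀ ⊗[F₀] (F₀ ⊗[k] K)) :=
    Groth.Agent.Lib.MacLane5H44.isReduced_tensor_of_isGeometricallyReduced_field F₀ E₀
      (F₀ ⊗[k] K)
  exact isReduced_of_injective
    (Algebra.TensorProduct.cancelBaseChange k F₀ F₀ E₀ K).symm.toRingHom
    (Algebra.TensorProduct.cancelBaseChange k F₀ F₀ E₀ K).symm.injective

theorem exists_sep_subfield_aux (F₀ : IntermediateField k L) [Algebra.IsAlgebraic F₀ L]
    [Module.Finite F₀ L]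
    (hred : ∀ (K : Type u) [Field K] [Algebra k K], IsReduced (F₀ ⊗[k] K)) :
    ∃ (E : Type u) (_ : Field E) (_ : Algebra k E) (_ : Algebra E L) (_ : IsScalarTower k E L),
      (∀ (K : Type u) [Field K] [Algebra k K], IsReduced (E ⊗[k] K)) ∧
      IsPurelyInseparable E L ∧ FiniteDimensional E L := by
  have htower : IsScalarTower k (separableClosure F₀ L) L := by
    apply IsScalarTower.of_algebraMap_eq
    intro x
    rfl
  refine ⟨separableClosure F₀ L, inferInstance, inferInstance, inferInstance, htower, ?_, ?_, ?_⟩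
  · intro K _ _
    haveI : IsReduced (F₀ ⊗[k] K) := hred K
    exact isReduced_tensor_of_sep k F₀ (separableClosure F₀ L) K
  · exact separableClosure.isPurelyInseparable F₀ L
  · exact Module.Finite.of_restrictScalars_finite F₀ (separableClosure F₀ L) L

theorem exists_sep_subfield (hL : (⊤ : IntermediateField k L).FG) :
    ∃ (E : Type u) (_ : Field E) (_ : Algebra k E) (_ : Algebra E L) (_ : IsScalarTower k E L),
      (∀ (K : Type u) [Field K] [Algebra k K], IsReduced (E ⊗[k] K)) ∧
      IsPurelyInseparable E L ∧ FiniteDimensional E L := by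
  haveI : Algebra.EssFiniteType k L := IntermediateField.fg_top_iff.mp hL
  obtain ⟨s, hs⟩ := exists_isTranscendenceBasis k L
  haveI : Algebra.IsAlgebraic (IntermediateField.adjoin k (Set.range ((↑) : s → L))) L :=
    hs.isAlgebraic_field
  haveI : Algebra.EssFiniteType (IntermediateField.adjoin k (Set.range ((↑) : s → L))) L :=
    Algebra.EssFiniteType.of_comp k _ L
  haveI : Module.Finite (IntermediateField.adjoin k (Set.range ((↑) : s → L))) L :=
    Algebra.finite_of_essFiniteType_of_isAlgebraic
  exact exists_sep_subfield_aux k (IntermediateField.adjoin k (Set.range ((↑) : s → L)))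
    (fun K _ _ => isReduced_adjoin_tensor k hs.1 K)

end Sep

theorem main (k K L : Type u) [Field k] [Field K] [Field L] [Algebra k K] [Algebra k L]
    (hL : (⊤ : IntermediateField k L).FG) (p : ℕ) [ExpChar k p] (q : Ideal (K ⊗[k] L))
    [q.IsPrime] (hq : q ∈ minimalPrimes (K ⊗[k] L)) :
    ∃ n : ℕ, Module.length (Localization.AtPrime q) (Localization.AtPrime q) = (p ^ n : ℕ) := by
  obtain ⟨E, _, _, _, _, hred, hpi, hfin⟩ := exists_sep_subfield k hL
  haveI := hpi
  haveI := hfin
  haveI : ExpChar E p := expChar_of_injective_algebraMap (algebraMap k E).injective p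
  haveI : IsReduced (E ⊗[k] K) := hred K
  let e : (K ⊗[k] L) ≃+* ((E ⊗[k] K) ⊗[E] L) :=
    ((Algebra.TensorProduct.comm k K L).toRingEquiv.trans
      ((Algebra.TensorProduct.cancelBaseChange k E E L K).symm.toRingEquiv)).trans
      (Algebra.TensorProduct.comm E L (E ⊗[k] K)).toRingEquiv
  exact exists_length_eq_pow_of_ringEquiv e p
    (fun q' _ hq' => exists_length_eq_pow_of_reduced p (E ⊗[k] K) q' hq') q hq

end Groth.Agent.Lib.TensorFieldLength37
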