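import Groth.Prelude.Def_FlatCA
import Mathlib.RingTheory.Ideal.MinimalPrime.Localization
import Mathlib.RingTheory.Ideal.AssociatedPrime.Basic
import Mathlib.Algebra.Module.LocalizedModule.Basic
import Mathlib.RingTheory.Localization.AtPrime.Basic
import Mathlib.RingTheory.Ideal.GoingUp

/-!
# Weakly associated primes (helper88)

Basic theory of `FlatCA.weakAss` (primes minimal over the annihilator of an element),
following Stacks 10.66.
-/

set_option autoImplicit false
set_option linter.unusedSectionVars false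
universe u v w

namespace Groth.Agent.Lib.WeakAss

open FlatCA

section Basic

variable {R : Type u} [CommRing R] {M : Type v} [AddCommGroup M] [Module R M]

/-- The annihilator of an element. -/
abbrev annOf (R : Type u) [CommRing R] {M : Type v} [AddCommGroup M] [Module R M] (m : M) :
    Ideal R :=
  (Submodule.span R {m}).annihilator

theorem mem_annOf {m : M} {a : R} : a ∈ annOf R m ↔ a • m = 0 :=
  Submodule.mem_annihilator_span_singleton m a

theorem mem_weakAss_iff {p : Ideal R} :
    p ∈ weakAss R M ↔ ∃ m : M, p ∈ (annOf R m).minimalPrimes := Iff.rfl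

theorem isPrime_of_mem_weakAss {p : Ideal R} (h : p ∈ weakAss R M) : p.IsPrime := by
  obtain ⟨m, hm⟩ := h
  exact hm.isPrime

theorem annOf_eq_top_iff {m : M} : annOf R m = ⊤ ↔ m = 0 := by
  rw [Ideal.eq_top_iff_one, mem_annOf, one_smul]

theorem annOf_le_of_mem_weakAss_elem {p : Ideal R} {m : M}
    (h : p ∈ (annOf R m).minimalPrimes) : annOf R m ≤ p := h.le

theorem exists_mem_weakAss_of_ne_zero {m : M} (hm : m ≠ 0) :
    ∃ p ∈ weakAss R M, annOf R m ≤ p := by
  have hne : annOf R m ≠ ⊤ := fun h => hm (annOf_eq_top_iff.mp h)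
  obtain ⟨⟨p, hp⟩⟩ := Ideal.nonempty_minimalPrimes hne
  exact ⟨p, ⟨m, hp⟩, hp.le⟩

theorem exists_mem_weakAss_of_le {m : M} {q : Ideal R} [q.IsPrime] (h : annOf R m ≤ q) :
    ∃ p ∈ weakAss R M, annOf R m ≤ p ∧ p ≤ q := by
  obtain ⟨p, hp, hpq⟩ := Ideal.exists_minimalPrimes_le h
  exact ⟨p, ⟨m, hp⟩, hp.le, hpq⟩

/-- Stacks 10.66.5 : `WeakAss M = ∅ ↔ M = 0`. -/
theorem weakAss_eq_empty_iff : weakAss R M = ∅ ↔ Subsingleton M := by
  constructor
  · intro h
    refine ⟨fun a b => ?_⟩
    by_contra hab
    have : a - b ≠ 0 := sub_ne_zero.mpr hab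
    obtain ⟨p, hp, _⟩ := exists_mem_weakAss_of_ne_zero (R := R) this
    rw [h] at hp
    exact hp
  · intro h
    rw [Set.eq_empty_iff_forall_notMem]
    rintro p ⟨m, hm⟩
    change p ∈ (annOf R m).minimalPrimes at hm
    have : annOf R m = ⊤ := annOf_eq_top_iff.mpr (Subsingleton.elim m 0)
    rw [this, Ideal.minimalPrimes_top] at hm
    exact hm

/-- If `p` is minimal over `I` and `x ∈ p` then `t * x ^ n ∈ I` for some `t ∉ p`. -/
theorem exists_pow_mul_mem_of_mem_minimalPrimes {I p : Ideal R} (hp : p ∈ I.minimalPrimes)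
    {x : R} (hx : x ∈ p) : ∃ (n : ℕ) (t : R), t ∉ p ∧ t * x ^ n ∈ I := by
  have hpp : p.IsPrime := hp.isPrime
  have h1 := IsLocalization.AtPrime.radical_map_of_mem_minimalPrimes
    (A := Localization.AtPrime p) p I hp
  have h2 : algebraMap R (Localization.AtPrime p) x ∈
      (I.map (algebraMap R (Localization.AtPrime p))).radical := by
    rw [h1]
    exact Ideal.mem_map_of_mem _ hx
  obtain ⟨n, hn⟩ := h2
  rw [← map_pow, IsLocalization.mem_map_algebraMap_iff p.primeCompl] at hn
  obtain ⟨⟨a, s⟩, has⟩ := hn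
  rw [← map_mul, IsLocalization.eq_iff_exists p.primeCompl] at has
  obtain ⟨c, hc⟩ := has
  refine ⟨n, c * s, ?_, ?_⟩
  · exact (c * s).2
  · have : (c : R) * s * x ^ n = c * a := by
      rw [← hc]
      ring
    rw [this]
    exact I.mul_mem_left _ a.2

theorem weakAss_subset_of_injective {N : Type w} [AddCommGroup N] [Module R N]
    (f : M →ₗ[R] N) (hf : Function.Injective f) : weakAss R M ⊆ weakAss R N := by
  rintro p ⟨m, hm⟩
  refine ⟨f m, (?_ : p ∈ (annOf R (f m)).minimalPrimes)⟩
  have : annOf R (f m) = annOf R m := by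
    ext a
    rw [mem_annOf, mem_annOf, ← map_smul, map_eq_zero_iff f hf]
  rw [this]
  exact hm

theorem weakAss_eq_of_linearEquiv {N : Type w} [AddCommGroup N] [Module R N]
    (e : M ≃ₗ[R] N) : weakAss R M = weakAss R N :=
  Set.Subset.antisymm (weakAss_subset_of_injective e.toLinearMap e.injective)
    (weakAss_subset_of_injective e.symm.toLinearMap e.symm.injective)

/-- Stacks 10.66.4, second half. -/
theorem weakAss_subset_union_of_exact {M' : Type w} {M'' : Type*} [AddCommGroup M']
    [Module R M'] [AddCommGroup M''] [Module R M''] (f : M' →ₗ[R] M) (g : M →ₗ[R] M'')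
    (hf : Function.Injective f) (hfg : Function.Exact f g) :
    weakAss R M ⊆ weakAss R M' ∪ weakAss R M'' := by
  rintro p ⟨m, hm⟩
  have hpp : p.IsPrime := hm.isPrime
  by_cases h : annOf R (g m) ≤ p
  · right
    refine ⟨g m, ⟨hpp, h⟩, ?_⟩
    rintro q ⟨hq, hq'⟩ hqp
    refine hm.2 ⟨hq, le_trans ?_ hq'⟩ hqp
    intro a ha
    rw [mem_annOf] at ha ⊢
    rw [← map_smul, ha, map_zero]
  · left
    obtain ⟨a, ha, hap⟩ := SetLike.not_le_iff_exists.mp h
    rw [mem_annOf, ← map_smul] at ha
    obtain ⟨m', hm'⟩ := (hfg (a • m)).mp ha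
    refine ⟨m', (?_ : p ∈ (annOf R m').minimalPrimes)⟩
    have hann : annOf R m' = annOf R (a • m) := by
      ext b
      rw [mem_annOf, mem_annOf, ← hm', ← map_smul, map_eq_zero_iff f hf]
    rw [hann]
    refine ⟨⟨hpp, ?_⟩, ?_⟩
    · intro b hb
      rw [mem_annOf, smul_smul] at hb
      have : b * a ∈ p := hm.le (mem_annOf.mpr hb)
      exact (hpp.mem_or_mem this).resolve_right hap
    · rintro q ⟨hq, hq'⟩ hqp
      refine hm.2 ⟨hq, le_trans ?_ hq'⟩ hqp
      intro b hb
      rw [mem_annOf] at hb ⊢
      rw [smul_comm, hb, smul_zero]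

/-- Stacks 10.66.7 : the union of the weakly associated primes is the set of zero divisors. -/
theorem biUnion_weakAss :
    ⋃ q ∈ weakAss R M, (q : Set R) = {f : R | ¬ IsSMulRegular M f} := by
  ext f
  simp only [Set.mem_iUnion, SetLike.mem_coe, exists_prop, Set.mem_ofPred_eq]
  constructor
  · rintro ⟨q, ⟨m, hm⟩, hfq⟩ hreg
    obtain ⟨y, hy, hfy⟩ := Ideal.exists_mul_mem_of_mem_minimalPrimes hm hfq
    rw [mem_annOf, mul_smul] at hfy
    have : y • m = 0 := hreg (by simpa using hfy)
    exact hy (mem_annOf.mpr this)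
  · intro hreg
    rw [IsSMulRegular, Function.Injective] at hreg
    push Not at hreg
    obtain ⟨a, b, hab, hne⟩ := hreg
    have hm : a - b ≠ 0 := sub_ne_zero.mpr hne
    obtain ⟨p, hp, hle⟩ := exists_mem_weakAss_of_ne_zero (R := R) hm
    refine ⟨p, hp, hle ?_⟩
    rw [mem_annOf, smul_sub]
    exact sub_eq_zero.mpr hab

/-- Stacks 10.66.14-ish: an element vanishing in all localizations at weakly associated primes
is zero. -/
theorem eq_zero_of_forall_exists_smul_eq_zero {x : M}
    (h : ∀ p ∈ weakAss R M, ∃ t : R, t ∉ p ∧ t • x = 0) : x = 0 := by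
  by_contra hx
  obtain ⟨p, hp, hle⟩ := exists_mem_weakAss_of_ne_zero (R := R) hx
  obtain ⟨t, htp, htx⟩ := h p hp
  exact htp (hle (mem_annOf.mpr htx))

end Basic

section RestrictScalars

variable {R : Type u} [CommRing R] {S : Type v} [CommRing S] [Algebra R S]
  {M : Type w} [AddCommGroup M] [Module R M] [Module S M] [IsScalarTower R S M]

theorem annOf_eq_comap (m : M) : annOf R m = (annOf S m).comap (algebraMap R S) := by
  ext a
  rw [Ideal.mem_comap, mem_annOf, mem_annOf, algebraMap_smul]

variable (R S M) in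
/-- Stacks 10.66.11: any weakly associated prime over `R` is the contraction of one over `S`. -/
theorem weakAss_subset_image_comap :
    weakAss R M ⊆ Ideal.comap (algebraMap R S) '' weakAss S M := by
  rintro p ⟨m, hm⟩
  change p ∈ (annOf R m).minimalPrimes at hm
  rw [annOf_eq_comap (S := S)] at hm
  obtain ⟨q, hq, rfl⟩ := Ideal.exists_minimalPrimes_comap_eq _ p hm
  exact ⟨q, ⟨m, hq⟩, rfl⟩

variable (R S M) in
/-- Stacks 10.66.8 / quotient case: for a surjective ring map the weakly associated primes
correspond. -/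
theorem weakAss_eq_image_comap_of_surjective (hf : Function.Surjective (algebraMap R S)) :
    weakAss R M = Ideal.comap (algebraMap R S) '' weakAss S M := by
  refine Set.Subset.antisymm (weakAss_subset_image_comap R S M) ?_
  rintro _ ⟨q, ⟨m, hm⟩, rfl⟩
  refine ⟨m, (?_ : _ ∈ (annOf R m).minimalPrimes)⟩
  rw [annOf_eq_comap (S := S)]
  exact Ideal.minimalPrimes_comap_of_surjective hf hm

end RestrictScalars

section Localization

variable {R : Type u} [CommRing R] (S : Submonoid R) (A : Type v) [CommRing A] [Algebra R A]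
  [IsLocalization S A] {M : Type w} [AddCommGroup M] [Module R M] {M' : Type*}
  [AddCommGroup M'] [Module R M'] [Module A M'] [IsScalarTower R A M'] (f : M →ₗ[R] M')
  [IsLocalizedModule S f]

include S in
theorem annOf_localized (m : M) :
    annOf A (f m) = (annOf R m).map (algebraMap R A) := by
  ext x
  constructor
  · intro hx
    rw [mem_annOf] at hx
    obtain ⟨a, s, rfl⟩ := IsLocalization.exists_mk'_eq S x
    have h1 : (algebraMap R A a) • f m = 0 := by
      rw [← IsLocalization.mk'_spec' A a s, mul_smul, hx, smul_zero]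
    rw [algebraMap_smul, ← map_smul, IsLocalizedModule.eq_zero_iff S] at h1
    obtain ⟨t, ht⟩ := h1
    rw [IsLocalization.mem_map_algebraMap_iff S]
    refine ⟨⟨⟨(t : R) * a, ?_⟩, t * s⟩, ?_⟩
    · rw [mem_annOf, mul_smul]
      exact ht
    · simp only [Submonoid.coe_mul, map_mul]
      rw [mul_comm (algebraMap R A t), ← mul_assoc, IsLocalization.mk'_spec, mul_comm]
  · intro hx
    rw [IsLocalization.mem_map_algebraMap_iff S] at hx
    obtain ⟨⟨a, s⟩, has⟩ := hx
    rw [mem_annOf]
    have h1 : (s : R) • (x • f m) = 0 := by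
      rw [← algebraMap_smul A (s : R), ← mul_smul, mul_comm, has, algebraMap_smul, ← map_smul,
        mem_annOf.mp a.2, map_zero]
    exact (IsLocalizedModule.smul_inj f s _ _).mp (by rw [smul_zero]; exact h1)

end Localization

section Localization2

variable {R : Type u} [CommRing R] (S : Submonoid R) (A : Type v) [CommRing A] [Algebra R A]
  [IsLocalization S A] {M : Type w} [AddCommGroup M] [Module R M] {M' : Type*}
  [AddCommGroup M'] [Module R M'] [Module A M'] [IsScalarTower R A M'] (f : M →ₗ[R] M')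
  [IsLocalizedModule S f]

include S A f

omit [IsLocalization S A] in
theorem annOf_mk' (m : M) (s : S) :
    annOf A (IsLocalizedModule.mk' f m s) = annOf A (f m) := by
  ext x
  rw [mem_annOf, mem_annOf]
  constructor
  · intro h
    rw [← IsLocalizedModule.mk'_cancel' f m s, Submonoid.smul_def, smul_comm, h, smul_zero]
  · intro h
    apply (IsLocalizedModule.smul_inj f s _ _).mp
    rw [smul_zero, Submonoid.smul_def, smul_comm, ← Submonoid.smul_def,
      IsLocalizedModule.mk'_cancel' f m s, h]

/-- Every element of the localized module has the annihilator of an element coming from `M`. -/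
theorem exists_annOf_eq (x : M') : ∃ m : M, annOf A x = (annOf R m).map (algebraMap R A) := by
  obtain ⟨⟨m, s⟩, rfl⟩ := IsLocalizedModule.mk'_surjective S f x
  exact ⟨m, (annOf_mk' S A f m s).trans (annOf_localized S A f m)⟩

/-- Stacks 10.66.15 : weakly associated primes and localization. -/
theorem mem_weakAss_localization_iff (P : Ideal A) :
    P ∈ weakAss A M' ↔ P.comap (algebraMap R A) ∈ weakAss R M := by
  constructor
  · rintro ⟨x, hx⟩
    change P ∈ (annOf A x).minimalPrimes at hx
    obtain ⟨m, hm⟩ := exists_annOf_eq S A f x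
    rw [hm, IsLocalization.minimalPrimes_map S A] at hx
    exact ⟨m, hx⟩
  · rintro ⟨m, hm⟩
    refine ⟨f m, (?_ : P ∈ (annOf A (f m)).minimalPrimes)⟩
    rw [annOf_localized S A f m, IsLocalization.minimalPrimes_map S A]
    exact hm

/-- Stacks 10.66.15, in the form: a prime `p` disjoint from `S` is weakly associated to `M`
iff its extension is weakly associated to `S⁻¹M`. -/
theorem map_mem_weakAss_iff (p : Ideal R) [hp : p.IsPrime] (hd : Disjoint (S : Set R) (p : Set R)) :
    p.map (algebraMap R A) ∈ weakAss A M' ↔ p ∈ weakAss R M := by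
  rw [mem_weakAss_localization_iff S A f]
  have : (p.map (algebraMap R A)).comap (algebraMap R A) = p :=
    IsLocalization.under_map_of_isPrime_disjoint S A hp hd
  rw [this]

/-- Stacks 10.66.15 : weakly associated primes of `S⁻¹M` as an `R`-module. -/
theorem weakAss_localized_restrictScalars :
    weakAss R M' = Ideal.comap (algebraMap R A) '' weakAss A M' := by
  refine Set.Subset.antisymm (weakAss_subset_image_comap R A M') ?_
  rintro _ ⟨q, ⟨x, hx⟩, rfl⟩
  refine ⟨x, (?_ : _ ∈ (annOf R x).minimalPrimes)⟩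
  rw [annOf_eq_comap (S := A), IsLocalization.minimalPrimes_comap S A]
  exact ⟨q, hx, rfl⟩

/-- the weakly associated primes of `S⁻¹M` over `R` are those of `M` not meeting `S`. -/
theorem mem_weakAss_localized_restrictScalars_iff (p : Ideal R) :
    p ∈ weakAss R M' ↔ p ∈ weakAss R M ∧ Disjoint (S : Set R) (p : Set R) := by
  rw [weakAss_localized_restrictScalars S A f]
  constructor
  · rintro ⟨q, hq, rfl⟩
    have hqp : q.IsPrime := isPrime_of_mem_weakAss hq
    refine ⟨(mem_weakAss_localization_iff S A f q).mp hq, ?_⟩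
    exact ((IsLocalization.isPrime_iff_isPrime_disjoint S A q).mp hqp).2
  · rintro ⟨hp, hd⟩
    have hpp : p.IsPrime := isPrime_of_mem_weakAss hp
    refine ⟨p.map (algebraMap R A), (map_mem_weakAss_iff S A f p hd).mpr hp, ?_⟩
    exact IsLocalization.under_map_of_isPrime_disjoint S A hpp hd

/-- Stacks 10.66.17 : if `S` consists of nonzerodivisors on `M` then `M` and `S⁻¹M` have the same
weakly associated primes over `R`. -/
theorem weakAss_eq_of_isSMulRegular (hS : ∀ s ∈ S, IsSMulRegular M s) :
    weakAss R M = weakAss R M' := by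
  have hinj : Function.Injective f := by
    rw [← LinearMap.ker_eq_bot, eq_bot_iff]
    intro m hm
    rw [LinearMap.mem_ker, IsLocalizedModule.eq_zero_iff S] at hm
    obtain ⟨s, hs⟩ := hm
    rw [Submodule.mem_bot]
    exact hS s s.2 (show (s : R) • m = (s : R) • (0 : M) by rw [smul_zero]; exact hs)
  refine Set.Subset.antisymm (weakAss_subset_of_injective f hinj) ?_
  intro p hp
  exact ((mem_weakAss_localized_restrictScalars_iff S A f p).mp hp).1

end Localization2

section Local

open IsLocalRing

variable {A : Type u} [CommRing A] [IsLocalRing A] {N : Type v} [AddCommGroup N] [Module A N]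

theorem maximalIdeal_mem_minimalPrimes_iff (I : Ideal A) :
    maximalIdeal A ∈ I.minimalPrimes ↔ I.radical = maximalIdeal A := by
  constructor
  · intro h
    apply le_antisymm
    · exact (Ideal.IsPrime.radical_le_iff (maximalIdeal.isMaximal A).isPrime).mpr h.le
    · rw [Ideal.radical_eq_sInf, le_sInf_iff]
      rintro Q ⟨hIQ, hQ⟩
      exact h.2 ⟨hQ, hIQ⟩ (le_maximalIdeal hQ.ne_top)
  · intro h
    refine ⟨⟨(maximalIdeal.isMaximal A).isPrime, ?_⟩, ?_⟩
    · rw [← h]
      exact Ideal.le_radical
    · rintro Q ⟨hQ, hIQ⟩ _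
      rw [← h]
      exact (Ideal.IsPrime.radical_le_iff hQ).mpr hIQ

theorem annOf_eq_colon (x : N) : annOf A x = (⊥ : Submodule A N).colon {x} := by
  ext a
  rw [mem_annOf, Submodule.mem_colon_singleton, Submodule.mem_bot]

theorem maximalIdeal_mem_weakAss_iff :
    maximalIdeal A ∈ weakAss A N ↔ IsAssociatedPrime (maximalIdeal A) N := by
  constructor
  · rintro ⟨x, hx⟩
    change maximalIdeal A ∈ (annOf A x).minimalPrimes at hx
    rw [maximalIdeal_mem_minimalPrimes_iff, annOf_eq_colon] at hx
    exact ⟨(maximalIdeal.isMaximal A).isPrime, x, hx.symm⟩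
  · rintro ⟨_, x, hx⟩
    refine ⟨x, (?_ : maximalIdeal A ∈ (annOf A x).minimalPrimes)⟩
    rw [maximalIdeal_mem_minimalPrimes_iff, annOf_eq_colon]
    exact hx.symm

end Local

section LocalChar

variable {R : Type u} [CommRing R] (M : Type v) [AddCommGroup M] [Module R M]

/-- Stacks 10.66.2 (1) ⇔ (3). -/
theorem mem_weakAss_iff_isAssociatedPrime_localization (p : Ideal R) [p.IsPrime] :
    p ∈ weakAss R M ↔ IsAssociatedPrime (IsLocalRing.maximalIdeal (Localization.AtPrime p))
      (LocalizedModule p.primeCompl M) := by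
  rw [← maximalIdeal_mem_weakAss_iff,
    ← IsLocalization.AtPrime.map_eq_maximalIdeal p (Localization.AtPrime p)]
  refine (map_mem_weakAss_iff p.primeCompl (Localization.AtPrime p)
    (LocalizedModule.mkLinearMap p.primeCompl M) p ?_).symm
  rw [Set.disjoint_left]
  intro x hx hxp
  exact hx hxp

end LocalChar

section Reduced

variable {R : Type u} [CommRing R]

/-- Stacks 10.66.? : for a reduced ring the weakly associated primes of the ring are its minimal
primes. -/
theorem weakAss_self_of_isReduced [IsReduced R] : weakAss R R = minimalPrimes R := by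
  ext p
  constructor
  · rintro ⟨x, hx⟩
    change p ∈ (annOf R x).minimalPrimes at hx
    have hpp : p.IsPrime := hx.isPrime
    have hxp : x ∉ p := by
      intro hxp
      obtain ⟨n, t, htp, ht⟩ := exists_pow_mul_mem_of_mem_minimalPrimes hx hxp
      rw [mem_annOf, smul_eq_mul] at ht
      have h1 : (t * x) ^ (n + 1) = 0 := by
        rw [mul_pow, pow_succ t, pow_succ x]
        calc t ^ n * t * (x ^ n * x) = t ^ n * (t * x ^ n * x) := by ring
          _ = 0 := by rw [ht, mul_zero]
      have h2 : t * x = 0 := IsReduced.eq_zero _ ⟨n + 1, h1⟩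
      exact htp (hx.le (mem_annOf.mpr (by rw [smul_eq_mul]; exact h2)))
    refine ⟨⟨hpp, bot_le⟩, ?_⟩
    rintro q ⟨hq, _⟩ hqp
    refine hx.2 ⟨hq, ?_⟩ hqp
    intro a ha
    rw [mem_annOf, smul_eq_mul] at ha
    have : a * x ∈ q := by rw [ha]; exact q.zero_mem
    exact (hq.mem_or_mem this).resolve_right (fun h => hxp (hqp h))
  · intro hp
    refine ⟨1, (?_ : p ∈ (annOf R (1 : R)).minimalPrimes)⟩
    have : annOf R (1 : R) = ⊥ := by
      ext a
      rw [mem_annOf, smul_eq_mul, mul_one, Ideal.mem_bot]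
    rw [this]
    exact hp

end Reduced

section FG

variable {R : Type u} [CommRing R] {M : Type v} [AddCommGroup M] [Module R M]

theorem annOf_le_annOf_smul (c : R) (z : M) : annOf R z ≤ annOf R (c • z) := by
  intro b hb
  rw [mem_annOf] at hb ⊢
  rw [smul_comm, hb, smul_zero]

theorem mem_minimalPrimes_annOf_smul {p : Ideal R} {z : M} (hz : p ∈ (annOf R z).minimalPrimes)
    (c : R) (hc : annOf R (c • z) ≤ p) : p ∈ (annOf R (c • z)).minimalPrimes := by
  refine ⟨⟨hz.isPrime, hc⟩, ?_⟩
  rintro q ⟨hq, hq'⟩ hqp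
  exact hz.2 ⟨hq, (annOf_le_annOf_smul c z).trans hq'⟩ hqp

theorem annOf_smul_le_of_notMem {p : Ideal R} [hp : p.IsPrime] {z : M} (hz : annOf R z ≤ p)
    {t : R} (ht : t ∉ p) : annOf R (t • z) ≤ p := by
  intro b hb
  rw [mem_annOf, smul_smul] at hb
  exact (hp.mem_or_mem (hz (mem_annOf.mpr hb))).resolve_right ht

theorem exists_smul_killed {p : Ideal R} {z : M} (hz : p ∈ (annOf R z).minimalPrimes)
    {a : R} (ha : a ∈ p) :
    ∃ c : R, p ∈ (annOf R (c • z)).minimalPrimes ∧ a ∈ annOf R (c • z) := by
  classical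
  have hpp : p.IsPrime := hz.isPrime
  obtain ⟨n, t, htp, ht⟩ := exists_pow_mul_mem_of_mem_minimalPrimes hz ha
  have hex : ∃ k : ℕ, ¬ annOf R (a ^ k • t • z) ≤ p := by
    refine ⟨n, fun h => hpp.ne_top (top_le_iff.mp (le_trans ?_ h))⟩
    intro b _
    rw [mem_annOf] at ht ⊢
    rw [smul_smul, smul_smul]
    have : b * a ^ n * t = b * (t * a ^ n) := by ring
    rw [this, mul_smul, ht, smul_zero]
  have h0 : annOf R (t • z) ≤ p := annOf_smul_le_of_notMem hz.le htp
  have hk0 : Nat.find hex ≠ 0 := by
    intro h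
    have := Nat.find_spec hex
    rw [h, pow_zero, one_smul] at this
    exact this h0
  obtain ⟨k', hk'⟩ := Nat.exists_eq_succ_of_ne_zero hk0
  have h1 : annOf R (a ^ k' • t • z) ≤ p := by
    by_contra h
    exact Nat.find_min hex (by omega) h
  have h2 : ¬ annOf R (a ^ (k' + 1) • t • z) ≤ p := by
    have := Nat.find_spec hex
    rwa [hk'] at this
  obtain ⟨s, hs, hsp⟩ := SetLike.not_le_iff_exists.mp h2
  refine ⟨s * a ^ k' * t, ?_, ?_⟩
  · apply mem_minimalPrimes_annOf_smul hz
    have : (s * a ^ k' * t) • z = s • (a ^ k' • t • z) := by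
      rw [mul_smul, mul_smul]
    rw [this]
    exact annOf_smul_le_of_notMem h1 hsp
  · rw [mem_annOf] at hs ⊢
    rw [← hs, pow_succ, smul_smul, smul_smul, smul_smul]
    congr 1
    ring

theorem exists_smul_killed_finset {p : Ideal R} {m : M} (hm : p ∈ (annOf R m).minimalPrimes)
    (T : Finset R) (hT : ∀ a ∈ T, a ∈ p) :
    ∃ c : R, p ∈ (annOf R (c • m)).minimalPrimes ∧ ∀ a ∈ T, a ∈ annOf R (c • m) := by
  classical
  induction T using Finset.induction_on with
  | empty =>
    refine ⟨1, ?_, by simp⟩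
    rw [one_smul]
    exact hm
  | insert a T _ ih =>
    obtain ⟨c, hc, hcT⟩ := ih (fun b hb => hT b (Finset.mem_insert_of_mem hb))
    obtain ⟨c', hc', hac'⟩ := exists_smul_killed hc (hT a (Finset.mem_insert_self a T))
    refine ⟨c' * c, ?_, ?_⟩
    · rw [mul_smul]
      exact hc'
    · intro b hb
      rw [mul_smul]
      rcases Finset.mem_insert.mp hb with rfl | hb
      · exact hac'
      · exact annOf_le_annOf_smul c' _ (hcT b hb)

/-- Stacks 10.66.? : a finitely generated weakly associated prime is associated. -/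
theorem mem_ass_iff_mem_weakAss_of_fg (p : Ideal R) [hpp : p.IsPrime] (hp : p.FG) :
    p ∈ ass R M ↔ p ∈ weakAss R M := by
  constructor
  · rintro ⟨_, m, hm⟩
    refine ⟨m, ?_⟩
    rw [← hm, Ideal.minimalPrimes_eq_subsingleton_self]
    rfl
  · rintro ⟨m, hm⟩
    obtain ⟨T, hT⟩ := hp
    obtain ⟨c, hc, hcT⟩ := exists_smul_killed_finset hm T (fun a ha => by
      rw [← hT]
      exact Ideal.subset_span ha)
    refine ⟨hpp, c • m, le_antisymm ?_ hc.le⟩
    rw [← hT, Ideal.span_le]
    intro a ha
    exact hcT a ha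

end FG

section AssLocalization

variable {R : Type u} [CommRing R] (S : Submonoid R) (A : Type v) [CommRing A] [Algebra R A]
  [IsLocalization S A] {M : Type w} [AddCommGroup M] [Module R M] {M' : Type*}
  [AddCommGroup M'] [Module R M'] [Module A M'] [IsScalarTower R A M'] (f : M →ₗ[R] M')
  [IsLocalizedModule S f]

include S f

omit [CommRing A] [Algebra R A] [IsLocalization S A] [Module A M'] [IsScalarTower R A M'] in
theorem mem_annOf_map_iff (m : M) (a : R) :
    a ∈ annOf R (f m) ↔ ∃ t : S, (t : R) * a ∈ annOf R m := by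
  rw [mem_annOf, ← map_smul, IsLocalizedModule.eq_zero_iff S]
  simp only [mem_annOf, mul_smul, Submonoid.smul_def]

omit [CommRing A] [Algebra R A] [IsLocalization S A] [Module A M'] [IsScalarTower R A M'] in
theorem annOf_mk'_restrictScalars (m : M) (s : S) :
    annOf R (IsLocalizedModule.mk' f m s) = annOf R (f m) := by
  ext x
  rw [mem_annOf, mem_annOf]
  constructor
  · intro h
    rw [← IsLocalizedModule.mk'_cancel' f m s, Submonoid.smul_def, smul_comm, h, smul_zero]
  · intro h
    apply (IsLocalizedModule.smul_inj f s _ _).mp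
    rw [smul_zero, Submonoid.smul_def, smul_comm, ← Submonoid.smul_def,
      IsLocalizedModule.mk'_cancel' f m s, h]

include A in
/-- Stacks 10.63.15 (1): associated primes (annihilators of elements) of `S⁻¹M` as an `R`-module. -/
theorem ass_localized_restrictScalars :
    ass R M' = Ideal.comap (algebraMap R A) '' ass A M' := by
  apply Set.Subset.antisymm
  · rintro p ⟨hp, x, hx⟩
    have hd : Disjoint (S : Set R) (p : Set R) := by
      rw [Set.disjoint_left]
      intro s hs hsp
      rw [SetLike.mem_coe, hx, mem_annOf] at hsp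
      have hx0 : x = 0 := by
        apply (IsLocalizedModule.smul_inj f ⟨s, hs⟩ _ _).mp
        rw [smul_zero]
        exact hsp
      apply hp.ne_top
      rw [hx, hx0]
      exact annOf_eq_top_iff.mpr rfl
    refine ⟨annOf A x, ⟨?_, x, rfl⟩, ?_⟩
    · have h0 : p = (annOf A x).comap (algebraMap R A) := hx.trans (annOf_eq_comap x)
      have h1 : annOf A x = p.map (algebraMap R A) := by
        rw [h0]
        exact (IsLocalization.map_under S A _).symm
      rw [h1]
      exact IsLocalization.isPrime_of_isPrime_disjoint S A p hp hd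
    · rw [hx]
      exact (annOf_eq_comap (S := A) x).symm
  · rintro _ ⟨q, ⟨hq, x, hx⟩, rfl⟩
    refine ⟨Ideal.comap_isPrime _ q, x, ?_⟩
    rw [hx]
    exact (annOf_eq_comap (S := A) x).symm

omit [CommRing A] [Algebra R A] [IsLocalization S A] [Module A M'] [IsScalarTower R A M'] in
/-- Stacks 10.63.15 (2). -/
theorem mem_ass_localized_of_mem_ass {p : Ideal R} (hp : p ∈ ass R M)
    (hd : Disjoint (S : Set R) (p : Set R)) : p ∈ ass R M' := by
  obtain ⟨hpp, m, hm⟩ := hp
  refine ⟨hpp, f m, ?_⟩
  have hm' : annOf R m = p := hm.symm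
  ext a
  rw [mem_annOf_map_iff S f, hm']
  constructor
  · intro ha
    exact ⟨1, by simpa using ha⟩
  · rintro ⟨t, ht⟩
    exact (hpp.mem_or_mem ht).resolve_left (fun h => Set.disjoint_left.mp hd t.2 h)

omit [CommRing A] [Algebra R A] [IsLocalization S A] [Module A M'] [IsScalarTower R A M'] in
/-- Stacks 10.63.17. -/
theorem ass_eq_of_isSMulRegular (hS : ∀ s ∈ S, IsSMulRegular M s) : ass R M = ass R M' := by
  have key : ∀ m : M, annOf R (f m) = annOf R m := by
    intro m
    ext a
    rw [mem_annOf_map_iff S f]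
    constructor
    · rintro ⟨t, ht⟩
      rw [mem_annOf, mul_smul] at ht
      rw [mem_annOf]
      exact hS t t.2 (show (t : R) • (a • m) = (t : R) • (0 : M) by rw [smul_zero]; exact ht)
    · intro ha
      exact ⟨1, by simpa using ha⟩
  apply Set.Subset.antisymm
  · rintro p ⟨hp, m, hm⟩
    exact ⟨hp, f m, hm.trans (key m).symm⟩
  · rintro p ⟨hp, x, hx⟩
    obtain ⟨⟨m, s⟩, rfl⟩ := IsLocalizedModule.mk'_surjective S f x
    refine ⟨hp, m, ?_⟩
    exact hx.trans ((annOf_mk'_restrictScalars S f m s).trans (key m))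

end AssLocalization

end Groth.Agent.Lib.WeakAss
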