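import Mathlib
import Groth.Agent.Lib.WeakAss

/-!
# The tensor product of two domains over a field has no embedded weakly associated primes (helper2)

`NoEmb R`: there is no strict inclusion between primes of `R` minimal over annihilators of
elements.  Main result `noEmb_tensor`: for domains `A`, `B` over a field `k`, `NoEmb (A ⊗[k] B)`.
-/

set_option autoImplicit false
universe u v

open TensorProduct

namespace Groth.Agent.Lib.TensorNoEmb2

section Basic

variable {R : Type*} [CommRing R]

/-- annihilator of an element of the ring -/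
abbrev annE (r : R) : Ideal R := LinearMap.ker (LinearMap.toSpanSingleton R R r)

lemma mem_annE {r a : R} : a ∈ annE r ↔ a * r = 0 := by
  simp [annE, LinearMap.mem_ker]

/-- no strict inclusions between primes minimal over annihilators of elements -/
def NoEmb (R : Type*) [CommRing R] : Prop :=
  ∀ (r r' : R) (P P' : Ideal R), P ∈ (annE r).minimalPrimes → P' ∈ (annE r').minimalPrimes →
    P' ≤ P → P = P'

/-- a regular element lies in no prime minimal over the annihilator of an element -/
lemma not_mem_of_regular {r d : R} {P : Ideal R} (hP : P ∈ (annE r).minimalPrimes)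
    (hd : ∀ y : R, d * y = 0 → y = 0) : d ∉ P := by
  intro hdP
  obtain ⟨n, t, htP, ht⟩ := Groth.Agent.Lib.WeakAss.exists_pow_mul_mem_of_mem_minimalPrimes hP hdP
  rw [mem_annE] at ht
  have hpow : ∀ (n : ℕ) (y : R), d ^ n * y = 0 → y = 0 := by
    intro n
    induction n with
    | zero => intro y hy; simpa using hy
    | succ n ih =>
      intro y hy
      apply ih
      apply hd
      rw [← mul_assoc, ← pow_succ']
      exact hy
  have h0 : t * r = 0 := by
    apply hpow n
    rw [← ht]; ring
  exact htP (hP.1.2 (mem_annE.mpr h0))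

/-- incomparability: over a domain `D` over which `R` is algebraic and torsion-free. -/
theorem noEmb_of_isAlgebraic (D : Type*) [CommRing D] [IsDomain D] [Algebra D R]
    [Algebra.IsAlgebraic D R]
    (hreg : ∀ d : D, d ≠ 0 → ∀ y : R, algebraMap D R d * y = 0 → y = 0) : NoEmb R := by
  intro r r' P P' hP hP' hle
  have hPprime : P.IsPrime := hP.1.1
  have hP'prime : P'.IsPrime := hP'.1.1
  apply le_antisymm _ hle
  intro x hx
  by_contra hx'
  let S := R ⧸ P'
  let I : Ideal S := P.map (Ideal.Quotient.mk P')
  have hxI : Ideal.Quotient.mk P' x ∈ I := Ideal.mem_map_of_mem _ hx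
  have hx0 : Ideal.Quotient.mk P' x ≠ 0 := by
    rwa [Ne, Ideal.Quotient.eq_zero_iff_mem]
  have halg : IsAlgebraic D (Ideal.Quotient.mk P' x) := by
    have := (Algebra.IsAlgebraic.isAlgebraic (R := D) x)
    exact this.algHom (Ideal.Quotient.mkₐ D P')
  have hne := Ideal.comap_ne_bot_of_algebraic_mem hx0 hxI halg
  obtain ⟨d, hdI, hd0⟩ := Submodule.exists_mem_ne_zero_of_ne_bot hne
  rw [Ideal.mem_comap] at hdI
  have hdP : algebraMap D R d ∈ P := by
    have h1 : (Ideal.Quotient.mk P') (algebraMap D R d) ∈ I := hdI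
    rw [Ideal.mem_map_iff_of_surjective _ Ideal.Quotient.mk_surjective] at h1
    obtain ⟨z, hzP, hz⟩ := h1
    have : z - algebraMap D R d ∈ P' := by
      rw [← Ideal.Quotient.eq_zero_iff_mem, map_sub, hz, sub_self]
    have h2 : algebraMap D R d = z - (z - algebraMap D R d) := by ring
    rw [h2]
    exact P.sub_mem hzP (hle this)
  exact not_mem_of_regular hP (hreg d hd0) hdP

/-- invariance under ring isomorphisms -/
theorem noEmb_of_ringEquiv {R' : Type*} [CommRing R'] (e : R ≃+* R') (h : NoEmb R) : NoEmb R' := by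
  intro r r' P P' hP hP' hle
  have hsurj : Function.Surjective (e : R →+* R') := e.surjective
  have hann : ∀ s : R', (annE s).comap (e : R →+* R') = annE (e.symm s) := by
    intro s
    ext a
    rw [Ideal.mem_comap, mem_annE, mem_annE]
    constructor
    · intro h1
      have := congrArg e.symm h1
      simpa using this
    · intro h1
      have := congrArg e h1
      simpa using this
  have h1 := Ideal.minimalPrimes_comap_of_surjective hsurj hP
  have h2 := Ideal.minimalPrimes_comap_of_surjective hsurj hP'
  rw [hann] at h1 h2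
  have h3 := h _ _ _ _ h1 h2 (Ideal.comap_mono hle)
  exact Ideal.comap_injective_of_surjective _ hsurj h3

end Basic

set_option linter.style.haveILetI false

section Tensor

variable (k : Type u) [Field k] (A B : Type u) [CommRing A] [IsDomain A] [Algebra k A]
  [CommRing B] [IsDomain B] [Algebra k B]

/-- regularity: `d ⊗ 1` is regular on `D ⊗[D₀] A` when `D₀ ⊆ A` domains, `D` a flat `D₀`-domain -/
theorem regular_tmul_one (D₀ : Type u) [CommRing D₀] [IsDomain D₀] [Algebra D₀ A]
    [FaithfulSMul D₀ A] (D : Type u) [CommRing D] [IsDomain D] [Algebra D₀ D] [Module.Flat D₀ D]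
    (d : D) (hd : d ≠ 0) (y : D ⊗[D₀] A) (hy : (d ⊗ₜ[D₀] (1 : A)) * y = 0) : y = 0 := by
  let K := FractionRing A
  let K₀ := FractionRing D₀
  haveI : FaithfulSMul D₀ K := by
    rw [faithfulSMul_iff_algebraMap_injective, IsScalarTower.algebraMap_eq D₀ A K]
    exact (IsFractionRing.injective A K).comp (FaithfulSMul.algebraMap_injective D₀ A)
  letI : Algebra K₀ K := FractionRing.liftAlgebra D₀ K
  haveI : IsScalarTower D₀ K₀ K := FractionRing.isScalarTower_liftAlgebra D₀ K
  haveI : Module.Flat D₀ K := Module.Flat.trans D₀ K₀ K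
  let μ : D →ₗ[D₀] D := LinearMap.mulLeft D₀ d
  have hμ : Function.Injective μ := by
    intro a b hab
    exact mul_left_cancel₀ hd hab
  let ιA : A →ₗ[D₀] K := (IsScalarTower.toAlgHom D₀ A K).toLinearMap
  have hι : Function.Injective ιA := IsFractionRing.injective A K
  have hf : ∀ z : D ⊗[D₀] A, (d ⊗ₜ[D₀] (1 : A)) * z = LinearMap.rTensor A μ z := by
    intro z
    induction z using TensorProduct.induction_on with
    | zero => simp
    | tmul a b => simp [μ, Algebra.TensorProduct.tmul_mul_tmul]
    | add a b ha hb => rw [mul_add, ha, hb, map_add]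
  have hg : Function.Injective (LinearMap.lTensor D ιA) :=
    Module.Flat.lTensor_preserves_injective_linearMap ιA hι
  have hh : Function.Injective (LinearMap.rTensor K μ) :=
    Module.Flat.rTensor_preserves_injective_linearMap μ hμ
  apply hg
  apply hh
  rw [map_zero, map_zero]
  have hcomm : LinearMap.rTensor K μ (LinearMap.lTensor D ιA y) =
      LinearMap.lTensor D ιA (LinearMap.rTensor A μ y) := by
    rw [← LinearMap.comp_apply, ← LinearMap.comp_apply, LinearMap.rTensor_comp_lTensor,
      LinearMap.lTensor_comp_rTensor]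
  rw [hcomm, ← hf, hy, map_zero]

set_option linter.style.haveILetI false in
theorem noEmb_tensor : NoEmb (A ⊗[k] B) := by
  haveI : FaithfulSMul k A := (faithfulSMul_iff_algebraMap_injective k A).mpr
    (algebraMap k A).injective
  haveI : FaithfulSMul k B := (faithfulSMul_iff_algebraMap_injective k B).mpr
    (algebraMap k B).injective
  obtain ⟨ι, x, hx⟩ := exists_isTranscendenceBasis' k A
  let D₀ : Subalgebra k A := Algebra.adjoin k (Set.range x)
  haveI : Algebra.IsAlgebraic D₀ A := hx.isAlgebraic
  let D := D₀ ⊗[k] B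
  -- `D` is a domain
  let e₀ : MvPolynomial ι k ≃ₐ[k] D₀ := hx.1.aevalEquiv
  let e₁ : D ≃ₐ[k] MvPolynomial ι k ⊗[k] B :=
    Algebra.TensorProduct.congr e₀.symm AlgEquiv.refl
  let e₂ : MvPolynomial ι k ⊗[k] B ≃ₐ[k] B ⊗[k] MvPolynomial ι k :=
    Algebra.TensorProduct.comm k _ _
  let e₃ : B ⊗[k] MvPolynomial ι k ≃ₐ[B] MvPolynomial ι B := MvPolynomial.algebraTensorAlgEquiv k B
  let e : D ≃+* MvPolynomial ι B :=
    (e₁.toRingEquiv.trans e₂.toRingEquiv).trans e₃.toRingEquiv
  haveI : IsDomain D := MulEquiv.isDomain (MvPolynomial ι B) e.toMulEquiv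
  haveI : FaithfulSMul D₀ D := by
    have h := (faithfulSMul_iff_algebraMap_injective D₀ D).mpr
      (Algebra.TensorProduct.includeLeft_injective (S := D₀)
        (FaithfulSMul.algebraMap_injective k B))
    exact h
  haveI : FaithfulSMul D₀ A := by
    rw [faithfulSMul_iff_algebraMap_injective]
    exact Subtype.val_injective
  haveI : Algebra.IsAlgebraic D (D ⊗[D₀] A) := inferInstance
  have hne : NoEmb (D ⊗[D₀] A) := by
    apply noEmb_of_isAlgebraic D
    intro d hd y hy
    exact regular_tmul_one A D₀ D d hd y hy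
  -- transfer along the ring isomorphism
  let f₁ : D ⊗[D₀] A ≃ₐ[D₀] A ⊗[D₀] D := Algebra.TensorProduct.comm D₀ D A
  let f₂ : A ⊗[D₀] (D₀ ⊗[k] B) ≃ₐ[D₀] A ⊗[k] B := Algebra.TensorProduct.cancelBaseChange k D₀ D₀ A B
  exact noEmb_of_ringEquiv (f₁.toRingEquiv.trans f₂.toRingEquiv) hne

end Tensor

end Groth.Agent.Lib.TensorNoEmb2
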