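import Mathlib

/-!
# Direct summands are determined by their tensor powers

If `F₁, F₂` are direct summands of a finitely generated projective module `M` and the image of
`F₁^{⊗(k+1)}` in `M^{⊗(k+1)}` is contained in that of `F₂^{⊗(k+1)}`, then `F₁ ≤ F₂`.
(Helper for S19148.)
-/

namespace Groth.Agent.Lib.TensorPowSummand

open scoped TensorProduct

theorem le_of_range_map_le {R : Type*} [CommRing R] {M : Type*} [AddCommGroup M] [Module R M]
    [Module.Finite R M] [Module.Projective R M]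
    (F₁ F₂ C₁ C₂ : Submodule R M) (h₁ : IsCompl F₁ C₁) (h₂ : IsCompl F₂ C₂) (k : ℕ)
    (hle : LinearMap.range (PiTensorProduct.map (R := R) (fun _ : Fin (k+1) => F₁.subtype)) ≤
      LinearMap.range (PiTensorProduct.map (R := R) (fun _ : Fin (k+1) => F₂.subtype))) :
    F₁ ≤ F₂ := by
  classical
  set π : M →ₗ[R] M := C₂.projection F₂ h₂.symm with hπ
  have hπker : ∀ y, π y = 0 ↔ y ∈ F₂ := by
    intro y
    exact Submodule.projection_apply_eq_zero_iff h₂.symm
  set p₁ : M →ₗ[R] M := F₁.projection C₁ h₁ with hp₁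
  have hp₁mem : ∀ y, p₁ y ∈ F₁ := by
    intro y; exact Submodule.projection_apply_mem h₁ y
  have hp₁id : ∀ y ∈ F₁, p₁ y = y := by
    intro y hy
    exact Submodule.projection_apply_of_mem_left h₁ hy
  obtain ⟨n, fr, g, -, hginj, hfg⟩ := Module.Finite.exists_comp_eq_id_of_projective R M
  have star : ∀ (ψ φ : M →ₗ[R] R) (x f : M), x ∈ F₁ → f ∈ F₁ → ψ (π x) * φ f ^ k = 0 := by
    intro ψ φ x f hx hf
    set gg : Fin (k+1) → (M →ₗ[R] R) := fun i => if i = 0 then ψ ∘ₗ π else φ with hgg
    set Φ : (⨂[R] _ : Fin (k+1), M) →ₗ[R] R :=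
      PiTensorProduct.lift ((MultilinearMap.mkPiAlgebra R (Fin (k+1)) R).compLinearMap gg) with hΦdef
    have hΦ : ∀ m : Fin (k+1) → M, Φ (PiTensorProduct.tprod R m) = ∏ i, gg i (m i) := by
      intro m
      rw [hΦdef, PiTensorProduct.lift.tprod, MultilinearMap.compLinearMap_apply,
        MultilinearMap.mkPiAlgebra_apply]
    have hΦ0 : Φ ∘ₗ (PiTensorProduct.map (R := R) (fun _ : Fin (k+1) => F₂.subtype)) = 0 := by
      apply PiTensorProduct.ext
      ext m
      simp only [LinearMap.compMultilinearMap_apply, LinearMap.comp_apply, PiTensorProduct.map_tprod,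
        hΦ, LinearMap.zero_apply]
      apply Finset.prod_eq_zero (Finset.mem_univ 0)
      simp only [hgg, if_pos, LinearMap.comp_apply, Submodule.subtype_apply]
      rw [(hπker _).mpr (m 0).2, map_zero]
    set mm : Fin (k+1) → F₁ := fun i => if i = 0 then ⟨x, hx⟩ else ⟨f, hf⟩ with hmm
    have hmem : PiTensorProduct.map (R := R) (fun _ : Fin (k+1) => F₁.subtype)
        (PiTensorProduct.tprod R mm) ∈
        LinearMap.range (PiTensorProduct.map (R := R) (fun _ : Fin (k+1) => F₂.subtype)) :=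
      hle ⟨_, rfl⟩
    obtain ⟨t, ht⟩ := hmem
    have h0 : Φ (PiTensorProduct.map (R := R) (fun _ : Fin (k+1) => F₁.subtype)
        (PiTensorProduct.tprod R mm)) = 0 := by
      rw [← ht]; exact LinearMap.congr_fun hΦ0 t
    rw [PiTensorProduct.map_tprod, hΦ, Fin.prod_univ_succ] at h0
    simpa [hgg, hmm, Fin.succ_ne_zero] using h0
  set J : Ideal R := Ideal.span {a | ∃ (φ : M →ₗ[R] R) (f : M), f ∈ F₁ ∧ a = φ f} with hJ
  have hF1J : F₁ ≤ J • F₁ := by
    intro x hx
    have hx' : x = ∑ j, (g x j) • p₁ (fr (fun i => if j = i then 1 else 0)) := by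
      conv_lhs => rw [← hp₁id x hx]
      have : x = fr (g x) := (LinearMap.congr_fun hfg x).symm
      conv_lhs => rw [this]
      rw [LinearMap.pi_apply_eq_sum_univ fr (g x), map_sum]
      apply Finset.sum_congr rfl
      intro j _
      rw [map_smul]
    rw [hx']
    apply Submodule.sum_mem
    intro j _
    apply Submodule.smul_mem_smul _ (hp₁mem _)
    apply Ideal.subset_span
    exact ⟨LinearMap.proj j ∘ₗ g, x, hx, rfl⟩
  have hfg1 : F₁.FG := by
    have : Module.Finite R F₁ :=
      Module.Finite.of_surjective (Submodule.projectionOnto F₁ C₁ h₁)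
        (Submodule.projectionOnto_surjective h₁)
    exact Module.Finite.iff_fg.mp this
  obtain ⟨r, hrJ, hr⟩ :=
    Submodule.exists_sub_one_mem_and_smul_eq_zero_of_fg_of_le_smul J F₁ hfg1 hF1J
  set e : R := 1 - r with he
  have heJ : e ∈ J := by
    have := J.neg_mem hrJ
    rwa [neg_sub] at this
  have hex : ∀ x ∈ F₁, e • x = x := by
    intro x hx
    rw [he, sub_smul, one_smul, hr x hx, sub_zero]
  have hepow : ∀ (N : ℕ) (x : M), x ∈ F₁ → e ^ N • x = x := by
    intro N
    induction N with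
    | zero => intro x _; simp
    | succ N ih =>
      intro x hx
      rw [pow_succ, mul_smul, hex x hx, ih x hx]
  intro x hx
  rw [← hπker]
  apply hginj
  rw [map_zero]
  funext j
  set ψ : M →ₗ[R] R := LinearMap.proj j ∘ₗ g with hψ
  set 𝔞 : Ideal R := Submodule.annihilator (Submodule.map (ψ ∘ₗ π) F₁) with h𝔞
  have hJrad : J ≤ 𝔞.radical := by
    rw [hJ, Ideal.span_le]
    rintro a ⟨φ, f, hf, rfl⟩
    refine ⟨k, ?_⟩
    rw [h𝔞, Submodule.mem_annihilator]
    rintro _ ⟨y, hy, rfl⟩
    rw [smul_eq_mul, mul_comm]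
    exact star ψ φ y f hy hf
  obtain ⟨N, hN⟩ := hJrad heJ
  have h1 := (Submodule.mem_annihilator.mp hN) (ψ (π x)) ⟨x, hx, rfl⟩
  calc g (π x) j = ψ (π x) := rfl
    _ = ψ (π (e ^ N • x)) := by rw [hepow N x hx]
    _ = e ^ N • ψ (π x) := by rw [map_smul, map_smul]
    _ = 0 := h1

end Groth.Agent.Lib.TensorPowSummand
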