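import Mathlib

/-!
# Tensor products of local rings with purely inseparable residue extension (helper61)

`R → A` a local integral homomorphism of local rings whose residue field extension is purely
inseparable, `R → B` a local homomorphism of local rings.  Then `A ⊗[R] B` is a local ring,
`B → A ⊗[R] B` is local and integral, and every element of `A ⊗[R] B` has a `q^n`-th power
congruent to some `1 ⊗ b` modulo `J = m_A (A ⊗ B) + m_B (A ⊗ B)` (`q` the exponential
characteristic of the residue field of `B`).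
-/

set_option autoImplicit false
universe u

namespace Groth.Agent.Lib.TensorPurelyInsepLocal61

open IsLocalRing TensorProduct

section Integral

variable (R A B : Type u) [CommRing R] [CommRing A] [Algebra R A] [Algebra.IsIntegral R A]
  [CommRing B] [Algebra R B]

attribute [local instance] Algebra.TensorProduct.rightAlgebra

/-- `A ⊗[R] B` is integral over `B` when `A` is integral over `R`. -/
theorem isIntegral_right : Algebra.IsIntegral B (A ⊗[R] B) where
  isIntegral p := by
    induction p using TensorProduct.induction_on with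
    | zero => exact isIntegral_zero
    | tmul a b =>
      have ha : IsIntegral R a := Algebra.IsIntegral.isIntegral a
      have h1 : IsIntegral B ((a ⊗ₜ[R] (1 : B)) : A ⊗[R] B) := by
        refine ha.map_of_comp_eq (algebraMap R B)
          (Algebra.TensorProduct.includeLeft (R := R) (S := R) (A := A) (B := B)).toRingHom ?_
        ext r
        simp only [RingHom.coe_comp, Function.comp_apply, AlgHom.toRingHom_eq_coe,
          RingHom.coe_coe, Algebra.TensorProduct.includeLeft_apply,
          Algebra.TensorProduct.right_algebraMap_apply]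
        rw [Algebra.algebraMap_eq_smul_one, Algebra.algebraMap_eq_smul_one,
          TensorProduct.smul_tmul]
      have h2 : (a ⊗ₜ[R] b : A ⊗[R] B) = b • (a ⊗ₜ[R] (1 : B)) := by
        rw [Algebra.smul_def, Algebra.TensorProduct.right_algebraMap_apply,
          Algebra.TensorProduct.tmul_mul_tmul, one_mul, mul_one]
      rw [h2]
      exact h1.smul b
    | add x y hx hy => exact hx.add hy

end Integral

section Main

variable (R A B : Type u) [CommRing R] [IsLocalRing R]
  [CommRing A] [IsLocalRing A] [Algebra R A] [IsLocalHom (algebraMap R A)] [Algebra.IsIntegral R A]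
  [IsPurelyInseparable (ResidueField R) (ResidueField A)]
  [CommRing B] [IsLocalRing B] [Algebra R B] [IsLocalHom (algebraMap R B)]

/-- The ideal `J = m_A (A ⊗ B) + m_B (A ⊗ B)`. -/
noncomputable abbrev J : Ideal (A ⊗[R] B) :=
  (maximalIdeal A).map (Algebra.TensorProduct.includeLeft : A →ₐ[R] A ⊗[R] B) ⊔
    (maximalIdeal B).map (Algebra.TensorProduct.includeRight : B →ₐ[R] A ⊗[R] B)

omit [IsLocalHom (algebraMap R A)] [Algebra.IsIntegral R A]
  [IsPurelyInseparable (ResidueField R) (ResidueField A)] [IsLocalHom (algebraMap R B)] in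
theorem tmul_mem_J_left {a : A} (ha : a ∈ maximalIdeal A) (b : B) : a ⊗ₜ[R] b ∈ J R A B := by
  have h : (a ⊗ₜ[R] b : A ⊗[R] B) = (a ⊗ₜ[R] (1 : B)) * ((1 : A) ⊗ₜ[R] b) := by
    rw [Algebra.TensorProduct.tmul_mul_tmul, one_mul, mul_one]
  rw [h]
  exact Ideal.mul_mem_right _ _ (Ideal.mem_sup_left (Ideal.mem_map_of_mem _ ha))

omit [IsLocalHom (algebraMap R A)] [Algebra.IsIntegral R A]
  [IsPurelyInseparable (ResidueField R) (ResidueField A)] [IsLocalHom (algebraMap R B)] in
theorem tmul_mem_J_right (a : A) {b : B} (hb : b ∈ maximalIdeal B) : a ⊗ₜ[R] b ∈ J R A B := by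
  have h : (a ⊗ₜ[R] b : A ⊗[R] B) = (a ⊗ₜ[R] (1 : B)) * ((1 : A) ⊗ₜ[R] b) := by
    rw [Algebra.TensorProduct.tmul_mul_tmul, one_mul, mul_one]
  rw [h]
  exact Ideal.mul_mem_left _ _ (Ideal.mem_sup_right (Ideal.mem_map_of_mem _ hb))

/-- Every element of `A ⊗[R] B` has a `q^n`-th power congruent to some `1 ⊗ b` modulo `J`. -/
theorem exists_pow_sub_mem (q : ℕ) [hq : ExpChar (ResidueField B) q] (x : A ⊗[R] B) :
    ∃ (n : ℕ) (b : B), x ^ q ^ n - (1 : A) ⊗ₜ[R] b ∈ J R A B := by
  by_cases hJ : J R A B = ⊤
  · exact ⟨0, 0, by rw [hJ]; trivial⟩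
  -- the quotient `F = (A ⊗ B) / J` has exponential characteristic `q`
  have hnt : Nontrivial ((A ⊗[R] B) ⧸ J R A B) := Ideal.Quotient.nontrivial_iff.mpr hJ
  let π : A ⊗[R] B →+* (A ⊗[R] B) ⧸ J R A B := Ideal.Quotient.mk _
  let ψ : ResidueField B →+* (A ⊗[R] B) ⧸ J R A B :=
    Ideal.Quotient.lift (maximalIdeal B)
      (π.comp (Algebra.TensorProduct.includeRight : B →ₐ[R] A ⊗[R] B).toRingHom)
      (fun b hb => by
        change π ((1 : A) ⊗ₜ[R] b) = 0
        exact Ideal.Quotient.eq_zero_iff_mem.mpr (tmul_mem_J_right R A B 1 hb))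
  have hF : ExpChar ((A ⊗[R] B) ⧸ J R A B) q := expChar_of_injective_ringHom ψ.injective q
  have hRq : ExpChar (ResidueField R) q :=
    (algebraMap (ResidueField R) (ResidueField B)).expChar
      (algebraMap (ResidueField R) (ResidueField B)).injective q
  suffices h : ∃ (n : ℕ) (b : B), π x ^ q ^ n = π ((1 : A) ⊗ₜ[R] b) by
    obtain ⟨n, b, h⟩ := h
    refine ⟨n, b, ?_⟩
    rw [← Ideal.Quotient.eq, map_pow]
    exact h
  have hone : ∀ (b : B) (m : ℕ), π ((1 : A) ⊗ₜ[R] b) ^ m = π ((1 : A) ⊗ₜ[R] (b ^ m)) := by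
    intro b m
    rw [← map_pow, Algebra.TensorProduct.tmul_pow, one_pow]
  induction x using TensorProduct.induction_on with
  | zero =>
    refine ⟨0, 0, ?_⟩
    simp
  | tmul a b =>
    obtain ⟨n, y, hy⟩ := IsPurelyInseparable.pow_mem (ResidueField R) q (residue A a)
    obtain ⟨r, rfl⟩ := residue_surjective y
    have hmem : a ^ q ^ n - algebraMap R A r ∈ maximalIdeal A := by
      rw [← Ideal.Quotient.eq]
      change residue A (a ^ q ^ n) = residue A (algebraMap R A r)
      rw [map_pow]
      exact hy.symm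
    refine ⟨n, r • b ^ q ^ n, ?_⟩
    rw [← map_pow, Algebra.TensorProduct.tmul_pow, Ideal.Quotient.eq]
    have e : (a ^ q ^ n) ⊗ₜ[R] (b ^ q ^ n) - (1 : A) ⊗ₜ[R] (r • b ^ q ^ n)
        = (a ^ q ^ n - algebraMap R A r) ⊗ₜ[R] (b ^ q ^ n) := by
      rw [TensorProduct.sub_tmul, Algebra.algebraMap_eq_smul_one, TensorProduct.smul_tmul]
    rw [e]
    exact tmul_mem_J_left R A B hmem _
  | add x y hx hy =>
    obtain ⟨n₁, b₁, h₁⟩ := hx
    obtain ⟨n₂, b₂, h₂⟩ := hy
    refine ⟨n₁ + n₂, b₁ ^ q ^ n₂ + b₂ ^ q ^ n₁, ?_⟩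
    rw [map_add, add_pow_expChar_pow, TensorProduct.tmul_add, map_add]
    congr 1
    · rw [pow_add, pow_mul, h₁, hone]
    · rw [add_comm n₁ n₂, pow_add, pow_mul, h₂, hone]

/-- Any maximal ideal of `A ⊗[R] B` contracts to the maximal ideal of `B`. -/
theorem comap_includeRight_of_isMaximal (M : Ideal (A ⊗[R] B)) [hM : M.IsMaximal] :
    M.comap (Algebra.TensorProduct.includeRight : B →ₐ[R] A ⊗[R] B).toRingHom
      = maximalIdeal B := by
  let _ : Algebra B (A ⊗[R] B) := Algebra.TensorProduct.rightAlgebra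
  have hint : Algebra.IsIntegral B (A ⊗[R] B) := isIntegral_right R A B
  have hmax : (M.comap (algebraMap B (A ⊗[R] B))).IsMaximal :=
    Ideal.isMaximal_comap_of_isIntegral_of_isMaximal M
  exact IsLocalRing.eq_maximalIdeal hmax

/-- Any maximal ideal of `A ⊗[R] B` contracts to the maximal ideal of `A`. -/
theorem comap_includeLeft_of_isMaximal (M : Ideal (A ⊗[R] B)) [hM : M.IsMaximal] :
    M.comap (Algebra.TensorProduct.includeLeft : A →ₐ[R] A ⊗[R] B).toRingHom
      = maximalIdeal A := by
  set N := M.comap (Algebra.TensorProduct.includeLeft : A →ₐ[R] A ⊗[R] B).toRingHom with hN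
  have hprime : N.IsPrime := Ideal.comap_isPrime _ M
  have h1 : N.comap (algebraMap R A) = maximalIdeal R := by
    have e : N.comap (algebraMap R A) =
        (M.comap (Algebra.TensorProduct.includeRight : B →ₐ[R] A ⊗[R] B).toRingHom).comap
          (algebraMap R B) := by
      ext r
      simp only [hN, Ideal.mem_comap, AlgHom.toRingHom_eq_coe, RingHom.coe_coe,
        Algebra.TensorProduct.includeLeft_apply, Algebra.TensorProduct.includeRight_apply]
      rw [Algebra.algebraMap_eq_smul_one, Algebra.algebraMap_eq_smul_one (A := B),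
        TensorProduct.smul_tmul]
    rw [e, comap_includeRight_of_isMaximal R A B M, IsLocalRing.maximalIdeal_comap]
  have hmax : N.IsMaximal :=
    Ideal.isMaximal_of_isIntegral_of_isMaximal_comap N (h1 ▸ maximalIdeal.isMaximal R)
  exact IsLocalRing.eq_maximalIdeal hmax

theorem J_le_of_isMaximal (M : Ideal (A ⊗[R] B)) [hM : M.IsMaximal] : J R A B ≤ M := by
  refine sup_le ?_ ?_
  · rw [Ideal.map_le_iff_le_comap]
    exact (comap_includeLeft_of_isMaximal R A B M).ge
  · rw [Ideal.map_le_iff_le_comap]
    exact (comap_includeRight_of_isMaximal R A B M).ge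

/-- Membership in a maximal ideal of `A ⊗[R] B` is detected on `B` after raising to a power. -/
theorem mem_maximal_iff (q : ℕ) [hq : ExpChar (ResidueField B) q]
    (M : Ideal (A ⊗[R] B)) [hM : M.IsMaximal] (x : A ⊗[R] B) (n : ℕ) (b : B)
    (h : x ^ q ^ n - (1 : A) ⊗ₜ[R] b ∈ J R A B) : x ∈ M ↔ b ∈ maximalIdeal B := by
  have hJ := J_le_of_isMaximal R A B M
  have h1 : x ∈ M ↔ x ^ q ^ n ∈ M :=
    ⟨fun hx => Ideal.pow_mem_of_mem _ hx _ (expChar_pow_pos (ResidueField B) q n),
      fun hx => hM.isPrime.mem_of_pow_mem _ hx⟩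
  have h2 : x ^ q ^ n ∈ M ↔ (1 : A) ⊗ₜ[R] b ∈ M := by
    constructor
    · intro hx
      have := M.sub_mem hx (hJ h)
      simpa using this
    · intro hx
      have := M.add_mem (hJ h) hx
      simpa using this
  rw [h1, h2, ← comap_includeRight_of_isMaximal R A B M]
  rfl

/-- `A ⊗[R] B` is nontrivial. -/
theorem nontrivial_tensor : Nontrivial (A ⊗[R] B) := by
  -- map to the algebraic closure of the residue field of `B`
  let T := AlgebraicClosure (ResidueField B)
  have halg : Algebra.IsAlgebraic (ResidueField R) (ResidueField A) :=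
    (inferInstance : IsPurelyInseparable (ResidueField R) (ResidueField A)).isAlgebraic
  let σ : ResidueField A →ₐ[ResidueField R] T := IsAlgClosed.lift
  let _ : Algebra R T :=
    (((algebraMap (ResidueField B) T).comp (residue B)).comp (algebraMap R B)).toAlgebra
  let g : B →ₐ[R] T :=
    { (algebraMap (ResidueField B) T).comp (residue B) with commutes' := fun _ => rfl }
  let f : A →ₐ[R] T :=
    { (σ : ResidueField A →+* T).comp (residue A) with
      commutes' := fun r => by
        change σ (residue A (algebraMap R A r)) = _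
        have e1 : residue A (algebraMap R A r)
            = algebraMap (ResidueField R) (ResidueField A) (residue R r) := rfl
        rw [e1, σ.commutes]
        rfl }
  let Φ : A ⊗[R] B →ₐ[R] T := Algebra.TensorProduct.lift f g (fun _ _ => Commute.all _ _)
  exact Φ.toRingHom.domain_nontrivial

/-- `A ⊗[R] B` is a local ring. -/
theorem isLocalRing_tensor : IsLocalRing (A ⊗[R] B) := by
  have := nontrivial_tensor R A B
  obtain ⟨M, hM⟩ := Ideal.exists_maximal (A ⊗[R] B)
  refine IsLocalRing.of_unique_max_ideal ⟨M, hM, fun M' hM' => ?_⟩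
  ext x
  obtain ⟨n, b, h⟩ := exists_pow_sub_mem R A B (ringExpChar (ResidueField B)) x
  rw [mem_maximal_iff R A B _ M x n b h, mem_maximal_iff R A B _ M' x n b h]

end Main

end Groth.Agent.Lib.TensorPurelyInsepLocal61
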