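import Groth.Agent.Lib.CxDevissage54
import Groth.Agent.Lib.KFlatSES35
import Groth.Agent.Lib.FlatAmp4
import Groth.Agent.Lib.FlatAmp3
import Groth.Prelude.Def_DRing4
import Groth.Prelude.Def_DDual2
import Mathlib.Algebra.Homology.BifunctorShift

/-!
# Tor amplitude of `P ⊗_A E` over a base ring `R` (helper54)

Namespace `Groth.Agent.Lib.TensorTorAmp54`.

`R → A` a ring map, `P` a complex of `A`-modules whose restriction to `R` has tor amplitude in `[c, d]`, `E` a complex
of finite projective `A`-modules vanishing outside `[a, b]`.  Then the restriction to `R` of `P ⊗_A E` has tor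
amplitude in `[c + a, d + b]` (`pa_tensor`).  Dévissage on `E` (`CxDevissage54.cx_devissage`), using helper35's
`KFlatSES35.tensorLeft_shortExact`, Mathlib's `mapBifunctorShift₂Iso` and the flat amplitude calculus `FlatAmp`.
-/

set_option autoImplicit false
universe u

open CategoryTheory CategoryTheory.Limits Category MonoidalCategory Pretriangulated

attribute [local instance] HasDerivedCategory.standard

namespace Groth.Agent.Lib.TensorTorAmp54

section GeneralModules

variable {A : Type u} [CommRing A]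

lemma flat_single_X (i n : ℤ) (N : ModuleCat.{u} A) [hN : Module.Flat A N] :
    Module.Flat A ((((HomologicalComplex.single (ModuleCat.{u} A) (ComplexShape.up ℤ) i).obj N).X n)) := by
  by_cases hn : n = i
  · subst hn
    exact Module.Flat.of_linearEquiv
      (HomologicalComplex.singleObjXSelf (ComplexShape.up ℤ) n N).toLinearEquiv
  · have hz := HomologicalComplex.isZero_single_obj_X (ComplexShape.up ℤ) i N n hn
    have := ModuleCat.subsingleton_of_isZero hz
    have : Module.Free A ((((HomologicalComplex.single (ModuleCat.{u} A) (ComplexShape.up ℤ) i).obj N).X n)) :=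
      Module.Free.of_subsingleton A _
    infer_instance

/-- split short exact sequence `N₁ → N₁ × N₂ → N₂` -/
noncomputable def prodSC (N₁ N₂ : Type u) [AddCommGroup N₁] [Module A N₁] [AddCommGroup N₂] [Module A N₂] :
    ShortComplex (ModuleCat.{u} A) :=
  ShortComplex.mk (ModuleCat.ofHom (LinearMap.inl A N₁ N₂)) (ModuleCat.ofHom (LinearMap.snd A N₁ N₂))
    (by ext x; simp)

noncomputable def prodSplitting (N₁ N₂ : Type u) [AddCommGroup N₁] [Module A N₁] [AddCommGroup N₂]
    [Module A N₂] : (prodSC (A := A) N₁ N₂).Splitting where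
  r := ModuleCat.ofHom (LinearMap.fst A N₁ N₂)
  s := ModuleCat.ofHom (LinearMap.inr A N₁ N₂)
  f_r := by ext x; simp [prodSC]
  s_g := by ext x; simp [prodSC]
  id := by
    ext x
    change ((x : N₁ × N₂).1, (0 : N₂)) + ((0 : N₁), (x : N₁ × N₂).2) = x
    ext <;> simp

end GeneralModules

open DerivedCategory Groth.Agent.Lib.PCohAmp Groth.Agent.Lib.DRingPerfAmp Groth.Agent.Lib.FlatAmp

section Retract

variable (R : Type u) [CommRing R]

/-- flat amplitude passes to retracts -/
theorem pa_fl_of_retract (a b : ℤ) {K L : DerivedCategory (ModuleCat.{u} R)} (i : K ⟶ L) (r : L ⟶ K)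
    (h : i ≫ r = 𝟙 K) (hL : PA (FL R) a b L) : PA (FL R) a b K := by
  obtain ⟨C, g, δ, hT⟩ := distinguished_cocone_triangle i
  have h3 : δ = 0 := by
    have h31 : δ ≫ i⟦(1 : ℤ)⟧' = 0 := comp_distTriang_mor_zero₃₁ _ hT
    have : δ = δ ≫ i⟦(1 : ℤ)⟧' ≫ r⟦(1 : ℤ)⟧' := by
      rw [← CategoryTheory.Functor.map_comp, h, CategoryTheory.Functor.map_id, comp_id]
    rw [this, ← assoc, h31, zero_comp]
  obtain ⟨e, -, -⟩ := exists_iso_binaryBiproduct_of_distTriang _ hT h3
  exact pa_fl_of_biprod_left R a b K C (pa_of_iso e hL)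

end Retract

variable {R A : Type u} [CommRing R] [CommRing A] [Algebra R A]

/-- `E ↦ (P ⊗_A E)|_R` as a functor to `D(R)`. -/
noncomputable abbrev Ψ (P : DRing.Cx A) : DRing.Cx A ⥤ Dual.D R :=
  tensorLeft P ⋙ DerivedCategory.Q ⋙ DRing.restrictD (algebraMap R A)

variable (P : DRing.Cx A)

/-- extension step -/
theorem pa_ext (x y : ℤ) (S : ShortComplex (DRing.Cx A)) (hS : S.ShortExact)
    (h3 : ∀ n : ℤ, Module.Flat A (S.X₃.X n))
    (h₁ : PA (FL R) x y ((Ψ (R := R) P).obj S.X₁)) (h₃ : PA (FL R) x y ((Ψ (R := R) P).obj S.X₃)) :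
    PA (FL R) x y ((Ψ (R := R) P).obj S.X₂) := by
  have hS' := Groth.Agent.Lib.KFlatSES35.tensorLeft_shortExact P S hS h3
  have hT := DerivedCategory.triangleOfSES_distinguished hS'
  have hT' := (DRing.restrictD (algebraMap R A)).map_distinguished _ hT
  exact pa_fl_ext R x y _ hT' h₁ h₃

noncomputable def tensorSingleUnitIso (i : ℤ) :
    P ⊗ (HomologicalComplex.single (ModuleCat.{u} A) (ComplexShape.up ℤ) i).obj (ModuleCat.of A A) ≅
      P⟦-i⟧ :=
  whiskerLeftIso P (((CochainComplex.singleFunctors (ModuleCat.{u} A)).shiftIso (-i) i 0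
      (by simp)).app (ModuleCat.of A A)).symm ≪≫
    CochainComplex.mapBifunctorShift₂Iso P (𝟙_ (DRing.Cx A)) (curriedTensor (ModuleCat.{u} A)) (-i) ≪≫
    (shiftFunctor (DRing.Cx A) (-i)).mapIso (ρ_ P)

theorem pa_base (c d : ℤ)
    (hP : PA (FL R) c d ((DRing.restrictD (algebraMap R A)).obj (DerivedCategory.Q.obj P))) (i : ℤ) :
    PA (FL R) (c + i) (d + i) ((Ψ (R := R) P).obj
      ((HomologicalComplex.single (ModuleCat.{u} A) (ComplexShape.up ℤ) i).obj (ModuleCat.of A A))) := by
  have e : (Ψ (R := R) P).obj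
      ((HomologicalComplex.single (ModuleCat.{u} A) (ComplexShape.up ℤ) i).obj (ModuleCat.of A A)) ≅
      ((DRing.restrictD (algebraMap R A)).obj (DerivedCategory.Q.obj P))⟦-i⟧ :=
    (DerivedCategory.Q ⋙ DRing.restrictD (algebraMap R A)).mapIso (tensorSingleUnitIso P i) ≪≫
      (DRing.restrictD (algebraMap R A)).mapIso ((DerivedCategory.Q.commShiftIso (-i)).app P) ≪≫
      ((DRing.restrictD (algebraMap R A)).commShiftIso (-i)).app _
  exact pa_of_iso e.symm (pa_mono (by lia) (by lia) (pa_shift hP (-i)))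

lemma Ψ_map_zero (X Y : DRing.Cx A) : (Ψ (R := R) P).map (0 : X ⟶ Y) = 0 := by
  dsimp [Ψ]
  rw [Groth.Agent.Lib.KFlatSES35.whiskerLeft_zero']
  simp

lemma isZero_Ψ_obj {X : DRing.Cx A} (hX : IsZero X) : IsZero ((Ψ (R := R) P).obj X) := by
  rw [IsZero.iff_id_eq_zero, ← CategoryTheory.Functor.map_id, hX.eq_of_src (𝟙 X) 0, Ψ_map_zero]

/-- the class of modules `N` such that `(P ⊗ N[-i])|_R` has flat amplitude in `[c + i, d + i]` for all `i` -/
def NN (c d : ℤ) (N : ModuleCat.{u} A) : Prop :=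
  ∀ i : ℤ, PA (FL R) (c + i) (d + i) ((Ψ (R := R) P).obj
    ((HomologicalComplex.single (ModuleCat.{u} A) (ComplexShape.up ℤ) i).obj N))

variable {P}

lemma nn_of_retract {c d : ℤ} {N F : ModuleCat.{u} A} (s : N ⟶ F) (r : F ⟶ N) (h : s ≫ r = 𝟙 N)
    (hF : NN (R := R) P c d F) : NN (R := R) P c d N := fun i => by
  have h' : (Ψ (R := R) P).map
      ((HomologicalComplex.single (ModuleCat.{u} A) (ComplexShape.up ℤ) i).map s) ≫
      (Ψ (R := R) P).map
      ((HomologicalComplex.single (ModuleCat.{u} A) (ComplexShape.up ℤ) i).map r) = 𝟙 _ := by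
    rw [← CategoryTheory.Functor.map_comp, ← CategoryTheory.Functor.map_comp, h,
      CategoryTheory.Functor.map_id, CategoryTheory.Functor.map_id]
  exact pa_fl_of_retract R _ _ _ _ h' (hF i)

lemma nn_of_iso {c d : ℤ} {N F : ModuleCat.{u} A} (e : N ≅ F)
    (hF : NN (R := R) P c d F) : NN (R := R) P c d N :=
  nn_of_retract e.hom e.inv e.hom_inv_id hF

lemma nn_of_isZero {c d : ℤ} {N : ModuleCat.{u} A} (hN : IsZero N) : NN (R := R) P c d N := fun i =>
  pa_of_isZero R _ _ (isZero_Ψ_obj P
    ((HomologicalComplex.single (ModuleCat.{u} A) (ComplexShape.up ℤ) i).map_isZero hN))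

lemma nn_prod {c d : ℤ} (N₁ N₂ : Type u) [AddCommGroup N₁] [Module A N₁] [AddCommGroup N₂] [Module A N₂]
    [Module.Flat A N₂] (h₁ : NN (R := R) P c d (ModuleCat.of A N₁))
    (h₂ : NN (R := R) P c d (ModuleCat.of A N₂)) :
    NN (R := R) P c d (ModuleCat.of A (N₁ × N₂)) := by
  intro i
  have hS := ((prodSplitting (A := A) N₁ N₂).map
    (HomologicalComplex.single (ModuleCat.{u} A) (ComplexShape.up ℤ) i)).shortExact
  exact pa_ext P _ _ _ hS (fun n => flat_single_X i n (ModuleCat.of A N₂)) (h₁ i) (h₂ i)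

lemma nn_fin {c d : ℤ} (hA : NN (R := R) P c d (ModuleCat.of A A)) (n : ℕ) :
    NN (R := R) P c d (ModuleCat.of A (Fin n → A)) := by
  induction n with
  | zero => exact nn_of_isZero (ModuleCat.isZero_of_subsingleton _)
  | succ n ih =>
    have e : ModuleCat.of A (Fin (n + 1) → A) ≅ ModuleCat.of A (A × (Fin n → A)) :=
      (Fin.consLinearEquiv A (fun _ : Fin (n + 1) => A)).symm.toModuleIso
    exact nn_of_iso e (nn_prod A (Fin n → A) hA ih)

lemma nn_of_finite_projective {c d : ℤ} (hA : NN (R := R) P c d (ModuleCat.of A A))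
    (N : ModuleCat.{u} A) [Module.Finite A N] [Module.Projective A N] : NN (R := R) P c d N := by
  obtain ⟨n, f, g, -, -, hfg⟩ := Module.Finite.exists_comp_eq_id_of_projective A N
  refine nn_of_retract (F := ModuleCat.of A (Fin n → A)) (ModuleCat.ofHom g) (ModuleCat.ofHom f) ?_
    (nn_fin hA n)
  ext x
  exact congr($hfg x)

/-- Main theorem: tor amplitude of `(P ⊗_A E)|_R`. -/
theorem pa_tensor (c d a b : ℤ)
    (hP : PA (FL R) c d ((DRing.restrictD (algebraMap R A)).obj (DerivedCategory.Q.obj P)))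
    (E : DRing.Cx A) (hE : DRing.VanishesOutside E a b) (hEp : DRing.TermwiseFiniteProjective E) :
    PA (FL R) (c + a) (d + b) ((Ψ (R := R) P).obj E) := by
  have hA : NN (R := R) P c d (ModuleCat.of A A) := fun i => pa_base P c d hP i
  let Pt : ObjectProperty (ModuleCat.{u} A) := fun N => Module.Finite A N ∧ Module.Projective A N
  have : Pt.IsClosedUnderIsomorphisms := ⟨fun {X Y} e h => by
    obtain ⟨h1, h2⟩ := h
    exact ⟨Module.Finite.equiv e.toLinearEquiv, Module.Projective.of_equiv e.toLinearEquiv⟩⟩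
  let V : ObjectProperty (DRing.Cx A) := fun E' => PA (FL R) (c + a) (d + b) ((Ψ (R := R) P).obj E')
  have : V.IsClosedUnderIsomorphisms := ⟨fun {X Y} e h => pa_of_iso ((Ψ (R := R) P).mapIso e) h⟩
  refine Groth.Agent.Lib.CxDevissage54.cx_devissage Pt ?_ V ?_ ?_ E a b hE hEp ?_
  · intro Z hZ
    have := ModuleCat.subsingleton_of_isZero hZ
    exact ⟨inferInstance, inferInstance⟩
  · intro S hS h3 h₁ h₃
    exact pa_ext P _ _ S hS (fun n => by
      have := (h3 n).2
      infer_instance) h₁ h₃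
  · intro Z hZ
    exact pa_of_isZero R _ _ (isZero_Ψ_obj P hZ)
  · intro i X ⟨e⟩
    by_cases hi : a ≤ i ∧ i ≤ b
    · have := (hEp i).1
      have := (hEp i).2
      have : Module.Finite A X := Module.Finite.equiv e.symm.toLinearEquiv
      have : Module.Projective A X := Module.Projective.of_equiv e.symm.toLinearEquiv
      exact pa_mono (by lia) (by lia) (nn_of_finite_projective hA X i)
    · have hX : IsZero X := (hE i (by lia)).of_iso e
      exact pa_of_isZero R _ _ (isZero_Ψ_obj P
        ((HomologicalComplex.single (ModuleCat.{u} A) (ComplexShape.up ℤ) i).map_isZero hX))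

end Groth.Agent.Lib.TensorTorAmp54
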