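import Groth.Agent.Lib.RlimTrunc31
import Groth.Agent.Lib.RlimMilnor31
import Groth.Agent.Lib.DProd31

/-!
# `H^q(U, K) = H^q(K)(U)` on a class of objects where the cohomology sheaves are acyclic (helper31)
-/

set_option autoImplicit false
set_option linter.unusedSectionVars false

open CategoryTheory CategoryTheory.Limits Opposite Pretriangulated DerivedCategory
  DerivedCategory.TStructure

universe u

namespace Groth.Agent.ThetaBij31

open Groth.Agent.FreeSheaf31 Groth.Agent.SingleMaps31 Groth.Agent.HomologySheafLocal31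
  Groth.Agent.HyperLocal31 Groth.Agent.RlimLocal31 Groth.Agent.RlimSheaf31
  Groth.Agent.RlimTower31 Groth.Agent.TruncStep31 Groth.Agent.RlimTrunc31
  Groth.Agent.RlimMilnor31

variable {C : Type u} [SmallCategory C] {J : GrothendieckTopology C}
  [HasDerivedCategory.{u} (Sheaf J AddCommGrpCat.{u})]

instance isIso_σ (G : Sheaf J AddCommGrpCat.{u}) : IsIso (σ G) := by
  have h1 : IsIso (HomologicalComplex.singleObjHomologySelfIso (ComplexShape.up ℤ) 0 G).inv :=
    inferInstance
  have h2 : IsIso ((homologyFunctorFactors (Sheaf J AddCommGrpCat.{u}) 0).inv.app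
      ((s0 (𝒜 := Sheaf J AddCommGrpCat.{u})).obj G)) := inferInstance
  exact IsIso.comp_isIso' h1 h2

/-- `θ` is bijective for a sheaf in degree zero -/
lemma θfun_single_bijective (U : C) (G : Sheaf J AddCommGrpCat.{u}) :
    Function.Bijective (θfun U (Q.obj ((s0 (𝒜 := Sheaf J AddCommGrpCat.{u})).obj G))) := by
  have key : ∀ g : (Zf J).obj U ⟶ G,
      θfun U (Q.obj ((s0 (𝒜 := Sheaf J AddCommGrpCat.{u})).obj G))
        (Q.map ((s0 (𝒜 := Sheaf J AddCommGrpCat.{u})).map g)) = homEquiv U _ (g ≫ σ G) := by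
    intro g
    unfold θfun
    congr 1
    exact σ_naturality g
  have hsurj : ∀ f : ZD J U ⟶ Q.obj ((s0 (𝒜 := Sheaf J AddCommGrpCat.{u})).obj G),
      ∃ g : (Zf J).obj U ⟶ G, Q.map ((s0 (𝒜 := Sheaf J AddCommGrpCat.{u})).map g) = f :=
    fun f => (singleFunctor (Sheaf J AddCommGrpCat.{u}) 0).map_surjective f
  obtain ⟨τ, hτ1, hτ2⟩ := (isIso_σ G).out
  constructor
  · intro f f' hff
    obtain ⟨g, rfl⟩ := hsurj f
    obtain ⟨g', rfl⟩ := hsurj f'
    rw [key, key] at hff
    have h1 := (homEquiv U _).injective hff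
    have h2 := congrArg (· ≫ τ) h1
    simp only [Category.assoc, hτ1, Category.comp_id] at h2
    rw [h2]
  · intro s
    refine ⟨Q.map ((s0 (𝒜 := Sheaf J AddCommGrpCat.{u})).map ((homEquiv U _).symm s ≫ τ)), ?_⟩
    rw [key, Category.assoc, hτ2, Category.comp_id, Equiv.apply_symm_apply]

/-- transfer of bijectivity of `θ` along a map inducing bijections on both sides -/
lemma transfer {K₁ K₂ : DerivedCategory (Sheaf J AddCommGrpCat.{u})} (α : K₁ ⟶ K₂) (U : C)
    (hα : Function.Bijective (fun ξ : ZD J U ⟶ K₁ => ξ ≫ α))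
    [IsIso ((homologyFunctor (Sheaf J AddCommGrpCat.{u}) 0).map α)] :
    Function.Bijective (θfun U K₁) ↔ Function.Bijective (θfun U K₂) := by
  let Φ := sheafToPresheaf J AddCommGrpCat.{u} ⋙ ev U
  have hH : Function.Bijective
      (Φ.map ((homologyFunctor (Sheaf J AddCommGrpCat.{u}) 0).map α)) :=
    ConcreteCategory.bijective_of_isIso _
  have hsq : θfun U K₂ ∘ (fun ξ : ZD J U ⟶ K₁ => ξ ≫ α) =
      (Φ.map ((homologyFunctor (Sheaf J AddCommGrpCat.{u}) 0).map α)) ∘ θfun U K₁ := by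
    funext ξ
    exact θfun_comp U ξ α
  rw [← Function.Bijective.of_comp_iff (θfun U K₂) hα, hsq,
    Function.Bijective.of_comp_iff' hH]

lemma transfer_iso {K₁ K₂ : DerivedCategory (Sheaf J AddCommGrpCat.{u})} (e : K₁ ≅ K₂) (U : C) :
    Function.Bijective (θfun U K₁) ↔ Function.Bijective (θfun U K₂) := by
  refine transfer e.hom U ⟨fun ξ ξ' h => ?_, fun y => ⟨y ≫ e.inv, ?_⟩⟩
  · exact (cancel_mono e.hom).1 h
  · change (y ≫ e.inv) ≫ e.hom = y
    rw [Category.assoc, e.inv_hom_id, Category.comp_id]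

lemma isIso_H0_shift_map {K₁ K₂ : DerivedCategory (Sheaf J AddCommGrpCat.{u})} (α : K₁ ⟶ K₂)
    (q : ℤ) [IsIso ((homologyFunctor (Sheaf J AddCommGrpCat.{u}) q).map α)] :
    IsIso ((homologyFunctor (Sheaf J AddCommGrpCat.{u}) 0).map ((shiftFunctor _ q).map α)) := by
  let e := (homologyFunctor (Sheaf J AddCommGrpCat.{u}) 0).shiftIso q 0 q (add_zero q)
  exact (NatIso.isIso_map_iff e α).2 (by assumption)

lemma hom_ZD_eq_zero_of_isGE (U : C) (X : DerivedCategory (Sheaf J AddCommGrpCat.{u}))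
    (b q : ℤ) [X.IsGE b] (hq : q < b) (ξ : ZD J U ⟶ (shiftFunctor _ q).obj X) : ξ = 0 := by
  have h1 : ((shiftFunctor _ q).obj X).IsGE (b - q) := t.isGE_shift X b q (b - q) (by omega)
  have h2 : (ZD J U).IsLE 0 :=
    inferInstanceAs (((singleFunctor (Sheaf J AddCommGrpCat.{u}) 0).obj ((Zf J).obj U)).IsLE 0)
  exact t.zero_of_isLE_of_isGE ξ 0 (b - q) (by omega) h2 h1

omit [HasDerivedCategory.{u} (Sheaf J AddCommGrpCat.{u})] in
lemma eq_zero_of_isZero_sheaf {Z : Sheaf J AddCommGrpCat.{u}} (hZ : IsZero Z) (U : C)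
    (x : Z.obj.obj (op U)) : x = 0 := by
  have hid : 𝟙 Z = 0 := hZ.eq_of_src _ _
  calc x = (𝟙 Z : Z ⟶ Z).hom.app (op U) x := rfl
    _ = (0 : Z ⟶ Z).hom.app (op U) x := by rw [hid]
    _ = 0 := rfl

/-- the fibre inclusion induces an isomorphism on `H^a` -/
lemma isIso_homologyMap_fiber (E : DerivedCategory (Sheaf J AddCommGrpCat.{u})) (a b : ℤ)
    (h : a + 1 = b) (hab : a ≤ b) {X₁ : DerivedCategory (Sheaf J AddCommGrpCat.{u})}
    (f : X₁ ⟶ (t.truncGE a).obj E) (g : (t.truncGE b).obj E ⟶ X₁⟦(1 : ℤ)⟧)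
    (hT : Triangle.mk f (ν E a b hab) g ∈ distTriang _) :
    IsIso ((homologyFunctor (Sheaf J AddCommGrpCat.{u}) a).map f) := by
  have zb : ∀ i, i < b → IsZero ((homologyFunctor (Sheaf J AddCommGrpCat.{u}) i).obj
      ((t.truncGE b).obj E)) :=
    fun i hi => isZero_of_isGE ((t.truncGE b).obj E) b i hi
  have hmono : Mono ((homologyFunctor (Sheaf J AddCommGrpCat.{u}) a).map f) :=
    (HomologySequence.mono_homologyMap_mor₁_iff _ hT (a - 1) a (by omega)).2
      ((zb (a - 1) (by omega)).eq_of_src _ _)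
  have hepi : Epi ((homologyFunctor (Sheaf J AddCommGrpCat.{u}) a).map f) :=
    (HomologySequence.epi_homologyMap_mor₁_iff _ hT a).2 ((zb a (by omega)).eq_of_tgt _ _)
  exact isIso_of_mono_of_epi _

section Main

variable (K : DerivedCategory (Sheaf J AddCommGrpCat.{u})) (B : Set C)
  (h : ∀ U ∈ B, ∀ (p : ℕ) (q : ℤ), Subsingleton (CohSite.HU (CohCx.HD K q) (p + 1) U))

include h in
lemma fiber_vanish' (U : C) (hU : U ∈ B) (a : ℤ)
    (X₁ : DerivedCategory (Sheaf J AddCommGrpCat.{u}))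
    (e : X₁ ≅ (singleFunctor (Sheaf J AddCommGrpCat.{u}) a).obj
      ((homologyFunctor (Sheaf J AddCommGrpCat.{u}) a).obj K)) (m : ℤ) (hm : m ≠ a)
    (ξ : ZD J U ⟶ (shiftFunctor _ m).obj X₁) : ξ = 0 :=
  fiber_vanish K a X₁ e U m (fun k hk => by
    obtain ⟨p, rfl⟩ : ∃ p, k = p + 1 :=
      Nat.exists_eq_succ_of_ne_zero (by rintro rfl; simp at hk; omega)
    exact h U hU p _) ξ

include h in
/-- `θ` is bijective over `U ∈ B` for the truncations -/
theorem trunc_bij (d : ℕ) : ∀ (q b : ℤ), b + d = q + 1 → ∀ U ∈ B,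
    Function.Bijective (θfun U ((shiftFunctor _ q).obj ((t.truncGE b).obj K))) := by
  induction d with
  | zero =>
    intro q b hb U hU
    have hb' : q < b := by omega
    have hsrc : ∀ ξ : ZD J U ⟶ (shiftFunctor _ q).obj ((t.truncGE b).obj K), ξ = 0 :=
      hom_ZD_eq_zero_of_isGE U _ b q hb'
    have htgt : IsZero ((homologyFunctor (Sheaf J AddCommGrpCat.{u}) 0).obj
        ((shiftFunctor _ q).obj ((t.truncGE b).obj K))) :=
      (isZero_of_isGE ((t.truncGE b).obj K) b q hb').of_iso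
        (((homologyFunctor (Sheaf J AddCommGrpCat.{u}) 0).shiftIso q 0 q (add_zero q)).app _)
    constructor
    · intro x y _
      rw [hsrc x, hsrc y]
    · intro s
      exact ⟨0, (eq_zero_of_isZero_sheaf htgt U _).trans (eq_zero_of_isZero_sheaf htgt U s).symm⟩
  | succ d ih =>
    intro q b hb U hU
    have hab : b ≤ b + 1 := by omega
    obtain ⟨X₁, f, g, hT⟩ := distinguished_cocone_triangle₁ (ν K b (b + 1) hab)
    obtain ⟨e⟩ := fiber_iso K b (b + 1) rfl hab f g hT
    have ih' := ih q (b + 1) (by omega) U hU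
    by_cases hd : d = 0
    · subst hd
      obtain rfl : q = b := by omega
      have : IsIso ((homologyFunctor (Sheaf J AddCommGrpCat.{u}) q).map f) :=
        isIso_homologyMap_fiber K q (q + 1) rfl hab f g hT
      have := isIso_H0_shift_map f q
      have hα : Function.Bijective
          (fun ξ : ZD J U ⟶ (shiftFunctor _ q).obj X₁ => ξ ≫ (shiftFunctor _ q).map f) := by
        constructor
        · intro ξ ξ' hξ
          rw [← sub_eq_zero]
          refine eq_zero_of_comp_mor₁ _ hT (ZD J U) (q - 1) q (by omega)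
            (hom_ZD_eq_zero_of_isGE U ((t.truncGE (q + 1)).obj K) (q + 1) (q - 1) (by omega)) (ξ - ξ') ?_
          change (ξ - ξ') ≫ (shiftFunctor _ q).map f = 0
          rw [Preadditive.sub_comp, sub_eq_zero]
          exact hξ
        · intro y
          exact exists_lift_mor₁ _ hT (ZD J U) q
            (hom_ZD_eq_zero_of_isGE U ((t.truncGE (q + 1)).obj K) (q + 1) q (by omega)) y
      refine (transfer ((shiftFunctor _ q).map f) U hα).1 ?_
      let G := (homologyFunctor (Sheaf J AddCommGrpCat.{u}) q).obj K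
      let i : (shiftFunctor _ q).obj X₁ ≅ Q.obj ((s0 (𝒜 := Sheaf J AddCommGrpCat.{u})).obj G) :=
        (shiftFunctor _ q).mapIso e ≪≫ singleShiftIso G q q 0 (by omega) ≪≫
          (shiftFunctorZero _ ℤ).app _
      exact (transfer_iso i U).2 (θfun_single_bijective U G)
    · have hq : b + 1 ≤ q := by omega
      have : IsIso ((homologyFunctor (Sheaf J AddCommGrpCat.{u}) q).map (ν K b (b + 1) hab)) :=
        isIso_homologyMap_ν K b (b + 1) q hab hq
      have := isIso_H0_shift_map (ν K b (b + 1) hab) q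
      have hα : Function.Bijective
          (fun ξ : ZD J U ⟶ (shiftFunctor _ q).obj ((t.truncGE b).obj K) =>
            ξ ≫ (shiftFunctor _ q).map (ν K b (b + 1) hab)) := by
        constructor
        · intro ξ ξ' hξ
          rw [← sub_eq_zero]
          refine eq_zero_of_comp_mor₂ _ hT (ZD J U) q
            (fiber_vanish' K B h U hU b X₁ e q (by omega)) (ξ - ξ') ?_
          change (ξ - ξ') ≫ (shiftFunctor _ q).map (ν K b (b + 1) hab) = 0
          rw [Preadditive.sub_comp, sub_eq_zero]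
          exact hξ
        · intro y
          exact exists_lift_mor₂ _ hT (ZD J U) q (q + 1) rfl
            (fiber_vanish' K B h U hU b X₁ e (q + 1) (by omega)) y
      exact (transfer ((shiftFunctor _ q).map (ν K b (b + 1) hab)) U hα).2 ih'

end Main

lemma hasProduct_truncTower (K : DerivedCategory (Sheaf J AddCommGrpCat.{u})) :
    HasProduct (CohCx.truncTower K) :=
  Groth.Agent.DProd31.hasProduct_of_isGE (CohCx.truncTower K) (fun n => -(n : ℤ))
    (fun n => inferInstanceAs (((t.truncGE (-(n : ℤ))).obj K).IsGE (-(n : ℤ))))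

section Main2

variable (K : DerivedCategory (Sheaf J AddCommGrpCat.{u})) (B : Set C)
  (h : ∀ U ∈ B, ∀ (p : ℕ) (q : ℤ), Subsingleton (CohSite.HU (CohCx.HD K q) (p + 1) U))

include h in
/-- **`θ : H^q(U, K) → H^q(K)(U)` is bijective for `U ∈ B`** -/
theorem θfun_bijective (hB : Covers J B) (U : C) (hU : U ∈ B) (q : ℤ) :
    Function.Bijective (θfun U ((shiftFunctor _ q).obj K)) := by
  have := hasProduct_truncTower K
  have hvan : ∀ (V : C), V ∈ B → ∀ (m : ℤ) (k : ℕ), (0 : ℤ) < k →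
      Subsingleton (CohSite.HU (CohCx.HD K (m - k)) k V) := by
    intro V hV m k hk
    obtain ⟨p, rfl⟩ : ∃ p, k = p + 1 :=
      Nat.exists_eq_succ_of_ne_zero (by rintro rfl; simp at hk)
    exact h V hV p _
  have hR : CohCx.IsRlimVia (CohCx.truncTower K) (CohCx.truncTowerMap K) K
      (CohCx.toTruncTower K) :=
    isRlimVia_truncTower K B hB (fun V hV => ⟨fun _ => 0, fun T hT => by
      obtain ⟨ι, Y', f, hf, hcov, hmem⟩ := exists_B_refinement hB T hT
      exact ⟨ι, Y', f, hf, hcov, fun i m k hk => hvan _ (hmem i) m k hk⟩⟩)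
  let n : ℕ := (-q).toNat
  obtain ⟨hl1, hl2⟩ := local_conditions K U q 0 (hvan U hU q)
  have : IsIso ((homologyFunctor (Sheaf J AddCommGrpCat.{u}) q).map (CohCx.toTruncTower K n)) :=
    isIso_homologyMap_toTruncTower K n q (by omega)
  have := isIso_H0_shift_map (CohCx.toTruncTower K n) q
  have hα : Function.Bijective (fun ξ : ZD J U ⟶ (shiftFunctor _ q).obj K =>
      ξ ≫ (shiftFunctor _ q).map (CohCx.toTruncTower K n)) := by
    constructor
    · intro ξ ξ' hξ
      rw [← sub_eq_zero]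
      refine RlimTri31.eq_zero_of_comp_eq_zero _ _ K _ hR (ZD J U) q n hl1 (hl2 n (by omega))
        (ξ - ξ') ?_
      rw [Preadditive.sub_comp, sub_eq_zero]
      exact hξ
    · intro x
      refine surjective_of_tower _ _ K _ hR (ZD J U) q n (fun n' hn' => ?_) x
      refine tower_surjective _ _ (ZD J U) q (q + 1) rfl n (fun n'' hn'' => ?_) n' hn'
      obtain ⟨X₁, f, g, hT, ⟨e⟩⟩ := exists_fiber K n''
      exact ⟨X₁, f, g, hT, fiber_vanish' K B h U hU _ X₁ e (q + 1) (by push_cast; omega)⟩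
  refine (transfer _ U hα).2 ?_
  exact trunc_bij K B h (q + 1 + n).toNat q (-(n : ℤ)) (by omega) U hU

include h in
/-- **S0877** -/
theorem nonempty_addEquiv (hB : Covers J B) (U : C) (hU : U ∈ B) (q : ℤ) :
    Nonempty (CohCx.HDU K q U ≃+ (CohCx.HD K q).obj.obj (op U)) := by
  have hbij := θfun_bijective K B h hB U hU q
  let e1 : (ZD J U ⟶ (shiftFunctor _ q).obj K) ≃+
      ((homologyFunctor (Sheaf J AddCommGrpCat.{u}) 0).obj
        ((shiftFunctor _ q).obj K)).obj.obj (op U) :=
    AddEquiv.ofBijective ((θ ((shiftFunctor _ q).obj K)).app (op U)).hom hbij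
  let Φ := sheafToPresheaf J AddCommGrpCat.{u} ⋙ ev U
  let e2 := (Φ.mapIso (((homologyFunctor (Sheaf J AddCommGrpCat.{u}) 0).shiftIso q 0 q
    (add_zero q)).app K)).addCommGroupIsoToAddEquiv
  exact ⟨e1.trans e2⟩

end Main2

end Groth.Agent.ThetaBij31
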