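import Groth.Agent.Lib.ThickCocycle
import Groth.Agent.Lib.H78PullSec2
import Groth.Agent.Lib.H78PullAmple
import Groth.Agent.Lib.H78ExtTensor
import Groth.Agent.Lib.H78KeyLemma2
import Groth.Agent.Lib.H78AmpleBasis

/-!
# Ampleness ascends along thickenings (helper24)

`isAmple_of_thickening` : if `i : Z ⟶ X` is a closed immersion and a homeomorphism, `L` invertible on `X` and
`i^* L` ample on `Z`, then `L` is ample on `X` (no Noetherian hypothesis).  Proof in coordinates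
(helper78's `Atlas` API) using `exists_lift_cocycle`.
-/

set_option autoImplicit false
universe u

open CategoryTheory CategoryTheory.Limits AlgebraicGeometry MonoidalCategory Opposite TopologicalSpace
open Groth.Agent.Lib.H90Invertible Groth.Agent.Lib.StructureModule Groth.Agent.Lib.H78TensorGen
open Groth.Agent.Lib.H78SecCoord Groth.Agent.Lib.H78Atlas Groth.Agent.Lib.H78PullSec

namespace Groth.Agent.Lib.ThickAffine

theorem isAmple_of_thickening {Z X : Scheme.{u}} (i : Z ⟶ X) [IsClosedImmersion i]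
    (hi : IsHomeomorph i.base) (L : X.Modules) (hL : PicF.IsInvertible L)
    (hZ : CohB1.IsAmple ((Scheme.Modules.pullback i).obj L)) : CohB1.IsAmple L := by
  classical
  haveI : Surjective i := ⟨hi.surjective⟩
  haveI : CompactSpace Z := hZ.2.1
  haveI : CompactSpace X := (hi.homeomorph i.base).compactSpace
  haveI : QuasiSeparatedSpace Z := Groth.Agent.Lib.H78AmpleBasis.quasiSeparatedSpace_of_isAmple hZ
  haveI : QuasiSeparatedSpace X :=
    (quasiSeparatedSpace_congr (hi.homeomorph i.base)).mp inferInstance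
  refine ⟨hL, inferInstance, fun x => ?_⟩
  obtain ⟨z, rfl⟩ := hi.surjective x
  obtain ⟨ι, _, V, hV, hVaff, ⟨A⟩⟩ := Groth.Agent.Lib.H78KeyLemma.exists_finite_atlas hL
  haveI : Fintype ι := Fintype.ofFinite ι
  have hV' : ⨆ j, i ⁻¹ᵁ V j = ⊤ := by
    refine top_le_iff.1 (fun y _ => ?_)
    have hy : i.base y ∈ ⨆ j, V j := by rw [hV]; trivial
    obtain ⟨j, hj⟩ := Opens.mem_iSup.1 hy
    exact Opens.mem_iSup.2 ⟨j, hj⟩
  -- a chart containing the point
  have hx : i.base z ∈ ⨆ j, V j := by rw [hV]; trivial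
  obtain ⟨j0, hj0⟩ := Opens.mem_iSup.1 hx
  obtain ⟨n, g, hzg, hgV, hgaff⟩ :=
    Groth.Agent.Lib.H78ExtTensor.exists_affine_sec hZ z (i ⁻¹ᵁ V j0) hj0
  -- the coordinates of `g`
  obtain ⟨b, hbdef⟩ : ∃ b : ∀ j, Γ(Z, i ⁻¹ᵁ V j),
      ∀ j, b j = ((pullAtlas i A).pow (n + 1)).co (sec g) j := ⟨_, fun _ => rfl⟩
  obtain ⟨T, hTdef⟩ : ∃ T : ∀ j k, Γ(X, V j ⊓ V k), ∀ j k, T j k = (A.pow (n + 1)).trans j k :=
    ⟨_, fun _ _ => rfl⟩
  have hTpow : ∀ j k, T j k = A.trans j k ^ (n + 1) := fun j k => by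
    rw [hTdef, Atlas.pow_trans]
  have hbD : ∀ j, Z.basicOpen (b j) = CohB1.genLocus _ g ⊓ i ⁻¹ᵁ V j := by
    intro j
    have h := ((pullAtlas i A).pow (n + 1)).genLocus_inf (sec g) j
    rw [ofSection_sec] at h
    rw [hbdef]
    exact h.symm
  have hTself : ∀ j, T j j = 1 := fun j => by rw [hTdef]; exact (A.pow (n + 1)).trans_self j
  have hTco : ∀ (j k l : ι) (Q : X.Opens) (hjk : Q ≤ V j ⊓ V k) (hjl : Q ≤ V j ⊓ V l)
      (hlk : Q ≤ V l ⊓ V k), X.presheaf.map (homOfLE hjk).op (T j k) =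
        X.presheaf.map (homOfLE hjl).op (T j l) * X.presheaf.map (homOfLE hlk).op (T l k) := by
    intro j k l Q hjk hjl hlk
    rw [hTdef, hTdef, hTdef]
    exact (A.pow (n + 1)).trans_cocycle j k l hjk hjl hlk
  have happLE : ∀ (U : X.Opens) (W : Z.Opens) (e : W ≤ i ⁻¹ᵁ U) (a : Γ(X, U)),
      i.appLE U W e a = Z.presheaf.map (homOfLE e).op (i.app U a) := by
    intro U W e a
    rw [Scheme.Hom.appLE, CommRingCat.comp_apply]
  have hb : ∀ (j k : ι) (Q : Z.Opens) (hQj : Q ≤ i ⁻¹ᵁ V j) (hQk : Q ≤ i ⁻¹ᵁ V k)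
      (hQ : Q ≤ i ⁻¹ᵁ (V j ⊓ V k)), Z.presheaf.map (homOfLE hQj).op (b j) =
        Z.presheaf.map (homOfLE hQk).op (b k) *
          Z.presheaf.map (homOfLE hQ).op (i.app (V j ⊓ V k) (T j k)) := by
    intro j k Q hQj hQk hQ
    have hQ' : Q ≤ i ⁻¹ᵁ V j ⊓ i ⁻¹ᵁ V k := le_inf hQj hQk
    have h0 : Z.presheaf.map (homOfLE (inf_le_left : i ⁻¹ᵁ V j ⊓ i ⁻¹ᵁ V k ≤ i ⁻¹ᵁ V j)).op (b j) =
        Z.presheaf.map (homOfLE (inf_le_right : i ⁻¹ᵁ V j ⊓ i ⁻¹ᵁ V k ≤ i ⁻¹ᵁ V k)).op (b k) *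
          ((pullAtlas i A).pow (n + 1)).trans j k := by
      rw [hbdef, hbdef]
      exact ((pullAtlas i A).pow (n + 1)).co_compat (sec g) j k
    rw [Atlas.pow_trans, pullAtlas_trans, happLE] at h0
    have h1 : Z.presheaf.map (homOfLE hQ').op
        (Z.presheaf.map (homOfLE (inf_le_left : i ⁻¹ᵁ V j ⊓ i ⁻¹ᵁ V k ≤ i ⁻¹ᵁ V j)).op (b j)) =
        Z.presheaf.map (homOfLE hQ').op
          (Z.presheaf.map (homOfLE (inf_le_right : i ⁻¹ᵁ V j ⊓ i ⁻¹ᵁ V k ≤ i ⁻¹ᵁ V k)).op (b k) *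
            (Z.presheaf.map (homOfLE (le_of_eq rfl :
              i ⁻¹ᵁ V j ⊓ i ⁻¹ᵁ V k ≤ i ⁻¹ᵁ (V j ⊓ V k))).op
              (i.app (V j ⊓ V k) (A.trans j k))) ^ (n + 1)) := by rw [h0]
    rw [map_mul, map_pow, res_res, res_res, res_res] at h1
    rw [h1, hTpow, map_pow, map_pow]
  have hj0' : ∀ j, Z.basicOpen (b j) ≤ i ⁻¹ᵁ V j0 := fun j => by
    rw [hbD]; exact inf_le_left.trans hgV
  obtain ⟨N, s, hN, hs, hnil⟩ := exists_lift_cocycle i V T hi hVaff hTself hTco b hb j0 hj0'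
    Finset.univ
  have hmem : ∀ j : ι, j ∈ insert j0 (Finset.univ : Finset ι) := fun j =>
    Finset.mem_insert_of_mem (Finset.mem_univ j)
  -- the exponent
  obtain ⟨e, he⟩ : ∃ e, e = (n + 1) * N := ⟨_, rfl⟩
  have hpos : 1 ≤ e := by
    rw [he]
    exact Nat.one_le_iff_ne_zero.mpr (Nat.mul_ne_zero (Nat.succ_ne_zero n)
      (Nat.one_le_iff_ne_zero.mp hN))
  obtain ⟨n', rfl⟩ : ∃ n', e = n' + 1 := ⟨e - 1, by omega⟩
  have hcompat : ∀ j k, rf (inf_le_left : V j ⊓ V k ≤ V j) (s j) =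
      rf inf_le_right (s k) * (A.pow (n' + 1)).trans j k := by
    intro j k
    rw [Atlas.pow_trans, he, pow_mul, ← hTpow]
    exact hs j (hmem j) k (hmem k)
  obtain ⟨σ, hσ⟩ := (A.pow (n' + 1)).exists_sec hV s hcompat
  -- the generating locus of the lifted section
  have hG : i ⁻¹ᵁ (CohB1.genLocus _ (ofSection σ)) = CohB1.genLocus _ g := by
    apply opens_eq_of_cover hV'
    intro j
    have h1 : i ⁻¹ᵁ (CohB1.genLocus _ (ofSection σ)) ⊓ i ⁻¹ᵁ V j =
        i ⁻¹ᵁ (CohB1.genLocus _ (ofSection σ) ⊓ V j) := rfl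
    have h2 : i.app (V j) (s j) = b j ^ N + (i.app (V j) (s j) - b j ^ N) := by ring
    rw [h1, (A.pow (n' + 1)).genLocus_inf σ j, hσ j, Scheme.preimage_basicOpen, h2,
      basicOpen_add_of_isNilpotent _ _ (hnil j (hmem j)), Z.basicOpen_pow (b j) hN, hbD]
  refine ⟨n', ofSection σ, ?_, ?_⟩
  · have : z ∈ i ⁻¹ᵁ (CohB1.genLocus _ (ofSection σ)) := by rw [hG]; exact hzg
    exact this
  · exact isAffineOpen_of_isAffineOpen_preimage i _ (hG ▸ hgaff)

/-- **Ampleness and thickenings**: for a closed immersion `i : Z ⟶ X` which is a homeomorphism and an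
invertible module `L` on `X`, `i^* L` is ample iff `L` is ample. -/
theorem isAmple_pullback_iff_of_thickening {Z X : Scheme.{u}} (i : Z ⟶ X) [IsClosedImmersion i]
    (hi : IsHomeomorph i.base) (L : X.Modules) (hL : PicF.IsInvertible L) :
    CohB1.IsAmple ((Scheme.Modules.pullback i).obj L) ↔ CohB1.IsAmple L :=
  ⟨isAmple_of_thickening i hi L hL,
    fun h => Groth.Agent.Lib.H78PullAmple.isAmple_pullback_of_isAffineHom i h⟩

end Groth.Agent.Lib.ThickAffine
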