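import Groth.Agent.Lib.ThickQuasiAffine

/-!
# Lifting twisted sections along a thickening, in coordinates (helper24)

`exists_lift_cocycle` : let `i : Z ⟶ X` be a closed immersion and a homeomorphism, `V j` finitely many
affine opens of `X`, `T j k` a cocycle of functions on `V j ⊓ V k`, and `b j` functions on `i⁻¹ (V j)`
compatible with `i^♯ (T j k)` (i.e. a section of the "line bundle" given by `i^♯ T` on `Z`), whose
non-vanishing locus is contained in one chart `i⁻¹ (V j0)`.  Then some power `b^N` lifts, modulo nilpotents,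
to a family `s j` on `V j` compatible with `T^N`.  This is the coordinate form of: `Z_g` affine and contained
in a chart ⇒ a power of `g` lifts to `X` up to nilpotents.
-/

set_option autoImplicit false
universe u

open CategoryTheory AlgebraicGeometry TopologicalSpace Opposite

namespace Groth.Agent.Lib.ThickAffine

theorem nil_mul_right {R : Type*} [CommRing R] {x : R} (h : IsNilpotent x) (y : R) :
    IsNilpotent (x * y) := (Commute.all x y).isNilpotent_mul_right h

theorem isNilpotent_pow_sub_pow {R : Type*} [CommRing R] {x y : R} (h : IsNilpotent (x - y))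
    (M : ℕ) : IsNilpotent (x ^ M - y ^ M) := by
  obtain ⟨q, hq⟩ := sub_dvd_pow_sub_pow x y M
  rw [hq]
  exact nil_mul_right h q

/-- Core ring step: `V` affine, `O ⊆ V` a compact open, `σ` on `O`, `β` on `V` with `D(β) ⊆ O` and
`β|_O - σ` nilpotent: then a power of `σ` is the restriction of a multiple of `β`. -/
theorem exists_pow_eq_res_mul {X : Scheme.{u}} {O V : X.Opens} (hV : IsAffineOpen V) (hOV : O ≤ V)
    (hO : IsCompact (O : Set X)) (σ : Γ(X, O)) (β : Γ(X, V)) (hβ : X.basicOpen β ≤ O)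
    (hν : IsNilpotent (X.presheaf.map (homOfLE hOV).op β - σ)) :
    ∃ (M : ℕ) (r : Γ(X, V)), 1 ≤ M ∧ X.presheaf.map (homOfLE hOV).op (β * r) = σ ^ M := by
  classical
  obtain ⟨R, hR⟩ := hν
  let ρV : Γ(X, V) →+* Γ(X, O) := (X.presheaf.map (homOfLE hOV).op).hom
  let ν : Γ(X, O) := ρV β - σ
  have hR' : ν ^ R = 0 := hR
  obtain ⟨n, y, hy⟩ := exists_eq_pow_mul_of_isAffineOpen X V hV β
    (X.presheaf.map (homOfLE hβ).op ν)
  have hy' : X.presheaf.map (homOfLE (X.basicOpen_le β)).op y =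
      (X.presheaf.map (homOfLE (X.basicOpen_le β)).op β) ^ n *
        X.presheaf.map (homOfLE hβ).op ν := hy
  have hle : X.basicOpen (ρV β) ≤ X.basicOpen β := by
    change X.basicOpen (X.presheaf.map _ β) ≤ _
    rw [Scheme.basicOpen_res]; exact inf_le_right
  have hδ : X.presheaf.map (homOfLE (X.basicOpen_le (ρV β))).op (ρV y - ρV β ^ n * ν) = 0 := by
    have h1 : X.presheaf.map (homOfLE hle).op
        (X.presheaf.map (homOfLE (X.basicOpen_le β)).op y) =
        X.presheaf.map (homOfLE hle).op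
          ((X.presheaf.map (homOfLE (X.basicOpen_le β)).op β) ^ n *
            X.presheaf.map (homOfLE hβ).op ν) := by rw [hy']
    rw [map_mul, map_pow, res_res, res_res, res_res] at h1
    change X.presheaf.map _ (X.presheaf.map _ y - (X.presheaf.map _ β) ^ n * ν) = 0
    rw [map_sub, map_mul, map_pow, res_res, res_res, sub_eq_zero]
    exact h1
  obtain ⟨e, he⟩ := exists_pow_mul_eq_zero_of_res_basicOpen_eq_zero_of_isCompact X hO
    (ρV y - ρV β ^ n * ν) (ρV β) hδ
  have hι : ρV (β ^ e * y) = ρV β ^ (e + n) * ν := by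
    rw [map_mul, map_pow, pow_add]
    linear_combination he
  obtain ⟨r, hr⟩ := ring_key ρV β (β ^ e * y) ν (e + n) R hR' hι
  refine ⟨(e + n) * R + R + 1, r, by omega, ?_⟩
  change ρV (β * r) = _
  rw [← hr]
  congr 1
  change ρV β - (ρV β - σ) = σ
  ring

section Cocycle

variable {Z X : Scheme.{u}} (i : Z ⟶ X) {ι : Type*} (V : ι → X.Opens)
  (T : ∀ j k, Γ(X, V j ⊓ V k))

/-- symmetry of the compatibility condition -/
theorem compat_symm (hTself : ∀ j, T j j = 1)
    (hTco : ∀ (j k l : ι) (Q : X.Opens) (hjk : Q ≤ V j ⊓ V k) (hjl : Q ≤ V j ⊓ V l)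
      (hlk : Q ≤ V l ⊓ V k), X.presheaf.map (homOfLE hjk).op (T j k) =
        X.presheaf.map (homOfLE hjl).op (T j l) * X.presheaf.map (homOfLE hlk).op (T l k))
    {j k : ι} (a : Γ(X, V j)) (c : Γ(X, V k)) (n : ℕ)
    (h : X.presheaf.map (homOfLE (inf_le_left : V j ⊓ V k ≤ V j)).op a =
      X.presheaf.map (homOfLE (inf_le_right : V j ⊓ V k ≤ V k)).op c * T j k ^ n) :
    X.presheaf.map (homOfLE (inf_le_left : V k ⊓ V j ≤ V k)).op c =
      X.presheaf.map (homOfLE (inf_le_right : V k ⊓ V j ≤ V j)).op a * T k j ^ n := by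
  have hQ : V k ⊓ V j ≤ V j ⊓ V k := le_inf inf_le_right inf_le_left
  have h1 := hTco j j k (V k ⊓ V j) (le_inf inf_le_right inf_le_right) hQ le_rfl
  rw [hTself, map_one, res_self] at h1
  have h2 : X.presheaf.map (homOfLE hQ).op
      (X.presheaf.map (homOfLE (inf_le_left : V j ⊓ V k ≤ V j)).op a) =
      X.presheaf.map (homOfLE hQ).op
        (X.presheaf.map (homOfLE (inf_le_right : V j ⊓ V k ≤ V k)).op c * T j k ^ n) := by rw [h]
  rw [map_mul, map_pow, res_res, res_res] at h2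
  rw [h2, mul_assoc, ← mul_pow, ← h1, one_pow, mul_one]

variable [IsClosedImmersion i]

/-- the extension step -/
theorem lift_cocycle_step (hi : IsHomeomorph i.base) [QuasiSeparatedSpace X]
    (hVaff : ∀ j, IsAffineOpen (V j))
    (hTco : ∀ (j k l : ι) (Q : X.Opens) (hjk : Q ≤ V j ⊓ V k) (hjl : Q ≤ V j ⊓ V l)
      (hlk : Q ≤ V l ⊓ V k), X.presheaf.map (homOfLE hjk).op (T j k) =
        X.presheaf.map (homOfLE hjl).op (T j l) * X.presheaf.map (homOfLE hlk).op (T l k))
    (b : ∀ j, Γ(Z, i ⁻¹ᵁ V j))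
    (hb : ∀ (j k : ι) (Q : Z.Opens) (hQj : Q ≤ i ⁻¹ᵁ V j) (hQk : Q ≤ i ⁻¹ᵁ V k)
      (hQ : Q ≤ i ⁻¹ᵁ (V j ⊓ V k)), Z.presheaf.map (homOfLE hQj).op (b j) =
        Z.presheaf.map (homOfLE hQk).op (b k) *
          Z.presheaf.map (homOfLE hQ).op (i.app (V j ⊓ V k) (T j k)))
    (j0 : ι) (hj0 : ∀ j, Z.basicOpen (b j) ≤ i ⁻¹ᵁ V j0)
    (J : Finset ι) (hj0J : j0 ∈ J) (k : ι)
    (N : ℕ) (hN : 1 ≤ N) (s : ∀ j, Γ(X, V j))
    (hs : ∀ j ∈ J, ∀ j' ∈ J,
      X.presheaf.map (homOfLE (inf_le_left : V j ⊓ V j' ≤ V j)).op (s j) =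
        X.presheaf.map (homOfLE (inf_le_right : V j ⊓ V j' ≤ V j')).op (s j') * T j j' ^ N)
    (hnil : ∀ j ∈ J, IsNilpotent (i.app (V j) (s j) - b j ^ N)) :
    ∃ (M : ℕ) (sk : Γ(X, V k)), 1 ≤ M ∧
      (∀ j ∈ J, X.presheaf.map (homOfLE (inf_le_left : V k ⊓ V j ≤ V k)).op sk =
        X.presheaf.map (homOfLE (inf_le_right : V k ⊓ V j ≤ V j)).op (s j ^ M) *
          T k j ^ (N * M)) ∧
      IsNilpotent (i.app (V k) sk - b k ^ (N * M)) := by
  classical
  haveI : Surjective i := ⟨hi.surjective⟩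
  have hinj : ∀ {U U' : X.Opens}, i ⁻¹ᵁ U ≤ i ⁻¹ᵁ U' → U ≤ U' := by
    intro U U' h x hx
    obtain ⟨z, rfl⟩ := hi.surjective x
    exact h hx
  -- the open `O = (⋃_{j ∈ J} V j) ∩ V k`
  obtain ⟨O, hOdef⟩ : ∃ O : X.Opens, O = ⨆ j : J, V k ⊓ V j := ⟨_, rfl⟩
  have hWO : ∀ j : J, V k ⊓ V j ≤ O := fun j => by
    rw [hOdef]; exact le_iSup (fun j : J => V k ⊓ V (j : ι)) j
  have hOV : O ≤ V k := by
    rw [hOdef]; exact iSup_le fun j => inf_le_left
  have hO : IsCompact (O : Set X) := by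
    rw [hOdef, Opens.coe_iSup]
    exact isCompact_iUnion fun j : J => QuasiSeparatedSpace.inter_isCompact _ _ (V k).2
      (hVaff k).isCompact (V (j : ι)).2 (hVaff j).isCompact
  have hmemO : ∀ x : X, x ∈ O → ∃ j : J, x ∈ V k ⊓ V (j : ι) := by
    intro x hx
    rw [hOdef] at hx
    exact Opens.mem_iSup.mp hx
  -- the glued function `σ` on `O`
  have hcompat : ∀ j j' : J,
      X.presheaf.map (homOfLE (inf_le_left :
        (V k ⊓ V (j : ι)) ⊓ (V k ⊓ V (j' : ι)) ≤ V k ⊓ V (j : ι))).op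
        (X.presheaf.map (homOfLE (inf_le_right : V k ⊓ V (j : ι) ≤ V (j : ι))).op (s j) *
          T k j ^ N) =
      X.presheaf.map (homOfLE (inf_le_right :
        (V k ⊓ V (j : ι)) ⊓ (V k ⊓ V (j' : ι)) ≤ V k ⊓ V (j' : ι))).op
        (X.presheaf.map (homOfLE (inf_le_right : V k ⊓ V (j' : ι) ≤ V (j' : ι))).op (s j') *
          T k j' ^ N) := by
    intro j j'
    have hQj : (V k ⊓ V (j : ι)) ⊓ (V k ⊓ V (j' : ι)) ≤ V (j : ι) := inf_le_left.trans inf_le_right
    have hQj' : (V k ⊓ V (j : ι)) ⊓ (V k ⊓ V (j' : ι)) ≤ V (j' : ι) :=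
      inf_le_right.trans inf_le_right
    have hQjj' : (V k ⊓ V (j : ι)) ⊓ (V k ⊓ V (j' : ι)) ≤ V (j : ι) ⊓ V (j' : ι) :=
      le_inf hQj hQj'
    have h1 : X.presheaf.map (homOfLE hQjj').op
        (X.presheaf.map (homOfLE (inf_le_left : V (j : ι) ⊓ V (j' : ι) ≤ V (j : ι))).op (s j)) =
        X.presheaf.map (homOfLE hQjj').op
          (X.presheaf.map (homOfLE (inf_le_right : V (j : ι) ⊓ V (j' : ι) ≤ V (j' : ι))).op (s j') *
            T j j' ^ N) := by rw [hs j j.2 j' j'.2]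
    rw [map_mul, map_pow, res_res, res_res] at h1
    have h2 := hTco k j' j ((V k ⊓ V (j : ι)) ⊓ (V k ⊓ V (j' : ι))) inf_le_right inf_le_left hQjj'
    rw [map_mul, map_mul, map_pow, map_pow, res_res, res_res, h1, h2, mul_pow]
    ring
  obtain ⟨σ, hσ⟩ : ∃ σ : Γ(X, O), ∀ j : J, X.presheaf.map (homOfLE (hWO j)).op σ =
      X.presheaf.map (homOfLE (inf_le_right : V k ⊓ V (j : ι) ≤ V (j : ι))).op (s j) *
        T k j ^ N := by
    obtain ⟨σ, hσ0, -⟩ := TopCat.Sheaf.existsUnique_gluing' X.sheaf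
      (fun j : J => V k ⊓ V (j : ι)) O
      (fun j => homOfLE (hWO j)) (le_of_eq hOdef)
      (fun j => X.presheaf.map (homOfLE (inf_le_right : V k ⊓ V (j : ι) ≤ V (j : ι))).op (s j) *
        T k j ^ N) (fun j j' => hcompat j j')
    exact ⟨σ, hσ0⟩
  -- the lift `β` of `b k ^ N`
  obtain ⟨β, hβ⟩ := i.app_surjective (V k) (hVaff k) (b k ^ N)
  have hβO : X.basicOpen β ≤ O := by
    apply hinj
    rw [Scheme.preimage_basicOpen, hβ, Z.basicOpen_pow (b k) hN]
    intro z hz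
    have h1 : i.base z ∈ V j0 := hj0 k hz
    have h2 : i.base z ∈ V k := Z.basicOpen_le _ hz
    have h3 : i.base z ∈ O := by
      rw [hOdef]
      exact Opens.mem_iSup.mpr ⟨⟨j0, hj0J⟩, ⟨h2, h1⟩⟩
    exact h3
  -- `β|_O - σ` is nilpotent
  have hcO : IsCompact ((i ⁻¹ᵁ O : Z.Opens) : Set Z) := i.isClosedEmbedding.isCompact_preimage hO
  have hres : ∀ j : J, ∀ (hle : i ⁻¹ᵁ (V k ⊓ V (j : ι)) ≤ i ⁻¹ᵁ O)
      (hlej : i ⁻¹ᵁ (V k ⊓ V (j : ι)) ≤ i ⁻¹ᵁ V (j : ι)),
      Z.presheaf.map (homOfLE hle).op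
        (i.app O (X.presheaf.map (homOfLE hOV).op β - σ)) =
      - (Z.presheaf.map (homOfLE hlej).op (i.app (V j) (s j) - b j ^ N)) *
        (i.app (V k ⊓ V (j : ι)) (T k j)) ^ N := by
    intro j hle hlej
    have hlek : i ⁻¹ᵁ (V k ⊓ V (j : ι)) ≤ i ⁻¹ᵁ V k := fun _ h => h.1
    have h1 := hb k j (i ⁻¹ᵁ (V k ⊓ V (j : ι))) hlek hlej le_rfl
    rw [res_self] at h1
    rw [← app_res i (hWO j), map_sub, res_res, hσ j, map_sub, map_mul, map_pow, app_res i, hβ,
      app_res i, map_pow, h1, map_sub, map_pow]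
    ring
  have hνZ : IsNilpotent (i.app O (X.presheaf.map (homOfLE hOV).op β - σ)) := by
    rw [Scheme.isNilpotent_iff_basicOpen_eq_bot_of_isCompact hcO, eq_bot_iff]
    intro z hz
    have hzO : i.base z ∈ O := Z.basicOpen_le _ hz
    obtain ⟨j, hzj⟩ := hmemO _ hzO
    have hle : i ⁻¹ᵁ (V k ⊓ V (j : ι)) ≤ i ⁻¹ᵁ O := fun _ h => hWO j h
    have hlej : i ⁻¹ᵁ (V k ⊓ V (j : ι)) ≤ i ⁻¹ᵁ V (j : ι) := fun _ h => h.2
    have h1 : z ∈ Z.basicOpen (Z.presheaf.map (homOfLE hle).op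
        (i.app O (X.presheaf.map (homOfLE hOV).op β - σ))) := by
      rw [Scheme.basicOpen_res]; exact ⟨hzj, hz⟩
    rw [hres j hle hlej] at h1
    have hn : IsNilpotent (- (Z.presheaf.map (homOfLE hlej).op (i.app (V j) (s j) - b j ^ N)) *
        (i.app (V k ⊓ V (j : ι)) (T k j)) ^ N) :=
      nil_mul_right (((hnil j j.2).map (Z.presheaf.map (homOfLE hlej).op).hom).neg) _
    have h0 : Z.basicOpen (- (Z.presheaf.map (homOfLE hlej).op (i.app (V j) (s j) - b j ^ N)) *
        (i.app (V k ⊓ V (j : ι)) (T k j)) ^ N) = ⊥ :=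
      Z.basicOpen_eq_bot_of_isNilpotent _ _ hn
    rw [h0] at h1
    exact h1
  have hν : IsNilpotent (X.presheaf.map (homOfLE hOV).op β - σ) := by
    obtain ⟨K, hK⟩ := hνZ
    have h2 : i.app O ((X.presheaf.map (homOfLE hOV).op β - σ) ^ K) = 0 := by
      rw [map_pow, hK]
    obtain ⟨m, hm⟩ := isNilpotent_of_app_eq_zero i O hO _ h2
    exact ⟨K * m, by rw [pow_mul]; exact hm⟩
  obtain ⟨M, r, hM, hr⟩ := exists_pow_eq_res_mul (hVaff k) hOV hO σ β hβO hν
  refine ⟨M, β * r, hM, ?_, ?_⟩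
  · intro j hj
    have h1 : X.presheaf.map (homOfLE (inf_le_left : V k ⊓ V j ≤ V k)).op (β * r) =
        X.presheaf.map (homOfLE (hWO ⟨j, hj⟩)).op
          (X.presheaf.map (homOfLE hOV).op (β * r)) := by
      rw [res_res]
    rw [h1, hr, map_pow, hσ ⟨j, hj⟩, mul_pow, ← pow_mul, map_pow]
  · have hck : IsCompact ((i ⁻¹ᵁ V k : Z.Opens) : Set Z) :=
      i.isClosedEmbedding.isCompact_preimage (hVaff k).isCompact
    rw [Scheme.isNilpotent_iff_basicOpen_eq_bot_of_isCompact hck, eq_bot_iff]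
    intro z hz
    have hleO : i ⁻¹ᵁ O ≤ i ⁻¹ᵁ V k := fun _ h => hOV h
    have hzO : i.base z ∈ O := by
      -- otherwise `z ∈ D(i^♯ β) ⊆ i⁻¹ O`
      have h1 : i.app (V k) (β * r) - b k ^ (N * M) =
          i.app (V k) β * (i.app (V k) r - (i.app (V k) β) ^ (M - 1)) := by
        obtain ⟨M', rfl⟩ : ∃ M', M = M' + 1 := ⟨M - 1, by omega⟩
        rw [map_mul, pow_mul, ← hβ, Nat.add_sub_cancel, pow_succ]
        ring
      rw [h1, Scheme.basicOpen_mul, ← Scheme.preimage_basicOpen] at hz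
      exact hβO hz.1
    have h1 : z ∈ Z.basicOpen (Z.presheaf.map (homOfLE hleO).op
        (i.app (V k) (β * r) - b k ^ (N * M))) := by
      rw [Scheme.basicOpen_res]; exact ⟨hzO, hz⟩
    have h2 : Z.presheaf.map (homOfLE hleO).op (i.app (V k) (β * r) - b k ^ (N * M)) =
        (i.app O σ) ^ M - (i.app O (X.presheaf.map (homOfLE hOV).op β)) ^ M := by
      rw [map_sub, ← app_res i hOV, hr, map_pow, pow_mul, ← hβ, map_pow, ← app_res i hOV]
    rw [h2] at h1
    have hn : IsNilpotent ((i.app O σ) ^ M - (i.app O (X.presheaf.map (homOfLE hOV).op β)) ^ M) := by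
      apply isNilpotent_pow_sub_pow
      have h3 : i.app O σ - i.app O (X.presheaf.map (homOfLE hOV).op β) =
          - i.app O (X.presheaf.map (homOfLE hOV).op β - σ) := by
        rw [map_sub]; ring
      rw [h3]
      exact hνZ.neg
    have h0 : Z.basicOpen ((i.app O σ) ^ M -
        (i.app O (X.presheaf.map (homOfLE hOV).op β)) ^ M) = ⊥ :=
      Z.basicOpen_eq_bot_of_isNilpotent _ _ hn
    rw [h0] at h1
    exact h1

/-- **Lifting a twisted section along a thickening, up to powers and nilpotents.** -/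
theorem exists_lift_cocycle [DecidableEq ι] (hi : IsHomeomorph i.base) [QuasiSeparatedSpace X]
    (hVaff : ∀ j, IsAffineOpen (V j)) (hTself : ∀ j, T j j = 1)
    (hTco : ∀ (j k l : ι) (Q : X.Opens) (hjk : Q ≤ V j ⊓ V k) (hjl : Q ≤ V j ⊓ V l)
      (hlk : Q ≤ V l ⊓ V k), X.presheaf.map (homOfLE hjk).op (T j k) =
        X.presheaf.map (homOfLE hjl).op (T j l) * X.presheaf.map (homOfLE hlk).op (T l k))
    (b : ∀ j, Γ(Z, i ⁻¹ᵁ V j))
    (hb : ∀ (j k : ι) (Q : Z.Opens) (hQj : Q ≤ i ⁻¹ᵁ V j) (hQk : Q ≤ i ⁻¹ᵁ V k)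
      (hQ : Q ≤ i ⁻¹ᵁ (V j ⊓ V k)), Z.presheaf.map (homOfLE hQj).op (b j) =
        Z.presheaf.map (homOfLE hQk).op (b k) *
          Z.presheaf.map (homOfLE hQ).op (i.app (V j ⊓ V k) (T j k)))
    (j0 : ι) (hj0 : ∀ j, Z.basicOpen (b j) ≤ i ⁻¹ᵁ V j0) (J : Finset ι) :
    ∃ (N : ℕ) (s : ∀ j, Γ(X, V j)), 1 ≤ N ∧
      (∀ j ∈ insert j0 J, ∀ j' ∈ insert j0 J,
        X.presheaf.map (homOfLE (inf_le_left : V j ⊓ V j' ≤ V j)).op (s j) =
          X.presheaf.map (homOfLE (inf_le_right : V j ⊓ V j' ≤ V j')).op (s j') * T j j' ^ N) ∧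
      ∀ j ∈ insert j0 J, IsNilpotent (i.app (V j) (s j) - b j ^ N) := by
  classical
  induction J using Finset.induction_on with
  | empty =>
    choose β hβ using fun j => i.app_surjective (V j) (hVaff j) (b j)
    refine ⟨1, β, le_rfl, ?_, ?_⟩
    · intro j hj j' hj'
      obtain rfl : j = j0 := by simpa using hj
      obtain rfl : j' = j := by simpa using hj'
      rw [hTself, one_pow, mul_one]
    · intro j _
      rw [hβ, pow_one, sub_self]
      exact IsNilpotent.zero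
  | insert k J hk ih =>
    obtain ⟨N, s, hN, hs, hnil⟩ := ih
    by_cases hk' : k ∈ insert j0 J
    · have h0 : insert j0 (insert k J) = insert j0 J := by
        rw [Finset.insert_comm, Finset.insert_eq_of_mem hk']
      rw [h0]
      exact ⟨N, s, hN, hs, hnil⟩
    · obtain ⟨M, sk, hM, hsk, hnilk⟩ := lift_cocycle_step i V T hi hVaff hTco b hb j0 hj0
        (insert j0 J) (Finset.mem_insert_self _ _) k N hN s hs hnil
      have h0 : insert j0 (insert k J) = insert k (insert j0 J) := Finset.insert_comm _ _ _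
      rw [h0]
      have hne : ∀ j ∈ insert j0 J, j ≠ k := fun j hj h => hk' (h ▸ hj)
      -- the old sections, raised to the power `M`
      have hold : ∀ j ∈ insert j0 J, ∀ j' ∈ insert j0 J,
          X.presheaf.map (homOfLE (inf_le_left : V j ⊓ V j' ≤ V j)).op (s j ^ M) =
            X.presheaf.map (homOfLE (inf_le_right : V j ⊓ V j' ≤ V j')).op (s j' ^ M) *
              T j j' ^ (N * M) := by
        intro j hj j' hj'
        rw [map_pow, map_pow, hs j hj j' hj', mul_pow, pow_mul]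
      refine ⟨N * M, Function.update (fun j => s j ^ M) k sk,
        Nat.one_le_iff_ne_zero.mpr (Nat.mul_ne_zero (Nat.one_le_iff_ne_zero.mp hN)
          (Nat.one_le_iff_ne_zero.mp hM)), ?_, ?_⟩
      · intro j hj j' hj'
        rcases Finset.mem_insert.mp hj with hjk | hjJ
        · rcases Finset.mem_insert.mp hj' with hjk' | hjJ'
          · subst hjk; subst hjk'
            rw [hTself, one_pow, mul_one]
          · subst hjk
            rw [Function.update_self, Function.update_of_ne (hne j' hjJ')]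
            exact hsk j' hjJ'
        · rcases Finset.mem_insert.mp hj' with hjk' | hjJ'
          · subst hjk'
            rw [Function.update_self, Function.update_of_ne (hne j hjJ)]
            exact compat_symm V T hTself hTco sk (s j ^ M) (N * M) (hsk j hjJ)
          · rw [Function.update_of_ne (hne j hjJ), Function.update_of_ne (hne j' hjJ')]
            exact hold j hjJ j' hjJ'
      · intro j hj
        rcases Finset.mem_insert.mp hj with hjk | hjJ
        · subst hjk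
          rw [Function.update_self]
          exact hnilk
        · rw [Function.update_of_ne (hne j hjJ), map_pow, pow_mul]
          exact isNilpotent_pow_sub_pow (hnil j hjJ) M

end Cocycle

end Groth.Agent.Lib.ThickAffine
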