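import Mathlib
import Groth.Prelude.Def_MoreMor
import Groth.Agent.Lib.ThickDeformSm64
import Groth.Agent.Lib.OpenImmFibres

/-!
# Deformation along an arbitrary thickening: open immersions and isomorphisms (Stacks 0CF4)
(helper64)
-/

open CategoryTheory Limits AlgebraicGeometry

namespace Groth.Agent.Lib.ThickDeformIso64

universe u

open Groth.Agent.Lib.ThickDeform64 Groth.Agent.Lib.ThickDeformSm64

/-- A morphism from a reduced scheme factors through every surjective closed immersion. -/
theorem exists_lift_of_isReduced {S S' T : Scheme.{u}} (iS : S ⟶ S') [IsClosedImmersion iS]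
    [Surjective iS] (a : T ⟶ S') [IsReduced T] : ∃ b : T ⟶ S, b ≫ iS = a := by
  have : IsClosedImmersion (pullback.fst a iS) := inferInstance
  have : Surjective (pullback.fst a iS) := inferInstance
  have : IsIso (pullback.fst a iS) := isIso_of_isClosedImmersion_of_surjective _
  refine ⟨inv (pullback.fst a iS) ≫ pullback.snd a iS, ?_⟩
  rw [Category.assoc, ← pullback.condition, IsIso.inv_hom_id_assoc]

/-- Universal injectivity passes from `f` to `f'` when `iX` is a surjective closed immersion
and `iY` is a monomorphism. -/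
theorem universallyInjective_of_square {X X' Y Y' : Scheme.{u}} {iX : X ⟶ X'} {iY : Y ⟶ Y'}
    {f : X ⟶ Y} {f' : X' ⟶ Y'} (w : iX ≫ f' = f ≫ iY) [IsClosedImmersion iX] [Surjective iX]
    [Mono iY] [UniversallyInjective f] : UniversallyInjective f' := by
  have key := (tfae_universallyInjective f').out 0 1
  rw [key]
  intro K _ g₁ g₂ hg
  replace hg : g₁ ≫ f' = g₂ ≫ f' := hg
  obtain ⟨b₁, hb₁⟩ := exists_lift_of_isReduced iX g₁
  obtain ⟨b₂, hb₂⟩ := exists_lift_of_isReduced iX g₂
  have h1 : b₁ ≫ f = b₂ ≫ f := by
    rw [← cancel_mono iY, Category.assoc, Category.assoc, ← w, reassoc_of% hb₁,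
      reassoc_of% hb₂, hg]
  have key2 := (tfae_universallyInjective f).out 0 1
  have h2 : b₁ = b₂ := key2.mp inferInstance K h1
  rw [← hb₁, ← hb₂, h2]

variable {X X' Y Y' S S' : Scheme.{u}} {iX : X ⟶ X'} {iY : Y ⟶ Y'} {iS : S ⟶ S'}
  {f : X ⟶ Y} {f' : X' ⟶ Y'} {g : Y ⟶ S} {g' : Y' ⟶ S'}

theorem isOpenImmersion_iff_of_thickening (hS : MoreMor.IsThickening iS)
    (hcX : IsPullback iX (f ≫ g) (f' ≫ g') iS) (hcY : IsPullback iY g g' iS)
    (w : iX ≫ f' = f ≫ iY) [Flat (f' ≫ g')] [LocallyOfFinitePresentation (f' ≫ g')]
    [LocallyOfFiniteType g'] : IsOpenImmersion f ↔ IsOpenImmersion f' := by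
  have : IsClosedImmersion iS := hS.1
  have : Surjective iS := hS.2
  have hpb := isPullback_left hcX hcY w
  have hiY : IsClosedImmersion iY := MorphismProperty.of_isPullback hcY.flip inferInstance
  have hiX : IsClosedImmersion iX := MorphismProperty.of_isPullback hpb.flip inferInstance
  have hsY : Surjective iY := MorphismProperty.of_isPullback hcY.flip inferInstance
  have hsX : Surjective iX := MorphismProperty.of_isPullback hpb.flip inferInstance
  constructor
  · intro hf
    have : Etale f' := (etale_iff_of_thickening hS hcX hcY w).mp inferInstance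
    have : UniversallyInjective f' := universallyInjective_of_square w
    exact Groth.Agent.Lib.OpenImmFibres.isOpenImmersion_of_etale_of_universallyInjective f'
  · intro h
    exact MorphismProperty.of_isPullback (P := @IsOpenImmersion) hpb h

theorem isIso_iff_of_thickening (hS : MoreMor.IsThickening iS)
    (hcX : IsPullback iX (f ≫ g) (f' ≫ g') iS) (hcY : IsPullback iY g g' iS)
    (w : iX ≫ f' = f ≫ iY) [Flat (f' ≫ g')] [LocallyOfFinitePresentation (f' ≫ g')]
    [LocallyOfFiniteType g'] : IsIso f ↔ IsIso f' := by
  have : IsClosedImmersion iS := hS.1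
  have : Surjective iS := hS.2
  have hpb := isPullback_left hcX hcY w
  have hsY : Surjective iY := MorphismProperty.of_isPullback hcY.flip inferInstance
  constructor
  · intro hf
    have : IsOpenImmersion f' := (isOpenImmersion_iff_of_thickening hS hcX hcY w).mp inferInstance
    have : Surjective f' := by
      refine ⟨fun y' => ?_⟩
      obtain ⟨y, rfl⟩ := iY.surjective y'
      obtain ⟨x, rfl⟩ := f.surjective y
      refine ⟨iX x, ?_⟩
      rw [← Scheme.Hom.comp_apply, w, Scheme.Hom.comp_apply]
    exact (isIso_iff_isOpenImmersion_and_surjective f').mpr ⟨inferInstance, inferInstance⟩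
  · intro h
    exact MorphismProperty.of_isPullback (P := MorphismProperty.isomorphisms Scheme.{u}) hpb h

end Groth.Agent.Lib.ThickDeformIso64
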