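import Groth.Agent.Lib.ThickAffineOpen

/-!
# Thickenings of quasi-affine schemes are quasi-affine (helper24)

`isQuasiAffine_of_thickening` : if `i : Z ⟶ X` is a closed immersion and a homeomorphism and `Z` is
quasi-affine, then `X` is quasi-affine (no Noetherian hypothesis).  Elementary proof: for `g ∈ Γ(Z)`
with `Z_g` affine, a power of `g` lifts (up to nilpotents) to a global section of `X`; the lift is
constructed by gluing along a finite affine cover (`exists_glue_pow`).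
-/

set_option autoImplicit false
universe u

open CategoryTheory AlgebraicGeometry TopologicalSpace Opposite

namespace Groth.Agent.Lib.ThickAffine

theorem basicOpen_add_of_isNilpotent {X : Scheme.{u}} {U : X.Opens} (f n : Γ(X, U))
    (hn : IsNilpotent n) : X.basicOpen (f + n) = X.basicOpen f := by
  apply le_antisymm
  · refine (X.basicOpen_add_le f n).trans ?_
    have h0 : X.basicOpen n = ⊥ := X.basicOpen_eq_bot_of_isNilpotent U n hn
    rw [h0, sup_bot_eq]
  · have h : f = (f + n) + (-n) := by ring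
    conv_lhs => rw [h]
    refine (X.basicOpen_add_le (f + n) (-n)).trans ?_
    have h0 : X.basicOpen (-n) = ⊥ := X.basicOpen_eq_bot_of_isNilpotent U (-n) hn.neg
    rw [h0, sup_bot_eq]

/-- **Gluing step.**  `Y` an open, `V` an affine open, `s` on `Y`, `b` on `V` with `D(b) ⊆ Y` and
`b - s` nilpotent on `Y ∩ V`: then a power of `s` extends to `Y ∪ V`, by a multiple of `b`
on `V`. -/
theorem exists_glue_pow {X : Scheme.{u}} {Y V : X.Opens} (hV : IsAffineOpen V)
    (hO : IsCompact ((Y ⊓ V : X.Opens) : Set X)) (s : Γ(X, Y)) (b : Γ(X, V))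
    (hb : X.basicOpen b ≤ Y)
    (hν : IsNilpotent (X.presheaf.map (homOfLE (inf_le_right : Y ⊓ V ≤ V)).op b -
      X.presheaf.map (homOfLE (inf_le_left : Y ⊓ V ≤ Y)).op s)) :
    ∃ (M : ℕ) (s' : Γ(X, Y ⊔ V)) (r : Γ(X, V)), 1 ≤ M ∧
      X.presheaf.map (homOfLE (le_sup_left : Y ≤ Y ⊔ V)).op s' = s ^ M ∧
      X.presheaf.map (homOfLE (le_sup_right : V ≤ Y ⊔ V)).op s' = b * r := by
  classical
  obtain ⟨R, hR⟩ := hν
  let ρY : Γ(X, Y) →+* Γ(X, Y ⊓ V) :=
    (X.presheaf.map (homOfLE (inf_le_left : Y ⊓ V ≤ Y)).op).hom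
  let ρV : Γ(X, V) →+* Γ(X, Y ⊓ V) :=
    (X.presheaf.map (homOfLE (inf_le_right : Y ⊓ V ≤ V)).op).hom
  let ν : Γ(X, Y ⊓ V) := ρV b - ρY s
  have hR' : ν ^ R = 0 := hR
  have hbO : X.basicOpen b ≤ Y ⊓ V := le_inf hb (X.basicOpen_le b)
  obtain ⟨n, y, hy⟩ := exists_eq_pow_mul_of_isAffineOpen X V hV b
    (X.presheaf.map (homOfLE hbO).op ν)
  have hy' : X.presheaf.map (homOfLE (X.basicOpen_le b)).op y =
      (X.presheaf.map (homOfLE (X.basicOpen_le b)).op b) ^ n *
        X.presheaf.map (homOfLE hbO).op ν := hy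
  have hle : X.basicOpen (ρV b) ≤ X.basicOpen b := by
    change X.basicOpen (X.presheaf.map _ b) ≤ _
    rw [Scheme.basicOpen_res]; exact inf_le_right
  have hδ : X.presheaf.map (homOfLE (X.basicOpen_le (ρV b))).op (ρV y - ρV b ^ n * ν) = 0 := by
    have h1 : X.presheaf.map (homOfLE hle).op
        (X.presheaf.map (homOfLE (X.basicOpen_le b)).op y) =
        X.presheaf.map (homOfLE hle).op
          ((X.presheaf.map (homOfLE (X.basicOpen_le b)).op b) ^ n *
            X.presheaf.map (homOfLE hbO).op ν) := by rw [hy']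
    rw [map_mul, map_pow, res_res, res_res, res_res] at h1
    change X.presheaf.map _ (X.presheaf.map _ y - (X.presheaf.map _ b) ^ n * ν) = 0
    rw [map_sub, map_mul, map_pow, res_res, res_res, sub_eq_zero]
    exact h1
  obtain ⟨e, he⟩ := exists_pow_mul_eq_zero_of_res_basicOpen_eq_zero_of_isCompact X hO
    (ρV y - ρV b ^ n * ν) (ρV b) hδ
  have hι : ρV (b ^ e * y) = ρV b ^ (e + n) * ν := by
    rw [map_mul, map_pow, pow_add]
    linear_combination he
  obtain ⟨r, hr⟩ := ring_key ρV b (b ^ e * y) ν (e + n) R hR' hι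
  have hM : 1 ≤ (e + n) * R + R + 1 := by omega
  have hs : ρY (s ^ ((e + n) * R + R + 1)) = ρV (b * r) := by
    rw [← hr, map_pow]
    congr 1
    change ρY s = ρV b - (ρV b - ρY s)
    ring
  generalize (e + n) * R + R + 1 = M at hs hM
  let x : ↥(RingHom.eqLocus
      (RingHom.comp (X.sheaf.obj.map (homOfLE inf_le_left : Y ⊓ V ⟶ Y).op).hom
        (RingHom.fst (X.sheaf.obj.obj <| op Y) (X.sheaf.obj.obj <| op V)))
      (RingHom.comp (X.sheaf.obj.map (homOfLE inf_le_right : Y ⊓ V ⟶ V).op).hom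
        (RingHom.snd (X.sheaf.obj.obj <| op Y) (X.sheaf.obj.obj <| op V)))) :=
    ⟨((s ^ M : Γ(X, Y)), (b * r : Γ(X, V))), hs⟩
  exact ⟨M, (X.sheaf.objSupIsoProdEqLocus Y V).inv x, r, hM,
    X.sheaf.objSupIsoProdEqLocus_inv_fst Y V x, X.sheaf.objSupIsoProdEqLocus_inv_snd Y V x⟩

/-- A thickening of a quasi-affine scheme is quasi-affine. -/
theorem isQuasiAffine_of_thickening {Z X : Scheme.{u}} (i : Z ⟶ X) [IsClosedImmersion i]
    (hi : IsHomeomorph i.base) [Z.IsQuasiAffine] : X.IsQuasiAffine := by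
  classical
  haveI : Surjective i := ⟨hi.surjective⟩
  haveI : CompactSpace X := (hi.homeomorph i.base).compactSpace
  haveI : QuasiSeparatedSpace X := (quasiSeparatedSpace_congr (hi.homeomorph i.base)).mp inferInstance
  have hinj : ∀ {U U' : X.Opens}, i ⁻¹ᵁ U ≤ i ⁻¹ᵁ U' → U ≤ U' := by
    intro U U' h x hx
    obtain ⟨z, rfl⟩ := hi.surjective x
    exact h hx
  have hinj' : ∀ {U U' : X.Opens}, i ⁻¹ᵁ U = i ⁻¹ᵁ U' → U = U' :=
    fun h => le_antisymm (hinj h.le) (hinj h.ge)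
  refine Scheme.IsQuasiAffine.of_forall_exists_mem_basicOpen X fun x => ?_
  obtain ⟨z, rfl⟩ := hi.surjective x
  obtain ⟨_, hmem, hzg, -⟩ := (Scheme.IsQuasiAffine.isBasis_basicOpen
    Z).exists_subset_of_mem_open (Set.mem_univ z) isOpen_univ
  obtain ⟨_, ⟨g, hg, rfl⟩, rfl⟩ := hmem
  -- the open `U` of `X` corresponding to `Z_g`
  let U : X.Opens := ⟨i.base '' (Z.basicOpen g : Set Z), hi.isOpenMap _ (Z.basicOpen g).2⟩
  have hU : i ⁻¹ᵁ U = Z.basicOpen g := by
    apply Opens.ext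
    exact Set.preimage_image_eq _ hi.injective
  have hUaff : IsAffineOpen U := isAffineOpen_of_isAffineOpen_preimage i U (hU ▸ hg)
  -- a finite affine cover
  have hbasis := fun x : X => Opens.isBasis_iff_nbhd.1 X.isBasis_affineOpens
    (show x ∈ (⊤ : X.Opens) from trivial)
  choose W hW hxW _ using hbasis
  obtain ⟨t, ht⟩ := isCompact_univ.elim_finite_subcover (fun x : X => ((W x : X.Opens) : Set X))
    (fun x => (W x).2) (fun x _ => Set.mem_iUnion.mpr ⟨x, hxW x⟩)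
  -- the inductive construction
  have key : ∀ t : Finset X, ∃ Y : X.Opens, U ≤ Y ∧ (∀ x ∈ t, W x ≤ Y) ∧
      IsCompact (Y : Set X) ∧ ∃ (N : ℕ) (s : Γ(X, Y)), 1 ≤ N ∧
        IsNilpotent (i.app Y s - resTop Z (i ⁻¹ᵁ Y) (g ^ N)) := by
    intro t
    induction t using Finset.induction_on with
    | empty =>
      obtain ⟨β, hβ⟩ := i.app_surjective U hUaff (resTop Z (i ⁻¹ᵁ U) g)
      refine ⟨U, le_rfl, by simp, hUaff.isCompact, 1, β, le_rfl, ?_⟩
      rw [hβ, pow_one, sub_self]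
      exact IsNilpotent.zero
    | insert x t hx ih =>
      obtain ⟨Y, hUY, hYt, hYc, N, s, hN, hs⟩ := ih
      have hV : IsAffineOpen (W x) := hW x
      obtain ⟨b, hb⟩ := i.app_surjective (W x) hV (resTop Z (i ⁻¹ᵁ (W x)) (g ^ N))
      have hgN : Z.basicOpen (g ^ N) = Z.basicOpen g := Z.basicOpen_pow g hN
      have hbY : X.basicOpen b ≤ Y := by
        refine le_trans (hinj ?_) hUY
        rw [Scheme.preimage_basicOpen, hb, basicOpen_resTop, hU, hgN]
        exact inf_le_right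
      have hO : IsCompact ((Y ⊓ W x : X.Opens) : Set X) :=
        QuasiSeparatedSpace.inter_isCompact _ _ Y.2 hYc (W x).2 hV.isCompact
      have h12Y : i ⁻¹ᵁ (Y ⊓ W x) ≤ i ⁻¹ᵁ Y := fun _ hz => hz.1
      have hν : IsNilpotent (X.presheaf.map (homOfLE (inf_le_right : Y ⊓ W x ≤ W x)).op b -
          X.presheaf.map (homOfLE (inf_le_left : Y ⊓ W x ≤ Y)).op s) := by
        have h1 : i.app (Y ⊓ W x)
            (X.presheaf.map (homOfLE (inf_le_right : Y ⊓ W x ≤ W x)).op b -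
              X.presheaf.map (homOfLE (inf_le_left : Y ⊓ W x ≤ Y)).op s) =
            - Z.presheaf.map (homOfLE h12Y).op (i.app Y s - resTop Z (i ⁻¹ᵁ Y) (g ^ N)) := by
          rw [map_sub, app_res, app_res, hb, res_resTop, map_sub, res_resTop]
          ring
        obtain ⟨k, hk⟩ := hs
        have h2 : i.app (Y ⊓ W x)
            ((X.presheaf.map (homOfLE (inf_le_right : Y ⊓ W x ≤ W x)).op b -
              X.presheaf.map (homOfLE (inf_le_left : Y ⊓ W x ≤ Y)).op s) ^ k) = 0 := by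
          rw [map_pow, h1, neg_pow, ← map_pow, hk, map_zero, mul_zero]
        obtain ⟨m, hm⟩ := isNilpotent_of_app_eq_zero i (Y ⊓ W x) hO _ h2
        exact ⟨k * m, by rw [pow_mul]; exact hm⟩
      obtain ⟨M, s', r, hM, hs'Y, hs'V⟩ := exists_glue_pow hV hO s b hbY hν
      have hYc' : IsCompact ((Y ⊔ W x : X.Opens) : Set X) := by
        rw [Opens.coe_sup]; exact hYc.union hV.isCompact
      refine ⟨Y ⊔ W x, hUY.trans le_sup_left, ?_, hYc', N * M, s', Nat.one_le_iff_ne_zero.mpr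
        (Nat.mul_ne_zero (Nat.one_le_iff_ne_zero.mp hN) (Nat.one_le_iff_ne_zero.mp hM)), ?_⟩
      · intro x' hx'
        rcases Finset.mem_insert.mp hx' with rfl | hx'
        · exact le_sup_right
        · exact (hYt x' hx').trans le_sup_left
      · have hc : IsCompact ((i ⁻¹ᵁ (Y ⊔ W x) : Z.Opens) : Set Z) :=
          i.isClosedEmbedding.isCompact_preimage hYc'
        rw [Scheme.isNilpotent_iff_basicOpen_eq_bot_of_isCompact hc, eq_bot_iff]
        have hleY : i ⁻¹ᵁ Y ≤ i ⁻¹ᵁ (Y ⊔ W x) := fun _ hz => Or.inl hz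
        have hleV : i ⁻¹ᵁ (W x) ≤ i ⁻¹ᵁ (Y ⊔ W x) := fun _ hz => Or.inr hz
        -- restriction to `Y`
        have hresY : Z.presheaf.map (homOfLE hleY).op
            (i.app (Y ⊔ W x) s' - resTop Z (i ⁻¹ᵁ (Y ⊔ W x)) (g ^ (N * M))) =
            (i.app Y s) ^ M - (resTop Z (i ⁻¹ᵁ Y) (g ^ N)) ^ M := by
          rw [map_sub, res_resTop, ← app_res i le_sup_left s', hs'Y, map_pow, pow_mul, map_pow]
        have hresV : Z.presheaf.map (homOfLE hleV).op
            (i.app (Y ⊔ W x) s' - resTop Z (i ⁻¹ᵁ (Y ⊔ W x)) (g ^ (N * M))) =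
            resTop Z (i ⁻¹ᵁ (W x)) (g ^ N) *
              (i.app (W x) r - (resTop Z (i ⁻¹ᵁ (W x)) (g ^ N)) ^ (M - 1)) := by
          rw [map_sub, res_resTop, ← app_res i le_sup_right s', hs'V, map_mul, hb]
          obtain ⟨M', rfl⟩ : ∃ M', M = M' + 1 := ⟨M - 1, by omega⟩
          have hpow : g ^ (N * (M' + 1)) = g ^ N * (g ^ N) ^ M' := by
            rw [pow_mul, pow_succ']
          rw [Nat.add_sub_cancel, hpow, map_mul, map_pow (resTop Z (i ⁻¹ᵁ (W x))) (g ^ N) M']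
          ring
        have claimA : ∀ z' ∈ i ⁻¹ᵁ Y,
            z' ∉ Z.basicOpen (i.app (Y ⊔ W x) s' - resTop Z (i ⁻¹ᵁ (Y ⊔ W x)) (g ^ (N * M))) := by
          intro z' hz'Y hz'
          have h1 : z' ∈ Z.basicOpen (Z.presheaf.map (homOfLE hleY).op
              (i.app (Y ⊔ W x) s' - resTop Z (i ⁻¹ᵁ (Y ⊔ W x)) (g ^ (N * M)))) := by
            rw [Scheme.basicOpen_res]; exact ⟨hz'Y, hz'⟩
          rw [hresY] at h1
          obtain ⟨q, hq⟩ := sub_dvd_pow_sub_pow (i.app Y s) (resTop Z (i ⁻¹ᵁ Y) (g ^ N)) M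
          have hnil : IsNilpotent ((i.app Y s) ^ M - (resTop Z (i ⁻¹ᵁ Y) (g ^ N)) ^ M) := by
            obtain ⟨k, hk⟩ := hs
            exact ⟨k, by rw [hq, mul_pow, hk, zero_mul]⟩
          have h0 : Z.basicOpen ((i.app Y s) ^ M - (resTop Z (i ⁻¹ᵁ Y) (g ^ N)) ^ M) = ⊥ :=
            Z.basicOpen_eq_bot_of_isNilpotent _ _ hnil
          rw [h0] at h1
          exact h1
        intro z' hz'
        rcases Opens.mem_sup.mp (show i.base z' ∈ Y ⊔ W x from Z.basicOpen_le _ hz') with hY' | hV'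
        · exact (claimA z' hY' hz').elim
        · have h1 : z' ∈ Z.basicOpen (Z.presheaf.map (homOfLE hleV).op
              (i.app (Y ⊔ W x) s' - resTop Z (i ⁻¹ᵁ (Y ⊔ W x)) (g ^ (N * M)))) := by
            rw [Scheme.basicOpen_res]; exact ⟨hV', hz'⟩
          rw [hresV, Scheme.basicOpen_mul, basicOpen_resTop, hgN] at h1
          have h2 : z' ∈ i ⁻¹ᵁ U := by rw [hU]; exact h1.1.2
          exact (claimA z' (hUY h2) hz').elim
  obtain ⟨Y, hUY, hYt, hYc, N, s, hN, hs⟩ := key t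
  have hYtop : (⊤ : X.Opens) ≤ Y := by
    intro x _
    obtain ⟨x', hx't, hx'⟩ := Set.mem_iUnion₂.mp (ht (Set.mem_univ x))
    exact hYt x' hx't hx'
  have hbs : X.basicOpen s = U := by
    apply hinj'
    have h1 : i.app Y s = resTop Z (i ⁻¹ᵁ Y) (g ^ N) + (i.app Y s - resTop Z (i ⁻¹ᵁ Y) (g ^ N)) := by
      ring
    rw [Scheme.preimage_basicOpen, h1, basicOpen_add_of_isNilpotent _ _ hs, basicOpen_resTop,
      Z.basicOpen_pow g hN, hU]
    exact inf_eq_right.mpr (hU ▸ (fun _ hz => hUY hz : i ⁻¹ᵁ U ≤ i ⁻¹ᵁ Y))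
  refine ⟨X.presheaf.map (homOfLE hYtop).op s, ?_, ?_⟩
  · rw [Scheme.basicOpen_res, top_inf_eq, hbs]; exact hUaff
  · rw [Scheme.basicOpen_res, top_inf_eq, hbs]
    exact ⟨z, hzg, rfl⟩

end Groth.Agent.Lib.ThickAffine
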