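import Groth.Agent.Lib.ThickAmple

/-!
# Relative ampleness and morphisms of thickenings (helper24)

`isRelAmple_iff_of_thickening` : for a morphism of thickenings `(f, f') : (X ⊂ X') → (S ⊂ S')` and an
invertible module `L'` on `X'`, `L'` is `f'`-ample iff `L'|_X` is `f`-ample.
-/

set_option autoImplicit false
universe u

open CategoryTheory CategoryTheory.Limits AlgebraicGeometry Opposite TopologicalSpace
open Groth.Agent.Lib.H90Invertible

namespace Groth.Agent.Lib.ThickAffine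

theorem isHomeomorph_of_thickening {Z X : Scheme.{u}} (i : Z ⟶ X) [IsClosedImmersion i]
    [Surjective i] : IsHomeomorph i.base :=
  isHomeomorph_iff_isEmbedding_surjective.mpr ⟨i.isClosedEmbedding.isEmbedding, i.surjective⟩

theorem isRelAmple_iff_of_thickening {X X' S S' : Scheme.{u}} (iX : X ⟶ X') (iS : S ⟶ S')
    (f : X ⟶ S) (f' : X' ⟶ S') [IsClosedImmersion iX] [Surjective iX] [IsClosedImmersion iS]
    [Surjective iS] (w : iX ≫ f' = f ≫ iS) (L' : X'.Modules) (hL' : PicF.IsInvertible L') :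
    RelAmple.IsRelAmple f' L' ↔ RelAmple.IsRelAmple f ((Scheme.Modules.pullback iX).obj L') := by
  have hiS : IsHomeomorph iS.base := isHomeomorph_of_thickening iS
  have hpre : ∀ V' : S'.Opens, f ⁻¹ᵁ (iS ⁻¹ᵁ V') = iX ⁻¹ᵁ (f' ⁻¹ᵁ V') := by
    intro V'
    rw [← Scheme.Hom.comp_preimage, ← Scheme.Hom.comp_preimage, w]
  -- the equivalence over one open of `S'`
  have key : ∀ V' : S'.Opens,
      CohB1.IsAmple (L'.restrict (f' ⁻¹ᵁ V').ι) ↔
      CohB1.IsAmple (((Scheme.Modules.pullback iX).obj L').restrict (f ⁻¹ᵁ (iS ⁻¹ᵁ V')).ι) := by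
    intro V'
    rw [hpre V']
    obtain ⟨U', hU'⟩ : ∃ U' : X'.Opens, U' = f' ⁻¹ᵁ V' := ⟨_, rfl⟩
    rw [← hU']
    have hres : iX.resLE U' (iX ⁻¹ᵁ U') le_rfl = iX ∣_ U' := Scheme.Hom.resLE_eq_morphismRestrict ..
    haveI : IsClosedImmersion (iX.resLE U' (iX ⁻¹ᵁ U') le_rfl) := by
      rw [hres]; exact IsZariskiLocalAtTarget.restrict ‹_› U'
    haveI : Surjective (iX.resLE U' (iX ⁻¹ᵁ U') le_rfl) := by
      rw [hres]; exact IsZariskiLocalAtTarget.restrict ‹_› U'
    have e := Groth.Agent.Lib.H78PullAmple.resLEPullbackIso iX U' (iX ⁻¹ᵁ U') le_rfl L'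
    constructor
    · intro h
      exact Groth.Agent.Lib.H78AmpleUnit.isAmple_of_iso e.symm
        (Groth.Agent.Lib.H78PullAmple.isAmple_pullback_of_isAffineHom _ h)
    · intro h
      exact isAmple_of_thickening _ (isHomeomorph_of_thickening _) _
        (isInvertible_restrict U'.ι hL') (Groth.Agent.Lib.H78AmpleUnit.isAmple_of_iso e h)
  constructor
  · rintro ⟨hqc, hamp⟩
    refine ⟨?_, fun V => ?_⟩
    · haveI := hqc
      haveI : QuasiCompact (f ≫ iS) := by rw [← w]; infer_instance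
      exact QuasiCompact.of_comp f iS
    · obtain ⟨V', hV'⟩ : ∃ V' : S'.Opens, iS ⁻¹ᵁ V' = V.1 :=
        ⟨⟨iS.base '' (V.1 : Set S), hiS.isOpenMap _ V.1.2⟩,
          Opens.ext (Set.preimage_image_eq _ hiS.injective)⟩
      have hV'aff : IsAffineOpen V' := isAffineOpen_of_isAffineOpen_preimage iS V' (hV' ▸ V.2)
      have h := (key V').mp (hamp ⟨V', hV'aff⟩)
      rw [hV'] at h
      exact h
  · rintro ⟨hqc, hamp⟩
    refine ⟨?_, fun V' => ?_⟩
    · haveI := hqc
      haveI : QuasiCompact (iX ≫ f') := by rw [w]; infer_instance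
      refine ⟨fun U hU hUc => ?_⟩
      have h1 : IsCompact ((iX ≫ f') ⁻¹' U) :=
        QuasiCompact.isCompact_preimage (f := iX ≫ f') U hU hUc
      have h2 : iX.base '' ((iX ≫ f') ⁻¹' U) = f' ⁻¹' U := by
        ext x
        constructor
        · rintro ⟨y, hy, rfl⟩
          exact hy
        · intro hx
          obtain ⟨y, rfl⟩ := iX.surjective x
          exact ⟨y, hx, rfl⟩
      rw [← h2]
      exact h1.image iX.continuous
    · have hV : IsAffineOpen (iS ⁻¹ᵁ V'.1) := V'.2.preimage iS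
      exact (key V'.1).mpr (hamp ⟨_, hV⟩)

end Groth.Agent.Lib.ThickAffine
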