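import Mathlib.Algebra.Homology.Refinements
import Mathlib.Algebra.Homology.QuasiIso
import Mathlib.Algebra.Homology.HomologySequence
import Mathlib.CategoryTheory.Preadditive.Injective.Basic
import Mathlib.CategoryTheory.Abelian.Refinements
import Mathlib.CategoryTheory.Abelian.CommSq

/-!
# Resolutions by injective objects lying in a thick subcategory (helper31)

`A` abelian, `P` a class of objects closed under isomorphisms, cokernels and extensions, such that
every object of `P` embeds into an injective object of `A` lying in `P`. Every `ℕ`-indexed cochain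
complex `K` whose cohomology objects lie in `P` admits a quasi-isomorphism `K ⟶ J` with all `J.X k`
injective and in `P` (Hartshorne, *Residues and Duality*, I.4.6/I.4.8).
-/

set_option autoImplicit false

open CategoryTheory Limits Category

namespace Groth.Agent.ThickRes31

variable {A : Type*} [Category* A] [Abelian A]

/-- The closure properties of the class `P`. -/
structure Thick (P : ObjectProperty A) : Prop where
  iso : ∀ {X Y : A}, (X ≅ Y) → P X → P Y
  cokernel : ∀ {X Y : A} (u : X ⟶ Y), P X → P Y → P (cokernel u)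
  ext : ∀ S : ShortComplex A, S.ShortExact → P S.X₁ → P S.X₃ → P S.X₂
  inj : ∀ X : A, P X → ∃ (Y : A) (i : X ⟶ Y), Mono i ∧ P Y ∧ Injective Y

variable (K : CochainComplex A ℕ) (P : ObjectProperty A)

/-- The state of the inductive construction in degree `k`. -/
structure State (k : ℕ) where
  J : A
  hP : P J
  hInj : Injective J
  f : K.X k ⟶ J
  C : A
  hC : P C
  c : J ⟶ C
  epi_c : Epi c
  s1 : ∀ j, K.d j k ≫ f ≫ c = 0
  s2 : ∀ ⦃T : A⦄ (x : T ⟶ K.X k), x ≫ K.d k (k + 1) = 0 → x ≫ f ≫ c = 0 →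
    ∃ (T' : A) (π : T' ⟶ T) (_ : Epi π) (j : ℕ) (_ : (ComplexShape.up ℕ).prev k = j)
      (y : T' ⟶ K.X j), π ≫ x = y ≫ K.d j k

variable {K P}

/-- The properties of one step of the construction. -/
structure StepProps {k : ℕ} (σ : State K P k) (τ : State K P (k + 1)) (d : σ.J ⟶ τ.J) : Prop where
  d1 : σ.f ≫ d = K.d k (k + 1) ≫ τ.f
  d2 : ∃ r : σ.C ⟶ τ.J, d = σ.c ≫ r
  d3 : d ≫ τ.c = 0
  d4 : ∀ ⦃T : A⦄ (y : T ⟶ τ.J), y ≫ τ.c = 0 →
    ∃ (T' : A) (π : T' ⟶ T) (_ : Epi π) (z : T' ⟶ σ.J), π ≫ y = z ≫ d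
  d5 : ∀ ⦃T : A⦄ (y : T ⟶ σ.J), y ≫ d = 0 →
    ∃ (T' : A) (π : T' ⟶ T) (_ : Epi π) (x : T' ⟶ K.X k), x ≫ K.d k (k + 1) = 0 ∧
      π ≫ y ≫ σ.c = x ≫ σ.f ≫ σ.c

/-- The initial state. -/
lemma exists_init (hT : Thick P) (hK : ∀ k, P (K.homology k)) :
    ∃ σ : State K P 0, Mono σ.c := by
  have hZ : P (K.cycles 0) := by
    have : IsIso (K.homologyπ 0) := K.isIso_homologyπ 0 0 (by simp) (K.shape _ _ (by simp))
    exact hT.iso (asIso (K.homologyπ 0)).symm (hK 0)
  obtain ⟨J, i, hi, hJ, hJinj⟩ := hT.inj _ hZ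
  refine ⟨{ J := J, hP := hJ, hInj := hJinj, f := Injective.factorThru i (K.iCycles 0), C := J,
            hC := hJ, c := 𝟙 J, epi_c := inferInstance, s1 := ?_, s2 := ?_ }, ?_⟩
  · intro j
    have : K.d j 0 = 0 := K.shape _ _ (by simp)
    rw [this, zero_comp]
  · intro T x hx hx'
    refine ⟨T, 𝟙 T, inferInstance, _, rfl, 0, ?_⟩
    rw [id_comp, zero_comp]
    rw [comp_id] at hx'
    have h1 : K.liftCycles x 1 (by simp) hx ≫ i = 0 := by
      have h2 : K.liftCycles x 1 (by simp) hx ≫ K.iCycles 0 = x := K.liftCycles_i _ _ _ _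
      rw [← Injective.comp_factorThru i (K.iCycles 0), ← assoc, h2, hx']
    have h3 : K.liftCycles x 1 (by simp) hx = 0 := by
      rw [← cancel_mono i, h1, zero_comp]
    rw [← K.liftCycles_i x 1 (by simp) hx, h3, zero_comp]
  · dsimp only
    infer_instance

/-- Kernel of the legs of a pushout: if `x ≫ inl = 0` then `x` comes from the kernel of the other
leg (up to refinements). -/
lemma pushout_inl_eq_zero_up_to_refinements {X₁ X₂ X₃ X₄ : A} {t : X₁ ⟶ X₂} {l : X₁ ⟶ X₃}
    {r : X₂ ⟶ X₄} {b : X₃ ⟶ X₄} (sq : IsPushout t l r b) {T : A} (x : T ⟶ X₂) (hx : x ≫ r = 0) :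
    ∃ (T' : A) (π : T' ⟶ T) (_ : Epi π) (w : T' ⟶ X₁), π ≫ x = w ≫ t ∧ w ≫ l = 0 := by
  have hz : biprod.lift x (0 : T ⟶ X₃) ≫ sq.shortComplex.g = 0 := by
    change biprod.lift x (0 : T ⟶ X₃) ≫ biprod.desc r b = 0
    rw [biprod.lift_desc, hx, zero_comp, add_zero]
  obtain ⟨T', π, hπ, w, hw⟩ := sq.exact_shortComplex.exact_up_to_refinements _ hz
  change T' ⟶ X₁ at w
  change π ≫ biprod.lift x (0 : T ⟶ X₃) = w ≫ biprod.lift t (-l) at hw
  refine ⟨T', π, hπ, w, ?_, ?_⟩
  · have := hw =≫ biprod.fst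
    simpa using this
  · have := hw =≫ biprod.snd
    simpa using this.symm

lemma exists_next (hT : Thick P) (hK : ∀ k, P (K.homology k)) {k : ℕ} (σ : State K P k) :
    ∃ (τ : State K P (k + 1)) (d : σ.J ⟶ τ.J), StepProps σ τ d := by
  have := σ.epi_c
  obtain ⟨j, hj⟩ : ∃ j, (ComplexShape.up ℕ).prev k = j := ⟨_, rfl⟩
  have hnext : (ComplexShape.up ℕ).next k = k + 1 := by simp
  have hprev' : (ComplexShape.up ℕ).prev (k + 1) = k := by simp
  have hrel : (ComplexShape.up ℕ).Rel k (k + 1) := rfl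
  -- the map `h : H^k(K) ⟶ C`
  let g₀ : K.cycles k ⟶ σ.C := K.iCycles k ≫ σ.f ≫ σ.c
  have hg₀ : K.toCycles j k ≫ g₀ = 0 := by
    dsimp only [g₀]
    rw [K.toCycles_i_assoc, σ.s1 j]
  let h : K.homology k ⟶ σ.C :=
    (K.homologyIsCokernel j k hj).desc (CokernelCofork.ofπ g₀ hg₀)
  have hh : K.homologyπ k ≫ h = g₀ :=
    (K.homologyIsCokernel j k hj).fac (CokernelCofork.ofπ g₀ hg₀) WalkingParallelPair.one
  have hmono : Mono h := by
    rw [Preadditive.mono_iff_cancel_zero]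
    intro T x hx
    obtain ⟨T₁, π₁, _, z, hz⟩ := surjective_up_to_refinements_of_epi (K.homologyπ k) x
    have h1 : (z ≫ K.iCycles k) ≫ σ.f ≫ σ.c = 0 := by
      rw [assoc]
      change z ≫ g₀ = 0
      rw [← hh, ← assoc, ← hz, assoc, hx, comp_zero]
    obtain ⟨T₂, π₂, _, j', hj', y, hy⟩ :=
      σ.s2 (z ≫ K.iCycles k) (by rw [assoc, K.iCycles_d, comp_zero]) h1
    obtain rfl : j = j' := hj.symm.trans hj'
    have h2 : π₂ ≫ z = y ≫ K.toCycles _ k := by
      rw [← cancel_mono (K.iCycles k), assoc, assoc, K.toCycles_i, hy]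
    rw [← cancel_epi π₁, ← cancel_epi π₂, comp_zero, comp_zero, hz, ← assoc, h2, assoc,
      K.toCycles_comp_homologyπ, comp_zero]
  let q : σ.C ⟶ cokernel h := cokernel.π h
  have hPM : P (cokernel h) := hT.cokernel h (hK k) σ.hC
  have hexq : (ShortComplex.mk h q (cokernel.condition h)).Exact :=
    ShortComplex.exact_of_g_is_cokernel _ (cokernelIsCokernel h)
  have hu : K.d j k ≫ σ.f ≫ σ.c ≫ q = 0 := by
    rw [← assoc σ.f, ← assoc, σ.s1 j, zero_comp]
  let u : K.opcycles k ⟶ cokernel h := K.descOpcycles (σ.f ≫ σ.c ≫ q) j hj hu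
  have hpu : K.pOpcycles k ≫ u = σ.f ≫ σ.c ≫ q := K.p_descOpcycles _ _ _ _
  have hιu : K.homologyι k ≫ u = 0 := by
    rw [← cancel_epi (K.homologyπ k), comp_zero, K.homology_π_ι_assoc, hpu]
    have h0 : g₀ ≫ q = 0 := by rw [← hh, assoc, cokernel.condition, comp_zero]
    simpa only [g₀, assoc] using h0
  let v : K.opcycles k ⟶ K.cycles (k + 1) := K.opcyclesToCycles k (k + 1)
  -- the pushout `N`
  let inl : cokernel h ⟶ pushout u v := pushout.inl u v
  let inr : K.cycles (k + 1) ⟶ pushout u v := pushout.inr u v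
  have sq : IsPushout u v inl inr := IsPushout.of_hasPushout u v
  let g : pushout u v ⟶ K.homology (k + 1) :=
    pushout.desc 0 (K.homologyπ (k + 1)) (by rw [comp_zero, K.opcyclesToCycles_homologyπ])
  have hinl_g : inl ≫ g = 0 := pushout.inl_desc _ _ _
  have hinr_g : inr ≫ g = K.homologyπ (k + 1) := pushout.inr_desc _ _ _
  have hmono_inl : Mono inl := by
    rw [Preadditive.mono_iff_cancel_zero]
    intro T x hx
    obtain ⟨T₁, π₁, _, w, hw1, hw2⟩ := pushout_inl_eq_zero_up_to_refinements sq x hx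
    -- `w ≫ v = 0` so `w` factors through `homologyι`
    have hw3 : w ≫ K.fromOpcycles k (k + 1) = 0 := by
      rw [← K.opcyclesToCycles_iCycles, ← assoc]
      change (w ≫ v) ≫ _ = 0
      rw [hw2, zero_comp]
    let w' : T₁ ⟶ K.homology k :=
      (K.homologyIsKernel k (k + 1) hnext).lift (KernelFork.ofι w hw3)
    have hw' : w' ≫ K.homologyι k = w :=
      (K.homologyIsKernel k (k + 1) hnext).fac (KernelFork.ofι w hw3) WalkingParallelPair.zero
    rw [← cancel_epi π₁, comp_zero, hw1, ← hw', assoc, hιu, comp_zero]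
  have hepi_g : Epi g := epi_of_epi_fac hinr_g
  have hexact : (ShortComplex.mk inl g hinl_g).Exact := by
    rw [ShortComplex.exact_iff_exact_up_to_refinements]
    intro T x hx
    dsimp only at x hx ⊢
    obtain ⟨T₁, π₁, _, x₂, x₃, hx23⟩ := sq.hom_eq_add_up_to_refinements x
    -- `x₃ ≫ homologyπ = 0`
    have h3 : x₃ ≫ K.homologyπ (k + 1) = 0 := by
      have := hx23 =≫ g
      rw [assoc, hx, comp_zero, Preadditive.add_comp, assoc, assoc, hinl_g, comp_zero, zero_add,
        hinr_g] at this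
      exact this.symm
    obtain ⟨T₂, π₂, _, y, hy⟩ :=
      (K.comp_homologyπ_eq_zero_iff_up_to_refinements k (k + 1) hprev' x₃).1 h3
    -- `π₂ ≫ x₃ = y ≫ toCycles = (y ≫ pOpcycles) ≫ v`
    refine ⟨T₂, π₂ ≫ π₁, inferInstance, π₂ ≫ x₂ + y ≫ K.pOpcycles k ≫ u, ?_⟩
    rw [assoc, hx23, Preadditive.comp_add, Preadditive.add_comp, assoc, assoc, assoc, sq.w,
      ← assoc π₂ x₃, hy, assoc]
    congr 2
    rw [← assoc (K.pOpcycles k)]
    congr 1
    exact (K.pOpcycles_opcyclesToCycles k (k + 1)).symm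
  have hPN : P (pushout u v) :=
    hT.ext (ShortComplex.mk inl g hinl_g) { exact := hexact, mono_f := hmono_inl, epi_g := hepi_g }
      hPM (hK (k + 1))
  obtain ⟨J', i', hi', hJ', hJ'inj⟩ := hT.inj _ hPN
  let m : cokernel h ⟶ J' := inl ≫ i'
  have hm : Mono m := mono_comp _ _
  let f' : K.X (k + 1) ⟶ J' := Injective.factorThru (inr ≫ i') (K.iCycles (k + 1))
  have hf' : K.iCycles (k + 1) ≫ f' = inr ≫ i' := Injective.comp_factorThru _ _
  let d : σ.J ⟶ J' := σ.c ≫ q ≫ m
  have hexm : (ShortComplex.mk m (cokernel.π m) (cokernel.condition m)).Exact :=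
    ShortComplex.exact_of_g_is_cokernel _ (cokernelIsCokernel m)
  have hd1 : σ.f ≫ d = K.d k (k + 1) ≫ f' := by
    rw [← K.pOpcycles_opcyclesToCycles_iCycles k (k + 1), assoc, assoc, hf']
    change _ = K.pOpcycles k ≫ v ≫ inr ≫ i'
    rw [← assoc v, ← sq.w, assoc, ← assoc (K.pOpcycles k), hpu]
    simp only [d, m, assoc]
  have hd3 : d ≫ cokernel.π m = 0 := by
    simp only [d, assoc, cokernel.condition, comp_zero]
  refine ⟨{ J := J', hP := hJ', hInj := hJ'inj, f := f', C := cokernel m,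
            hC := hT.cokernel m hPM hJ', c := cokernel.π m, epi_c := inferInstance,
            s1 := ?_, s2 := ?_ }, d, ?_⟩
  · intro j'
    by_cases hj' : (ComplexShape.up ℕ).Rel j' (k + 1)
    · obtain rfl : j' = k := by
        have : j' + 1 = k + 1 := hj'
        omega
      rw [← assoc, ← hd1, assoc, hd3, comp_zero]
    · rw [K.shape _ _ hj', zero_comp]
  · intro T x hx hx'
    let x' : T ⟶ K.cycles (k + 1) := K.liftCycles x (k + 1 + 1) (by simp) hx
    have hx'i : x' ≫ K.iCycles (k + 1) = x := K.liftCycles_i _ _ _ _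
    have h1 : (x' ≫ inr ≫ i') ≫ cokernel.π m = 0 := by
      rw [← hf', ← assoc x', hx'i, assoc]
      exact hx'
    obtain ⟨T₁, π₁, _, y', hy'⟩ := hexm.exact_up_to_refinements _ h1
    dsimp only at y' hy'
    have h2 : π₁ ≫ x' ≫ inr = y' ≫ inl := by
      rw [← cancel_mono i', assoc, assoc, assoc, hy']
    have h3 : (π₁ ≫ x') ≫ K.homologyπ (k + 1) = 0 := by
      rw [← hinr_g, ← assoc, assoc π₁, h2, assoc, hinl_g, comp_zero]
    obtain ⟨T₂, π₂, _, y, hy⟩ :=
      (K.comp_homologyπ_eq_zero_iff_up_to_refinements k (k + 1) hprev' (π₁ ≫ x')).1 h3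
    refine ⟨T₂, π₂ ≫ π₁, inferInstance, k, hprev', y, ?_⟩
    rw [assoc, ← hx'i, ← assoc π₁, ← assoc π₂, hy, assoc, K.toCycles_i]
  · exact
      { d1 := hd1
        d2 := ⟨q ≫ m, rfl⟩
        d3 := hd3
        d4 := by
          intro T y hy
          obtain ⟨T₁, π₁, _, y', hy'⟩ := hexm.exact_up_to_refinements y hy
          dsimp only at y' hy'
          have : Epi (σ.c ≫ q) := epi_comp _ _
          obtain ⟨T₂, π₂, _, z, hz⟩ := surjective_up_to_refinements_of_epi (σ.c ≫ q) y'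
          refine ⟨T₂, π₂ ≫ π₁, inferInstance, z, ?_⟩
          rw [assoc, hy', ← assoc, hz]
          simp only [d, assoc]
        d5 := by
          intro T y hy
          have h1 : (y ≫ σ.c) ≫ q = 0 := by
            rw [← cancel_mono m, zero_comp, assoc, assoc]
            simpa only [d, assoc] using hy
          obtain ⟨T₁, π₁, _, t, ht⟩ := hexq.exact_up_to_refinements _ h1
          dsimp only at t ht
          obtain ⟨T₂, π₂, _, z, hz⟩ := surjective_up_to_refinements_of_epi (K.homologyπ k) t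
          refine ⟨T₂, π₂ ≫ π₁, inferInstance, z ≫ K.iCycles k, ?_, ?_⟩
          · rw [assoc, K.iCycles_d, comp_zero]
          · rw [assoc, assoc]
            change _ = z ≫ g₀
            rw [← hh, ← assoc z, ← hz, assoc, ← ht] }

section Assembly

variable (hT : Thick P) (hK : ∀ k, P (K.homology k))

/-- The sequence of states. -/
noncomputable def seq : ∀ k, State K P k
  | 0 => (exists_init hT hK).choose
  | k + 1 => (exists_next hT hK (seq k)).choose

/-- The differentials. -/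
noncomputable def dseq (k : ℕ) : (seq hT hK k).J ⟶ (seq hT hK (k + 1)).J :=
  (exists_next hT hK (seq hT hK k)).choose_spec.choose

lemma stepProps (k : ℕ) : StepProps (seq hT hK k) (seq hT hK (k + 1)) (dseq hT hK k) :=
  (exists_next hT hK (seq hT hK k)).choose_spec.choose_spec

lemma mono_c_zero : Mono (seq hT hK 0).c := (exists_init hT hK).choose_spec

lemma dseq_comp (k : ℕ) : dseq hT hK k ≫ dseq hT hK (k + 1) = 0 := by
  obtain ⟨r, hr⟩ := (stepProps hT hK (k + 1)).d2
  rw [hr, ← assoc, (stepProps hT hK k).d3, zero_comp]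

/-- The resolving complex. -/
noncomputable def J : CochainComplex A ℕ :=
  CochainComplex.of (fun k => (seq hT hK k).J) (dseq hT hK) (dseq_comp hT hK)

lemma J_d (k : ℕ) : (J hT hK).d k (k + 1) = dseq hT hK k := by
  dsimp only [J]
  exact CochainComplex.of_d _ _ _

/-- The comparison map. -/
noncomputable def fK : K ⟶ J hT hK where
  f k := (seq hT hK k).f
  comm' i j hij := by
    obtain rfl : i + 1 = j := hij
    rw [J_d]
    exact (stepProps hT hK i).d1

lemma J_d_comp_c (i k : ℕ) : (J hT hK).d i k ≫ (seq hT hK k).c = 0 := by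
  by_cases hik : (ComplexShape.up ℕ).Rel i k
  · obtain rfl : i + 1 = k := hik
    rw [J_d]
    exact (stepProps hT hK i).d3
  · rw [(J hT hK).shape _ _ hik, zero_comp]

lemma c_property (k : ℕ) ⦃T : A⦄ (y : T ⟶ (seq hT hK k).J) (hy : y ≫ (seq hT hK k).c = 0) :
    ∃ (T' : A) (π : T' ⟶ T) (_ : Epi π) (i : ℕ) (_ : (ComplexShape.up ℕ).prev k = i)
      (z : T' ⟶ (seq hT hK i).J), π ≫ y = z ≫ (J hT hK).d i k := by
  cases k with
  | zero =>
    have := mono_c_zero hT hK
    have hy0 : y = 0 := by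
      rw [← cancel_mono (seq hT hK 0).c, hy, zero_comp]
    refine ⟨T, 𝟙 T, inferInstance, _, rfl, 0, ?_⟩
    rw [hy0, comp_zero]
    exact zero_comp.symm
  | succ k =>
    obtain ⟨T', π, hπ, z, hz⟩ := (stepProps hT hK k).d4 y hy
    refine ⟨T', π, hπ, k, by simp, z, ?_⟩
    rw [J_d]
    exact hz

instance quasiIso_fK : QuasiIso (fK hT hK) := by
  refine ⟨fun k => ?_⟩
  rw [quasiIsoAt_iff_isIso_homologyMap]
  obtain ⟨i, hi⟩ : ∃ i, (ComplexShape.up ℕ).prev k = i := ⟨_, rfl⟩
  have hk : (ComplexShape.up ℕ).next k = k + 1 := by simp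
  have hmono : Mono (HomologicalComplex.homologyMap (fK hT hK) k) := by
    rw [HomologicalComplex.mono_homologyMap_iff_up_to_refinements (fK hT hK) i k (k + 1) hi hk]
    intro T x₂ hx₂ y₁ hy₁
    have h0 : x₂ ≫ (seq hT hK k).f ≫ (seq hT hK k).c = 0 := by
      rw [← assoc]
      change (x₂ ≫ (fK hT hK).f k) ≫ _ = 0
      rw [hy₁, assoc, J_d_comp_c, comp_zero]
    obtain ⟨T', π, hπ, j, hj, y, hy⟩ := (seq hT hK k).s2 x₂ hx₂ h0
    obtain rfl : i = j := hi.symm.trans hj
    exact ⟨T', π, hπ, y, hy⟩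
  have hepi : Epi (HomologicalComplex.homologyMap (fK hT hK) k) := by
    rw [HomologicalComplex.epi_homologyMap_iff_up_to_refinements (fK hT hK) i k (k + 1) hi hk]
    intro T y₂ hy₂
    rw [J_d] at hy₂
    change T ⟶ (seq hT hK k).J at y₂
    obtain ⟨T₁, π₁, _, x, hx, hx'⟩ := (stepProps hT hK k).d5 y₂ hy₂
    have h0 : (π₁ ≫ y₂ - x ≫ (seq hT hK k).f) ≫ (seq hT hK k).c = 0 := by
      rw [Preadditive.sub_comp, assoc, assoc, hx', sub_self]
    obtain ⟨T₂, π₂, _, j, hj, z, hz⟩ := c_property hT hK k _ h0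
    obtain rfl : i = j := hi.symm.trans hj
    refine ⟨T₂, π₂ ≫ π₁, inferInstance, π₂ ≫ x, by rw [assoc, hx, comp_zero], z, ?_⟩
    have e2 : (π₂ ≫ π₁) ≫ y₂ = (π₂ ≫ x) ≫ (seq hT hK k).f +
        (z ≫ (J hT hK).d i k : T₂ ⟶ (seq hT hK k).J) := by
      have e3 : (z ≫ (J hT hK).d i k : T₂ ⟶ (seq hT hK k).J) =
          π₂ ≫ π₁ ≫ y₂ - π₂ ≫ x ≫ (seq hT hK k).f := by
        rw [← Preadditive.comp_sub]
        exact hz.symm
      rw [e3, assoc, assoc]
      abel
    exact e2
  exact isIso_of_mono_of_epi _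

/-- **Main theorem** (ℕ-indexed version). -/
theorem main_nat (hT : Thick P) (hK : ∀ k, P (K.homology k)) :
    ∃ (L : CochainComplex A ℕ) (f : K ⟶ L),
    (∀ k, P (L.X k) ∧ Injective (L.X k)) ∧ QuasiIso f :=
  ⟨J hT hK, fK hT hK, fun k => ⟨(seq hT hK k).hP, (seq hT hK k).hInj⟩, inferInstance⟩

end Assembly

end Groth.Agent.ThickRes31
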