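import Groth.Agent.Lib.ThickRes31
import Groth.Agent.Lib.DPlusFF31
import Mathlib.Algebra.Homology.Embedding.CochainComplex
import Mathlib.Algebra.Homology.Embedding.ExtendHomology

/-!
# Resolutions inside a thick subcategory: the `ℤ`-indexed version and the application to
`D⁺(A') ⥤ D⁺_{A'}(A)` (helper31)
-/

set_option autoImplicit false

open CategoryTheory Limits Category

namespace Groth.Agent.ThickRes31

variable {A : Type*} [Category* A] [Abelian A] {P : ObjectProperty A}

lemma Thick.of_isZero (hT : Thick P) {X Z : A} (hX : P X) (hZ : IsZero Z) : P Z := by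
  have h1 : P (Limits.cokernel (𝟙 X)) := hT.cokernel _ hX hX
  have h2 : IsZero (Limits.cokernel (𝟙 X)) := by
    rw [IsZero.iff_id_eq_zero, ← cancel_epi (Limits.cokernel.π (𝟙 X)), comp_id, comp_zero]
    have := Limits.cokernel.condition (𝟙 X)
    rwa [id_comp] at this
  exact hT.iso (h2.iso hZ) h1

/-- **Main theorem** (`ℤ`-indexed version). -/
theorem main_int (hT : Thick P) (K : CochainComplex A ℤ) (a : ℤ) [K.IsStrictlyGE a]
    (hK : ∀ n, P (K.homology n)) :
    ∃ (L : CochainComplex A ℤ) (f : K ⟶ L), L.IsStrictlyGE a ∧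
      (∀ n, P (L.X n) ∧ Injective (L.X n)) ∧ QuasiIso f := by
  let e := ComplexShape.embeddingUpIntGE a
  have hπ : IsIso (HomologicalComplex.πTruncGE K e) := inferInstance
  let K₀ := HomologicalComplex.truncGE' K e
  have hK₀ : ∀ k, P (K₀.homology k) := by
    intro k
    have e1 : (K₀.extend e).homology (e.f k) ≅ K₀.homology k :=
      K₀.extendHomologyIso e rfl
    have e2 : K.homology (e.f k) ≅ (K₀.extend e).homology (e.f k) :=
      (HomologicalComplex.homologyFunctor A _ (e.f k)).mapIso (@asIso _ _ _ _ (HomologicalComplex.πTruncGE K e) hπ)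
    exact hT.iso (e2 ≪≫ e1) (hK _)
  obtain ⟨L₀, f₀, hL₀, hf₀⟩ := main_nat hT hK₀
  refine ⟨L₀.extend e, HomologicalComplex.πTruncGE K e ≫ HomologicalComplex.extendMap f₀ e, ?_, ?_, ?_⟩
  · change (L₀.extend e).IsStrictlySupported e
    infer_instance
  · intro n
    by_cases hn : ∃ k, e.f k = n
    · obtain ⟨k, hk⟩ := hn
      have e3 : (L₀.extend e).X n ≅ L₀.X k := L₀.extendXIso e hk
      exact ⟨hT.iso e3.symm (hL₀ k).1, have := (hL₀ k).2; Injective.of_iso e3.symm inferInstance⟩
    · have hz : IsZero ((L₀.extend e).X n) := L₀.isZero_extend_X e n (by simpa using hn)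
      exact ⟨hT.of_isZero (hK 0) hz, hz.injective⟩
  · have h1 : QuasiIso (HomologicalComplex.extendMap f₀ e) := inferInstance
    let g : HomologicalComplex.truncGE K e ⟶ L₀.extend e := HomologicalComplex.extendMap f₀ e
    have h1' : QuasiIso g := h1
    have h2 : QuasiIso (HomologicalComplex.πTruncGE K e) := inferInstance
    exact quasiIso_comp (HomologicalComplex.πTruncGE K e) g

section Lift

variable {A' : Type*} [Category* A'] [Abelian A'] (ι : A' ⥤ A) [ι.Additive] [ι.Full] [ι.Faithful]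

/-- A complex whose terms are in the essential image of a fully faithful functor lifts. -/
lemma exists_lift_complex (L : CochainComplex A ℤ) (hL : ∀ n, ι.essImage (L.X n)) :
    ∃ (I : CochainComplex A' ℤ),
      Nonempty ((ι.mapHomologicalComplex (ComplexShape.up ℤ)).obj I ≅ L) := by
  let X : ℤ → A' := fun n => (hL n).witness
  let eX : ∀ n, ι.obj (X n) ≅ L.X n := fun n => (hL n).getIso
  let d : ∀ n m, X n ⟶ X m := fun n m => ι.preimage ((eX n).hom ≫ L.d n m ≫ (eX m).inv)
  have hd : ∀ n m, ι.map (d n m) = (eX n).hom ≫ L.d n m ≫ (eX m).inv := fun n m =>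
    ι.map_preimage _
  let I : CochainComplex A' ℤ :=
    { X := X
      d := d
      shape := fun n m hnm => by
        apply ι.map_injective
        rw [hd, L.shape _ _ hnm, zero_comp, comp_zero, ι.map_zero]
      d_comp_d' := fun n m k _ _ => by
        apply ι.map_injective
        rw [ι.map_comp, hd, hd, ι.map_zero]
        simp }
  refine ⟨I, ⟨HomologicalComplex.Hom.isoOfComponents (fun n => eX n) ?_⟩⟩
  intro n m _
  change (eX n).hom ≫ L.d n m = ι.map (d n m) ≫ (eX m).hom
  rw [hd]
  simp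

end Lift

section Final

variable {A' : Type*} [Category* A'] [Abelian A'] (ι : A' ⥤ A) [ι.Additive] [ι.Full] [ι.Faithful]
  [PreservesFiniteLimits ι] [PreservesFiniteColimits ι]

lemma thick_essImage
    (hext : ∀ S : ShortComplex A, S.ShortExact → ι.essImage S.X₁ → ι.essImage S.X₃ →
      ι.essImage S.X₂)
    (hinj : ∀ X' : A', ∃ (Y' : A') (i : X' ⟶ Y'), Mono i ∧ Injective (ι.obj Y')) :
    Thick ι.essImage where
  iso e h := ι.essImage.prop_of_iso e h
  cokernel {X Y} u hX hY := by
    obtain ⟨X', ⟨eX⟩⟩ := hX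
    obtain ⟨Y', ⟨eY⟩⟩ := hY
    let u' : X' ⟶ Y' := ι.preimage (eX.hom ≫ u ≫ eY.inv)
    have hu' : ι.map u' = eX.hom ≫ u ≫ eY.inv := ι.map_preimage _
    refine ⟨Limits.cokernel u', ⟨(PreservesCokernel.iso ι u') ≪≫
      Limits.cokernel.mapIso (ι.map u') u eX eY ?_⟩⟩
    rw [hu']
    simp
  ext := hext
  inj X hX := by
    obtain ⟨X', ⟨eX⟩⟩ := hX
    obtain ⟨Y', i, hi, hY⟩ := hinj X'
    exact ⟨ι.obj Y', eX.inv ≫ ι.map i, inferInstance, ι.obj_mem_essImage Y', hY⟩

/-- Every bounded below object of `D(A)` with cohomology in the essential image of `ι` is the image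
of a bounded below complex of objects of `A'` whose images in `A` are injective. -/
theorem exists_resolution [HasDerivedCategory A'] [HasDerivedCategory A]
    (hext : ∀ S : ShortComplex A, S.ShortExact → ι.essImage S.X₁ → ι.essImage S.X₃ →
      ι.essImage S.X₂)
    (hinj : ∀ X' : A', ∃ (Y' : A') (i : X' ⟶ Y'), Mono i ∧ Injective (ι.obj Y'))
    (Z : DerivedCategory A) (a : ℤ) [Z.IsGE a]
    (hZ : ∀ i : ℤ, ι.essImage ((DerivedCategory.homologyFunctor A i).obj Z)) :
    ∃ (I : CochainComplex A' ℤ), I.IsStrictlyGE a ∧ (∀ n : ℤ, Injective (ι.obj (I.X n))) ∧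
      Nonempty (ι.mapDerivedCategory.obj (DerivedCategory.Q.obj I) ≅ Z) := by
  have hT := thick_essImage ι hext hinj
  obtain ⟨K, hK, ⟨eK⟩⟩ := DerivedCategory.exists_iso_Q_obj_of_isGE Z a
  have hKP : ∀ n, ι.essImage (K.homology n) := by
    intro n
    exact hT.iso ((DerivedCategory.homologyFunctor A n).mapIso eK ≪≫
      (DerivedCategory.homologyFunctorFactors A n).app K) (hZ n)
  obtain ⟨L, f, hL, hLP, hf⟩ := main_int hT K a hKP
  obtain ⟨I, ⟨eI⟩⟩ := exists_lift_complex ι L (fun n => (hLP n).1)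
  refine ⟨I, ?_, ?_, ⟨?_⟩⟩
  · have h1 : CochainComplex.IsStrictlyGE ((ι.mapHomologicalComplex (ComplexShape.up ℤ)).obj I) a :=
      CochainComplex.isStrictlyGE_of_iso eI.symm a
    exact (CochainComplex.isStrictlyGE_mapHomologicalComplex_obj_iff I ι a).1 h1
  · intro n
    have h2 : Injective (L.X n) := (hLP n).2
    have e4 : L.X n ≅ ι.obj (I.X n) := (HomologicalComplex.eval _ _ n).mapIso eI.symm
    exact Injective.of_iso e4 h2
  · have : IsIso (DerivedCategory.Q.map f) := by
      rw [DerivedCategory.isIso_Q_map_iff_quasiIso]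
      exact hf
    exact (ι.mapDerivedCategoryFactors.app I) ≪≫ DerivedCategory.Q.mapIso eI ≪≫
      (asIso (DerivedCategory.Q.map f)).symm ≪≫ eK.symm

end Final

end Groth.Agent.ThickRes31
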