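import Groth.Agent.S7476
import Groth.Agent.Lib.ValSpecialize
import Groth.Prelude.Def_MoreMor

set_option autoImplicit false
universe u
open CategoryTheory CategoryTheory.Limits AlgebraicGeometry Opposite

namespace Groth.Agent.Lib.ThickSheafH52

open HTop Groth.Agent.Lib.ValSpecialize

/-- a universally closed surjective morphism has the valuative lifting property -/
theorem hasValLift_singleton_of_universallyClosed {Y T : Scheme.{u}} (p : Y ⟶ T)
    [UniversallyClosed p] [Surjective p] :
    HasValLift (PreZeroHypercover.singleton.{0} p) := by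
  intro V _ _ g
  have h1 : (ValuativeCriterion.Existence ⊓ @QuasiCompact : MorphismProperty Scheme.{u}) p := by
    rw [← UniversallyClosed.eq_valuativeCriterion]; infer_instance
  obtain ⟨W, hWd, hWv, φ, hφ, g', hg'⟩ := exists_lift_of_existence p h1.1 V g
  exact ⟨W, hWd, hWv, φ, hφ, PUnit.unit, g', hg'⟩

/-- a universally closed surjective morphism is a V covering -/
theorem isVCover_singleton_of_universallyClosed {Y T : Scheme.{u}} (p : Y ⟶ T)
    [UniversallyClosed p] [Surjective p] :
    IsVCover (PreZeroHypercover.singleton.{0} p) :=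
  Groth.Agent.S7476.isVCover_of_hasValLift p (hasValLift_singleton_of_universallyClosed p)

/-- a sheaf on `Over S` for a topology induced from schemes takes a monomorphism generating a
covering sieve to a bijection -/
theorem bijective_map_of_mono_of_mem {S : Scheme.{u}} (J : GrothendieckTopology Scheme.{u})
    (F : Sheaf (J.over S) (Type (u + 1))) {X X' : Over S} (f : X ⟶ X') [Mono f]
    (hf : Sieve.generate (Presieve.singleton f.left) ∈ J X'.left) :
    Function.Bijective (F.obj.map f.op) := by
  have hmem : Sieve.generate (Presieve.singleton f) ∈ (J.over S) X' := by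
    rw [GrothendieckTopology.mem_over_iff]
    refine J.superset_covering ?_ hf
    rintro Z g ⟨W, h, k, ⟨⟩, rfl⟩
    exact ⟨X, f, h, ⟨X, 𝟙 X, f, ⟨⟩, by simp⟩, rfl⟩
  have hsh : Presieve.IsSheafFor F.obj (Presieve.singleton f) := by
    rw [Presieve.isSheafFor_iff_generate]
    exact ((isSheaf_iff_isSheaf_of_type _ _).mp F.property) _ hmem
  rw [Presieve.isSheafFor_singleton] at hsh
  refine Function.bijective_iff_existsUnique _ |>.mpr ?_
  intro x
  apply hsh x
  intro Z p₁ p₂ h
  rw [(cancel_mono f).mp h]

end Groth.Agent.Lib.ThickSheafH52
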