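import Groth.Agent.Lib.ThickSheafH52

set_option autoImplicit false
universe u
open CategoryTheory CategoryTheory.Limits AlgebraicGeometry Opposite

namespace Groth.Agent.Lib.ThickSheafH52

open HTop

/-- a proper surjective affine morphism is a ph covering -/
theorem isPhCover_singleton_of_isProper_of_isAffineHom {Y T : Scheme.{u}} (p : Y ⟶ T)
    [IsProper p] [Surjective p] [IsAffineHom p] :
    IsPhCover (PreZeroHypercover.singleton.{0} p) := by
  refine ⟨fun _ => (inferInstance : LocallyOfFiniteType p), ?_⟩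
  intro U
  have hU : IsAffineOpen (U : T.Opens) := U.2
  refine ⟨PreZeroHypercover.singleton.{0} (p ∣_ (U : T.Opens)), ⟨hU, inferInstance, ?_, ?_⟩, ?_⟩
  · intro _
    exact hU.preimage p
  · have hs : Surjective (p ∣_ (U : T.Opens)) :=
      MorphismProperty.of_isPullback (P := @Surjective)
        (isPullback_morphismRestrict p (U : T.Opens)).flip inferInstance
    refine ⟨((p ⁻¹ᵁ (U : T.Opens) : Y.Opens) : Scheme.{u}), p ∣_ (U : T.Opens), fun _ => 𝟙 _,
      inferInstance, hs, fun _ => ?_, fun _ => Category.id_comp _, fun x => ?_⟩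
    · exact (inferInstance : IsOpenImmersion (𝟙 ((p ⁻¹ᵁ (U : T.Opens) : Y.Opens) : Scheme.{u})))
    · exact ⟨PUnit.unit, x, rfl⟩
  · intro _
    exact ⟨PUnit.unit, (p ⁻¹ᵁ (U : T.Opens)).ι, (morphismRestrict_ι p (U : T.Opens)).symm⟩

end Groth.Agent.Lib.ThickSheafH52
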