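import Groth.Prelude.Def_MoreMor
import Mathlib.AlgebraicGeometry.Morphisms.QuasiCompact

set_option autoImplicit false
universe u

namespace Groth.Agent.Lib.Thickening

open AlgebraicGeometry CategoryTheory Limits

variable {X X' S S' : Scheme.{u}}

lemma isClosedImmersion {i : X ⟶ X'} (h : MoreMor.IsThickening i) : IsClosedImmersion i := h.1

lemma surjective {i : X ⟶ X'} (h : MoreMor.IsThickening i) : Surjective i := h.2

lemma isHomeomorph {i : X ⟶ X'} (h : MoreMor.IsThickening i) : IsHomeomorph i := by
  have := h.1
  have := h.2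
  exact (isHomeomorph_iff_isEmbedding_surjective).2
    ⟨i.isClosedEmbedding.isEmbedding, i.surjective⟩

/-- The homeomorphism underlying a thickening. -/
noncomputable def homeo {i : X ⟶ X'} (h : MoreMor.IsThickening i) : X ≃ₜ X' :=
  (isHomeomorph h).homeomorph

@[simp] lemma homeo_apply {i : X ⟶ X'} (h : MoreMor.IsThickening i) (x : X) :
    homeo h x = i x := rfl

end Groth.Agent.Lib.Thickening
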