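import Mathlib

/-!
# Third isomorphism theorem in an abelian category

For monomorphisms `a : A ⟶ B`, `b : B ⟶ D` and `c = a ≫ b`, the induced maps
`coker a ⟶ coker c ⟶ coker b` form a short exact sequence.
-/

set_option autoImplicit false
universe v u
open CategoryTheory CategoryTheory.Limits

namespace Groth.Agent.Lib.ThirdIso92

variable {C : Type u} [Category.{v} C] [Abelian C]

theorem shortExact {A B D : C} (a : A ⟶ B) (b : B ⟶ D) (c : A ⟶ D) [Mono a] [Mono b] [Mono c]
    (hc : a ≫ b = c) (φ : cokernel a ⟶ cokernel c) (ψ : cokernel c ⟶ cokernel b)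
    (hφ : cokernel.π a ≫ φ = b ≫ cokernel.π c) (hψ : cokernel.π c ≫ ψ = cokernel.π b) :
    ∃ w : φ ≫ ψ = 0, (ShortComplex.mk φ ψ w).ShortExact := by
  have w : φ ≫ ψ = 0 := by
    rw [← cancel_epi (cokernel.π a), reassoc_of% hφ, hψ, cokernel.condition, comp_zero]
  refine ⟨w, ?_⟩
  have hepi : Epi ψ := epi_of_epi_fac hψ
  have hmono : Mono φ := by
    rw [Preadditive.mono_iff_cancel_zero]
    intro T x hx
    obtain ⟨T', π, hπ, y, hy⟩ := surjective_up_to_refinements_of_epi (cokernel.π a) x
    have h1 : (y ≫ b) ≫ cokernel.π c = 0 := by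
      rw [Category.assoc, ← hφ, ← reassoc_of% hy, hx, comp_zero]
    have h2 : Abelian.monoLift c (y ≫ b) h1 ≫ a = y := by
      rw [← cancel_mono b, Category.assoc, hc, Abelian.monoLift_comp]
    have h3 : π ≫ x = 0 := by
      rw [hy, ← h2, Category.assoc, cokernel.condition, comp_zero]
    rw [← cancel_epi π, h3, comp_zero]
  refine { exact := ?_, mono_f := hmono, epi_g := hepi }
  rw [ShortComplex.exact_iff_exact_up_to_refinements]
  intro T x hx
  dsimp at x hx
  obtain ⟨T', π, hπ, y, hy⟩ := surjective_up_to_refinements_of_epi (cokernel.π c) x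
  have h1 : y ≫ cokernel.π b = 0 := by
    rw [← hψ, ← reassoc_of% hy, hx, comp_zero]
  refine ⟨T', π, hπ, Abelian.monoLift b y h1 ≫ cokernel.π a, ?_⟩
  dsimp
  rw [Category.assoc, hφ, ← Category.assoc, Abelian.monoLift_comp, hy]

end Groth.Agent.Lib.ThirdIso92
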