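import Mathlib.AlgebraicGeometry.Modules.Tilde
import Groth.Prelude.Def_Coh
import Groth.Agent.Lib.HartogsFlatNormal
import Groth.Agent.Lib.StructureModuleStalk
import Groth.Agent.Lib.StructureModule

/-!
# Restriction of `Hom(M~, O)` to an open of `Spec R` (helper92)

* `restrict_map_injective`: if `Γ(Z, O) → Γ(U, O)` is injective, so is `Hom(M~, O) → Hom(M~|_U, O_U)`.
* `restrict_map_bijective_of_isIso_unit`: for any adjunction-like situation, if `O → j_* j^* O` is an
  isomorphism, `Hom(F, O) → Hom(F|_U, O|_U)` is bijective.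
* `isIso_unit_structureModule_of_normal`: `R` Noetherian normal domain, `U` containing all primes of
  height `≤ 1`.
-/

set_option autoImplicit false
universe u
open CategoryTheory AlgebraicGeometry TopologicalSpace Opposite

namespace Groth.Agent.Lib.TildeHomRestrict92

section general

variable {X : Scheme.{u}}

/-- the structure sheaf as a module -/
noncomputable abbrev O (X : Scheme.{u}) : X.Modules := SheafOfModules.unit X.ringCatSheaf

theorem O_map_apply (X : Scheme.{u}) {V W : X.Opens} (i : V ⟶ W) (x : Γ(O X, W)) :
    (O X).presheaf.map i.op x = X.presheaf.map i.op x := rfl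

theorem naturality_apply {A B : X.Modules} (φ : A ⟶ B) {V W : X.Opens} (i : V ⟶ W)
    (x : Γ(A, W)) : φ.app V (A.presheaf.map i.op x) = B.presheaf.map i.op (φ.app W x) :=
  congr($(φ.mapPresheaf.naturality i.op) x)

/-- If `B → j_* j^* B` is an isomorphism, restriction `Hom(A, B) → Hom(A|_U, B|_U)` is
bijective. -/
theorem restrict_map_bijective_of_isIso_unit (U : X.Opens) (A B : X.Modules)
    [IsIso ((Scheme.Modules.restrictAdjunction U.ι).unit.app B)] :
    Function.Bijective (fun φ : A ⟶ B => (Scheme.Modules.restrictFunctor U.ι).map φ) := by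
  set adj := Scheme.Modules.restrictAdjunction U.ι with hadj
  constructor
  · intro φ φ' h
    have h' : (Scheme.Modules.restrictFunctor U.ι).map φ =
        (Scheme.Modules.restrictFunctor U.ι).map φ' := h
    have h1 := adj.unit.naturality φ
    have h2 := adj.unit.naturality φ'
    simp only [Functor.id_obj, Functor.id_map, Functor.comp_obj, Functor.comp_map] at h1 h2
    rw [← cancel_mono (adj.unit.app B), h1, h2, h']
  · intro ψ
    refine ⟨adj.homEquiv A _ ψ ≫ inv (adj.unit.app B), ?_⟩
    change (Scheme.Modules.restrictFunctor U.ι).map (adj.homEquiv A _ ψ ≫ inv (adj.unit.app B)) = ψ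
    have h3 : (Scheme.Modules.restrictFunctor U.ι).map (inv (adj.unit.app B)) =
        adj.counit.app ((Scheme.Modules.restrictFunctor U.ι).obj B) := by
      rw [Functor.map_inv]
      exact (IsIso.eq_inv_of_hom_inv_id (adj.left_triangle_components B)).symm
    rw [Functor.map_comp, h3]
    have := adj.homEquiv_counit (X := A) (g := adj.homEquiv A _ ψ)
    rw [Equiv.symm_apply_apply] at this
    exact this.symm

end general

section tilde

variable {R : CommRingCat.{u}} (M : ModuleCat.{u} R)

/-- Morphisms out of `M~` are determined by their effect on global sections. -/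
theorem eq_of_app_top_eq {N : (Spec (.of R)).Modules}
    (φ φ' : (tilde.functor R).obj M ⟶ N)
    (h : ∀ x, φ.app ⊤ x = φ'.app ⊤ x) : φ = φ' := by
  apply (tilde.adjunction.homEquiv M N).injective
  rw [Adjunction.homEquiv_unit, Adjunction.homEquiv_unit]
  congr 1
  apply ModuleCat.hom_ext
  apply LinearMap.ext
  intro x
  exact h x

/-- If restriction of functions to `U` is injective, so is restriction of homomorphisms
`M~ → O`. -/
theorem restrict_map_injective (U : (Spec (.of R)).Opens)
    (hinj : Function.Injective ((Spec (.of R)).presheaf.map (homOfLE (le_top : U ≤ ⊤)).op))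
    (φ φ' : (tilde.functor R).obj M ⟶ O (Spec (.of R)))
    (h : (Scheme.Modules.restrictFunctor U.ι).map φ = (Scheme.Modules.restrictFunctor U.ι).map φ') :
    φ = φ' := by
  have h1 : φ.app (U.ι ''ᵁ ⊤) = φ'.app (U.ι ''ᵁ ⊤) :=
    congrArg (fun ψ => Scheme.Modules.Hom.app ψ ⊤) h
  have hinj' : ∀ (U' : (Spec (.of R)).Opens), U' = U →
      Function.Injective ((Spec (.of R)).presheaf.map (homOfLE (le_top : U' ≤ ⊤)).op) := by
    rintro _ rfl; exact hinj
  apply eq_of_app_top_eq
  intro x
  apply hinj' _ U.ι_image_top
  rw [← O_map_apply, ← O_map_apply, ← naturality_apply, ← naturality_apply, h1]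

end tilde

section normal

variable (R : Type u) [CommRing R] [IsNoetherianRing R]

/-- The spectrum of a normal domain is a normal scheme. -/
theorem isNormalScheme_Spec [IsDomain R] [IsIntegrallyClosed R] :
    Pi1.IsNormalScheme (Spec (CommRingCat.of R)) := by
  intro x
  haveI : x.asIdeal.IsPrime := x.isPrime
  let k : Algebra R ((Spec (CommRingCat.of R)).presheaf.stalk x) :=
    StructureSheaf.stalkAlgebra R x
  haveI hloc : IsLocalization.AtPrime ((Spec (CommRingCat.of R)).presheaf.stalk x) x.asIdeal :=
    StructureSheaf.IsLocalization.to_stalk R x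
  exact ⟨IsLocalization.isDomain_of_atPrime _ x.asIdeal,
    isIntegrallyClosed_of_isLocalization _ x.asIdeal.primeCompl
      x.asIdeal.primeCompl_le_nonZeroDivisors⟩

theorem isFlat_structureModule (X : Scheme.{u}) : FlatMod.IsFlat (Coh.structureModule X) :=
  fun x ↦ Module.Flat.of_linearEquiv (Groth.Agent.Lib.StructureModuleStalk.stalkEquiv x).symm

/-- Hartogs for the structure sheaf of a normal Noetherian domain, as an isomorphism of sheaves. -/
theorem isIso_unit_structureModule_of_normal [IsDomain R] [IsIntegrallyClosed R]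
    (U : (Spec (CommRingCat.of R)).Opens)
    (hU : ∀ p : PrimeSpectrum R, p ∉ U → (2 : ℕ∞) ≤ p.asIdeal.height) :
    IsIso ((Scheme.Modules.restrictAdjunction U.ι).unit.app
      (Coh.structureModule (Spec (CommRingCat.of R)))) := by
  haveI : IsNoetherianRing (CommRingCat.of R) := ‹IsNoetherianRing R›
  haveI := Groth.Agent.Lib.StructureModule.isQuasicoherent_structureModule
    (Spec (CommRingCat.of R))
  refine Groth.Agent.Lib.HartogsFlatNormal.isIso_unit_of_flat_normal (isNormalScheme_Spec R)
    (Coh.structureModule (Spec (CommRingCat.of R))) (isFlat_structureModule _) U ?_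
  intro s hs
  by_contra hsU
  have h2 := hU s hsU
  haveI : s.asIdeal.IsPrime := s.isPrime
  let k : Algebra R ((Spec (CommRingCat.of R)).presheaf.stalk s) :=
    StructureSheaf.stalkAlgebra R s
  haveI hloc : IsLocalization.AtPrime ((Spec (CommRingCat.of R)).presheaf.stalk s) s.asIdeal :=
    StructureSheaf.IsLocalization.to_stalk R s
  rw [IsLocalization.AtPrime.ringKrullDim_eq_height s.asIdeal
    ((Spec (CommRingCat.of R)).presheaf.stalk s)] at hs
  have h3 : ((2 : ℕ∞) : WithBot ℕ∞) ≤ 1 := (WithBot.coe_le_coe.mpr h2).trans hs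
  exact absurd h3 (by decide)

end normal

end Groth.Agent.Lib.TildeHomRestrict92
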