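/-
helper11: `f_* (M~) ≅ (M_R)~` for `f = Spec.map φ`, naturally in the `S`-module `M` (`tildePushIso`).
-/
import Groth.Agent.Lib.TildeDAdj11
import Groth.Agent.Lib.TildePullback

set_option autoImplicit false
universe u
open CategoryTheory CategoryTheory.Limits AlgebraicGeometry

namespace Groth.Agent.Lib.TildePush11

open Groth.Agent.Lib.TildeDAdj11

variable {R S : CommRingCat.{u}} (φ : R ⟶ S)

instance isIso_counit_push_tilde (M : ModuleCat.{u} S) :
    IsIso ((tadj R).counit.app ((Scheme.Modules.pushforward (Spec.map φ)).obj ((tilde.functor S).obj M))) := by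
  haveI : IsIso ((tilde.functor S).obj M).fromTildeΓ := inferInstance
  exact isIso_fromTildeΓ_pushforward φ ((tilde.functor S).obj M)

instance : IsIso (Functor.whiskerLeft (tilde.functor S ⋙ Scheme.Modules.pushforward (Spec.map φ))
    (tadj R).counit) := by
  haveI : ∀ M : ModuleCat.{u} S, IsIso ((Functor.whiskerLeft (tilde.functor S ⋙
      Scheme.Modules.pushforward (Spec.map φ)) (tadj R).counit).app M) := fun M =>
    isIso_counit_push_tilde φ M
  exact NatIso.isIso_of_isIso_app _

instance : IsIso (tadj S).unit := by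
  haveI : ∀ M, IsIso ((tadj S).unit.app M) := fun M => inferInstance
  exact NatIso.isIso_of_isIso_app _

/-- `f_* (M~) ≅ (M_R)~` naturally in the `S`-module `M` -/
noncomputable def tildePushIso :
    tilde.functor S ⋙ Scheme.Modules.pushforward (Spec.map φ) ≅
      ModuleCat.restrictScalars φ.hom ⋙ tilde.functor R :=
  (Functor.rightUnitor _).symm ≪≫
    (asIso (Functor.whiskerLeft (tilde.functor S ⋙ Scheme.Modules.pushforward (Spec.map φ))
      (tadj R).counit)).symm ≪≫
    Functor.associator _ _ _ ≪≫
    Functor.isoWhiskerLeft (tilde.functor S) ((Functor.associator _ _ _).symm ≪≫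
      Functor.isoWhiskerRight (Groth.Agent.Lib.TildePullback.pushforwardΓIso φ) (tilde.functor R) ≪≫
      Functor.associator _ _ _) ≪≫
    (Functor.associator _ _ _).symm ≪≫
    Functor.isoWhiskerRight (asIso (tadj S).unit).symm _ ≪≫
    Functor.leftUnitor _

end Groth.Agent.Lib.TildePush11
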