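/-
helper11: S7268: `Rf_* (M~) ≅ (M_A)~` on derived categories for `f = Spec.map φ` (`tildePushDIso`, `nonempty_iso`), from
S7245 (`AffinePushD11.isIso_unit_of_affine`) + the module-level `TildePush11.tildePushIso` + `Localization.liftNatIso`.
-/
import Groth.Agent.Lib.TildePush11
import Groth.Agent.Lib.AffinePushD11
import Groth.Prelude.Def_DDual2

set_option autoImplicit false
universe u
open CategoryTheory CategoryTheory.Limits AlgebraicGeometry

namespace Groth.Agent.Lib.TildePushD11

attribute [local instance] HasDerivedCategory.standard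

open Groth.Agent.Lib.TildePush11 DerivedCategory

section

variable {R S : CommRingCat.{u}} (φ : R ⟶ S)
  [PreservesFiniteLimits (tilde.functor R)] [PreservesFiniteLimits (tilde.functor S)]
  [DCoh.HasRpush (Spec.map φ)]

local notation "c" => ComplexShape.up ℤ
local notation "P" => Scheme.Modules.pushforward (Spec.map φ)
local notation "res" => ModuleCat.restrictScalars φ.hom

/-- the complex-level unit `f_* K ⟶ Rf_* K` -/
noncomputable def η' : (P).mapHomologicalComplex c ⋙ Q ⟶ Q ⋙ DCoh.Rpush (Spec.map φ) where
  app K := ((DCoh.pushKh (Spec.map φ)).totalRightDerivedUnit DerivedCategory.Qh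
      (HomotopyCategory.quasiIso (Spec S).Modules (ComplexShape.up ℤ))).app
        ((HomotopyCategory.quotient _ _).obj K)
  naturality _ _ g := ((DCoh.pushKh (Spec.map φ)).totalRightDerivedUnit DerivedCategory.Qh
      (HomotopyCategory.quasiIso (Spec S).Modules (ComplexShape.up ℤ))).naturality
        ((HomotopyCategory.quotient _ _).map g)

instance : IsIso (Functor.whiskerLeft ((tilde.functor S).mapHomologicalComplex c) (η' φ)) := by
  haveI : ∀ M, IsIso ((Functor.whiskerLeft ((tilde.functor S).mapHomologicalComplex c) (η' φ)).app M) := by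
    intro M
    exact Groth.Agent.Lib.AffinePushD11.isIso_unit_of_affine (Spec.map φ)
      (((tilde.functor S).mapHomologicalComplex c).obj M) (fun n => by
        change ((tilde.functor S).obj (M.X n)).IsQuasicoherent
        infer_instance)
  exact NatIso.isIso_of_isIso_app _

instance addTilde : @Functor.Additive (ModuleCat.{u} R) (Spec R).Modules _ _ _ _ (tilde.functor R) :=
  inferInstanceAs (tilde.functor R).Additive

/-- complex-level form of `tildePushIso` -/
noncomputable def θ' : (res).mapHomologicalComplex c ⋙ (tilde.functor R).mapHomologicalComplex c ≅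
    (tilde.functor S).mapHomologicalComplex c ⋙ (P).mapHomologicalComplex c :=
  Functor.mapHomologicalComplexCompIso (H := tilde.functor S ⋙ P) (tildePushIso φ).symm c ≪≫
    (Functor.mapHomologicalComplexCompIso (H := tilde.functor S ⋙ P) (Iso.refl _) c).symm

/-- the isomorphism after precomposition with `Q` -/
noncomputable def eQ : Q ⋙ (DCoh.tildeD S ⋙ DCoh.Rpush (Spec.map φ)) ≅
    Q ⋙ (DRing.restrictD φ.hom ⋙ DCoh.tildeD R) :=
  ((Functor.associator _ _ _).symm ≪≫
      Functor.isoWhiskerRight (tilde.functor S).mapDerivedCategoryFactors (DCoh.Rpush (Spec.map φ)) ≪≫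
      Functor.associator _ _ _) ≪≫
    (asIso (Functor.whiskerLeft ((tilde.functor S).mapHomologicalComplex c) (η' φ))).symm ≪≫
    (Functor.associator _ _ _).symm ≪≫
    Functor.isoWhiskerRight (θ' φ).symm Q ≪≫
    ((Functor.associator _ _ _).symm ≪≫
      Functor.isoWhiskerRight (res).mapDerivedCategoryFactors (DCoh.tildeD R) ≪≫
      Functor.associator _ _ _ ≪≫
      Functor.isoWhiskerLeft ((res).mapHomologicalComplex c) (tilde.functor R).mapDerivedCategoryFactors ≪≫
      (Functor.associator _ _ _).symm).symm

/-- `Rf_* (M~) ≅ (M_R)~` on derived categories, for `f = Spec.map φ` -/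
noncomputable def tildePushDIso : DCoh.tildeD S ⋙ DCoh.Rpush (Spec.map φ) ≅
    DRing.restrictD φ.hom ⋙ DCoh.tildeD R :=
  Localization.liftNatIso Q (HomologicalComplex.quasiIso (ModuleCat.{u} S) (ComplexShape.up ℤ)) _ _ _ _
    (eQ φ)

end

/-- **S7268** -/
theorem nonempty_iso {A B : Type u} [CommRing A] [CommRing B] (φ : A →+* B)
    [PreservesFiniteLimits (tilde.functor (CommRingCat.of A))]
    [PreservesFiniteLimits (tilde.functor (CommRingCat.of B))]
    [DCoh.HasRpush (Spec.map (CommRingCat.ofHom φ))] :
    Nonempty (DCoh.tildeD (CommRingCat.of B) ⋙ DCoh.Rpush (Spec.map (CommRingCat.ofHom φ)) ≅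
      DRing.restrictD φ ⋙ DCoh.tildeD (CommRingCat.of A)) :=
  ⟨tildePushDIso (CommRingCat.ofHom φ)⟩

end Groth.Agent.Lib.TildePushD11
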