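import Mathlib

set_option autoImplicit false

namespace Groth.Agent.Lib.Todd99

open PowerSeries

/-- `e^{a t}` -/
noncomputable abbrev em (a : ℚ) : PowerSeries ℚ := rescale a (exp ℚ)

lemma em_add (a b : ℚ) : em a * em b = em (a + b) := exp_mul_exp_eq_exp_add a b

lemma em_zero : em 0 = 1 := by
  ext n
  simp [em, coeff_one]

lemma em_one : em 1 = exp ℚ := by simp [em]

lemma derivative_em (a : ℚ) : d⁄dX ℚ (em a) = C a * em a := by
  ext n
  rw [coeff_derivative, coeff_C_mul, coeff_rescale, coeff_rescale, coeff_exp, coeff_exp]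
  simp only [one_div, eq_ratCast, Rat.cast_inv, Rat.cast_natCast]
  rw [Nat.factorial_succ]
  push_cast
  have h1 : ((n : ℚ) + 1) ≠ 0 := by positivity
  have h2 : ((n.factorial : ℚ)) ≠ 0 := by positivity
  field_simp
  ring

variable {f : PowerSeries ℚ}

lemma key1 (hf : f * (exp ℚ - 1) = X * exp ℚ) : f * (1 - em (-1)) = X := by
  have h0 : exp ℚ * em (-1) = 1 := by
    rw [← em_one, em_add]; norm_num [em_zero]
  have h1 : (exp ℚ - 1) * em (-1) = 1 - em (-1) := by
    rw [sub_mul, one_mul, h0]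
  calc f * (1 - em (-1)) = f * (exp ℚ - 1) * em (-1) := by rw [mul_assoc, h1]
    _ = X * (exp ℚ * em (-1)) := by rw [hf, mul_assoc]
    _ = X := by rw [h0, mul_one]

lemma key2 (hf : f * (exp ℚ - 1) = X * exp ℚ) :
    em (-1) * f ^ 2 = f - X * d⁄dX ℚ f := by
  have h := congrArg (d⁄dX ℚ) (key1 hf)
  rw [Derivation.leibniz, map_sub, derivative_one, derivative_em, derivative_X] at h
  simp only [smul_eq_mul, zero_sub] at h
  -- h : f * -(C (-1) * em (-1)) + (1 - em (-1)) * f' = 1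
  have hC : (C (-1 : ℚ) : PowerSeries ℚ) = -1 := by simp
  rw [hC] at h
  have h' : f * em (-1) + (1 - em (-1)) * d⁄dX ℚ f = 1 := by
    linear_combination h
  have h2 := congrArg (fun z => f * z) h'
  simp only [mul_add, mul_one] at h2
  have h3 : f * ((1 - em (-1)) * d⁄dX ℚ f) = X * d⁄dX ℚ f := by
    rw [← mul_assoc, key1 hf]
  rw [h3] at h2
  linear_combination h2

lemma constantCoeff_eq_one (hf : f * (exp ℚ - 1) = X * exp ℚ) : constantCoeff f = 1 := by
  have h := congrArg (coeff 1) hf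
  rw [coeff_succ_X_mul, coeff_mul] at h
  rw [Finset.Nat.sum_antidiagonal_eq_sum_range_succ_mk, Finset.sum_range_succ,
    Finset.sum_range_one] at h
  simp [coeff_exp, coeff_one] at h
  simpa using h

/-- The numbers `a(m,n) = [t^n] e^{mt} f^{n+1}`. -/
noncomputable def a (f : PowerSeries ℚ) (m : ℤ) (n : ℕ) : ℚ :=
  coeff n (em (m : ℚ) * f ^ (n + 1))

lemma a_zero_right (hf : f * (exp ℚ - 1) = X * exp ℚ) (m : ℤ) : a f m 0 = 1 := by
  unfold a
  rw [coeff_zero_eq_constantCoeff_apply, map_mul, zero_add, pow_one, constantCoeff_eq_one hf,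
    ← coeff_zero_eq_constantCoeff_apply, coeff_rescale]
  simp

/-- residue of a derivative vanishes: the column `m = -1`. -/
lemma a_neg_one (hf : f * (exp ℚ - 1) = X * exp ℚ) (k : ℕ) : a f (-1) (k + 1) = 0 := by
  unfold a
  have h1 : em ((-1 : ℤ) : ℚ) * f ^ (k + 1 + 1) = f ^ (k + 1) - X * (f ^ k * d⁄dX ℚ f) := by
    have : ((-1 : ℤ) : ℚ) = -1 := by norm_num
    rw [this]
    calc em (-1) * f ^ (k + 1 + 1) = f ^ k * (em (-1) * f ^ 2) := by ring
      _ = f ^ k * (f - X * d⁄dX ℚ f) := by rw [key2 hf]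
      _ = _ := by ring
  rw [h1, map_sub, coeff_succ_X_mul]
  have h2 : d⁄dX ℚ (f ^ (k + 1)) = ((k + 1 : ℕ) : PowerSeries ℚ) * (f ^ k * d⁄dX ℚ f) := by
    rw [derivative_pow]; simp [mul_assoc]
  have h3 := congrArg (coeff k) h2
  rw [coeff_derivative] at h3
  have h4 : coeff k (((k + 1 : ℕ) : PowerSeries ℚ) * (f ^ k * d⁄dX ℚ f)) =
      ((k + 1 : ℕ) : ℚ) * coeff k (f ^ k * d⁄dX ℚ f) := by
    rw [← map_natCast (C (R := ℚ)), coeff_C_mul]
  rw [h4] at h3
  have h5 : ((k + 1 : ℕ) : ℚ) ≠ 0 := by positivity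
  have h6 : coeff k (f ^ k * d⁄dX ℚ f) = coeff (k + 1) (f ^ (k + 1)) := by
    apply mul_left_cancel₀ h5
    rw [← h3]; push_cast; ring
  rw [h6, sub_self]

/-- Pascal recurrence. -/
lemma a_pascal (hf : f * (exp ℚ - 1) = X * exp ℚ) (m : ℤ) (n : ℕ) :
    a f m (n + 1) = a f (m - 1) (n + 1) + a f m n := by
  unfold a
  have h1 : em ((m : ℤ) : ℚ) * f ^ (n + 1 + 1) - em (((m - 1 : ℤ)) : ℚ) * f ^ (n + 1 + 1) =
      X * (em (m : ℚ) * f ^ (n + 1)) := by
    have h2 : em (((m - 1 : ℤ)) : ℚ) = em (m : ℚ) * em (-1) := by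
      rw [em_add]; congr 1; push_cast; ring
    rw [h2]
    calc em (m : ℚ) * f ^ (n + 1 + 1) - em (m : ℚ) * em (-1) * f ^ (n + 1 + 1)
        = em (m : ℚ) * f ^ (n + 1) * (f * (1 - em (-1))) := by ring
      _ = _ := by rw [key1 hf]; ring
  have h3 := congrArg (coeff (n + 1)) h1
  rw [map_sub, coeff_succ_X_mul] at h3
  linarith

theorem a_eq_choose (hf : f * (exp ℚ - 1) = X * exp ℚ) (n : ℕ) :
    ∀ m : ℤ, a f m n = ((Ring.choose (m + n : ℤ) n : ℤ) : ℚ) := by
  induction n with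
  | zero =>
    intro m
    rw [a_zero_right hf, Ring.choose_zero_right]; norm_num
  | succ n ih =>
    -- Pascal for binomials
    have hb : ∀ m : ℤ, Ring.choose (m + (n + 1 : ℕ) : ℤ) (n + 1) =
        Ring.choose (m - 1 + (n + 1 : ℕ) : ℤ) (n + 1) + Ring.choose (m + n : ℤ) n := by
      intro m
      have := Ring.choose_succ_succ (m + n - 1 + 1 : ℤ) n
      have e1 : (m + n - 1 + 1 + 1 : ℤ) = m + (n + 1 : ℕ) := by push_cast; ring
      have e2 : (m + n - 1 + 1 : ℤ) = m + n := by ring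
      have e3 : (m + n - 1 + 1 : ℤ) = m - 1 + (n + 1 : ℕ) := by push_cast; ring
      rw [e1] at this
      rw [this]
      rw [e2, add_comm]
      congr 2
      rw [← e2, e3]
    intro m
    induction m using Int.inductionOn' (b := -1) with
    | zero =>
      rw [a_neg_one hf]
      have : ((-1 : ℤ) + ((n + 1 : ℕ) : ℤ)) = ((n : ℕ) : ℤ) := by push_cast; ring
      rw [this, Ring.choose_natCast, Nat.choose_succ_self]; norm_num
    | succ k _ hk =>
      rw [a_pascal hf (k + 1) n, add_sub_cancel_right, hk, ih, hb (k + 1), add_sub_cancel_right]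
      push_cast; ring
    | pred k _ hk =>
      have h1 := a_pascal hf k n
      rw [hk, ih, hb k] at h1
      push_cast at h1 ⊢
      linarith

end Groth.Agent.Lib.Todd99
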