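import Mathlib
import Groth.Agent.Lib.Todd99

set_option autoImplicit false

namespace Groth.Agent.Lib.Todd99

open PowerSeries

/-- uniqueness: the conditions `[t^n] f^{n+1} = 1` determine `f`. -/
lemma unique_of_coeff {f g : PowerSeries ℚ} (hf : ∀ n : ℕ, coeff n (f ^ (n + 1)) = 1)
    (hg : ∀ n : ℕ, coeff n (g ^ (n + 1)) = 1) : f = g := by
  have hf0 : constantCoeff f = 1 := by simpa using hf 0
  have hg0 : constantCoeff g = 1 := by simpa using hg 0
  ext n
  induction n using Nat.strong_induction_on with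
  | _ n ih =>
    have hdvd : (X : PowerSeries ℚ) ^ n ∣ f - g := by
      rw [X_pow_dvd_iff]
      intro m hm
      rw [map_sub, ih m hm, sub_self]
    obtain ⟨h, hh⟩ := hdvd
    have h1 : f ^ (n + 1) - g ^ (n + 1) =
        X ^ n * (h * ∑ i ∈ Finset.range (n + 1), f ^ i * g ^ (n + 1 - 1 - i)) := by
      rw [← (Commute.all f g).geom_sum₂_mul (n + 1), hh]; ring
    have h2 := congrArg (coeff n) h1
    rw [map_sub, hf n, hg n, sub_self] at h2
    have h3 : coeff n (X ^ n * (h * ∑ i ∈ Finset.range (n + 1), f ^ i * g ^ (n + 1 - 1 - i))) =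
        constantCoeff h * ((n : ℚ) + 1) := by
      have := coeff_X_pow_mul (h * ∑ i ∈ Finset.range (n + 1), f ^ i * g ^ (n + 1 - 1 - i)) n 0
      rw [zero_add] at this
      rw [this, coeff_zero_eq_constantCoeff_apply, map_mul, map_sum]
      simp [hf0, hg0]
    rw [h3] at h2
    have h4 : ((n : ℚ) + 1) ≠ 0 := by positivity
    have h5 : constantCoeff h = 0 := by
      rcases mul_eq_zero.mp h2.symm with h | h
      · exact h
      · exact absurd h h4
    have h6 : coeff n (f - g) = 0 := by
      rw [hh]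
      have := coeff_X_pow_mul h n 0
      rw [zero_add] at this
      rw [this, coeff_zero_eq_constantCoeff_apply, h5]
    rw [map_sub] at h6
    exact sub_eq_zero.mp h6

/-- `(e^t - 1)/t` -/
noncomputable def w : PowerSeries ℚ := mk fun n => (1 : ℚ) / ((n + 1).factorial : ℚ)

lemma X_mul_w : X * w = exp ℚ - 1 := by
  ext n
  rcases n with _ | n
  · simp [w]
  · rw [coeff_succ_X_mul, map_sub, coeff_exp, coeff_one]
    simp [w]

lemma constantCoeff_w : constantCoeff w = 1 := by
  simp [w]

/-- the Todd series -/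
noncomputable def todd : PowerSeries ℚ := exp ℚ * w⁻¹

lemma todd_spec : todd * (exp ℚ - 1) = X * exp ℚ := by
  have h : w * w⁻¹ = 1 := PowerSeries.mul_inv_cancel w (by rw [constantCoeff_w]; exact one_ne_zero)
  rw [todd, ← X_mul_w]
  calc exp ℚ * w⁻¹ * (X * w) = X * exp ℚ * (w * w⁻¹) := by ring
    _ = _ := by rw [h, mul_one]

/-- two solutions of `f (e^t - 1) = t e^t` agree. -/
lemma eq_of_spec {f g : PowerSeries ℚ} (hf : f * (exp ℚ - 1) = X * exp ℚ)
    (hg : g * (exp ℚ - 1) = X * exp ℚ) : f = g := by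
  have h : w * w⁻¹ = 1 := PowerSeries.mul_inv_cancel w (by rw [constantCoeff_w]; exact one_ne_zero)
  have h1 : (f - g) * (X * w) = 0 := by rw [X_mul_w, sub_mul, hf, hg, sub_self]
  have h2 : (f - g) * X = 0 := by
    have := congrArg (fun z => z * w⁻¹) h1
    simp only [zero_mul] at this
    rw [← this]
    calc (f - g) * X = (f - g) * X * (w * w⁻¹) := by rw [h, mul_one]
      _ = _ := by ring
  have h3 : f - g = 0 := by
    rcases mul_eq_zero.mp h2 with h | h
    · exact h
    · exact absurd h X_ne_zero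
  exact sub_eq_zero.mp h3

theorem coeff_pow_succ_of_spec {f : PowerSeries ℚ} (hf : f * (exp ℚ - 1) = X * exp ℚ) (n : ℕ) :
    coeff n (f ^ (n + 1)) = 1 := by
  have h := a_eq_choose hf n 0
  unfold a at h
  have h0 : em ((0 : ℤ) : ℚ) = 1 := by
    have : ((0 : ℤ) : ℚ) = 0 := by norm_num
    rw [this, em_zero]
  rw [h0, one_mul] at h
  rw [h]
  have : ((0 : ℤ) + (n : ℤ)) = ((n : ℕ) : ℤ) := by ring
  rw [this, Ring.choose_natCast, Nat.choose_self]; norm_num

theorem todd_iff (f : PowerSeries ℚ) :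
    (∀ n : ℕ, coeff n (f ^ (n + 1)) = 1) ↔ f * (exp ℚ - 1) = X * exp ℚ := by
  constructor
  · intro h
    have : f = todd := unique_of_coeff h (coeff_pow_succ_of_spec todd_spec)
    rw [this]; exact todd_spec
  · intro h n
    exact coeff_pow_succ_of_spec h n

end Groth.Agent.Lib.Todd99
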