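import Mathlib.NumberTheory.Bernoulli
import Mathlib.RingTheory.PowerSeries.Inverse
import Mathlib.RingTheory.PowerSeries.Exp
import Mathlib.RingTheory.PowerSeries.NoZeroDivisors
import Mathlib.Tactic

/-!
# The Todd-class integrand of Moret-Bailly's computation (helper73)

`B(x) = x/(1 - e^{-x}) = bernoulli'PowerSeries ℚ`.  Key identity `key : B(-y) e^y = B(y)`; hence the integrand
`B(-dx)⁻¹ B(-cx) B(x)^(n+1) e^((c-d-n-1+s)x)` equals `B(cx) · Afac n d s` with `Afac` independent of `c`
(`integrand_eq`), with `constantCoeff_Afac = 1`, `coeff_one_Afac = (2s-d-n-1)/2`, `coeff_formula`, and `main`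
(the statement `MoretBailly.coeff_toddProduct_leading_terms`).
-/

open PowerSeries

namespace Groth.Agent.Lib.ToddProduct

theorem constantCoeff_bernoulli' : constantCoeff (bernoulli'PowerSeries ℚ) = 1 := by
  rw [← coeff_zero_eq_constantCoeff_apply, bernoulli'PowerSeries, coeff_mk]
  simp

theorem coeff_one_bernoulli' : coeff 1 (bernoulli'PowerSeries ℚ) = 1 / 2 := by
  rw [bernoulli'PowerSeries, coeff_mk]
  simp

theorem coeff_bernoulli' (j : ℕ) : coeff j (bernoulli'PowerSeries ℚ) = bernoulli' j / (j.factorial : ℚ) := by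
  rw [bernoulli'PowerSeries, coeff_mk]
  simp

theorem constantCoeff_rescale' (a : ℚ) (f : ℚ⟦X⟧) : constantCoeff (rescale a f) = constantCoeff f := by
  rw [← coeff_zero_eq_constantCoeff_apply, coeff_rescale]
  simp

/-- `B(-y) e^y = B(y)`. -/
theorem key (c : ℚ) :
    rescale (-c) (bernoulli'PowerSeries ℚ) * rescale c (exp ℚ) = rescale c (bernoulli'PowerSeries ℚ) := by
  by_cases hc : c = 0
  · subst hc
    simp [constantCoeff_bernoulli']
  have h₁ := congrArg (rescale c) (bernoulli'PowerSeries_mul_exp_sub_one ℚ)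
  have h₂ := congrArg (rescale (-c)) (bernoulli'PowerSeries_mul_exp_sub_one ℚ)
  simp only [map_mul, map_sub, map_one, rescale_X] at h₁ h₂
  have hE : rescale (-c) (exp ℚ) * rescale c (exp ℚ) = 1 := by
    rw [exp_mul_exp_eq_exp_add, neg_add_cancel, rescale_zero_apply, constantCoeff_exp, map_one]
  have h₃ : rescale (-c) (bernoulli'PowerSeries ℚ) * (rescale c (exp ℚ) - 1) = C c * X := by
    have := congrArg (fun f => f * rescale c (exp ℚ)) h₂
    beta_reduce at this
    have e1 : rescale (-c) (bernoulli'PowerSeries ℚ) * (rescale (-c) (exp ℚ) - 1) * rescale c (exp ℚ) =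
        rescale (-c) (bernoulli'PowerSeries ℚ) * (1 - rescale c (exp ℚ)) := by
      rw [mul_assoc, sub_mul, hE, one_mul]
    have e2 : C (-c) * X * rescale (-c) (exp ℚ) * rescale c (exp ℚ) = -(C c * X) := by
      rw [mul_assoc, hE, mul_one, map_neg, neg_mul]
    rw [e1, e2] at this
    linear_combination -this
  have hne : rescale c (exp ℚ) - 1 ≠ 0 := by
    intro h
    have := congrArg (coeff 1) h
    rw [map_sub, coeff_rescale, coeff_exp, coeff_one, map_zero] at this
    simp at this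
    exact hc this
  apply mul_right_cancel₀ hne
  rw [h₁, mul_right_comm, h₃]

/-- The factor of the Todd integrand that does not depend on `p`. -/
noncomputable def Afac (n d : ℕ) (s : ℤ) : ℚ⟦X⟧ :=
  (rescale (-(d : ℚ)) (bernoulli'PowerSeries ℚ))⁻¹ * bernoulli'PowerSeries ℚ ^ (n + 1) *
    rescale (-(d : ℚ) - n - 1 + s) (exp ℚ)

theorem integrand_eq (n d : ℕ) (s : ℤ) (c : ℚ) :
    (rescale (-(d : ℚ)) (bernoulli'PowerSeries ℚ))⁻¹ * rescale (-c) (bernoulli'PowerSeries ℚ) *
      bernoulli'PowerSeries ℚ ^ (n + 1) * rescale (c - d - n - 1 + s) (exp ℚ) =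
    rescale c (bernoulli'PowerSeries ℚ) * Afac n d s := by
  have : c - d - n - 1 + s = c + (-(d : ℚ) - n - 1 + s) := by ring
  rw [this, ← exp_mul_exp_eq_exp_add, ← key c, Afac]
  ring

theorem constantCoeff_Afac (n d : ℕ) (s : ℤ) : constantCoeff (Afac n d s) = 1 := by
  rw [Afac, map_mul, map_mul, constantCoeff_inv, constantCoeff_rescale', constantCoeff_rescale', map_pow,
    constantCoeff_bernoulli', constantCoeff_exp]
  simp

theorem coeff_one_inv {f : ℚ⟦X⟧} (hf : constantCoeff f = 1) : coeff 1 f⁻¹ = - coeff 1 f := by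
  have h := PowerSeries.mul_inv_cancel f (by rw [hf]; exact one_ne_zero)
  have h1 := congrArg (coeff 1) h
  rw [coeff_one_mul, constantCoeff_inv, hf, coeff_one] at h1
  simp at h1
  linear_combination h1

theorem coeff_one_Afac (n d : ℕ) (s : ℤ) : coeff 1 (Afac n d s) = (2 * (s : ℚ) - d - n - 1) / 2 := by
  have hc : constantCoeff (rescale (-(d : ℚ)) (bernoulli'PowerSeries ℚ)) = 1 := by
    rw [constantCoeff_rescale', constantCoeff_bernoulli']
  rw [Afac, coeff_one_mul, coeff_one_mul, coeff_one_inv hc, coeff_one_pow, map_mul, map_pow, constantCoeff_inv, hc,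
    constantCoeff_bernoulli', constantCoeff_rescale', constantCoeff_exp, coeff_rescale, coeff_rescale,
    coeff_one_bernoulli', coeff_exp]
  simp
  ring

theorem coeff_formula (n d : ℕ) (s : ℤ) (c : ℚ) (m : ℕ) :
    coeff m (rescale c (bernoulli'PowerSeries ℚ) * Afac n d s) =
      ∑ j ∈ Finset.range (m + 1), c ^ j * (bernoulli' j / (j.factorial : ℚ)) * coeff (m - j) (Afac n d s) := by
  rw [coeff_mul, Finset.Nat.sum_antidiagonal_eq_sum_range_succ
    (fun i j => coeff i (rescale c (bernoulli'PowerSeries ℚ)) * coeff j (Afac n d s))]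
  refine Finset.sum_congr rfl fun j _ => ?_
  rw [coeff_rescale, coeff_bernoulli']

theorem main (n d : ℕ) (s : ℤ) (hn : 2 ≤ n) :
    ∃ P : Polynomial ℚ, P.natDegree ≤ n - 2 ∧ ∀ p : ℕ,
      PowerSeries.coeff n ((PowerSeries.rescale (-(d : ℚ)) (bernoulli'PowerSeries ℚ))⁻¹ * PowerSeries.rescale (-((d : ℚ) * p)) (bernoulli'PowerSeries ℚ) * bernoulli'PowerSeries ℚ ^ (n + 1) * PowerSeries.rescale ((d : ℚ) * p - d - n - 1 + s) (PowerSeries.exp ℚ)) =
        bernoulli' n * ((d : ℚ) * p) ^ n / (Nat.factorial n : ℚ) +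
          (2 * (s : ℚ) - d - n - 1) / 2 * bernoulli' (n - 1) * ((d : ℚ) * p) ^ (n - 1) / (Nat.factorial (n - 1) : ℚ) +
          P.eval (p : ℚ) := by
  obtain ⟨m, rfl⟩ : ∃ m, n = m + 2 := ⟨n - 2, by omega⟩
  refine ⟨∑ j ∈ Finset.range (m + 1), Polynomial.C ((d : ℚ) ^ j * (bernoulli' j / (j.factorial : ℚ)) *
    coeff (m + 2 - j) (Afac (m + 2) d s)) * Polynomial.X ^ j, ?_, ?_⟩
  · apply Polynomial.natDegree_sum_le_of_forall_le
    intro j hj
    apply (Polynomial.natDegree_C_mul_X_pow_le _ _).trans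
    have := Finset.mem_range.mp hj
    omega
  · intro p
    rw [integrand_eq (m + 2) d s ((d : ℚ) * p), coeff_formula, Finset.sum_range_succ, Finset.sum_range_succ]
    have e1 : m + 2 - (m + 1) = 1 := by omega
    have e2 : m + 2 - (m + 2) = 0 := by omega
    have e3 : m + 2 - 1 = m + 1 := by omega
    rw [e1, e2, e3, coeff_zero_eq_constantCoeff_apply, constantCoeff_Afac, coeff_one_Afac, Polynomial.eval_finsetSum]
    simp only [Polynomial.eval_mul, Polynomial.eval_C, Polynomial.eval_pow, Polynomial.eval_X, mul_pow]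
    have : ∀ j ∈ Finset.range (m + 1), (d : ℚ) ^ j * (p : ℚ) ^ j * (bernoulli' j / (j.factorial : ℚ)) *
        coeff (m + 2 - j) (Afac (m + 2) d s) =
        (d : ℚ) ^ j * (bernoulli' j / (j.factorial : ℚ)) * coeff (m + 2 - j) (Afac (m + 2) d s) * (p : ℚ) ^ j := by
      intro j _; ring
    rw [Finset.sum_congr rfl this]
    ring

end Groth.Agent.Lib.ToddProduct
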