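import Groth.Agent.Lib.ToddProduct
import Mathlib.NumberTheory.ZetaValues
import Mathlib.Analysis.Polynomial.Basic

/-!
# Signs of Bernoulli numbers and eventual negativity (helper73)

* `bernoulli_sign : 0 < (-1)^(k+1) * bernoulli (2k)` for `k ≠ 0` (from Mathlib's `hasSum_zeta_nat`),
  `bernoulli'_four_mul_neg : bernoulli' (4l) < 0` for `l ≠ 0`.
* `eventually_neg`: `c p^k + R(p) < 0` for all large naturals `p` when `c < 0`, `0 < k`, `natDegree R < k`.
-/

open Polynomial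

namespace Groth.Agent.Lib.ToddSign

/-- `(-1)^(k+1) B_{2k} > 0` for `k ≥ 1` (from `ζ(2k) > 0`). -/
theorem bernoulli_sign {k : ℕ} (hk : k ≠ 0) : 0 < (-1 : ℚ) ^ (k + 1) * _root_.bernoulli (2 * k) := by
  have h := hasSum_zeta_nat hk
  have h1 : (1 : ℝ) ≤ (-1 : ℝ) ^ (k + 1) * (2 : ℝ) ^ (2 * k - 1) * Real.pi ^ (2 * k) *
      _root_.bernoulli (2 * k) / (2 * k).factorial := by
    have := le_hasSum h 1 (fun j _ => by positivity)
    simpa using this
  have hpos : (0 : ℝ) < (2 : ℝ) ^ (2 * k - 1) * Real.pi ^ (2 * k) / (2 * k).factorial := by positivity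
  have h2 : (0 : ℝ) < (-1 : ℝ) ^ (k + 1) * (_root_.bernoulli (2 * k) : ℝ) := by
    by_contra hcon
    push Not at hcon
    have : (-1 : ℝ) ^ (k + 1) * (2 : ℝ) ^ (2 * k - 1) * Real.pi ^ (2 * k) * _root_.bernoulli (2 * k) / (2 * k).factorial =
        ((-1 : ℝ) ^ (k + 1) * (_root_.bernoulli (2 * k) : ℝ)) * ((2 : ℝ) ^ (2 * k - 1) * Real.pi ^ (2 * k) / (2 * k).factorial) := by
      ring
    rw [this] at h1
    have := mul_nonpos_of_nonpos_of_nonneg hcon hpos.le
    linarith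
  exact_mod_cast h2

theorem bernoulli'_four_mul_neg {l : ℕ} (hl : l ≠ 0) : bernoulli' (4 * l) < 0 := by
  have h := bernoulli_sign (k := 2 * l) (by omega)
  have e : 2 * (2 * l) = 4 * l := by ring
  rw [e, pow_succ, pow_mul, neg_one_sq, one_pow, one_mul, neg_one_mul, neg_pos] at h
  rwa [← bernoulli_eq_bernoulli'_of_ne_one (by omega)]

theorem eventually_neg (c : ℚ) (hc : c < 0) (k : ℕ) (hk : 0 < k) (R : ℚ[X]) (hR : R.natDegree < k) :
    ∃ N : ℕ, ∀ p : ℕ, N ≤ p → c * (p : ℚ) ^ k + R.eval (p : ℚ) < 0 := by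
  set Q : ℚ[X] := C c * X ^ k + R with hQ
  have hdeg : R.degree < (C c * X ^ k).degree := by
    apply degree_lt_degree
    rwa [natDegree_C_mul_X_pow k c hc.ne]
  have hlead : Q.leadingCoeff = c := by
    rw [hQ, leadingCoeff_add_of_degree_lt' hdeg, leadingCoeff_mul, leadingCoeff_C, leadingCoeff_X_pow, mul_one]
  have hQdeg : 0 < Q.degree := by
    rw [hQ, degree_add_eq_left_of_degree_lt hdeg, degree_C_mul_X_pow k hc.ne]
    exact_mod_cast hk
  have ht := Q.tendsto_atBot_of_leadingCoeff_nonpos hQdeg (by rw [hlead]; exact hc.le)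
  have hev := ht.eventually_lt_atBot 0
  rw [Filter.eventually_atTop] at hev
  obtain ⟨N, hN⟩ := hev
  refine ⟨⌈N⌉₊, fun p hp => ?_⟩
  have := hN (p : ℚ) ((Nat.le_ceil N).trans (by exact_mod_cast hp))
  simpa [hQ] using this

end Groth.Agent.Lib.ToddSign
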