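import Groth.Agent.Lib.FiltExt6
import Groth.Agent.Lib.TFinEps
import Groth.Agent.Lib.TFinAlg
import Mathlib.Topology.Spectral.Prespectral
import Mathlib.Topology.QuasiSeparated
import Mathlib.CategoryTheory.Sites.Spaces
import Mathlib.CategoryTheory.Limits.Lattice

/-!
# Prespectral quasi-separated spaces have algebraic sheaf topoi (helper95)

For a topological space `X` whose compact opens form a basis stable under pairwise intersections,
the sheaves `eps U` attached to compact opens form a generating set of quasi-compact objects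
stable under fibre products and equalizers.  Hence the cohomology of a compact open commutes with
filtered colimits of abelian sheaves.
-/

universe u

open CategoryTheory Limits TopologicalSpace Opposite

set_option linter.unusedSectionVars false

namespace Groth.Agent.Lib.TopCoh95

open ToposFin Groth.Agent.Lib.TFin Groth.Agent.Lib.TFinEps Groth.Agent.Lib.TFinAlg

variable {X : TopCat.{u}}

/-- the Grothendieck topology of the space -/
abbrev JX (X : TopCat.{u}) : GrothendieckTopology (Opens X) := Opens.grothendieckTopology X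

/-- compact opens are quasi-compact objects of the site of opens -/
lemma isQCSite_of_isCompact (U : Opens X) (hU : IsCompact (U : Set X)) : IsQCSite (JX X) U := by
  intro S hS
  rw [Opens.mem_grothendieckTopology] at hS
  have hS' : ∀ x : U, ∃ (V : Opens X) (f : V ⟶ U), S.arrows f ∧ x.1 ∈ V := fun x => hS x.1 x.2
  choose V f hf hx using hS'
  obtain ⟨t, ht⟩ := hU.elim_finite_subcover (fun x : U => (V x : Set X))
    (fun x => (V x).isOpen) (by
      intro y hy
      exact Set.mem_iUnion.2 ⟨⟨y, hy⟩, hx ⟨y, hy⟩⟩)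
  let e : t ≃ Fin t.card := t.equivFin
  refine ⟨t.card, fun k => V (e.symm k).1, fun k => f (e.symm k).1, fun k => hf _, ?_⟩
  rw [Opens.mem_grothendieckTopology]
  intro y hy
  obtain ⟨x, hxt, hyx⟩ : ∃ x ∈ t, y ∈ V x := by simpa using ht hy
  obtain ⟨k, hk⟩ := e.symm.surjective ⟨x, hxt⟩
  have hk' : (e.symm k).1 = x := congrArg Subtype.val hk
  subst hk'
  exact ⟨V (e.symm k).1, f (e.symm k).1,
    Sieve.ofArrows_mk (fun k => V (e.symm k).1) (fun k => f (e.symm k).1) k, hyx⟩

lemma isQC_eps_of_isCompact (U : Opens X) (hU : IsCompact (U : Set X)) : IsQC (eps (JX X) U) :=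
  isQC_eps_of_isQCSite (JX X) U (isQCSite_of_isCompact U hU)

/-- sections of `eps W` form a subsingleton -/
lemma sec_eps_subsingleton (W V : Opens X) (s s' : sec (eps (JX X) W) V) : s = s' := by
  refine sec_ext _ _ _ ((JX X).intersection_covering (etaSec_surj (JX X) W s) (etaSec_surj (JX X) W s')) ?_
  rintro V' g ⟨⟨h, hh⟩, ⟨h', hh'⟩⟩
  have e1 : etaSec (JX X) W h = res g s := hh
  have e2 : etaSec (JX X) W h' = res g s' := hh'
  have hh2 : h = h' := Subsingleton.elim (α := V' ⟶ W) h h'
  rw [← e1, ← e2, hh2]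

/-- `eps W` is subterminal -/
lemma eps_hom_subsingleton (W : Opens X) {Z : Sh (JX X)} (a b : Z ⟶ eps (JX X) W) : a = b :=
  hom_ext_sec (fun _ _ => sec_eps_subsingleton W _ _ _)

/-- the set of sheaves attached to compact opens -/
def compactSet (X : TopCat.{u}) : Set (Sh (Opens.grothendieckTopology (X : Type u))) :=
  {K | ∃ U : Opens X, IsCompact (U : Set X) ∧ K = eps (Opens.grothendieckTopology (X : Type u)) U}

lemma compactSet_isQC : ∀ K ∈ compactSet X, IsQC K := by
  rintro K ⟨U, hU, rfl⟩
  exact isQC_eps_of_isCompact U hU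

lemma compactSet_isGenerating [PrespectralSpace X] : IsGenerating (compactSet X) := by
  intro Y
  let T : Type u := Σ (U : {U : Opens X // IsCompact (U : Set X)}), sec Y U.1
  refine ⟨T, fun t => eps (JX X) t.1.1, fun t => homOfSec (JX X) t.2, fun t => ⟨t.1.1, t.1.2, rfl⟩, ?_⟩
  apply jointlyEpi_of_cov
  intro W y
  rw [Opens.mem_grothendieckTopology]
  intro x hx
  obtain ⟨V, ⟨hVo, hVc⟩, hxV, hVW⟩ :=
    (PrespectralSpace.isTopologicalBasis (X := X)).exists_subset_of_mem_open hx W.isOpen
  let V' : Opens X := ⟨V, hVo⟩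
  have hVW' : V' ≤ W := hVW
  refine ⟨V', homOfLE hVW', ?_, hxV⟩
  refine ⟨⟨⟨V', hVc⟩, res (homOfLE hVW') y⟩, etaSec (JX X) V' (𝟙 V'), ?_⟩
  show ap (homOfSec (JX X) (res (homOfLE hVW') y)) (etaSec (JX X) V' (𝟙 V')) =
    res (homOfLE hVW') y
  rw [ap_homOfSec, res_id]

lemma compactSet_closedUnderPullbacks [QuasiSeparatedSpace X] :
    ClosedUnderPullbacks (compactSet X) := by
  rintro K L M f g ⟨U, hU, rfl⟩ ⟨V, hV, rfl⟩ ⟨W, hW, rfl⟩
  let hU' : U ⟶ (⊤ : Opens X) := homOfLE le_top
  let hV' : V ⟶ (⊤ : Opens X) := homOfLE le_top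
  have sq := isPullback_epsMap (JX X) hU' hV'
  have hP : ((pullback hU' hV' : Opens X) : Set X) = (U : Set X) ∩ (V : Set X) := by
    have h1 : pullback hU' hV' = U ⊓ V := by
      apply le_antisymm
      · exact le_inf (leOfHom (pullback.fst hU' hV')) (leOfHom (pullback.snd hU' hV'))
      · exact leOfHom (pullback.lift (homOfLE inf_le_left) (homOfLE inf_le_right)
          (Subsingleton.elim _ _))
    rw [h1]
    rfl
  refine ⟨eps (JX X) (pullback hU' hV'), epsMap (JX X) (pullback.fst hU' hV'),
    epsMap (JX X) (pullback.snd hU' hV'), ⟨pullback hU' hV', ?_, rfl⟩, ?_⟩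
  · rw [hP]
    exact QuasiSeparatedSpace.inter_isCompact _ _ U.isOpen hU V.isOpen hV
  · refine IsPullback.of_isLimit' ⟨eps_hom_subsingleton W _ _⟩ ?_
    refine PullbackCone.IsLimit.mk _ (fun s => sq.lift s.fst s.snd (eps_hom_subsingleton _ _ _))
      (fun s => sq.lift_fst _ _ _) (fun s => sq.lift_snd _ _ _) ?_
    intro s m h1 h2
    apply sq.hom_ext
    · rw [sq.lift_fst]; exact h1
    · rw [sq.lift_snd]; exact h2

lemma compactSet_closedUnderEqualizers : ClosedUnderEqualizers (compactSet X) := by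
  rintro K L a b hK ⟨V, hV, rfl⟩
  have hab : a = b := eps_hom_subsingleton V a b
  subst hab
  refine ⟨K, 𝟙 K, rfl, hK, ⟨Fork.IsLimit.mk _ (fun s => s.ι) (fun s => Category.comp_id _) ?_⟩⟩
  intro s m hm
  rw [← hm]
  exact (Category.comp_id _).symm

theorem isAlgebraic [PrespectralSpace X] [QuasiSeparatedSpace X] : IsAlgebraic (JX X) :=
  ⟨compactSet X, compactSet_isQC, compactSet_isGenerating, compactSet_closedUnderPullbacks,
    compactSet_closedUnderEqualizers⟩

theorem isCoherent_eps_of_isCompact [PrespectralSpace X] [QuasiSeparatedSpace X] (U : Opens X)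
    (hU : IsCompact (U : Set X)) : IsCoherent (eps (JX X) U) :=
  isCoherent_of_mem (compactSet X) compactSet_isQC compactSet_isGenerating
    compactSet_closedUnderPullbacks ⟨U, hU, rfl⟩

/-- **S0468** -/
theorem preservesColimitsOfShape_cohomology [PrespectralSpace X] [QuasiSeparatedSpace X]
    (U : Opens X) (hU : IsCompact (U : Set X)) (Λ : Type u) [SmallCategory Λ] [IsFiltered Λ]
    (q : ℕ) :
    PreservesColimitsOfShape Λ
      ((Sheaf.cohomologyPresheafFunctor.{u} (JX X) q).flip.obj (op U)) :=
  Groth.Agent.Lib.FiltExt6.preservesColimitsOfShape_cohomologyPresheafFunctor_flip isAlgebraic U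
    (isCoherent_eps_of_isCompact U hU) Λ q

end Groth.Agent.Lib.TopCoh95
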