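import Groth.Agent.Lib.TopCoh95
import Groth.Agent.Lib.FiltHom
import Mathlib.Topology.NoetherianSpace
import Mathlib.Topology.Sheaves.Flasque

/-!
# Sections of filtered colimits of abelian sheaves over coherent objects (helper95)

Sections over `U` of a filtered colimit of abelian sheaves come from a stage when `eps U` is a
coherent object; filtered colimits of flasque sheaves on a Noetherian space are flasque.
-/

universe u

open CategoryTheory Limits TopologicalSpace Opposite

set_option linter.unusedSectionVars false

namespace Groth.Agent.Lib.TopCoh95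

open ToposFin Groth.Agent.Lib.TFin Groth.Agent.Lib.TFinEps Groth.Agent.Lib.TFinAlg
  Groth.Agent.Lib.CechAcyc6 Groth.Agent.Lib.FiltHom

section Site

variable {C : Type u} [SmallCategory C] {J : GrothendieckTopology C}
  {Λ : Type u} [SmallCategory Λ] [IsFiltered Λ] (D : Λ ⥤ Sheaf J AddCommGrpCat.{u})

/-- sections of a filtered colimit of abelian sheaves over a coherent object come from a stage -/
theorem exists_sec_factor (hE : HasQCGenerators J) (U : C) (hU : IsCoherent (eps J U))
    (s : (colimit D).obj.obj (op U)) :
    ∃ (i : Λ) (si : (D.obj i).obj.obj (op U)), (colimit.ι D i).hom.app (op U) si = s := by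
  obtain ⟨i, zi, hzi⟩ := exists_factor D hE hU
    ((freeYonedaIso U).inv ≫ (freeYonedaHomEquiv U (colimit D)).symm s)
  refine ⟨i, freeYonedaHomEquiv U (D.obj i) ((freeYonedaIso U).hom ≫ zi), ?_⟩
  rw [← freeYonedaHomEquiv_comp, Category.assoc, hzi, Iso.hom_inv_id_assoc,
    Equiv.apply_symm_apply]

end Site

section Noetherian

variable {X : TopCat.{u}} [NoetherianSpace X]

instance : QuasiSeparatedSpace X :=
  ⟨fun _ _ _ _ _ _ => NoetherianSpace.isCompact _⟩

/-- **S11320**: filtered colimits of flasque abelian sheaves on a Noetherian space are flasque. -/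
theorem isFlasque_colimit (Λ : Type u) [SmallCategory Λ] [IsFiltered Λ] (D : Λ ⥤ CohTop.Ab X)
    (hD : ∀ i : Λ, TopCat.Sheaf.IsFlasque (D.obj i)) :
    TopCat.Sheaf.IsFlasque (colimit D : CohTop.Ab X) := by
  have hE : HasQCGenerators (JX X) := hasQCGenerators_of_isAlgebraic isAlgebraic
  constructor
  intro U V i
  rw [AddCommGrpCat.epi_iff_surjective]
  intro s
  obtain ⟨k, sk, hsk⟩ := exists_sec_factor D hE V.unop
    (isCoherent_eps_of_isCompact V.unop (NoetherianSpace.isCompact _)) s
  have hepi : Epi ((D.obj k).obj.map i) := (hD k).epi i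
  rw [AddCommGrpCat.epi_iff_surjective] at hepi
  obtain ⟨tk, htk⟩ := hepi sk
  refine ⟨(colimit.ι D k).hom.app U tk, ?_⟩
  have hnat := NatTrans.naturality_apply (colimit.ι D k).hom i tk
  rw [← hsk, ← htk]
  exact hnat.symm

end Noetherian

end Groth.Agent.Lib.TopCoh95
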