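import Groth.Agent.Lib.TopHpull95
import Groth.Agent.Lib.SplitTowerSS95

/-!
# The descent spectral sequence of a continuous map with a section (helper95)

Topological analogue of `Lib/EtDescSection95`.
-/

set_option autoImplicit false

universe u

open CategoryTheory CategoryTheory.Limits TopologicalSpace Opposite

namespace Groth.Agent.Lib.TopDescSection95

open Groth.Agent.Lib.TopHpull95 Groth.Agent.Lib.SplitTowerSS95

variable {X S : TopCat.{u}} (f : X ⟶ S) (s : S ⟶ X) (hs : s ≫ f = 𝟙 S)

/-- the `(p+1)`-fold fibre product -/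
noncomputable abbrev Xp (p : ℕ) : TopCat.{u} :=
  widePullback S (fun _ : Fin (p + 1) => X) (fun _ => f)

/-- the structure map -/
noncomputable abbrev bp (p : ℕ) : Xp f p ⟶ S := WidePullback.base (fun _ : Fin (p + 1) => f)

/-- the projection forgetting the first factor -/
noncomputable def pr (p : ℕ) : Xp f (p + 1) ⟶ Xp f p :=
  WidePullback.lift (bp f (p + 1)) (fun i => WidePullback.π (fun _ : Fin (p + 1 + 1) => f) i.succ)
    (fun i => WidePullback.π_arrow _ _)

lemma pr_bp (p : ℕ) : pr f p ≫ bp f p = bp f (p + 1) := WidePullback.lift_base _ _ _ _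

include hs in
/-- the section of the projection -/
noncomputable def σ (p : ℕ) : Xp f p ⟶ Xp f (p + 1) :=
  WidePullback.lift (bp f p)
    (fun i => Fin.cases (motive := fun _ => Xp f p ⟶ X) (bp f p ≫ s)
      (fun j => WidePullback.π (fun _ : Fin (p + 1) => f) j) i)
    (fun i => by
      refine Fin.cases ?_ (fun j => ?_) i
      · rw [Fin.cases_zero, Category.assoc, hs, Category.comp_id]
      · rw [Fin.cases_succ]
        exact WidePullback.π_arrow _ _)

lemma σ_pr (p : ℕ) : σ f s hs p ≫ pr f p = 𝟙 _ := by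
  apply WidePullback.hom_ext
  · intro i
    dsimp only [σ, pr]
    rw [Category.assoc, WidePullback.lift_π, WidePullback.lift_π, Fin.cases_succ, Category.id_comp]
  · dsimp only [σ, pr]
    rw [Category.assoc, WidePullback.lift_base, WidePullback.lift_base, Category.id_comp]

include hs in
/-- the section of the structure map of `X_0` -/
noncomputable def s0 : S ⟶ Xp f 0 :=
  WidePullback.lift (𝟙 S) (fun _ => s) (fun _ => hs)

lemma s0_bp : s0 f s hs ≫ bp f 0 = 𝟙 S := WidePullback.lift_base _ _ _ _

/-- inverse images compose -/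
noncomputable def pullComp {W U Y : TopCat.{u}} (a : W ⟶ U) (t : U ⟶ Y) :
    CohTop.pull (a ≫ t) ≅ CohTop.pull t ⋙ CohTop.pull a :=
  Adjunction.leftAdjointUniq (adj (a ≫ t))
    (((adj t).comp (adj a) : CohTop.pull t ⋙ CohTop.pull a ⊣ CohTop.push (a ≫ t)))

variable (F : CohTop.Ab S)

/-- the transport isomorphism of coefficient sheaves -/
noncomputable def θ (p : ℕ) :
    (CohTop.pull (pr f p)).obj ((CohTop.pull (bp f p)).obj F) ≅
      (CohTop.pull (bp f (p + 1))).obj F :=
  (pullComp (pr f p) (bp f p)).symm.app F ≪≫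
    eqToIso (congrArg (fun g => (CohTop.pull g).obj F) (pr_bp f p))

lemma H_map_inv_hom {Y : TopCat.{u}} {G G' : CohTop.Ab Y} (e : G ≅ G') (n : ℕ) (x : CohTop.H G n) :
    Sheaf.H.map e.inv n (Sheaf.H.map e.hom n x) = x := by
  rw [← Sheaf.H.map_comp_apply, Iso.hom_inv_id, Sheaf.H.map_id_apply]

/-- the split tower of the groups `H^q(X_p, F|X_p)` -/
noncomputable def tower (q : ℕ) : Tower AddCommGrpCat.{u} where
  A p := AddCommGrpCat.of (CohTop.H ((CohTop.pull (bp f p)).obj F) q)
  ι p := AddCommGrpCat.ofHom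
    ((Sheaf.H.map (θ f F p).hom q).comp (Hpull (pr f p) ((CohTop.pull (bp f p)).obj F) q))
  ρ p := AddCommGrpCat.ofHom
    ((exists_retraction_Hpull (σ f s hs p) (pr f p) (σ_pr f s hs p)
      ((CohTop.pull (bp f p)).obj F) q).choose.comp (Sheaf.H.map (θ f F p).inv q))
  ι_ρ p := by
    ext y
    have h := (exists_retraction_Hpull (σ f s hs p) (pr f p) (σ_pr f s hs p)
      ((CohTop.pull (bp f p)).obj F) q).choose_spec y
    change (exists_retraction_Hpull (σ f s hs p) (pr f p) (σ_pr f s hs p)
      ((CohTop.pull (bp f p)).obj F) q).choose (Sheaf.H.map (θ f F p).inv q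
        (Sheaf.H.map (θ f F p).hom q (Hpull (pr f p) ((CohTop.pull (bp f p)).obj F) q y))) = y
    rw [H_map_inv_hom]
    exact h
  B := AddCommGrpCat.of (CohTop.H F q)
  b := AddCommGrpCat.ofHom (Hpull (bp f 0) F q)
  s := AddCommGrpCat.ofHom (exists_retraction_Hpull (s0 f s hs) (bp f 0) (s0_bp f s hs) F q).choose
  b_s := by
    ext y
    exact (exists_retraction_Hpull (s0 f s hs) (bp f 0) (s0_bp f s hs) F q).choose_spec y

include hs in
/-- **the descent spectral sequence of a continuous map with a section** (existence form) -/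
theorem exists_descent_spectralSequence :
    ∃ (E : CohomologicalSpectralSequence AddCommGrpCat.{u} 1)
      (a : SpSeq.Abutment E (fun n : ℤ =>
        if 0 ≤ n then AddCommGrpCat.of (CohTop.H F n.toNat) else AddCommGrpCat.of PUnit.{u + 1})),
      (∀ n, a.IsFinite n) ∧ SpSeq.IsBounded E ∧
      ∀ p q : ℤ, Nonempty ((E.page 1 le_rfl).X (p, q) ≅
        (if 0 ≤ p ∧ 0 ≤ q then
          AddCommGrpCat.of (CohTop.H ((CohTop.pull
            (WidePullback.base (fun _ : Fin (p.toNat + 1) => f) :
              widePullback S (fun _ : Fin (p.toNat + 1) => X) (fun _ => f) ⟶ S)).obj F) q.toNat)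
         else AddCommGrpCat.of PUnit.{u + 1})) := by
  refine exists_spectralSequence_of_towers (tower f s hs F) _
    (fun p q : ℤ => (if 0 ≤ p ∧ 0 ≤ q then
          AddCommGrpCat.of (CohTop.H ((CohTop.pull
            (WidePullback.base (fun _ : Fin (p.toNat + 1) => f) :
              widePullback S (fun _ : Fin (p.toNat + 1) => X) (fun _ => f) ⟶ S)).obj F) q.toNat)
         else AddCommGrpCat.of PUnit.{u + 1})) ?_ ?_ ?_ ?_
  · intro q
    rw [if_pos (Int.natCast_nonneg q)]
    have key : ∀ m : ℕ, m = q →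
        Nonempty (AddCommGrpCat.of (CohTop.H F m) ≅ (tower f s hs F q).B) := by
      rintro _ rfl
      exact ⟨Iso.refl _⟩
    exact key _ (Int.toNat_natCast q)
  · intro n hn
    rw [if_neg (by omega)]
    exact AddCommGrpCat.isZero_of_subsingleton _
  · intro p q
    rw [if_pos ⟨Int.natCast_nonneg p, Int.natCast_nonneg q⟩]
    have key : ∀ m k : ℕ, m = p → k = q →
        Nonempty (AddCommGrpCat.of (CohTop.H ((CohTop.pull
            (WidePullback.base (fun _ : Fin (m + 1) => f) :
              widePullback S (fun _ : Fin (m + 1) => X) (fun _ => f) ⟶ S)).obj F) k) ≅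
          (tower f s hs F q).A p) := by
      rintro _ _ rfl rfl
      exact ⟨Iso.refl _⟩
    exact key _ _ (Int.toNat_natCast p) (Int.toNat_natCast q)
  · intro p q h
    rw [if_neg h]
    exact AddCommGrpCat.isZero_of_subsingleton _

end Groth.Agent.Lib.TopDescSection95
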