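import Groth.Agent.Lib.ExtPowInv21
import Groth.Agent.Lib.H87FirstSeqSmooth
import Groth.Agent.Lib.OmegaDer81J
import Groth.Agent.Lib.SmoothConnected54
import Groth.Agent.Lib.ProjSpaceProper
import Groth.Prelude.Def_Canon
import Groth.Prelude.Def_RedSub

/-!
# The relative canonical sheaf of a smooth morphism is invertible (helper21)

* `isFinLocFreeOfRank_omega`: `Ω_{X/Y}` is finite locally free of rank `n` for `f` smooth of relative dimension `n`
  (helper87 `exists_free_omega_of_smooth` + `fibreDimAt_eq_of_smoothOfRelativeDimension`).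
* `isInvertible_of_isTopDiff`: any `ω` with `Canon.IsTopDiff f n ω` is invertible.
* `isProper_of_isLocallyProjective`: `RedSub.IsLocallyProjective (Over.mk f)` implies `IsProper f`.
* `geometricallyReduced_of_smooth`: smooth morphisms are geometrically reduced.
-/

set_option autoImplicit false
set_option linter.style.haveILetI false
universe u

open CategoryTheory CategoryTheory.Limits AlgebraicGeometry Opposite TopologicalSpace

namespace Groth.Agent.Lib.TopDiffInv21

variable {X Y : Scheme.{u}}

theorem isFinLocFreeOfRank_omega (n : ℕ) (f : X ⟶ Y) [QuasiSeparated f]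
    [SmoothOfRelativeDimension n f] : FlatMod.IsFinLocFreeOfRank n (Omega.sheaf f) := by
  haveI : Smooth f := SmoothOfRelativeDimension.smooth n f
  intro x
  obtain ⟨U, m, hxU, hiso, hm⟩ := Groth.Agent.Lib.H87SmoothRank.exists_free_omega_of_smooth f _
    (OmegaSh.dOmega f) (Groth.Agent.Lib.OmegaDer81.isUniversal_dOmega f) x
  rw [Groth.Agent.Lib.H87FirstSeqSmooth.fibreDimAt_eq_of_smoothOfRelativeDimension n f x] at hm
  have hnm : n = m := by exact_mod_cast hm
  subst hnm
  exact ⟨U, hxU, hiso⟩

theorem isInvertible_of_isTopDiff (n : ℕ) (f : X ⟶ Y) [QuasiSeparated f]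
    [SmoothOfRelativeDimension n f] {ω : X.Modules} (hω : Canon.IsTopDiff f n ω) :
    PicF.IsInvertible ω :=
  Groth.Agent.Lib.ExtPowInv21.isInvertible_of_isExtPow (isFinLocFreeOfRank_omega n f) hω

theorem isProper_of_isLocallyProjective (f : X ⟶ Y)
    (h : RedSub.IsLocallyProjective (Over.mk f)) : IsProper f := by
  choose V hsV n e he hfac using h
  have hcov : ⨆ s, V s = ⊤ := eq_top_iff.2 (fun x _ => Opens.mem_iSup.2 ⟨x, hsV x⟩)
  refine IsZariskiLocalAtTarget.of_iSup_eq_top (P := @IsProper) V hcov (fun s => ?_)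
  have h1 : IsProper (pullback.snd f (V s).ι) := by
    have h2 : e s ≫ CohB1.ProjSpaceOver.toBase (n s) (V s : Scheme.{u}) = pullback.snd f (V s).ι :=
      hfac s
    rw [← h2]
    haveI := he s
    haveI := Groth.Agent.Lib.ProjSpaceProper.isProper_toBase (n s) (V s : Scheme.{u})
    infer_instance
  have h3 : (pullbackRestrictIsoRestrict f (V s)).hom ≫ f ∣_ (V s) = pullback.snd f (V s).ι :=
    pullbackRestrictIsoRestrict_hom_morphismRestrict f (V s)
  rw [← h3] at h1
  exact (MorphismProperty.cancel_left_of_respectsIso @IsProper _ _).mp h1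

theorem geometricallyReduced_of_smooth (f : X ⟶ Y) [Smooth f] : GeometricallyReduced f := by
  refine ⟨fun K _ y Z fst snd hpb => ?_⟩
  haveI : Smooth snd := MorphismProperty.of_isPullback hpb ‹Smooth f›
  letI : Z.Over (Spec (CommRingCat.of K)) := ⟨snd⟩
  haveI : Smooth (Z ↘ Spec (CommRingCat.of K)) := ‹Smooth snd›
  have : ∀ z : Z, _root_.IsReduced (Z.presheaf.stalk z) := fun z => by
    have := Groth.Agent.Lib.SmoothConnected54.isDomain_stalk_of_smooth K Z z
    infer_instance
  exact isReduced_of_isReduced_stalk Z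

end Groth.Agent.Lib.TopDiffInv21
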