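import Groth.Prelude.Def_CohTop
import Groth.Agent.Lib.HpullGen95

/-!
# Pullback on sheaf cohomology of topological spaces (helper95)

* `CohTop.pull f` is exact and additive;
* `Hpull f G n : H^n(Y, G) → H^n(X, f⁻¹G)`;
* `exists_retraction_Hpull`: if `t` has a section, `Hpull t G n` has a retraction.
-/

set_option autoImplicit false

universe u

open CategoryTheory CategoryTheory.Limits TopologicalSpace Opposite

namespace Groth.Agent.Lib.TopHpull95

open Groth.Agent.Lib.HpullGen95

attribute [local instance] reflectsLimits_of_reflectsIsomorphisms in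
instance preservesFiniteLimits_pull {X Y : TopCat.{u}} (f : X ⟶ Y) :
    PreservesFiniteLimits (CohTop.pull f) := by
  have : RepresentablyFlat (Opens.map f) := inferInstance
  have : PreservesFiniteLimits ((Opens.map f).op.lan : (_ ⥤ _ ⥤ AddCommGrpCat.{u})) :=
    inferInstance
  exact Functor.sheafPullbackConstruction.preservesFiniteLimits (Opens.map f) AddCommGrpCat.{u} _ _

/-- the adjunction between inverse and direct image -/
noncomputable abbrev adj {X Y : TopCat.{u}} (f : X ⟶ Y) : CohTop.pull f ⊣ CohTop.push f :=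
  TopCat.Sheaf.pullbackPushforwardAdjunction AddCommGrpCat.{u} f

instance pull_additive {X Y : TopCat.{u}} (f : X ⟶ Y) : (CohTop.pull f).Additive :=
  (adj f).left_adjoint_additive

instance pull_preservesFiniteColimits {X Y : TopCat.{u}} (f : X ⟶ Y) :
    PreservesFiniteColimits (CohTop.pull f) :=
  have : PreservesColimitsOfSize.{0, 0} (CohTop.pull f) := (adj f).leftAdjoint_preservesColimits
  PreservesColimitsOfSize.preservesFiniteColimits _

/-- global sections -/
noncomputable abbrev Γ (X : TopCat.{u}) : CohTop.Ab X ⥤ AddCommGrpCat.{u} :=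
  (sheafSections (Opens.grothendieckTopology X) AddCommGrpCat.{u}).obj (op ⊤)

/-- the constant sheaf adjunction -/
noncomputable abbrev constAdj (X : TopCat.{u}) :
    constantSheaf (Opens.grothendieckTopology X) AddCommGrpCat.{u} ⊣ Γ X :=
  constantSheafAdj (Opens.grothendieckTopology X) AddCommGrpCat.{u} isTerminalTop

/-- global sections of a direct image -/
noncomputable abbrev Gt {U X : TopCat.{u}} (t : U ⟶ X) : CohTop.push t ⋙ Γ X ≅ Γ U := Iso.refl _

/-- pullback on cohomology -/
noncomputable def Hpull {X Y : TopCat.{u}} (f : X ⟶ Y) (G : CohTop.Ab Y) (n : ℕ) :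
    CohTop.H G n →+ CohTop.H ((CohTop.pull f).obj G) n :=
  hp (constAdj Y) (constAdj X) (adj f) (Gt f) (AddCommGrpCat.of (ULift ℤ)) G n

/-- inverse image along the identity is the identity -/
noncomputable def pullId (X : TopCat.{u}) : CohTop.pull (𝟙 X) ≅ 𝟭 (CohTop.Ab X) :=
  Adjunction.leftAdjointUniq (adj (𝟙 X)) (Adjunction.id : 𝟭 (CohTop.Ab X) ⊣ CohTop.push (𝟙 X))

instance (X : TopCat.{u}) : (CohTop.pull (𝟙 X)).IsEquivalence :=
  Functor.isEquivalence_of_iso (pullId X).symm

/-- if `t` has a section `a`, pullback along `t` on cohomology has a retraction -/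
theorem exists_retraction_Hpull {U X : TopCat.{u}} (a : X ⟶ U) (t : U ⟶ X) (w : a ≫ t = 𝟙 X)
    (G : CohTop.Ab X) (n : ℕ) :
    ∃ r : CohTop.H ((CohTop.pull t).obj G) n →+ CohTop.H G n, ∀ x, r (Hpull t G n x) = x := by
  have : (CohTop.pull (a ≫ t)).IsEquivalence := by
    rw [w]
    infer_instance
  exact exists_retraction (constAdj X) (constAdj U) (constAdj X) (adj t) (adj a) (adj (a ≫ t))
    (Gt t) (Gt a) (Gt (a ≫ t)) (Iso.refl _) (fun B => rfl) (AddCommGrpCat.of (ULift ℤ)) G n

end Groth.Agent.Lib.TopHpull95
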