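import Groth.Prelude.Def_TopMod
import Mathlib.Algebra.Module.Torsion.Basic
import Mathlib.Algebra.Module.Projective
import Mathlib.RingTheory.Ideal.Quotient.Operations
import Mathlib.Algebra.Algebra.Basic
import Mathlib.Topology.Algebra.IsUniformGroup.Defs
import Mathlib.Topology.Algebra.OpenSubgroup
import Mathlib.Topology.Algebra.Group.Basic
import Mathlib.Topology.Separation.Hausdorff
import Mathlib.Topology.UniformSpace.Cauchy

/-!
# Modules whose topology is deduced from that of the ring (helper10)

Helper lemmas for `TopMod.IsDeduced`: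
* `smul_top_mem_nhds`, `isOpen_smul_top`: `J • ⊤` is an open neighbourhood of `0` for `J` open;
* `continuous_linearMap`: every linear map between modules with deduced topologies is continuous;
* `continuous_mkQ`: the projection to the discrete quotient `M ⧸ J • ⊤` is continuous;
* `exists_lift_of_projective`: lifting property over `A ⧸ J` phrased with `A`-linear maps between
  `J`-torsion modules;
* `hasBasis_nat`, `exists_limit`, `eq_of_forall_sub_mem`: countable basis, limits of compatible
  sequences in a complete Hausdorff module.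
-/

set_option autoImplicit false
universe u v w

namespace Groth.Agent.Lib.TopModDeduced

open Topology Filter

section Basic

variable {A : Type u} {M : Type v} {N : Type w} [CommRing A] [TopologicalSpace A]
  [AddCommGroup M] [Module A M] [TopologicalSpace M]
  [AddCommGroup N] [Module A N] [TopologicalSpace N]

theorem smul_top_mem_nhds (hM : TopMod.IsDeduced A M) (J : Ideal A) (hJ : IsOpen (J : Set A)) :
    ((J • ⊤ : Submodule A M) : Set M) ∈ 𝓝 (0 : M) :=
  hM.2.mem_of_mem hJ

theorem isOpen_smul_top (hM : TopMod.IsDeduced A M) (J : Ideal A) (hJ : IsOpen (J : Set A)) :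
    IsOpen ((J • ⊤ : Submodule A M) : Set M) := by
  have := hM.1
  exact (J • ⊤ : Submodule A M).toAddSubgroup.isOpen_of_mem_nhds (g := 0)
    (smul_top_mem_nhds hM J hJ)

theorem isClosed_smul_top (hM : TopMod.IsDeduced A M) (J : Ideal A) (hJ : IsOpen (J : Set A)) :
    IsClosed ((J • ⊤ : Submodule A M) : Set M) := by
  have := hM.1
  exact (J • ⊤ : Submodule A M).toAddSubgroup.isClosed_of_isOpen (isOpen_smul_top hM J hJ)

omit [TopologicalSpace A] [TopologicalSpace M] [TopologicalSpace N] in
theorem map_smul_top_le (f : N →ₗ[A] M) (J : Ideal A) (y : N)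
    (hy : y ∈ (J • ⊤ : Submodule A N)) : f y ∈ (J • ⊤ : Submodule A M) := by
  have h : (J • ⊤ : Submodule A N) ≤ Submodule.comap f (J • ⊤ : Submodule A M) := by
    rw [Submodule.smul_le]
    intro r hr n _
    rw [Submodule.mem_comap, map_smul]
    exact Submodule.smul_mem_smul hr Submodule.mem_top
  exact h hy

/-- Every linear map between modules with deduced topologies is continuous. -/
theorem continuous_linearMap (hM : TopMod.IsDeduced A M) (hN : TopMod.IsDeduced A N)
    (f : N →ₗ[A] M) : Continuous f := by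
  have := hM.1
  have := hN.1
  apply continuous_of_continuousAt_zero f
  rw [ContinuousAt, map_zero]
  intro U hU
  obtain ⟨J, hJ, hJU⟩ := hM.2.mem_iff.1 hU
  rw [Filter.mem_map]
  refine Filter.mem_of_superset (smul_top_mem_nhds hN J hJ) ?_
  intro y hy
  exact hJU (map_smul_top_le f J y hy)

/-- The projection to a discrete quotient `M ⧸ J • ⊤` is continuous. -/
theorem continuous_mkQ (hM : TopMod.IsDeduced A M) (J : Ideal A) (hJ : IsOpen (J : Set A))
    [TopologicalSpace (M ⧸ (J • ⊤ : Submodule A M))]
    [DiscreteTopology (M ⧸ (J • ⊤ : Submodule A M))] :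
    Continuous (J • ⊤ : Submodule A M).mkQ := by
  have := hM.1
  rw [continuous_discrete_rng]
  intro b
  obtain ⟨m, rfl⟩ := Submodule.mkQ_surjective _ b
  have h : (J • ⊤ : Submodule A M).mkQ ⁻¹' {(J • ⊤ : Submodule A M).mkQ m} =
      (fun x => x - m) ⁻¹' ((J • ⊤ : Submodule A M) : Set M) := by
    ext x
    rw [Set.mem_preimage, Set.mem_singleton_iff, Set.mem_preimage, SetLike.mem_coe,
      Submodule.mkQ_apply, Submodule.mkQ_apply, Submodule.Quotient.eq]
  rw [h]
  exact (isOpen_smul_top hM J hJ).preimage (continuous_id.sub continuous_const)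

end Basic

section Lifting

variable {A : Type u} [CommRing A] (J : Ideal A) {P X Y : Type*}
  [AddCommGroup P] [Module A P] [AddCommGroup X] [Module A X] [AddCommGroup Y] [Module A Y]

/-- Lifting property of a module which is projective over `A ⧸ J`, phrased with `A`-linear maps
between `J`-torsion `A`-modules. -/
theorem exists_lift_of_projective (hP : Module.IsTorsionBySet A P J)
    (hX : Module.IsTorsionBySet A X J) (hY : Module.IsTorsionBySet A Y J)
    (hproj : letI := hP.module; Module.Projective (A ⧸ J) P)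
    (g : X →ₗ[A] Y) (hg : Function.Surjective g) (h : P →ₗ[A] Y) :
    ∃ l : P →ₗ[A] X, g ∘ₗ l = h := by
  let _ := hP.module
  let _ := hX.module
  let _ := hY.module
  have hs : Function.Surjective (algebraMap A (A ⧸ J)) := Ideal.Quotient.mk_surjective
  obtain ⟨l, hl⟩ := Module.projective_lifting_property
    (g.extendScalarsOfSurjective hs) (h.extendScalarsOfSurjective hs) hg
  refine ⟨l.restrictScalars A, ?_⟩
  ext p
  exact LinearMap.congr_fun hl p

end Lifting

section Limits

variable {A : Type u} {M : Type v} [CommRing A] [TopologicalSpace A] [AddCommGroup M] [Module A M]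
  (𝔍 : ℕ → Ideal A) (h𝔍open : ∀ n, IsOpen (𝔍 n : Set A)) (h𝔍anti : Antitone 𝔍)
  (h𝔍basis : (nhds (0 : A)).HasBasis (fun _ : ℕ => True) (fun n => (𝔍 n : Set A)))

include h𝔍open h𝔍basis in
theorem hasBasis_nat [TopologicalSpace M] (hM : TopMod.IsDeduced A M) :
    (𝓝 (0 : M)).HasBasis (fun _ : ℕ => True)
      (fun n => ((𝔍 n • ⊤ : Submodule A M) : Set M)) := by
  constructor
  intro U
  constructor
  · intro hU
    obtain ⟨J, hJ, hJU⟩ := hM.2.mem_iff.1 hU
    obtain ⟨n, -, hn⟩ := h𝔍basis.mem_iff.1 (hJ.mem_nhds J.zero_mem)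
    refine ⟨n, trivial, subset_trans ?_ hJU⟩
    have h1 : 𝔍 n ≤ J := hn
    exact Submodule.smul_mono_left h1
  · rintro ⟨n, -, hn⟩
    exact Filter.mem_of_superset (smul_top_mem_nhds hM _ (h𝔍open n)) hn

include h𝔍open h𝔍basis in
theorem eq_of_forall_sub_mem [TopologicalSpace M] [T2Space M] (hM : TopMod.IsDeduced A M)
    (x y : M) (h : ∀ n, x - y ∈ (𝔍 n • ⊤ : Submodule A M)) : x = y := by
  by_contra hne
  have h0 : x - y ≠ 0 := sub_ne_zero.2 hne
  have hU : {x - y}ᶜ ∈ 𝓝 (0 : M) := compl_singleton_mem_nhds h0.symm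
  obtain ⟨n, -, hn⟩ := (hasBasis_nat 𝔍 h𝔍open h𝔍basis hM).mem_iff.1 hU
  exact hn (h n) rfl

include h𝔍open h𝔍anti h𝔍basis in
theorem exists_limit [UniformSpace M] [IsUniformAddGroup M] [CompleteSpace M]
    (hM : TopMod.IsDeduced A M) (m : ℕ → M)
    (hm : ∀ k, m (k + 1) - m k ∈ (𝔍 k • ⊤ : Submodule A M)) :
    ∃ x : M, ∀ n, x - m n ∈ (𝔍 n • ⊤ : Submodule A M) := by
  have key : ∀ n k, n ≤ k → m k - m n ∈ (𝔍 n • ⊤ : Submodule A M) := by
    intro n k hk
    induction k, hk using Nat.le_induction with
    | base => rw [sub_self]; exact Submodule.zero_mem _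
    | succ k hk ih =>
      have h1 : m (k + 1) - m n = (m (k + 1) - m k) + (m k - m n) := by abel
      rw [h1]
      exact Submodule.add_mem _ (Submodule.smul_mono_left (h𝔍anti hk) (hm k)) ih
  have hc : CauchySeq m := by
    rw [(hasBasis_nat 𝔍 h𝔍open h𝔍basis hM).uniformity_of_nhds_zero.cauchySeq_iff]
    intro i _
    refine ⟨i, fun a ha b hb => ?_⟩
    change m b - m a ∈ (𝔍 i • ⊤ : Submodule A M)
    have h1 : m b - m a = (m b - m i) - (m a - m i) := by abel
    rw [h1]
    exact Submodule.sub_mem _ (key i b hb) (key i a ha)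
  obtain ⟨x, hx⟩ := cauchySeq_tendsto_of_complete hc
  refine ⟨x, fun n => ?_⟩
  have ht : Tendsto (fun k => m k - m n) atTop (𝓝 (x - m n)) := hx.sub_const _
  exact (isClosed_smul_top hM (𝔍 n) (h𝔍open n)).mem_of_tendsto ht
    (Filter.eventually_atTop.2 ⟨n, fun k hk => key n k hk⟩)

end Limits

end Groth.Agent.Lib.TopModDeduced
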