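import Groth.Agent.Lib.LTensorMod21
import Groth.Agent.Lib.StalkFlatBridge66
import Groth.Agent.Lib.StalkFlatConverse66

/-!
# Tor amplitude on `D(O_X)`: flat-representative form implies derived-tensor form (helper21)
-/

set_option autoImplicit false
universe u
open CategoryTheory Limits AlgebraicGeometry
attribute [local instance] HasDerivedCategory.standard

namespace Groth.Agent.Lib.TorAmp21
open Groth.Agent.Lib.ModSiteKFlatBdd66 Groth.Agent.Lib.LTensorMod21

variable {X : Scheme.{u}}

/-- a bounded above complex of (stalkwise) flat modules is K-flat (S0953) -/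
theorem isKFlat_of_flat_of_isStrictlyLE (E : CochainComplex X.Modules ℤ) (n : ℤ) (hn : E.IsStrictlyLE n)
    (hflat : ∀ i : ℤ, FlatMod.IsFlat (E.X i)) : ModSite.IsKFlat (O := X.sheaf) E :=
  @Groth.Agent.Lib.ModSiteKFlatBdd66.isKFlat_of_isStrictlyLE _ _ _ X.sheaf E n hn
    (fun i => Groth.Agent.Lib.StalkFlatBridge66.isFlat_of_stalkwise _ (hflat i))

/-- a complex of flat modules vanishing outside `[a, b]` is K-flat -/
theorem isKFlat_of_vanishesOutside (E : CochainComplex X.Modules ℤ) (a b : ℤ)
    (hE : DCoh.VanishesOutside E a b) (hflat : ∀ i : ℤ, FlatMod.IsFlat (E.X i)) :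
    ModSite.IsKFlat (O := X.sheaf) E := by
  refine isKFlat_of_flat_of_isStrictlyLE E b ?_ hflat
  rw [CochainComplex.isStrictlyLE_iff]
  intro i hi
  exact hE i (Or.inr hi)

/-- the cohomology sheaves of `Q(P) ⊗^L G` for `P` K-flat are those of the termwise tensor product -/
noncomputable def HDIso (G : X.Modules) [DCoh.HasLTensorMod G] (P : CochainComplex X.Modules ℤ)
    (hP : ModSite.IsKFlat (O := X.sheaf) P) (i : ℤ) :
    DCoh.HD ((DCoh.LTensorMod G).obj (DCoh.toD X P)) i ≅ ((tensorCxMod G).obj P).homology i :=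
  (DerivedCategory.homologyFunctor X.Modules i).mapIso (lTensorModIso G P hP) ≪≫
    (DerivedCategory.homologyFunctorFactors X.Modules i).app ((tensorCxMod G).obj P)

theorem isZero_HD_of_isZero_X (G : X.Modules) [DCoh.HasLTensorMod G] (P : CochainComplex X.Modules ℤ)
    (hP : ModSite.IsKFlat (O := X.sheaf) P) (i : ℤ) (h : IsZero (P.X i)) :
    IsZero (DCoh.HD ((DCoh.LTensorMod G).obj (DCoh.toD X P)) i) := by
  refine IsZero.of_iso ?_ (HDIso G P hP i)
  have h1 : IsZero (((tensorCxMod G).obj P).X i) := (DCoh.tensorRightMod G).map_isZero h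
  rw [← HomologicalComplex.exactAt_iff_isZero_homology]
  exact HomologicalComplex.ExactAt.of_isZero h1

/-- **flat-representative tor amplitude implies derived-tensor tor amplitude** -/
theorem hasTorAmplitudeIn_of_hasFlatAmplitudeIn (K : DCoh.D X) (a b : ℤ)
    (h : DCoh.HasFlatAmplitudeIn a b K) : DCoh.HasTorAmplitudeIn a b K := by
  obtain ⟨E, hE, hflat, ⟨e⟩⟩ := h
  intro F _ i hi
  have hK : ModSite.IsKFlat (O := X.sheaf) E := isKFlat_of_vanishesOutside E a b hE hflat
  exact (isZero_HD_of_isZero_X F E hK i (hE i hi)).of_iso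
    ((DerivedCategory.homologyFunctor X.Modules i).mapIso ((DCoh.LTensorMod F).mapIso e.symm))

end Groth.Agent.Lib.TorAmp21
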