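import Groth.Agent.Lib.H47TorLoc
import Groth.Agent.Lib.RHomBC35

set_option autoImplicit false
set_option linter.style.haveILetI false
universe u
open CategoryTheory CategoryTheory.Limits MonoidalCategory DerivedCategory
attribute [local instance] HasDerivedCategory.standard
open Groth.Agent.Lib.KFlat35 (IsKFlat)
open Groth.Agent.Lib.HomTensor25 (sg GM)
open DTen (extCx resCx)

namespace Groth.Agent.Lib.TorAmpLocal81
open Groth.Agent.Lib.H47TorCrit Groth.Agent.Lib.H47TorLoc Groth.Agent.Lib.FlatBaseChangeD

variable {A : Type u} [CommRing A]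

/-- vanishing of a module is detected on any choice of local rings at the maximal ideals -/
lemma isZero_of_forall_maximal_exists (H : ModuleCat.{u} A)
    (h : ∀ (m : Ideal A) [m.IsMaximal], ∃ (S : Type u) (_ : CommRing S) (_ : Algebra A S),
      IsLocalization.AtPrime S m ∧
        IsZero ((ModuleCat.extendScalars.{u, u, u} (algebraMap A S)).obj H)) :
    IsZero H := by
  haveI : Subsingleton H := by
    rw [subsingleton_iff_forall_eq 0]
    intro x
    by_contra ne
    let I : Ideal A := (⊥ : Submodule A H).comap (LinearMap.toSpanSingleton A H x)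
    have hI : I ≠ ⊤ := by
      intro hI
      have h1 : (1 : A) ∈ I := hI ▸ Submodule.mem_top
      apply ne
      have h2 : (LinearMap.toSpanSingleton A H x) 1 ∈ (⊥ : Submodule A H) := h1
      rw [Submodule.mem_bot, LinearMap.toSpanSingleton_apply, one_smul] at h2
      exact h2
    obtain ⟨m, hm, le⟩ := I.exists_le_maximal hI
    haveI := hm
    obtain ⟨S, _, _, hS, hz⟩ := h m
    haveI := hS
    haveI : Subsingleton ((F A S).obj H) := ModuleCat.subsingleton_of_isZero hz
    haveI : Subsingleton (TensorProduct A S H) :=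
      (objEquiv (B := S) H).symm.toEquiv.subsingleton
    have h0 : TensorProduct.mk A S H 1 x = 0 := Subsingleton.elim _ _
    obtain ⟨c, hc⟩ :=
      (IsLocalizedModule.eq_zero_iff m.primeCompl (TensorProduct.mk A S H 1)).mp h0
    refine c.2 (le ?_)
    change (LinearMap.toSpanSingleton A H x) c ∈ (⊥ : Submodule A H)
    rw [Submodule.mem_bot, LinearMap.toSpanSingleton_apply]
    exact hc
  exact ModuleCat.isZero_of_subsingleton _

/-- **tor amplitude is local**: it can be checked after extension of scalars to (any model of) the local rings at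
the maximal ideals. -/
theorem hasTorAmplitudeIn_of_forall_maximal (P : DRing.Cx A) (a b : ℤ)
    (h : ∀ (m : Ideal A) [m.IsMaximal], ∃ (S : Type u) (_ : CommRing S) (_ : Algebra A S),
      IsLocalization.AtPrime S m ∧
        DRing.HasTorAmplitudeIn S a b (DRing.toD ((extCx (algebraMap A S)).obj P))) :
    DRing.HasTorAmplitudeIn A a b (DRing.toD P) := by
  refine hasTorAmplitudeIn_of_isZero_homology P a b (fun M => ?_)
  obtain ⟨N', π, -, hN, -, hπ, -⟩ :=
    Groth.Agent.Lib.SemiFreeKProj35.exists_kprojective_resolution (sg M)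
  haveI := hπ
  refine ⟨N', π, hπ, hN, fun i hi => ?_⟩
  refine isZero_of_forall_maximal_exists _ (fun m hm => ?_)
  obtain ⟨S, iS, iA, hS, hT⟩ := h m
  refine ⟨S, iS, iA, hS, ?_⟩
  haveI := hS
  haveI : Module.Flat A S := IsLocalization.flat S m.primeCompl
  have e : ((extCx (algebraMap A S)).obj (P ⊗ N')).homology i ≅
      (F A S).obj ((P ⊗ N').homology i) := (mapHCHomologyIso (F A S) i).app _
  refine IsZero.of_iso ?_ e.symm
  have e2 : (extCx (algebraMap A S)).obj (P ⊗ N') ≅
      (extCx (algebraMap A S)).obj P ⊗ (extCx (algebraMap A S)).obj N' :=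
    asIso (Groth.Agent.Lib.RHomBC35.ν (algebraMap A S) P N')
  haveI := quasiIso_extπ (A' := S) M π
  have hz := isZero_homology_of_hasTorAmplitudeIn ((extCx (algebraMap A S)).obj P) a b hT
    ((ModuleCat.extendScalars.{u, u, u} (algebraMap A S)).obj M) (extπ (A' := S) M π)
    (Groth.Agent.Lib.ProjFormula35.isKFlat_extCx (algebraMap A S) N' hN) i hi
  exact hz.of_iso ((HomologicalComplex.homologyFunctor _ _ i).mapIso e2)

end Groth.Agent.Lib.TorAmpLocal81
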