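import Groth.Agent.Lib.TorAmpLocal81

set_option autoImplicit false
set_option linter.style.haveILetI false
universe u
open CategoryTheory CategoryTheory.Limits MonoidalCategory DerivedCategory
attribute [local instance] HasDerivedCategory.standard
open Groth.Agent.Lib.KFlat35 (IsKFlat)
open Groth.Agent.Lib.HomTensor25 (sg GM)
open DTen (extCx resCx)

namespace Groth.Agent.Lib.TorAmpLocal81
open Groth.Agent.Lib.H47TorCrit Groth.Agent.Lib.H47TorLoc Groth.Agent.Lib.FlatBaseChangeD

section LocCounit

variable {R R' : Type u} [CommRing R] [CommRing R'] [Algebra R R']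

instance isScalarTower_restrictScalars (M' : ModuleCat.{u} R') :
    IsScalarTower R R' ((ModuleCat.restrictScalars (algebraMap R R')).obj M') where
  smul_assoc r s m := by
    rw [ModuleCat.restrictScalars.smul_def, Algebra.smul_def, mul_smul]
    rfl

/-- a module over a localization is the extension of scalars of its restriction -/
noncomputable def locCounitIso (S : Submonoid R) [IsLocalization S R'] (M' : ModuleCat.{u} R') :
    (ModuleCat.extendScalars.{u, u, u} (algebraMap R R')).obj
      ((ModuleCat.restrictScalars (algebraMap R R')).obj M') ≅ M' :=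
  haveI := isLocalizedModule_id S ((ModuleCat.restrictScalars (algebraMap R R')).obj M') R'
  (((objEquiv (B := R') ((ModuleCat.restrictScalars (algebraMap R R')).obj M')).trans
    (IsLocalizedModule.isBaseChange S R'
      (LinearMap.id : ((ModuleCat.restrictScalars (algebraMap R R')).obj M') →ₗ[R]
        ((ModuleCat.restrictScalars (algebraMap R R')).obj M'))).equiv).toModuleIso :
    (ModuleCat.extendScalars.{u, u, u} (algebraMap R R')).obj
      ((ModuleCat.restrictScalars (algebraMap R R')).obj M') ≅
      ModuleCat.of R' ((ModuleCat.restrictScalars (algebraMap R R')).obj M'))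

end LocCounit

section Relative

variable {R A : Type u} [CommRing R] [CommRing A]

/-- **relative local-to-global**: the tor amplitude over `R` of a complex of `A`-modules can be checked at the maximal
ideals of `A`, over any flat `R`-algebras `R'` fitting in squares with models `A'` of the local rings. -/
theorem hasTorAmplitudeIn_res_of_forall_maximal (φ : R →+* A) (K : DRing.Cx A) (a b : ℤ)
    (h : ∀ (m : Ideal A) [m.IsMaximal], ∃ (R' A' : Type u) (_ : CommRing R') (_ : CommRing A')
      (_ : Algebra R R') (_ : Algebra A A') (l : R' →+* A'), Module.Flat R R' ∧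
      IsLocalization.AtPrime A' m ∧ l.comp (algebraMap R R') = (algebraMap A A').comp φ ∧
      DRing.HasTorAmplitudeIn R' a b
        (DRing.toD ((resCx l).obj ((extCx (algebraMap A A')).obj K)))) :
    DRing.HasTorAmplitudeIn R a b (DRing.toD ((resCx φ).obj K)) := by
  refine hasTorAmplitudeIn_of_isZero_homology ((resCx φ).obj K) a b (fun M => ?_)
  obtain ⟨N', π, -, hN, -, hπ, -⟩ :=
    Groth.Agent.Lib.SemiFreeKProj35.exists_kprojective_resolution (sg M)
  haveI := hπ
  refine ⟨N', π, hπ, hN, fun i hi => ?_⟩
  let W : DRing.Cx A := K ⊗ (extCx φ).obj N'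
  have e1 : (resCx φ).obj K ⊗ N' ≅ (resCx φ).obj W :=
    Groth.Agent.Lib.ProjFormula35.pfIso φ K N'
  have h1 : IsZero (((resCx φ).obj K ⊗ N').homology i) ↔
      IsZero (((resCx φ).obj W).homology i) :=
    ((HomologicalComplex.homologyFunctor _ _ i).mapIso e1).isZero_iff
  rw [h1, isZero_homology_resCx_iff]
  refine isZero_of_forall_maximal_exists _ (fun m hm => ?_)
  obtain ⟨R', A', iR', iA', aR', aA', l, hfl, hloc, hsq, hT⟩ := h m
  refine ⟨A', iA', aA', hloc, ?_⟩
  haveI := hloc
  haveI := hfl
  haveI : Module.Flat A A' := IsLocalization.flat A' m.primeCompl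
  have e : ((extCx (algebraMap A A')).obj W).homology i ≅ (F A A').obj (W.homology i) :=
    (mapHCHomologyIso (F A A') i).app _
  refine IsZero.of_iso ?_ e.symm
  have e2 := squareIso φ (algebraMap R R') (algebraMap A A') l hsq K N'
  haveI := quasiIso_extπ (A' := R') M π
  have hz := isZero_homology_of_hasTorAmplitudeIn
    ((resCx l).obj ((extCx (algebraMap A A')).obj K)) a b hT
    ((ModuleCat.extendScalars.{u, u, u} (algebraMap R R')).obj M) (extπ (A' := R') M π)
    (Groth.Agent.Lib.ProjFormula35.isKFlat_extCx (algebraMap R R') N' hN) i hi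
  have hz2 := hz.of_iso ((HomologicalComplex.homologyFunctor _ _ i).mapIso e2.symm)
  exact (isZero_homology_resCx_iff l _ i).1 hz2

variable {R' A' : Type u} [CommRing R'] [CommRing A'] [Algebra R R'] [Algebra A A']

/-- **relative global-to-local**: in a commutative square `R → A`, `R → R'` a localization, `A → A'` flat, `R' → A'`,
tor amplitude of `K|_R` gives tor amplitude of `(A' ⊗_A K)|_{R'}`. -/
theorem hasTorAmplitudeIn_res_ext_of_square (S : Submonoid R) [IsLocalization S R']
    [Module.Flat A A'] (φ : R →+* A) (l : R' →+* A')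
    (hsq : l.comp (algebraMap R R') = (algebraMap A A').comp φ) (K : DRing.Cx A) (a b : ℤ)
    (hK : DRing.HasTorAmplitudeIn R a b (DRing.toD ((resCx φ).obj K))) :
    DRing.HasTorAmplitudeIn R' a b
      (DRing.toD ((resCx l).obj ((extCx (algebraMap A A')).obj K))) := by
  haveI : Module.Flat R R' := IsLocalization.flat R' S
  refine hasTorAmplitudeIn_of_isZero_homology _ a b (fun M' => ?_)
  let N : ModuleCat.{u} R := (ModuleCat.restrictScalars (algebraMap R R')).obj M'
  obtain ⟨N', π, -, hN, -, hπ, -⟩ :=
    Groth.Agent.Lib.SemiFreeKProj35.exists_kprojective_resolution (sg N)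
  haveI := hπ
  haveI := quasiIso_extπ (A' := R') N π
  refine ⟨(extCx (algebraMap R R')).obj N',
    extπ (A' := R') N π ≫ (HomologicalComplex.single _ (ComplexShape.up ℤ) 0).map
      (locCounitIso S M').hom, inferInstance,
    Groth.Agent.Lib.ProjFormula35.isKFlat_extCx (algebraMap R R') N' hN, fun i hi => ?_⟩
  have e2 := squareIso φ (algebraMap R R') (algebraMap A A') l hsq K N'
  refine IsZero.of_iso ?_ ((HomologicalComplex.homologyFunctor _ _ i).mapIso e2)
  change IsZero (((resCx l).obj _).homology i)
  rw [isZero_homology_resCx_iff]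
  have e : ((extCx (algebraMap A A')).obj (K ⊗ (extCx φ).obj N')).homology i ≅
      (F A A').obj ((K ⊗ (extCx φ).obj N').homology i) := (mapHCHomologyIso (F A A') i).app _
  refine IsZero.of_iso ?_ e
  refine (F A A').map_isZero ?_
  rw [← isZero_homology_resCx_iff φ]
  refine IsZero.of_iso ?_ ((HomologicalComplex.homologyFunctor _ _ i).mapIso
    (Groth.Agent.Lib.ProjFormula35.pfIso φ K N').symm)
  exact isZero_homology_of_hasTorAmplitudeIn ((resCx φ).obj K) a b hK N π hN i hi

end Relative

end Groth.Agent.Lib.TorAmpLocal81
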