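/-
helper81: tor amplitude of `(P ⊗_A E)|_R` for `E` a bounded complex of FLAT `A`-modules (generalizing helper54's
`TensorTorAmp54.pa_tensor` from finite projective to flat terms): `pa_tensor_single_flat`, `nn_of_flat`, `pa_tensor_flat`;
`nonempty_ltc_iso_of_isKFlat` (K ⊗^L L computed by a K-flat representative of the first variable); `termTensorIso`,
`nonempty_Q_tensor_iso`, `exactAt_map`, `exactAt_of_map`.
-/
import Groth.Agent.Lib.TensorTorAmp54
import Groth.Agent.Lib.TorAmpKFlat35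
import Groth.Agent.Lib.ProjFormula35
import Groth.Agent.Lib.TorAmpTFun21
import Groth.Agent.Lib.HomCxPre25
import Groth.Agent.Lib.SemiFreeKProj35
import Groth.Agent.Lib.DTenMix35

set_option autoImplicit false
set_option linter.style.haveILetI false
universe u
open CategoryTheory CategoryTheory.Limits Category MonoidalCategory

attribute [local instance] HasDerivedCategory.standard

namespace Groth.Agent.Lib.TorAmpTensor81

section Exact

variable {C D : Type*} [Category C] [Category D] [Abelian C] [Abelian D]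
  {ι : Type*} {c : ComplexShape ι}

lemma exactAt_map (G : C ⥤ D) [G.Additive] [PreservesFiniteLimits G] [PreservesFiniteColimits G]
    (K : HomologicalComplex C c) (i : ι) (h : K.ExactAt i) :
    ((G.mapHomologicalComplex c).obj K).ExactAt i := by
  rw [HomologicalComplex.exactAt_iff] at h ⊢
  exact h.map G

lemma exactAt_of_map (G : C ⥤ D) [G.Additive] [PreservesFiniteLimits G] [PreservesFiniteColimits G]
    [G.Faithful]
    (K : HomologicalComplex C c) (i : ι) (h : ((G.mapHomologicalComplex c).obj K).ExactAt i) :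
    K.ExactAt i := by
  rw [HomologicalComplex.exactAt_iff] at h ⊢
  exact (ShortComplex.exact_map_iff_of_faithful _ G).1 h

lemma exactAt_of_iso {K K' : HomologicalComplex C c} (e : K ≅ K') (i : ι) (h : K.ExactAt i) :
    K'.ExactAt i :=
  (_root_.exactAt_iff_of_quasiIsoAt e.hom i).1 h

end Exact

section TermTensor
open Groth.Agent.Lib.HomTensor25

variable {R : Type u} [CommRing R]

noncomputable def termTensorIso (P : DRing.Cx R) (M : ModuleCat.{u} R) :
    CohIII.tensorObj P M ≅ P ⊗ sg M :=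
  (NatIso.mapHomologicalComplex (BraidedCategory.tensorLeftIsoTensorRight M).symm
    (ComplexShape.up ℤ)).app P ≪≫ tensorSingleIso M P ≪≫ DTen.braidCx (sg M) P

end TermTensor

section QTensor

open Groth.Agent.Lib.KFlat35 DerivedCategory

variable {R : Type u} [CommRing R]

lemma exactAt_iff_of_Q_iso {K₁ K₂ : DRing.Cx R} (e : Q.obj K₁ ≅ Q.obj K₂) (i : ℤ) :
    K₁.ExactAt i ↔ K₂.ExactAt i := by
  rw [HomologicalComplex.exactAt_iff_isZero_homology, HomologicalComplex.exactAt_iff_isZero_homology]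
  have e' : K₁.homology i ≅ K₂.homology i :=
    ((DerivedCategory.homologyFunctorFactors (ModuleCat.{u} R) i).app K₁).symm ≪≫
      (DerivedCategory.homologyFunctor (ModuleCat.{u} R) i).mapIso e ≪≫
      (DerivedCategory.homologyFunctorFactors (ModuleCat.{u} R) i).app K₂
  exact ⟨fun h => h.of_iso e'.symm, fun h => h.of_iso e'⟩

lemma isInvertedBy_tensorRight_Q {M' : DRing.Cx R} (hM : IsKFlat M') :
    (HomologicalComplex.quasiIso (ModuleCat.{u} R) (ComplexShape.up ℤ)).IsInvertedBy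
      (tensorRight M' ⋙ DerivedCategory.Q) := by
  intro X Y f hf
  have hf' : QuasiIso f := hf
  have h1 : QuasiIso (f ▷ M') := by
    have := quasiIso_tensorHom_right hM f
    exact this
  change IsIso (Q.map (f ▷ M'))
  infer_instance

theorem nonempty_Q_tensor_iso {M' : DRing.Cx R} (hM : IsKFlat M') {X₁ X₂ : DRing.Cx R}
    (e : Q.obj X₁ ≅ Q.obj X₂) : Nonempty (Q.obj (X₁ ⊗ M') ≅ Q.obj (X₂ ⊗ M')) := by
  let W := HomologicalComplex.quasiIso (ModuleCat.{u} R) (ComplexShape.up ℤ)
  let F' : DerivedCategory (ModuleCat.{u} R) ⥤ DerivedCategory (ModuleCat.{u} R) :=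
    Localization.lift (tensorRight M' ⋙ DerivedCategory.Q) (isInvertedBy_tensorRight_Q hM) Q
  let fac : Q ⋙ F' ≅ tensorRight M' ⋙ DerivedCategory.Q :=
    Localization.fac _ (isInvertedBy_tensorRight_Q hM) Q
  exact ⟨(fac.app X₁).symm ≪≫ F'.mapIso e ≪≫ fac.app X₂⟩

end QTensor


section Key

open Groth.Agent.Lib.KFlat35 DerivedCategory Groth.Agent.Lib.HomTensor25 Groth.Agent.Lib.PCohAmp
  Groth.Agent.Lib.DRingPerfAmp Groth.Agent.Lib.FlatAmp DTen

variable {R A : Type u} [CommRing R] [CommRing A] (φ : R →+* A)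

/-- vanishing of `H^i(L' ⊗ M')` for a K-flat resolution `M'` of a module, from flat amplitude of `L'` -/
lemma exactAt_tensor_of_pa (L' : DRing.Cx R) (c d : ℤ) (hL : PA (FL R) c d (Q.obj L'))
    (M : ModuleCat.{u} R) (M' : DRing.Cx R) (hM' : IsKFlat M') (s : M' ⟶ sg M) [QuasiIso s]
    (i : ℤ) (hi : i < c ∨ d < i) : (L' ⊗ M').ExactAt i := by
  obtain ⟨E, hEf, hEv, ⟨e⟩⟩ := hL
  have hEK : IsKFlat E := Groth.Agent.Lib.TorAmpKFlat35.isKFlat_of_flat_of_bddAbove E hEf d
    (fun j hj => hEv j (Or.inr hj))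
  obtain ⟨e'⟩ := nonempty_Q_tensor_iso hM' e
  rw [← exactAt_iff_of_Q_iso e' i]
  haveI := Groth.Agent.Lib.DTenMix35.quasiIso_whiskerLeft_of_isKFlat' hEK s
  rw [exactAt_iff_of_quasiIsoAt (E ◁ s) i]
  apply HomologicalComplex.ExactAt.of_isZero
  exact (Groth.Agent.Lib.TorAmpKFlat35.isZero_tensor_X M E i (hEv i hi)).of_iso
    ((HomologicalComplex.eval _ _ i).mapIso (DTen.braidCx E (sg M)))

theorem pa_tensor_single_flat (L : DRing.Cx A) (N : ModuleCat.{u} A) [Module.Flat A N] (c d : ℤ)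
    (hL : PA (FL R) c d (Q.obj ((resCx φ).obj L))) :
    PA (FL R) c d (Q.obj ((resCx φ).obj (L ⊗ sg N))) := by
  obtain ⟨P, r, hP, hPf, -, hr, -⟩ :=
    Groth.Agent.Lib.SemiFreeKProj35.exists_kprojective_resolution ((resCx φ).obj (L ⊗ sg N))
  haveI := hP
  haveI := hr
  refine pa_of_iso (asIso (Q.map r)) (Groth.Agent.Lib.TorAmpTFun21.pa_fl_of_TFun_kproj R P c d ?_)
  intro M i hi
  obtain ⟨M', s, hM', hM'f, -, hs, -⟩ :=
    Groth.Agent.Lib.SemiFreeKProj35.exists_kprojective_resolution (sg M)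
  haveI := hs
  change IsZero ((CohIII.tensorObj P M).homology i)
  rw [← HomologicalComplex.exactAt_iff_isZero_homology]
  refine exactAt_of_iso (termTensorIso P M).symm i ?_
  haveI := Groth.Agent.Lib.DTenMix35.quasiIso_whiskerLeft_of_isKFlat' hPf s
  rw [← exactAt_iff_of_quasiIsoAt (P ◁ s) i]
  haveI : QuasiIso (r ▷ M') := quasiIso_tensorHom_right hM'f r
  rw [exactAt_iff_of_quasiIsoAt (r ▷ M') i]
  refine exactAt_of_iso (Groth.Agent.Lib.ProjFormula35.pfIso φ (L ⊗ sg N) M').symm i ?_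
  apply exactAt_map (ModuleCat.restrictScalars φ)
  have e4 : (L ⊗ sg N) ⊗ (extCx φ).obj M' ≅ (GM N).obj (L ⊗ (extCx φ).obj M') :=
    whiskerRightIso (DTen.braidCx L (sg N)) _ ≪≫ α_ (sg N) L _ ≪≫
      (tensorSingleIso N (L ⊗ (extCx φ).obj M')).symm
  refine exactAt_of_iso e4.symm i ?_
  apply exactAt_map (tensorLeft N)
  apply exactAt_of_map (ModuleCat.restrictScalars φ)
  refine exactAt_of_iso (Groth.Agent.Lib.ProjFormula35.pfIso φ L M') i ?_
  exact exactAt_tensor_of_pa _ c d hL M M' hM'f s i hi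

end Key


section Devissage

open Groth.Agent.Lib.KFlat35 DerivedCategory Groth.Agent.Lib.HomTensor25 Groth.Agent.Lib.PCohAmp
  Groth.Agent.Lib.DRingPerfAmp Groth.Agent.Lib.FlatAmp DTen Groth.Agent.Lib.TensorTorAmp54

variable {R A : Type u} [CommRing R] [CommRing A] [Algebra R A] (P : DRing.Cx A)

/-- `P ⊗ N[-i] ≅ (P ⊗ N[0])[-i]` -/
noncomputable def tensorSingleShiftIso (N : ModuleCat.{u} A) (i : ℤ) :
    P ⊗ (HomologicalComplex.single (ModuleCat.{u} A) (ComplexShape.up ℤ) i).obj N ≅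
      (P ⊗ sg N)⟦-i⟧ :=
  whiskerLeftIso P (((CochainComplex.singleFunctors (ModuleCat.{u} A)).shiftIso (-i) i 0
      (by simp)).app N).symm ≪≫
    CochainComplex.mapBifunctorShift₂Iso P (sg N) (curriedTensor (ModuleCat.{u} A)) (-i)

theorem nn_of_flat {c d : ℤ}
    (hP : PA (FL R) c d ((DRing.restrictD (algebraMap R A)).obj (DerivedCategory.Q.obj P)))
    (N : ModuleCat.{u} A) [Module.Flat A N] : NN (R := R) P c d N := by
  intro i
  have h0 : PA (FL R) c d (Q.obj ((resCx (algebraMap R A)).obj P)) :=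
    pa_of_iso ((resFactors (algebraMap R A)).app P) hP
  have h1 := pa_tensor_single_flat (algebraMap R A) P N c d h0
  have h2 : PA (FL R) c d ((DRing.restrictD (algebraMap R A)).obj (Q.obj (P ⊗ sg N))) :=
    pa_of_iso ((resFactors (algebraMap R A)).app (P ⊗ sg N)).symm h1
  have e : (Ψ (R := R) P).obj
      ((HomologicalComplex.single (ModuleCat.{u} A) (ComplexShape.up ℤ) i).obj N) ≅
      ((DRing.restrictD (algebraMap R A)).obj (DerivedCategory.Q.obj (P ⊗ sg N)))⟦-i⟧ :=
    (DerivedCategory.Q ⋙ DRing.restrictD (algebraMap R A)).mapIso (tensorSingleShiftIso P N i) ≪≫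
      (DRing.restrictD (algebraMap R A)).mapIso ((DerivedCategory.Q.commShiftIso (-i)).app _) ≪≫
      ((DRing.restrictD (algebraMap R A)).commShiftIso (-i)).app _
  exact pa_of_iso e.symm (pa_mono (by lia) (by lia) (pa_shift h2 (-i)))

/-- tor amplitude of `(P ⊗_A E)|_R` for `E` a bounded complex of flat `A`-modules. -/
theorem pa_tensor_flat (c d a b : ℤ)
    (hP : PA (FL R) c d ((DRing.restrictD (algebraMap R A)).obj (DerivedCategory.Q.obj P)))
    (E : DRing.Cx A) (hE : DRing.VanishesOutside E a b) (hEf : DRing.TermwiseFlat E) :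
    PA (FL R) (c + a) (d + b) ((Ψ (R := R) P).obj E) := by
  let V : ObjectProperty (DRing.Cx A) := fun E' => PA (FL R) (c + a) (d + b) ((Ψ (R := R) P).obj E')
  have : V.IsClosedUnderIsomorphisms := ⟨fun {X Y} e h => pa_of_iso ((Ψ (R := R) P).mapIso e) h⟩
  refine Groth.Agent.Lib.CxDevissage54.cx_devissage (FL A) ?_ V ?_ ?_ E a b hE hEf ?_
  · intro Z hZ
    exact Groth.Agent.Lib.TorAmpKFlat35.flat_of_isZero Z hZ
  · intro S hS h3 h₁ h₃
    exact pa_ext P _ _ S hS h3 h₁ h₃
  · intro Z hZ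
    exact pa_of_isZero R _ _ (isZero_Ψ_obj P hZ)
  · intro i X ⟨e⟩
    by_cases hi : a ≤ i ∧ i ≤ b
    · have : Module.Flat A (E.X i) := hEf i
      have : Module.Flat A X := Module.Flat.of_linearEquiv e.toLinearEquiv
      exact pa_mono (by lia) (by lia) (nn_of_flat P hP X i)
    · have hX : IsZero X := (hE i (by lia)).of_iso e
      exact pa_of_isZero R _ _ (isZero_Ψ_obj P
        ((HomologicalComplex.single (ModuleCat.{u} A) (ComplexShape.up ℤ) i).map_isZero hX))

end Devissage

section LTC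

open Groth.Agent.Lib.KFlat35 DerivedCategory DTen

variable {B : Type u} [CommRing B]

lemma quasiIso_whiskerRight_of_isKFlat {P F : DRing.Cx B} (r : P ⟶ F) [QuasiIso r]
    (hP : IsKFlat P) (hF : IsKFlat F) (L : DRing.Cx B) : QuasiIso (r ▷ L) := by
  haveI : QuasiIso (L ◁ r) := by
    have := quasiIso_tensorHom_left r hP hF L
    exact this
  have e : r ▷ L = (DTen.braidCx P L).hom ≫ (L ◁ r) ≫ (DTen.braidCx F L).inv := by
    have := DTen.braidCx_naturality r (𝟙 L)
    rw [MonoidalCategory.tensorHom_id, MonoidalCategory.id_tensorHom] at this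
    rw [← Category.assoc, ← this, Category.assoc, Iso.hom_inv_id, Category.comp_id]
  rw [e]
  infer_instance

/-- `K ⊗^L L` computed by a K-flat representative of the FIRST variable -/
theorem nonempty_ltc_iso_of_isKFlat (L : DRing.Cx B) [DRing.HasLTensorCx B L] (F : DRing.Cx B)
    (hF : IsKFlat F) : Nonempty ((DRing.LTensorCx B L).obj (Q.obj F) ≅ Q.obj (F ⊗ L)) := by
  obtain ⟨P, r, hP, hPf, -, hr, -⟩ :=
    Groth.Agent.Lib.SemiFreeKProj35.exists_kprojective_resolution F
  haveI := hP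
  haveI := hr
  haveI := quasiIso_whiskerRight_of_isKFlat r hPf hF L
  exact ⟨(DRing.LTensorCx B L).mapIso (asIso (Q.map r)).symm ≪≫
    Groth.Agent.Lib.LTensorCxKProj.ltcIso B L P ≪≫ asIso (Q.map (r ▷ L))⟩

end LTC

end Groth.Agent.Lib.TorAmpTensor81
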