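/-
helper81: `resExtModIso`/`resExtCxIso ψ N : (C ⊗_B N)|_B ≅ C|_B[0] ⊗ N`; `pa_res_ext`: A → B → C, N K-flat over B with N|_A of flat amplitude [c,d],
C of flat amplitude [a,b] over B ⇒ (C ⊗_B N)|_A has flat amplitude [c+a, d+b] (ring core of SGA6 III 3.7 / S6188).
-/
import Groth.Agent.Lib.TorAmpTensor81

set_option autoImplicit false
set_option linter.style.haveILetI false
universe u
open CategoryTheory CategoryTheory.Limits Category MonoidalCategory

attribute [local instance] HasDerivedCategory.standard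

namespace Groth.Agent.Lib.TorAmpTensor81

section ResExt

open ChangeOfRings TensorProduct

variable {B C : Type u} [CommRing B] [CommRing C] (ψ : B →+* C)

/-- `C` as a `B`-module -/
noncomputable abbrev algMod : ModuleCat.{u} B := (ModuleCat.restrictScalars ψ).obj (ModuleCat.of C C)

set_option backward.isDefEq.respectTransparency false in
lemma resExt_smul (M : ModuleCat.{u} B) (b : B)
    (z : (ModuleCat.restrictScalars ψ).obj ((ModuleCat.extendScalars ψ).obj M)) :
    (show (algMod ψ ⊗ M : ModuleCat.{u} B) from (b • z)) =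
      b • (show (algMod ψ ⊗ M : ModuleCat.{u} B) from z) := by
  change (show TensorProduct B (algMod ψ) M from (b • z)) =
      b • (show TensorProduct B (algMod ψ) M from z)
  induction z using TensorProduct.induction_on with
  | zero =>
    rw [smul_zero]
  | tmul s m => rfl
  | add x y hx hy =>
    rw [smul_add]

set_option backward.isDefEq.respectTransparency false in
/-- `(C ⊗_B M)|_B ≅ C|_B ⊗_B M` -/
noncomputable def resExtModIso (M : ModuleCat.{u} B) :
    (ModuleCat.restrictScalars ψ).obj ((ModuleCat.extendScalars ψ).obj M) ≅ algMod ψ ⊗ M :=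
  LinearEquiv.toModuleIso
    (X₁ := (ModuleCat.restrictScalars ψ).obj ((ModuleCat.extendScalars ψ).obj M))
    (X₂ := (algMod ψ ⊗ M : ModuleCat.{u} B))
    { toFun := fun z => z
      invFun := fun z => z
      map_add' := fun _ _ => rfl
      map_smul' := fun b z => resExt_smul ψ M b z
      left_inv := fun _ => rfl
      right_inv := fun _ => rfl }


set_option backward.isDefEq.respectTransparency false in
lemma resExtModIso_naturality {M M' : ModuleCat.{u} B} (g : M ⟶ M') :
    (ModuleCat.restrictScalars ψ).map ((ModuleCat.extendScalars ψ).map g) ≫ (resExtModIso ψ M').hom =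
      (resExtModIso ψ M).hom ≫ (algMod ψ ◁ g) := by
  apply ModuleCat.hom_ext
  apply LinearMap.ext
  intro z
  change TensorProduct B (algMod ψ) M at z
  induction z using TensorProduct.induction_on with
  | zero => rw [map_zero, map_zero]
  | tmul s m => rfl
  | add x y hx hy => rw [map_add, map_add, hx, hy]

open Groth.Agent.Lib.HomTensor25 in
/-- `(C ⊗_B N)|_B ≅ C|_B[0] ⊗ N` for complexes -/
noncomputable def resExtCxIso (N : DRing.Cx B) :
    (DTen.resCx ψ).obj ((DTen.extCx ψ).obj N) ≅ sg (algMod ψ) ⊗ N :=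
  (HomologicalComplex.Hom.isoOfComponents (C₁ := (DTen.resCx ψ).obj ((DTen.extCx ψ).obj N))
    (C₂ := (GM (algMod ψ)).obj N) (fun n => resExtModIso ψ (N.X n))
    (fun n n' _ => (resExtModIso_naturality ψ (N.d n n')).symm)) ≪≫ tensorSingleIso (algMod ψ) N

end ResExt


section R1

open Groth.Agent.Lib.KFlat35 DerivedCategory Groth.Agent.Lib.HomTensor25 Groth.Agent.Lib.PCohAmp
  Groth.Agent.Lib.DRingPerfAmp Groth.Agent.Lib.FlatAmp DTen Groth.Agent.Lib.TensorTorAmp54

variable {A B C : Type u} [CommRing A] [CommRing B] [CommRing C] (φ : A →+* B) (ψ : B →+* C)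

/-- `A → B → C`, `N` a K-flat complex of `B`-modules with `N|_A` of flat amplitude `[c, d]`, `C` of flat amplitude
`[a, b]` over `B`: then `(C ⊗_B N)|_A` has flat amplitude `[c + a, d + b]`. -/
theorem pa_res_ext (N : DRing.Cx B) (hN : IsKFlat N) (c d : ℤ)
    (hNA : PA (FL A) c d (Q.obj ((resCx φ).obj N)))
    (a b : ℤ) (hC : PA (FL B) a b (Q.obj (sg (algMod ψ)))) :
    PA (FL A) (c + a) (d + b) (Q.obj ((resCx φ).obj ((resCx ψ).obj ((extCx ψ).obj N)))) := by
  letI : Algebra A B := φ.toAlgebra
  obtain ⟨E, hEf, hEv, ⟨e⟩⟩ := hC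
  have hNA' : PA (FL A) c d ((DRing.restrictD (algebraMap A B)).obj (Q.obj N)) :=
    pa_of_iso ((resFactors φ).app N).symm hNA
  have h := pa_tensor_flat (R := A) (A := B) N c d a b hNA' E hEv hEf
  obtain ⟨j⟩ := nonempty_Q_tensor_iso hN e
  have iso : Q.obj (N ⊗ E) ≅ Q.obj ((resCx ψ).obj ((extCx ψ).obj N)) :=
    Q.mapIso (DTen.braidCx N E) ≪≫ j ≪≫ Q.mapIso (resExtCxIso ψ N).symm
  exact pa_of_iso ((DRing.restrictD φ).mapIso iso ≪≫ (resFactors φ).app _) h

end R1

end Groth.Agent.Lib.TorAmpTensor81
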