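/-
helper81: stalk transfer for relative tor amplitude: `stalkCxOverIso`, `stalkOverDIso`, `stalkOverCompDIso`, `pa_algMod_of_hasTorAmplitudeAt_unit`;
`hasTorAmplitudeD_lpull` (S6188: f of tor dimension ≤ m, G of tor amplitude [c,d] rel. g ⇒ Lf^*G has tor amplitude [c-m,d] rel. f ≫ g).
-/
import Groth.Agent.Lib.TorAmpTensor81B
import Groth.Agent.Lib.TorAmpStalk81B
import Groth.Agent.Lib.LpullHyp35
import Groth.Agent.Lib.LpullKFlat35

set_option autoImplicit false
set_option linter.style.haveILetI false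
universe u
open CategoryTheory CategoryTheory.Limits Category MonoidalCategory AlgebraicGeometry

attribute [local instance] HasDerivedCategory.standard

namespace Groth.Agent.Lib.TorAmpTensor81

section Sch

open Groth.Agent.Lib.StalkTensor81 Groth.Agent.Lib.TorAmpStalk81 DerivedCategory DTen
  Groth.Agent.Lib.PCohAmp Groth.Agent.Lib.DRingPerfAmp Groth.Agent.Lib.FlatAmp

variable {X Y Z : Scheme.{u}}

/-- `stalkCxOver f x` is `stalkCx x` followed by restriction of scalars -/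
noncomputable def stalkCxOverIso (f : X ⟶ Y) (x : X) (F : CochainComplex X.Modules ℤ) :
    (DerSch.stalkCxOver f x).obj F ≅ (resCx (f.stalkMap x).hom).obj ((stalkCx x).obj F) :=
  HomologicalComplex.Hom.isoOfComponents (fun _ => Iso.refl _)
    (fun _ _ _ => (Category.id_comp _).trans (Category.comp_id _).symm)

/-- an iso in `D(O_{X,x})` for the stalk complex gives an iso in `D(O_{Y,f x})` for the stalk complex over `f` -/
noncomputable def stalkOverDIso (f : X ⟶ Y) (x : X) (F : CochainComplex X.Modules ℤ)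
    (M : DRing.Cx (X.presheaf.stalk x)) (e : DRing.toD ((stalkCx x).obj F) ≅ Q.obj M) :
    DRing.toD ((DerSch.stalkCxOver f x).obj F) ≅ Q.obj ((resCx (f.stalkMap x).hom).obj M) :=
  Q.mapIso (stalkCxOverIso f x F) ≪≫ ((resFactors (f.stalkMap x).hom).app _).symm ≪≫
    (DRing.restrictD (f.stalkMap x).hom).mapIso e ≪≫ (resFactors (f.stalkMap x).hom).app M

/-- the same over a composite -/
noncomputable def stalkOverCompDIso (f : X ⟶ Y) (g : Y ⟶ Z) (x : X) (F : CochainComplex X.Modules ℤ)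
    (M : DRing.Cx (X.presheaf.stalk x)) (e : DRing.toD ((stalkCx x).obj F) ≅ Q.obj M) :
    DRing.toD ((DerSch.stalkCxOver (f ≫ g) x).obj F) ≅
      Q.obj ((resCx (g.stalkMap (f.base x)).hom).obj ((resCx (f.stalkMap x).hom).obj M)) :=
  Q.mapIso (stalkCxOverCompIso f g x F) ≪≫
    ((resFactors (g.stalkMap (f.base x)).hom).app _).symm ≪≫
    (DRing.restrictD (g.stalkMap (f.base x)).hom).mapIso (stalkOverDIso f x F M e) ≪≫
    (resFactors (g.stalkMap (f.base x)).hom).app _

end Sch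


section Main

open Groth.Agent.Lib.StalkTensor81 Groth.Agent.Lib.TorAmpStalk81 DerivedCategory DTen
  Groth.Agent.Lib.PCohAmp Groth.Agent.Lib.DRingPerfAmp Groth.Agent.Lib.FlatAmp
  Groth.Agent.Lib.LpullKFlat35 Groth.Agent.Lib.LpullHyp35 Groth.Agent.Lib.HomTensor25

variable {X Y Z : Scheme.{u}}

/-- the unit stalk complex over `f`, as flat amplitude of `O_{X,x}` over `O_{Y,f x}` -/
theorem pa_algMod_of_hasTorAmplitudeAt_unit (f : X ⟶ Y) (x : X) (a b : ℤ)
    (h : DerSch.HasTorAmplitudeAt f a b (DerSch.unitCx X) x) :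
    PA (FL (Y.presheaf.stalk (f.base x))) a b (Q.obj (sg (algMod (f.stalkMap x).hom))) := by
  rw [DerSch.HasTorAmplitudeAt, hasTorAmplitudeIn_iff_pa] at h
  exact pa_of_iso (Q.mapIso (stalkCxOverUnitIso f x ≪≫
    (HomologicalComplex.single _ _ 0).mapIso ((ModuleCat.restrictScalars _).mapIso
      (Groth.Agent.Lib.FreeModStalk.unitStalkEquiv x).symm.toModuleIso))) h

/-- **SGA6 III 3.7, case of schemes** (S6188) -/
theorem hasTorAmplitudeD_lpull (f : X ⟶ Y) (g : Y ⟶ Z) (m : ℕ) (hf : DerSch.HasTorDimLE f m)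
    [DCoh.HasLpull f] (G : CochainComplex Y.Modules ℤ) (c d : ℤ)
    (hG : DerSch.HasTorAmplitude g c d G) :
    DerSch.HasTorAmplitudeD (f ≫ g) (c - m) d ((DCoh.Lpull f).obj (DCoh.toD Y G)) := by
  intro F' ⟨e0⟩ x
  obtain ⟨P, p, hP, -, hp⟩ := Groth.Agent.Lib.TorAmpTri21.exists_resolution G
  haveI := hp
  let e1 : DCoh.toD Y P ≅ DCoh.toD Y G := asIso (Q.map p)
  let e3 : DCoh.toD X F' ≅ DCoh.toD X ((pullCx f).obj P) :=
    e0 ≪≫ (DCoh.Lpull f).mapIso e1.symm ≪≫ lpullIso (acycHyp f) P hP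
  let N := (stalkCx (f.base x)).obj P
  let eM : DRing.toD ((stalkCx x).obj F') ≅ Q.obj ((extCx (f.stalkMap x).hom).obj N) :=
    Groth.Agent.Lib.TorAmpStalk81.stalkDIso x e3 ≪≫ Q.mapIso (stalkPullCxIso f x P)
  have hN : Groth.Agent.Lib.KFlat35.IsKFlat N := isKFlat_stalk hP (f.base x)
  have hNA : PA (FL _) c d (Q.obj ((resCx (g.stalkMap (f.base x)).hom).obj N)) := by
    have h1 := hG (f.base x)
    rw [DerSch.HasTorAmplitudeAt, hasTorAmplitudeIn_iff_pa] at h1
    have e4 : DRing.toD ((stalkCx (f.base x)).obj G) ≅ Q.obj N :=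
      (Groth.Agent.Lib.TorAmpStalk81.stalkDIso (f.base x) e1).symm
    exact pa_of_iso (stalkOverDIso g (f.base x) G N e4) h1
  have hC := pa_algMod_of_hasTorAmplitudeAt_unit f x _ _ (hf x)
  have key := pa_res_ext (g.stalkMap (f.base x)).hom (f.stalkMap x).hom N hN c d hNA (-(m : ℤ)) 0 hC
  rw [DerSch.HasTorAmplitudeAt, hasTorAmplitudeIn_iff_pa]
  exact pa_of_iso (stalkOverCompDIso f g x F' _ eM).symm (pa_mono (by lia) (by lia) key)

end Main

end Groth.Agent.Lib.TorAmpTensor81
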