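import Groth.Agent.Lib.TorAmpLocal81B
import Groth.Agent.Lib.TildeStalk81
import Groth.Agent.Lib.TorAmpStalk81B
import Groth.Agent.Lib.TorAmpTensor81C
import Groth.Agent.Lib.LpullPerfect35

set_option autoImplicit false
set_option linter.style.haveILetI false
universe u
open CategoryTheory CategoryTheory.Limits AlgebraicGeometry
attribute [local instance] HasDerivedCategory.standard

namespace Groth.Agent.Lib.TorAmpLocal81
open Groth.Agent.Lib.TildeStalk81 Groth.Agent.Lib.TorAmpStalk81
  Groth.Agent.Lib.StalkTensor81 Groth.Agent.Lib.TorAmpTensor81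
open DTen (extCx resCx resFactors)

theorem tilde_additive (R : CommRingCat.{u}) : (tilde.functor R).Additive := inferInstance

theorem tilde_isLeftAdjoint (R : CommRingCat.{u}) : (tilde.functor R).IsLeftAdjoint := inferInstance

/-- the tilde of a flat module is a flat `O`-module -/
theorem isFlat_tilde (R : CommRingCat.{u}) (N : ModuleCat.{u} R) [Module.Flat R N] :
    FlatMod.IsFlat ((tilde.functor R).obj N) := by
  intro x
  have e := (tildeStalkIso R x).app N
  have h2 := Groth.Agent.Lib.LpullKFlat35.flat_extendScalars (toStalkHom R x) N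
  have h4 : Module.Flat ((Spec (.of R)).presheaf.stalk x)
      ((tilde.functor R ⋙ DerSch.stalkFunctor (Spec (.of R)) x).obj N) :=
    Module.Flat.of_linearEquiv e.toLinearEquiv
  exact h4

theorem hasFlatAmplitudeIn_of_iso {X : Scheme.{u}} {K L : DCoh.D X} (e : K ≅ L) (a b : ℤ)
    (h : DCoh.HasFlatAmplitudeIn a b K) : DCoh.HasFlatAmplitudeIn a b L := by
  obtain ⟨E, hE, hfl, ⟨e'⟩⟩ := h
  exact ⟨E, hE, hfl, ⟨e' ≪≫ e⟩⟩

/-- the stalk map of `Spec.map φ` is compatible with the localization maps -/
theorem stalkMap_square {R A : CommRingCat.{u}} (φ : R ⟶ A) (x : Spec (.of A)) :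
    ((Spec.map φ).stalkMap x).hom.comp (toStalkHom R ((Spec.map φ).base x)) =
      (toStalkHom A x).comp φ.hom := by
  have h := stalkMap_toStalk φ x
  exact congrArg CommRingCat.Hom.hom h

section

variable (R : Type u) [CommRing R] (x : Spec (CommRingCat.of R))

/-- the local ring of `Spec R` at `x` as an `R`-algebra (structure map `toStalkHom`) -/
@[instance_reducible]
noncomputable def stalkAlg : Algebra R ((Spec (CommRingCat.of R)).presheaf.stalk x) :=
  StructureSheaf.stalkAlgebra R x

theorem algebraMap_stalkAlg :
    @algebraMap R ((Spec (CommRingCat.of R)).presheaf.stalk x) _ _ (stalkAlg R x) =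
      toStalkHom (CommRingCat.of R) x := rfl

/-- the prime ideal of a point of `Spec R` -/
def pt : Ideal R := PrimeSpectrum.asIdeal (R := R) x

instance : (pt R x).IsPrime := PrimeSpectrum.isPrime (R := R) x

theorem isLocalization_stalk :
    @IsLocalization.AtPrime R _ ((Spec (CommRingCat.of R)).presheaf.stalk x) _ (stalkAlg R x)
      (pt R x) _ :=
  StructureSheaf.IsLocalization.to_stalk R x

theorem flat_stalk :
    @Module.Flat R ((Spec (CommRingCat.of R)).presheaf.stalk x) _ _
      (@Algebra.toModule _ _ _ _ (stalkAlg R x)) := by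
  letI := stalkAlg R x
  haveI := isLocalization_stalk R x
  exact IsLocalization.flat _ (pt R x).primeCompl

end

end Groth.Agent.Lib.TorAmpLocal81
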