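import Groth.Agent.Lib.TorAmpStalk81C
import Groth.Agent.Lib.TorAmpTFun21
import Groth.Agent.Lib.TorAmpShift21
import Groth.Agent.Lib.TildeStalk81
import Groth.Agent.Lib.H90OXModQcqs

/-!
# Tor amplitude is detected by quasi-coherent test modules (helper35)

Ring level: a K-flat complex `C` with `N ⊗ C` exact outside `[a, b]` for all `N` has tor amplitude in `[a, b]`.
-/

set_option autoImplicit false
set_option linter.style.haveILetI false
universe u

open CategoryTheory CategoryTheory.Limits Category MonoidalCategory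

attribute [local instance] HasDerivedCategory.standard

namespace Groth.Agent.Lib.TorAmpQCohTest35

open DerivedCategory Groth.Agent.Lib.KFlat35 Groth.Agent.Lib.TensorCxZ35
  Groth.Agent.Lib.TensorCxPure35 HomologicalComplex Groth.Agent.Lib.DTenBaseFlat35
  Groth.Agent.Lib.TorAmpKFlat35

section Ring

variable {R : Type u} [CommRing R] (M : ModuleCat.{u} R) (C : CochainComplex (ModuleCat.{u} R) ℤ)

/-- converse of `exact_whiskerLeft_of_exact`: if `M ⊗ C^•` is exact in degree `n + 1`, so is `M[0] ⊗ C`. -/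
theorem exact_of_exact_whiskerLeft (n : ℤ)
    (H : Function.Exact (M ◁ C.d n (n + 1)).hom (M ◁ C.d (n + 1) (n + 1 + 1)).hom) :
    Function.Exact ((HomologicalComplex.tensorObj (sg M) C).d n (n + 1)).hom
      ((HomologicalComplex.tensorObj (sg M) C).d (n + 1) (n + 1 + 1)).hom := by
  set S := sg M with hS
  let e : S.X 0 ≅ M := singleObjXSelf (ComplexShape.up ℤ) 0 M
  have hS0 : ∀ i : ℤ, i ≠ 0 → IsZero (S.X i) := isZero_sg_X M
  intro w
  constructor
  · intro hw
    set z' := (pr S C 0 (n + 1) (n + 1) (zero_add _)).hom w with hz'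
    have hwz : w = (ι S C 0 (n + 1) (n + 1) (zero_add _)).hom z' := dec M C (n + 1) w
    rw [hwz, d_ι_apply] at hw
    rw [eq_zero_of_isZero_left _ _ (hS0 (0 + 1) (by omega))
      ((S.d 0 (0 + 1) ▷ C.X (n + 1)).hom z'), map_zero, zero_add] at hw
    simp only [Int.negOnePow_zero, one_smul] at hw
    have hz'0 : (S.X 0 ◁ C.d (n + 1) (n + 1 + 1)).hom z' = 0 := by
      have := congrArg (pr S C 0 (n + 1 + 1) (n + 1 + 1) (zero_add _)).hom hw
      rw [pr_ι_apply, map_zero] at this
      exact this
    set z := (e.hom ▷ C.X (n + 1)).hom z' with hz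
    have hz0 : (M ◁ C.d (n + 1) (n + 1 + 1)).hom z = 0 := by
      have := whisker_exchange_apply' e.hom (C.d (n + 1) (n + 1 + 1)) z'
      rw [hz, ← this, hz'0, map_zero]
    obtain ⟨u, hu⟩ := (H z).1 hz0
    set v₀ := (e.inv ▷ C.X n).hom u with hv₀
    refine ⟨(ι S C 0 n n (zero_add n)).hom v₀, ?_⟩
    rw [d_ι_apply, eq_zero_of_isZero_left _ _ (hS0 (0 + 1) (by omega))
      ((S.d 0 (0 + 1) ▷ C.X n).hom v₀), map_zero, zero_add]
    simp only [Int.negOnePow_zero, one_smul]
    rw [hwz]
    congr 1
    have h1 := whisker_exchange_apply' e.inv (C.d n (n + 1)) u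
    rw [hv₀, ← h1, hu, hz]
    have h2 : (e.hom ▷ C.X (n + 1)) ≫ (e.inv ▷ C.X (n + 1)) = 𝟙 _ := by
      rw [← comp_whiskerRight, e.hom_inv_id, id_whiskerRight]
    exact congrArg (fun f => f.hom z') h2
  · rintro ⟨v, rfl⟩
    have h2 := (HomologicalComplex.tensorObj (sg M) C).d_comp_d n (n + 1) (n + 1 + 1)
    exact congrArg (fun f => f.hom v) h2

/-- homology vanishing version -/
theorem isZero_homology_of_exact_whiskerLeft (n : ℤ)
    (H : Function.Exact (M ◁ C.d n (n + 1)).hom (M ◁ C.d (n + 1) (n + 1 + 1)).hom) :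
    IsZero ((HomologicalComplex.tensorObj (sg M) C).homology (n + 1)) := by
  rw [← HomologicalComplex.exactAt_iff_isZero_homology,
    HomologicalComplex.exactAt_iff' _ n (n + 1) (n + 1 + 1) (by simp) (by simp)]
  exact (ShortComplex.ShortExact.moduleCat_exact_iff_function_exact _).2
    (exact_of_exact_whiskerLeft M C n H)

/-- **ring-level criterion**: a K-flat complex `C` such that `N ⊗ C^•` is exact outside `[a, b]` for every module `N`
has tor amplitude in `[a, b]` (converse of `TorAmpStalk81.exact_whiskerLeft_of_hasTorAmplitudeIn`). -/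
theorem hasTorAmplitudeIn_of_exact_whiskerLeft (C : DRing.Cx R) (hC : IsKFlat C) (a b : ℤ)
    (h : ∀ (N : ModuleCat.{u} R) (n : ℤ), (n + 1 < a ∨ b < n + 1) →
      Function.Exact (N ◁ C.d n (n + 1)).hom (N ◁ C.d (n + 1) (n + 1 + 1)).hom) :
    DRing.HasTorAmplitudeIn R a b (DRing.toD C) := by
  obtain ⟨F, s, hF, hFf, -, hs, -⟩ := Groth.Agent.Lib.SemiFreeKProj35.exists_kprojective_resolution C
  haveI := hF
  haveI := hs
  have e : Q.obj F ≅ Q.obj C := asIso (Q.map s)
  rw [Groth.Agent.Lib.TorAmpShift21.ta_iff_pa]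
  refine Groth.Agent.Lib.PCohAmp.pa_of_iso e
    (Groth.Agent.Lib.TorAmpTFun21.pa_fl_of_TFun_kproj R F a b ?_)
  intro N i hi
  obtain ⟨n, rfl⟩ : ∃ n : ℤ, i = n + 1 := ⟨i - 1, by ring⟩
  have h1 := isZero_homology_of_exact_whiskerLeft N C n (h N n hi)
  obtain ⟨j⟩ := Groth.Agent.Lib.TorAmpStalk81.nonempty_homology_tensor_iso hFf hC e (sg N) (n + 1)
  have h2 : IsZero ((HomologicalComplex.tensorObj (sg N) F).homology (n + 1)) := h1.of_iso j
  have h3 := exact_whiskerLeft_of_isZero_homology N F n h2
  have h4 : (((tensorLeft N).mapHomologicalComplex (ComplexShape.up ℤ)).obj F).ExactAt (n + 1) := by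
    rw [HomologicalComplex.exactAt_iff' _ n (n + 1) (n + 1 + 1) (by simp) (by simp)]
    exact (ShortComplex.ShortExact.moduleCat_exact_iff_function_exact _).2 h3
  have h5 : IsZero ((((tensorLeft N).mapHomologicalComplex (ComplexShape.up ℤ)).obj F).homology (n + 1)) :=
    (HomologicalComplex.exactAt_iff_isZero_homology _ _).1 h4
  let κ : ((tensorLeft N).mapHomologicalComplex (ComplexShape.up ℤ)).obj F ≅
      ((tensorRight N).mapHomologicalComplex (ComplexShape.up ℤ)).obj F :=
    (NatIso.mapHomologicalComplex (BraidedCategory.tensorLeftIsoTensorRight N) (ComplexShape.up ℤ)).app F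
  exact h5.of_iso ((HomologicalComplex.homologyFunctor _ _ (n + 1)).mapIso κ.symm)

end Ring

section Loc

open TensorProduct

variable {R S : Type u} [CommRing R] [CommRing S] (τ : R →+* S)

theorem counit_bijective (T : Submonoid R) (hT : @IsLocalization R _ T S _ τ.toAlgebra)
    (N : ModuleCat.{u} S) :
    Function.Bijective ((ModuleCat.extendRestrictScalarsAdj τ).counit.app N).hom := by
  letI alg : Algebra R S := τ.toAlgebra
  haveI : IsLocalization T S := hT
  letI m1 : Module R S := Module.compHom S τ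
  letI m2 : Module R N := Module.compHom N τ
  let c : TensorProduct R S N → N := fun x => ((ModuleCat.extendRestrictScalarsAdj τ).counit.app N).hom x
  have hc1 : ∀ n : N, c ((1 : S) ⊗ₜ[R] n) = n :=
    fun n => ModuleCat.extendRestrictScalarsAdj_counit_app_apply_one_tmul τ N n
  have hcs : ∀ (s : S) (n : N), c (s ⊗ₜ[R] n) = s • n := fun s n => rfl
  have hc0 : c 0 = 0 := map_zero ((ModuleCat.extendRestrictScalarsAdj τ).counit.app N).hom
  have hadd : ∀ x y : TensorProduct R S N, c (x + y) = c x + c y :=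
    fun x y => map_add ((ModuleCat.extendRestrictScalarsAdj τ).counit.app N).hom x y
  have key : ∀ x : TensorProduct R S N, x = (1 : S) ⊗ₜ[R] (c x) := by
    intro x
    induction x using TensorProduct.induction_on with
    | zero =>
      rw [hc0]
      exact (tmul_zero _ _).symm
    | tmul s n =>
      rw [hcs]
      obtain ⟨⟨r, t⟩, hs⟩ := IsLocalization.surj T s
      have hu : IsUnit (τ t) := IsLocalization.map_units S t
      obtain ⟨u, hu'⟩ := hu
      obtain ⟨n', hn⟩ : ∃ n' : N, n = τ t • n' :=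
        ⟨(↑u⁻¹ : S) • n, by rw [← hu', smul_smul, Units.mul_inv, one_smul]⟩
      have hn2 : n = (t : R) • n' := hn
      have h1 : s ⊗ₜ[R] n = ((t : R) • s) ⊗ₜ[R] n' := by
        rw [hn2, TensorProduct.smul_tmul]
      have h2 : ((t : R) • s) = (r : R) • (1 : S) := by
        change τ t * s = τ r * 1
        rw [mul_one, mul_comm]
        exact hs
      rw [h1, h2, TensorProduct.smul_tmul]
      congr 1
      change τ r • n' = s • n
      rw [hn, smul_smul]
      congr 1
      exact hs.symm
    | add x y hx hy =>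
      rw [hadd]
      refine Eq.trans ?_ (tmul_add _ _ _).symm
      exact congrArg₂ (· + ·) hx hy
  constructor
  · intro x y hxy
    have hx := key x
    have hy := key y
    rw [hx, hy]
    exact congrArg (fun n => (1 : S) ⊗ₜ[R] n) hxy
  · intro n
    exact ⟨(1 : S) ⊗ₜ[R] n, hc1 n⟩


/-- for a localization `τ : R → S`, every `S`-module `N` is the extension of scalars of its restriction -/
noncomputable def extRestrictIso (T : Submonoid R) (hT : @IsLocalization R _ T S _ τ.toAlgebra)
    (N : ModuleCat.{u} S) :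
    (ModuleCat.extendScalars τ).obj ((ModuleCat.restrictScalars τ).obj N) ≅ N :=
  haveI : IsIso ((ModuleCat.extendRestrictScalarsAdj τ).counit.app N) :=
    (ConcreteCategory.isIso_iff_bijective _).2 (counit_bijective τ T hT N)
  asIso ((ModuleCat.extendRestrictScalarsAdj τ).counit.app N)

end Loc

end Groth.Agent.Lib.TorAmpQCohTest35
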