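import Groth.Agent.Lib.TorAmpQCohTest35
import Groth.Agent.S11132

set_option autoImplicit false
set_option linter.style.haveILetI false
universe u

open CategoryTheory CategoryTheory.Limits Category MonoidalCategory AlgebraicGeometry TensorProduct

attribute [local instance] HasDerivedCategory.standard

/-!
# Tor amplitude is detected by quasi-coherent test modules, geometric part (helper35)
-/

namespace Groth.Agent.Lib.TorAmpQCohTest35

section Geo

open Groth.Agent.Lib.TildeStalk81 Groth.Agent.Lib.TorAmpStalk81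

variable {X : Scheme.{u}} {U : X.Opens} (hU : IsAffineOpen U) (z : Spec Γ(X, U))

/-- inverse of the stalk map of the open immersion `Spec Γ(X,U) ⟶ X` -/
noncomputable def ψinv : (Spec Γ(X, U)).presheaf.stalk z →+* X.presheaf.stalk (hU.fromSpec z) :=
  (inv (hU.fromSpec.stalkMap z)).hom

lemma ψinv_comp : (ψinv hU z).comp (hU.fromSpec.stalkMap z).hom = RingHom.id _ := by
  have h := IsIso.hom_inv_id (hU.fromSpec.stalkMap z)
  exact congrArg CommRingCat.Hom.hom h

variable (N : ModuleCat.{u} (X.presheaf.stalk (hU.fromSpec z)))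

/-- `N` as a module over the local ring of `Spec Γ(X,U)` at `z` -/
noncomputable def Nz : ModuleCat.{u} ((Spec Γ(X, U)).presheaf.stalk z) :=
  (ModuleCat.restrictScalars (ψinv hU z)).obj N

/-- `N` as a `Γ(X,U)`-module -/
noncomputable def Nres : ModuleCat.{u} Γ(X, U) :=
  (ModuleCat.restrictScalars (toStalkHom Γ(X, U) z)).obj (Nz hU z N)

/-- the quasi-coherent test module on `X` with stalk `N` at `j z` -/
noncomputable def testMod : X.Modules :=
  (Scheme.Modules.pushforward hU.fromSpec).obj ((tilde.functor Γ(X, U)).obj (Nres hU z N))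

instance isQuasicoherent_testMod [QuasiSeparatedSpace X] : (testMod hU z N).IsQuasicoherent := by
  haveI : CompactSpace (Spec Γ(X, U)) := inferInstance
  haveI : QuasiCompact hU.fromSpec := inferInstance
  haveI : ((tilde.functor Γ(X, U)).obj (Nres hU z N)).IsQuasicoherent := inferInstance
  exact Groth.Agent.Lib.H90OXModQcqs.isQuasicoherent_pushforward_of_qcqs hU.fromSpec _

lemma isLocalization_toStalkHom (R : CommRingCat.{u}) (x : PrimeSpectrum R) :
    @IsLocalization R _ x.asIdeal.primeCompl ((Spec (.of R)).presheaf.stalk x) _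
      (toStalkHom R x).toAlgebra := by
  exact StructureSheaf.IsLocalization.to_stalk R x

/-- the stalk of the test module at `j z` is `N` -/
noncomputable def testModStalkIso :
    (DerSch.stalkFunctor X (hU.fromSpec z)).obj (testMod hU z N) ≅ N :=
  pushStalkIso hU.fromSpec hU.fromSpec.isOpenEmbedding.isInducing
      ((tilde.functor Γ(X, U)).obj (Nres hU z N)) z ≪≫
    (ModuleCat.restrictScalars (hU.fromSpec.stalkMap z).hom).mapIso
      ((tildeStalkIso Γ(X, U) z).app (Nres hU z N) ≪≫
        extRestrictIso (toStalkHom Γ(X, U) z) _ (isLocalization_toStalkHom Γ(X, U) z) (Nz hU z N)) ≪≫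
    (ModuleCat.restrictScalarsComp'App _ _ _ (ψinv_comp hU z).symm N).symm ≪≫
    ModuleCat.restrictScalarsId'App _ rfl N

end Geo

section Stalk

open Groth.Agent.Lib.StalkTensor81 Groth.Agent.Lib.LTensorMod21 Groth.Agent.Lib.TorAmpStalk81

variable {X : Scheme.{u}}

/-- converse of `isZero_homology_stalk_tensorCxMod`: if `P ⊗ G` is exact in degree `n + 1`, then
`G_x ⊗ P_x^•` is exact in degree `n + 1`. -/
theorem exact_stalk_whiskerLeft (G : X.Modules) (P : CochainComplex X.Modules ℤ) (x : X) (n : ℤ)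
    (h : IsZero (((tensorCxMod G).obj P).homology (n + 1))) :
    Function.Exact
      ((DerSch.stalkFunctor X x).obj G ◁ ((stalkCx x).obj P).d n (n + 1)).hom
      ((DerSch.stalkFunctor X x).obj G ◁ ((stalkCx x).obj P).d (n + 1) (n + 1 + 1)).hom := by
  have h0 := (isZero_homology_iff_stalk _ _).1 h x
  rw [← HomologicalComplex.exactAt_iff_isZero_homology,
    HomologicalComplex.exactAt_iff' _ n (n + 1) (n + 1 + 1) (by simp) (by simp)] at h0
  let S₂ : ShortComplex (ModuleCat.{u} (X.presheaf.stalk x)) :=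
    ShortComplex.mk ((DerSch.stalkFunctor X x).obj G ◁ ((stalkCx x).obj P).d n (n + 1))
      ((DerSch.stalkFunctor X x).obj G ◁ ((stalkCx x).obj P).d (n + 1) (n + 1 + 1))
      (by rw [← MonoidalCategory.whiskerLeft_comp, HomologicalComplex.d_comp_d,
        MonoidalPreadditive.whiskerLeft_zero])
  let S₁ : ShortComplex (ModuleCat.{u} (X.presheaf.stalk x)) :=
    ShortComplex.mk ((DerSch.stalkFunctor X x).map ((DCoh.tensorRightMod G).map (P.d n (n + 1))))
      ((DerSch.stalkFunctor X x).map ((DCoh.tensorRightMod G).map (P.d (n + 1) (n + 1 + 1))))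
      (by rw [← Functor.map_comp, ← Functor.map_comp, HomologicalComplex.d_comp_d, Functor.map_zero,
        Functor.map_zero])
  have c1 := stalkTensorRightIso_naturality x G (P.d n (n + 1))
  have c2 := stalkTensorRightIso_naturality x G (P.d (n + 1) (n + 1 + 1))
  have e : S₁ ≅ S₂ := ShortComplex.isoMk (stalkTensorRightIso x G (P.X n))
    (stalkTensorRightIso x G (P.X (n + 1))) (stalkTensorRightIso x G (P.X (n + 1 + 1)))
    c1.symm c2.symm
  have h1 : S₁.Exact := by
    refine ShortComplex.exact_of_iso ?_ h0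
    exact Iso.refl _
  exact (ShortComplex.ShortExact.moduleCat_exact_iff_function_exact S₂).1
    (ShortComplex.exact_of_iso e h1)

/-- exactness of `A ⊗ C^•` is invariant under isomorphisms of `A` -/
theorem exact_whiskerLeft_of_iso {R : Type u} [CommRing R] {A B : ModuleCat.{u} R} (κ : A ≅ B)
    {C₁ C₂ C₃ : ModuleCat.{u} R} (f : C₁ ⟶ C₂) (g : C₂ ⟶ C₃) (w : f ≫ g = 0)
    (h : Function.Exact (A ◁ f).hom (A ◁ g).hom) : Function.Exact (B ◁ f).hom (B ◁ g).hom := by
  let S₁ : ShortComplex (ModuleCat.{u} R) := ShortComplex.mk (A ◁ f) (A ◁ g)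
    (by rw [← MonoidalCategory.whiskerLeft_comp, w, MonoidalPreadditive.whiskerLeft_zero])
  let S₂ : ShortComplex (ModuleCat.{u} R) := ShortComplex.mk (B ◁ f) (B ◁ g)
    (by rw [← MonoidalCategory.whiskerLeft_comp, w, MonoidalPreadditive.whiskerLeft_zero])
  have e : S₁ ≅ S₂ := ShortComplex.isoMk (whiskerRightIso κ C₁) (whiskerRightIso κ C₂)
    (whiskerRightIso κ C₃) (whisker_exchange κ.hom f).symm (whisker_exchange κ.hom g).symm
  have h1 : S₁.Exact := (ShortComplex.ShortExact.moduleCat_exact_iff_function_exact S₁).2 h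
  exact (ShortComplex.ShortExact.moduleCat_exact_iff_function_exact S₂).1
    (ShortComplex.exact_of_iso e h1)

end Stalk

section Main

open Groth.Agent.Lib.StalkTensor81 Groth.Agent.Lib.LTensorMod21 Groth.Agent.Lib.TorAmpStalk81

/-- **tor amplitude is detected by quasi-coherent test modules** on a quasi-separated scheme -/
theorem hasTorAmplitudeIn_of_qcoh_test (X : Scheme.{u}) [QuasiSeparatedSpace ↥X] (E : DCoh.D X)
    (a b : ℤ)
    (hq : ∀ (F : X.Modules), Coh.IsQCoh F → ∀ [DCoh.HasLTensorMod F] (i : ℤ), (i < a ∨ b < i) →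
      IsZero (DCoh.HD ((DCoh.LTensorMod F).obj E) i)) :
    DCoh.HasTorAmplitudeIn a b E := by
  obtain ⟨F₀, ⟨e₀⟩⟩ : ∃ F₀ : CochainComplex X.Modules ℤ, Nonempty (DCoh.toD X F₀ ≅ E) :=
    ⟨_, ⟨(DerivedCategory.Q.objObjPreimageIso E)⟩⟩
  obtain ⟨P, p, hP, -, hp⟩ := Groth.Agent.Lib.TorAmpTri21.exists_resolution F₀
  haveI := hp
  have e : DCoh.toD X P ≅ E := asIso (DerivedCategory.Q.map p) ≪≫ e₀
  refine Groth.Agent.Lib.TorAmpFlat21.hasTorAmplitudeIn_of_iso e a b
    (hasTorAmplitudeIn_of_hasTorAmplitude_id P a b ?_)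
  intro x
  rw [hasTorAmplitudeAt_id_iff]
  obtain ⟨U, hU, hxU, -⟩ := exists_isAffineOpen_mem_and_subset (x := x) (U := ⊤) trivial
  obtain ⟨z, rfl⟩ : ∃ z : Spec Γ(X, U), hU.fromSpec z = x := by
    have : x ∈ Set.range hU.fromSpec := by
      rw [hU.range_fromSpec]
      exact hxU
    exact this
  have hK : Groth.Agent.Lib.KFlat35.IsKFlat ((stalkCx (hU.fromSpec z)).obj P) :=
    (Groth.Agent.Lib.KFlat35.isKFlat_iff _).2 ((Groth.Agent.S11132.result X P).1 hP _)
  apply hasTorAmplitudeIn_of_exact_whiskerLeft _ hK a b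
  intro N n hn
  haveI := hasLTensorMod (testMod hU z N)
  have h1 := hq (testMod hU z N) (isQuasicoherent_testMod hU z N) (n + 1) hn
  have h2 : IsZero (DCoh.HD ((DCoh.LTensorMod (testMod hU z N)).obj (DCoh.toD X P)) (n + 1)) :=
    h1.of_iso ((DerivedCategory.homologyFunctor X.Modules (n + 1)).mapIso
      ((DCoh.LTensorMod (testMod hU z N)).mapIso e))
  have h3 := h2.of_iso (Groth.Agent.Lib.TorAmp21.HDIso (testMod hU z N) P hP (n + 1)).symm
  have h4 := exact_stalk_whiskerLeft (testMod hU z N) P (hU.fromSpec z) n h3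
  exact exact_whiskerLeft_of_iso (testModStalkIso hU z N) _ _
    (HomologicalComplex.d_comp_d _ _ _ _) h4

end Main

end Groth.Agent.Lib.TorAmpQCohTest35
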