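/-
helper81: `pa_tensor_kflat` (A → B, N K-flat over B with N|_A of flat amplitude [c,d], L of flat amplitude [a,b] over B ⇒ (L ⊗_B N)|_A in [c+a,d+b]);
`lTensorObjIsoLeft E P hP : (- ⊗^L E)(Q P) ≅ Q(P ⊗ E)` for P K-flat (first variable) on schemes / ringed sites;
`hasTorAmplitudeD_lTensor_lpull` (S6240).
-/
import Groth.Agent.Lib.TorAmpTensor81C
import Groth.Agent.Lib.RHomTensor66
import Groth.Agent.Lib.KFlatBaseChange81C

set_option autoImplicit false
set_option linter.style.haveILetI false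
universe u
open CategoryTheory CategoryTheory.Limits Category MonoidalCategory AlgebraicGeometry

attribute [local instance] HasDerivedCategory.standard

namespace Groth.Agent.Lib.TorAmpTensor81

section R2

open Groth.Agent.Lib.KFlat35 DerivedCategory Groth.Agent.Lib.HomTensor25 Groth.Agent.Lib.PCohAmp
  Groth.Agent.Lib.DRingPerfAmp Groth.Agent.Lib.FlatAmp DTen Groth.Agent.Lib.TensorTorAmp54

variable {A B : Type u} [CommRing A] [CommRing B] (φ : A →+* B)

/-- `A → B`, `N` a K-flat complex of `B`-modules with `N|_A` of flat amplitude `[c, d]`, `L` of flat amplitude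
`[a, b]` over `B`: then `(L ⊗_B N)|_A` has flat amplitude `[c + a, d + b]`. -/
theorem pa_tensor_kflat (N : DRing.Cx B) (hN : IsKFlat N) (c d : ℤ)
    (hNA : PA (FL A) c d (Q.obj ((resCx φ).obj N)))
    (L : DRing.Cx B) (a b : ℤ) (hL : PA (FL B) a b (Q.obj L)) :
    PA (FL A) (c + a) (d + b) (Q.obj ((resCx φ).obj (L ⊗ N))) := by
  letI : Algebra A B := φ.toAlgebra
  obtain ⟨E, hEf, hEv, ⟨e⟩⟩ := hL
  have hNA' : PA (FL A) c d ((DRing.restrictD (algebraMap A B)).obj (Q.obj N)) :=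
    pa_of_iso ((resFactors φ).app N).symm hNA
  have h := pa_tensor_flat (R := A) (A := B) N c d a b hNA' E hEv hEf
  obtain ⟨j⟩ := nonempty_Q_tensor_iso hN e
  have iso : Q.obj (N ⊗ E) ≅ Q.obj (L ⊗ N) := Q.mapIso (DTen.braidCx N E) ≪≫ j
  exact pa_of_iso ((DRing.restrictD φ).mapIso iso ≪≫ (resFactors φ).app _) h

end R2

section Site

open Groth.Agent.Lib.LTensorKFlat66 Groth.Agent.Lib.RHomTensor66 Groth.Agent.Lib.ModSiteTensorAssoc66
  Groth.Agent.Lib.ModSiteKFlatQis66 Groth.Agent.Lib.ModSiteKFlatBdd66 Groth.Agent.Lib.ModSiteKFlatRes66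

variable {C : Type u} [SmallCategory C] {J : GrothendieckTopology C} {O : Sheaf J CommRingCat.{u}}

/-- `(- ⊗^L E)(Q P) ≅ Q(P ⊗ E)` for K-flat `P` (first variable), any `E` -/
lemma isIso_Q_map_tensor_resπ (E : Cx O) (P : Cx O) (hP : ModSite.IsKFlat P) :
    IsIso (DerivedCategory.Q.map (HomologicalComplex.mapBifunctorMap (𝟙 P) (resπ E) (ModSite.tensorBi O)
      (ComplexShape.up ℤ))) := by
  have := quasiIso_resπ E
  have := quasiIso_tensor_right P hP (resπ E)
  exact inferInstanceAs (IsIso (DerivedCategory.Q.map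
    (HomologicalComplex.mapBifunctorMap (𝟙 P) (resπ E) (ModSite.tensorBi O) (ComplexShape.up ℤ))))

noncomputable def lTensorObjIsoLeft' (E : Cx O) [ModSite.HasLTensorCx E] (P : Cx O)
    (hP : ModSite.IsKFlat P) :
    (ModSite.LTensorCx E).obj (DerivedCategory.Q.obj P) ≅ DerivedCategory.Q.obj (T P E) :=
  haveI := quasiIso_resπ E
  (lTensorIso (resπ E) (isKFlat_res E)).app (DerivedCategory.Q.obj P) ≪≫
    (Localization.Lifting.iso DerivedCategory.Q (Wq O) (ModSite.tensorCxQ (res E))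
      (tensD (res E) (isKFlat_res E))).app P ≪≫
    @asIso _ _ _ _ _ (isIso_Q_map_tensor_resπ E P hP)

end Site

/-- `(- ⊗^L E)(Q P) ≅ Q(P ⊗ E)` for K-flat `P` (first variable), any `E` -/
noncomputable def lTensorObjIsoLeft {X : Scheme.{u}} (E : CochainComplex X.Modules ℤ)
    [DCoh.HasLTensorCx E] (P : CochainComplex X.Modules ℤ) (hP : DCoh.IsKFlat P) :
    (DCoh.LTensorCx E).obj (DCoh.toD X P) ≅ DCoh.toD X ((DCoh.tensorCx.obj P).obj E) :=
  @lTensorObjIsoLeft' _ _ _ X.sheaf E ‹_› P hP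


section Main2

open Groth.Agent.Lib.StalkTensor81 Groth.Agent.Lib.TorAmpStalk81 DerivedCategory DTen
  Groth.Agent.Lib.PCohAmp Groth.Agent.Lib.DRingPerfAmp Groth.Agent.Lib.FlatAmp
  Groth.Agent.Lib.LpullKFlat35 Groth.Agent.Lib.LpullHyp35 Groth.Agent.Lib.HomTensor25

variable {X Y Z : Scheme.{u}}

/-- **SGA6 III 3.x, case of schemes** (S6240) -/
theorem hasTorAmplitudeD_lTensor_lpull (f : X ⟶ Y) (g : Y ⟶ Z) (F : CochainComplex X.Modules ℤ)
    (a b : ℤ) (hF : DerSch.HasTorAmplitude f a b F) (G : CochainComplex Y.Modules ℤ) (c d : ℤ)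
    (hG : DerSch.HasTorAmplitude g c d G) [DCoh.HasLpull f] [DCoh.HasLTensorCx F] :
    DerSch.HasTorAmplitudeD (f ≫ g) (a + c) (b + d)
      ((DCoh.LTensorCx F).obj ((DCoh.Lpull f).obj (DCoh.toD Y G))) := by
  intro F' ⟨e0⟩ x
  obtain ⟨P, p, hP, -, hp⟩ := Groth.Agent.Lib.TorAmpTri21.exists_resolution G
  haveI := hp
  let e1 : DCoh.toD Y P ≅ DCoh.toD Y G := asIso (Q.map p)
  have hfP : DCoh.IsKFlat ((pullCx f).obj P) := kflatHyp f P hP
  let e3 : DCoh.toD X F' ≅ DCoh.toD X ((DCoh.tensorCx.obj ((pullCx f).obj P)).obj F) :=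
    e0 ≪≫ (DCoh.LTensorCx F).mapIso ((DCoh.Lpull f).mapIso e1.symm ≪≫ lpullIso (acycHyp f) P hP) ≪≫
      lTensorObjIsoLeft F _ hfP
  let N := (stalkCx (f.base x)).obj P
  let Fx := (stalkCx x).obj F
  let M : DRing.Cx (X.presheaf.stalk x) := (extCx (f.stalkMap x).hom).obj N ⊗ Fx
  let eM : DRing.toD ((stalkCx x).obj F') ≅ Q.obj M :=
    Groth.Agent.Lib.TorAmpStalk81.stalkDIso x e3 ≪≫
      Q.mapIso (stalkTensorCxIso x _ F ≪≫ whiskerRightIso (stalkPullCxIso f x P) Fx)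
  have hN : Groth.Agent.Lib.KFlat35.IsKFlat N := isKFlat_stalk hP (f.base x)
  have hNA : PA (FL _) c d (Q.obj ((resCx (g.stalkMap (f.base x)).hom).obj N)) := by
    have h1 := hG (f.base x)
    rw [DerSch.HasTorAmplitudeAt, hasTorAmplitudeIn_iff_pa] at h1
    have e4 : DRing.toD ((stalkCx (f.base x)).obj G) ≅ Q.obj N :=
      (Groth.Agent.Lib.TorAmpStalk81.stalkDIso (f.base x) e1).symm
    exact pa_of_iso (stalkOverDIso g (f.base x) G N e4) h1
  have hL : PA (FL _) a b (Q.obj ((resCx (f.stalkMap x).hom).obj Fx)) := by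
    have h1 := hF x
    rw [DerSch.HasTorAmplitudeAt, hasTorAmplitudeIn_iff_pa] at h1
    exact pa_of_iso (Q.mapIso (stalkCxOverIso f x F)) h1
  have key := pa_tensor_kflat (g.stalkMap (f.base x)).hom N hN c d hNA
    ((resCx (f.stalkMap x).hom).obj Fx) a b hL
  have iso : (resCx (f.stalkMap x).hom).obj M ≅ (resCx (f.stalkMap x).hom).obj Fx ⊗ N :=
    (resCx (f.stalkMap x).hom).mapIso (DTen.braidCx _ _) ≪≫
      (Groth.Agent.Lib.ProjFormula35.pfIso (f.stalkMap x).hom Fx N).symm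
  rw [DerSch.HasTorAmplitudeAt, hasTorAmplitudeIn_iff_pa]
  exact pa_of_iso (Q.mapIso ((resCx (g.stalkMap (f.base x)).hom).mapIso iso.symm) ≪≫
    (stalkOverCompDIso f g x F' M eM).symm) (pa_mono (by lia) (by lia) key)

end Main2

end Groth.Agent.Lib.TorAmpTensor81
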