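/-
helper81: `hasTorAmplitudeIn_of_extCx_faithfullyFlat` (faithfully flat descent of tor amplitude, ring level, via helper47 H47TorCrit/H47TorLoc);
`hasFlatAmplitudeIn_of_lpull_flat_surjective` (S7244: flat surjective descent of absolute flat amplitude on schemes).
-/
import Groth.Agent.Lib.TorAmpTensor81E
import Groth.Agent.Lib.H47TorCrit
import Groth.Agent.Lib.H47TorLoc

set_option autoImplicit false
set_option linter.style.haveILetI false
universe u
open CategoryTheory CategoryTheory.Limits Category MonoidalCategory AlgebraicGeometry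

attribute [local instance] HasDerivedCategory.standard

namespace Groth.Agent.Lib.TorAmpTensor81

section FFDescent

open DTen DerivedCategory Groth.Agent.Lib.HomTensor25

variable {B C : Type u} [CommRing B] [CommRing C] [Algebra B C] [Module.FaithfullyFlat B C]

/-- faithfully flat descent of tor amplitude: `C ⊗_B N` of tor amplitude `[a,b]` over `C` ⇒ `N` of tor amplitude `[a,b]` over `B` -/
theorem hasTorAmplitudeIn_of_extCx_faithfullyFlat (N : DRing.Cx B) (a b : ℤ)
    (h : DRing.HasTorAmplitudeIn C a b (DRing.toD ((extCx (algebraMap B C)).obj N))) :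
    DRing.HasTorAmplitudeIn B a b (DRing.toD N) := by
  refine Groth.Agent.Lib.H47TorCrit.hasTorAmplitudeIn_of_isZero_homology N a b (fun M => ?_)
  obtain ⟨M', π, -, hM', -, hπ, -⟩ :=
    Groth.Agent.Lib.SemiFreeKProj35.exists_kprojective_resolution (sg M)
  haveI := hπ
  refine ⟨M', π, hπ, hM', fun i hi => ?_⟩
  rw [← Groth.Agent.Lib.H47TorCrit.isZero_homology_extCx_iff (A := B) (B := C)]
  have e := asIso (Groth.Agent.Lib.RHomBC35.ν (algebraMap B C) N M')
  refine IsZero.of_iso ?_ ((HomologicalComplex.homologyFunctor _ _ i).mapIso e)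
  haveI := Groth.Agent.Lib.H47TorLoc.quasiIso_extπ (A' := C) M π
  exact Groth.Agent.Lib.H47TorCrit.isZero_homology_of_hasTorAmplitudeIn _ a b h _
    (Groth.Agent.Lib.H47TorLoc.extπ (A' := C) M π)
    (Groth.Agent.Lib.ProjFormula35.isKFlat_extCx _ _ hM') i hi

end FFDescent

section Sch

open Groth.Agent.Lib.StalkTensor81 Groth.Agent.Lib.TorAmpStalk81 DerivedCategory DTen
  Groth.Agent.Lib.LpullKFlat35 Groth.Agent.Lib.LpullHyp35

variable {X Y : Scheme.{u}}

/-- S7244: flat surjective descent of (absolute) flat amplitude -/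
theorem hasFlatAmplitudeIn_of_lpull_flat_surjective (f : X ⟶ Y) [Flat f] [Surjective f]
    [DCoh.HasLpull f] (E : DCoh.D Y) (a b : ℤ)
    (h : DCoh.HasFlatAmplitudeIn a b ((DCoh.Lpull f).obj E)) :
    DCoh.HasFlatAmplitudeIn a b E := by
  let G : CochainComplex Y.Modules ℤ := Q.objPreimage E
  let eG : DCoh.toD Y G ≅ E := Q.objObjPreimageIso E
  obtain ⟨P, p, hP, -, hp⟩ := Groth.Agent.Lib.TorAmpTri21.exists_resolution G
  haveI := hp
  let e1 : DCoh.toD Y P ≅ E := asIso (Q.map p) ≪≫ eG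
  let e2 : (DCoh.Lpull f).obj E ≅ DCoh.toD X ((pullCx f).obj P) :=
    (DCoh.Lpull f).mapIso e1.symm ≪≫ lpullIso (acycHyp f) P hP
  have h2 : DCoh.HasFlatAmplitudeIn a b (DCoh.toD X ((pullCx f).obj P)) := by
    obtain ⟨E', h1, h2, ⟨e⟩⟩ := h
    exact ⟨E', h1, h2, ⟨e ≪≫ e2⟩⟩
  have h3 := (hasFlatAmplitudeIn_iff_hasTorAmplitude_id _ a b).1 h2
  have h4 : DerSch.HasTorAmplitude (𝟙 Y) a b P := by
    intro y
    obtain ⟨x, rfl⟩ := f.surjective y
    rw [hasTorAmplitudeAt_id_iff]
    have h5 := (hasTorAmplitudeAt_id_iff x _ a b).1 (h3 x)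
    have h6 := Groth.Agent.Lib.TorAmpBasic21.hasTorAmplitudeIn_of_iso _
      (Q.mapIso (stalkPullCxIso f x P)) h5
    letI : Algebra (Y.presheaf.stalk (f.base x)) (X.presheaf.stalk x) := (f.stalkMap x).hom.toAlgebra
    haveI : Module.Flat (Y.presheaf.stalk (f.base x)) (X.presheaf.stalk x) := Flat.stalkMap f x
    haveI : IsLocalHom (algebraMap (Y.presheaf.stalk (f.base x)) (X.presheaf.stalk x)) :=
      inferInstanceAs (IsLocalHom (f.stalkMap x).hom)
    haveI : Module.FaithfullyFlat (Y.presheaf.stalk (f.base x)) (X.presheaf.stalk x) :=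
      Module.FaithfullyFlat.of_flat_of_isLocalHom
    exact hasTorAmplitudeIn_of_extCx_faithfullyFlat _ a b h6
  obtain ⟨E', h1, h2', ⟨e⟩⟩ := (hasFlatAmplitudeIn_iff_hasTorAmplitude_id P a b).2 h4
  exact ⟨E', h1, h2', ⟨e ≪≫ e1⟩⟩

end Sch

end Groth.Agent.Lib.TorAmpTensor81
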