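import Groth.Agent.Lib.TorAmpRestrict21
import Groth.Agent.Lib.FlatAmp4
import Groth.Agent.Lib.TorAmpBasic21
import Groth.Agent.Lib.WeaklyEtaleFlat61
import Groth.Agent.Lib.FlatBaseChangeD

/-!
# Tor amplitude along weakly étale ring maps (helper21)

For a weakly étale ring map `A → B` and `K ∈ D(B)`:
`K|_A` has tor amplitude in `[a, b]` over `A` iff `K` has tor amplitude in `[a, b]` over `B`.

* `flat_restrictScalars`: flat over `B`, `B` flat over `A` ⇒ flat over `A`.
* `flat_of_flat_restrictScalars`: `A → B` weakly étale, `N|_A` flat over `A` ⇒ `N` flat over `B`.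
* `opcyclesRestrictIso`: opcycles commute with restriction of scalars.
* `hasTorAmplitudeIn_restrictD_of_flat`, `hasTorAmplitudeIn_of_restrictD`, `hasTorAmplitudeIn_restrictD_iff`.
-/

set_option autoImplicit false
universe u

open CategoryTheory CategoryTheory.Limits TensorProduct

attribute [local instance] HasDerivedCategory.standard

namespace Groth.Agent.Lib.TorAmpWEt21

open Groth.Agent.Lib.PCohAmp Groth.Agent.Lib.DRingPerfAmp Groth.Agent.Lib.FlatAmp
  Groth.Agent.Lib.FlatBaseChangeD

variable {A B : Type u} [CommRing A] [CommRing B] [Algebra A B]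

lemma flat_restrictScalars [Module.Flat A B] (N : ModuleCat.{u} B) [Module.Flat B N] :
    Module.Flat A ((ModuleCat.restrictScalars.{u} (algebraMap A B)).obj N) := by
  letI : Module A N := Module.compHom N (algebraMap A B)
  haveI : IsScalarTower A B N := IsScalarTower.of_algebraMap_smul fun r x => rfl
  exact Module.Flat.trans A B N

lemma flat_of_flat_restrictScalars [Algebra.WeaklyEtale A B] (N : ModuleCat.{u} B)
    (h : Module.Flat A ((ModuleCat.restrictScalars.{u} (algebraMap A B)).obj N)) :
    Module.Flat B N := by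
  letI : Module A N := Module.compHom N (algebraMap A B)
  haveI : IsScalarTower A B N := IsScalarTower.of_algebraMap_smul fun r x => rfl
  haveI : Module.Flat A N := h
  exact Groth.Agent.Lib.WeaklyEtaleFlat61.flat_of_weaklyEtale A B N

lemma isZero_of_isZero_restrictScalars (N : ModuleCat.{u} B)
    (h : IsZero ((ModuleCat.restrictScalars.{u} (algebraMap A B)).obj N)) : IsZero N := by
  have : Subsingleton ((ModuleCat.restrictScalars.{u} (algebraMap A B)).obj N) :=
    ModuleCat.subsingleton_of_isZero h
  have : Subsingleton N := this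
  exact ModuleCat.isZero_of_subsingleton _

/-- opcycles commute with restriction of scalars -/
noncomputable def opcyclesRestrictIso (E : DRing.Cx B) (i : ℤ) :
    ((DRing.restrictCx (algebraMap A B)).obj E).opcycles i ≅
      (ModuleCat.restrictScalars.{u} (algebraMap A B)).obj (E.opcycles i) :=
  (E.sc i).mapOpcyclesIso (ModuleCat.restrictScalars.{u} (algebraMap A B))

/-- homology of `K|_A` -/
noncomputable def homologyRestrictIso (K : Dual.D B) (i : ℤ) :
    (DerivedCategory.homologyFunctor (ModuleCat.{u} A) i).obj
        ((DRing.restrictD (algebraMap A B)).obj K) ≅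
      (ModuleCat.restrictScalars.{u} (algebraMap A B)).obj
        ((DerivedCategory.homologyFunctor (ModuleCat.{u} B) i).obj K) :=
  (mapDerivedCategoryHomologyIso (ModuleCat.restrictScalars.{u} (algebraMap A B)) i).app K

/-- `(Q E)|_A ≅ Q (E|_A)` -/
noncomputable def restrictDQIso (E : DRing.Cx B) :
    (DRing.restrictD (algebraMap A B)).obj (DerivedCategory.Q.obj E) ≅
      DerivedCategory.Q.obj ((DRing.restrictCx (algebraMap A B)).obj E) :=
  ((ModuleCat.restrictScalars.{u} (algebraMap A B)).mapDerivedCategoryFactors).app E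

/-- flat case: tor amplitude is preserved by restriction along a flat map -/
theorem hasTorAmplitudeIn_restrictD_of_flat [Module.Flat A B] (K : Dual.D B) (a b : ℤ)
    (hK : DRing.HasTorAmplitudeIn B a b K) :
    DRing.HasTorAmplitudeIn A a b ((DRing.restrictD (algebraMap A B)).obj K) := by
  obtain ⟨F, h1, h2, ⟨e⟩⟩ := hK
  refine ⟨(DRing.restrictCx (algebraMap A B)).obj F, fun i hi => ?_, fun i => ?_, ⟨?_⟩⟩
  · exact (ModuleCat.restrictScalars.{u} (algebraMap A B)).map_isZero (h1 i hi)
  · have : Module.Flat B (F.X i) := h2 i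
    exact flat_restrictScalars (F.X i)
  · exact (restrictDQIso F).symm ≪≫ (DRing.restrictD (algebraMap A B)).mapIso e

/-- weakly étale case: tor amplitude descends -/
theorem hasTorAmplitudeIn_of_restrictD [Algebra.WeaklyEtale A B] (K : Dual.D B) (a b : ℤ)
    (hK : DRing.HasTorAmplitudeIn A a b ((DRing.restrictD (algebraMap A B)).obj K)) :
    DRing.HasTorAmplitudeIn B a b K := by
  have hpa := (hasTorAmplitudeIn_iff_pa A a b _).1 hK
  -- cohomology of `K` vanishes outside `[a, b]`
  have hH : ∀ i : ℤ, i < a ∨ b < i →
      IsZero ((DerivedCategory.homologyFunctor (ModuleCat.{u} B) i).obj K) := fun i hi =>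
    isZero_of_isZero_restrictScalars _
      ((isZero_homology_of_pa hpa i hi).of_iso (homologyRestrictIso K i).symm)
  by_cases hab : a ≤ b
  · obtain ⟨E, ⟨⟨c, hc⟩, hE⟩, ⟨e⟩⟩ := exists_pr_rep B K b (fun i hi => hH i (Or.inr hi)) a
    rw [hasTorAmplitudeIn_iff_pa]
    refine pa_of_iso e ?_
    have hexact : ∀ i : ℤ, i < a ∨ b < i → E.ExactAt i := fun i hi => by
      rw [HomologicalComplex.exactAt_iff_isZero_homology]
      exact (hH i hi).of_iso (((DerivedCategory.homologyFunctorFactors _ i).app E).symm ≪≫
        (DerivedCategory.homologyFunctor _ i).mapIso e)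
    have hflat : ∀ i : ℤ, a < i → FL B (E.X i) := fun i hi => by
      have : Module.Projective B (E.X i) := hE i hi.le
      change Module.Flat B (E.X i)
      infer_instance
    refine pa_fl_of_opcycles B E a b c hab hflat hc ?_ (fun i hi => hexact i (Or.inl hi))
      (fun i hi => hexact i (Or.inr hi))
    -- the key point
    have h1 : PA (FL A) a b (DerivedCategory.Q.obj ((DRing.restrictCx (algebraMap A B)).obj E)) :=
      pa_of_iso ((DRing.restrictD (algebraMap A B)).mapIso e.symm ≪≫ restrictDQIso E) hpa
    have h2 : FL A (((DRing.restrictCx (algebraMap A B)).obj E).opcycles a) := by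
      refine fl_opcycles_of_pa A _ a b c (fun i hi => ?_) (fun i hi => ?_) h1
      · have : Module.Flat B (E.X i) := hflat i hi
        exact flat_restrictScalars (E.X i)
      · exact (ModuleCat.restrictScalars.{u} (algebraMap A B)).map_isZero (hc i hi)
    have h3 : Module.Flat A ((ModuleCat.restrictScalars.{u} (algebraMap A B)).obj (E.opcycles a)) :=
      (FL A).prop_of_iso (opcyclesRestrictIso E a) h2
    exact flat_of_flat_restrictScalars _ h3
  · -- `K = 0`
    have hz : IsZero K := by
      have h1 : K.IsLE 0 := by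
        rw [DerivedCategory.isLE_iff]
        exact fun i _ => hH i (by lia)
      have h2 : K.IsGE 1 := by
        rw [DerivedCategory.isGE_iff]
        exact fun i _ => hH i (by lia)
      exact DerivedCategory.TStructure.t.isZero K 0 1 (by lia)
    exact Groth.Agent.Lib.TorAmpBasic21.hasTorAmplitudeIn_of_isZero B a b hz

theorem hasTorAmplitudeIn_restrictD_iff [Algebra.WeaklyEtale A B] (K : Dual.D B) (a b : ℤ) :
    DRing.HasTorAmplitudeIn A a b ((DRing.restrictD (algebraMap A B)).obj K) ↔
      DRing.HasTorAmplitudeIn B a b K :=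
  ⟨hasTorAmplitudeIn_of_restrictD K a b, hasTorAmplitudeIn_restrictD_of_flat K a b⟩

end Groth.Agent.Lib.TorAmpWEt21
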