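import Mathlib
import Groth.Agent.Lib.FlatCrit

/-!
# Surjectivity of `Tor₁^R(R/I, M) ⊗ P → Tor₁(P/IP, M)` when `M/IM` is flat over `R/I`

Elementwise form (Stacks 10.99.7): the kernel of `IP ⊗ M → P ⊗ M` is generated by the images of
the kernel `K` of `I ⊗ M → M` under the maps `a ⊗ m ↦ a p ⊗ m`.
-/

set_option autoImplicit false
universe u

namespace Groth.Agent.Lib.TorBaseChange22

open TensorProduct Function

section A1

variable {R : Type u} [CommRing R] (I : Ideal R) (M : Type u) [AddCommGroup M] [Module R M]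
  (P : Type u) [AddCommGroup P] [Module R P]

variable {P} (IP : Submodule R P) (hIP : (I • (⊤ : Submodule R P) : Submodule R P) ≤ IP)

/-- `a ↦ a • p` as a map `I → IP` (for a submodule `IP ⊇ I • ⊤`). -/
def toIP (p : P) : I →ₗ[R] IP where
  toFun a := ⟨(a : R) • p, hIP (Submodule.smul_mem_smul a.2 trivial)⟩
  map_add' a b := by ext; simp [add_smul]
  map_smul' r a := by ext; simp [mul_smul]

/-- The multiplication map `μ_p : I ⊗ M → IP ⊗ M`. -/
noncomputable def mu (p : P) : I ⊗[R] M →ₗ[R] IP ⊗[R] M :=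
  (toIP I IP hIP p).rTensor M

@[simp]
theorem mu_tmul (p : P) (a : I) (m : M) :
    mu I M IP hIP p (a ⊗ₜ m) =
      (⟨(a : R) • p, hIP (Submodule.smul_mem_smul a.2 trivial)⟩ : IP) ⊗ₜ[R] m := rfl

section Free

variable {R : Type u} [CommRing R] (I : Ideal R) (P : Type u)

theorem mapRange_mem_smul_top (φ : P →₀ I) :
    Finsupp.mapRange.linearMap I.subtype φ ∈ (I • (⊤ : Submodule R (P →₀ R)) : Submodule R _) := by
  induction φ using Finsupp.induction_linear with
  | zero => simp
  | add f g hf hg => rw [map_add]; exact Submodule.add_mem _ hf hg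
  | single b a =>
    have : Finsupp.mapRange.linearMap I.subtype (Finsupp.single b a) =
        (a : R) • (Finsupp.single b (1 : R) : P →₀ R) := by
      rw [Finsupp.mapRange.linearMap_apply, Finsupp.mapRange_single, Finsupp.smul_single,
        smul_eq_mul, mul_one]
      rfl
    rw [this]
    exact Submodule.smul_mem_smul a.2 trivial

/-- `(P →₀ I) → I • (P →₀ R)`. -/
noncomputable def tau : (P →₀ I) →ₗ[R] (I • (⊤ : Submodule R (P →₀ R)) : Submodule R _) :=
  (Finsupp.mapRange.linearMap I.subtype).codRestrict _ (mapRange_mem_smul_top I P)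

theorem tau_surjective : Surjective (tau I P) := by
  rintro ⟨ψ, hψ⟩
  have key : ∀ ψ ∈ (I • (⊤ : Submodule R (P →₀ R)) : Submodule R _),
      ∃ φ : P →₀ I, Finsupp.mapRange.linearMap I.subtype φ = ψ := by
    intro ψ hψ
    refine Submodule.smul_induction_on hψ ?_ ?_
    · intro a ha χ _
      refine ⟨Finsupp.mapRange (fun r => (⟨a * r, I.mul_mem_right r ha⟩ : I)) (by ext; simp) χ, ?_⟩
      ext b
      simp
    · rintro x y ⟨x', hx'⟩ ⟨y', hy'⟩
      exact ⟨x' + y', by rw [map_add, hx', hy']⟩
  obtain ⟨φ, hφ⟩ := key ψ hψ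
  exact ⟨φ, Subtype.ext hφ⟩

end Free

section Steps

variable {R : Type u} [CommRing R] (M : Type u) [AddCommGroup M] [Module R M]
  {F P : Type u} [AddCommGroup F] [Module R F] [AddCommGroup P] [Module R P]

/-- Steps 1–2: lifting a kernel element along a surjection. -/
theorem exists_lift_ker (pr : F →ₗ[R] P) (hpr : Surjective pr) (IP : Submodule R P)
    (x : IP ⊗[R] M) (hx : (IP.subtype.rTensor M) x = 0) :
    ∃ z' : (IP.comap pr : Submodule R F) ⊗[R] M,
      ((IP.comap pr).subtype.rTensor M) z' = 0 ∧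
      ((pr.restrict (fun z (hz : z ∈ IP.comap pr) => hz)).rTensor M) z' = x := by
  have hpZ : Surjective (pr.restrict (fun z (hz : z ∈ IP.comap pr) => hz)) := by
    rintro ⟨y, hy⟩
    obtain ⟨φ, rfl⟩ := hpr y
    exact ⟨⟨φ, hy⟩, rfl⟩
  obtain ⟨z, rfl⟩ := LinearMap.rTensor_surjective M hpZ x
  have hsq : IP.subtype ∘ₗ (pr.restrict (fun z (hz : z ∈ IP.comap pr) => hz)) =
      pr ∘ₗ (IP.comap pr).subtype := rfl
  have h2 : (pr.rTensor M) (((IP.comap pr).subtype.rTensor M) z) = 0 := by
    rw [← LinearMap.comp_apply, ← LinearMap.rTensor_comp, ← hsq, LinearMap.rTensor_comp,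
      LinearMap.comp_apply]
    exact hx
  have hex : Exact ((LinearMap.ker pr).subtype.rTensor M) (pr.rTensor M) :=
    (@rTensor_exact R (LinearMap.ker pr) F P _ _ _ _ _ _ _ (LinearMap.ker pr).subtype pr
      M _ _) (LinearMap.exact_subtype_ker_map pr) hpr
  obtain ⟨v, hv⟩ := (hex _).mp h2
  have hle : LinearMap.ker pr ≤ IP.comap pr := by
    intro φ hφ
    change pr φ ∈ IP
    rw [LinearMap.mem_ker.mp hφ]
    exact zero_mem _
  have hj1 : (IP.comap pr).subtype ∘ₗ (Submodule.inclusion hle) = (LinearMap.ker pr).subtype := rfl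
  have hj2 : (pr.restrict (fun z (hz : z ∈ IP.comap pr) => hz)) ∘ₗ (Submodule.inclusion hle) = 0 := by
    ext φ
    exact LinearMap.mem_ker.mp φ.2
  refine ⟨z - ((Submodule.inclusion hle).rTensor M) v, ?_, ?_⟩
  · rw [map_sub, ← LinearMap.comp_apply, ← LinearMap.rTensor_comp, hj1, hv, sub_self]
  · rw [map_sub, ← LinearMap.comp_apply, ← LinearMap.rTensor_comp, hj2, LinearMap.rTensor_zero,
      LinearMap.zero_apply, sub_zero]

/-- Step 3: a kernel element of `Z ⊗ M → F ⊗ M` comes from `IF ⊗ M` when `M/IM` is flat over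
`R/I` and `IF ≤ Z`. -/
theorem exists_lift_smul_top (I : Ideal R) [Module.Flat (R ⧸ I) ((R ⧸ I) ⊗[R] M)]
    (Z : Submodule R F) (hle : (I • (⊤ : Submodule R F) : Submodule R F) ≤ Z)
    (z' : Z ⊗[R] M) (hz' : (Z.subtype.rTensor M) z' = 0) :
    ∃ w : (I • (⊤ : Submodule R F) : Submodule R F) ⊗[R] M,
      ((Submodule.inclusion hle).rTensor M) w = z' := by
  -- the quotients
  have htors : Module.IsTorsionBySet R
      (Z ⧸ ((I • (⊤ : Submodule R F) : Submodule R F).comap Z.subtype)) I := by
    rw [Module.isTorsionBySet_quotient_iff]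
    intro z a ha
    change ((a • z : Z) : F) ∈ (I • (⊤ : Submodule R F) : Submodule R F)
    rw [Submodule.coe_smul]
    exact Submodule.smul_mem_smul ha trivial
  let _ := htors.module
  let f₀ : (Z ⧸ ((I • (⊤ : Submodule R F) : Submodule R F).comap Z.subtype)) →ₗ[R]
      (F ⧸ (I • (⊤ : Submodule R F) : Submodule R F)) :=
    Submodule.mapQ _ _ Z.subtype le_rfl
  have hf₀ : Injective f₀ := by
    rw [injective_iff_map_eq_zero]
    intro q hq
    obtain ⟨z, rfl⟩ := Submodule.mkQ_surjective _ q
    change Submodule.Quotient.mk (z : F) = 0 at hq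
    rw [Submodule.Quotient.mk_eq_zero] at hq
    exact (Submodule.Quotient.mk_eq_zero _).mpr hq
  let f : (Z ⧸ ((I • (⊤ : Submodule R F) : Submodule R F).comap Z.subtype)) →ₗ[R ⧸ I]
      (F ⧸ (I • (⊤ : Submodule R F) : Submodule R F)) :=
    f₀.extendScalarsOfSurjective Ideal.Quotient.mk_surjective
  have hf : Injective (f.rTensor ((R ⧸ I) ⊗[R] M)) :=
    Module.Flat.rTensor_preserves_injective_linearMap f hf₀
  have hf' : Injective ((f.restrictScalars R).rTensor M) :=
    Groth.Agent.Lib.FlatCrit.rTensor_injective_restrictScalars_of (R ⧸ I) f hf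
  have hfr : f.restrictScalars R = f₀ := rfl
  rw [hfr] at hf'
  -- exactness
  have hex : Exact ((Submodule.inclusion hle).rTensor M)
      ((((I • (⊤ : Submodule R F) : Submodule R F).comap Z.subtype).mkQ).rTensor M) := by
    refine (@rTensor_exact R _ Z _ _ _ _ _ _ _ _ (Submodule.inclusion hle)
      (((I • (⊤ : Submodule R F) : Submodule R F).comap Z.subtype).mkQ) M _ _) ?_
      (Submodule.mkQ_surjective _)
    intro z
    rw [← LinearMap.mem_ker, Submodule.ker_mkQ]
    constructor
    · intro hz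
      exact ⟨⟨z.1, hz⟩, rfl⟩
    · rintro ⟨w, rfl⟩
      exact w.2
  apply (hex z').mp
  apply hf'
  rw [map_zero, ← LinearMap.comp_apply, ← LinearMap.rTensor_comp]
  have : f₀ ∘ₗ ((I • (⊤ : Submodule R F) : Submodule R F).comap Z.subtype).mkQ =
      (I • (⊤ : Submodule R F) : Submodule R F).mkQ ∘ₗ Z.subtype := rfl
  rw [this, LinearMap.rTensor_comp, LinearMap.comp_apply, hz', map_zero]

end Steps

section Main

variable {R : Type u} [CommRing R] (I : Ideal R) (M : Type u) [AddCommGroup M] [Module R M]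
  {P : Type u} [AddCommGroup P] [Module R P]
  (IP : Submodule R P) (hIP : (I • (⊤ : Submodule R P) : Submodule R P) ≤ IP)

/-- The generating set: images of the kernel of `I ⊗ M → M` under the `μ_p`. -/
def gens : Set (IP ⊗[R] M) :=
  {y | ∃ (p : P) (k : I ⊗[R] M), I.subtype.rTensor M k = 0 ∧ y = mu I M IP hIP p k}

omit [AddCommGroup P] [Module R P] in
theorem finsuppLeft_symm_single [DecidableEq P] (b : P) (t : I ⊗[R] M) :
    (finsuppLeft R R I M P).symm (Finsupp.single b t) =
      ((Finsupp.lsingle b : I →ₗ[R] (P →₀ I)).rTensor M) t := by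
  induction t with
  | zero => simp
  | tmul a m => simp
  | add x y hx hy => rw [Finsupp.single_add, map_add, map_add, hx, hy]

/-- Step 4: the free case. -/
theorem step4 (hle : (I • (⊤ : Submodule R (P →₀ R)) : Submodule R _) ≤
      IP.comap (Finsupp.linearCombination R id))
    (w : (I • (⊤ : Submodule R (P →₀ R)) : Submodule R _) ⊗[R] M)
    (hw : ((I • (⊤ : Submodule R (P →₀ R)) : Submodule R _).subtype.rTensor M) w = 0) :
    ((((Finsupp.linearCombination R id : (P →₀ R) →ₗ[R] P).restrict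
      (fun z (hz : z ∈ IP.comap (Finsupp.linearCombination R id)) => hz)) ∘ₗ
        (Submodule.inclusion hle)).rTensor M) w ∈
      Submodule.span R (gens I M IP hIP) := by
  classical
  obtain ⟨w₁, rfl⟩ := LinearMap.rTensor_surjective M (tau_surjective I P) w
  set g₀ := finsuppLeft R R I M P w₁ with hg₀
  have hk : ∀ b, (I.subtype.rTensor M) (g₀ b) = 0 := by
    intro b
    rw [hg₀, finsuppLeft_apply, ← LinearMap.comp_apply, ← LinearMap.rTensor_comp]
    have h1 : I.subtype ∘ₗ (Finsupp.lapply b : (P →₀ I) →ₗ[R] I) =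
        (Finsupp.lapply b : (P →₀ R) →ₗ[R] R) ∘ₗ
          (I • (⊤ : Submodule R (P →₀ R)) : Submodule R _).subtype ∘ₗ tau I P := by
      ext φ x
      simp only [LinearMap.coe_comp, Submodule.coe_subtype, comp_apply, Finsupp.lsingle_apply,
        Finsupp.lapply_apply, tau, LinearMap.codRestrict_apply,
        Finsupp.mapRange.linearMap_apply, Finsupp.mapRange_single]
      by_cases h : φ = b
      · subst h; simp
      · rw [Finsupp.single_eq_of_ne' h, Finsupp.single_eq_of_ne' h]; rfl
    rw [h1, LinearMap.rTensor_comp, LinearMap.rTensor_comp, LinearMap.comp_apply,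
      LinearMap.comp_apply, hw, map_zero]
  have hw₁ : w₁ = g₀.sum (fun b t => ((Finsupp.lsingle b : I →ₗ[R] (P →₀ I)).rTensor M) t) := by
    have : w₁ = (finsuppLeft R R I M P).symm g₀ := by simp [hg₀]
    rw [this]
    conv_lhs => rw [← Finsupp.sum_single g₀]
    rw [Finsupp.sum, map_sum, Finsupp.sum]
    refine Finset.sum_congr rfl fun b _ => ?_
    exact finsuppLeft_symm_single I M b (g₀ b)
  rw [← LinearMap.comp_apply, ← LinearMap.rTensor_comp, hw₁, Finsupp.sum, map_sum]
  refine Submodule.sum_mem _ fun b _ => ?_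
  apply Submodule.subset_span
  refine ⟨b, g₀ b, hk b, ?_⟩
  rw [← LinearMap.comp_apply, ← LinearMap.rTensor_comp]
  congr 2
  ext a
  simp [tau, toIP, Finsupp.linearCombination_single]

variable [Module.Flat (R ⧸ I) ((R ⧸ I) ⊗[R] M)]

/-- **Key lemma** (Stacks 10.99.7, elementwise): if `M/IM` is flat over `R/I` and `IP ⊇ I • P` is a
submodule of `P`, the kernel of `IP ⊗ M → P ⊗ M` is generated by the `μ_p(k)`,
`k ∈ ker (I ⊗ M → M)`. -/
theorem mem_span_gens (x : IP ⊗[R] M) (hx : (IP.subtype).rTensor M x = 0) :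
    x ∈ Submodule.span R (gens I M IP hIP) := by
  classical
  have hpr : Surjective (Finsupp.linearCombination R id : (P →₀ R) →ₗ[R] P) :=
    Finsupp.linearCombination_id_surjective R P
  obtain ⟨z', hz'1, hz'2⟩ := exists_lift_ker M (Finsupp.linearCombination R id) hpr IP x hx
  have hle : (I • (⊤ : Submodule R (P →₀ R)) : Submodule R _) ≤
      IP.comap (Finsupp.linearCombination R id) := by
    rw [← Submodule.map_le_iff_le_comap, Submodule.map_smul'']
    exact (Submodule.smul_mono le_rfl le_top).trans hIP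
  obtain ⟨w, hw⟩ := exists_lift_smul_top M I _ hle z' hz'1
  have hw0 : ((I • (⊤ : Submodule R (P →₀ R)) : Submodule R _).subtype.rTensor M) w = 0 := by
    have : (I • (⊤ : Submodule R (P →₀ R)) : Submodule R _).subtype =
        (IP.comap (Finsupp.linearCombination R id)).subtype ∘ₗ Submodule.inclusion hle := rfl
    rw [this, LinearMap.rTensor_comp, LinearMap.comp_apply, hw, hz'1]
  have := step4 I M IP hIP hle w hw0
  rw [LinearMap.rTensor_comp, LinearMap.comp_apply, hw, hz'2] at this
  exact this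

/-- Variant of `mem_span_gens` for an abstract module `N` embedded in `P` with image
containing `I • P`. -/
theorem mem_span_gens' {N : Type u} [AddCommGroup N] [Module R N] (ν : N →ₗ[R] P)
    (hν : Injective ν) (toN : P → I →ₗ[R] N) (hto : ∀ p a, ν (toN p a) = (a : R) • p)
    (x : N ⊗[R] M) (hx : ν.rTensor M x = 0) :
    x ∈ Submodule.span R
      {y | ∃ (p : P) (k : I ⊗[R] M), I.subtype.rTensor M k = 0 ∧ y = (toN p).rTensor M k} := by
  classical
  let e : N ≃ₗ[R] LinearMap.range ν := LinearEquiv.ofInjective ν hν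
  have hIP : (I • (⊤ : Submodule R P) : Submodule R P) ≤ LinearMap.range ν := by
    rw [Submodule.smul_le]
    intro a ha p _
    exact ⟨toN p ⟨a, ha⟩, hto p ⟨a, ha⟩⟩
  have hsub : (LinearMap.range ν).subtype ∘ₗ e.toLinearMap = ν := rfl
  have hx' : ((LinearMap.range ν).subtype.rTensor M) ((e.toLinearMap.rTensor M) x) = 0 := by
    rw [← LinearMap.comp_apply, ← LinearMap.rTensor_comp, hsub, hx]
  have hmem := mem_span_gens I M (LinearMap.range ν) hIP _ hx'
  have hx2 : x = (e.symm.toLinearMap.rTensor M) ((e.toLinearMap.rTensor M) x) := by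
    rw [← LinearMap.comp_apply, ← LinearMap.rTensor_comp]
    simp
  rw [hx2]
  have hmap : (Submodule.span R (gens I M (LinearMap.range ν) hIP)).map
      (e.symm.toLinearMap.rTensor M) ≤ Submodule.span R
      {y | ∃ (p : P) (k : I ⊗[R] M), I.subtype.rTensor M k = 0 ∧ y = (toN p).rTensor M k} := by
    rw [Submodule.map_span, Submodule.span_le]
    rintro _ ⟨_, ⟨p, k, hk, rfl⟩, rfl⟩
    apply Submodule.subset_span
    refine ⟨p, k, hk, ?_⟩
    unfold mu
    rw [← LinearMap.comp_apply, ← LinearMap.rTensor_comp]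
    congr 2
    ext a
    simp only [LinearMap.coe_comp, LinearEquiv.coe_coe, comp_apply]
    rw [LinearEquiv.symm_apply_eq]
    apply Subtype.ext
    exact (hto p a).symm
  exact hmap ⟨_, hmem, rfl⟩

end Main

end A1

end Groth.Agent.Lib.TorBaseChange22
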