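import Groth.Agent.Lib.TorOne21

/-!
# Flatness of cokernels from Tor-vanishing (helper21)

`E` a complex of `O_X`-modules, `i + 1 = j`, `j + 1 = k`, `E^k` flat.  If `E ⊗ G` (termwise) is exact in degree `j` for
every module `G`, then `coker (E^j ⟶ E^k)` is flat.
-/

set_option autoImplicit false
universe u v
open CategoryTheory Limits AlgebraicGeometry
attribute [local instance] HasDerivedCategory.standard

namespace Groth.Agent.Lib.TorCoker21

open Groth.Agent.Lib.ModSiteKFlatBdd66 Groth.Agent.Lib.LTensorMod21 Groth.Agent.Lib.TorAmp21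
  Groth.Agent.Lib.ModSiteFlat Groth.Agent.Lib.TorOne21

variable {X : Scheme.{u}}

theorem isFlat_cokernel_of_exactAt (E : CochainComplex X.Modules ℤ) (i j k : ℤ) (hij : i + 1 = j)
    (hjk : j + 1 = k) (hfl : ModSite.IsFlat (O := X.sheaf) (E.X k))
    (h : ∀ G : X.Modules, ((tensorCxMod G).obj E).ExactAt j) :
    ModSite.IsFlat (O := X.sheaf) (cokernel (E.d j k)) := by
  have hbε : E.d j k ≫ cokernel.π (E.d j k) = 0 := cokernel.condition _
  have hex : (ShortComplex.mk (E.d j k) (cokernel.π (E.d j k)) hbε).Exact :=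
    ShortComplex.exact_of_g_is_cokernel _ (cokernelIsCokernel _)
  have hmono : ∀ G : X.Modules,
      Mono ((DCoh.tensorRightMod G).map (kernel.ι (cokernel.π (E.d j k)))) := by
    intro G
    refine mono_map_kernel_ι (DCoh.tensorRightMod G) (E.d i j) (E.d j k) (cokernel.π (E.d j k))
      (E.d_comp_d _ _ _) hbε hex ?_
    have := (HomologicalComplex.exactAt_iff' ((tensorCxMod G).obj E) i j k (by simp; omega)
      (by simp; omega)).1 (h G)
    exact this
  let S : ShortComplex X.Modules := ShortComplex.mk (kernel.ι (cokernel.π (E.d j k)))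
    (cokernel.π (E.d j k)) (kernel.condition _)
  have hS : S.ShortExact :=
    { exact := ShortComplex.exact_of_f_is_kernel _ (kernelIsKernel _)
      mono_f := inferInstanceAs (Mono (kernel.ι (cokernel.π (E.d j k))))
      epi_g := inferInstanceAs (Epi (cokernel.π (E.d j k))) }
  have h₁ : ∀ M : X.Modules, Mono (((ModSite.tensorBi X.sheaf).obj M).map S.f) := by
    intro M
    exact mono_map_of_natIso
      (tensorRightModIso M ≪≫ (Groth.Agent.Lib.ModSiteTensorSymm66.braidBi X.sheaf).symm.app M)
      (kernel.ι (cokernel.π (E.d j k))) (hmono M)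
  exact isFlat_X₃_of_mono X.sheaf S hS hfl h₁

end Groth.Agent.Lib.TorCoker21
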