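import Groth.Agent.Lib.PCohHomDescent
import Groth.Agent.Lib.TorAmpRestrict21
import Groth.Agent.Lib.TorAmpShift21
import Groth.Agent.S6950

/-!
# Finite tor dimension of ring maps: basic permanence properties

Namespace `Groth.Agent.Lib.TorDimHom`.

* `hasTorDimLE_of_linearEquiv`, `hasTorDimLE_mono`, `hasTorDimLE_of_flat`
* `hasTorDimLE_comp` : `A → B → C`.
* `hasTorDimLE_flat_baseChange`, `hasTorDimLE_of_faithfullyFlat_baseChange`.
-/

set_option autoImplicit false
universe u
open CategoryTheory CategoryTheory.Limits TensorProduct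
attribute [local instance] HasDerivedCategory.standard

namespace Groth.Agent.Lib.TorDimHom

open Groth.Agent.Lib.FlatBaseChangeD Groth.Agent.Lib.TorAmpShift21 Groth.Agent.Lib.PCohRelative3
  Groth.Agent.Lib.PCohHomLocal

section Module

variable {R : Type u} [CommRing R]

lemma hasTorDimLE_of_linearEquiv {M M' : Type u} [AddCommGroup M] [Module R M] [AddCommGroup M']
    [Module R M'] (e : M ≃ₗ[R] M') (d : ℕ) (h : DRing.HasTorDimLE R d M) :
    DRing.HasTorDimLE R d M' := by
  rw [hasTorDimLE_iff] at h ⊢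
  exact hasTorAmplitudeIn_of_iso R
    ((DerivedCategory.singleFunctor (ModuleCat.{u} R) 0).mapIso e.toModuleIso) h

lemma hasTorDimLE_mono {M : Type u} [AddCommGroup M] [Module R M] {d d' : ℕ} (hd : d ≤ d')
    (h : DRing.HasTorDimLE R d M) : DRing.HasTorDimLE R d' M :=
  fun N _ _ p hp => h N p (lt_of_le_of_lt hd hp)

lemma hasTorDimLE_of_flat (M : Type u) [AddCommGroup M] [Module R M] [Module.Flat R M] (d : ℕ) :
    DRing.HasTorDimLE R d M :=
  hasTorDimLE_mono (Nat.zero_le d)
    ((Groth.Agent.Lib.TorShift21.hasTorDimLE_zero_iff R M).2 inferInstance)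

end Module

section Comp

variable {A B C : Type u} [CommRing A] [CommRing B] [CommRing C] [Algebra A B] [Algebra B C]
  [Algebra A C] [IsScalarTower A B C]

/-- tor dimension along a composition -/
theorem hasTorDimLE_comp (d e : ℕ) (hB : DRing.HasTorDimLE A d B) (hC : DRing.HasTorDimLE B e C) :
    DRing.HasTorDimLE A (d + e) C := by
  rw [hasTorDimLE_iff] at hB hC ⊢
  have h1 := Groth.Agent.Lib.TorAmpRestrict21.hasTorAmplitudeIn_restrictD d hB (Dual.inD B C)
    (-(e : ℤ)) 0 hC
  let l : ((ModuleCat.restrictScalars (algebraMap A B)).obj (ModuleCat.of B C)) ≃ₗ[A] C :=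
    { toFun := fun x => x
      invFun := fun x => x
      map_add' := fun _ _ => rfl
      map_smul' := fun a x => by
        show (algebraMap A B a) • (show C from x) = a • (show C from x)
        rw [algebraMap_smul]
      left_inv := fun _ => rfl
      right_inv := fun _ => rfl }
  have e1 : (DRing.restrictD (algebraMap A B)).obj (Dual.inD B C) ≅ Dual.inD A C :=
    USingleIso (algebraMap A B) (ModuleCat.of B C) ≪≫
      (DerivedCategory.singleFunctor (ModuleCat.{u} A) 0).mapIso l.toModuleIso
  have h2 := hasTorAmplitudeIn_of_iso A e1 h1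
  have : (-((d + e : ℕ) : ℤ)) = -(e : ℤ) - d := by push_cast; ring
  rw [this]
  exact h2

end Comp

section BaseChange

variable {A B A' B' : Type u} [CommRing A] [CommRing B] [CommRing A'] [CommRing B']
  [Algebra A B] [Algebra A A'] [Algebra A B'] [Algebra B B'] [Algebra A' B']
  [IsScalarTower A B B'] [IsScalarTower A A' B']

/-- the complex `M[0]` -/
noncomputable abbrev sCxM (A : Type u) [CommRing A] (M : Type u) [AddCommGroup M] [Module A M] :
    DRing.Cx A :=
  (HomologicalComplex.single (ModuleCat.{u} A) (ComplexShape.up ℤ) 0).obj (ModuleCat.of A M)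

noncomputable def toDsCxMIso (A : Type u) [CommRing A] (M : Type u) [AddCommGroup M]
    [Module A M] : DRing.toD (sCxM A M) ≅ Dual.inD A M :=
  ((DerivedCategory.singleFunctorIsoCompQ (ModuleCat.{u} A) 0).app (ModuleCat.of A M)).symm

/-- `A' ⊗ M[0]` in `D(A')` -/
noncomputable def bcsCxMIso (A' : Type u) [CommRing A'] [Algebra A A'] [Module.Flat A A']
    (M : Type u) [AddCommGroup M] [Module A M] :
    DRing.toD (bcCx A' (sCxM A M)) ≅ Dual.inD A' (A' ⊗[A] M) :=
  (toDIso (B := A') (sCxM A M)).symm ≪≫ (FD A A').mapIso (toDsCxMIso A M) ≪≫ inDIso (B := A') M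

/-- for a pushout square, `B' = A' ⊗_A B` as `A'`-modules -/
noncomputable def pushoutEquiv [Algebra.IsPushout A B A' B'] : (A' ⊗[A] B) ≃ₗ[A'] B' :=
  IsBaseChange.equiv (Algebra.IsPushout.symm (inferInstance : Algebra.IsPushout A B A' B')).out

/-- flat base change of tor dimension -/
theorem hasTorDimLE_flat_baseChange [Algebra.IsPushout A B A' B'] [Module.Flat A A'] (d : ℕ)
    (h : DRing.HasTorDimLE A d B) : DRing.HasTorDimLE A' d B' := by
  refine hasTorDimLE_of_linearEquiv (pushoutEquiv (A := A) (B := B)) d ?_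
  rw [hasTorDimLE_iff] at h ⊢
  exact hasTorAmplitudeIn_of_iso A' (inDIso (A := A) (B := A') B)
    (hasTorAmplitudeIn_FD (B := A') h)

/-- faithfully flat descent of tor dimension -/
theorem hasTorDimLE_of_faithfullyFlat_baseChange [Algebra.IsPushout A B A' B']
    [Module.FaithfullyFlat A A'] (d : ℕ) (h : DRing.HasTorDimLE A' d B') :
    DRing.HasTorDimLE A d B := by
  have h' := hasTorDimLE_of_linearEquiv (pushoutEquiv (A := A) (B := B) (A' := A')
    (B' := B')).symm d h
  rw [hasTorDimLE_iff] at h' ⊢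
  have h1 := hasTorAmplitudeIn_of_iso A' (bcsCxMIso (A := A) A' B).symm h'
  exact hasTorAmplitudeIn_of_iso A (toDsCxMIso A B)
    (Groth.Agent.S6950.result (sCxM A B) (-(d : ℤ)) 0 h1)

end BaseChange

end Groth.Agent.Lib.TorDimHom
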