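import Groth.Agent.Lib.TorDimHom
import Mathlib.RingTheory.LocalProperties.Exactness
import Mathlib.RingTheory.Localization.BaseChange

/-!
# Finite tor dimension is a local property of ring maps; perfect ring maps are local

Namespace `Groth.Agent.Lib.TorDimHomLocal`.

* `lTensor_exact_of_span`, `hasTorDimLE_of_span_target`.
* `FTD φ` : the ring hom `φ` has finite tor dimension; `ftd_isLocal : RingHom.PropertyIsLocal FTD`.
* `PerfHom φ := PCHom φ ∧ FTD φ`; `perfHom_isLocal`.
-/

set_option autoImplicit false
universe u
open CategoryTheory CategoryTheory.Limits TensorProduct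
attribute [local instance] HasDerivedCategory.standard

namespace Groth.Agent.Lib.TorDimHomLocal

open Groth.Agent.Lib.TorDimHom Groth.Agent.Lib.PCohHomLocal Groth.Agent.Lib.TorShift21
  Groth.Agent.Lib.TorAmpRestrict21

section TargetLocal

variable {A B : Type u} [CommRing A] [CommRing B] [Algebra A B]

/-- exactness of `B ⊗_A -` can be checked on a spanning family of localisations of `B` -/
lemma lTensor_exact_of_span {X Y Z : Type u} [AddCommGroup X] [Module A X] [AddCommGroup Y]
    [Module A Y] [AddCommGroup Z] [Module A Z] (f : X →ₗ[A] Y) (h : Y →ₗ[A] Z)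
    (s : Set B) (hs : Ideal.span s = ⊤)
    (H : ∀ r : s, Function.Exact (f.lTensor (Localization.Away (r : B)))
      (h.lTensor (Localization.Away (r : B)))) :
    Function.Exact (f.lTensor B) (h.lTensor B) := by
  have key := exact_of_isLocalized_span s hs
    (Mₚ := fun r => Localization.Away (r : B) ⊗[A] X)
    (f := fun r => AlgebraTensorModule.rTensor A X
      (Algebra.linearMap B (Localization.Away (r : B))))
    (Nₚ := fun r => Localization.Away (r : B) ⊗[A] Y)
    (g := fun r => AlgebraTensorModule.rTensor A Y
      (Algebra.linearMap B (Localization.Away (r : B))))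
    (Lₚ := fun r => Localization.Away (r : B) ⊗[A] Z)
    (h := fun r => AlgebraTensorModule.rTensor A Z
      (Algebra.linearMap B (Localization.Away (r : B))))
    (F := AlgebraTensorModule.lTensor B B f) (G := AlgebraTensorModule.lTensor B B h) ?_
  · exact key
  · intro r
    rw [IsLocalizedModule.map_lTensor, IsLocalizedModule.map_lTensor]
    exact H r

/-- tor dimension over `A` is local on the target `B` -/
theorem hasTorDimLE_of_span_target (s : Set B) (hs : Ideal.span s = ⊤) (d : ℕ)
    (h : ∀ r : s, DRing.HasTorDimLE A d (Localization.Away (r : B))) :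
    DRing.HasTorDimLE A d B := by
  intro N _ _ p hp
  obtain ⟨q, rfl⟩ : ∃ q, p = q + 1 := ⟨p - 1, by lia⟩
  let P := projectiveResolution (ModuleCat.of A N)
  rw [subsingleton_tor_iff A B N P (q + 1), isZero_homology_succ_iff]
  refine lTensor_exact_of_span _ _ s hs (fun r => ?_)
  have h1 := (subsingleton_tor_iff A (Localization.Away (r : B)) N P (q + 1)).1
    (h r N (q + 1) hp)
  change IsZero ((lt (ModuleCat.of A (Localization.Away (r : B))) P.complex).homology (q + 1))
    at h1
  rw [isZero_homology_succ_iff] at h1
  exact h1

end TargetLocal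

/-- the ring hom `φ` has finite tor dimension -/
def FTD {R S : Type u} [CommRing R] [CommRing S] (φ : R →+* S) : Prop :=
  letI := φ.toAlgebra
  DRing.HasFiniteTorDim R S

section Local

lemma ftd_algebraMap_iff {A B : Type u} [CommRing A] [CommRing B] [Algebra A B] :
    FTD (algebraMap A B) ↔ DRing.HasFiniteTorDim A B := by
  unfold FTD
  rw [toAlgebra_algebraMap]

lemma ftd_of_flat {A B : Type u} [CommRing A] [CommRing B] [Algebra A B] [Module.Flat A B] :
    DRing.HasFiniteTorDim A B := ⟨0, hasTorDimLE_of_flat B 0⟩

lemma ftd_holdsForLocalizationAway : RingHom.HoldsForLocalizationAway @FTD := by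
  intro R S _ _ _ r _
  rw [ftd_algebraMap_iff]
  have : Module.Flat R S := IsLocalization.flat S (Submonoid.powers r)
  exact ftd_of_flat

lemma ftd_stableUnderComposition : RingHom.StableUnderComposition @FTD := by
  intro R S T _ _ _ f g hf hg
  let _ := f.toAlgebra
  let _ := g.toAlgebra
  let _ := (g.comp f).toAlgebra
  have : IsScalarTower R S T := IsScalarTower.of_algebraMap_eq' rfl
  obtain ⟨d, hd⟩ := hf
  obtain ⟨e, he⟩ := hg
  exact ⟨d + e, hasTorDimLE_comp d e hd he⟩

lemma ftd_stableUnderCompositionWithLocalizationAway :
    RingHom.StableUnderCompositionWithLocalizationAway @FTD :=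
  ftd_stableUnderComposition.stableUnderCompositionWithLocalizationAway
    ftd_holdsForLocalizationAway

lemma ftd_localizationAwayPreserves : RingHom.LocalizationAwayPreserves @FTD := by
  intro R S _ _ f r R' S' _ _ _ _ _ _ hf
  let _ := f.toAlgebra
  let _ := (IsLocalization.Away.map R' S' f r).toAlgebra
  let _ := ((algebraMap S S').comp f).toAlgebra
  have t1 : IsScalarTower R S S' := IsScalarTower.of_algebraMap_eq' rfl
  have t2 : IsScalarTower R R' S' := IsScalarTower.of_algebraMap_eq' (by
    show (algebraMap S S').comp f = (IsLocalization.Away.map R' S' f r).comp (algebraMap R R')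
    exact (IsLocalization.map_comp _).symm)
  have : IsLocalization (Algebra.algebraMapSubmonoid S (Submonoid.powers r)) S' := by
    have e : Algebra.algebraMapSubmonoid S (Submonoid.powers r) = Submonoid.powers (f r) :=
      Submonoid.map_powers _ _
    rw [e]
    infer_instance
  have hpo : Algebra.IsPushout R S R' S' :=
    Algebra.isPushout_of_isLocalization (Submonoid.powers r) R' S S'
  have : Module.Flat R R' := IsLocalization.flat R' (Submonoid.powers r)
  obtain ⟨d, hd⟩ := hf
  exact ⟨d, hasTorDimLE_flat_baseChange (A := R) (B := S) (A' := R') (B' := S') d hd⟩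

lemma ftd_ofLocalizationSpanTarget : RingHom.OfLocalizationSpanTarget @FTD := by
  rw [RingHom.ofLocalizationSpanTarget_iff_finite]
  intro R S _ _ f s hs h
  let _ := f.toAlgebra
  show DRing.HasFiniteTorDim R S
  have h' : ∀ r : s, DRing.HasFiniteTorDim R (Localization.Away (r : S)) := by
    intro r
    have h1 := h r
    have e : (algebraMap S (Localization.Away (r : S))).comp f =
        algebraMap R (Localization.Away (r : S)) :=
      (IsScalarTower.algebraMap_eq R S (Localization.Away (r : S))).symm
    rw [e, ftd_algebraMap_iff] at h1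
    exact h1
  choose d hd using h'
  refine ⟨Finset.univ.sup d, hasTorDimLE_of_span_target (s : Set S) hs _ (fun r => ?_)⟩
  exact hasTorDimLE_mono (Finset.le_sup (f := d) (Finset.mem_univ r)) (hd r)

/-- finite tor dimension is a local property of ring homomorphisms -/
theorem ftd_isLocal : RingHom.PropertyIsLocal @FTD where
  localizationAwayPreserves := ftd_localizationAwayPreserves
  ofLocalizationSpanTarget := ftd_ofLocalizationSpanTarget
  ofLocalizationSpan := ftd_ofLocalizationSpanTarget.ofLocalizationSpan
    ftd_stableUnderCompositionWithLocalizationAway.1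
  StableUnderCompositionWithLocalizationAwayTarget :=
    ftd_stableUnderCompositionWithLocalizationAway.2

end Local

end Groth.Agent.Lib.TorDimHomLocal
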