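import Groth.Agent.Lib.PolyCharSeq
import Groth.Agent.Lib.TorDimHom
import Groth.Agent.Lib.FlatAmp2
import Mathlib.Algebra.MvPolynomial.Equiv

/-!
# Tor dimension over polynomial rings

Namespace `Groth.Agent.Lib.TorDimPoly`.

* `hasTorDimLE_baseChange_module` : flat base change of tor dimension, for modules.
* `hasTorDimLE_of_shortExact` : `0 → M₁ → M₂ → M₃ → 0`, `td M₁ ≤ d`, `td M₂ ≤ d + 1` ⇒ `td M₃ ≤ d + 1`.
* `hasTorDimLE_restrict` : `A → B`, `td_A B ≤ d`, `td_B M ≤ e` ⇒ `td_A M ≤ d + e`.
* `hasTorDimLE_of_ringEquiv`.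
* `hasTorDimLE_polynomial` : `td_R M ≤ d` ⇒ `td_{R[X]} M ≤ d + 1` for an `R[X]`-module `M`.
* `hasTorDimLE_mvPolynomial` : `td_A M ≤ d` ⇒ `td_{A[x₁..xₙ]} M ≤ d + n`.
-/

set_option autoImplicit false
universe u
open CategoryTheory CategoryTheory.Limits TensorProduct
attribute [local instance] HasDerivedCategory.standard

namespace Groth.Agent.Lib.TorDimPoly

open Groth.Agent.Lib.FlatBaseChangeD Groth.Agent.Lib.TorAmpShift21 Groth.Agent.Lib.PCohRelative3
  Groth.Agent.Lib.TorDimHom Groth.Agent.Lib.PCohAmp Groth.Agent.Lib.DRingPerfAmp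
  Groth.Agent.Lib.FlatAmp

section General

/-- flat base change of tor dimension, for modules -/
theorem hasTorDimLE_baseChange_module {A A' : Type u} [CommRing A] [CommRing A'] [Algebra A A']
    [Module.Flat A A'] (M : Type u) [AddCommGroup M] [Module A M] (d : ℕ)
    (h : DRing.HasTorDimLE A d M) : DRing.HasTorDimLE A' d (A' ⊗[A] M) := by
  rw [hasTorDimLE_iff] at h ⊢
  exact hasTorAmplitudeIn_of_iso A' (inDIso (A := A) (B := A') M)
    (hasTorAmplitudeIn_FD (B := A') h)

/-- tor dimension in a short exact sequence -/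
theorem hasTorDimLE_of_shortExact {R : Type u} [CommRing R] (S : ShortComplex (ModuleCat.{u} R))
    (hS : S.ShortExact) (d : ℕ) (h1 : DRing.HasTorDimLE R d S.X₁)
    (h2 : DRing.HasTorDimLE R (d + 1) S.X₂) : DRing.HasTorDimLE R (d + 1) S.X₃ := by
  rw [hasTorDimLE_iff, ta_iff_pa] at h1 h2 ⊢
  have hT := hS.singleTriangle_distinguished
  have hd : -((d + 1 : ℕ) : ℤ) = -((d : ℤ) + 1) := by push_cast; ring
  rw [hd] at h2 ⊢
  exact pa_fl_cone R _ _ hS.singleTriangle hT (pa_mono (by lia) (by lia) h1) h2

/-- tor dimension along restriction of scalars -/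
theorem hasTorDimLE_restrict {A B : Type u} [CommRing A] [CommRing B] [Algebra A B] (M : Type u)
    [AddCommGroup M] [Module B M] [Module A M] [IsScalarTower A B M] (d e : ℕ)
    (hB : DRing.HasTorDimLE A d B) (hM : DRing.HasTorDimLE B e M) :
    DRing.HasTorDimLE A (d + e) M := by
  rw [hasTorDimLE_iff] at hB hM ⊢
  have h1 := Groth.Agent.Lib.TorAmpRestrict21.hasTorAmplitudeIn_restrictD d hB (Dual.inD B M)
    (-(e : ℤ)) 0 hM
  let l : ((ModuleCat.restrictScalars (algebraMap A B)).obj (ModuleCat.of B M)) ≃ₗ[A] M :=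
    { toFun := fun x => x
      invFun := fun x => x
      map_add' := fun _ _ => rfl
      map_smul' := fun a x => by
        show (algebraMap A B a) • (show M from x) = a • (show M from x)
        rw [algebraMap_smul]
      left_inv := fun _ => rfl
      right_inv := fun _ => rfl }
  have e1 : (DRing.restrictD (algebraMap A B)).obj (Dual.inD B M) ≅ Dual.inD A M :=
    USingleIso (algebraMap A B) (ModuleCat.of B M) ≪≫
      (DerivedCategory.singleFunctor (ModuleCat.{u} A) 0).mapIso l.toModuleIso
  have h2 := hasTorAmplitudeIn_of_iso A e1 h1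
  have : (-((d + e : ℕ) : ℤ)) = -(e : ℤ) - d := by push_cast; ring
  rw [this]
  exact h2

/-- tor dimension is invariant under a ring isomorphism -/
theorem hasTorDimLE_of_ringEquiv {P P' : Type u} [CommRing P] [CommRing P'] (e : P ≃+* P')
    (M : Type u) [AddCommGroup M] [Module P M] [Module P' M]
    (hcompat : ∀ (p : P) (m : M), e p • m = p • m) (d : ℕ) (h : DRing.HasTorDimLE P' d M) :
    DRing.HasTorDimLE P d M := by
  let _ : Algebra P P' := e.toRingHom.toAlgebra
  have hst : IsScalarTower P P' M := IsScalarTower.of_algebraMap_smul (fun p m => hcompat p m)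
  let l : P ≃ₗ[P] P' :=
    { toFun := fun x => e x
      invFun := fun x => e.symm x
      map_add' := fun x y => map_add e x y
      map_smul' := fun p x => by
        show e (p * x) = e p * e x
        exact map_mul e p x
      left_inv := fun x => e.symm_apply_apply x
      right_inv := fun x => e.apply_symm_apply x }
  have hfl : Module.Flat P P' := Module.Flat.of_linearEquiv l.symm
  have := hasTorDimLE_restrict (A := P) (B := P') M 0 d (hasTorDimLE_of_flat P' 0) h
  rwa [zero_add] at this

end General

section Poly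

open Polynomial Groth.Agent.Lib.PolyCharSeq

/-- an `R[X]`-module of tor dimension `≤ d` over `R` has tor dimension `≤ d + 1` over `R[X]` -/
theorem hasTorDimLE_polynomial (R : Type u) [CommRing R] (M : Type u) [AddCommGroup M]
    [Module R[X] M] [Module R M] [IsScalarTower R R[X] M] (d : ℕ)
    (h : DRing.HasTorDimLE R d M) : DRing.HasTorDimLE R[X] (d + 1) M := by
  have hT : DRing.HasTorDimLE R[X] d (R[X] ⊗[R] M) := hasTorDimLE_baseChange_module M d h
  let S : ShortComplex (ModuleCat.{u} R[X]) :=
    ShortComplex.mk (ModuleCat.ofHom (delta R M)) (ModuleCat.ofHom (mu R M))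
      (ModuleCat.hom_ext (LinearMap.ext fun x => mu_delta R M x))
  have hS : S.ShortExact :=
    { exact := (ShortComplex.ShortExact.moduleCat_exact_iff_function_exact S).2
        (exact_delta_mu R M)
      mono_f := (ModuleCat.mono_iff_injective _).2 (delta_injective R M)
      epi_g := (ModuleCat.epi_iff_surjective _).2 (mu_surjective R M) }
  exact hasTorDimLE_of_shortExact S hS d hT (hasTorDimLE_mono (Nat.le_succ d) hT)

/-- a module over `A[x₁, …, xₙ]` of tor dimension `≤ d` over `A` has tor dimension `≤ d + n` over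
`A[x₁, …, xₙ]` -/
theorem hasTorDimLE_mvPolynomial (A : Type u) [CommRing A] (n : ℕ) :
    ∀ (M : Type u) [AddCommGroup M] [Module (MvPolynomial (Fin n) A) M] [Module A M]
      [IsScalarTower A (MvPolynomial (Fin n) A) M] (d : ℕ),
      DRing.HasTorDimLE A d M → DRing.HasTorDimLE (MvPolynomial (Fin n) A) (d + n) M := by
  induction n with
  | zero =>
    intro M _ _ _ _ d h
    let e : MvPolynomial (Fin 0) A ≃+* A := (MvPolynomial.isEmptyAlgEquiv A (Fin 0)).toRingEquiv
    refine hasTorDimLE_of_ringEquiv e M (fun p m => ?_) d h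
    have hp : p = algebraMap A (MvPolynomial (Fin 0) A) (e p) := by
      have h1 : e (algebraMap A (MvPolynomial (Fin 0) A) (e p)) = e p :=
        (MvPolynomial.isEmptyAlgEquiv A (Fin 0)).commutes (e p)
      exact e.injective h1.symm
    conv_rhs => rw [hp]
    rw [algebraMap_smul]
  | succ n ih =>
    intro M _ _ _ _ d h
    let Q := MvPolynomial (Fin n) A
    let e : MvPolynomial (Fin (n + 1)) A ≃+* Q[X] := (MvPolynomial.finSuccEquiv A n).toRingEquiv
    let mQX : Module Q[X] M := Module.compHom M (e.symm : Q[X] →+* MvPolynomial (Fin (n + 1)) A)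
    let mQ : Module Q M :=
      Module.compHom M ((e.symm : Q[X] →+* MvPolynomial (Fin (n + 1)) A).comp
        (Polynomial.C : Q →+* Q[X]))
    have t1 : IsScalarTower Q Q[X] M := IsScalarTower.of_algebraMap_smul (fun _ _ => rfl)
    have t2 : IsScalarTower A Q M := IsScalarTower.of_algebraMap_smul (fun a m => by
      show e.symm (Polynomial.C (algebraMap A Q a)) • m = a • m
      have h1 : e.symm (Polynomial.C (algebraMap A Q a)) =
          algebraMap A (MvPolynomial (Fin (n + 1)) A) a :=
        (MvPolynomial.finSuccEquiv A n).symm.commutes a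
      rw [h1, algebraMap_smul])
    have h1 : DRing.HasTorDimLE Q (d + n) M := ih M d h
    have h2 : DRing.HasTorDimLE Q[X] (d + n + 1) M := hasTorDimLE_polynomial Q M (d + n) h1
    refine hasTorDimLE_of_ringEquiv e M (fun p m => ?_) (d + (n + 1)) h2
    show e.symm (e p) • m = p • m
    rw [e.symm_apply_apply]

end Poly

end Groth.Agent.Lib.TorDimPoly
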