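import Groth.Agent.Lib.FlatBaseChangeD
import Groth.Agent.Lib.LBaseChangeFlat
import Groth.Agent.Lib.DSplit
import Groth.Agent.Lib.TorDimHom

/-!
# Tor-independent base change

Namespace `Groth.Agent.Lib.TorIndepBC`.

For a pushout square of commutative rings `P' = k' ⊗_k P`:

* `sqNatIso` : the base change square on module categories,
  `restrictScalars (k → P) ⋙ extendScalars (k → k') ≅ extendScalars (P → P') ⋙ restrictScalars (k' → P')`.
* `quasiIso_extendScalars_map` : a quasi-isomorphism between bounded above complexes of `P`-modules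
  whose terms are `k`-flat stays a quasi-isomorphism after `P' ⊗_P -`.
* `isPseudoCoherentModule'_baseChange` : if `M` is a pseudo-coherent `P`-module, `M` and `P` are flat over
  `k`, then `P' ⊗_P M` is a pseudo-coherent `P'`-module.
-/

set_option autoImplicit false
universe u
open CategoryTheory CategoryTheory.Limits
attribute [local instance] HasDerivedCategory.standard

namespace Groth.Agent.Lib.TorIndepBC

open TensorProduct Groth.Agent.Lib.FlatBaseChangeD

section Square

variable {k k' P P' : Type u} [CommRing k] [CommRing k'] [CommRing P] [CommRing P']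
  [Algebra k k'] [Algebra k P] [Algebra k P'] [Algebra k' P'] [Algebra P P']
  [IsScalarTower k k' P'] [IsScalarTower k P P'] [Algebra.IsPushout k k' P P']

section Mod

variable (k k' P P') (M : Type u) [AddCommGroup M] [Module P M] [Module k M] [IsScalarTower k P M]

/-- `k' ⊗_k M ≃ P' ⊗_P M`, linear over `k'` -/
noncomputable def sqEquiv : k' ⊗[k] M ≃ₗ[k'] P' ⊗[P] M :=
  (Algebra.IsPushout.cancelBaseChange k k' P P' M).symm

lemma sqEquiv_tmul (s : k') (m : M) :
    sqEquiv k k' P P' M (s ⊗ₜ m) = (algebraMap k' P' s) ⊗ₜ m :=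
  Algebra.IsPushout.cancelBaseChange_symm_tmul k k' P P' M s m

end Mod

variable (k' P P') in
/-- the `P'`-linear identification, viewed as `k'`-linear -/
noncomputable def e3 (M : ModuleCat.{u} P) :
    ((ModuleCat.restrictScalars (algebraMap k' P')).obj
      ((ModuleCat.extendScalars (algebraMap P P')).obj M)) ≃ₗ[k'] P' ⊗[P] M :=
  { toFun := fun x => objEquiv (A := P) (B := P') M
      (show ((ModuleCat.extendScalars (algebraMap P P')).obj M) from x)
    invFun := fun y => (objEquiv (A := P) (B := P') M).symm y
    map_add' := fun x y => map_add (objEquiv (A := P) (B := P') M)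
      (show ((ModuleCat.extendScalars (algebraMap P P')).obj M) from x) y
    map_smul' := fun c x => by
      have h1 := map_smul (objEquiv (A := P) (B := P') M) (algebraMap k' P' c)
        (show ((ModuleCat.extendScalars (algebraMap P P')).obj M) from x)
      refine h1.trans ?_
      exact algebraMap_smul P' c _
    left_inv := fun x => (objEquiv (A := P) (B := P') M).symm_apply_apply _
    right_inv := fun y => (objEquiv (A := P) (B := P') M).apply_symm_apply y }

variable (k) in
/-- `M` as a `k`-module -/
@[instance_reducible]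
def modk (M : ModuleCat.{u} P) : Module k M := Module.compHom M (algebraMap k P)

attribute [local instance] modk

instance (M : ModuleCat.{u} P) : IsScalarTower k P M :=
  IsScalarTower.of_algebraMap_smul (fun _ _ => rfl)

variable (k k' P P') in
/-- the base change square, on modules -/
noncomputable def sqLin (M : ModuleCat.{u} P) :
    ((ModuleCat.extendScalars (algebraMap k k')).obj
      ((ModuleCat.restrictScalars (algebraMap k P)).obj M)) ≃ₗ[k']
    ((ModuleCat.restrictScalars (algebraMap k' P')).obj
      ((ModuleCat.extendScalars (algebraMap P P')).obj M)) :=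
  (objEquiv (A := k) (B := k') ((ModuleCat.restrictScalars (algebraMap k P)).obj M))
    ≪≫ₗ sqEquiv k k' P P' M ≪≫ₗ (e3 k' P P' M).symm

lemma sqLin_tmul (M : ModuleCat.{u} P) (s : k') (m : M) :
    sqLin k k' P P' M ((show ((ModuleCat.restrictScalars (algebraMap k k')).obj
        (ModuleCat.of _ k')) from s) ⊗ₜ[k]
        (show ((ModuleCat.restrictScalars (algebraMap k P)).obj M) from m)) =
      ((show ((ModuleCat.restrictScalars (algebraMap P P')).obj (ModuleCat.of _ P')) from
        (algebraMap k' P' s)) ⊗ₜ[P] m) := by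
  show (e3 k' P P' M).symm (sqEquiv k k' P P' M (objEquiv (A := k) (B := k')
    ((ModuleCat.restrictScalars (algebraMap k P)).obj M) _)) = _
  have h1 : objEquiv (A := k) (B := k')
      ((ModuleCat.restrictScalars (algebraMap k P)).obj M)
      ((show ((ModuleCat.restrictScalars (algebraMap k k')).obj (ModuleCat.of _ k')) from s) ⊗ₜ[k]
        (show ((ModuleCat.restrictScalars (algebraMap k P)).obj M) from m)) =
      s ⊗ₜ[k] (show ((ModuleCat.restrictScalars (algebraMap k P)).obj M) from m) := rfl
  rw [h1]
  have h2 := sqEquiv_tmul k k' P P' M s m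
  have h3 : (e3 k' P P' M) ((show ((ModuleCat.restrictScalars (algebraMap P P')).obj
        (ModuleCat.of _ P')) from (algebraMap k' P' s)) ⊗ₜ[P] m) =
      (algebraMap k' P' s) ⊗ₜ[P] m := rfl
  rw [← h3] at h2
  exact (LinearEquiv.symm_apply_eq _).2 h2

variable (k k' P P') in
/-- the base change square as a natural isomorphism -/
noncomputable def sqNatIso :
    ModuleCat.restrictScalars.{u} (algebraMap k P) ⋙
        ModuleCat.extendScalars.{u, u, u} (algebraMap k k') ≅
      ModuleCat.extendScalars.{u, u, u} (algebraMap P P') ⋙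
        ModuleCat.restrictScalars.{u} (algebraMap k' P') :=
  NatIso.ofComponents (fun M => (sqLin k k' P P' M).toModuleIso) (by
    intro M N l
    apply ModuleCat.ExtendScalars.hom_ext
    intro m
    have h1 := sqLin_tmul (k := k) (k' := k') (P := P) (P' := P') N 1 (l.hom m)
    have h2 := sqLin_tmul (k := k) (k' := k') (P := P) (P' := P') M 1 m
    have h3 : (ModuleCat.extendScalars.{u, u, u} (algebraMap P P')).map l (sqLin k k' P P' M
        ((show ((ModuleCat.restrictScalars (algebraMap k k')).obj
        (ModuleCat.of _ k')) from (1 : k')) ⊗ₜ[k]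
        (show ((ModuleCat.restrictScalars (algebraMap k P)).obj M) from m))) = _ :=
      congrArg ((ModuleCat.extendScalars.{u, u, u} (algebraMap P P')).map l) h2
    exact h1.trans h3.symm)

end Square

section QuasiIso

open Groth.Agent.Lib.LBaseChangeFlat in
/-- a quasi-isomorphism between bounded above complexes of `P`-modules with `k`-flat terms stays a
quasi-isomorphism after `P' ⊗_P -`, for `P' = k' ⊗_k P` -/
theorem quasiIso_extendScalars_map (k k' : Type u) {P P' : Type u} [CommRing k] [CommRing k']
    [CommRing P] [CommRing P'] [Algebra k k'] [Algebra k P] [Algebra k P'] [Algebra k' P']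
    [Algebra P P'] [IsScalarTower k k' P'] [IsScalarTower k P P'] [Algebra.IsPushout k k' P P']
    {E L : CochainComplex (ModuleCat.{u} P) ℤ} (f : E ⟶ L)
    [QuasiIso f]
    (hE : ∀ i, Module.Flat k ((ModuleCat.restrictScalars (algebraMap k P)).obj (E.X i)))
    (hL : ∀ i, Module.Flat k ((ModuleCat.restrictScalars (algebraMap k P)).obj (L.X i)))
    (b : ℤ) (hEb : ∀ i, b < i → IsZero (E.X i)) (hLb : ∀ i, b < i → IsZero (L.X i)) :
    QuasiIso (((ModuleCat.extendScalars.{u, u, u} (algebraMap P P')).mapHomologicalComplex
      (ComplexShape.up ℤ)).map f) := by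
  let R := ModuleCat.restrictScalars.{u} (algebraMap k P)
  let G := ModuleCat.extendScalars.{u, u, u} (algebraMap k k')
  let G' := ModuleCat.extendScalars.{u, u, u} (algebraMap P P')
  let R' := ModuleCat.restrictScalars.{u} (algebraMap k' P')
  have h1 : QuasiIso ((R.mapHomologicalComplex (ComplexShape.up ℤ)).map f) := inferInstance
  have h2 : QuasiIso ((G.mapHomologicalComplex (ComplexShape.up ℤ)).map
      ((R.mapHomologicalComplex (ComplexShape.up ℤ)).map f)) :=
    quasiIso_map_of_flat (killsFlatAcyclic_extendScalars (A := k) (B := k')) _ hE hL b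
      (fun i hi => R.map_isZero (hEb i hi)) (fun i hi => R.map_isZero (hLb i hi))
  let c₁ := Functor.mapHomologicalComplexCompIso (sqNatIso k k' P P') (ComplexShape.up ℤ)
  let c₂ := Functor.mapHomologicalComplexCompIso (Iso.refl (G' ⋙ R')) (ComplexShape.up ℤ)
  let c := c₁ ≪≫ c₂.symm
  have h3 : QuasiIso ((R'.mapHomologicalComplex (ComplexShape.up ℤ)).map
      ((G'.mapHomologicalComplex (ComplexShape.up ℤ)).map f)) := by
    refine (quasiIso_iff_of_arrow_mk_iso _ _ (Arrow.isoMk (c.app E) (c.app L) ?_)).1 h2
    exact (c.hom.naturality f).symm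
  exact (HomologicalComplex.quasiIso_map_iff_of_preservesHomology _ R').1 h3

end QuasiIso

section Module

open Groth.Agent.Lib.TorDimHom DerivedCategory

/-- Tor-independent base change of a pseudo-coherent module: for `P' = k' ⊗_k P`, with `P` and the
`P`-module `M` both flat over `k`, if `M` is pseudo-coherent over `P` then `P' ⊗_P M` is pseudo-coherent
over `P'`. -/
theorem isPseudoCoherentModule'_baseChange (k k' : Type u) {P P' : Type u} [CommRing k] [CommRing k']
    [CommRing P] [CommRing P'] [Algebra k k'] [Algebra k P] [Algebra k P'] [Algebra k' P']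
    [Algebra P P'] [IsScalarTower k k' P'] [IsScalarTower k P P'] [Algebra.IsPushout k k' P P']
    [Module.Flat k P] (M : Type u) [AddCommGroup M] [Module P M] [Module k M] [IsScalarTower k P M]
    [Module.Flat k M] (h : DRing.IsPseudoCoherentModule' P M) :
    DRing.IsPseudoCoherentModule' P' (P' ⊗[P] M) := by
  obtain ⟨E, b, hv, hf, ⟨e⟩⟩ := h
  have hle : E.IsStrictlyLE b := by
    rw [CochainComplex.isStrictlyLE_iff]
    exact fun i hi => hv i hi
  have hproj : ∀ i, Projective (E.X i) := fun i => by
    have := (hf i).1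
    have := (hf i).2
    infer_instance
  have hK : E.IsKProjective := CochainComplex.isKProjective_of_projective E b
  let g : Q.obj E ⟶ Q.obj (sCxM P M) := e.hom ≫ (toDsCxMIso P M).inv
  obtain ⟨f, hf'⟩ := Groth.Agent.Lib.DSplit.exists_map_eq g
  have hiso : IsIso (Q.map f) := by rw [hf']; infer_instance
  have hq : QuasiIso f := (isIso_Q_map_iff_quasiIso (φ := f)).1 hiso
  have hE : ∀ i, Module.Flat k ((ModuleCat.restrictScalars (algebraMap k P)).obj (E.X i)) :=
    fun i => by
      have := (hf i).2
      let _ : Module k (E.X i) := Module.compHom (E.X i) (algebraMap k P)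
      have : IsScalarTower k P (E.X i) := IsScalarTower.of_algebraMap_smul (fun _ _ => rfl)
      exact (Module.Flat.trans k P (E.X i) : Module.Flat k (E.X i))
  have hLz : ∀ i : ℤ, i ≠ 0 → IsZero ((sCxM P M).X i) := fun i hi =>
    HomologicalComplex.isZero_single_obj_X (ComplexShape.up ℤ) 0 (ModuleCat.of P M) i hi
  have hL : ∀ i, Module.Flat k ((ModuleCat.restrictScalars (algebraMap k P)).obj
      ((sCxM P M).X i)) := fun i => by
    by_cases hi : i = 0
    · subst hi
      let l0 : ((sCxM P M).X 0) ≃ₗ[P] M :=
        (HomologicalComplex.singleObjXSelf (ComplexShape.up ℤ) 0 (ModuleCat.of P M)).toLinearEquiv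
      let l : ((ModuleCat.restrictScalars (algebraMap k P)).obj ((sCxM P M).X 0)) ≃ₗ[k] M :=
        { toFun := fun x => l0 x
          invFun := fun x => l0.symm x
          map_add' := fun x y => map_add l0 x y
          map_smul' := fun c x => by
            show l0 ((algebraMap k P c) • (show ((sCxM P M).X 0) from x)) = c • l0 x
            rw [map_smul, algebraMap_smul]
          left_inv := fun x => l0.symm_apply_apply x
          right_inv := fun x => l0.apply_symm_apply x }
      exact Module.Flat.of_linearEquiv l
    · have : Subsingleton ((ModuleCat.restrictScalars (algebraMap k P)).obj ((sCxM P M).X i)) :=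
        ModuleCat.subsingleton_of_isZero
          ((ModuleCat.restrictScalars (algebraMap k P)).map_isZero (hLz i hi))
      infer_instance
  have hq' := quasiIso_extendScalars_map k k' (P' := P') f hE hL (max b 0)
    (fun i hi => hv i (lt_of_le_of_lt (le_max_left _ _) hi))
    (fun i hi => hLz i (ne_of_gt (lt_of_le_of_lt (le_max_right _ _) hi)))
  have hiso' : IsIso (Q.map (((ModuleCat.extendScalars.{u, u, u}
      (algebraMap P P')).mapHomologicalComplex (ComplexShape.up ℤ)).map f)) :=
    (isIso_Q_map_iff_quasiIso (φ := _)).2 hq'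
  refine ⟨bcCx P' E, b, vanishesAbove_bcCx hv, termwiseFiniteFree_bcCx hf, ⟨?_⟩⟩
  exact asIso (Q.map (((ModuleCat.extendScalars.{u, u, u}
      (algebraMap P P')).mapHomologicalComplex (ComplexShape.up ℤ)).map f)) ≪≫
    Q.mapIso ((HomologicalComplex.singleMapHomologicalComplex
      (ModuleCat.extendScalars.{u, u, u} (algebraMap P P')) (ComplexShape.up ℤ) 0).app
        (ModuleCat.of P M)) ≪≫
    ((DerivedCategory.singleFunctorIsoCompQ (ModuleCat.{u} P') 0).app _).symm ≪≫
    (DerivedCategory.singleFunctor (ModuleCat.{u} P') 0).mapIso (objIso M)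

end Module

section Ring

attribute [local instance] MvPolynomial.algebraMvPolynomial

variable {A B A' B' : Type u} [CommRing A] [CommRing B] [CommRing A'] [CommRing B']
  [Algebra A B] [Algebra A A'] [Algebra A B'] [Algebra B B'] [Algebra A' B']
  [IsScalarTower A B B'] [IsScalarTower A A' B']

/-- Tor-independent base change of a pseudo-coherent ring map: if `A → B` is flat and pseudo-coherent
and `B' = B ⊗_A A'` for an arbitrary `A → A'`, then `A' → B'` is pseudo-coherent. -/
theorem pcHom_baseChange_of_flat [Algebra.IsPushout A B A' B'] [Module.Flat A B]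
    (h : MoreMor.IsPseudoCoherentHom A B) : MoreMor.IsPseudoCoherentHom A' B' := by
  obtain ⟨n, φ, hφ, hB⟩ := h
  let φ' : MvPolynomial (Fin n) A' →ₐ[A'] B' :=
    MvPolynomial.aeval (fun i => algebraMap B B' (φ (MvPolynomial.X i)))
  let i1 : Algebra (MvPolynomial (Fin n) A) B := φ.toRingHom.toAlgebra
  let i2 : Algebra (MvPolynomial (Fin n) A') B' := φ'.toRingHom.toAlgebra
  let i3 : Algebra (MvPolynomial (Fin n) A) B' :=
    ((algebraMap B B').comp φ.toRingHom).toAlgebra
  have t1 : IsScalarTower A (MvPolynomial (Fin n) A) B :=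
    IsScalarTower.of_algebraMap_eq (fun r => (φ.commutes r).symm)
  have t2 : IsScalarTower (MvPolynomial (Fin n) A) B B' := IsScalarTower.of_algebraMap_eq' rfl
  have t3 : IsScalarTower A' (MvPolynomial (Fin n) A') B' :=
    IsScalarTower.of_algebraMap_eq (fun r => (φ'.commutes r).symm)
  have t4 : IsScalarTower (MvPolynomial (Fin n) A) (MvPolynomial (Fin n) A') B' := by
    refine IsScalarTower.of_algebraMap_eq' ?_
    refine MvPolynomial.ringHom_ext (fun r => ?_) (fun i => ?_)
    · show algebraMap B B' (φ (MvPolynomial.C r)) =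
        φ' (MvPolynomial.map (algebraMap A A') (MvPolynomial.C r))
      rw [MvPolynomial.map_C]
      have h1 : φ (MvPolynomial.C r) = algebraMap A B r := φ.commutes r
      have h2 : φ' (MvPolynomial.C (algebraMap A A' r)) = algebraMap A' B' (algebraMap A A' r) :=
        φ'.commutes _
      rw [h1, h2, ← IsScalarTower.algebraMap_apply A B B', ← IsScalarTower.algebraMap_apply A A' B']
    · show algebraMap B B' (φ (MvPolynomial.X i)) =
        φ' (MvPolynomial.map (algebraMap A A') (MvPolynomial.X i))
      rw [MvPolynomial.map_X]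
      exact (MvPolynomial.aeval_X (R := A')
        (fun i => algebraMap B B' (φ (MvPolynomial.X i))) i).symm
  have t5 : IsScalarTower A (MvPolynomial (Fin n) A') B' :=
    IsScalarTower.of_algebraMap_eq (fun r => by
      rw [IsScalarTower.algebraMap_apply A A' B',
        IsScalarTower.algebraMap_apply A' (MvPolynomial (Fin n) A') B']
      rfl)
  have hpo : Algebra.IsPushout (MvPolynomial (Fin n) A) B (MvPolynomial (Fin n) A') B' :=
    (Algebra.IsPushout.comp_iff A (MvPolynomial (Fin n) A) A' (MvPolynomial (Fin n) A')
      (T := B) (T' := B')).1 inferInstance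
  have hpo' : Algebra.IsPushout A A' (MvPolynomial (Fin n) A) (MvPolynomial (Fin n) A') :=
    Algebra.IsPushout.symm inferInstance
  have hbc : IsBaseChange (MvPolynomial (Fin n) A')
      (IsScalarTower.toAlgHom (MvPolynomial (Fin n) A) B B').toLinearMap := hpo.symm.out
  refine ⟨n, φ', ?_, ?_⟩
  · intro y
    refine hbc.inductionOn y (fun y => ∃ p, φ' p = y) ⟨0, map_zero _⟩ ?_ ?_ ?_
    · intro b
      obtain ⟨p, rfl⟩ := hφ b
      exact ⟨algebraMap (MvPolynomial (Fin n) A) (MvPolynomial (Fin n) A') p,
        (IsScalarTower.algebraMap_apply (MvPolynomial (Fin n) A) (MvPolynomial (Fin n) A') B'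
          p).symm⟩
    · rintro s _ ⟨p, rfl⟩
      exact ⟨s * p, by rw [map_mul]; rfl⟩
    · rintro _ _ ⟨p, rfl⟩ ⟨q, rfl⟩
      exact ⟨p + q, map_add _ _ _⟩
  · have h1 := isPseudoCoherentModule'_baseChange A A' (P := MvPolynomial (Fin n) A)
      (P' := MvPolynomial (Fin n) A') B hB
    obtain ⟨E, b, h1, h2, ⟨i⟩⟩ := h1
    exact ⟨E, b, h1, h2, ⟨i ≪≫
      (DerivedCategory.singleFunctor (ModuleCat.{u} (MvPolynomial (Fin n) A')) 0).mapIso
        hbc.equiv.toModuleIso⟩⟩

end Ring

end Groth.Agent.Lib.TorIndepBC
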