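import Groth.Agent.Lib.TorAmp21
import Groth.Agent.Lib.ModSiteCyclesFlat66
import Groth.Agent.Lib.ModSiteKFlatRes66

/-!
# Flatness and vanishing of `Tor₁` on a scheme (helper21)

* `isZero_tor_of_isFlat`: for `F` flat, `H^i(F ⊗^L G) = 0` for `i ≠ 0`.
* `isFlat_of_tor_one`: if `H^{-1}(F ⊗^L G) = 0` for all `G`, then `F` is flat.
-/

set_option autoImplicit false
universe u v
open CategoryTheory Limits AlgebraicGeometry
attribute [local instance] HasDerivedCategory.standard

namespace Groth.Agent.Lib.TorOne21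

section generic

variable {𝒜 : Type u} [Category.{v} 𝒜] [Abelian 𝒜]

/-- Let `A --a--> B --b--> C --ε--> F` with `a ≫ b = 0`, `(b, ε)` exact.  If `Φ` preserves epimorphisms and zero
morphisms and `(Φ a, Φ b)` is exact, then `Φ (ker ε ⟶ C)` is a monomorphism. -/
theorem mono_map_kernel_ι {ℬ : Type*} [Category ℬ] [Abelian ℬ] (Φ : 𝒜 ⥤ ℬ) [Φ.PreservesZeroMorphisms]
    [Φ.PreservesEpimorphisms]
    {A B C F : 𝒜} (a : A ⟶ B) (b : B ⟶ C) (ε : C ⟶ F) (hab : a ≫ b = 0) (hbε : b ≫ ε = 0)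
    (hex : (ShortComplex.mk b ε hbε).Exact)
    (hΦ : (ShortComplex.mk (Φ.map a) (Φ.map b) (by rw [← Φ.map_comp, hab, Φ.map_zero])).Exact) :
    Mono (Φ.map (kernel.ι ε)) := by
  let t : B ⟶ kernel ε := kernel.lift ε b hbε
  have ht : t ≫ kernel.ι ε = b := kernel.lift_ι _ _ _
  have : Epi t := (ShortComplex.exact_iff_epi_kernel_lift (ShortComplex.mk b ε hbε)).1 hex
  have hat : a ≫ t = 0 := by
    rw [← cancel_mono (kernel.ι ε), Category.assoc, ht, hab, zero_comp]
  have : Epi (Φ.map t) := inferInstance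
  exact Groth.Agent.Lib.ModSiteCyclesFlat66.mono_of_exact_factor (Φ.map a) (Φ.map b)
    (by rw [← Φ.map_comp, hab, Φ.map_zero]) hΦ (𝟙 _) (Φ.map a) (Category.id_comp _)
    (Φ.map t) (Φ.map (kernel.ι ε)) (by rw [← Φ.map_comp, ht])
    (by rw [← Φ.map_comp, hat, Φ.map_zero])

/-- monomorphisms transfer along natural isomorphisms -/
theorem mono_map_of_natIso {A B : Type*} [Category A] [Category B] {Φ Ψ : A ⥤ B} (e : Φ ≅ Ψ)
    {X Y : A} (f : X ⟶ Y) (h : Mono (Φ.map f)) : Mono (Ψ.map f) := by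
  have hn : Ψ.map f = e.inv.app X ≫ Φ.map f ≫ e.hom.app Y := by
    rw [e.hom.naturality, ← Category.assoc, e.inv_hom_id_app, Category.id_comp]
  rw [hn]
  infer_instance

end generic

open Groth.Agent.Lib.ModSiteKFlatBdd66 Groth.Agent.Lib.LTensorMod21 Groth.Agent.Lib.TorAmp21
  Groth.Agent.Lib.ModSiteFlat

variable {X : Scheme.{u}}

/-- the complex `F[0]` -/
noncomputable abbrev sg (F : X.Modules) : CochainComplex X.Modules ℤ :=
  (HomologicalComplex.single X.Modules (ComplexShape.up ℤ) 0).obj F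

/-- `F[0]` in `D(O_X)` is the image of the single complex -/
noncomputable def inDIso (F : X.Modules) :
    DCoh.inD X F ≅ DCoh.toD X (sg F) :=
  (DerivedCategory.singleFunctorIsoCompQ X.Modules 0).app F

theorem isKFlat_single (F : X.Modules) (hF : FlatMod.IsFlat F) :
    ModSite.IsKFlat (O := X.sheaf) (sg F) := by
  refine @isKFlat_of_single_degree _ _ _ X.sheaf (sg F) 0
    (fun q hq => HomologicalComplex.isZero_single_obj_X _ _ _ _ hq) ?_
  exact isFlat_of_iso (HomologicalComplex.singleObjXSelf (ComplexShape.up ℤ) 0 F).symm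
    (Groth.Agent.Lib.StalkFlatBridge66.isFlat_of_stalkwise _ hF)

/-- for `F` flat, `F ⊗^L G` has cohomology only in degree `0` -/
theorem isZero_tor_of_isFlat (F : X.Modules) (hF : FlatMod.IsFlat F) (G : X.Modules)
    [DCoh.HasLTensorMod G] (i : ℤ) (hi : i ≠ 0) :
    IsZero (DCoh.HD ((DCoh.LTensorMod G).obj (DCoh.inD X F)) i) := by
  have h := isZero_HD_of_isZero_X G _ (isKFlat_single F hF) i
    (HomologicalComplex.isZero_single_obj_X _ _ _ _ hi)
  exact h.of_iso ((DerivedCategory.homologyFunctor X.Modules i).mapIso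
    ((DCoh.LTensorMod G).mapIso (inDIso F)))

/-- flat resolution of a module, typed on `X.Modules` -/
theorem exists_flat_resolution_single (F : X.Modules) :
    ∃ (P : CochainComplex X.Modules ℤ) (r : P ⟶ sg F),
      P.IsStrictlyLE 0 ∧ (∀ n, ModSite.IsFlat (O := X.sheaf) (P.X n)) ∧ QuasiIso r := by
  have : (sg F).IsStrictlyLE 0 := inferInstance
  obtain ⟨P, r, hP, hfl, -, hr⟩ := @Groth.Agent.Lib.ModSiteKFlatRes66.exists_flat_resolution _ _ _ X.sheaf
    (sg F) 0 this
  exact ⟨P, r, hP, hfl, hr⟩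

/-- third term of a short exact sequence is flat if the middle one is and `M ⊗ X₁ ⟶ M ⊗ X₂` is a
monomorphism for all `M` -/
theorem isFlat_X₃_of_mono {C : Type u} [SmallCategory C] {J : GrothendieckTopology C}
    (O : Sheaf J CommRingCat.{u}) (S : ShortComplex (ModSite.Mod O)) (hS : S.ShortExact)
    (h₂ : ModSite.IsFlat S.X₂) (h₁ : ∀ M : ModSite.Mod O, Mono (((ModSite.tensorBi O).obj M).map S.f)) :
    ModSite.IsFlat S.X₃ := by
  have h₂' : ((ModSite.tensorBi O).flip.obj S.X₂).PreservesMonomorphisms :=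
    (isFlat_iff_preservesMono_flip S.X₂).1 h₂
  exact (isFlat_iff_preservesMono_flip S.X₃).2
    (Groth.Agent.Lib.ModSiteCyclesFlat66.preservesMono_X₃ (ModSite.tensorBi O) S hS h₂' h₁)

theorem preservesEpimorphisms_flip {C : Type u} [SmallCategory C] {J : GrothendieckTopology C}
    (O : Sheaf J CommRingCat.{u}) (G : ModSite.Mod O) :
    ((ModSite.tensorBi O).flip.obj G).PreservesEpimorphisms := inferInstance

instance (G : X.Modules) : (DCoh.tensorRightMod G).PreservesEpimorphisms := by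
  have : ((ModSite.tensorBi X.sheaf).flip.obj G).PreservesEpimorphisms :=
    preservesEpimorphisms_flip X.sheaf G
  exact @Functor.PreservesEpimorphisms.of_iso _ _ _ _ _ _ this (tensorRightModIso G).symm

/-- **`Tor₁(F, G) = 0` for all `G` implies `F` flat** -/
theorem isFlat_of_tor_one (F : X.Modules)
    (h : ∀ (G : X.Modules) [DCoh.HasLTensorMod G],
      IsZero (DCoh.HD ((DCoh.LTensorMod G).obj (DCoh.inD X F)) (-1))) :
    FlatMod.IsFlat F := by
  obtain ⟨P, r, hP0, hfl, hr⟩ := exists_flat_resolution_single F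
  have hPK : ModSite.IsKFlat (O := X.sheaf) P :=
    @isKFlat_of_isStrictlyLE _ _ _ X.sheaf P 0 hP0 hfl
  have ir : IsIso (DerivedCategory.Q.map r) := inferInstance
  let eP : DCoh.toD X P ≅ DCoh.inD X F :=
    @asIso _ _ _ _ (DerivedCategory.Q.map r) ir ≪≫ (inDIso F).symm
  have key1 : ∀ G : X.Modules, IsZero (((tensorCxMod G).obj P).homology (-1)) := by
    intro G
    have := hasLTensorMod G
    exact ((h G).of_iso ((DerivedCategory.homologyFunctor X.Modules (-1)).mapIso
      ((DCoh.LTensorMod G).mapIso eP))).of_iso (HDIso G P hPK (-1)).symm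
  -- exactness of `P⁻¹ ⟶ P⁰ ⟶ F`
  have q0 : QuasiIsoAt r 0 := hr.quasiIsoAt 0
  rw [quasiIsoAt_iff' r (-1) 0 1 (by simp) (by simp)] at q0
  have hg₁ : (P.sc' (-1) 0 1).g = 0 := (P.isZero_of_isStrictlyLE 0 1 (by omega)).eq_of_tgt _ _
  rw [ShortComplex.quasiIso_iff_of_zeros' _ hg₁
    (HomologicalComplex.single_obj_d (ComplexShape.up ℤ) 0 F (-1) 0)
    (HomologicalComplex.single_obj_d (ComplexShape.up ℤ) 0 F 0 1)] at q0
  obtain ⟨hex, hepi⟩ := q0
  have hepi' : Epi (r.f 0) := hepi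
  have hbε : P.d (-1) 0 ≫ r.f 0 = 0 := by
    rw [← r.comm, (HomologicalComplex.isZero_single_obj_X (ComplexShape.up ℤ) 0 F (-1)
      (by omega)).eq_of_tgt (r.f (-1)) 0, zero_comp]
  have hex' : (ShortComplex.mk (P.d (-1) 0) (r.f 0) hbε).Exact := hex
  have hmono : ∀ G : X.Modules, Mono ((DCoh.tensorRightMod G).map (kernel.ι (r.f 0))) := by
    intro G
    refine mono_map_kernel_ι (DCoh.tensorRightMod G) (P.d (-2) (-1)) (P.d (-1) 0) (r.f 0)
      (P.d_comp_d _ _ _) hbε hex' ?_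
    have := (HomologicalComplex.exactAt_iff' ((tensorCxMod G).obj P) (-2) (-1) 0 (by simp)
      (by simp)).1 ((HomologicalComplex.exactAt_iff_isZero_homology _ _).2 (key1 G))
    exact this
  -- the short exact sequence `0 ⟶ Z ⟶ P⁰ ⟶ F ⟶ 0`
  let S : ShortComplex X.Modules := ShortComplex.mk (kernel.ι (r.f 0)) (r.f 0) (kernel.condition _)
  have hS : S.ShortExact :=
    { exact := ShortComplex.exact_of_f_is_kernel _ (kernelIsKernel (r.f 0))
      mono_f := inferInstanceAs (Mono (kernel.ι (r.f 0)))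
      epi_g := hepi' }
  have h₁ : ∀ M : X.Modules, Mono (((ModSite.tensorBi X.sheaf).obj M).map S.f) := by
    intro M
    exact mono_map_of_natIso
      (tensorRightModIso M ≪≫ (Groth.Agent.Lib.ModSiteTensorSymm66.braidBi X.sheaf).symm.app M)
      (kernel.ι (r.f 0)) (hmono M)
  have h₄ : ModSite.IsFlat (O := X.sheaf) S.X₃ := isFlat_X₃_of_mono X.sheaf S hS (hfl 0) h₁
  exact Groth.Agent.Lib.StalkFlatConverse66.isFlat_stalkwise_of_siteFlat _
    (isFlat_of_iso (HomologicalComplex.singleObjXSelf (ComplexShape.up ℤ) 0 F) h₄)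

end Groth.Agent.Lib.TorOne21
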