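import Groth.Agent.Lib.TorBalance
import Mathlib.CategoryTheory.Abelian.Projective.Dimension

/-!
# Tor vanishes above the projective dimension of the first variable (helper25)

`isZero_tor_of_hasProjectiveDimensionLT`: if `M` has projective dimension `< d + 1` then
`Tor_p(M, N) = 0` for all `p > d` (Mathlib's `Tor`, which resolves `N`; uses the first-variable long
exact sequence of `Lib/TorLES`).
-/

set_option autoImplicit false

universe u

open CategoryTheory MonoidalCategory Limits

namespace Groth.Agent.Lib.TorProjDim

open Groth.Agent.Lib.TorLES Groth.Agent.Lib.TorBalance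

variable {R : Type u} [CommRing R]

theorem isZero_tor_of_hasProjectiveDimensionLT (N : ModuleCat.{u} R) :
    ∀ (d : ℕ) (M : ModuleCat.{u} R), HasProjectiveDimensionLT M (d + 1) →
      ∀ p : ℕ, d < p → IsZero (((Tor (ModuleCat.{u} R) p).obj M).obj N) := by
  intro d
  induction d with
  | zero =>
    intro M hM p hp
    have hM1 : HasProjectiveDimensionLT M 1 := hM
    have hproj : Projective M := projective_iff_hasProjectiveDimensionLT_one.mpr hM1
    have hfl : Module.Flat R M := flat_of_projective M
    obtain ⟨q, rfl⟩ : ∃ q, p = q + 1 := ⟨p - 1, by omega⟩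
    exact isZero_tor_succ_of_flat_left M N q
  | succ d ih =>
    intro M hM p hp
    have hS := projPres_shortExact M
    have hK : HasProjectiveDimensionLT (projPres M).X₁ (d + 1) :=
      (hS.hasProjectiveDimensionLT_X₃_iff d inferInstance).mp hM
    have hF : Module.Flat R (projPres M).X₂ := flat_of_projective _
    obtain ⟨q, rfl⟩ : ∃ q, p = q + 1 + 1 := ⟨p - 2, by omega⟩
    exact (ih (projPres M).X₁ hK (q + 1) (by omega)).of_iso (δIso hS N q)

end Groth.Agent.Lib.TorProjDim
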