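/-
Lib/TorRegSeq (helper25): regular sequences and Tor over a Noetherian local ring.
Main results (namespace Groth.Agent.Lib.TorRegSeq):
* quotMap / exact_smul_quotMap : A/I --a--> A/I --> A/(I+(a)) exact.
* isZero_of_epi_smul : Nakayama for finite modules in ModuleCat (a in m acts surjectively => zero).
* step : Tor-vanishing for A/(I+(a)) iff Tor-vanishing for A/I and a regular on N/IN.
* isWeaklyRegular_iff_tor : for an A-regular sequence rs in the maximal ideal and finite N:
    rs weakly N-regular iff Tor_i(A/(rs), N) = 0 for all i >= 1.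
-/
import Groth.Agent.Lib.TorLinear
import Mathlib.RingTheory.Regular.RegularSequence
import Mathlib.RingTheory.Nakayama
import Mathlib.LinearAlgebra.TensorProduct.Quotient
import Mathlib.RingTheory.LocalRing.MaximalIdeal.Basic

set_option autoImplicit false
universe u
open CategoryTheory MonoidalCategory Limits

namespace Groth.Agent.Lib.TorRegSeq

open Groth.Agent.Lib.TorLES Groth.Agent.Lib.TorBalance Groth.Agent.Lib.TorLinear

variable {A : Type u} [CommRing A]

section ses

variable (I' : Ideal A) (a : A)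

/-- The quotient map `A/I' → A/(I' + (a))`. -/
def quotMap : (A ⧸ I') →ₗ[A] (A ⧸ (I' ⊔ Ideal.span {a})) :=
  Submodule.mapQ I' (I' ⊔ Ideal.span {a}) LinearMap.id (by
    intro x hx
    exact Submodule.mem_sup_left hx)

lemma quotMap_mk (x : A) : quotMap I' a (Submodule.Quotient.mk x) = Submodule.Quotient.mk x := rfl

lemma quotMap_surjective : Function.Surjective (quotMap I' a) := by
  intro y
  obtain ⟨x, rfl⟩ := Submodule.Quotient.mk_surjective _ y
  exact ⟨Submodule.Quotient.mk x, rfl⟩

lemma exact_smul_quotMap :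
    Function.Exact (a • (LinearMap.id : (A ⧸ I') →ₗ[A] (A ⧸ I'))) (quotMap I' a) := by
  intro y
  obtain ⟨x, rfl⟩ := Submodule.Quotient.mk_surjective _ y
  rw [quotMap_mk, Submodule.Quotient.mk_eq_zero]
  constructor
  · intro hx
    obtain ⟨i, hi, z, hz, rfl⟩ := Submodule.mem_sup.mp hx
    obtain ⟨c, rfl⟩ := Ideal.mem_span_singleton'.mp hz
    refine ⟨Submodule.Quotient.mk c, ?_⟩
    rw [LinearMap.smul_apply, LinearMap.id_apply, ← Submodule.Quotient.mk_smul, eq_comm,
      Submodule.Quotient.eq]
    have : i + c * a - a • c = i := by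
      rw [smul_eq_mul]
      ring
    rw [this]
    exact hi
  · rintro ⟨z, hz⟩
    obtain ⟨c, rfl⟩ := Submodule.Quotient.mk_surjective _ z
    rw [LinearMap.smul_apply, LinearMap.id_apply, ← Submodule.Quotient.mk_smul,
      Submodule.Quotient.eq] at hz
    have h1 : x = (x - a • c) + c * a := by
      rw [smul_eq_mul]
      ring
    rw [h1]
    refine Submodule.add_mem_sup ?_ (Ideal.mem_span_singleton'.mpr ⟨c, rfl⟩)
    have := I'.neg_mem hz
    rwa [neg_sub] at this

end ses

section step

variable [IsNoetherianRing A] [IsLocalRing A]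

omit [IsNoetherianRing A] in
/-- Nakayama: a finite module on which `a ∈ 𝔪` acts surjectively is zero. -/
lemma isZero_of_epi_smul (T : ModuleCat.{u} A) [Module.Finite A T] (a : A)
    (ha : a ∈ IsLocalRing.maximalIdeal A) (hepi : Epi (a • 𝟙 T)) : IsZero T := by
  have hsurj : Function.Surjective (a • 𝟙 T : T ⟶ T) := (ModuleCat.epi_iff_surjective _).mp hepi
  have htop : (⊤ : Submodule A T) ≤ Ideal.span {a} • (⊤ : Submodule A T) := by
    intro x _
    obtain ⟨y, rfl⟩ := hsurj x
    change a • y ∈ _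
    exact Submodule.smul_mem_smul (Ideal.mem_span_singleton_self a) Submodule.mem_top
  have hjac : Ideal.span {a} ≤ Ideal.jacobson (⊥ : Ideal A) := by
    rw [IsLocalRing.jacobson_eq_maximalIdeal ⊥ bot_ne_top, Ideal.span_singleton_le_iff_mem]
    exact ha
  have hbot := Submodule.eq_bot_of_le_smul_of_le_jacobson_bot (Ideal.span {a}) ⊤
    Module.Finite.fg_top htop hjac
  have : Subsingleton T := by
    constructor
    intro x y
    have hx : x ∈ (⊤ : Submodule A T) := Submodule.mem_top
    have hy : y ∈ (⊤ : Submodule A T) := Submodule.mem_top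
    rw [hbot, Submodule.mem_bot] at hx hy
    rw [hx, hy]
  exact ModuleCat.isZero_of_subsingleton T

variable (I' : Ideal A) (a : A) (N : Type u) [AddCommGroup N] [Module A N] [Module.Finite A N]

theorem step (ha : a ∈ IsLocalRing.maximalIdeal A) (hreg : IsSMulRegular (A ⧸ I') a) :
    ((∀ i : ℕ, 1 ≤ i → IsZero (((Tor (ModuleCat.{u} A) i).obj (ModuleCat.of A (A ⧸ I'))).obj
        (ModuleCat.of A N))) ∧
      IsSMulRegular (N ⧸ (I' • (⊤ : Submodule A N))) a) ↔
    ∀ i : ℕ, 1 ≤ i → IsZero (((Tor (ModuleCat.{u} A) i).obj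
      (ModuleCat.of A (A ⧸ (I' ⊔ Ideal.span {a})))).obj (ModuleCat.of A N)) := by
  let X : ModuleCat.{u} A := ModuleCat.of A (A ⧸ I')
  let NN : ModuleCat.{u} A := ModuleCat.of A N
  have hzero : (a • 𝟙 X) ≫ ModuleCat.ofHom (quotMap I' a) = 0 :=
    ModuleCat.hom_ext (LinearMap.ext fun x => (exact_smul_quotMap I' a).apply_apply_eq_zero x)
  let S : ShortComplex (ModuleCat.{u} A) := ShortComplex.mk (a • 𝟙 X)
    (ModuleCat.ofHom (quotMap I' a)) hzero
  have hS : S.ShortExact :=
    ModuleCat.shortComplex_shortExact S (exact_smul_quotMap I' a) hreg (quotMap_surjective I' a)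
  let P := ProjectiveResolution.of NN
  have hmap : ∀ n, ((Tor (ModuleCat.{u} A) n).map S.f).app NN =
      a • 𝟙 (((Tor (ModuleCat.{u} A) n).obj X).obj NN) := by
    intro n
    change ((Tor (ModuleCat.{u} A) n).map (a • 𝟙 X)).app NN = _
    rw [tor_map_smul_app, CategoryTheory.Functor.map_id, NatTrans.id_app]
  -- a-regularity on N / I'N vs on Tor_0
  let e : (((Tor (ModuleCat.{u} A) 0).obj X).obj NN) ≃ₗ[A] N ⧸ (I' • (⊤ : Submodule A N)) :=
    (torZeroIso X NN).toLinearEquiv ≪≫ₗ TensorProduct.quotTensorEquivQuotSMul N I'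
  have hreg_iff : IsSMulRegular (N ⧸ (I' • (⊤ : Submodule A N))) a ↔
      Mono (a • 𝟙 (((Tor (ModuleCat.{u} A) 0).obj X).obj NN)) := by
    rw [← e.isSMulRegular_congr a, ModuleCat.mono_iff_injective]
    rfl
  constructor
  · rintro ⟨hT', hregN⟩ i hi
    obtain ⟨j, rfl⟩ : ∃ j, i = j + 1 := ⟨i - 1, by omega⟩
    cases j with
    | zero =>
      have hδmono : Mono (δ P hS 0) :=
        (exact₃ P hS 0).mono_g ((hT' 1 le_rfl).eq_of_src _ _)
      have hm : Mono (((Tor (ModuleCat.{u} A) 0).map S.f).app NN) := by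
        rw [hmap]
        exact hreg_iff.mp hregN
      have hδ0 : δ P hS 0 = 0 := by
        rw [← cancel_mono (((Tor (ModuleCat.{u} A) 0).map S.f).app NN), zero_comp]
        exact δ_comp P hS 0
      exact IsZero.of_mono_eq_zero _ hδ0
    | succ j =>
      exact isZero_tor_X₃ hS (j + 1) (hT' _ (by omega)) (hT' _ (by omega))
  · intro hT
    have hT' : ∀ i : ℕ, 1 ≤ i → IsZero (((Tor (ModuleCat.{u} A) i).obj X).obj NN) := by
      intro i hi
      have hfin : Module.Finite A (((Tor (ModuleCat.{u} A) i).obj X).obj NN) :=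
        finite_tor NN i X (inferInstanceAs (Module.Finite A (A ⧸ I')))
      refine isZero_of_epi_smul _ a ha ?_
      rw [← hmap i]
      exact (exact₂ (N := NN) hS i).epi_f ((hT i hi).eq_of_tgt _ _)
    refine ⟨hT', hreg_iff.mpr ?_⟩
    rw [← hmap 0]
    exact (exact₁ P hS 0).mono_g ((hT 1 le_rfl).eq_of_src _ _)

/-- Over a Noetherian local ring, for an `A`-regular sequence `rs` in the maximal ideal and a finite
module `N`: `rs` is weakly `N`-regular iff `Tor_i(A/(rs), N) = 0` for all `i ≥ 1`. -/
theorem isWeaklyRegular_iff_tor :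
    ∀ rs : List A, (∀ r ∈ rs, r ∈ IsLocalRing.maximalIdeal A) →
      RingTheory.Sequence.IsWeaklyRegular A rs →
      (RingTheory.Sequence.IsWeaklyRegular N rs ↔
        ∀ i : ℕ, 1 ≤ i → IsZero (((Tor (ModuleCat.{u} A) i).obj
          (ModuleCat.of A (A ⧸ Ideal.ofList rs))).obj (ModuleCat.of A N))) := by
  intro rs
  induction rs using List.reverseRecOn with
  | nil =>
    intro _ _
    refine iff_of_true (RingTheory.Sequence.IsWeaklyRegular.nil A N) ?_
    intro i hi
    obtain ⟨j, rfl⟩ : ∃ j, i = j + 1 := ⟨i - 1, by omega⟩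
    have hfl : Module.Flat A (A ⧸ Ideal.ofList ([] : List A)) := by
      rw [Ideal.ofList_nil]
      exact Module.Flat.of_linearEquiv (Submodule.quotEquivOfEqBot (⊥ : Ideal A) rfl)
    have hfl' : Module.Flat A (ModuleCat.of A (A ⧸ Ideal.ofList ([] : List A))) := hfl
    exact isZero_tor_succ_of_flat_left _ _ j
  | append_singleton rs' a ih =>
    intro hmem hA
    have hmem' : ∀ r ∈ rs', r ∈ IsLocalRing.maximalIdeal A := fun r hr =>
      hmem r (List.mem_append_left _ hr)
    have ha : a ∈ IsLocalRing.maximalIdeal A := hmem a (by simp)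
    rw [RingTheory.Sequence.isWeaklyRegular_append_iff,
      RingTheory.Sequence.isWeaklyRegular_singleton_iff] at hA
    have hregA : IsSMulRegular (A ⧸ Ideal.ofList rs') a := by
      have h1 : (Ideal.ofList rs' • (⊤ : Submodule A A)) = Ideal.ofList rs' := by
        rw [smul_eq_mul, Ideal.mul_top]
      exact ((Submodule.quotEquivOfEq _ _ h1).isSMulRegular_congr a).mp hA.2
    rw [RingTheory.Sequence.isWeaklyRegular_append_iff,
      RingTheory.Sequence.isWeaklyRegular_singleton_iff, ih hmem' hA.1,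
      step (Ideal.ofList rs') a N ha hregA]
    have hI : Ideal.ofList (rs' ++ [a]) = Ideal.ofList rs' ⊔ Ideal.span {a} := by
      rw [Ideal.ofList_append, Ideal.ofList_singleton]
    rw [hI]

end step

end Groth.Agent.Lib.TorRegSeq
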