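import Groth.Agent.Lib.EtColimRecog34
import Groth.Agent.Lib.ConstrCompact34
import Mathlib.CategoryTheory.EssentiallySmall

/-!
# Torsion abelian etale sheaves on qcqs schemes are filtered colimits of constructible sheaves
(helper34)

`CO F`: the category of constructible sheaves over `F` (filtered, essentially `(u+1)`-small via the
presentation theorem).  `exists_filtered_colimit` (= S0134).
-/

set_option autoImplicit false
universe u

open CategoryTheory CategoryTheory.Limits AlgebraicGeometry Opposite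
open scoped ZeroObject

namespace Groth.Agent.Lib.TorsColim34

open Groth.Agent.Lib.ExtZeroMV34 Groth.Agent.Lib.TorsNoeth34 Groth.Agent.Lib.ConstrPres34
  Groth.Agent.Lib.ConstrCompact34 Groth.Agent.Lib.ExtZeroConstr34 Groth.Agent.Lib.EtGerm
  Groth.Agent.Lib.EtStalkPullGerm Groth.Agent.Lib.EtConstr22

variable {X : Scheme.{u}}

/-- a torsion section over a quasi-compact etale scheme is killed by a positive integer -/
theorem exists_nsmul_eq_zero {C : EtCoh.Ab X} (hC : EtCoh.IsTorsion C) (U : X.Etale)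
    [CompactSpace U.left] (t : EtCoh.sect C U) : ∃ n : ℕ, 0 < n ∧ n • t = 0 := by
  classical
  have h1 := fun x : U.left => hC U t x
  choose V g hx hfin using h1
  have h2 := fun x => (hfin x).exists_nsmul_eq_zero
  choose m hm hmt using h2
  have hopen : ∀ x, IsOpen (Set.range (g x).left) := fun x => by
    haveI : Etale (g x).left := Groth.Agent.Lib.EtOverSite22.etale_left (g x)
    exact (g x).left.isOpenMap.isOpen_range
  obtain ⟨s, hs⟩ := isCompact_univ.elim_finite_subcover (fun x => Set.range (g x).left) hopen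
    (fun x _ => by
      obtain ⟨v, hv⟩ := hx x
      exact Set.mem_iUnion.2 ⟨x, v, hv⟩)
  refine ⟨∏ x ∈ s, m x, Finset.prod_pos (fun x _ => hm x), ?_⟩
  apply section_eq_zero_of_forall_pt
  intro u
  obtain ⟨x, hxs, hux⟩ : ∃ x ∈ s, u ∈ Set.range (g x).left := by
    simpa using hs (Set.mem_univ u)
  refine ⟨V x, g x, hux, ?_⟩
  rw [map_nsmul]
  obtain ⟨k, hk⟩ := Finset.dvd_prod_of_mem m hxs
  rw [hk, mul_comm, mul_nsmul', hmt, nsmul_zero]

variable [CompactSpace X] [QuasiSeparatedSpace X] (F : EtCoh.Ab X)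

/-- objects of `Over F` with constructible source -/
def PC : ObjectProperty (Over F) := fun Y => EtPBC.IsConstructible Y.left

/-- the category of constructible sheaves over `F` -/
abbrev CO := (PC F).FullSubcategory

variable {F}

/-- constructor -/
def CO.mk (C : EtCoh.Ab X) (hC : EtPBC.IsConstructible C) (ψ : C ⟶ F) : CO F := ⟨Over.mk ψ, hC⟩

/-- morphisms of `CO F` from morphisms of sheaves over `F` -/
def CO.homMk {Y Z : CO F} (f : Y.obj.left ⟶ Z.obj.left) (w : f ≫ Z.obj.hom = Y.obj.hom) : Y ⟶ Z :=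
  ObjectProperty.homMk (Over.homMk f w)

lemma CO.homMk_left {Y Z : CO F} (f : Y.obj.left ⟶ Z.obj.left)
    (w : f ≫ Z.obj.hom = Y.obj.hom) : (CO.homMk f w).hom.left = f := rfl

lemma CO.hom_w {Y Z : CO F} (q : Y ⟶ Z) : q.hom.left ≫ Z.obj.hom = Y.obj.hom := Over.w q.hom

lemma CO.hom_ext {Y Z : CO F} (f g : Y ⟶ Z) (h : f.hom.left = g.hom.left) : f = g := by
  apply ObjectProperty.hom_ext
  exact Over.OverMorphism.ext h

instance : IsFiltered (CO F) where
  cocone_objs Y Z := by
    refine ⟨CO.mk (Y.obj.left ⊞ Z.obj.left) (isConstructible_biprod Y.property Z.property)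
      (biprod.desc Y.obj.hom Z.obj.hom), CO.homMk biprod.inl ?_, CO.homMk biprod.inr ?_, trivial⟩
    · exact biprod.inl_desc _ _
    · exact biprod.inr_desc _ _
  cocone_maps Y Z f g := by
    have hw : (f.hom.left - g.hom.left) ≫ Z.obj.hom = 0 := by
      rw [Preadditive.sub_comp, CO.hom_w, CO.hom_w, sub_self]
    refine ⟨CO.mk (cokernel (f.hom.left - g.hom.left))
      (isConstructible_ker_coker _ Y.property Z.property).2
      (cokernel.desc _ Z.obj.hom hw), CO.homMk (cokernel.π _) (cokernel.π_desc _ _ _), ?_⟩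
    apply CO.hom_ext
    show f.hom.left ≫ cokernel.π _ = g.hom.left ≫ cokernel.π _
    rw [← sub_eq_zero, ← Preadditive.sub_comp, cokernel.condition]
  nonempty := ⟨CO.mk 0 (isConstructible_of_isZero (isZero_zero _)) 0⟩

variable (F)

/-- presentation data over `F` -/
structure PD : Type (u + 1) where
  a : ℕ
  b : ℕ
  U : Fin a → X.Etale
  V : Fin b → X.Etale
  n : Fin a → ℕ
  m : Fin b → ℕ
  hU : ∀ i, 0 < n i ∧ IsAffine (U i).left
  hV : ∀ j, 0 < m j ∧ IsAffine (V j).left
  φ : (⨁ fun j => EtPBC.extZeroConst (V j) (ZMod (m j))) ⟶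
    (⨁ fun i => EtPBC.extZeroConst (U i) (ZMod (n i)))
  ψ : cokernel φ ⟶ F

variable {F}

/-- the object of `CO F` attached to presentation data -/
noncomputable def PD.toCO (d : PD F) : CO F :=
  CO.mk (cokernel d.φ)
    (isConstructible_of_presentation _ d.U d.V d.n d.m d.hU d.hV d.φ (Iso.refl _)) d.ψ

lemma exists_pd_iso (Y : CO F) : ∃ d : PD F, Nonempty (d.toCO ≅ Y) := by
  obtain ⟨a, b, U, V, n, m, hU, hV, φ, ⟨e⟩⟩ := exists_presentationV Y.obj.left Y.property
  refine ⟨⟨a, b, U, V, n, m, hU, hV, φ, e.inv ≫ Y.obj.hom⟩, ⟨?_⟩⟩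
  exact ObjectProperty.isoMk _ (Over.isoMk e.symm (by simp [PD.toCO, CO.mk]))

instance : EssentiallySmall.{u + 1} (CO F) := by
  rw [essentiallySmall_iff]
  refine ⟨?_, inferInstance⟩
  refine small_of_surjective (f := fun d : PD F => toSkeleton d.toCO) ?_
  intro y
  obtain ⟨d, ⟨e⟩⟩ := exists_pd_iso ((fromSkeleton (CO F)).obj y)
  exact ⟨d, toSkeleton_eq_iff.2 ⟨e⟩⟩

/-- a section of a constructible sheaf over `F` dying in `F` dies in a further quotient -/
theorem exists_hom_kill (Y : CO F) (U : X.Etale) [CompactSpace U.left]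
    [QuasiSeparatedSpace U.left] (t : Y.obj.left.obj.obj (op U))
    (ht : Y.obj.hom.hom.app (op U) t = 0) :
    ∃ (Z : CO F) (q : Y ⟶ Z), q.hom.left.hom.app (op U) t = 0 := by
  obtain ⟨n, hn, hnt⟩ := exists_nsmul_eq_zero
    (isTorsion_of_isConstructible _ Y.property) U t
  haveI : NeZero n := ⟨hn.ne'⟩
  let σ : R (ZMod n) U ⟶ Y.obj.left := secMap Y.obj.left U n t hnt
  have hσ : σ ≫ Y.obj.hom = 0 := by
    apply R_hom_ext
    show Y.obj.hom.hom.app (op U) (σ.hom.app (op U) _) = (0 : R (ZMod n) U ⟶ F).hom.app (op U) _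
    rw [secMap_univ, ht]
    rfl
  have hR : EtPBC.IsConstructible (R (ZMod n) U) := isConstructible_extZeroConst U (ZMod n)
  refine ⟨CO.mk (cokernel σ) (isConstructible_ker_coker σ hR Y.property).2
    (cokernel.desc σ Y.obj.hom hσ), CO.homMk (cokernel.π σ) (cokernel.π_desc _ _ _), ?_⟩
  rw [CO.homMk_left, ← secMap_univ Y.obj.left U n t hnt]
  have h1 : (σ ≫ cokernel.π σ).hom.app (op U) (univ (ZMod n) U (ULift.up 1)) = 0 := by
    rw [cokernel.condition]; rfl
  exact h1

/-- every section of a torsion sheaf comes, locally, from a constructible sheaf over it -/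
theorem exists_lift_section (hF : EtCoh.IsTorsion F) (U : X.Etale) (s : F.obj.obj (op U))
    (x : U.left) : ∃ (W : X.Etale) (g : W ⟶ U), CompactSpace W.left ∧
      QuasiSeparatedSpace W.left ∧ x ∈ Set.range g.left ∧
      ∃ (Y : CO F) (t : Y.obj.left.obj.obj (op W)),
        Y.obj.hom.hom.app (op W) t = F.obj.map g.op s := by
  obtain ⟨V, g, ⟨v, hv⟩, hfin⟩ := hF U s x
  obtain ⟨A, hA, hvA⟩ := exists_affine_nbhd V v
  haveI : IsAffine (openSub V A).left := hA
  obtain ⟨n, hn, hns⟩ := hfin.exists_nsmul_eq_zero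
  haveI : NeZero n := ⟨hn.ne'⟩
  have hns' : n • F.obj.map (openSubι V A ≫ g).op s = 0 := by
    rw [op_comp, Functor.map_comp]
    show n • (F.obj.map (openSubι V A).op) (F.obj.map g.op s) = 0
    rw [← map_nsmul, hns, map_zero]
  refine ⟨openSub V A, openSubι V A ≫ g, inferInstance, inferInstance, ⟨⟨v, hvA⟩, ?_⟩,
    CO.mk (R (ZMod n) (openSub V A)) (isConstructible_extZeroConst _ (ZMod n))
      (secMap F (openSub V A) n _ hns'), univ (ZMod n) (openSub V A) (ULift.up 1), ?_⟩
  · rw [← hv]; rfl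
  · exact secMap_univ F _ n _ hns'

variable (F)

/-- **Torsion sheaves are filtered colimits of constructible sheaves** (S0134). -/
theorem exists_filtered_colimit (hF : EtCoh.IsTorsion F) :
    ∃ (J : Type (u + 1)) (_ : SmallCategory J) (_ : IsFiltered J) (D : J ⥤ EtCoh.Ab X)
      (c : Cocone D) (_ : IsColimit c),
      (∀ j, EtPBC.IsConstructible (D.obj j)) ∧ Nonempty (c.pt ≅ F) := by
  let e : CO F ≌ SmallModel.{u + 1} (CO F) := equivSmallModel (CO F)
  haveI : IsFiltered (SmallModel.{u + 1} (CO F)) := IsFiltered.of_equivalence e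
  let D : SmallModel.{u + 1} (CO F) ⥤ EtCoh.Ab X := e.inverse ⋙ (PC F).ι ⋙ Over.forget F
  let c : Cocone D := (Over.forgetCocone F).whisker (e.inverse ⋙ (PC F).ι)
  have hc : Nonempty (IsColimit c) := by
    apply Groth.Agent.Lib.EtColimRecog34.isColimit_of_locally_et
    · intro j U hU1 hU2 t ht
      obtain ⟨Z, q, hq⟩ := exists_hom_kill (e.inverse.obj j) U t ht
      refine ⟨e.functor.obj Z, e.counitInv.app j ≫ e.functor.map q, ?_⟩
      have h1 : e.inverse.map (e.counitInv.app j ≫ e.functor.map q) = q ≫ e.unit.app Z := by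
        rw [Functor.map_comp, ← e.unit_app_inverse]
        exact (e.unit.naturality q).symm
      show (e.inverse.map (e.counitInv.app j ≫ e.functor.map q)).hom.left.hom.app (op U) t = 0
      rw [h1]
      show (e.unit.app Z).hom.left.hom.app (op U) (q.hom.left.hom.app (op U) t) = 0
      rw [hq, map_zero]
    · intro U hU1 hU2 s x
      obtain ⟨W, g, hW1, hW2, hx, Y, t, ht⟩ := exists_lift_section hF U s x
      refine ⟨W, g, hW1, hW2, hx, e.functor.obj Y, (e.unit.app Y).hom.left.hom.app (op W) t, ?_⟩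
      have h1 : (e.unit.app Y).hom.left ≫ (e.inverse.obj (e.functor.obj Y)).obj.hom = Y.obj.hom :=
        CO.hom_w (e.unit.app Y)
      refine Eq.trans ?_ ht
      show ((e.unit.app Y).hom.left ≫ (e.inverse.obj (e.functor.obj Y)).obj.hom).hom.app (op W) t =
        Y.obj.hom.hom.app (op W) t
      rw [h1]
  obtain ⟨hc⟩ := hc
  exact ⟨SmallModel.{u + 1} (CO F), inferInstance, inferInstance, D, c, hc,
    fun j => (e.inverse.obj j).property, ⟨Iso.refl _⟩⟩

end Groth.Agent.Lib.TorsColim34
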