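import Groth.Agent.Lib.TorsColim34

/-!
# Torsion sheaves as filtered colimits of constructible sheaves with an extra property (helper34)

`P : ObjectProperty (EtCoh.Ab X)` admissible (`Adm`: implies constructible, contains `0`, closed
under `⊞` and under cokernels of maps from constructible sheaves).  If every map `C ⟶ F` from a
constructible sheaf factors through an object of `P` (`Fac`), then the torsion sheaf `F` is a filtered
colimit of objects of `P` (`exists_filtered_colimit_of`).
-/

set_option autoImplicit false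
universe u

open CategoryTheory CategoryTheory.Limits AlgebraicGeometry Opposite
open scoped ZeroObject

namespace Groth.Agent.Lib.TorsColimP34

open Groth.Agent.Lib.ExtZeroMV34 Groth.Agent.Lib.TorsNoeth34 Groth.Agent.Lib.ConstrPres34
  Groth.Agent.Lib.ConstrCompact34 Groth.Agent.Lib.ExtZeroConstr34 Groth.Agent.Lib.EtGerm
  Groth.Agent.Lib.EtStalkPullGerm Groth.Agent.Lib.EtConstr22 Groth.Agent.Lib.TorsColim34

variable {X : Scheme.{u}} [CompactSpace X] [QuasiSeparatedSpace X]

/-- admissible properties of constructible sheaves -/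
structure Adm (P : ObjectProperty (EtCoh.Ab X)) : Prop where
  constr : ∀ {C : EtCoh.Ab X}, P C → EtPBC.IsConstructible C
  zero : P (0 : EtCoh.Ab X)
  biprod : ∀ {C C' : EtCoh.Ab X}, P C → P C' → P (C ⊞ C')
  coker : ∀ {C'' C : EtCoh.Ab X} (f : C'' ⟶ C), EtPBC.IsConstructible C'' → P C → P (cokernel f)

variable (F : EtCoh.Ab X) (P : ObjectProperty (EtCoh.Ab X))

/-- every map from a constructible sheaf to `F` factors through an object of `P` -/
def Fac : Prop :=
  ∀ (C : EtCoh.Ab X), EtPBC.IsConstructible C → ∀ ψ : C ⟶ F,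
    ∃ (C' : EtCoh.Ab X) (_ : P C') (q : C ⟶ C') (ψ' : C' ⟶ F), q ≫ ψ' = ψ

/-- objects of `Over F` with source in `P` -/
def PCP : ObjectProperty (Over F) := fun Y => P Y.left

/-- the category of `P`-sheaves over `F` -/
abbrev COP := (PCP F P).FullSubcategory

variable {F P}

/-- constructor -/
def COP.mk (C : EtCoh.Ab X) (hC : P C) (ψ : C ⟶ F) : COP F P := ⟨Over.mk ψ, hC⟩

/-- morphisms of `COP F P` from morphisms of sheaves over `F` -/
def COP.homMk {Y Z : COP F P} (f : Y.obj.left ⟶ Z.obj.left) (w : f ≫ Z.obj.hom = Y.obj.hom) :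
    Y ⟶ Z :=
  ObjectProperty.homMk (Over.homMk f w)

lemma COP.homMk_left {Y Z : COP F P} (f : Y.obj.left ⟶ Z.obj.left)
    (w : f ≫ Z.obj.hom = Y.obj.hom) : (COP.homMk f w).hom.left = f := rfl

lemma COP.hom_w {Y Z : COP F P} (q : Y ⟶ Z) : q.hom.left ≫ Z.obj.hom = Y.obj.hom := Over.w q.hom

lemma COP.hom_ext {Y Z : COP F P} (f g : Y ⟶ Z) (h : f.hom.left = g.hom.left) : f = g := by
  apply ObjectProperty.hom_ext
  exact Over.OverMorphism.ext h

theorem isFiltered (hP : Adm P) : IsFiltered (COP F P) where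
  cocone_objs Y Z := by
    refine ⟨COP.mk (Y.obj.left ⊞ Z.obj.left) (hP.biprod Y.property Z.property)
      (biprod.desc Y.obj.hom Z.obj.hom), COP.homMk biprod.inl ?_, COP.homMk biprod.inr ?_, trivial⟩
    · exact biprod.inl_desc _ _
    · exact biprod.inr_desc _ _
  cocone_maps Y Z f g := by
    have hw : (f.hom.left - g.hom.left) ≫ Z.obj.hom = 0 := by
      rw [Preadditive.sub_comp, COP.hom_w, COP.hom_w, sub_self]
    refine ⟨COP.mk (cokernel (f.hom.left - g.hom.left))
      (hP.coker _ (hP.constr Y.property) Z.property)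
      (cokernel.desc _ Z.obj.hom hw), COP.homMk (cokernel.π _) (cokernel.π_desc _ _ _), ?_⟩
    apply COP.hom_ext
    show f.hom.left ≫ cokernel.π _ = g.hom.left ≫ cokernel.π _
    rw [← sub_eq_zero, ← Preadditive.sub_comp, cokernel.condition]
  nonempty := ⟨COP.mk 0 hP.zero 0⟩

lemma pcp_le (hP : Adm P) : PCP F P ≤ PC F := fun _ h => hP.constr h

theorem essentiallySmall (hP : Adm P) : EssentiallySmall.{u + 1} (COP F P) :=
  essentiallySmall_of_fully_faithful (ObjectProperty.ιOfLE (pcp_le hP))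

/-- a section of a `P`-sheaf over `F` dying in `F` dies in a further quotient -/
theorem exists_hom_kill (hP : Adm P) (Y : COP F P) (U : X.Etale) [CompactSpace U.left]
    [QuasiSeparatedSpace U.left] (t : Y.obj.left.obj.obj (op U))
    (ht : Y.obj.hom.hom.app (op U) t = 0) :
    ∃ (Z : COP F P) (q : Y ⟶ Z), q.hom.left.hom.app (op U) t = 0 := by
  obtain ⟨n, hn, hnt⟩ := exists_nsmul_eq_zero
    (isTorsion_of_isConstructible _ (hP.constr Y.property)) U t
  haveI : NeZero n := ⟨hn.ne'⟩
  let σ : R (ZMod n) U ⟶ Y.obj.left := secMap Y.obj.left U n t hnt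
  have hσ : σ ≫ Y.obj.hom = 0 := by
    apply R_hom_ext
    show Y.obj.hom.hom.app (op U) (σ.hom.app (op U) _) = (0 : R (ZMod n) U ⟶ F).hom.app (op U) _
    rw [secMap_univ, ht]
    rfl
  have hR : EtPBC.IsConstructible (R (ZMod n) U) := isConstructible_extZeroConst U (ZMod n)
  refine ⟨COP.mk (cokernel σ) (hP.coker σ hR Y.property)
    (cokernel.desc σ Y.obj.hom hσ), COP.homMk (cokernel.π σ) (cokernel.π_desc _ _ _), ?_⟩
  rw [COP.homMk_left, ← secMap_univ Y.obj.left U n t hnt]
  have h1 : (σ ≫ cokernel.π σ).hom.app (op U) (univ (ZMod n) U (ULift.up 1)) = 0 := by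
    rw [cokernel.condition]; rfl
  exact h1

/-- every section of a torsion sheaf comes, locally, from a `P`-sheaf over it -/
theorem exists_lift_section (hfac : Fac F P) (hF : EtCoh.IsTorsion F) (U : X.Etale)
    (s : F.obj.obj (op U)) (x : U.left) : ∃ (W : X.Etale) (g : W ⟶ U), CompactSpace W.left ∧
      QuasiSeparatedSpace W.left ∧ x ∈ Set.range g.left ∧
      ∃ (Y : COP F P) (t : Y.obj.left.obj.obj (op W)),
        Y.obj.hom.hom.app (op W) t = F.obj.map g.op s := by
  obtain ⟨W, g, hW1, hW2, hx, Y, t, ht⟩ := TorsColim34.exists_lift_section hF U s x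
  obtain ⟨C', hC', q, ψ', hq⟩ := hfac Y.obj.left Y.property Y.obj.hom
  refine ⟨W, g, hW1, hW2, hx, COP.mk C' hC' ψ', q.hom.app (op W) t, ?_⟩
  refine Eq.trans ?_ ht
  show (q ≫ ψ').hom.app (op W) t = _
  rw [hq]

variable (F P)

/-- **Torsion sheaves are filtered colimits of `P`-sheaves.** -/
theorem exists_filtered_colimit_of (hP : Adm P) (hfac : Fac F P) (hF : EtCoh.IsTorsion F) :
    ∃ (J : Type (u + 1)) (_ : SmallCategory J) (_ : IsFiltered J) (D : J ⥤ EtCoh.Ab X)
      (c : Cocone D) (_ : IsColimit c), (∀ j, P (D.obj j)) ∧ Nonempty (c.pt ≅ F) := by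
  haveI := isFiltered (F := F) hP
  haveI := essentiallySmall (F := F) hP
  let e : COP F P ≌ SmallModel.{u + 1} (COP F P) := equivSmallModel (COP F P)
  haveI : IsFiltered (SmallModel.{u + 1} (COP F P)) := IsFiltered.of_equivalence e
  let D : SmallModel.{u + 1} (COP F P) ⥤ EtCoh.Ab X := e.inverse ⋙ (PCP F P).ι ⋙ Over.forget F
  let c : Cocone D := (Over.forgetCocone F).whisker (e.inverse ⋙ (PCP F P).ι)
  have hc : Nonempty (IsColimit c) := by
    apply Groth.Agent.Lib.EtColimRecog34.isColimit_of_locally_et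
    · intro j U hU1 hU2 t ht
      obtain ⟨Z, q, hq⟩ := exists_hom_kill hP (e.inverse.obj j) U t ht
      refine ⟨e.functor.obj Z, e.counitInv.app j ≫ e.functor.map q, ?_⟩
      have h1 : e.inverse.map (e.counitInv.app j ≫ e.functor.map q) = q ≫ e.unit.app Z := by
        rw [Functor.map_comp, ← e.unit_app_inverse]
        exact (e.unit.naturality q).symm
      show (e.inverse.map (e.counitInv.app j ≫ e.functor.map q)).hom.left.hom.app (op U) t = 0
      rw [h1]
      show (e.unit.app Z).hom.left.hom.app (op U) (q.hom.left.hom.app (op U) t) = 0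
      rw [hq, map_zero]
    · intro U hU1 hU2 s x
      obtain ⟨W, g, hW1, hW2, hx, Y, t, ht⟩ := exists_lift_section hfac hF U s x
      refine ⟨W, g, hW1, hW2, hx, e.functor.obj Y, (e.unit.app Y).hom.left.hom.app (op W) t, ?_⟩
      have h1 : (e.unit.app Y).hom.left ≫ (e.inverse.obj (e.functor.obj Y)).obj.hom = Y.obj.hom :=
        COP.hom_w (e.unit.app Y)
      refine Eq.trans ?_ ht
      show ((e.unit.app Y).hom.left ≫ (e.inverse.obj (e.functor.obj Y)).obj.hom).hom.app (op W) t =
        Y.obj.hom.hom.app (op W) t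
      rw [h1]
  obtain ⟨hc⟩ := hc
  exact ⟨SmallModel.{u + 1} (COP F P), inferInstance, inferInstance, D, c, hc,
    fun j => (e.inverse.obj j).property, ⟨Iso.refl _⟩⟩

end Groth.Agent.Lib.TorsColimP34
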