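import Mathlib.RingTheory.Flat.Basic
import Mathlib.RingTheory.Ideal.Maps
import Mathlib.RingTheory.Ideal.Quotient.Operations
import Mathlib.RingTheory.TensorProduct.Basic
import Mathlib.RingTheory.Ideal.Maximal

/-!
# Base change of power torsion modules (helper25)

`A → B` with `A → B/IB` surjective with kernel `I`; `T` an `I`-power torsion `A`-module. Then
`T → B ⊗[A] T` is surjective (`surjective_one_tmul`), and bijective if `B` is flat
(`bijective_one_tmul`).
-/

set_option autoImplicit false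
universe u v

open scoped TensorProduct

namespace Groth.Agent.Lib.TorsionBaseChange

variable {A B : Type*} [CommRing A] [CommRing B] [Algebra A B] (I : Ideal A)
  (hs : Function.Surjective
    ((Ideal.Quotient.mk (I.map (algebraMap A B))).comp (algebraMap A B)))

include hs in
lemma exists_sub_mem (b : B) : ∃ a : A, b - algebraMap A B a ∈ I.map (algebraMap A B) := by
  obtain ⟨a, ha⟩ := hs (Ideal.Quotient.mk _ b)
  refine ⟨a, ?_⟩
  rw [← Ideal.Quotient.eq]
  exact ha.symm

include hs in
/-- elements of `JB` are congruent mod `(I * J)B` to images of elements of `J`. -/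
lemma exists_sub_mem_of_mem_map (J : Ideal A) (y : B) (hy : y ∈ J.map (algebraMap A B)) :
    ∃ a ∈ J, y - algebraMap A B a ∈ (I * J).map (algebraMap A B) := by
  induction hy using Submodule.span_induction with
  | mem x hx =>
    obtain ⟨c, hc, rfl⟩ := hx
    exact ⟨c, hc, by rw [sub_self]; exact Ideal.zero_mem _⟩
  | zero => exact ⟨0, J.zero_mem, by rw [map_zero, sub_zero]; exact Ideal.zero_mem _⟩
  | add x y _ _ hx hy =>
    obtain ⟨a1, h1, h1'⟩ := hx
    obtain ⟨a2, h2, h2'⟩ := hy
    refine ⟨a1 + a2, J.add_mem h1 h2, ?_⟩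
    have : x + y - algebraMap A B (a1 + a2) =
        (x - algebraMap A B a1) + (y - algebraMap A B a2) := by rw [map_add]; ring
    rw [this]
    exact Ideal.add_mem _ h1' h2'
  | smul b' x hx ih =>
    obtain ⟨a, ha, ha'⟩ := ih
    obtain ⟨a'', ha''⟩ := exists_sub_mem I hs b'
    refine ⟨a'' * a, J.mul_mem_left _ ha, ?_⟩
    have : b' • x - algebraMap A B (a'' * a) =
        algebraMap A B a'' * (x - algebraMap A B a) + (b' - algebraMap A B a'') * x := by
      rw [map_mul, smul_eq_mul]; ring
    rw [this]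
    refine Ideal.add_mem _ (Ideal.mul_mem_left _ _ ha') ?_
    rw [Ideal.map_mul]
    exact Ideal.mul_mem_mul ha'' hx

include hs in
lemma exists_sub_mem_pow (n : ℕ) (b : B) :
    ∃ a : A, b - algebraMap A B a ∈ (I ^ n).map (algebraMap A B) := by
  induction n with
  | zero =>
    refine ⟨0, ?_⟩
    rw [pow_zero, Ideal.one_eq_top, Ideal.map_top]
    exact Submodule.mem_top
  | succ n ih =>
    obtain ⟨a, ha⟩ := ih
    obtain ⟨a', _, ha'⟩ := exists_sub_mem_of_mem_map I hs (I ^ n) _ ha
    refine ⟨a + a', ?_⟩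
    have : b - algebraMap A B (a + a') = b - algebraMap A B a - algebraMap A B a' := by
      rw [map_add]; ring
    rw [this, pow_succ']
    exact ha'

variable (T : Type*) [AddCommGroup T] [Module A T]

lemma tmul_eq_zero_of_mem_map (J : Ideal A) (t : T) (ht : ∀ c ∈ J, c • t = 0) (y : B)
    (hy : y ∈ J.map (algebraMap A B)) : y ⊗ₜ[A] t = 0 := by
  induction hy using Submodule.span_induction with
  | mem x hx =>
    obtain ⟨c, hc, rfl⟩ := hx
    rw [Algebra.algebraMap_eq_smul_one, TensorProduct.smul_tmul, ht c hc, TensorProduct.tmul_zero]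
  | zero => exact TensorProduct.zero_tmul _ _
  | add x y _ _ hx hy => rw [TensorProduct.add_tmul, hx, hy, add_zero]
  | smul b' x _ ih =>
    rw [← TensorProduct.smul_tmul', ih, smul_zero]

include hs in
theorem surjective_one_tmul (hT : ∀ t : T, ∃ n : ℕ, ∀ a ∈ I ^ n, a • t = 0) :
    Function.Surjective (fun t : T => (1 : B) ⊗ₜ[A] t) := by
  intro z
  induction z using TensorProduct.induction_on with
  | zero => exact ⟨0, TensorProduct.tmul_zero _ _⟩
  | add x y hx hy =>
    obtain ⟨t1, h1⟩ := hx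
    obtain ⟨t2, h2⟩ := hy
    exact ⟨t1 + t2, by simp only [TensorProduct.tmul_add]; rw [← h1, ← h2]⟩
  | tmul b t =>
    obtain ⟨n, hn⟩ := hT t
    obtain ⟨a, ha⟩ := exists_sub_mem_pow I hs n b
    refine ⟨a • t, ?_⟩
    have h0 := tmul_eq_zero_of_mem_map T (I ^ n) t hn _ ha
    rw [TensorProduct.sub_tmul, sub_eq_zero] at h0
    change (1 : B) ⊗ₜ[A] (a • t) = b ⊗ₜ[A] t
    rw [h0, Algebra.algebraMap_eq_smul_one, TensorProduct.smul_tmul]

variable (hk : RingHom.ker
    ((Ideal.Quotient.mk (I.map (algebraMap A B))).comp (algebraMap A B)) = I)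

include hs hk in
/-- a maximal ideal containing `I` does not generate the unit ideal of `B`. -/
lemma map_ne_top_of_le (m : Ideal A) (hm : m ≠ ⊤) (hIm : I ≤ m) :
    m.map (algebraMap A B) ≠ ⊤ := by
  intro htop
  have h1 : (1 : B) ∈ m.map (algebraMap A B) := by rw [htop]; exact Submodule.mem_top
  obtain ⟨a, ha, ha'⟩ := exists_sub_mem_of_mem_map I hs m 1 h1
  have h2 : (1 : B) - algebraMap A B a ∈ I.map (algebraMap A B) :=
    Ideal.map_mono (Ideal.mul_le_left (I := I) (J := m)) ha'
  have h3 : (1 - a) ∈ I := by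
    rw [← hk, RingHom.mem_ker, RingHom.comp_apply, Ideal.Quotient.eq_zero_iff_mem, map_sub,
      map_one]
    exact h2
  apply hm
  rw [Ideal.eq_top_iff_one]
  have h4 := m.add_mem (hIm h3) ha
  rw [sub_add_cancel] at h4
  exact h4

include hs hk in
theorem injective_one_tmul [Module.Flat A B]
    (hT : ∀ t : T, ∃ n : ℕ, ∀ a ∈ I ^ n, a • t = 0) :
    Function.Injective (fun t : T => (1 : B) ⊗ₜ[A] t) := by
  have key : ∀ t : T, (1 : B) ⊗ₜ[A] t = 0 → t = 0 := by
    intro t ht
    by_contra ht0
    let J : Ideal A := LinearMap.ker (LinearMap.toSpanSingleton A T t)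
    have hJ : J ≠ ⊤ := by
      intro h
      apply ht0
      have : (1 : A) ∈ J := by rw [h]; exact Submodule.mem_top
      simpa [J] using this
    obtain ⟨m, hm, hJm⟩ := Ideal.exists_le_maximal J hJ
    obtain ⟨n, hn⟩ := hT t
    have hIm : I ≤ m := by
      have : I ^ n ≤ m := fun a ha => hJm (by simpa [J] using hn a ha)
      exact hm.isPrime.le_of_pow_le this
    -- the injective map A/J → T
    let ι : (A ⧸ J) →ₗ[A] T := Submodule.liftQ J (LinearMap.toSpanSingleton A T t) le_rfl
    have hι : Function.Injective ι := by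
      rw [← LinearMap.ker_eq_bot]
      exact Submodule.ker_liftQ_eq_bot _ _ _ le_rfl
    have hinj := Module.Flat.lTensor_preserves_injective_linearMap (M := B) ι hι
    have h1 : (1 : B) ⊗ₜ[A] (Submodule.Quotient.mk 1 : A ⧸ J) = 0 := by
      apply hinj
      rw [LinearMap.lTensor_tmul, map_zero]
      have : ι (Submodule.Quotient.mk 1) = t :=
        (Submodule.liftQ_apply _ _ _).trans (by rw [LinearMap.toSpanSingleton_apply, one_smul])
      rw [this, ht]
    -- map to B / mB
    let S := B ⧸ m.map (algebraMap A B)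
    let g : (A ⧸ J) →ₐ[A] S := Ideal.Quotient.liftₐ J (Algebra.ofId A S) (by
      intro a ha
      rw [Algebra.ofId_apply, IsScalarTower.algebraMap_apply A B S,
        Ideal.Quotient.algebraMap_eq, Ideal.Quotient.eq_zero_iff_mem]
      exact Ideal.mem_map_of_mem _ (hJm ha))
    let p : B ⊗[A] (A ⧸ J) →ₐ[A] S :=
      Algebra.TensorProduct.productMap (Ideal.Quotient.mkₐ A _) g
    have h2 : p ((1 : B) ⊗ₜ[A] (Submodule.Quotient.mk 1 : A ⧸ J)) = 1 := by
      have : ((1 : B) ⊗ₜ[A] (Submodule.Quotient.mk 1 : A ⧸ J)) = 1 := rfl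
      rw [this, map_one]
    rw [h1, map_zero] at h2
    apply map_ne_top_of_le I hs hk m hm.ne_top hIm
    rw [Ideal.eq_top_iff_one, ← Ideal.Quotient.eq_zero_iff_mem, map_one]
    exact h2.symm
  intro t1 t2 h
  have := key (t1 - t2) (by
    change (1 : B) ⊗ₜ[A] t1 = (1 : B) ⊗ₜ[A] t2 at h
    rw [TensorProduct.tmul_sub, h, sub_self])
  exact sub_eq_zero.mp this

include hs hk in
theorem bijective_one_tmul [Module.Flat A B]
    (hT : ∀ t : T, ∃ n : ℕ, ∀ a ∈ I ^ n, a • t = 0) :
    Function.Bijective (fun t : T => (1 : B) ⊗ₜ[A] t) :=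
  ⟨injective_one_tmul I hs T hk hT, surjective_one_tmul I hs T hT⟩

end Groth.Agent.Lib.TorsionBaseChange
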