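import Groth.Agent.Lib.TorsionSh11
import Groth.Agent.Lib.SuppHZ21

/-!
# Torsion abelian sheaves: divisibility facts (helper11)

* `isZero_of_torsion_of_mono` : a torsion sheaf on which every `n • 𝟙` (`n ≥ 1`) is mono is zero;
* `isTorsionSh_of_nsmul_eq_zero` : a sheaf killed by some `n ≥ 1` is torsion;
* `mono_nsmul_freeAb` : `n • 𝟙` is mono on free abelian sheaves;
* `epi_nsmul_of_injective` : `n • 𝟙` is epi on injective abelian sheaves.
-/

set_option autoImplicit false
universe u
open CategoryTheory CategoryTheory.Limits Opposite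

namespace Groth.Agent.Lib.TorsionSh11

open ToposFin Groth.Agent.Lib.TFin Groth.Agent.Lib.TFinEps Groth.Agent.Lib.SuppHZ21

variable {C : Type u} [SmallCategory C] {J : GrothendieckTopology C}

lemma nsmul_app_apply {F G : Sheaf J AddCommGrpCat.{u}} (φ : F ⟶ G) (n : ℕ) (U : Cᵒᵖ)
    (s : F.obj.obj U) : ((n • φ).hom.app U).hom s = n • (φ.hom.app U).hom s := by
  induction n with
  | zero => simp
  | succ k ih =>
    rw [succ_nsmul, succ_nsmul]
    change ((k • φ).hom.app U + φ.hom.app U).hom s = _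
    rw [AddCommGrpCat.hom_add, AddMonoidHom.add_apply, ih]

lemma injective_of_mono {F G : Sheaf J AddCommGrpCat.{u}} (φ : F ⟶ G) [Mono φ] (U : Cᵒᵖ) :
    Function.Injective (φ.hom.app U).hom := by
  have : Mono φ.hom := inferInstance
  have : Mono (φ.hom.app U) := inferInstance
  exact (AddCommGrpCat.mono_iff_injective _).1 this

/-- separatedness for abelian sheaves -/
lemma sec_ext (F : Sheaf J AddCommGrpCat.{u}) {U : C} (S : Sieve U) (hS : S ∈ J U)
    (s t : F.obj.obj (op U))
    (h : ∀ ⦃V : C⦄ (g : V ⟶ U), S g → (F.obj.map g.op).hom s = (F.obj.map g.op).hom t) : s = t := by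
  have hF : Presieve.IsSheaf J (F.obj ⋙ forget AddCommGrpCat.{u}) := by
    rw [← isSheaf_iff_isSheaf_of_type, ← Presheaf.isSheaf_iff_isSheaf_forget]
    exact F.property
  exact (hF.isSeparated S hS).ext (fun V g hg => h g hg)

lemma eq_zero_of_locally {F : Sheaf J AddCommGrpCat.{u}} {U : C} (S : Sieve U) (hS : S ∈ J U)
    (s : F.obj.obj (op U))
    (h : ∀ ⦃V : C⦄ (g : V ⟶ U), S g → (F.obj.map g.op).hom s = 0) : s = 0 := by
  apply sec_ext F S hS
  intro V g hg
  rw [h g hg, map_zero]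

/-- (S3) a torsion sheaf on which all `n • 𝟙` are mono is zero -/
lemma isZero_of_torsion_of_mono (Y : Sheaf J AddCommGrpCat.{u}) (hY : SiteCmp.IsTorsionSh J Y)
    (hm : ∀ n : ℕ, 0 < n → Mono (n • 𝟙 Y)) : IsZero Y := by
  rw [IsZero.iff_id_eq_zero]
  apply ObjectProperty.hom_ext
  apply NatTrans.ext
  funext U
  apply AddCommGrpCat.hom_ext
  apply AddMonoidHom.ext
  intro s
  change s = 0
  obtain ⟨S, hS, k⟩ := (isTorsionSh_iff Y).1 hY U.unop s
  apply eq_zero_of_locally S hS
  intro V g hg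
  obtain ⟨n, hn, e⟩ := k g hg
  have := hm n hn
  apply injective_of_mono (n • 𝟙 Y) (op V)
  rw [nsmul_app_apply, map_zero]
  exact e

/-- (S4) a sheaf killed by `n ≥ 1` is torsion -/
lemma isTorsionSh_of_nsmul_eq_zero (Y : Sheaf J AddCommGrpCat.{u}) (n : ℕ) (hn : 0 < n)
    (h : n • 𝟙 Y = 0) : SiteCmp.IsTorsionSh J Y := by
  rw [isTorsionSh_iff]
  intro U s
  refine ⟨⊤, J.top_mem U, fun V g _ => ⟨n, hn, ?_⟩⟩
  have := nsmul_app_apply (𝟙 Y) n (op V) ((Y.obj.map g.op).hom s)
  rw [h] at this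
  exact this.symm

lemma free_nsmul_injective (X : Type u) (n : ℕ) (hn : 0 < n) :
    Function.Injective (fun x : FreeAbelianGroup X => n • x) := by
  intro a b h
  apply (FreeAbelianGroup.equivFinsupp X).injective
  have : n • (FreeAbelianGroup.equivFinsupp X) a = n • (FreeAbelianGroup.equivFinsupp X) b := by
    rw [← map_nsmul, ← map_nsmul]
    exact congrArg _ h
  exact nsmul_right_injective hn.ne' this

/-- (S6) multiplication by `n ≥ 1` is mono on free abelian sheaves -/
lemma mono_nsmul_freeAb (K : ToposFin.Sh J) (n : ℕ) (hn : 0 < n) :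
    Mono (n • 𝟙 ((ToposFin.freeAb J).obj K)) := by
  let P : Cᵒᵖ ⥤ AddCommGrpCat.{u} := K.obj ⋙ AddCommGrpCat.free.{u}
  have e : n • 𝟙 ((ToposFin.freeAb J).obj K) =
      (presheafToSheaf J AddCommGrpCat.{u}).map (n • 𝟙 P) := by
    rw [Functor.map_nsmul, CategoryTheory.Functor.map_id]
    rfl
  rw [e]
  have : Mono (n • 𝟙 P) := by
    have : ∀ U, Mono ((n • 𝟙 P).app U) := by
      intro U
      rw [AddCommGrpCat.mono_iff_injective]
      intro a b h
      apply free_nsmul_injective (K.obj.obj U) n hn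
      have key : ∀ x : P.obj U, ((n • 𝟙 P).app U).hom x = n • x := by
        intro x
        rw [NatTrans.app_nsmul, AddCommGrpCat.hom_nsmul]
        rfl
      change n • a = n • b
      rw [← key a, ← key b]
      exact h
    exact NatTrans.mono_of_mono_app _
  infer_instance

/-- sections of an injective abelian sheaf are divisible -/
lemma exists_nsmul_eq_of_injective (I : Sheaf J AddCommGrpCat.{u}) [Injective I] (n : ℕ)
    (hn : 0 < n) (U : C) (s : I.obj.obj (op U)) : ∃ t : I.obj.obj (op U), n • t = s := by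
  let χ : (freeAb J).obj (eps J U) ⟶ I :=
    ((adjF J).homEquiv (eps J U) I).symm (homOfSec J (F := fs I) s)
  have hχ : ev χ (etaSec J U (𝟙 U)) = s := by
    unfold ev
    rw [Equiv.apply_symm_apply, ap_homOfSec]
    change (I.obj.map (𝟙 (op U))).hom s = s
    rw [I.obj.map_id]
    rfl
  have := mono_nsmul_freeAb (eps J U) n hn
  let χ' := Injective.factorThru χ (n • 𝟙 ((freeAb J).obj (eps J U)))
  have hχ' : (n • 𝟙 ((freeAb J).obj (eps J U))) ≫ χ' = χ := Injective.comp_factorThru _ _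
  have e : χ = χ' ≫ (n • 𝟙 I) := by
    rw [← hχ', Preadditive.nsmul_comp, Preadditive.comp_nsmul, Category.id_comp, Category.comp_id]
  refine ⟨ev χ' (etaSec J U (𝟙 U)), ?_⟩
  rw [← hχ, e, ev_comp]
  exact (nsmul_app_apply (𝟙 I) n (op U) (ev χ' (etaSec J U (𝟙 U)))).symm

/-- (S5) multiplication by `n ≥ 1` is epi on injective abelian sheaves -/
lemma epi_nsmul_of_injective (I : Sheaf J AddCommGrpCat.{u}) [Injective I] (n : ℕ)
    (hn : 0 < n) : Epi (n • 𝟙 I) := by
  have : ∀ U, Epi ((n • 𝟙 I).hom.app U) := by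
    intro U
    rw [AddCommGrpCat.epi_iff_surjective]
    intro s
    obtain ⟨t, ht⟩ := exists_nsmul_eq_of_injective I n hn U.unop s
    refine ⟨t, ?_⟩
    exact (nsmul_app_apply (𝟙 I) n U t).trans ht
  have : Epi (n • 𝟙 I).hom := NatTrans.epi_of_epi_app _
  infer_instance

end Groth.Agent.Lib.TorsionSh11
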