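import Groth.Prelude.Def_SiteCmp
import Groth.Prelude.Def_WeakSerre
import Groth.Agent.Lib.CoreflDerived11
import Groth.Agent.Lib.TorsionShDiv11
import Groth.Agent.Lib.SerreDiv11
import Groth.Agent.Lib.KInjMain31

/-!
# D(torsion sheaves) → D(abelian sheaves): the hypotheses of `CoreflDerived11` (helper11)
-/

set_option autoImplicit false
set_option synthInstance.maxSize 4096
universe u
open CategoryTheory CategoryTheory.Limits Opposite
attribute [local instance] HasDerivedCategory.standard
open SiteCmp

namespace Groth.Agent.Lib.TorsionSh11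

open Groth.Agent.Lib.CoreflDerived11 Groth.Agent.Lib.SerreDiv11

variable {C : Type u} [SmallCategory C] (J : GrothendieckTopology C)

lemma torsHyp : TorsHyp (SiteCmp.torsionSh J) where
  zero_of_mono Y hY hm := isZero_of_torsion_of_mono Y hY hm
  tors_of_killed Y n hn h := isTorsionSh_of_nsmul_eq_zero Y n hn h

variable [(SiteCmp.torsionSh J).IsSerreClass]

instance : (tau J).Additive := (adj J).right_adjoint_additive

lemma hyp : Hyp (adj J) (SiteCmp.torsionSh J) where
  res M := by
    obtain ⟨I, f, h1, h2, _, h4⟩ := Groth.Agent.KInjMain31.exists_kinjective_resolution M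
    exact ⟨I, f, h1, h2, h4⟩
  img X := X.property
  star I hI hinj hP := by
    apply quasiIso_of_largest (torsHyp J) (counitC (adj J) I)
    · intro j
      change Mono ((adj J).counit.app (I.X j))
      rw [adj_counit_app]
      exact inferInstanceAs (Mono (torι J (I.X j)))
    · intro j
      exact ((tau J).obj (I.X j)).property
    · intro j P hPT g
      let P' : (SiteCmp.torsionSh J).FullSubcategory := ⟨P, hPT⟩
      refine ⟨(SiteCmp.torsionSh J).ι.map ((adj J).homEquiv P' (I.X j) g), ?_⟩
      change (SiteCmp.torsionSh J).ι.map ((adj J).homEquiv P' (I.X j) g) ≫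
        (adj J).counit.app (I.X j) = g
      exact ((adj J).homEquiv_counit P' (I.X j) _).symm.trans (Equiv.symm_apply_apply _ g)
    · intro j n hn
      have := hinj j
      exact epi_nsmul_of_injective (I.X j) n hn
    · intro j
      have e := (((tau J).mapHomologicalComplex (ComplexShape.up ℤ)).obj I).sc j |>.mapHomologyIso
        (SiteCmp.torsionSh J).ι
      exact (SiteCmp.torsionSh J).prop_of_iso e.symm (ObjectProperty.FullSubcategory.property _)
    · exact hP

/-- `D(torsion sheaves) ⥤ D(Ab(C))` is fully faithful with essential image the complexes with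
torsion cohomology sheaves -/
theorem main :
    (WSerre.toDerived (SiteCmp.torsionSh J)).Full ∧ (WSerre.toDerived (SiteCmp.torsionSh J)).Faithful ∧
      ∀ K : DerivedCategory (Sheaf J AddCommGrpCat.{u}),
        WSerre.cohIn (SiteCmp.torsionSh J) K ↔ (WSerre.toDerived (SiteCmp.torsionSh J)).essImage K := by
  have H := hyp J
  exact ⟨Groth.Agent.Lib.CoreflDerived11.full H, Groth.Agent.Lib.CoreflDerived11.faithful H,
    fun K => Groth.Agent.Lib.CoreflDerived11.essImage_iff H K⟩

end Groth.Agent.Lib.TorsionSh11
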