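import Groth.Agent.Lib.TorsionOrthMod
import Groth.Agent.Lib.TorsionBaseChange
import Groth.Agent.Lib.FlatBaseChangeD
import Groth.Agent.Lib.DerivedAdjunction

/-!
# `Ext_A(M, N) ≅ Ext_A(M, B ⊗ N)` for `I`-power torsion `M` (helper25)

`bij_unit`: for `A → B` flat with `A/I ≅ B/IB`, `I` finitely generated and `M` an `I`-power torsion
module, postcomposition with the unit `N ⟶ B ⊗ N` induces bijections
`Hom_{D(A)}(M, N[s]) → Hom_{D(A)}(M, (B ⊗ N)[s])` for all `s`.
-/

set_option autoImplicit false
universe u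

open CategoryTheory Limits Pretriangulated Opposite
open scoped TensorProduct ChangeOfRings

namespace Groth.Agent.Lib.TorsionExtBC

open Groth.Agent.Lib.TorsionOrth Groth.Agent.Lib.TorsionOrthMod CochainComplex
  Groth.Agent.Lib.FlatBaseChangeD

attribute [local instance] HasDerivedCategory.standard

variable (A B : Type u) [CommRing A] [CommRing B] [Algebra A B]

/-- restriction of scalars -/
noncomputable abbrev G : ModuleCat.{u} B ⥤ ModuleCat.{u} A :=
  ModuleCat.restrictScalars (algebraMap A B)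

/-- the adjunction -/
noncomputable abbrev adj : F A B ⊣ G A B := ModuleCat.extendRestrictScalarsAdj (algebraMap A B)

/-- the monad `M ↦ B ⊗ M` on `A`-modules -/
noncomputable abbrev TT : ModuleCat.{u} A ⥤ ModuleCat.{u} A := F A B ⋙ G A B

example : (TT A B).Additive := inferInstance
example [Module.Flat A B] : PreservesFiniteLimits (TT A B) := inferInstance
example : PreservesFiniteColimits (TT A B) := inferInstance

lemma F_map_smul (a : A) (X : ModuleCat.{u} A) :
    (F A B).map (a • 𝟙 X) = (algebraMap A B a) • 𝟙 ((F A B).obj X) := by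
  apply ModuleCat.ExtendScalars.hom_ext
  intro m
  refine Eq.trans (b := (1 : B) ⊗ₜ[A, algebraMap A B] (a • m)) rfl ?_
  refine Eq.trans (b := (algebraMap A B a * 1 : B) ⊗ₜ[A, algebraMap A B] m) ?_ rfl
  exact (TensorProduct.smul_tmul (R := A) a
    (show (ModuleCat.restrictScalars (algebraMap A B)).obj (ModuleCat.of B B) from (1 : B)) m).symm

lemma G_map_smul (a : A) (Y : ModuleCat.{u} B) :
    (G A B).map ((algebraMap A B a) • 𝟙 Y) = a • 𝟙 ((G A B).obj Y) := by
  ext y
  rfl

lemma TT_map_smul (a : A) (X : ModuleCat.{u} A) :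
    (TT A B).map (a • 𝟙 X) = a • 𝟙 ((TT A B).obj X) := by
  change (G A B).map ((F A B).map (a • 𝟙 X)) = _
  rw [F_map_smul, G_map_smul]
  rfl

variable {A B}
variable [Module.Flat A B] (I : Ideal A)
  (hs : Function.Surjective
    ((Ideal.Quotient.mk (I.map (algebraMap A B))).comp (algebraMap A B)))
  (hk : RingHom.ker
    ((Ideal.Quotient.mk (I.map (algebraMap A B))).comp (algebraMap A B)) = I)

include hs hk in
lemma isIso_unit_app (X : ModuleCat.{u} A)
    (hX : ∀ t : X, ∃ n : ℕ, ∀ a ∈ I ^ n, a • t = 0) : IsIso ((adj A B).unit.app X) := by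
  rw [ConcreteCategory.isIso_iff_bijective]
  have hb := Groth.Agent.Lib.TorsionBaseChange.bijective_one_tmul (B := B) I hs X hk hX
  have e : (fun t : X => (1 : B) ⊗ₜ[A] t) =
      (fun z => (objEquiv (A := A) (B := B) X) z) ∘ ((adj A B).unit.app X) := by
    funext t
    rfl
  rw [e] at hb
  exact (Function.Bijective.of_comp_iff' (objEquiv (A := A) (B := B) X).bijective _).mp hb

include hs hk in
/-- the key vanishing: `Hom(M, N[s]) → Hom(M, (B ⊗ N)[s])` is bijective for `I`-power torsion `M`. -/
theorem bij_unit (hI : I.FG) (M N : ModuleCat.{u} A)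
    (hM : ∀ t : M, ∃ n : ℕ, ∀ a ∈ I ^ n, a • t = 0) :
    Bij ((sg A).obj M) (DerivedCategory.Q.map (ηC (TT A B) (adj A B).unit
      ((HomologicalComplex.single (ModuleCat.{u} A) (ComplexShape.up ℤ) 0).obj N))) := by
  classical
  obtain ⟨s, rfl⟩ := hI
  have hspan : Ideal.span {f | f ∈ s.toList} = Ideal.span (s : Set A) := by
    congr 1
    ext f
    simp
  apply bij_of_kd s.toList
  · intro ms hms
    apply quasiIso_kdMap_ηC _ _ (TT_map_smul A B)
    apply quasiIso_ηC
    intro j
    apply isIso_unit_app _ hs hk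
    obtain ⟨k, hk'⟩ := exists_pow_smul_homology_eq_zero s.toList ms hms
      ((HomologicalComplex.single (ModuleCat.{u} A) (ComplexShape.up ℤ) 0).obj N) j
    rw [hspan] at hk'
    exact fun t => ⟨k, fun a ha => hk' a ha t⟩
  · intro x
    obtain ⟨n, hn⟩ := hM x
    refine ⟨n, fun f hf => hn _ (Ideal.pow_mem_pow (Ideal.subset_span (by simpa using hf)) n)⟩

end Groth.Agent.Lib.TorsionExtBC
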