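import Groth.Agent.Lib.TorsionExtBC

/-!
# `Ext_A(M, N) ≅ Ext_A(M, B ⊗ N)` for `I`-power torsion `M`, module form (helper25)

`bij_unit'`: `Bij (M[0]) ((unit_N)[0])`, and `bij_oneTmul` for the map `n ↦ 1 ⊗ₜ n : N → B ⊗[A] N`
with the standard module structures.
-/

set_option autoImplicit false
universe u

open CategoryTheory Limits Pretriangulated Opposite
open scoped TensorProduct

namespace Groth.Agent.Lib.TorsionExtBC

open Groth.Agent.Lib.TorsionOrth Groth.Agent.Lib.TorsionOrthMod CochainComplex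
  Groth.Agent.Lib.FlatBaseChangeD

attribute [local instance] HasDerivedCategory.standard

section generic

variable {D : Type*} [Category D] [Preadditive D] [HasZeroObject D] [HasShift D ℤ]
  [∀ n : ℤ, (CategoryTheory.shiftFunctor D n).Additive] [Pretriangulated D]

lemma Bij.comp_isIso (S : D) {Z Z' Z'' : D} (ψ : Z ⟶ Z') (ι : Z' ⟶ Z'') (hι : IsIso ι)
    (h : Bij S ψ) : Bij S (ψ ≫ ι) := by
  intro s
  have h2 := bij_of_isIso S ι s
  have : (fun g : S ⟶ Z⟦s⟧ => g ≫ (ψ ≫ ι)⟦s⟧') =
      (fun g : S ⟶ Z'⟦s⟧ => g ≫ ι⟦s⟧') ∘ (fun g : S ⟶ Z⟦s⟧ => g ≫ ψ⟦s⟧') := by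
    funext g
    simp
  rw [this]
  exact h2.comp (h s)

end generic

section

variable {A : Type u} [CommRing A] (H : ModuleCat.{u} A ⥤ ModuleCat.{u} A) [H.Additive]
  (η : 𝟭 (ModuleCat.{u} A) ⟶ H)

lemma ηC_single_comp (N : ModuleCat.{u} A) :
    ηC H η ((HomologicalComplex.single (ModuleCat.{u} A) (ComplexShape.up ℤ) 0).obj N) ≫
      (HomologicalComplex.singleMapHomologicalComplex H (ComplexShape.up ℤ) 0).hom.app N =
    (HomologicalComplex.single (ModuleCat.{u} A) (ComplexShape.up ℤ) 0).map (η.app N) := by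
  apply HomologicalComplex.from_single_hom_ext
  rw [HomologicalComplex.comp_f, HomologicalComplex.singleMapHomologicalComplex_hom_app_self,
    HomologicalComplex.single_map_f_self]
  change η.app _ ≫ _ = _
  have := η.naturality (HomologicalComplex.singleObjXSelf (ComplexShape.up ℤ) 0 N).hom
  rw [← Category.assoc, ← this]
  simp

end

variable {A B : Type u} [CommRing A] [CommRing B] [Algebra A B] [Module.Flat A B] (I : Ideal A)
  (hs : Function.Surjective
    ((Ideal.Quotient.mk (I.map (algebraMap A B))).comp (algebraMap A B)))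
  (hk : RingHom.ker
    ((Ideal.Quotient.mk (I.map (algebraMap A B))).comp (algebraMap A B)) = I)

include hs hk in
theorem bij_unit' (hI : I.FG) (M N : ModuleCat.{u} A)
    (hM : ∀ t : M, ∃ n : ℕ, ∀ a ∈ I ^ n, a • t = 0) :
    Bij ((sg A).obj M) ((sg A).map ((adj A B).unit.app N)) := by
  have h := bij_unit I hs hk hI M N hM
  have e : (sg A).map ((adj A B).unit.app N) =
      DerivedCategory.Q.map (ηC (TT A B) (adj A B).unit
        ((HomologicalComplex.single (ModuleCat.{u} A) (ComplexShape.up ℤ) 0).obj N)) ≫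
      DerivedCategory.Q.map ((HomologicalComplex.singleMapHomologicalComplex (TT A B)
        (ComplexShape.up ℤ) 0).hom.app N) := by
    rw [← Functor.map_comp, ηC_single_comp]
    rfl
  rw [e]
  have : IsIso (DerivedCategory.Q.map ((HomologicalComplex.singleMapHomologicalComplex (TT A B)
        (ComplexShape.up ℤ) 0).hom.app N)) :=
    (DerivedCategory.Q.mapIso ((HomologicalComplex.singleMapHomologicalComplex (TT A B)
        (ComplexShape.up ℤ) 0).app N)).isIso_hom
  exact Bij.comp_isIso _ _ _ this h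

variable (A B) in
/-- `B ⊗[A] N` as an `A`-module is `G (F N)`. -/
noncomputable def ttEquiv (N : Type u) [AddCommGroup N] [Module A N] :
    ((G A B).obj ((F A B).obj (ModuleCat.of A N))) ≃ₗ[A] (B ⊗[A] N) :=
  { toFun := fun z => (objEquiv (A := A) (B := B) (ModuleCat.of A N)) z
    invFun := fun z => (objEquiv (A := A) (B := B) (ModuleCat.of A N)).symm z
    left_inv := fun z => (objEquiv (A := A) (B := B) (ModuleCat.of A N)).symm_apply_apply z
    right_inv := fun z => (objEquiv (A := A) (B := B) (ModuleCat.of A N)).apply_symm_apply z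
    map_add' := fun x y => map_add (objEquiv (A := A) (B := B) (ModuleCat.of A N)) x y
    map_smul' := fun a x =>
      (map_smul (objEquiv (A := A) (B := B) (ModuleCat.of A N)) (algebraMap A B a)
        (show ((F A B).obj (ModuleCat.of A N)) from x)).trans (algebraMap_smul B a _) }

variable (A B) in
/-- `B ⊗[A] N` as an `A`-module is `G (F N)`. -/
noncomputable def ttIso (N : Type u) [AddCommGroup N] [Module A N] :
    (TT A B).obj (ModuleCat.of A N) ≅ ModuleCat.of A (B ⊗[A] N) :=
  (ttEquiv A B N).toModuleIso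

variable (A B) in
/-- the map `n ↦ 1 ⊗ n`. -/
noncomputable def oneTmul (N : Type u) [AddCommGroup N] [Module A N] :
    ModuleCat.of A N ⟶ ModuleCat.of A (B ⊗[A] N) :=
  ModuleCat.ofHom (TensorProduct.mk A B N 1)

lemma unit_comp_ttIso (N : Type u) [AddCommGroup N] [Module A N] :
    (adj A B).unit.app (ModuleCat.of A N) ≫ (ttIso A B N).hom = oneTmul A B N := by
  ext n
  change (ttEquiv A B N) ((adj A B).unit.app (ModuleCat.of A N) n) = (1 : B) ⊗ₜ[A] n
  rfl

include hs hk in
theorem bij_oneTmul (hI : I.FG) (M N : Type u) [AddCommGroup M] [Module A M] [AddCommGroup N]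
    [Module A N] (hM : ∀ t : M, ∃ n : ℕ, ∀ a ∈ I ^ n, a • t = 0) :
    Bij ((sg A).obj (ModuleCat.of A M)) ((sg A).map (oneTmul A B N)) := by
  rw [← unit_comp_ttIso, Functor.map_comp]
  exact Bij.comp_isIso _ _ _ inferInstance (bij_unit' I hs hk hI _ _ hM)

end Groth.Agent.Lib.TorsionExtBC
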