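import Mathlib

/-!
# Torsion-free modules over one-dimensional local domains: embedding between `O^n` and `O~^n`

* `exists_not_mem_of_proper`: avoidance of finitely many proper submodules over a local ring with
  infinite residue field.
* `exists_unit_matrix`: if an `O`-submodule `M₁ ⊆ S^n` spans `S^n` over the semilocal ring `S`,
  then it contains the rows of an invertible matrix.
* `exists_coords'`: coordinates of a module `M ⊆ V` with respect to a basis of its span over a
  principal ideal domain `S` with fraction field `K`.
* `exists_embedding`: the resulting embedding `M → K^n` with `O^n ⊆ image ⊆ S^n`.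
-/

set_option autoImplicit false
set_option maxHeartbeats 400000
set_option linter.style.haveILetI false
set_option linter.unusedSectionVars false

open TensorProduct

namespace Groth.Agent.Lib.TorsionFreeEmb97

/-- avoidance of finitely many proper submodules over a local ring with infinite residue field -/
theorem exists_not_mem_of_proper {O : Type*} [CommRing O] [IsLocalRing O]
    [Infinite (IsLocalRing.ResidueField O)] {M : Type*} [AddCommGroup M] [Module O M]
    {J : Type*} [Finite J] (P : J → Submodule O M) (hP : ∀ j, P j ≠ ⊤) :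
    ∃ x : M, ∀ j, x ∉ P j := by
  classical
  by_contra hcon
  push Not at hcon
  haveI : Fintype J := Fintype.ofFinite J
  have hcov : ⋃ j ∈ (Finset.univ : Finset J), (P j : Set M) = Set.univ := by
    rw [Set.eq_univ_iff_forall]
    intro x
    obtain ⟨j, hj⟩ := hcon x
    exact Set.mem_biUnion (Finset.mem_univ j) hj
  obtain ⟨j, -, hfi⟩ := Submodule.exists_finiteIndex_of_cover hcov
  haveI : Finite (M ⧸ P j) := AddSubgroup.finite_quotient_of_finiteIndex
  obtain ⟨c, hc⟩ : ∃ c : M, c ∉ P j := by
    by_contra h
    push Not at h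
    exact hP j (eq_top_iff.mpr fun x _ => h x)
  let ψ : IsLocalRing.ResidueField O → M ⧸ P j := fun a => Submodule.Quotient.mk (Quotient.out a • c)
  have hψ : Function.Injective ψ := by
    intro a a' haa
    have h1 : (Quotient.out a - Quotient.out a') • c ∈ P j := by
      rw [sub_smul]
      exact (Submodule.Quotient.eq _).mp haa
    have h4 : Quotient.out a - Quotient.out a' ∈ IsLocalRing.maximalIdeal O := by
      by_contra hnm
      have hu : IsUnit (Quotient.out a - Quotient.out a') := by
        rwa [IsLocalRing.mem_maximalIdeal, mem_nonunits_iff, not_not] at hnm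
      obtain ⟨w, hw⟩ := hu
      apply hc
      have := (P j).smul_mem (↑w⁻¹ : O) h1
      rwa [← hw, smul_smul, Units.inv_mul, one_smul] at this
    have h5 : Ideal.Quotient.mk (IsLocalRing.maximalIdeal O) (Quotient.out a) =
        Ideal.Quotient.mk _ (Quotient.out a') := Ideal.Quotient.eq.mpr h4
    have h6 : ∀ b : IsLocalRing.ResidueField O,
        Ideal.Quotient.mk (IsLocalRing.maximalIdeal O) (Quotient.out b) = b := fun b =>
      Quotient.out_eq b
    rwa [h6, h6] at h5
  haveI : Finite (IsLocalRing.ResidueField O) := Finite.of_injective ψ hψ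
  exact not_finite (IsLocalRing.ResidueField O)

section stepB
variable {O : Type*} [CommRing O] [IsLocalRing O] [Infinite (IsLocalRing.ResidueField O)]
  {S : Type*} [CommRing S] [Algebra O S] [Finite (MaximalSpectrum S)]

/-- reduction mod an ideal, componentwise -/
noncomputable def red (I : Ideal S) (n : ℕ) : (Fin n → S) →ₗ[S] (Fin n → S ⧸ I) :=
  LinearMap.compLeft (Ideal.Quotient.mkₐ S I).toLinearMap (Fin n)

theorem red_apply (I : Ideal S) (n : ℕ) (x : Fin n → S) (a : Fin n) :
    red I n x a = Ideal.Quotient.mk I (x a) := rfl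

theorem red_surjective (I : Ideal S) (n : ℕ) : Function.Surjective (red I n) := by
  intro y
  choose x hx using fun a => Ideal.Quotient.mk_surjective (y a)
  exact ⟨x, funext fun a => hx a⟩

theorem exists_indep (n : ℕ) (M₁ : Submodule O (Fin n → S))
    (hspan : Submodule.span S (M₁ : Set (Fin n → S)) = ⊤) (i : ℕ) (hi : i ≤ n) :
    ∃ m : Fin i → (Fin n → S), (∀ a, m a ∈ M₁) ∧
      ∀ j : MaximalSpectrum S,
        LinearIndependent (S ⧸ j.asIdeal) (fun a => red j.asIdeal n (m a)) := by
  induction i with
  | zero =>
    exact ⟨fun a => a.elim0, fun a => a.elim0, fun j => linearIndependent_empty_type⟩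
  | succ i ih =>
    obtain ⟨m, hm, hind⟩ := ih (Nat.le_of_succ_le hi)
    have hin : i < n := hi
    -- the bad submodules
    let W : ∀ j : MaximalSpectrum S, Submodule (S ⧸ j.asIdeal) (Fin n → S ⧸ j.asIdeal) := fun j =>
      Submodule.span (S ⧸ j.asIdeal) (Set.range fun a => red j.asIdeal n (m a))
    have hW : ∀ j : MaximalSpectrum S, W j ≠ ⊤ := by
      intro j htop
      letI := Ideal.Quotient.field j.asIdeal
      have h1 : Module.finrank (S ⧸ j.asIdeal) (W j) ≤ i := by
        have := finrank_range_le_card (R := S ⧸ j.asIdeal) (fun a => red j.asIdeal n (m a))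
        rw [Fintype.card_fin] at this
        exact this
      rw [htop, finrank_top, Module.finrank_fin_fun] at h1
      omega
    let P : MaximalSpectrum S → Submodule O ↥M₁ := fun j =>
      Submodule.comap M₁.subtype
        (Submodule.comap ((red j.asIdeal n).restrictScalars O) ((W j).restrictScalars O))
    have hP : ∀ j, P j ≠ ⊤ := by
      intro j htop
      apply hW j
      have h1 : ∀ x ∈ M₁, red j.asIdeal n x ∈ W j := by
        intro x hx
        have : (⟨x, hx⟩ : ↥M₁) ∈ P j := by rw [htop]; trivial
        exact this
      have h2 : Submodule.span S (M₁ : Set (Fin n → S)) ≤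
          Submodule.comap (red j.asIdeal n) ((W j).restrictScalars S) := by
        rw [Submodule.span_le]
        intro x hx
        exact h1 x hx
      rw [hspan] at h2
      rw [eq_top_iff]
      intro y _
      obtain ⟨x, rfl⟩ := red_surjective j.asIdeal n y
      exact h2 trivial
    obtain ⟨x, hx⟩ := exists_not_mem_of_proper P hP
    refine ⟨Fin.cons x.1 m, ?_, ?_⟩
    · intro a
      refine Fin.cases ?_ (fun a => ?_) a
      · simp
      · simpa using hm a
    · intro j
      letI := Ideal.Quotient.field j.asIdeal
      have hcons : (fun a => red j.asIdeal n ((Fin.cons x.1 m : Fin (i + 1) → (Fin n → S)) a)) =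
          Fin.cons (red j.asIdeal n x.1) (fun a => red j.asIdeal n (m a)) := by
        funext a
        refine Fin.cases ?_ (fun a => ?_) a
        · simp
        · simp
      rw [hcons, linearIndependent_finCons]
      exact ⟨hind j, fun h => hx j h⟩

theorem exists_unit_matrix (n : ℕ) (M₁ : Submodule O (Fin n → S))
    (hspan : Submodule.span S (M₁ : Set (Fin n → S)) = ⊤) :
    ∃ m : Fin n → (Fin n → S), (∀ a, m a ∈ M₁) ∧ IsUnit (Matrix.of m).det := by
  obtain ⟨m, hm, hind⟩ := exists_indep n M₁ hspan n le_rfl
  refine ⟨m, hm, ?_⟩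
  by_contra hnu
  obtain ⟨I, hI, hdet⟩ := exists_max_ideal_of_mem_nonunits hnu
  letI := Ideal.Quotient.field I
  have h1 := hind ⟨I, hI⟩
  have h2 : LinearIndependent (S ⧸ I) ((Matrix.of m).map (Ideal.Quotient.mk I)).row := h1
  rw [Matrix.linearIndependent_rows_iff_isUnit, Matrix.isUnit_iff_isUnit_det,
    ← RingHom.mapMatrix_apply, ← RingHom.map_det] at h2
  have h3 : Ideal.Quotient.mk I (Matrix.of m).det = 0 := Ideal.Quotient.eq_zero_iff_mem.mpr hdet
  rw [h3] at h2
  exact not_isUnit_zero h2

end stepB

section
variable {O : Type*} {S : Type*} {K : Type*} [CommRing O] [CommRing S] [IsDomain S]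
  [IsPrincipalIdealRing S] [Field K]
  [Algebra O S] [Algebra S K] [Algebra O K] [IsScalarTower O S K] [IsFractionRing S K]
  {M : Type*} {V : Type*} [AddCommGroup M] [Module O M] [Module.Finite O M]
  [AddCommGroup V] [Module K V] [Module S V] [Module O V] [IsScalarTower S K V]
  [IsScalarTower O S V] [IsScalarTower O K V]

/-- coordinates of `M` with respect to a basis of the `S`-span -/
theorem exists_coords' (ι : M →ₗ[O] V) (hιinj : Function.Injective ι)
    (hspanι : Submodule.span K (Set.range ι) = ⊤) (n : ℕ)
    (hn : Module.finrank K V = n) :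
    ∃ c : M →ₗ[O] (Fin n → S), Function.Injective c ∧
      Submodule.span S (LinearMap.range c : Set (Fin n → S)) = ⊤ := by
  classical
  haveI : Module.IsTorsionFree S V := by
    rw [Module.isTorsionFree_iff_smul_eq_zero]
    intro s v hsv
    have : algebraMap S K s • v = 0 := by rw [algebraMap_smul]; exact hsv
    rcases smul_eq_zero.mp this with h | h
    · left; exact (map_eq_zero_iff _ (IsFractionRing.injective S K)).mp h
    · right; exact h
  let N : Submodule S V := Submodule.span S (Set.range ι)
  haveI : Module.IsTorsionFree S N :=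
    Function.Injective.moduleIsTorsionFree N.subtype N.subtype_injective (fun _ _ => rfl)
  -- `N` is finitely generated
  obtain ⟨G, hG⟩ := (Module.finite_def.mp (inferInstance : Module.Finite O M))
  have hNG : N = Submodule.span S (ι '' (G : Set M)) := by
    apply le_antisymm
    · rw [Submodule.span_le]
      rintro _ ⟨m, rfl⟩
      have hm : m ∈ Submodule.span O (G : Set M) := by rw [hG]; trivial
      have : ι m ∈ Submodule.map ι (Submodule.span O (G : Set M)) := ⟨m, hm, rfl⟩
      rw [Submodule.map_span] at this
      exact Submodule.span_le_restrictScalars O S _ this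
    · exact Submodule.span_mono (Set.image_subset_range _ _)
  haveI : Module.Finite S N := by
    rw [hNG]
    exact Module.Finite.span_of_finite S (G.finite_toSet.image _)
  -- basis
  let b := Module.finBasis S N
  set r := Module.finrank S N with hr
  let v : Fin r → V := fun a => (b a : V)
  have hvS : LinearIndependent S v := by
    have := b.linearIndependent.map' N.subtype (Submodule.ker_subtype N)
    exact this
  have hvK : LinearIndependent K v := (LinearIndependent.iff_fractionRing S K).mp hvS
  have hNv : (N : Set V) ⊆ Submodule.span K (Set.range v) := by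
    intro x hx
    have hx' : (⟨x, hx⟩ : N) ∈ Submodule.span S (Set.range b) := by rw [b.span_eq]; trivial
    have : x ∈ Submodule.map N.subtype (Submodule.span S (Set.range b)) := ⟨⟨x, hx⟩, hx', rfl⟩
    rw [Submodule.map_span, ← Set.range_comp] at this
    exact Submodule.span_le_restrictScalars S K _ this
  have hvspan : Submodule.span K (Set.range v) = ⊤ := by
    rw [eq_top_iff, ← hspanι, Submodule.span_le]
    intro x hx
    exact hNv (Submodule.subset_span hx)
  have hrn : r = n := by
    have := Module.finrank_eq_card_basis (Module.Basis.mk hvK hvspan.ge)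
    rw [Fintype.card_fin] at this
    rw [← hn, this]
  let b' : Module.Basis (Fin n) S N := b.reindex (finCongr hrn)
  let c : M →ₗ[O] (Fin n → S) :=
    (b'.equivFun.toLinearMap.restrictScalars O) ∘ₗ
      (LinearMap.codRestrict (N.restrictScalars O) ι
        (fun m => Submodule.subset_span ⟨m, rfl⟩))
  refine ⟨c, ?_, ?_⟩
  · intro x y hxy
    apply hιinj
    have h1 : (LinearMap.codRestrict (N.restrictScalars O) ι
        (fun m => Submodule.subset_span ⟨m, rfl⟩)) x = (LinearMap.codRestrict (N.restrictScalars O) ι
        (fun m => Submodule.subset_span ⟨m, rfl⟩)) y := b'.equivFun.injective hxy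
    exact congrArg Subtype.val h1
  · rw [eq_top_iff]
    have h1 : Submodule.span S ((↑) ⁻¹' (Set.range ι) : Set N) = ⊤ :=
      Submodule.span_span_coe_preimage
    have h2 : (⊤ : Submodule S (Fin n → S)) = Submodule.map b'.equivFun.toLinearMap ⊤ := by
      rw [Submodule.map_top, LinearMap.range_eq_top.mpr b'.equivFun.surjective]
    rw [h2, ← h1, Submodule.map_span]
    apply Submodule.span_mono
    rintro _ ⟨x, ⟨m, hm⟩, rfl⟩
    refine ⟨m, ?_⟩
    change b'.equivFun _ = b'.equivFun x
    congr 1
    exact Subtype.ext hm
end

section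
variable {O : Type*} {S : Type*} {K : Type*} [CommRing O] [IsLocalRing O]
  [Infinite (IsLocalRing.ResidueField O)] [CommRing S] [Finite (MaximalSpectrum S)]
  [Field K]
  [Algebra O S] [Algebra S K] [Algebra O K] [IsScalarTower O S K]
  {M : Type*} [AddCommGroup M] [Module O M]

theorem exists_embedding (hSK : Function.Injective (algebraMap S K)) (n : ℕ)
    (c : M →ₗ[O] (Fin n → S)) (hc : Function.Injective c)
    (hspan : Submodule.span S (LinearMap.range c : Set (Fin n → S)) = ⊤) :
    ∃ Φ : M →ₗ[O] (Fin n → K), Function.Injective Φ ∧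
      (∀ x i, ∃ s : S, Φ x i = algebraMap S K s) ∧
      (∀ a : Fin n → O, ∃ x, Φ x = fun i => algebraMap O K (a i)) := by
  classical
  obtain ⟨m, hm, hdet⟩ := exists_unit_matrix n (LinearMap.range c) hspan
  choose μ hμ using hm
  set g : Matrix (Fin n) (Fin n) S := Matrix.of m with hg
  have hgg : g * g⁻¹ = 1 := Matrix.mul_nonsing_inv g hdet
  have hgg' : g⁻¹ * g = 1 := Matrix.nonsing_inv_mul g hdet
  let Φ' : M →ₗ[O] (Fin n → S) := (Matrix.vecMulLinear g⁻¹).restrictScalars O ∘ₗ c
  have hΦ' : ∀ x, Φ' x = Matrix.vecMul (c x) g⁻¹ := fun x => rfl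
  let Φ : M →ₗ[O] (Fin n → K) :=
    (LinearMap.compLeft ((Algebra.linearMap S K).restrictScalars O) (Fin n)) ∘ₗ Φ'
  have hΦ : ∀ x i, Φ x i = algebraMap S K (Φ' x i) := fun x i => rfl
  refine ⟨Φ, ?_, ?_, ?_⟩
  · intro x y hxy
    apply hc
    have h1 : Φ' x = Φ' y := by
      funext i
      apply hSK
      rw [← hΦ, ← hΦ, hxy]
    rw [hΦ', hΦ'] at h1
    have h2 := congrArg (fun w => Matrix.vecMul w g) h1
    simp only [Matrix.vecMul_vecMul, hgg', Matrix.vecMul_one] at h2
    exact h2
  · intro x i
    exact ⟨Φ' x i, hΦ x i⟩
  · intro a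
    refine ⟨∑ i, a i • μ i, ?_⟩
    have h1 : ∀ i, Φ' (μ i) = Pi.single i 1 := by
      intro i
      rw [hΦ', hμ i]
      have : m i = Matrix.vecMul (Pi.single i 1) g := by
        rw [Matrix.single_one_vecMul]
        rfl
      rw [this, Matrix.vecMul_vecMul, hgg, Matrix.vecMul_one]
    funext j
    rw [hΦ, map_sum]
    simp only [map_smul, h1]
    rw [Finset.sum_apply, Finset.sum_eq_single j]
    · rw [Pi.smul_apply, Pi.single_eq_same, Algebra.smul_def, mul_one,
        ← IsScalarTower.algebraMap_apply]
    · intro i _ hij
      rw [Pi.smul_apply, Pi.single_eq_of_ne (Ne.symm hij), smul_zero]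
    · intro h; exact absurd (Finset.mem_univ j) h
end

end Groth.Agent.Lib.TorsionFreeEmb97
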