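import Mathlib.Algebra.Homology.DerivedCategory.Linear
import Mathlib.Algebra.Homology.DerivedCategory.Basic
import Mathlib.CategoryTheory.Triangulated.Yoneda
import Mathlib.CategoryTheory.Triangulated.HomologicalFunctor
import Mathlib.Algebra.Category.ModuleCat.Abelian
import Mathlib.Algebra.Category.Grp.EpiMono
import Groth.Prelude.Def_DerLim
import Mathlib.CategoryTheory.Linear.LinearFunctor

/-!
# Orthogonality of torsion modules to Koszul-acyclic morphisms in `D(A)` (helper25)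

Generic homological lemmas about `Hom_{D}(S, Z⟦s⟧)` in a pretriangulated category.
-/

set_option autoImplicit false
universe w v u

open CategoryTheory Limits Pretriangulated Opposite

namespace Groth.Agent.Lib.TorsionOrth

section generic

variable {D : Type u} [Category.{v} D] [Preadditive D] [HasZeroObject D] [HasShift D ℤ]
  [∀ n : ℤ, (shiftFunctor D n).Additive] [Pretriangulated D]

/-- `Hom(S, W⟦s⟧) = 0` for all `s`. -/
def Van (S W : D) : Prop := ∀ (s : ℤ) (g : S ⟶ W⟦s⟧), g = 0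

/-- `Hom(S, Z⟦s⟧) → Hom(S, Z'⟦s⟧)` is bijective for all `s`. -/
def Bij (S : D) {Z Z' : D} (ψ : Z ⟶ Z') : Prop :=
  ∀ s : ℤ, Function.Bijective (fun g : S ⟶ Z⟦s⟧ => g ≫ ψ⟦s⟧')

/-- the homological functor `Hom(S, -)` with its tautological shift sequence. -/
noncomputable abbrev HF (S : D) : D ⥤ AddCommGrpCat.{v} := preadditiveCoyoneda.obj (op S)

noncomputable instance (S : D) : (HF S).ShiftSequence ℤ := Functor.ShiftSequence.tautological _ _

lemma HF_shift_map_apply (S : D) {Z Z' : D} (ψ : Z ⟶ Z') (s : ℤ) (g : S ⟶ Z⟦s⟧) :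
    ((HF S).shift s).map ψ g = g ≫ ψ⟦s⟧' := rfl

lemma bij_iff (S : D) {Z Z' : D} (ψ : Z ⟶ Z') :
    Bij S ψ ↔ ∀ s : ℤ, Mono (((HF S).shift s).map ψ) ∧ Epi (((HF S).shift s).map ψ) := by
  refine forall_congr' fun s => ?_
  rw [AddCommGrpCat.mono_iff_injective, AddCommGrpCat.epi_iff_surjective]
  rfl

lemma van_iff (S W : D) : Van S W ↔ ∀ s : ℤ, ∀ x : ((HF S).shift s).obj W, x = 0 := Iff.rfl

/-- `Bij S ψ ↔ Van S (cone ψ)`. -/
theorem bij_iff_van (S : D) (T : Triangle D) (hT : T ∈ distTriang D) :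
    Bij S T.mor₁ ↔ Van S T.obj₃ := by
  rw [bij_iff, van_iff]
  constructor
  · intro h s x
    have h1 : ((HF S).shift s).map T.mor₂ = 0 :=
      ((HF S).homologySequence_epi_shift_map_mor₁_iff T hT s).mp (h s).2
    have h2 : (HF S).homologySequenceδ T s (s + 1) rfl = 0 :=
      ((HF S).homologySequence_mono_shift_map_mor₁_iff T hT s (s + 1) rfl).mp (h (s + 1)).1
    have hex := (HF S).homologySequence_exact₃ T hT s (s + 1) rfl
    rw [ShortComplex.ab_exact_iff] at hex
    obtain ⟨y, hy⟩ := hex x (by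
      change (HF S).homologySequenceδ T s (s + 1) rfl x = 0
      rw [h2]; rfl)
    rw [← hy]
    change ((HF S).shift s).map T.mor₂ y = 0
    rw [h1]; rfl
  · intro h s
    constructor
    · rw [(HF S).homologySequence_mono_shift_map_mor₁_iff T hT (s - 1) s (by ring)]
      ext x
      rw [h (s - 1) x, map_zero]
      rfl
    · rw [(HF S).homologySequence_epi_shift_map_mor₁_iff T hT s]
      ext x
      exact h s _

/-- the inductive step: if `Hom(S, -)` kills the first maps of two distinguished triangles, then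
bijectivity on the cones gives injectivity on the middle terms and surjectivity on the first
terms. -/
theorem inj_surj_of_bij_cone (S : D) (T T' : Triangle D) (hT : T ∈ distTriang D)
    (hT' : T' ∈ distTriang D) (Φ : T ⟶ T')
    (h1 : ∀ s : ℤ, ((HF S).shift s).map T.mor₁ = 0)
    (h1' : ∀ s : ℤ, ((HF S).shift s).map T'.mor₁ = 0)
    (h : Bij S Φ.hom₃) (s : ℤ) :
    Function.Injective (fun g : S ⟶ T.obj₂⟦s⟧ => g ≫ Φ.hom₂⟦s⟧') ∧
      Function.Surjective (fun g : S ⟶ T.obj₁⟦s⟧ => g ≫ Φ.hom₁⟦s⟧') := by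
  constructor
  · have hmono : Mono (((HF S).shift s).map T.mor₂) :=
      ((HF S).homologySequence_mono_shift_map_mor₂_iff T hT s).mpr (h1 s)
    rw [AddCommGrpCat.mono_iff_injective] at hmono
    intro x y hxy
    apply hmono
    apply (h s).1
    change (x ≫ T.mor₂⟦s⟧') ≫ Φ.hom₃⟦s⟧' = (y ≫ T.mor₂⟦s⟧') ≫ Φ.hom₃⟦s⟧'
    rw [Category.assoc, Category.assoc, ← Functor.map_comp, Φ.comm₂, Functor.map_comp,
      ← Category.assoc, ← Category.assoc]
    exact congrArg (· ≫ T'.mor₂⟦s⟧') hxy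
  · intro y
    have hex := (HF S).homologySequence_exact₁ T' hT' (s - 1) s (by ring)
    have hepi : Epi ((HF S).homologySequenceδ T' (s - 1) s (by ring)) :=
      hex.epi_f_iff.mpr (h1' s)
    rw [AddCommGrpCat.epi_iff_surjective] at hepi
    obtain ⟨u', hu'⟩ := hepi y
    obtain ⟨u, hu⟩ := (h (s - 1)).2 u'
    refine ⟨(HF S).homologySequenceδ T (s - 1) s (by ring) u, ?_⟩
    have hnat := (HF S).homologySequenceδ_naturality T T' Φ (s - 1) s (by ring)
    have := congrArg (fun m => m u) hnat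
    simp only [ConcreteCategory.comp_apply] at this
    rw [← hu', ← hu]
    exact this.symm

/-- vanishing of `Hom(-, W⟦s⟧)` passes to homotopy colimits. -/
theorem van_of_isHocolim (K : ℕ → D) (f : ∀ n, K n ⟶ K (n + 1)) [HasCoproduct K] (L : D)
    (i : ∀ n, K n ⟶ L) (h : DerLim.IsHocolim K f L i) (W : D) (hv : ∀ n, Van (K n) W) :
    Van L W := by
  intro s g
  obtain ⟨c, hc⟩ := h
  have h0 : Sigma.desc i ≫ g = 0 := by
    apply Sigma.hom_ext
    intro n
    rw [← Category.assoc, Sigma.ι_desc, comp_zero]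
    exact hv n s _
  obtain ⟨g', hg'⟩ := Triangle.yoneda_exact₃ _ hc g h0
  change (∐ K)⟦(1 : ℤ)⟧ ⟶ W⟦s⟧ at g'
  change g = c ≫ g' at hg'
  have hz : g' = 0 := by
    let e : W⟦s⟧ ≅ (W⟦s - 1⟧)⟦(1 : ℤ)⟧ := (shiftFunctorAdd' D (s - 1) 1 s (by ring)).app W
    have h2 : g' ≫ e.hom = 0 := by
      obtain ⟨u, hu⟩ := (shiftFunctor D (1 : ℤ)).map_surjective (g' ≫ e.hom)
      have hu0 : u = 0 := by
        apply Sigma.hom_ext
        intro n
        exact (hv n (s - 1) _).trans comp_zero.symm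
      rw [← hu, hu0, Functor.map_zero]
    have := congrArg (· ≫ e.inv) h2
    simpa using this
  rw [hg', hz, comp_zero]

end generic

section generic2

variable {D : Type u} [Category.{v} D] [Preadditive D] [HasZeroObject D] [HasShift D ℤ]
  [∀ n : ℤ, (shiftFunctor D n).Additive] [Pretriangulated D]

lemma bij_of_isIso (S : D) {Z Z' : D} (ψ : Z ⟶ Z') [IsIso ψ] : Bij S ψ := by
  intro s
  constructor
  · intro x y h
    have := congrArg (· ≫ inv (ψ⟦s⟧')) h
    simpa using this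
  · intro y
    exact ⟨y ≫ inv (ψ⟦s⟧'), by simp⟩

variable {R : Type*} [CommRing R] [Linear R D] [∀ n : ℤ, (shiftFunctor D n).Linear R]

lemma HF_shift_map_smul_eq_zero (S Z : D) (a : R) (h : a • 𝟙 S = 0) (s : ℤ) :
    ((HF S).shift s).map (a • 𝟙 Z) = 0 := by
  ext g
  change g ≫ (a • 𝟙 Z)⟦s⟧' = 0
  rw [Functor.map_smul, CategoryTheory.Functor.map_id, Linear.comp_smul, Category.comp_id,
    ← Category.id_comp g, ← Linear.smul_comp, h, zero_comp]

end generic2

section generic3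

variable {D : Type u} [Category.{v} D] [Preadditive D] [HasZeroObject D] [HasShift D ℤ]
  [∀ n : ℤ, (shiftFunctor D n).Additive] [Pretriangulated D]
  {R : Type*} [CommRing R] [Linear R D] [∀ n : ℤ, (shiftFunctor D n).Linear R]

/-- in a distinguished triangle, if `a` kills `mor₃` and `b` kills `mor₂`, then `b * a` kills
the third object. -/
lemma mul_smul_id_obj₃_eq_zero (T : Triangle D) (hT : T ∈ distTriang D) (a b : R)
    (h3 : a • T.mor₃ = 0) (h2 : b • T.mor₂ = 0) : (b * a) • 𝟙 T.obj₃ = 0 := by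
  obtain ⟨u, hu⟩ := Triangle.coyoneda_exact₃ T hT (a • 𝟙 T.obj₃) (by
    rw [Linear.smul_comp, Category.id_comp, h3])
  rw [mul_smul, hu, ← Linear.comp_smul, h2, comp_zero]

/-- `a` is nilpotent on `Z`. -/
def NilD (a : R) (Z : D) : Prop := ∃ n : ℕ, a ^ n • 𝟙 Z = 0

lemma NilD.of_le {a : R} {Z : D} {n m : ℕ} (h : a ^ n • 𝟙 Z = 0) (hnm : n ≤ m) :
    a ^ m • 𝟙 Z = 0 := by
  obtain ⟨k, rfl⟩ := Nat.exists_eq_add_of_le hnm
  rw [pow_add, mul_comm, mul_smul, h, smul_zero]

lemma nilD_obj₃ (T : Triangle D) (hT : T ∈ distTriang D) (a : R) (h1 : NilD a T.obj₁)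
    (h2 : NilD a T.obj₂) : NilD a T.obj₃ := by
  obtain ⟨n1, h1⟩ := h1
  obtain ⟨n2, h2⟩ := h2
  refine ⟨n2 + n1, ?_⟩
  rw [pow_add]
  apply mul_smul_id_obj₃_eq_zero T hT
  · have : a ^ n1 • T.mor₃ = T.mor₃ ≫ (a ^ n1 • 𝟙 T.obj₁)⟦(1 : ℤ)⟧' := by
      rw [Functor.map_smul, CategoryTheory.Functor.map_id, Linear.comp_smul, Category.comp_id]
    rw [this, h1, Functor.map_zero, comp_zero]
  · have : a ^ n2 • T.mor₂ = (a ^ n2 • 𝟙 T.obj₂) ≫ T.mor₂ := by
      rw [Linear.smul_comp, Category.id_comp]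
    rw [this, h2, zero_comp]

/-- the cone of `a • 𝟙` is killed by `a * a`. -/
lemma nilD_of_dist_self {X Z : D} (a : R) (m2 : X ⟶ Z) (m3 : Z ⟶ X⟦(1 : ℤ)⟧)
    (hT : Triangle.mk (a • 𝟙 X) m2 m3 ∈ distTriang D) : NilD a Z := by
  refine ⟨2, ?_⟩
  rw [pow_two]
  refine mul_smul_id_obj₃_eq_zero _ hT a a ?_ ?_
  · have h := comp_distTriang_mor_zero₃₁ _ hT
    change m3 ≫ (shiftFunctor D (1 : ℤ)).map (a • 𝟙 X) = 0 at h
    change a • m3 = 0
    rw [Functor.map_smul, CategoryTheory.Functor.map_id, Linear.comp_smul,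
      Category.comp_id] at h
    exact h
  · have h := comp_distTriang_mor_zero₁₂ _ hT
    change (a • 𝟙 X) ≫ m2 = 0 at h
    change a • m2 = 0
    rw [Linear.smul_comp, Category.id_comp] at h
    exact h

lemma NilD.pow {a : R} {Z : D} {m : ℕ} (h : NilD (a ^ m) Z) : NilD a Z := by
  obtain ⟨n, hn⟩ := h
  exact ⟨m * n, by rw [pow_mul]; exact hn⟩

end generic3

end Groth.Agent.Lib.TorsionOrth
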