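import Groth.Prelude.Def_SiteCmp
import Mathlib.CategoryTheory.Sites.Abelian
import Mathlib.GroupTheory.OrderOfElement

/-!
# The torsion subsheaf of an abelian sheaf (helper11)

* `Ftor J F` : the subsheaf of locally torsion sections of an abelian sheaf `F`, `torι : Ftor J F ⟶ F`;
* `tau J : Sheaf J Ab ⥤ (torsionSh J).FullSubcategory` and `adj J : (torsionSh J).ι ⊣ tau J`.
-/

set_option autoImplicit false
universe u
open CategoryTheory CategoryTheory.Limits Opposite

namespace Groth.Agent.Lib.TorsionSh11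

variable {C : Type u} [SmallCategory C] (J : GrothendieckTopology C)

/-- a section is locally torsion -/
def LocTor (F : Sheaf J AddCommGrpCat.{u}) {U : C} (s : F.obj.obj (op U)) : Prop :=
  ∃ S ∈ J U, ∀ ⦃V : C⦄ (g : V ⟶ U), S g → ∃ n : ℕ, 0 < n ∧ n • ((F.obj.map g.op).hom s) = 0

variable {J}

lemma isTorsionSh_iff (F : Sheaf J AddCommGrpCat.{u}) :
    SiteCmp.IsTorsionSh J F ↔ ∀ (U : C) (s : F.obj.obj (op U)), LocTor J F s := by
  unfold SiteCmp.IsTorsionSh LocTor
  simp only [isOfFinAddOrder_iff_nsmul_eq_zero]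

lemma LocTor.res {F : Sheaf J AddCommGrpCat.{u}} {U V : C} (g : V ⟶ U) {s : F.obj.obj (op U)}
    (h : LocTor J F s) : LocTor J F ((F.obj.map g.op).hom s) := by
  obtain ⟨S, hS, k⟩ := h
  refine ⟨S.pullback g, J.pullback_stable g hS, fun W a ha => ?_⟩
  obtain ⟨n, hn, e⟩ := k (a ≫ g) ha
  refine ⟨n, hn, ?_⟩
  have : (F.obj.map a.op).hom ((F.obj.map g.op).hom s) = (F.obj.map (a ≫ g).op).hom s := by
    rw [op_comp, F.obj.map_comp]
    rfl
  rw [this, e]

lemma LocTor.map {F F' : Sheaf J AddCommGrpCat.{u}} (φ : F ⟶ F') {U : C} {s : F.obj.obj (op U)}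
    (h : LocTor J F s) : LocTor J F' ((φ.hom.app (op U)).hom s) := by
  obtain ⟨S, hS, k⟩ := h
  refine ⟨S, hS, fun V g hg => ?_⟩
  obtain ⟨n, hn, e⟩ := k g hg
  refine ⟨n, hn, ?_⟩
  have : (F'.obj.map g.op).hom ((φ.hom.app (op U)).hom s) =
      (φ.hom.app (op V)).hom ((F.obj.map g.op).hom s) := by
    have := φ.hom.naturality g.op
    exact (congrArg (fun t => t.hom s) this).symm
  rw [this, ← map_nsmul, e, map_zero]

variable (J)

/-- the subgroup of locally torsion sections -/
def torSub (F : Sheaf J AddCommGrpCat.{u}) (U : C) : AddSubgroup (F.obj.obj (op U)) where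
  carrier := {s | LocTor J F s}
  zero_mem' := ⟨⊤, J.top_mem U, fun V g _ => ⟨1, Nat.one_pos, by rw [map_zero, smul_zero]⟩⟩
  add_mem' := by
    rintro a b ⟨S₁, h₁, k₁⟩ ⟨S₂, h₂, k₂⟩
    refine ⟨S₁ ⊓ S₂, J.intersection_covering h₁ h₂, fun V g hg => ?_⟩
    obtain ⟨n₁, hn₁, e₁⟩ := k₁ g hg.1
    obtain ⟨n₂, hn₂, e₂⟩ := k₂ g hg.2
    refine ⟨n₁ * n₂, Nat.mul_pos hn₁ hn₂, ?_⟩
    rw [map_add, smul_add, mul_comm n₁ n₂, mul_smul, e₁, smul_zero, mul_comm n₂ n₁, mul_smul, e₂,
      smul_zero, add_zero]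
  neg_mem' := by
    rintro a ⟨S, h, k⟩
    refine ⟨S, h, fun V g hg => ?_⟩
    obtain ⟨n, hn, e⟩ := k g hg
    exact ⟨n, hn, by rw [map_neg, smul_neg, e, neg_zero]⟩

/-- restriction of locally torsion sections -/
def torRes (F : Sheaf J AddCommGrpCat.{u}) {U V : C} (g : V ⟶ U) :
    torSub J F U →+ torSub J F V :=
  ((F.obj.map g.op).hom.comp (torSub J F U).subtype).codRestrict (torSub J F V)
    (fun s => LocTor.res g s.2)

/-- the presheaf of locally torsion sections -/
def torPre (F : Sheaf J AddCommGrpCat.{u}) : Cᵒᵖ ⥤ AddCommGrpCat.{u} where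
  obj U := AddCommGrpCat.of (torSub J F U.unop)
  map g := AddCommGrpCat.ofHom (torRes J F g.unop)
  map_id U := by
    ext s
    change (F.obj.map (𝟙 U)).hom s.1 = s.1
    rw [F.obj.map_id]
    rfl
  map_comp f g := by
    ext s
    change (F.obj.map (f ≫ g)).hom s.1 = (F.obj.map g).hom ((F.obj.map f).hom s.1)
    rw [F.obj.map_comp]
    rfl

/-- the inclusion of the presheaf of locally torsion sections -/
def torPreι (F : Sheaf J AddCommGrpCat.{u}) : torPre J F ⟶ F.obj where
  app U := AddCommGrpCat.ofHom (torSub J F U.unop).subtype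
  naturality U V g := by
    ext s
    rfl

/-- sections of the forgetful presheaf of `torPre` as elements of the subgroup -/
def asSub (F : Sheaf J AddCommGrpCat.{u}) (V : C)
    (z : (torPre J F ⋙ forget AddCommGrpCat.{u}).obj (op V)) : torSub J F V := z

lemma isSheaf_torPre (F : Sheaf J AddCommGrpCat.{u}) : Presheaf.IsSheaf J (torPre J F) := by
  rw [Presheaf.isSheaf_iff_isSheaf_forget J (torPre J F) (forget AddCommGrpCat.{u}),
    isSheaf_iff_isSheaf_of_type]
  have hF : Presieve.IsSheaf J (F.obj ⋙ forget AddCommGrpCat.{u}) := by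
    rw [← isSheaf_iff_isSheaf_of_type, ← Presheaf.isSheaf_iff_isSheaf_forget]
    exact F.property
  intro U S hS x hx
  -- push the family to `F`
  let y : Presieve.FamilyOfElements (F.obj ⋙ forget AddCommGrpCat.{u}) S.arrows :=
    fun V g hg => (asSub J F V (x g hg)).1
  have hy : y.Compatible := by
    intro V₁ V₂ W g₁ g₂ f₁ f₂ h₁ h₂ e
    have := hx g₁ g₂ h₁ h₂ e
    exact congrArg (fun z => (asSub J F W z).1) this
  obtain ⟨t, ht, htu⟩ := hF S hS y hy
  have htor : LocTor J F (t : F.obj.obj (op U)) := by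
    have hx' : ∀ ⦃V : C⦄ (g : V ⟶ U) (hg : S g), LocTor J F ((F.obj.map g.op).hom t) := by
      intro V g hg
      have e : (F.obj.map g.op).hom t = (asSub J F V (x g hg)).1 := ht g hg
      rw [e]
      exact (asSub J F V (x g hg)).2
    choose R hR k using hx'
    refine ⟨Sieve.bind S.arrows R, J.bind_covering hS hR, ?_⟩
    rintro W _ ⟨V, a, g, hg, ha, rfl⟩
    obtain ⟨n, hn, e⟩ := k g hg a ha
    refine ⟨n, hn, ?_⟩
    have : (F.obj.map (a ≫ g).op).hom t = (F.obj.map a.op).hom ((F.obj.map g.op).hom t) := by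
      rw [op_comp, F.obj.map_comp]
      rfl
    rw [this, e]
  refine ⟨(⟨t, htor⟩ : torSub J F U), ?_, ?_⟩
  · intro V g hg
    apply Subtype.ext
    exact ht g hg
  · intro t' ht'
    apply Subtype.ext
    apply htu
    intro V g hg
    exact congrArg (fun z => (asSub J F V z).1) (ht' g hg)

/-- the torsion subsheaf -/
def Ftor (F : Sheaf J AddCommGrpCat.{u}) : Sheaf J AddCommGrpCat.{u} :=
  ⟨torPre J F, isSheaf_torPre J F⟩

/-- the inclusion of the torsion subsheaf -/
def torι (F : Sheaf J AddCommGrpCat.{u}) : Ftor J F ⟶ F := ObjectProperty.homMk (torPreι J F)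

lemma torι_app_apply (F : Sheaf J AddCommGrpCat.{u}) (U : C) (s : torSub J F U) :
    ((torι J F).hom.app (op U)).hom s = (s : F.obj.obj (op U)) := rfl

lemma isTorsionSh_Ftor (F : Sheaf J AddCommGrpCat.{u}) : SiteCmp.IsTorsionSh J (Ftor J F) := by
  rw [isTorsionSh_iff]
  intro U s
  obtain ⟨S, hS, k⟩ := (s : torSub J F U).2
  refine ⟨S, hS, fun V g hg => ?_⟩
  obtain ⟨n, hn, e⟩ := k g hg
  refine ⟨n, hn, ?_⟩
  apply Subtype.ext
  exact e

variable {J}

lemma hom_ext_torι {G F : Sheaf J AddCommGrpCat.{u}} (a b : G ⟶ Ftor J F)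
    (h : a ≫ torι J F = b ≫ torι J F) : a = b := by
  apply ObjectProperty.hom_ext
  apply NatTrans.ext
  funext U
  apply AddCommGrpCat.hom_ext
  apply AddMonoidHom.ext
  intro s
  apply Subtype.ext
  have := congrArg (fun t : G ⟶ F => (t.hom.app U).hom s) h
  exact this

instance (F : Sheaf J AddCommGrpCat.{u}) : Mono (torι J F) := ⟨fun a b h => hom_ext_torι a b h⟩

/-- a morphism from a torsion sheaf lands in the torsion subsheaf -/
def torLift {G F : Sheaf J AddCommGrpCat.{u}} (hG : SiteCmp.IsTorsionSh J G) (φ : G ⟶ F) :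
    G ⟶ Ftor J F :=
  ObjectProperty.homMk
    { app := fun U => AddCommGrpCat.ofHom ((φ.hom.app U).hom.codRestrict (torSub J F U.unop)
        (fun s => LocTor.map φ ((isTorsionSh_iff G).1 hG U.unop s)))
      naturality := fun U V g => by
        ext s
        apply Subtype.ext
        have := φ.hom.naturality g
        exact congrArg (fun t => t.hom s) this }

@[reassoc]
lemma torLift_ι {G F : Sheaf J AddCommGrpCat.{u}} (hG : SiteCmp.IsTorsionSh J G) (φ : G ⟶ F) :
    torLift hG φ ≫ torι J F = φ := by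
  apply ObjectProperty.hom_ext
  apply NatTrans.ext
  funext U
  apply AddCommGrpCat.hom_ext
  apply AddMonoidHom.ext
  intro s
  rfl

variable (J)

/-- the torsion subsheaf functor -/
def tau : Sheaf J AddCommGrpCat.{u} ⥤ (SiteCmp.torsionSh J).FullSubcategory where
  obj F := ⟨Ftor J F, isTorsionSh_Ftor J F⟩
  map {F F'} φ := ObjectProperty.homMk (torLift (isTorsionSh_Ftor J F) (torι J F ≫ φ))
  map_id F := by
    apply ObjectProperty.hom_ext
    apply hom_ext_torι
    change torLift (isTorsionSh_Ftor J F) (torι J F ≫ 𝟙 F) ≫ torι J F = 𝟙 (Ftor J F) ≫ torι J F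
    rw [torLift_ι, Category.comp_id, Category.id_comp]
  map_comp {F F' F''} φ ψ := by
    apply ObjectProperty.hom_ext
    apply hom_ext_torι
    change torLift (isTorsionSh_Ftor J F) (torι J F ≫ φ ≫ ψ) ≫ torι J F'' =
      (torLift (isTorsionSh_Ftor J F) (torι J F ≫ φ) ≫
        torLift (isTorsionSh_Ftor J F') (torι J F' ≫ ψ)) ≫ torι J F''
    rw [torLift_ι, Category.assoc, torLift_ι, torLift_ι_assoc, Category.assoc]

lemma tau_map_ι {F F' : Sheaf J AddCommGrpCat.{u}} (φ : F ⟶ F') :
    ((tau J).map φ).hom ≫ torι J F' = torι J F ≫ φ :=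
  torLift_ι (isTorsionSh_Ftor J F) _

/-- the hom-equivalence of the adjunction -/
def homEquiv (G : (SiteCmp.torsionSh J).FullSubcategory) (F : Sheaf J AddCommGrpCat.{u}) :
    ((SiteCmp.torsionSh J).ι.obj G ⟶ F) ≃ (G ⟶ (tau J).obj F) where
  toFun φ := ObjectProperty.homMk (torLift G.property φ)
  invFun ψ := ψ.hom ≫ torι J F
  left_inv φ := torLift_ι G.property φ
  right_inv ψ := by
    apply ObjectProperty.hom_ext
    apply hom_ext_torι
    exact torLift_ι G.property _

lemma homEquiv_apply_ι (G : (SiteCmp.torsionSh J).FullSubcategory) (F : Sheaf J AddCommGrpCat.{u})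
    (φ : (SiteCmp.torsionSh J).ι.obj G ⟶ F) : (homEquiv J G F φ).hom ≫ torι J F = φ :=
  torLift_ι G.property φ

/-- the torsion subsheaf functor is right adjoint to the inclusion of torsion sheaves -/
def adj : (SiteCmp.torsionSh J).ι ⊣ tau J :=
  Adjunction.mkOfHomEquiv
    { homEquiv := homEquiv J
      homEquiv_naturality_left_symm := fun {G' G F} a ψ => by
        change (a ≫ ψ).hom ≫ torι J F = a.hom ≫ ψ.hom ≫ torι J F
        rw [ObjectProperty.FullSubcategory.comp_hom, Category.assoc]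
      homEquiv_naturality_right := fun {G F F'} φ b => by
        apply ObjectProperty.hom_ext
        apply hom_ext_torι
        change torLift G.property (φ ≫ b) ≫ torι J F' =
          (torLift G.property φ ≫ torLift (isTorsionSh_Ftor J F) (torι J F ≫ b)) ≫ torι J F'
        rw [torLift_ι, Category.assoc, torLift_ι, torLift_ι_assoc] }

lemma adj_counit_app (F : Sheaf J AddCommGrpCat.{u}) : (adj J).counit.app F = torι J F := by
  change ((adj J).homEquiv _ _).symm (𝟙 _) = _
  change InducedCategory.Hom.hom (𝟙 ((tau J).obj F)) ≫ torι J F = torι J F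
  rw [ObjectProperty.FullSubcategory.id_hom]
  exact Category.id_comp _

end Groth.Agent.Lib.TorsionSh11
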