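import Groth.Agent.Lib.FpqcFamilyDescent
import Groth.Prelude.Def_AlgGrp
import Groth.Prelude.Def_NonAbH2
import Mathlib.CategoryTheory.Monoidal.Cartesian.Over
import Mathlib.CategoryTheory.Monoidal.Grp

/-!
# fpqc torsors inherit the fpqc-local properties of the group (helper21)

For `a : AlgGrp.Action G X` in `Over S` which is a pseudo-torsor (`NonAbH1.IsPseudoTorsorSch a`):

* `snd_left_eq` : the second projection `X ×_S X ⟶ X` is, up to the pseudo-torsor isomorphism,
  the second projection `G ×_S X ⟶ X`;
* `prop_pullback_snd_self` : `P (G ⟶ S) → P (pr₂ : X ×_S X ⟶ X)` for `P` stable under base change;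
* `prop_pullback_snd_of_section` : `P (G ⟶ S) → P (X ×_S T ⟶ T)` whenever `T ⟶ S` lifts to `X`;
* `prop_hom_of_isTorsorFor_fpqc` : if `X` is an fpqc `G`-torsor and `P` is Zariski-local at the
  target, stable under base change and descends along fpqc morphisms, then `P (G ⟶ S) → P (X ⟶ S)`.
-/

universe u

open CategoryTheory MonoidalCategory CartesianMonoidalCategory MonObj AlgebraicGeometry Limits

namespace Groth.Agent.Lib.TorsorFpqcDescent

variable {S : Scheme.{u}} {G X : Over S} [GrpObj G] (a : AlgGrp.Action G X)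

lemma snd_left_eq (ha : NonAbH1.IsPseudoTorsorSch a) :
    haveI : IsIso (lift a.act (snd G X)) := ha
    pullback.snd X.hom X.hom = (inv (lift a.act (snd G X))).left ≫ pullback.snd G.hom X.hom := by
  have : IsIso (lift a.act (snd G X)) := ha
  have h : inv (lift a.act (snd G X)) ≫ snd G X = snd X X := by
    rw [IsIso.inv_comp_eq, lift_snd]
  have := congrArg (fun k => k.left) h
  simpa using this.symm

variable (P : MorphismProperty Scheme.{u})

lemma prop_pullback_snd_self [P.IsStableUnderBaseChange] (ha : NonAbH1.IsPseudoTorsorSch a)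
    (hG : P G.hom) : P (pullback.snd X.hom X.hom) := by
  have : IsIso (lift a.act (snd G X)) := ha
  rw [snd_left_eq a ha]
  have : IsIso (inv (lift a.act (snd G X))).left :=
    inferInstanceAs (IsIso ((Over.forget S).map (inv (lift a.act (snd G X)))))
  rw [P.cancel_left_of_respectsIso]
  exact P.pullback_snd _ _ hG

lemma prop_pullback_snd_of_section [P.IsStableUnderBaseChange] (ha : NonAbH1.IsPseudoTorsorSch a)
    (hG : P G.hom) {T : Scheme.{u}} (g : T ⟶ S) (hs : NonAbH1.HasSectionOver X g) :
    P (pullback.snd X.hom g) := by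
  obtain ⟨s, rfl⟩ := hs
  exact Groth.Agent.Lib.FpqcFamilyDescent.pullback_snd_comp P X.hom X.hom s
    (prop_pullback_snd_self a P ha hG)

theorem prop_hom_of_isTorsorFor_fpqc [IsZariskiLocalAtTarget P] [P.IsStableUnderBaseChange]
    [P.DescendsAlong (@Surjective ⊓ @Flat ⊓ @QuasiCompact)]
    (ha : NonAbH1.IsTorsorFor Scheme.fpqcPrecoverage a) (hG : P G.hom) : P X.hom := by
  obtain ⟨hps, R, hR, hsec⟩ := ha
  exact Groth.Agent.Lib.FpqcFamilyDescent.of_mem_fpqcPrecoverage P X.hom hR
    fun T g hg => prop_pullback_snd_of_section a P hps hG g (hsec g hg)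

end Groth.Agent.Lib.TorsorFpqcDescent
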