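import Groth.Agent.Lib.TorsorFpqcDescent
import Groth.Prelude.Def_ChGrp
import Mathlib.AlgebraicGeometry.Morphisms.IsIso

/-!
# Equivariant morphisms of fpqc torsors are isomorphisms (helper21)

* `isIso_whiskerRight_of_isEquivariant` : for an equivariant `f : X ⟶ X'` between pseudo-torsors
  under `G`, the morphism `f × id_X : X × X ⟶ X' × X` is an isomorphism;
* `isPullback_whiskerRight_left` : `h × id_Z` is the base change of `h` along `pr₁ : Y × Z ⟶ Y`;
* `of_whiskerRight_of_isLocallyTrivialFor_fpqc` : if `Z ⟶ S` has sections fpqc-locally and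
  `h × id_Z` has an fpqc-local property `P`, then so does `h`;
* `isIso_of_isEquivariant` : an equivariant morphism from an fpqc torsor to a pseudo-torsor is an
  isomorphism.
-/

universe u

open CategoryTheory MonoidalCategory CartesianMonoidalCategory MonObj AlgebraicGeometry Limits

namespace Groth.Agent.Lib.TorsorFpqcDescent

open Groth.Agent.Lib.FpqcFamilyDescent

section
variable {S : Scheme.{u}} {G X X' : Over S} [GrpObj G] (a : AlgGrp.Action G X)
  (a' : AlgGrp.Action G X')

/-- For an equivariant morphism `f : X ⟶ X'` of pseudo-torsors, `f × id_X : X × X ⟶ X' × X` is an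
isomorphism. -/
theorem isIso_whiskerRight_of_isEquivariant (ha : NonAbH1.IsPseudoTorsorSch a)
    (ha' : NonAbH1.IsPseudoTorsorSch a') (f : X ⟶ X')
    (hf : AlgGrp.Action.IsEquivariant a a' f) : IsIso (f ▷ X) := by
  have : IsIso (lift a.act (snd G X)) := ha
  have : IsIso (lift a'.act (snd G X')) := ha'
  have hsnd' : inv (lift a'.act (snd G X')) ≫ snd G X' = snd X' X' := by
    rw [IsIso.inv_comp_eq, lift_snd]
  have hfst' : inv (lift a'.act (snd G X')) ≫ a'.act = fst X' X' := by
    rw [IsIso.inv_comp_eq, lift_fst]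
  let ψ : G ⊗ X ⟶ X' ⊗ X := lift ((G ◁ f) ≫ a'.act) (snd G X)
  let ψinv : X' ⊗ X ⟶ G ⊗ X :=
    lift ((X' ◁ f) ≫ inv (lift a'.act (snd G X')) ≫ fst G X') (snd X' X)
  have h1 : lift a.act (snd G X) ≫ (f ▷ X) = ψ := by
    apply CartesianMonoidalCategory.hom_ext
    · simp only [Category.assoc, whiskerRight_fst, lift_fst_assoc, ψ, lift_fst]
      exact hf
    · simp [ψ]
  have h2 : ψ ≫ (X' ◁ f) = (G ◁ f) ≫ lift a'.act (snd G X') := by
    apply CartesianMonoidalCategory.hom_ext <;> simp [ψ]
  have h3 : ψinv ≫ (G ◁ f) = (X' ◁ f) ≫ inv (lift a'.act (snd G X')) := by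
    apply CartesianMonoidalCategory.hom_ext
    · simp [ψinv]
    · simp [ψinv, hsnd']
  have h4 : ψ ≫ ψinv = 𝟙 _ := by
    apply CartesianMonoidalCategory.hom_ext
    · simp only [ψinv, Category.assoc, lift_fst, Category.id_comp]
      rw [reassoc_of% h2]
      simp
    · simp [ψinv, ψ]
  have h5 : ψinv ≫ ψ = 𝟙 _ := by
    apply CartesianMonoidalCategory.hom_ext
    · simp only [ψ, Category.assoc, lift_fst, Category.id_comp]
      rw [reassoc_of% h3, hfst']
      simp
    · simp [ψinv, ψ]
  have : IsIso ψ := ⟨⟨ψinv, h4, h5⟩⟩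
  have h6 : f ▷ X = inv (lift a.act (snd G X)) ≫ ψ := by
    rw [IsIso.eq_inv_comp, h1]
  rw [h6]
  infer_instance

end

section

variable (P : MorphismProperty Scheme.{u})

lemma pullback_snd_of_isPullback [P.RespectsIso] {A X Y Z : Scheme.{u}} {fst : A ⟶ X} {snd : A ⟶ Y}
    {f : X ⟶ Z} {g : Y ⟶ Z} (sq : IsPullback fst snd f g) (h : P snd) :
    P (pullback.snd f g) := by
  rw [← sq.isoPullback_inv_snd, P.cancel_left_of_respectsIso]
  exact h

variable {S : Scheme.{u}}

/-- The square exhibiting `h × id_Z` as the base change of `h` along `pr₁ : Y × Z ⟶ Y`. -/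
lemma isPullback_whiskerRight_left {X Y : Over S} (h : X ⟶ Y) (Z : Over S) :
    IsPullback (h ▷ Z).left (pullback.fst X.hom Z.hom) (pullback.fst Y.hom Z.hom) h.left := by
  have e1 : (h ▷ Z).left ≫ pullback.snd Y.hom Z.hom = pullback.snd X.hom Z.hom := by
    simpa using congrArg (fun k => k.left) (whiskerRight_snd h Z)
  have e2 : (h ▷ Z).left ≫ pullback.fst Y.hom Z.hom = pullback.fst X.hom Z.hom ≫ h.left := by
    simpa using congrArg (fun k => k.left) (whiskerRight_fst h Z)
  refine IsPullback.of_right (h₁₂ := pullback.snd Y.hom Z.hom) (h₂₂ := Y.hom) (v₁₃ := Z.hom)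
    ?_ e2 (IsPullback.of_hasPullback Y.hom Z.hom).flip
  rw [e1, Over.w h]
  exact (IsPullback.of_hasPullback X.hom Z.hom).flip

set_option backward.isDefEq.respectTransparency false in
/-- If `Z ⟶ S` acquires sections fpqc-locally on `S` and `h × id_Z` has `P`, then `h` has `P`
(`P` fpqc-local on the target). -/
theorem of_whiskerRight_of_isLocallyTrivialFor_fpqc [IsZariskiLocalAtTarget P]
    [P.IsStableUnderBaseChange] [P.DescendsAlong (@Surjective ⊓ @Flat ⊓ @QuasiCompact)]
    {X Y : Over S} (h : X ⟶ Y) {Z : Over S}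
    (hZ : NonAbH1.IsLocallyTrivialFor Scheme.fpqcPrecoverage Z) (hP : P (h ▷ Z).left) :
    P h.left := by
  obtain ⟨R, hR, hsec⟩ := hZ
  obtain ⟨𝒰, h𝒰, rfl⟩ := Scheme.mem_propQCPrecoverage_iff_exists_quasiCompactCover.mp hR
  have : QuasiCompactCover (𝒰.pullback₁ Y.hom).toPreZeroHypercover :=
    show QuasiCompactCover (𝒰.toPreZeroHypercover.pullback₁ Y.hom) from inferInstance
  refine of_cover P h.left (𝒰.pullback₁ Y.hom) fun i => ?_
  change P (pullback.snd h.left (pullback.fst Y.hom (𝒰.f i)))
  obtain ⟨s, hs⟩ := hsec (𝒰.f i) (Presieve.ofArrows.mk i)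
  let m : pullback Y.hom (𝒰.f i) ⟶ pullback Y.hom Z.hom :=
    pullback.lift (pullback.fst _ _) (pullback.snd _ _ ≫ s)
      (by rw [Category.assoc, hs, pullback.condition])
  have hm : m ≫ pullback.fst Y.hom Z.hom = pullback.fst Y.hom (𝒰.f i) := pullback.lift_fst _ _ _
  refine pullback_snd_congr P h.left hm (pullback_snd_comp P h.left _ m ?_)
  exact pullback_snd_of_isPullback P (isPullback_whiskerRight_left h Z).flip hP

end

section

variable {S : Scheme.{u}} {G X X' : Over S} [GrpObj G] (a : AlgGrp.Action G X)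
  (a' : AlgGrp.Action G X')

/-- An equivariant morphism from an fpqc torsor to a pseudo-torsor is an isomorphism. -/
theorem isIso_of_isEquivariant (ha : NonAbH1.IsTorsorFor Scheme.fpqcPrecoverage a)
    (ha' : NonAbH1.IsPseudoTorsorSch a') (f : X ⟶ X')
    (hf : AlgGrp.Action.IsEquivariant a a' f) : IsIso f := by
  have h1 : IsIso (f ▷ X) := isIso_whiskerRight_of_isEquivariant a a' ha.1 ha' f hf
  have h2 : IsIso (f ▷ X).left := inferInstanceAs (IsIso ((Over.forget S).map (f ▷ X)))
  have h3 : IsIso f.left :=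
    of_whiskerRight_of_isLocallyTrivialFor_fpqc (MorphismProperty.isomorphisms Scheme.{u}) f ha.2 h2
  have : IsIso ((Over.forget S).map f) := h3
  exact isIso_of_reflects_iso f (Over.forget S)

end

section

variable (P : MorphismProperty Scheme.{u}) {S : Scheme.{u}}

set_option backward.isDefEq.respectTransparency false in
/-- If `h × id_T` has `P` for every member `T ⟶ S` of an fpqc covering family of `S`, then `h` has
`P` (`P` fpqc-local on the target). -/
theorem of_whiskerRight_of_mem_fpqcPrecoverage [IsZariskiLocalAtTarget P]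
    [P.DescendsAlong (@Surjective ⊓ @Flat ⊓ @QuasiCompact)]
    {X Y : Over S} (h : X ⟶ Y) {R : Presieve S} (hR : R ∈ Scheme.fpqcPrecoverage S)
    (hP : ∀ ⦃T : Scheme.{u}⦄ (f : T ⟶ S), R f → P (h ▷ Over.mk f).left) :
    P h.left := by
  obtain ⟨𝒰, h𝒰, rfl⟩ := Scheme.mem_propQCPrecoverage_iff_exists_quasiCompactCover.mp hR
  have : QuasiCompactCover (𝒰.pullback₁ Y.hom).toPreZeroHypercover :=
    show QuasiCompactCover (𝒰.toPreZeroHypercover.pullback₁ Y.hom) from inferInstance
  refine of_cover' P h.left (𝒰.pullback₁ Y.hom) fun i => ?_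
  change P (pullback.snd h.left (pullback.fst Y.hom (𝒰.f i)))
  exact pullback_snd_of_isPullback P (isPullback_whiskerRight_left h (Over.mk (𝒰.f i))).flip
    (hP _ (Presieve.ofArrows.mk i))

/-- Isomorphisms in `Over S` can be checked after `- × T` for the members `T` of an fpqc covering
family of `S`. -/
theorem isIso_of_whiskerRight_of_mem_fpqcPrecoverage {X Y : Over S} (h : X ⟶ Y) {R : Presieve S}
    (hR : R ∈ Scheme.fpqcPrecoverage S)
    (hP : ∀ ⦃T : Scheme.{u}⦄ (f : T ⟶ S), R f → IsIso (h ▷ Over.mk f)) : IsIso h := by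
  have h3 : IsIso h.left :=
    of_whiskerRight_of_mem_fpqcPrecoverage (MorphismProperty.isomorphisms Scheme.{u}) h hR
      fun T f hf => by
        have := hP f hf
        exact inferInstanceAs (IsIso ((Over.forget S).map (h ▷ Over.mk f)))
  have : IsIso ((Over.forget S).map h) := h3
  exact isIso_of_reflects_iso h (Over.forget S)

end

end Groth.Agent.Lib.TorsorFpqcDescent
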