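import Mathlib
import Groth.Prelude.Def_ChGrp
import Groth.Agent.Lib.FpqcCov18
import Groth.Agent.Lib.FpqcCovDesc18
import Groth.Agent.Lib.PtsPullback18

/-!
# An equivariant map of principal bundles over different bases is cartesian (helper18)

Let `H` act on `P` and on `P'` (all in `Over S`), let `qP : P ⟶ Q` and `π : P' ⟶ B` be such that the
squares `(act, snd; qP, qP)` and `(act, snd; π, π)` are cartesian (formally principal homogeneous
over `Q`, resp. `B`), let `f : P ⟶ P'` be equivariant and `pX : Q ⟶ B` with `qP ≫ pX = f ≫ π`.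
If `qP` is a covering for the fpqc topology then the square `(qP, f; pX, π)` is cartesian.
-/

set_option autoImplicit false
set_option maxHeartbeats 400000
universe u
open CategoryTheory CategoryTheory.Limits MonoidalCategory CartesianMonoidalCategory MonObj GrpObj
  AlgebraicGeometry

namespace Groth.Agent.Lib.TorsorMapCart18

open Groth.Agent.Lib.FpqcCov18

variable {S : Scheme.{u}}

lemma exists_of_isPullback_act {A B C : Over S} {act : A ⊗ B ⟶ B} {f : B ⟶ C}
    (h : IsPullback act (snd A B) f f) {T : Over S} (y' y : T ⟶ B) (hy : y' ≫ f = y ≫ f) :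
    ∃ t : T ⟶ A, lift t y ≫ act = y' := by
  refine ⟨h.lift _ _ hy ≫ fst _ _, ?_⟩
  have e1 := h.lift_fst _ _ hy
  have e2 := h.lift_snd _ _ hy
  have e3 : lift (h.lift _ _ hy ≫ fst _ _) y = h.lift _ _ hy := by
    apply CartesianMonoidalCategory.hom_ext
    · simp
    · rw [lift_snd, e2]
  rw [e3, e1]

lemma eq_of_isPullback_act {A B C : Over S} {act : A ⊗ B ⟶ B} {f : B ⟶ C}
    (h : IsPullback act (snd A B) f f) {T : Over S} (t t' : T ⟶ A) (y : T ⟶ B)
    (ht : lift t y ≫ act = lift t' y ≫ act) : t = t' := by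
  have h3 : lift t y = lift t' y := by
    apply h.hom_ext
    · exact ht
    · simp
  have := congrArg (· ≫ fst _ _) h3
  simpa using this

/-- Local lifting of points along a covering for the fpqc topology. -/
lemma exists_local_lift {A B T : Over S} {p : A ⟶ B} (hp : IsFpqcCov p.left) (x : T ⟶ B) :
    ∃ (T' : Over S) (c : T' ⟶ T) (g : T' ⟶ A), IsFpqcCov c.left ∧ g ≫ p = c ≫ x := by
  have sq : IsPullback (pullback.fst p x).left (pullback.snd p x).left p.left x.left :=
    (IsPullback.of_hasPullback p x).map (Over.forget S)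
  exact ⟨pullback p x, pullback.snd p x, pullback.fst p x, hp.of_isPullback sq,
    pullback.condition⟩

variable {H P P' Q B : Over S} [GrpObj H]
  (b : AlgGrp.Action H P) (r : AlgGrp.Action H P')
  {qP : P ⟶ Q} {π : P' ⟶ B} {f : P ⟶ P'} {pX : Q ⟶ B}

omit [GrpObj H] in
lemma invariant_pts {A X Y : Over S} {act : A ⊗ X ⟶ X} {φ : X ⟶ Y}
    (h : IsPullback act (snd A X) φ φ) {T : Over S} (t : T ⟶ A) (x : T ⟶ X) :
    (lift t x ≫ act) ≫ φ = x ≫ φ := by
  rw [Category.assoc, h.w, lift_snd_assoc]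

include b r in
theorem isPullback_of_torsor_map
    (hsqP : IsPullback b.act (snd H P) qP qP)
    (hsqP' : IsPullback r.act (snd H P') π π)
    (hf : b.act ≫ f = (H ◁ f) ≫ r.act)
    (hcomm : qP ≫ pX = f ≫ π)
    (hcov : IsFpqcCov qP.left) :
    IsPullback qP f pX π := by
  have hfpt : ∀ ⦃T : Over S⦄ (h : T ⟶ H) (y : T ⟶ P),
      (lift h y ≫ b.act) ≫ f = lift h (y ≫ f) ≫ r.act := by
    intro T h y
    rw [Category.assoc, hf, lift_whiskerLeft_assoc]
  -- uniqueness of points with given images in `Q` and `P'`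
  have huniq : ∀ (T : Over S) (y₁ y₂ : T ⟶ P), y₁ ≫ qP = y₂ ≫ qP → y₁ ≫ f = y₂ ≫ f → y₁ = y₂ := by
    intro T y₁ y₂ h1 h2
    obtain ⟨h, hh⟩ := exists_of_isPullback_act hsqP y₁ y₂ h1
    have e1 : lift h (y₂ ≫ f) ≫ r.act = lift 1 (y₂ ≫ f) ≫ r.act := by
      rw [← hfpt, hh, h2, AlgGrp.Action.lift_one_act]
    have e2 : h = 1 := eq_of_isPullback_act hsqP' _ _ _ e1
    rw [← hh, e2, AlgGrp.Action.lift_one_act]
  refine Groth.Agent.Lib.PtsPullback18.isPullback_of_points hcomm ?_ huniq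
  intro T z g hzg
  obtain ⟨T', c, y₀, hc, hy₀⟩ := exists_local_lift hcov z
  have hepi := epi_over c hc
  have e1 : (c ≫ g) ≫ π = (y₀ ≫ f) ≫ π := by
    rw [Category.assoc, ← hzg, ← Category.assoc, ← hy₀, Category.assoc, hcomm, Category.assoc]
  obtain ⟨h, hh⟩ := exists_of_isPullback_act hsqP' _ _ e1
  obtain ⟨y', hy'⟩ : ∃ y' : T' ⟶ P, y' = lift h y₀ ≫ b.act := ⟨_, rfl⟩
  have hy'f : y' ≫ f = c ≫ g := by rw [hy', hfpt, hh]
  have hy'q : y' ≫ qP = c ≫ z := by rw [hy', invariant_pts hsqP, hy₀]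
  obtain ⟨y, hy⟩ := exists_desc_over c hc y' (by
    intro T'' t₁ t₂ ht
    apply huniq
    · rw [Category.assoc, Category.assoc, hy'q, ← Category.assoc, ← Category.assoc, ht]
    · rw [Category.assoc, Category.assoc, hy'f, ← Category.assoc, ← Category.assoc, ht])
  refine ⟨y, ?_, ?_⟩
  · rw [← cancel_epi c, ← Category.assoc, hy, hy'q]
  · rw [← cancel_epi c, ← Category.assoc, hy, hy'f]

end Groth.Agent.Lib.TorsorMapCart18
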