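import Groth.Agent.Lib.AdaptedClass31
import Mathlib.Algebra.Category.Grp.Limits
import Mathlib.Algebra.Category.Grp.Abelian
import Mathlib.Algebra.Category.Grp.EpiMono
import Mathlib.CategoryTheory.Abelian.FunctorCategory
import Mathlib.Algebra.Homology.ShortComplex.Ab

/-!
# `lim^i = 0` for `i ≥ 2` on towers of abelian groups (helper31)
-/

set_option autoImplicit false

universe u

open CategoryTheory Limits Opposite

namespace Groth.Agent.TowerLim31

/-- Towers of abelian groups. -/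
abbrev Tower := ℕᵒᵖ ⥤ AddCommGrpCat.{u}

/-- Towers all of whose transition maps are surjective. -/
def SurjTrans : ObjectProperty Tower.{u} :=
  fun X => ∀ ⦃i j : ℕᵒᵖ⦄ (f : i ⟶ j), Function.Surjective (X.map f)

section P

variable (A : Tower.{u})

/-- `∏_{k ≤ n} A_k`. -/
def PObj (n : ℕ) : AddCommGrpCat.{u} := AddCommGrpCat.of (∀ k : {k : ℕ // k ≤ n}, A.obj (op k.1))

/-- The restriction maps. -/
def PMap {n m : ℕ} (h : m ≤ n) : PObj A n ⟶ PObj A m :=
  AddCommGrpCat.ofHom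
    { toFun := fun x k => x ⟨k.1, le_trans k.2 h⟩
      map_zero' := rfl
      map_add' := fun _ _ => rfl }

/-- The tower `n ↦ ∏_{k ≤ n} A_k`. -/
def P : Tower.{u} where
  obj n := PObj A n.unop
  map {n m} f := PMap A (leOfHom f.unop)
  map_id n := by
    ext x
    rfl
  map_comp f g := by
    ext x
    rfl

lemma surjTrans_P : SurjTrans (P A) := by
  intro i j f x
  have h : j.unop ≤ i.unop := leOfHom f.unop
  classical
  refine ⟨fun k => if hk : k.1 ≤ j.unop then x ⟨k.1, hk⟩ else 0, ?_⟩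
  funext k
  change (if hk : k.1 ≤ j.unop then x ⟨k.1, hk⟩ else 0) = x k
  rw [dif_pos k.2]

lemma map_map_apply {a b c : ℕᵒᵖ} (f : a ⟶ b) (g : b ⟶ c) (h : a ⟶ c) (y : A.obj a) :
    A.map g (A.map f y) = A.map h y := by
  rw [Subsingleton.elim h (f ≫ g), A.map_comp]
  rfl

/-- The embedding `A ⟶ P A`. -/
def toP : A ⟶ P A where
  app n := AddCommGrpCat.ofHom
    { toFun := fun a k => A.map (homOfLE k.2).op a
      map_zero' := by
        funext k
        exact map_zero _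
      map_add' := fun a b => by
        funext k
        exact map_add _ a b }
  naturality n m f := by
    ext a
    funext k
    exact map_map_apply A _ _ _ a

lemma toP_app_injective (n : ℕᵒᵖ) : Function.Injective ((toP A).app n) := by
  intro a b h
  have h1 := congrFun h ⟨n.unop, le_refl _⟩
  change A.map (homOfLE (le_refl n.unop)).op a = A.map (homOfLE (le_refl n.unop)).op b at h1
  rw [Subsingleton.elim (homOfLE (le_refl n.unop)).op (𝟙 n), A.map_id] at h1
  exact h1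

instance mono_toP : Mono (toP A) := by
  have : ∀ n, Mono ((toP A).app n) := fun n =>
    (AddCommGrpCat.mono_iff_injective _).2 (toP_app_injective A n)
  exact NatTrans.mono_of_mono_app _

end P

section SES

variable {S : ShortComplex Tower.{u}} (hS : S.ShortExact)

include hS

lemma shortExact_eval (n : ℕᵒᵖ) :
    (S.map ((evaluation ℕᵒᵖ AddCommGrpCat.{u}).obj n)).ShortExact := hS.map_of_exact _

lemma f_app_injective (n : ℕᵒᵖ) : Function.Injective (S.f.app n) :=
  (AddCommGrpCat.mono_iff_injective _).1 (shortExact_eval hS n).mono_f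

lemma g_app_surjective (n : ℕᵒᵖ) : Function.Surjective (S.g.app n) :=
  (AddCommGrpCat.epi_iff_surjective _).1 (shortExact_eval hS n).epi_g

lemma exact_app (n : ℕᵒᵖ) (y : S.X₂.obj n) (hy : S.g.app n y = 0) : ∃ x, S.f.app n x = y :=
  (ShortComplex.ab_exact_iff _).1 (shortExact_eval hS n).exact y hy

omit hS in
lemma g_f_app (n : ℕᵒᵖ) (x : S.X₁.obj n) : S.g.app n (S.f.app n x) = 0 := by
  have h : S.f.app n ≫ S.g.app n = 0 := by
    rw [← NatTrans.comp_app, S.zero]
    rfl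
  exact ConcreteCategory.congr_hom h x

lemma surjTrans_X₃ (h₂ : SurjTrans S.X₂) : SurjTrans S.X₃ := by
  intro i j f c
  obtain ⟨b, rfl⟩ := g_app_surjective hS j c
  obtain ⟨b', rfl⟩ := h₂ f b
  exact ⟨S.g.app i b', (NatTrans.naturality_apply S.g f b').symm⟩

omit hS in
/-- The fibre tower over a compatible family `z`. -/
def Fib (z : ∀ n : ℕᵒᵖ, S.X₃.obj n) (hz : ∀ ⦃i j : ℕᵒᵖ⦄ (f : i ⟶ j), S.X₃.map f (z i) = z j) :
    ℕᵒᵖ ⥤ Type u where
  obj n := {y : S.X₂.obj n // S.g.app n y = z n}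
  map {i j} f := TypeCat.ofHom (fun y => ⟨S.X₂.map f y.1, by
    rw [NatTrans.naturality_apply, y.2, hz f]⟩)
  map_id n := by
    ext y
    change S.X₂.map (𝟙 n) y.1 = y.1
    rw [S.X₂.map_id]
    rfl
  map_comp f g := by
    ext y
    change S.X₂.map (f ≫ g) y.1 = S.X₂.map g (S.X₂.map f y.1)
    rw [S.X₂.map_comp]
    rfl

omit hS in
lemma Fib_map_val (z : ∀ n : ℕᵒᵖ, S.X₃.obj n)
    (hz : ∀ ⦃i j : ℕᵒᵖ⦄ (f : i ⟶ j), S.X₃.map f (z i) = z j) {i j : ℕᵒᵖ} (f : i ⟶ j)
    (y : (Fib z hz).obj i) : ((Fib z hz).map f y).1 = S.X₂.map f y.1 := rfl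

lemma surjective_limMap_g (h₁ : SurjTrans S.X₁) : Function.Surjective (limMap S.g) := by
  intro z
  let zn : ∀ n : ℕᵒᵖ, S.X₃.obj n := fun n => limit.π S.X₃ n z
  have hz : ∀ ⦃i j : ℕᵒᵖ⦄ (f : i ⟶ j), S.X₃.map f (zn i) = zn j := fun i j f => by
    change (limit.π S.X₃ i ≫ S.X₃.map f) z = _
    rw [limit.w]
  let F := Fib zn hz
  have hF : ∀ n, Function.Surjective (F.map (homOfLE (Nat.le_succ n)).op) := by
    intro n ⟨y, hy⟩
    let f : (op (n + 1) : ℕᵒᵖ) ⟶ op n := (homOfLE (Nat.le_succ n)).op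
    obtain ⟨y', hy'⟩ := g_app_surjective hS (op (n + 1)) (zn (op (n + 1)))
    have h0 : S.g.app (op n) (S.X₂.map f y' - y) = 0 := by
      rw [map_sub, NatTrans.naturality_apply, hy', hz f, hy, sub_self]
    obtain ⟨x, hx⟩ := exact_app hS (op n) _ h0
    obtain ⟨x', rfl⟩ := h₁ f x
    refine ⟨⟨y' - S.f.app _ x', ?_⟩, ?_⟩
    · rw [map_sub, hy', g_f_app, sub_zero]
    · apply Subtype.ext
      rw [Fib_map_val]
      change S.X₂.map f (y' - S.f.app _ x') = y
      rw [map_sub, ← NatTrans.naturality_apply, hx]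
      abel
  obtain ⟨a⟩ : Nonempty (F.obj (op 0)) := by
    obtain ⟨y, hy⟩ := g_app_surjective hS (op 0) (zn (op 0))
    exact ⟨⟨y, hy⟩⟩
  obtain ⟨s, -⟩ := Types.surjective_π_app_zero_of_surjective_map (Types.limitConeIsLimit F) hF a
  -- `s : F.sections`
  let e := Types.isLimitEquivSections
    (isLimitOfPreserves (forget AddCommGrpCat.{u}) (limit.isLimit S.X₂))
  let sB : (S.X₂ ⋙ forget AddCommGrpCat.{u}).sections :=
    ⟨fun n => (s.1 n).1, fun {i j} f => by
      have h := congrArg Subtype.val (s.2 f)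
      rw [Fib_map_val] at h
      exact h⟩
  refine ⟨e.symm sB, ?_⟩
  apply Concrete.limit_ext
  intro n
  have h1 : limit.π S.X₂ n (e.symm sB) = (s.1 n).1 := by
    have h := Types.isLimitEquivSections_symm_apply
      (isLimitOfPreserves (forget AddCommGrpCat.{u}) (limit.isLimit S.X₂)) sB n
    exact h
  change (limMap S.g ≫ limit.π S.X₃ n) (e.symm sB) = _
  rw [limMap_π]
  change S.g.app n (limit.π S.X₂ n (e.symm sB)) = _
  rw [h1]
  exact (s.1 n).2

lemma shortExact_map_lim [(lim : Tower.{u} ⥤ AddCommGrpCat.{u}).Additive] (h₁ : SurjTrans S.X₁) :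
    (S.map (lim : Tower.{u} ⥤ AddCommGrpCat.{u})).ShortExact := by
  have := hS.mono_f
  have hex : (S.map (lim : Tower.{u} ⥤ AddCommGrpCat.{u})).Exact :=
    hS.exact.map_of_mono_of_preservesKernel _ hS.mono_f inferInstance
  have hmono : Mono ((lim : Tower.{u} ⥤ AddCommGrpCat.{u}).map S.f) := inferInstance
  have hepi : Epi ((lim : Tower.{u} ⥤ AddCommGrpCat.{u}).map S.g) :=
    (AddCommGrpCat.epi_iff_surjective _).2 (surjective_limMap_g hS h₁)
  exact { exact := hex, mono_f := hmono, epi_g := hepi }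

end SES

/-- `lim^i = 0` for `i ≥ 2` on towers of abelian groups. -/
theorem isZero_rightDerived_lim [EnoughInjectives Tower.{u}]
    [(lim : Tower.{u} ⥤ AddCommGrpCat.{u}).Additive] (A : Tower.{u}) (i : ℕ) (hi : 2 ≤ i) :
    IsZero (((lim : Tower.{u} ⥤ AddCommGrpCat.{u}).rightDerived i).obj A) := by
  have h1 : ∀ X : Tower.{u}, ∃ (Y : Tower.{u}) (ι : X ⟶ Y), SurjTrans Y ∧ Mono ι :=
    fun X => ⟨P X, toP X, surjTrans_P X, inferInstance⟩
  have h2 : ∀ S : ShortComplex Tower.{u}, S.ShortExact → SurjTrans S.X₁ → SurjTrans S.X₂ →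
      SurjTrans S.X₃ ∧ (S.map (lim : Tower.{u} ⥤ AddCommGrpCat.{u})).ShortExact :=
    fun S hS a b => ⟨surjTrans_X₃ hS b, shortExact_map_lim hS a⟩
  have acyc : ∀ (n : ℕ) {X : Tower.{u}}, SurjTrans X →
      IsZero (((lim : Tower.{u} ⥤ AddCommGrpCat.{u}).rightDerived (n + 1)).obj X) :=
    fun n X hX => AdaptedClass31.isZero_rightDerived_succ _ SurjTrans h1 h2 n hX
  have hS : (AdaptedClass31.sesOfMono (toP A)).ShortExact :=
    AdaptedClass31.sesOfMono_shortExact (toP A)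
  have hQ : SurjTrans (cokernel (toP A)) := surjTrans_X₃ hS (surjTrans_P A)
  obtain ⟨δ, -, h⟩ := RDPlus31.rightDerived_les (lim : Tower.{u} ⥤ AddCommGrpCat.{u}) hS
  obtain ⟨k, rfl⟩ : ∃ k, i = k + 2 := ⟨i - 2, by omega⟩
  obtain ⟨w, hw⟩ := (h (k + 1)).2.2
  exact hw.isZero_of_both_zeros ((acyc k hQ).eq_of_src _ _)
    ((acyc (k + 1) (surjTrans_P A)).eq_of_tgt _ _)

end Groth.Agent.TowerLim31
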