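import Mathlib.LinearAlgebra.Trace
import Mathlib.LinearAlgebra.Projection
import Mathlib.LinearAlgebra.FiniteDimensional.Basic

/-!
# Additivity of the trace along an invariant subspace (over a field)

`Groth.Agent.Lib.TraceAdditive.trace_eq_restrict_add_mapQ`: for an endomorphism `f` of a
finite-dimensional vector space `V` and an `f`-invariant subspace `W`,
`tr f = tr (f|_W) + tr (f on V/W)`.
-/

set_option autoImplicit false

namespace Groth.Agent.Lib.TraceAdditive

open LinearMap

variable {k V : Type*} [Field k] [AddCommGroup V] [Module k V] [FiniteDimensional k V]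

theorem trace_eq_restrict_add_mapQ (f : V →ₗ[k] V) (W : Submodule k V)
    (hW : ∀ w ∈ W, f w ∈ W) :
    trace k V f = trace k W (f.restrict hW) + trace k (V ⧸ W) (W.mapQ W f (fun w hw => hW w hw)) := by
  obtain ⟨W', h⟩ := Submodule.exists_isCompl W
  -- decompose `f = f ∘ P + f ∘ P'`
  have hsum : f = f ∘ₗ (W.projection W' h) + f ∘ₗ (W'.projection W h.symm) := by
    rw [← LinearMap.comp_add, Submodule.projection_add_projection_eq_id, LinearMap.comp_id]
  -- first summand
  have h1 : trace k V (f ∘ₗ (W.projection W' h)) = trace k W (f.restrict hW) := by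
    have e1 : f ∘ₗ (W.projection W' h) =
        W.subtype ∘ₗ ((f.restrict hW) ∘ₗ W.projectionOnto W' h) := by
      ext v; rfl
    have e2 : ((f.restrict hW) ∘ₗ W.projectionOnto W' h) ∘ₗ W.subtype = f.restrict hW := by
      ext w
      simp
    rw [e1, trace_comp_comm', e2]
  -- second summand
  have h2 : trace k V (f ∘ₗ (W'.projection W h.symm)) =
      trace k (V ⧸ W) (W.mapQ W f (fun w hw => hW w hw)) := by
    have e1 : f ∘ₗ (W'.projection W h.symm) =
        (f ∘ₗ W'.subtype ∘ₗ (W.quotientEquivOfIsCompl W' h).toLinearMap) ∘ₗ W.mkQ := by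
      ext v; rfl
    have e2 : W.mkQ ∘ₗ (f ∘ₗ W'.subtype ∘ₗ (W.quotientEquivOfIsCompl W' h).toLinearMap) =
        W.mapQ W f (fun w hw => hW w hw) := by
      apply LinearMap.ext
      intro x
      obtain ⟨v, rfl⟩ := W.mkQ_surjective x
      simp only [LinearMap.comp_apply, LinearEquiv.coe_coe, Submodule.mkQ_apply,
        Submodule.quotientEquivOfIsCompl_apply_mk, Submodule.subtype_apply, Submodule.mapQ_apply]
      rw [Submodule.Quotient.eq, ← map_sub]
      apply hW
      have := Submodule.sub_projection_mem h.symm v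
      rw [← neg_sub]
      exact W.neg_mem this
    rw [e1, trace_comp_comm', e2]
  rw [← h1, ← h2, ← map_add, ← hsum]

end Groth.Agent.Lib.TraceAdditive
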