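import Mathlib

/-!
# Integrality of traces in finite (not nec. reduced, not nec. field) algebras over a field
(helper18)

* `trace_tmul_one` : `trace F (F ⊗[K] L) (1 ⊗ y) = algebraMap K F (trace K L y)` for `L` finite free.
* `isIntegral_trace_of_finite` : `F` a field, `S` a finite commutative `F`-algebra, `R → F`;
  if `x : S` is integral over `R`, so is `trace F S x`.
* `mem_range_of_forall_prime` : `x : K = Frac A`; if for every maximal `p` there is `s ∉ p` with
  `s x ∈ A`, then `x ∈ A`.
-/

set_option maxHeartbeats 400000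

namespace Groth.Agent.Lib.TraceIntegral18

open TensorProduct Polynomial

section baseChange

variable {K L F : Type*} [CommRing K] [CommRing L] [Algebra K L] [CommRing F] [Algebra K F]
  [Module.Free K L] [Module.Finite K L]

lemma trace_one_tmul (y : L) :
    Algebra.trace F (F ⊗[K] L) ((1 : F) ⊗ₜ[K] y) = algebraMap K F (Algebra.trace K L y) := by
  rw [Algebra.trace_apply, Algebra.trace_apply, ← LinearMap.trace_baseChange]
  congr 1
  ext z
  simp

end baseChange

section integral

variable {R F S : Type*} [CommRing R] [Field F] [Algebra R F] [CommRing S] [Algebra F S]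
  [Algebra R S] [IsScalarTower R F S] [Module.Finite F S]

lemma isIntegral_trace_of_finite {x : S} (hx : IsIntegral R x) :
    IsIntegral R (Algebra.trace F S x) := by
  classical
  let E := AlgebraicClosure F
  rw [← isIntegral_algebraMap_iff (algebraMap F E).injective, ← trace_one_tmul (F := E),
    Algebra.trace_apply,
    Module.End.trace_eq_sum_roots_charpoly_of_splits (IsAlgClosed.splits _)]
  refine IsIntegral.multiset_sum ?_
  intro μ hμ
  rw [mem_roots'] at hμ
  have hev := (Module.End.hasEigenvalue_iff_isRoot_charpoly _ μ).mpr hμ.2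
  obtain ⟨v, hv⟩ := hev.exists_hasEigenvector
  have hv0 : v ≠ 0 := hv.2
  have hvx : ((1 : E) ⊗ₜ[F] x) * v = μ • v := by
    have := hv.apply_eq_smul
    simpa using this
  obtain ⟨p, hpm, hp⟩ := hx
  refine ⟨p, hpm, ?_⟩
  -- work in `T = E ⊗ S`
  set y : E ⊗[F] S := (1 : E) ⊗ₜ[F] x with hy
  let ι : R →+* E ⊗[F] S :=
    ((Algebra.TensorProduct.includeRight (R := F) (A := E) (B := S)).toRingHom).comp
      (algebraMap R S)
  have hι : ι = (algebraMap E (E ⊗[F] S)).comp (algebraMap R E) := by
    ext r
    simp only [ι, RingHom.coe_comp, Function.comp_apply, AlgHom.toRingHom_eq_coe,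
      RingHom.coe_coe, Algebra.TensorProduct.includeRight_apply,
      Algebra.TensorProduct.algebraMap_apply]
    rw [IsScalarTower.algebraMap_apply R F S, IsScalarTower.algebraMap_apply R F E,
      Algebra.algebraMap_eq_smul_one (algebraMap R F r), Algebra.algebraMap_eq_smul_one
        (A := E) (algebraMap R F r), TensorProduct.tmul_smul, TensorProduct.smul_tmul']
    simp
  have h1 : p.eval₂ ι y = 0 := by
    have := Polynomial.hom_eval₂ p (algebraMap R S)
      ((Algebra.TensorProduct.includeRight (R := F) (A := E) (B := S)).toRingHom) x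
    rw [hp, map_zero] at this
    exact this.symm
  have h2 : p.eval₂ ι (algebraMap E (E ⊗[F] S) μ) =
      algebraMap E (E ⊗[F] S) (p.eval₂ (algebraMap R E) μ) := by
    rw [hι, Polynomial.hom_eval₂]
  have hdvd := Polynomial.sub_dvd_eval_sub y (algebraMap E (E ⊗[F] S) μ) (p.map ι)
  rw [Polynomial.eval_map, Polynomial.eval_map, h1, h2, zero_sub] at hdvd
  obtain ⟨c, hc⟩ := hdvd
  have h3 : (y - algebraMap E (E ⊗[F] S) μ) * v = 0 := by
    rw [sub_mul, hvx, Algebra.smul_def, sub_self]
  have h4 : (p.eval₂ (algebraMap R E) μ) • v = 0 := by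
    rw [Algebra.smul_def, ← neg_eq_zero, ← neg_mul, hc, mul_right_comm, h3, zero_mul]
  exact (smul_eq_zero.mp h4).resolve_right hv0

end integral

section localglobal

variable {A K : Type*} [CommRing A] [CommRing K] [Algebra A K]

lemma mem_range_of_forall_maximal (x : K)
    (h : ∀ p : Ideal A, p.IsMaximal →
      ∃ s, s ∉ p ∧ algebraMap A K s * x ∈ (algebraMap A K).range) :
    x ∈ (algebraMap A K).range := by
  let J : Ideal A := Submodule.comap (LinearMap.toSpanSingleton A K x)
    (LinearMap.range (Algebra.linearMap A K))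
  have hJ : ∀ a, a ∈ J ↔ algebraMap A K a * x ∈ (algebraMap A K).range := by
    intro a
    simp only [J, Submodule.mem_comap, LinearMap.toSpanSingleton_apply, LinearMap.mem_range,
      Algebra.linearMap_apply, RingHom.mem_range, Algebra.smul_def]
  by_contra hx
  have hne : J ≠ ⊤ := by
    intro htop
    have : (1 : A) ∈ J := htop ▸ Submodule.mem_top
    rw [hJ, map_one, one_mul] at this
    exact hx this
  obtain ⟨m, hm, hle⟩ := Ideal.exists_le_maximal J hne
  obtain ⟨s, hs, hsx⟩ := h m hm
  exact hs (hle ((hJ s).mpr hsx))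

end localglobal

section atprime

universe u

variable {A K B L : Type u} [CommRing A] [CommRing K] [CommRing B] [CommRing L]
  [Algebra A K] [Algebra A B] [Algebra B L] [Algebra K L] [Algebra A L] [IsScalarTower A K L]
  [IsScalarTower A B L] [IsFractionRing A K] [Module.Free K L] [Module.Finite K L]

lemma exists_mul_trace_mem (p : Ideal A) [p.IsPrime] [IsDomain (Localization.AtPrime p)]
    [IsIntegrallyClosed (Localization.AtPrime p)] (b : B) (hb : IsIntegral A b) :
    ∃ s, s ∉ p ∧
      algebraMap A K s * Algebra.trace K L (algebraMap B L b) ∈ (algebraMap A K).range := by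
  classical
  let Ap := Localization.AtPrime p
  let F := FractionRing Ap
  let g : A →+* F := (algebraMap Ap F).comp (algebraMap A Ap)
  have hginj : ∀ a a' : A, g a = g a' → ∃ u, u ∉ p ∧ u * a = u * a' := by
    intro a a' h
    have h1 : algebraMap A Ap a = algebraMap A Ap a' := IsFractionRing.injective Ap F h
    obtain ⟨⟨u, hu⟩, h2⟩ := (IsLocalization.eq_iff_exists p.primeCompl Ap).mp h1
    exact ⟨u, hu, h2⟩
  have hg : ∀ y : nonZeroDivisors A, IsUnit (g y) := by
    intro y
    have h1 : algebraMap A Ap y ∈ nonZeroDivisors Ap :=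
      IsLocalization.map_nonZeroDivisors_le p.primeCompl Ap (Submonoid.mem_map_of_mem _ y.2)
    have h2 : algebraMap A Ap y ≠ 0 := nonZeroDivisors.ne_zero h1
    have h3 : g y ≠ 0 := by
      intro h0
      exact h2 (IsFractionRing.injective Ap F (by rw [map_zero]; exact h0))
    exact IsUnit.mk0 _ h3
  let φ : K →+* F := IsLocalization.lift hg
  have hφ : ∀ a, φ (algebraMap A K a) = g a := fun a => IsLocalization.lift_eq hg a
  let _ : Algebra K F := φ.toAlgebra
  have hKF : ∀ k : K, algebraMap K F k = φ k := fun _ => rfl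
  set x := Algebra.trace K L (algebraMap B L b) with hx
  -- integrality
  let ψ : B →+* F ⊗[K] L :=
    ((Algebra.TensorProduct.includeRight (R := K) (A := F) (B := L)).toRingHom).comp
      (algebraMap B L)
  have hcomp : (algebraMap Ap (F ⊗[K] L)).comp (algebraMap A Ap) = ψ.comp (algebraMap A B) := by
    ext a
    simp only [ψ, RingHom.coe_comp, Function.comp_apply, AlgHom.toRingHom_eq_coe,
      RingHom.coe_coe, Algebra.TensorProduct.includeRight_apply]
    rw [Algebra.TensorProduct.algebraMap_apply]
    rw [← IsScalarTower.algebraMap_apply A B L, IsScalarTower.algebraMap_apply A K L,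
      Algebra.algebraMap_eq_smul_one (algebraMap A K a), TensorProduct.tmul_smul,
      TensorProduct.smul_tmul', Algebra.smul_def, mul_one, hKF, hφ]
    rfl
  have hint : IsIntegral Ap (ψ b) := IsIntegral.map_of_comp_eq _ ψ hcomp hb
  have hint2 : IsIntegral Ap (Algebra.trace F (F ⊗[K] L) (ψ b)) :=
    isIntegral_trace_of_finite hint
  have htr : Algebra.trace F (F ⊗[K] L) (ψ b) = φ x := by
    simp only [ψ, RingHom.coe_comp, Function.comp_apply, AlgHom.toRingHom_eq_coe,
      RingHom.coe_coe, Algebra.TensorProduct.includeRight_apply]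
    rw [trace_one_tmul, hKF]
  rw [htr] at hint2
  obtain ⟨c, hc⟩ := IsIntegrallyClosed.isIntegral_iff.mp hint2
  obtain ⟨a, ⟨s, hs⟩, rfl⟩ := IsLocalization.exists_mk'_eq p.primeCompl c
  obtain ⟨c0, d, hcd⟩ := IsLocalization.exists_mk'_eq (nonZeroDivisors A) x
  -- equations
  have e1 : x * algebraMap A K d = algebraMap A K c0 := by
    rw [← hcd, IsLocalization.mk'_spec]
  have e2 : φ x * g d = g c0 := by
    rw [← hφ, ← hφ, ← map_mul, e1]
  have e3 : algebraMap Ap F (IsLocalization.mk' Ap a ⟨s, hs⟩) * g s = g a := by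
    simp only [g, RingHom.coe_comp, Function.comp_apply]
    rw [← map_mul, IsLocalization.mk'_spec]
  have e4 : g (c0 * s) = g (a * d) := by
    rw [map_mul, map_mul, ← e2, ← e3, hc]; ring
  obtain ⟨u, hu, e5⟩ := hginj _ _ e4
  refine ⟨u * s, fun h => (Ideal.IsPrime.mem_or_mem ‹_› h).elim hu hs, u * a, ?_⟩
  apply (IsLocalization.map_units K d).mul_left_inj.mp
  rw [mul_assoc, e1, ← map_mul, ← map_mul]
  congr 1
  rw [mul_assoc, mul_assoc, ← e5]; ring

end atprime

end Groth.Agent.Lib.TraceIntegral18
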