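import Mathlib.CategoryTheory.Triangulated.Functor
import Mathlib.CategoryTheory.Triangulated.Pretriangulated

/-!
# Functors that become triangulated after a full essentially surjective triangulated functor
(helper31)

`E : 𝒦 ⥤ 𝒟` triangulated, full and essentially surjective, `G : 𝒦 ⥤ 𝒟'` triangulated,
`R : 𝒟 ⥤ 𝒟'` any functor with `θ : G ≅ E ⋙ R`. Then `R` is additive and sends distinguished
triangles to distinguished triangles (for a suitable third morphism).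
-/

set_option autoImplicit false

open CategoryTheory Limits Pretriangulated

namespace Groth.Agent.TriangDesc31

variable {𝒦 𝒟 𝒟' : Type*} [Category* 𝒦] [Category* 𝒟] [Category* 𝒟']
  [Preadditive 𝒦] [HasZeroObject 𝒦] [HasShift 𝒦 ℤ] [∀ n : ℤ, (shiftFunctor 𝒦 n).Additive]
  [Pretriangulated 𝒦]
  [Preadditive 𝒟] [HasZeroObject 𝒟] [HasShift 𝒟 ℤ] [∀ n : ℤ, (shiftFunctor 𝒟 n).Additive]
  [Pretriangulated 𝒟]
  [Preadditive 𝒟'] [HasZeroObject 𝒟'] [HasShift 𝒟' ℤ] [∀ n : ℤ, (shiftFunctor 𝒟' n).Additive]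
  [Pretriangulated 𝒟']
  (E : 𝒦 ⥤ 𝒟) [E.CommShift ℤ] [E.IsTriangulated] [E.Full] [E.EssSurj]
  (G : 𝒦 ⥤ 𝒟') [G.CommShift ℤ] [G.IsTriangulated]
  (R : 𝒟 ⥤ 𝒟') (θ : G ≅ E ⋙ R)

include θ in
/-- `R` sends distinguished triangles to distinguished triangles (for a suitable choice
of third morphism). -/
theorem exists_distinguished (T : Triangle 𝒟) (hT : T ∈ distTriang 𝒟) :
    ∃ δ : R.obj T.obj₃ ⟶ (shiftFunctor 𝒟' (1 : ℤ)).obj (R.obj T.obj₁),
      Triangle.mk (R.map T.mor₁) (R.map T.mor₂) δ ∈ distTriang 𝒟' := by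
  let X' := E.objPreimage T.obj₁
  let Y' := E.objPreimage T.obj₂
  let e₁ : E.obj X' ≅ T.obj₁ := E.objObjPreimageIso T.obj₁
  let e₂ : E.obj Y' ≅ T.obj₂ := E.objObjPreimageIso T.obj₂
  obtain ⟨f', hf'⟩ := E.map_surjective (e₁.hom ≫ T.mor₁ ≫ e₂.inv)
  obtain ⟨Z', g', h', hT'⟩ := distinguished_cocone_triangle f'
  have hET' := E.map_distinguished _ hT'
  have comm : (E.mapTriangle.obj (Triangle.mk f' g' h')).mor₁ ≫ e₂.hom = e₁.hom ≫ T.mor₁ := by
    show E.map f' ≫ e₂.hom = e₁.hom ≫ T.mor₁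
    rw [hf', Category.assoc, Category.assoc, Iso.inv_hom_id, Category.comp_id]
  obtain ⟨e, -⟩ := exists_iso_of_arrow_iso _ _ hET' hT (Arrow.isoMk e₁ e₂ comm.symm)
  let b₁ : E.obj X' ≅ T.obj₁ := Triangle.π₁.mapIso e
  let b₂ : E.obj Y' ≅ T.obj₂ := Triangle.π₂.mapIso e
  let b₃ : E.obj Z' ≅ T.obj₃ := Triangle.π₃.mapIso e
  have hb₁ : E.map f' ≫ b₂.hom = b₁.hom ≫ T.mor₁ := e.hom.comm₁
  have hb₂ : E.map g' ≫ b₃.hom = b₂.hom ≫ T.mor₂ := e.hom.comm₂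
  let a₁ : G.obj X' ≅ R.obj T.obj₁ := θ.app X' ≪≫ R.mapIso b₁
  let a₂ : G.obj Y' ≅ R.obj T.obj₂ := θ.app Y' ≪≫ R.mapIso b₂
  let a₃ : G.obj Z' ≅ R.obj T.obj₃ := θ.app Z' ≪≫ R.mapIso b₃
  have ha₁ : G.map f' ≫ a₂.hom = a₁.hom ≫ R.map T.mor₁ := by
    dsimp only [a₁, a₂, Iso.trans_hom, Iso.app_hom, Functor.mapIso_hom]
    rw [← Category.assoc, θ.hom.naturality f', Category.assoc, Category.assoc,
      Functor.comp_map, ← R.map_comp, ← R.map_comp, hb₁]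
  have ha₂ : G.map g' ≫ a₃.hom = a₂.hom ≫ R.map T.mor₂ := by
    dsimp only [a₂, a₃, Iso.trans_hom, Iso.app_hom, Functor.mapIso_hom]
    rw [← Category.assoc, θ.hom.naturality g', Category.assoc, Category.assoc,
      Functor.comp_map, ← R.map_comp, ← R.map_comp, hb₂]
  have hGT' := G.map_distinguished _ hT'
  refine ⟨a₃.inv ≫ (G.mapTriangle.obj (Triangle.mk f' g' h')).mor₃ ≫
    (shiftFunctor 𝒟' (1 : ℤ)).map a₁.hom, ?_⟩
  refine isomorphic_distinguished _ hGT' _ (Iso.symm ?_)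
  refine Triangle.isoMk _ _ a₁ a₂ a₃ ha₁ ha₂ ?_
  show (G.mapTriangle.obj (Triangle.mk f' g' h')).mor₃ ≫
      (shiftFunctor 𝒟' (1 : ℤ)).map a₁.hom =
    a₃.hom ≫ a₃.inv ≫ (G.mapTriangle.obj (Triangle.mk f' g' h')).mor₃ ≫
      (shiftFunctor 𝒟' (1 : ℤ)).map a₁.hom
  exact (Iso.hom_inv_id_assoc a₃ _).symm

include θ in
/-- `R` is additive. -/
theorem additive : R.Additive where
  map_add {X Y f g} := by
    let X' := E.objPreimage X
    let Y' := E.objPreimage Y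
    let e₁ : E.obj X' ≅ X := E.objObjPreimageIso X
    let e₂ : E.obj Y' ≅ Y := E.objObjPreimageIso Y
    obtain ⟨f', hf'⟩ := E.map_surjective (e₁.hom ≫ f ≫ e₂.inv)
    obtain ⟨g', hg'⟩ := E.map_surjective (e₁.hom ≫ g ≫ e₂.inv)
    have key : ∀ (k : X ⟶ Y) (k' : X' ⟶ Y'), E.map k' = e₁.hom ≫ k ≫ e₂.inv →
        R.map k = R.map e₁.inv ≫ θ.inv.app X' ≫ G.map k' ≫ θ.hom.app Y' ≫ R.map e₂.hom := by
      intro k k' hk
      have h1 : k = e₁.inv ≫ E.map k' ≫ e₂.hom := by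
        rw [hk]; simp
      have h2 : G.map k' ≫ θ.hom.app Y' = θ.hom.app X' ≫ R.map (E.map k') := θ.hom.naturality k'
      rw [reassoc_of% h2, Iso.inv_hom_id_app_assoc, h1, R.map_comp, R.map_comp]
    have hfg : E.map (f' + g') = e₁.hom ≫ (f + g) ≫ e₂.inv := by
      rw [E.map_add, hf', hg', Preadditive.add_comp, Preadditive.comp_add]
    rw [key (f + g) (f' + g') hfg, key f f' hf', key g g' hg', G.map_add]
    simp only [Preadditive.add_comp, Preadditive.comp_add]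

end Groth.Agent.TriangDesc31
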