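import Groth.Agent.Lib.SecSuppRange65
import Groth.Agent.Lib.SecSuppBC65
import Groth.Agent.Lib.FunctorSESNat

/-!
# Excision for local cohomology groups along a closed subset `Z ⊆ Y` (helper65)

For open immersions `j : U ⟶ X`, `k : X' ⟶ X`, `j' : U ⟶ X'` with `j' ≫ k = j`
(`Y = X∖U ⊇ Z = X∖X'`, `V = X'∖U`): if `H^p_Z(X, F) = 0` for `p = m, m + 1`, then
`H^m_Y(X, F) ≅ H^m_V(X', F|_{X'})`.
-/

set_option autoImplicit false
universe u
open CategoryTheory CategoryTheory.Limits AlgebraicGeometry Opposite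

namespace Groth.Agent.Lib.TripleLES65

open Groth.Agent.Lib.LocCohShift65 Groth.Agent.Lib.SecSuppMono65 Groth.Agent.Lib.FunctorSESNat

/-- global sections, as `sheafToPresheaf ⋙ evaluation` -/
noncomputable abbrev gs (X : Scheme.{u}) : EtCoh.Ab X ⥤ AddCommGrpCat.{u + 1} :=
  sheafToPresheaf X.smallEtaleTopology AddCommGrpCat.{u + 1} ⋙
    (evaluation X.Etaleᵒᵖ AddCommGrpCat.{u + 1}).obj (op (EtCoh.top X))

variable {X X' U : Scheme.{u}} (j : U ⟶ X) [IsOpenImmersion j] (k : X' ⟶ X) [IsOpenImmersion k]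

/-- `Γ(X, Γ_Z Γ_Y −)` -/
noncomputable abbrev F₁ : EtCoh.Ab X ⥤ AddCommGrpCat.{u + 1} :=
  EtDual.secSupp j ⋙ EtDual.secSupp k ⋙ gs X

/-- `Γ(X, Γ_Y −)` -/
noncomputable abbrev F₂ : EtCoh.Ab X ⥤ AddCommGrpCat.{u + 1} :=
  EtDual.secSupp j ⋙ 𝟭 _ ⋙ gs X

/-- `Γ(X, k_* k⁻¹ Γ_Y −)` -/
noncomputable abbrev F₃ : EtCoh.Ab X ⥤ AddCommGrpCat.{u + 1} :=
  EtDual.secSupp j ⋙ (EtCoh.pull k ⋙ EtCoh.push k) ⋙ gs X

noncomputable def a : F₁ j k ⟶ F₂ j :=
  Functor.whiskerLeft (EtDual.secSupp j) (Functor.whiskerRight (α k) (gs X))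

noncomputable def b : F₂ j ⟶ F₃ j k :=
  Functor.whiskerLeft (EtDual.secSupp j) (Functor.whiskerRight (β k) (gs X))

lemma exactOnInj_ab : ExactOnInj (a j k) (b j k) := by
  intro I hI
  have h1 := Groth.Agent.Lib.SecSuppInj65.preservesInjectiveObjects_secSupp j
  have h2 := Groth.Agent.Lib.SecSuppInj65.preservesInjectiveObjects_secSupp k
  have hJ : Injective ((EtDual.secSupp j).obj I) := h1.injective_obj hI
  obtain ⟨w, hS⟩ := exactOnInj k ((EtDual.secSupp j).obj I) hJ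
  have : Injective (ShortComplex.mk _ _ w).X₁ := h2.injective_obj hJ
  have hsplit := (hS.splittingOfInjective).map (gs X)
  have hw : (a j k).app I ≫ (b j k).app I = 0 := by
    show (gs X).map ((α k).app _) ≫ (gs X).map ((β k).app _) = 0
    rw [← Functor.map_comp, w, Functor.map_zero]
  exact ⟨hw, hsplit.shortExact⟩

section Abstract

variable {A : Type*} [Category A] [Abelian A] [HasInjectiveResolutions A]
  {B : Type*} [Category B] [Abelian B]
  {G₁ G₂ G₃ : A ⥤ B} [G₁.Additive] [G₂.Additive] [G₃.Additive]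
  {α' : G₁ ⟶ G₂} {β' : G₂ ⟶ G₃}

lemma isIso_rightDerived_app_of_isZero (h : ExactOnInj α' β') (n : ℕ) (T : A)
    (h0 : IsZero ((G₁.rightDerived n).obj T)) (h1 : IsZero ((G₁.rightDerived (n + 1)).obj T)) :
    IsIso ((NatTrans.rightDerived β' n).app T) := by
  obtain ⟨w2, e2⟩ := exact₂ h n T
  obtain ⟨w3, e3⟩ := exact₃ h n T
  have hm : Mono ((NatTrans.rightDerived β' n).app T) := e2.mono_g (h0.eq_of_src _ _)
  have he : Epi ((NatTrans.rightDerived β' n).app T) := e3.epi_f (h1.eq_of_tgt _ _)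
  exact isIso_of_mono_of_epi _

end Abstract

section Isos

variable (j' : U ⟶ X') [IsOpenImmersion j'] (hfac : j' ≫ k = j)

include hfac in
lemma range_le : Set.range j.base ⊆ Set.range k.base := by
  rw [← hfac]
  rintro _ ⟨u, rfl⟩
  exact ⟨j' u, rfl⟩

include hfac in
lemma range_snd_eq : Set.range (pullback.snd j k).base = Set.range j'.base := by
  have h1 : Set.range (pullback.snd j k) = k ⁻¹' Set.range j := Scheme.Pullback.range_snd j k
  refine h1.trans ?_
  ext x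
  constructor
  · rintro ⟨u, hu⟩
    refine ⟨u, ?_⟩
    have hinj : Function.Injective k := k.isOpenEmbedding.injective
    apply hinj
    rw [← hu, ← hfac]
    rfl
  · rintro ⟨u, rfl⟩
    exact ⟨u, by rw [← hfac]; rfl⟩

/-- `gs` agrees with the prelude's `gsec` -/
noncomputable def gsIso (Y : Scheme.{u}) : gs Y ≅ EtCore.gsec Y :=
  NatIso.ofComponents (fun _ => Iso.refl _) (by
    intro F G f
    exact (Category.comp_id _).trans (Category.id_comp _).symm)

include hfac in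
/-- `F₁ ≅ Γ_Z(X, −)` -/
noncomputable def e₁ : F₁ j k ≅ EtDual.gammaSupp k :=
  (Functor.associator _ _ _).symm ≪≫
    Functor.isoWhiskerRight (secSuppCompIso j k (range_le j k j' hfac)) (gs X)

/-- `F₂ ≅ Γ_Y(X, −)` -/
noncomputable def e₂ : F₂ j ≅ EtDual.gammaSupp j :=
  Functor.isoWhiskerLeft (EtDual.secSupp j) (Functor.leftUnitor (gs X))

include hfac in
/-- `F₃ ≅ Γ_V(X', (−)|_{X'})` -/
noncomputable def e₃ : F₃ j k ≅ EtCoh.pull k ⋙ EtDual.gammaSupp j' :=
  Functor.isoWhiskerLeft (EtDual.secSupp j)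
      (Functor.associator _ _ _ ≪≫ Functor.isoWhiskerLeft (EtCoh.pull k)
        (Functor.isoWhiskerLeft (EtCoh.push k) (gsIso X) ≪≫ EtCore.pushGsecIso k ≪≫
          (gsIso X').symm)) ≪≫
    (Functor.associator _ _ _).symm ≪≫
    Functor.isoWhiskerRight (Groth.Agent.Lib.SecSuppBC65.secSuppPullIso j k ≪≫
      Functor.isoWhiskerLeft (EtCoh.pull k)
        (Groth.Agent.Lib.SecSuppRange65.secSuppIsoOfRangeEq (pullback.snd j k) j'
          (range_snd_eq j k j' hfac))) (gs X') ≪≫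
    Functor.associator _ _ _

include hfac in
/-- excision: `H^m_Y(X, F) ≅ H^m_V(X', F|_{X'})` if `H^m_Z(X, F) = 0 = H^{m+1}_Z(X, F)` -/
theorem nonempty_HY_iso (F : EtCoh.Ab X) (m : ℕ) (h0 : IsZero ((EtDual.HY k m).obj F))
    (h1 : IsZero ((EtDual.HY k (m + 1)).obj F)) :
    Nonempty ((EtDual.HY j m).obj F ≅ (EtDual.HY j' m).obj ((EtCoh.pull k).obj F)) := by
  have hex := exactOnInj_ab j k
  have z0 : IsZero (((F₁ j k).rightDerived m).obj F) :=
    h0.of_iso ((RDer.rightDerivedIso (e₁ j k j' hfac) m).app F)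
  have z1 : IsZero (((F₁ j k).rightDerived (m + 1)).obj F) :=
    h1.of_iso ((RDer.rightDerivedIso (e₁ j k j' hfac) (m + 1)).app F)
  have hiso := isIso_rightDerived_app_of_isZero hex m F z0 z1
  have : EtShriek.JCont k := Groth.Agent.Lib.EtJCont.jCont k
  have : PreservesFiniteLimits (EtCoh.pull k) :=
    Groth.Agent.Lib.EtPullExact95.preservesFiniteLimits_pull k
  exact ⟨((RDer.rightDerivedIso (e₂ j) m).app F).symm ≪≫
    @asIso _ _ _ _ ((NatTrans.rightDerived (b j k) m).app F) hiso ≪≫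
    (RDer.rightDerivedIso (e₃ j k j' hfac) m).app F ≪≫
    (Groth.Agent.Lib.DerivedCompExact.rightDerivedCompIso (EtCoh.pull k) (EtDual.gammaSupp j')
      (Groth.Agent.Lib.EtShriekConst.adjSP k) m).app F⟩

end Isos

end Groth.Agent.Lib.TripleLES65
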