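import Groth.Prelude.Def_RelProj2

/-!
# The trivial grading (everything in degree 0)

* `trivDeg R : ℕ → AddSubgroup R`, `⊤` in degree `0` and `⊥` elsewhere, with its `GradedRing`
  structure.
* `trivGr 𝒜 : RelProj.QCGrAlg Y` for a quasi-coherent algebra `𝒜 : RelSpec.QCAlg Y`: the same
  algebra, graded trivially (`(trivGr 𝒜).toQCAlg = 𝒜` by `rfl`).
-/

set_option autoImplicit false
universe u
open CategoryTheory AlgebraicGeometry Opposite TopologicalSpace

noncomputable section

namespace Groth.Agent.Lib.TrivGrading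

section Ring

variable (R : Type u) [CommRing R]

/-- The trivial grading: everything in degree `0`. -/
def trivDeg (d : ℕ) : AddSubgroup R := if d = 0 then ⊤ else ⊥

variable {R}

lemma mem_trivDeg_zero (r : R) : r ∈ trivDeg R 0 := by simp [trivDeg]

lemma eq_zero_of_mem_trivDeg {d : ℕ} (hd : d ≠ 0) {r : R} (hr : r ∈ trivDeg R d) : r = 0 := by
  simpa [trivDeg, hd] using hr

lemma mem_trivDeg_iff {d : ℕ} {r : R} : r ∈ trivDeg R d ↔ (d = 0 ∨ r = 0) := by
  by_cases hd : d = 0
  · subst hd; simp [trivDeg]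
  · simp [trivDeg, hd]

instance : SetLike.GradedMonoid (trivDeg R) where
  one_mem := mem_trivDeg_zero 1
  mul_mem := by
    intro i j a b ha hb
    rw [mem_trivDeg_iff] at ha hb ⊢
    rcases ha with rfl | rfl
    · rcases hb with rfl | rfl
      · left; rfl
      · right; simp
    · right; simp

/-- The decomposition map of the trivial grading. -/
def trivDecompose : R →+ DirectSum ℕ fun i => trivDeg R i where
  toFun r := DirectSum.of (fun i => trivDeg R i) 0 ⟨r, mem_trivDeg_zero r⟩
  map_zero' := by
    have : (⟨0, mem_trivDeg_zero 0⟩ : trivDeg R 0) = 0 := rfl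
    rw [this, map_zero]
  map_add' a b := by
    have : (⟨a + b, mem_trivDeg_zero (a + b)⟩ : trivDeg R 0) =
        ⟨a, mem_trivDeg_zero a⟩ + ⟨b, mem_trivDeg_zero b⟩ := rfl
    rw [this, map_add]

instance : DirectSum.Decomposition (trivDeg R) :=
  DirectSum.Decomposition.ofAddHom (ℳ := trivDeg R) (trivDecompose (R := R))
    (by
      ext r
      change DirectSum.coeAddMonoidHom (trivDeg R)
        (DirectSum.of (fun i => trivDeg R i) 0 ⟨r, mem_trivDeg_zero r⟩) = r
      rw [DirectSum.coeAddMonoidHom_of])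
    (by
      refine DirectSum.addHom_ext fun i y => ?_
      change DirectSum.of (fun i => trivDeg R i) 0
        ⟨DirectSum.coeAddMonoidHom (trivDeg R) (DirectSum.of _ i y), _⟩ = DirectSum.of _ i y
      by_cases hi : i = 0
      · subst hi
        congr 1
        ext
        rw [DirectSum.coeAddMonoidHom_of]
      · have hy : y = 0 := Subtype.ext (eq_zero_of_mem_trivDeg hi y.2)
        subst hy
        simp only [map_zero]
        have : (⟨0, mem_trivDeg_zero 0⟩ : trivDeg R 0) = 0 := rfl
        rw [this, map_zero])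

instance : GradedRing (trivDeg R) where

end Ring

section QCGrAlg

variable {Y : Scheme.{u}} (𝒜 : RelSpec.QCAlg Y)

/-- A quasi-coherent algebra, graded trivially. -/
abbrev trivGr : RelProj.QCGrAlg Y where
  toQCAlg := 𝒜
  deg U _ := trivDeg (𝒜.presheaf.obj (op U))
  graded U _ := inferInstance
  map_mem := by
    intro U V hU hV i d x hx
    rw [mem_trivDeg_iff] at hx ⊢
    rcases hx with rfl | rfl
    · left; rfl
    · right; simp
  str_mem U hU r := mem_trivDeg_zero _

@[simp] lemma trivGr_toQCAlg : (trivGr 𝒜).toQCAlg = 𝒜 := rfl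

lemma mem_trivGr_deg_iff (U : Y.Opens) (hU : IsAffineOpen U) {d : ℕ}
    {x : 𝒜.presheaf.obj (op U)} : x ∈ (trivGr 𝒜).deg U hU d ↔ (d = 0 ∨ x = 0) :=
  mem_trivDeg_iff

end QCGrAlg

end Groth.Agent.Lib.TrivGrading
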