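import Mathlib
import Groth.Agent.Lib.LazardCharP
import Groth.Agent.Lib.FormalChar

set_option autoImplicit false

/-!
# Truncated exponentials in characteristic `p`

For `b` with `b^p = r` and `r * b = 0`, the truncated exponential `E_b(X) = Σ_{i<p} b^i X^i / i!`
satisfies `E_b(X+Y) = E_b(X) E_b(Y) (1 + r S(X,Y))`.
-/

namespace Groth.Agent.Lib.TruncExp51

open Finset MvPolynomial Groth.Agent.Lib.LazardCharP

universe u

variable {R : Type u} [CommRing R] (p : ℕ) [hp : Fact p.Prime] [CharP R p]

/-- coefficients of the truncated exponential -/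
noncomputable def cE (b : R) (n : ℕ) : R :=
  if n < p then Ring.inverse ((n.factorial : ℕ) : R) * b ^ n else 0

/-- the truncated exponential `Σ_{i<p} b^i X^i / i!` -/
noncomputable def E (b : R) : Polynomial R :=
  ∑ n ∈ Finset.range p, Polynomial.monomial n (cE p b n)

omit hp [CharP R p] in
theorem coeff_E (b : R) (n : ℕ) : (E p b).coeff n = cE p b n := by
  classical
  rw [E, Polynomial.finsetSum_coeff]
  simp only [Polynomial.coeff_monomial]
  rw [Finset.sum_ite_eq' (Finset.range p) n (fun m => cE p b m)]
  split_ifs with hn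
  · rfl
  · rw [Finset.mem_range] at hn
    rw [cE, if_neg hn]

theorem isUnit_factorial (n : ℕ) (hn : n < p) : IsUnit ((n.factorial : ℕ) : R) := by
  apply isUnit_natCast_of_not_dvd p
  exact fun h => absurd ((hp.out.dvd_factorial).mp h) (by omega)

theorem inv_factorial_mul (n : ℕ) (hn : n < p) :
    Ring.inverse ((n.factorial : ℕ) : R) * ((n.factorial : ℕ) : R) = 1 :=
  Ring.inverse_mul_cancel _ (isUnit_factorial p n hn)

theorem wilson : (((p - 1).factorial : ℕ) : R) = -1 := by
  have h := congrArg (ZMod.castHom (dvd_refl p) R) (ZMod.wilsons_lemma p)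
  rw [map_neg, map_one, map_natCast] at h
  exact h

/-- the key coefficient identity -/
theorem cE_mul (b r : R) (hb : b ^ p = r) (hrb : r * b = 0) (i j : ℕ) :
    cE p b i * cE p b j =
      (((i + j).choose i : ℕ) : R) * cE p b (i + j)
        - r * (if 0 < i ∧ 0 < j ∧ i + j = p then ((p.choose i / p : ℕ) : R) else 0) := by
  have hp0 : 0 < p := hp.out.pos
  have hbig : ∀ n, p + 1 ≤ n → b ^ n = 0 := by
    intro n hn
    obtain ⟨m, rfl⟩ := Nat.exists_eq_add_of_le hn
    rw [pow_add, pow_succ, hb, hrb, zero_mul]
  rcases lt_trichotomy (i + j) p with hlt | heq | hgt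
  · -- i + j < p
    have hi : i < p := by omega
    have hj : j < p := by omega
    rw [cE, cE, cE, if_pos hi, if_pos hj, if_pos hlt, if_neg (fun h => by omega), mul_zero,
      sub_zero]
    have h1 := inv_factorial_mul (R := R) p i hi
    have h2 := inv_factorial_mul (R := R) p j hj
    have h3 := inv_factorial_mul (R := R) p (i + j) hlt
    have h4 : (((i + j).factorial : ℕ) : R) =
        (((i + j).choose i : ℕ) : R) * ((i.factorial : ℕ) : R) * ((j.factorial : ℕ) : R) := by
      rw [← Nat.add_choose_mul_factorial_mul_factorial i j, ← Nat.choose_symm_add]; push_cast; ring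
    rw [pow_add]
    set ui := Ring.inverse ((i.factorial : ℕ) : R)
    set uj := Ring.inverse ((j.factorial : ℕ) : R)
    set uij := Ring.inverse (((i + j).factorial : ℕ) : R)
    rw [h4] at h3
    linear_combination (-(b ^ i * b ^ j * ui * uj)) * h3
      + (b ^ i * b ^ j * uij * (((i + j).choose i : ℕ) : R) * uj * ((j.factorial : ℕ) : R)) * h1
      + (b ^ i * b ^ j * uij * (((i + j).choose i : ℕ) : R)) * h2
  · -- i + j = p
    by_cases hi : i < p
    · by_cases hj : j < p
      · have hi0 : 0 < i := by omega
        have hj0 : 0 < j := by omega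
        rw [cE, cE, cE, if_pos hi, if_pos hj, if_neg (by omega), mul_zero, zero_sub,
          if_pos ⟨hi0, hj0, heq⟩]
        have h1 := inv_factorial_mul (R := R) p i hi
        have h2 := inv_factorial_mul (R := R) p j hj
        have hdvd : p ∣ p.choose i := hp.out.dvd_choose_self hi0.ne' hi
        have hnat : (p.choose i / p) * i.factorial * j.factorial = (p - 1).factorial := by
          have e1 : p.choose i * i.factorial * j.factorial = p.factorial := by
            have := Nat.add_choose_mul_factorial_mul_factorial i j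
            rw [heq, ← Nat.choose_symm_of_eq_add heq.symm] at this
            exact this
          have e2 : p.factorial = p * (p - 1).factorial := by
            conv_lhs => rw [show p = (p - 1) + 1 by omega]
            rw [Nat.factorial_succ]
            congr 1
            omega
          have e3 : p.choose i = p * (p.choose i / p) := (Nat.mul_div_cancel' hdvd).symm
          rw [e3, e2, mul_assoc, mul_assoc] at e1
          have := Nat.eq_of_mul_eq_mul_left hp0 e1
          rw [← mul_assoc] at this
          exact this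
        have hR : ((p.choose i / p : ℕ) : R) * ((i.factorial : ℕ) : R) * ((j.factorial : ℕ) : R) = -1 := by
          rw [← wilson p, ← hnat]; push_cast; ring
        have hbp : b ^ i * b ^ j = r := by rw [← pow_add, heq, hb]
        set ui := Ring.inverse ((i.factorial : ℕ) : R)
        set uj := Ring.inverse ((j.factorial : ℕ) : R)
        linear_combination (ui * uj) * hbp + (r * ui * uj) * hR
          - (r * uj * ((p.choose i / p : ℕ) : R) * ((j.factorial : ℕ) : R)) * h1
          - (r * ((p.choose i / p : ℕ) : R)) * h2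
      · have hi0 : i = 0 := by omega
        have hjp : j = p := by omega
        subst hi0
        subst hjp
        simp [cE]
    · have hj0 : j = 0 := by omega
      have hip : i = p := by omega
      subst hj0
      subst hip
      simp [cE]
  · -- i + j > p
    have e3 : cE p b (i + j) = 0 := by rw [cE, if_neg (by omega)]
    have e4 : (if 0 < i ∧ 0 < j ∧ i + j = p then ((p.choose i / p : ℕ) : R) else 0) = 0 :=
      if_neg (by omega)
    rw [e3, e4, mul_zero, mul_zero, sub_zero, cE, cE]
    split_ifs
    · rw [mul_mul_mul_comm, ← pow_add, hbig _ (by omega), mul_zero]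
    · rw [mul_zero]
    · rw [zero_mul]
    · rw [zero_mul]

/-- `E_b(X) E_b(Y) = E_b(X+Y) - r S(X,Y)` -/
theorem E_mul (b r : R) (hb : b ^ p = r) (hrb : r * b = 0) :
    Polynomial.aeval (X 0 : MvPolynomial (Fin 2) R) (E p b) *
        Polynomial.aeval (X 1 : MvPolynomial (Fin 2) R) (E p b) =
      Polynomial.aeval (X 0 + X 1 : MvPolynomial (Fin 2) R) (E p b) - C r * Spoly R p := by
  ext e
  rw [Lib.FormalChar.coeff_aeval_mul, coeff_sub, Lib.FormalChar.coeff_aeval_add, coeff_C_mul]
  conv_rhs => rw [eq_mon2 e, coeff_Spoly]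
  simp only [coeff_E, mon2_zero, mon2_one]
  rw [cE_mul p b r hb hrb]

omit [CharP R p] in
theorem C_mul_aeval_E {n : ℕ} (b r : R) (hrb : r * b = 0) (x : MvPolynomial (Fin n) R) :
    C r * Polynomial.aeval x (E p b) = C r := by
  have hp0 : 0 < p := hp.out.pos
  rw [E, map_sum, Finset.mul_sum, Finset.sum_eq_single 0]
  · simp [cE, hp0]
  · intro m _ hm
    rw [Polynomial.aeval_monomial, algebraMap_eq, ← mul_assoc, ← C_mul, cE]
    split_ifs
    · obtain ⟨m', rfl⟩ : ∃ m', m = m' + 1 := ⟨m - 1, by omega⟩
      rw [pow_succ]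
      have : r * (Ring.inverse (((m' + 1).factorial : ℕ) : R) * (b ^ m' * b)) = 0 := by
        linear_combination (Ring.inverse (((m' + 1).factorial : ℕ) : R) * b ^ m') * hrb
      rw [this, C_0, zero_mul]
    · simp
  · intro h
    exact absurd (Finset.mem_range.mpr hp0) h

/-- `E_b(X+Y) = E_b(X) E_b(Y) (1 + r S(X,Y))` -/
theorem E_add (b r : R) (hb : b ^ p = r) (hrb : r * b = 0) :
    Polynomial.aeval (X 0 + X 1 : MvPolynomial (Fin 2) R) (E p b) =
      Polynomial.aeval (X 0 : MvPolynomial (Fin 2) R) (E p b) *
        Polynomial.aeval (X 1 : MvPolynomial (Fin 2) R) (E p b) * (1 + C r * Spoly R p) := by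
  have h1 := E_mul p b r hb hrb
  have h2 := C_mul_aeval_E p b r hrb (X 0 : MvPolynomial (Fin 2) R)
  have h3 := C_mul_aeval_E p b r hrb (X 1 : MvPolynomial (Fin 2) R)
  linear_combination -h1 - (Spoly R p * Polynomial.aeval (X 1 : MvPolynomial (Fin 2) R) (E p b)) * h2
    - Spoly R p * h3

/-- the Frobenius-twisted version -/
theorem E_add_expand (b r : R) (hb : b ^ p = r) (hrb : r * b = 0) (t : ℕ) :
    Polynomial.aeval (X 0 + X 1 : MvPolynomial (Fin 2) R) (Polynomial.expand R (p ^ t) (E p b)) =
      Polynomial.aeval (X 0 : MvPolynomial (Fin 2) R) (Polynomial.expand R (p ^ t) (E p b)) *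
        Polynomial.aeval (X 1 : MvPolynomial (Fin 2) R) (Polynomial.expand R (p ^ t) (E p b)) *
          (1 + C r * expand (p ^ t) (Spoly R p)) := by
  have h := congrArg (expand (p ^ t)) (E_add p b r hb hrb)
  rw [map_mul, map_mul, map_add, map_one, map_mul, expand_C,
    ← Polynomial.aeval_algHom_apply, ← Polynomial.aeval_algHom_apply,
    ← Polynomial.aeval_algHom_apply] at h
  simp only [map_add, expand_X] at h
  rw [← add_pow_char_pow] at h
  simp only [Polynomial.expand_aeval]
  exact h

omit [CharP R p] in
theorem isUnit_E (b : R) (hb : IsNilpotent b) : IsUnit (E p b) := by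
  have hp0 : 0 < p := hp.out.pos
  rw [Polynomial.isUnit_iff_coeff_isUnit_isNilpotent]
  constructor
  · rw [coeff_E, cE, if_pos hp0]
    simp
  · intro i hi
    rw [coeff_E, cE]
    split_ifs
    · exact (Commute.all _ _).isNilpotent_mul_left (hb.pow_of_pos hi)
    · exact IsNilpotent.zero

end Groth.Agent.Lib.TruncExp51
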