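import Groth.Agent.Lib.PointH0_48
import Groth.Agent.Lib.CurveVB67P
import Groth.Agent.Lib.CurveVB67K
import Groth.Agent.Lib.CurvePoint54
import Groth.Agent.Lib.PointDeg
import Groth.Agent.Lib.SmoothCurve67

/-!
# `h⁰` of semistable bundles on curves (helper48; = S18831)

Namespace `Groth.Agent.Lib.CurveDeg48`.

* `h0_le_h0_twist_add` : `h⁰(N) ≤ h⁰(N ⊗ I_Z) + n · h⁰(O_Z)` for `N` locally free of rank `n` and `Z` of dimension `≤ 0`,
  on a proper scheme over a field.
* `deg_idealMod_point` : `deg I_p = -1` for a closed point with invertible ideal sheaf, `k` algebraically closed.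
* `isSlopeSemistable_twist` : twisting a semistable bundle by an invertible module preserves semistability.
* `h0_le_of_semistable` : (S18831) `h⁰(G) ≤ r · m` for `G` semistable of rank `r` with `deg G < r m`.
-/

set_option autoImplicit false
universe u
open CategoryTheory CategoryTheory.Limits AlgebraicGeometry Opposite TopologicalSpace

namespace Groth.Agent.Lib.CurveDeg48

open Groth.Agent.Lib.OXModTensor Groth.Agent.Lib.IdealMod Groth.Agent.Lib.H90Invertible
  Groth.Agent.Lib.StructureModule Groth.Agent.Lib.CohLES Groth.Agent.Lib.H4Twist CohB1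
  Groth.Agent.Lib.CurveVB67

section Twist

variable (H : Groth.Agent.Lib.ProperFinHyp.Hyp.{u}) (k : Type u) [Field k] (X : Scheme.{u})
  [X.Over (Spec (CommRingCat.of k))] [IsProper (X ↘ (Spec (CommRingCat.of k)))]

lemma auxTw2 (a b c r n q : ℕ) (h1 : r + n = b) (h2 : n = a) (h3 : r ≤ c) (h4 : c = q) :
    b ≤ a + q := by omega

include H in
/-- `h⁰(N) ≤ h⁰(N ⊗ I_Z) + n · h⁰(O_Z)` -/
theorem h0_le_h0_twist_add (N : X.Modules) (n : ℕ) (hN : FlatMod.IsFinLocFreeOfRank n N)
    (Z : X.IdealSheafData) (hZ : topologicalKrullDim (Z.support : Set X) ≤ 0) :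
    Module.finrank k (Coh.HH X N 0) ≤
      Module.finrank k (Coh.HH X (CohB1.tensorMod N (ClSub.idealMod Z)) 0) +
        n * Module.finrank k (Coh.HH X (ClSub.quotMod Z) 0) := by
  haveI : IsLocallyNoetherian X :=
    LocallyOfFiniteType.isLocallyNoetherian (X ↘ (Spec (CommRingCat.of k)))
  have hNc : Coh.IsCoh N := isCoh_of_isFinLocFree (isFinLocFree_of_isFinLocFreeOfRank hN)
  have hOc : Coh.IsCoh (Coh.structureModule X) :=
    isCoh_of_isInvertible (isInvertible_structureModule X)
  have hQc : Coh.IsCoh (ClSub.quotMod Z) := Groth.Agent.Lib.CurveIdeal54.isCoh_quotMod k X Z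
  have hsuppQ : CohB1.support (ClSub.quotMod Z) ⊆ (Z.support : Set X) :=
    Groth.Agent.Lib.CurveIdeal54.support_quotMod_subset X Z
  have hdimQ : topologicalKrullDim (CohB1.support (ClSub.quotMod Z)) ≤ 0 :=
    (Groth.Agent.Lib.IntNumAlg13.topologicalKrullDim_mono hsuppQ).trans hZ
  have hS' := shortExact_map_tensorLeft_of_isFlat N (isFlat_of_isFinLocFreeOfRank hN)
    (idealMod_shortExact Z)
  set S' := (ShortComplex.mk (ClSub.idealModι Z) (ClSub.toSubscheme Z)
      (kernel.condition (ClSub.toSubscheme Z))).map (tensorLeftFunctor N) with hS'def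
  have c₂ : Coh.IsCoh S'.X₂ := Groth.Agent.Lib.CohFinAmple.isCoh_tensorMod hNc hOc
  have c₃ : Coh.IsCoh S'.X₃ := Groth.Agent.Lib.CohFinAmple.isCoh_tensorMod hNc hQc
  haveI f₂ : Module.Finite k (Coh.HH X S'.X₂ 0) := H k X _ c₂ 0
  haveI f₃ : Module.Finite k (Coh.HH X S'.X₃ 0) := H k X _ c₃ 0
  have hinj : Function.Injective (mapₗ k S'.f 0) := map_f_injective_zero hS'
  have h1 : Module.finrank k (LinearMap.range (mapₗ k S'.f 0)) = Module.finrank k (Coh.HH X S'.X₁ 0) :=
    LinearMap.finrank_range_of_inj hinj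
  have h2 : LinearMap.range (mapₗ k S'.f 0) = LinearMap.ker (mapₗ k S'.g 0) :=
    range_mapₗ_f_eq_ker k hS' 0
  have h3 := LinearMap.finrank_range_add_finrank_ker (mapₗ k S'.g 0)
  have h4 : Module.finrank k (LinearMap.range (mapₗ k S'.g 0)) ≤ Module.finrank k (Coh.HH X S'.X₃ 0) :=
    Submodule.finrank_le _
  rw [h2] at h1
  have e2 : Module.finrank k (Coh.HH X S'.X₂ 0) = Module.finrank k (Coh.HH X N 0) :=
    (mapEquivₗ k (rightUnitor N) 0).finrank_eq
  have hclosed : ∀ y ∈ CohB1.support (ClSub.quotMod Z), IsClosed ({y} : Set X) := fun y hy =>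
    Groth.Agent.Lib.CurveIdeal54.isClosed_singleton_of_dim_le_zero _ Z.support.isClosed hZ y
      (hsuppQ hy)
  have hvQ : ∀ i, 0 < i → Subsingleton (Coh.HH X (ClSub.quotMod Z) i) := fun i hi =>
    Groth.Agent.S0047.result X _ hQc hclosed i hi
  have hvT : ∀ i, 0 < i → Subsingleton (Coh.HH X S'.X₃ i) := fun i hi => by
    refine Groth.Agent.S0047.result X _ c₃ (fun y hy => hclosed y ?_) i hi
    haveI := hNc.1
    haveI := hNc.2
    haveI := hQc.1
    haveI := hQc.2
    have : CohB1.support S'.X₃ = CohB1.support N ∩ CohB1.support (ClSub.quotMod Z) :=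
      Groth.Agent.Lib.SupportTensor.support_tensorMod N (ClSub.quotMod Z)
    rw [this] at hy
    exact hy.2
  have e3 : Module.finrank k (Coh.HH X S'.X₃ 0) =
      n * Module.finrank k (Coh.HH X (ClSub.quotMod Z) 0) := by
    have a1 := Groth.Agent.Lib.EulerChar54.euler_eq_finrank_zero k X S'.X₃ hvT
    have a2 := Groth.Agent.Lib.EulerChar54.euler_eq_finrank_zero k X (ClSub.quotMod Z) hvQ
    have a3 : Curv2.euler k X S'.X₃ = n * Curv2.euler k X (ClSub.quotMod Z) :=
      euler_tensorMod_of_dim_support_le_zero' H k X (ClSub.quotMod Z) hQc hdimQ n N hN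
    rw [a1, a2] at a3
    exact_mod_cast a3
  exact auxTw2 _ _ _ _ _ _ (e2 ▸ h3) h1 h4 e3

include H in
/-- `deg I_Z = - h⁰(O_Z)` for `Z` of dimension `≤ 0` -/
theorem deg_idealMod (Z : X.IdealSheafData) (hZ : topologicalKrullDim (Z.support : Set X) ≤ 0) :
    Curv2.deg k X (ClSub.idealMod Z) 1 = - (Module.finrank k (Coh.HH X (ClSub.quotMod Z) 0) : ℤ) := by
  haveI : IsLocallyNoetherian X :=
    LocallyOfFiniteType.isLocallyNoetherian (X ↘ (Spec (CommRingCat.of k)))
  have hOc : Coh.IsCoh (Coh.structureModule X) :=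
    isCoh_of_isInvertible (isInvertible_structureModule X)
  have hQc : Coh.IsCoh (ClSub.quotMod Z) := Groth.Agent.Lib.CurveIdeal54.isCoh_quotMod k X Z
  have hIc : Coh.IsCoh (ClSub.idealMod Z) := Groth.Agent.Lib.CurveIdeal54.isCoh_idealMod k X Z
  have hadd := Groth.Agent.Lib.EulerChar54.euler_add H k X _ (idealMod_shortExact Z) hIc hOc hQc
  have hsuppQ : CohB1.support (ClSub.quotMod Z) ⊆ (Z.support : Set X) :=
    Groth.Agent.Lib.CurveIdeal54.support_quotMod_subset X Z
  have hclosed : ∀ y ∈ CohB1.support (ClSub.quotMod Z), IsClosed ({y} : Set X) := fun y hy =>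
    Groth.Agent.Lib.CurveIdeal54.isClosed_singleton_of_dim_le_zero _ Z.support.isClosed hZ y
      (hsuppQ hy)
  have hvQ : ∀ i, 0 < i → Subsingleton (Coh.HH X (ClSub.quotMod Z) i) := fun i hi =>
    Groth.Agent.S0047.result X _ hQc hclosed i hi
  have a2 := Groth.Agent.Lib.EulerChar54.euler_eq_finrank_zero k X (ClSub.quotMod Z) hvQ
  change Curv2.euler k X (Coh.structureModule X) =
    Curv2.euler k X (ClSub.idealMod Z) + Curv2.euler k X (ClSub.quotMod Z) at hadd
  unfold Curv2.deg
  rw [← a2]
  push_cast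
  linarith

include H in
/-- twisting by an invertible module preserves slope-semistability -/
theorem isSlopeSemistable_twist (hdim : topologicalKrullDim X ≤ 1) {G L : X.Modules} {r : ℕ}
    (hG : FlatMod.IsFinLocFreeOfRank r G) (hL : PicF.IsInvertible L)
    (hss : ModFun.IsSlopeSemistable k X G r) :
    ModFun.IsSlopeSemistable k X (CohB1.tensorMod G L) r := by
  intro F r' i hi hr' hF
  haveI := hi
  obtain ⟨F', i', hi', hF', hdeg⟩ := untwist_sub H k X hdim hL hF i
  have h1 := hss F' r' i' hi' hr' hF'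
  rw [hdeg] at h1
  rw [deg_twist H k X hdim hG hL]
  nlinarith [h1]

end Twist

section Main

variable (H : Groth.Agent.Lib.ProperFinHyp.Hyp.{u}) (k : Type u) [Field k] [IsAlgClosed k] (X : Scheme.{u})
  [X.Over (Spec (CommRingCat.of k))] [IsIntegral X] [IsProper (X ↘ (Spec (CommRingCat.of k)))]
  (hpid : ∀ x : X, IsPrincipalIdealRing (X.presheaf.stalk x))

include H hpid in
/-- **S18831 (inductive form)**: a semistable bundle of rank `r` and degree `< r m` has `h⁰ ≤ r m` -/
theorem h0_le_of_semistable (hdim : topologicalKrullDim X = 1) (r : ℕ) (hr : 0 < r) :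
    ∀ (m : ℕ) (G : X.Modules), FlatMod.IsFinLocFreeOfRank r G → ModFun.IsSlopeSemistable k X G r →
      Curv2.deg k X G r < (r : ℤ) * m → Module.finrank k (Coh.HH X G 0) ≤ r * m := by
  haveI : IsLocallyNoetherian X :=
    LocallyOfFiniteType.isLocallyNoetherian (X ↘ (Spec (CommRingCat.of k)))
  intro m
  induction m with
  | zero =>
    intro G hG hss hdeg
    rw [Nat.cast_zero, mul_zero] at hdeg
    by_contra hcon
    have hns : ¬ Subsingleton (Coh.HH X G 0) := by
      intro hsub
      apply hcon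
      rw [Module.finrank_zero_of_subsingleton]
      exact Nat.zero_le _
    obtain ⟨s, hs⟩ := exists_hom_ne_zero_of_nontrivial_H0 X G hns
    have hO1 := isFinLocFreeOfRank_one_structureModule X
    have hmono : Mono s := mono_of_ne_zero_of_rank_one k X hpid hO1 hG s hs
    have h1 := hss _ 1 s hmono one_pos hO1
    rw [deg_structureModule k X] at h1
    simp only [zero_mul, Nat.cast_one, mul_one] at h1
    linarith
  | succ m ih =>
    intro G hG hss hdeg
    obtain ⟨p, -, hp⟩ := Groth.Agent.Lib.CurvePoint54.exists_isClosed_singleton_mem k X ⊤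
      ⟨(Classical.arbitrary X), trivial⟩
    set I := Scheme.IdealSheafData.vanishingIdeal (⟨{p}, hp⟩ : Closeds X) with hI
    have hIinv : PicF.IsInvertible (ClSub.idealMod I) :=
      Groth.Agent.Lib.CurvePoint54.isInvertible_idealMod_point k X hdim hpid p hp
    have hZ : topologicalKrullDim (I.support : Set X) ≤ 0 := by
      rw [hI, Scheme.IdealSheafData.coe_support_vanishingIdeal]
      change topologicalKrullDim (({p} : Set X)) ≤ 0
      exact topologicalKrullDim_zero_of_discreteTopology _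
    have hq : Module.finrank k (Coh.HH X (ClSub.quotMod I) 0) = 1 :=
      Groth.Agent.Lib.PointDeg.finrank_H0_quotMod_point k X p hp
    have hdegI : Curv2.deg k X (ClSub.idealMod I) 1 = -1 := by
      rw [deg_idealMod H k X I hZ, hq]
      rfl
    have hG' := isFinLocFreeOfRank_twist hG hIinv
    have hss' := isSlopeSemistable_twist H k X hdim.le hG hIinv hss
    have hdeg' : Curv2.deg k X (CohB1.tensorMod G (ClSub.idealMod I)) r < (r : ℤ) * m := by
      rw [deg_twist H k X hdim.le hG hIinv, hdegI]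
      push_cast at hdeg
      linarith
    have h1 := ih _ hG' hss' hdeg'
    have h2 := h0_le_h0_twist_add H k X G r hG I hZ
    rw [hq, mul_one] at h2
    calc Module.finrank k (Coh.HH X G 0) ≤ _ := h2
      _ ≤ r * m + r := Nat.add_le_add_right h1 r
      _ = r * (m + 1) := by ring

end Main

end Groth.Agent.Lib.CurveDeg48
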