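import Mathlib

/-!
# Leading coefficient of the twisted translate `x_i ↦ x_i + g_i t^N`

For `f ∈ k[x_1..x_r][t]`, the substitution `x_i ↦ x_i + g_i t^N`, `t ↦ t` (with `N` larger than
the `t`-degree of `f`) produces a polynomial whose leading coefficient in `t` is the constant
`h(g)`, where `h` is the top homogeneous component of a suitable coefficient of `f`.
-/

namespace Groth.Agent.Lib.TwistedTranslate

universe u v

section TopCoeff

variable {S : Type*} [CommSemiring S]

/-- `P` has degree at most `n` and its coefficient at `n` is `c`. -/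
def T (n : ℕ) (c : S) (P : Polynomial S) : Prop := P.natDegree ≤ n ∧ P.coeff n = c

lemma T.mul {n n' : ℕ} {c c' : S} {P P' : Polynomial S} (h : T n c P) (h' : T n' c' P') :
    T (n + n') (c * c') (P * P') :=
  ⟨Polynomial.natDegree_mul_le_of_le h.1 h'.1,
    by rw [Polynomial.coeff_mul_add_eq_of_natDegree_le h.1 h'.1, h.2, h'.2]⟩

lemma T.pow {n : ℕ} {c : S} {P : Polynomial S} (h : T n c P) (m : ℕ) :
    T (m * n) (c ^ m) (P ^ m) :=
  ⟨Polynomial.natDegree_pow_le_of_le m h.1,
    by rw [Polynomial.coeff_pow_of_natDegree_le h.1, h.2]⟩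

lemma T.one : T 0 (1 : S) 1 := ⟨by simp, by simp⟩

lemma T.prod {ι : Type*} (s : Finset ι) (n : ι → ℕ) (c : ι → S) (P : ι → Polynomial S)
    (h : ∀ i ∈ s, T (n i) (c i) (P i)) :
    T (∑ i ∈ s, n i) (∏ i ∈ s, c i) (∏ i ∈ s, P i) := by
  classical
  induction s using Finset.induction_on with
  | empty => simpa using T.one
  | insert a s ha ih =>
    rw [Finset.sum_insert ha, Finset.prod_insert ha, Finset.prod_insert ha]
    exact (h a (Finset.mem_insert_self a s)).mul
      (ih fun i hi => h i (Finset.mem_insert_of_mem hi))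

lemma T.natDegree_eq {n : ℕ} {c : S} {P : Polynomial S} (h : T n c P) (hc : c ≠ 0) :
    P.natDegree = n :=
  le_antisymm h.1 (Polynomial.le_natDegree_of_ne_zero (by rw [h.2]; exact hc))

lemma T.leadingCoeff_eq {n : ℕ} {c : S} {P : Polynomial S} (h : T n c P) (hc : c ≠ 0) :
    P.leadingCoeff = c := by
  rw [Polynomial.leadingCoeff, h.natDegree_eq hc, h.2]

end TopCoeff

variable {k : Type u} [Field k] {K : Type v} [Field K] [Algebra k K] {r : ℕ}

/-- the substitution `x_i ↦ x_i + g_i t^N` on coefficients. -/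
noncomputable def φ (g : Fin r → K) (N : ℕ) :
    MvPolynomial (Fin r) k →ₐ[k] Polynomial (MvPolynomial (Fin r) K) :=
  MvPolynomial.aeval (fun i : Fin r => Polynomial.C (MvPolynomial.X i) +
    Polynomial.C (MvPolynomial.C (g i)) * Polynomial.X ^ N)

lemma T_L (g : Fin r → K) (N : ℕ) (hN : 0 < N) (i : Fin r) :
    T N (MvPolynomial.C (g i)) (Polynomial.C (MvPolynomial.X i) +
      Polynomial.C (MvPolynomial.C (g i)) * Polynomial.X ^ N :
        Polynomial (MvPolynomial (Fin r) K)) := by
  refine ⟨?_, ?_⟩
  · refine (Polynomial.natDegree_add_le _ _).trans (max_le ?_ ?_)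
    · simp
    · exact Polynomial.natDegree_C_mul_X_pow_le _ _
  · simp [Polynomial.coeff_C, hN.ne']

lemma T_monomial (g : Fin r → K) (N : ℕ) (hN : 0 < N) (α : Fin r →₀ ℕ) (c : k) :
    T (N * α.degree) (MvPolynomial.C (MvPolynomial.aeval g (MvPolynomial.monomial α c)))
      (φ (k := k) g N (MvPolynomial.monomial α c)) := by
  have h1 : T 0 (MvPolynomial.C (algebraMap k K c) : MvPolynomial (Fin r) K)
      (Polynomial.C (MvPolynomial.C (algebraMap k K c))) := ⟨by simp, by simp⟩
  have h2 := T.prod (Finset.univ : Finset (Fin r)) (fun i => α i * N)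
    (fun i => (MvPolynomial.C (g i) : MvPolynomial (Fin r) K) ^ α i)
    (fun i => (Polynomial.C (MvPolynomial.X i) +
      Polynomial.C (MvPolynomial.C (g i)) * Polynomial.X ^ N :
        Polynomial (MvPolynomial (Fin r) K)) ^ α i)
    (fun i _ => (T_L g N hN i).pow (α i))
  have h3 := h1.mul h2
  have e1 : 0 + ∑ i, α i * N = N * α.degree := by
    rw [zero_add, Finsupp.degree_eq_sum, ← Finset.sum_mul, mul_comm]
  have e2 : (MvPolynomial.C (algebraMap k K c) : MvPolynomial (Fin r) K) *
      ∏ i, (MvPolynomial.C (g i) : MvPolynomial (Fin r) K) ^ α i =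
      MvPolynomial.C (MvPolynomial.aeval g (MvPolynomial.monomial α c)) := by
    rw [MvPolynomial.aeval_monomial, Finsupp.prod_fintype _ _ (by simp), map_mul, map_prod]
    simp
  have e3 : (Polynomial.C (MvPolynomial.C (algebraMap k K c)) :
      Polynomial (MvPolynomial (Fin r) K)) *
      ∏ i, (Polynomial.C (MvPolynomial.X i) +
        Polynomial.C (MvPolynomial.C (g i)) * Polynomial.X ^ N) ^ α i =
      φ (k := k) g N (MvPolynomial.monomial α c) := by
    rw [φ, MvPolynomial.aeval_monomial, Finsupp.prod_fintype _ _ (by simp)]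
    rfl
  rw [e1, e2, e3] at h3
  exact h3

lemma claimA (g : Fin r → K) (N : ℕ) (hN : 0 < N) (p : MvPolynomial (Fin r) k) (d : ℕ)
    (hd : p.totalDegree ≤ d) :
    T (N * d) (MvPolynomial.C (MvPolynomial.aeval g (MvPolynomial.homogeneousComponent d p)))
      (φ (k := k) g N p) := by
  classical
  have hp : φ (k := k) g N p =
      ∑ α ∈ p.support, φ (k := k) g N (MvPolynomial.monomial α (p.coeff α)) := by
    conv_lhs => rw [p.as_sum]
    rw [map_sum]
  have hdeg : ∀ α ∈ p.support, α.degree ≤ d := fun α hα =>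
    (MvPolynomial.le_totalDegree hα).trans hd
  refine ⟨?_, ?_⟩
  · rw [hp]
    apply Polynomial.natDegree_sum_le_of_forall_le
    intro α hα
    exact (T_monomial g N hN α _).1.trans (Nat.mul_le_mul_left N (hdeg α hα))
  · rw [hp, Polynomial.finsetSum_coeff, MvPolynomial.homogeneousComponent_apply, map_sum,
      map_sum, Finset.sum_filter]
    apply Finset.sum_congr rfl
    intro α hα
    split_ifs with h
    · rw [← h]; exact (T_monomial g N hN α _).2
    · apply Polynomial.coeff_eq_zero_of_natDegree_lt
      refine lt_of_le_of_lt (T_monomial g N hN α _).1 ?_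
      exact Nat.mul_lt_mul_of_pos_left (lt_of_le_of_ne (hdeg α hα) h) hN

lemma homogeneousComponent_totalDegree_ne_zero {σ R : Type*} [CommSemiring R]
    (p : MvPolynomial σ R) (hp : p ≠ 0) :
    MvPolynomial.homogeneousComponent p.totalDegree p ≠ 0 := by
  classical
  have hne : p.support.Nonempty := by
    rw [Finset.nonempty_iff_ne_empty, Ne, MvPolynomial.support_eq_empty]; exact hp
  obtain ⟨α, hα, hsup⟩ := Finset.exists_mem_eq_sup p.support hne (fun s => s.sum fun _ e => e)
  intro h0
  have := congrArg (MvPolynomial.coeff α) h0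
  rw [MvPolynomial.coeff_homogeneousComponent, MvPolynomial.coeff_zero, if_pos] at this
  · exact (MvPolynomial.mem_support_iff.1 hα) this
  · exact hsup.symm

theorem exists_top (f : Polynomial (MvPolynomial (Fin r) k)) (hf : f ≠ 0) :
    ∃ (h : MvPolynomial (Fin r) k) (d j : ℕ), h ≠ 0 ∧ (1 ≤ d ∨ f.natDegree ≤ j) ∧
      ∀ N : ℕ, f.natDegree < N → ∀ (K : Type v) [Field K] [Algebra k K] (g : Fin r → K),
        T (N * d + j) (MvPolynomial.C (MvPolynomial.aeval g h))
          (Polynomial.eval₂ (φ (k := k) g N).toRingHom Polynomial.X f) := by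
  classical
  have hne : f.support.Nonempty := by
    rw [Finset.nonempty_iff_ne_empty, Ne, Polynomial.support_eq_empty]; exact hf
  obtain ⟨j₀, hj₀, hmax⟩ := Finset.exists_max_image f.support
    (fun j => toLex ((f.coeff j).totalDegree, j)) hne
  have hcoeff : f.coeff j₀ ≠ 0 := Polynomial.mem_support_iff.1 hj₀
  refine ⟨MvPolynomial.homogeneousComponent (f.coeff j₀).totalDegree (f.coeff j₀),
    (f.coeff j₀).totalDegree, j₀, homogeneousComponent_totalDegree_ne_zero _ hcoeff, ?_, ?_⟩
  · have := hmax _ (Polynomial.natDegree_mem_support_of_nonzero hf)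
    rw [Prod.Lex.toLex_le_toLex] at this
    rcases this with h | ⟨_, h⟩
    · left; exact Nat.one_le_iff_ne_zero.2 (Nat.ne_zero_of_lt h)
    · right; exact h
  · intro N hN K _ _ g
    have hNpos : 0 < N := lt_of_le_of_lt (Nat.zero_le _) hN
    set d := (f.coeff j₀).totalDegree with hd
    -- each term
    have hterm : ∀ j, T (N * (f.coeff j).totalDegree + j)
        (MvPolynomial.C (MvPolynomial.aeval g
          (MvPolynomial.homogeneousComponent (f.coeff j).totalDegree (f.coeff j))))
        ((φ (k := k) g N).toRingHom (f.coeff j) * Polynomial.X ^ j) := by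
      intro j
      have h1 := claimA (k := k) g N hNpos (f.coeff j) _ le_rfl
      have h2 : T j (1 : MvPolynomial (Fin r) K) (Polynomial.X ^ j) :=
        ⟨Polynomial.natDegree_X_pow_le j, by simp⟩
      have := h1.mul h2
      rwa [mul_one] at this
    have hlt : ∀ j ∈ f.support, j ≠ j₀ → N * (f.coeff j).totalDegree + j < N * d + j₀ := by
      intro j hj hne
      have hjN : j < N := lt_of_le_of_lt (Polynomial.le_natDegree_of_mem_supp j hj) hN
      have := hmax j hj
      rw [Prod.Lex.toLex_le_toLex] at this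
      rcases this with h | ⟨h1, h2⟩
      · calc N * (f.coeff j).totalDegree + j < N * (f.coeff j).totalDegree + N := by omega
          _ = N * ((f.coeff j).totalDegree + 1) := by ring
          _ ≤ N * d := Nat.mul_le_mul_left N h
          _ ≤ N * d + j₀ := Nat.le_add_right _ _
      · simp only at h1 h2
        rw [h1]
        have : j < j₀ := lt_of_le_of_ne h2 hne
        omega
    rw [Polynomial.eval₂_eq_sum, Polynomial.sum_def]
    refine ⟨?_, ?_⟩
    · apply Polynomial.natDegree_sum_le_of_forall_le
      intro j hj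
      by_cases hjj : j = j₀
      · subst hjj; exact (hterm j).1
      · exact (hterm j).1.trans (hlt j hj hjj).le
    · rw [Polynomial.finsetSum_coeff, Finset.sum_eq_single j₀]
      · exact (hterm j₀).2
      · intro j hj hjj
        exact Polynomial.coeff_eq_zero_of_natDegree_lt
          (lt_of_le_of_lt (hterm j).1 (hlt j hj hjj))
      · intro h; exact absurd hj₀ h

end Groth.Agent.Lib.TwistedTranslate
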