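import Groth.Agent.Lib.QuasiIsoElem

/-!
# Replacing a strict two-term complex of modules by one with a chosen degree-0 term

`M` a cochain complex of `R`-modules concentrated in degrees `-1, 0`, `π : F ⟶ M⁰` a linear map such
that `F → M⁰ → H⁰(M)` is surjective.  Then `E = [F ×_{M⁰} M⁻¹ → F]` maps quasi-isomorphically to
`M` (`quasiIso_pbHom`).
-/

set_option autoImplicit false

open CategoryTheory Limits

namespace Groth.Agent.Lib.TwoTermRep

open Groth.Agent.Lib.QuasiIsoElem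

universe u

variable {R : Type u} [CommRing R]

section

variable (M : CochainComplex (ModuleCat.{u} R) ℤ) {F : ModuleCat.{u} R} (π : F ⟶ M.X 0)

/-- The fibre product `F ×_{M⁰} M⁻¹` as a submodule of `F × M⁻¹`. -/
def pbSub : Submodule R (F × M.X (-1)) :=
  LinearMap.ker (π.hom.comp (LinearMap.fst R F (M.X (-1))) -
    (M.d (-1) 0).hom.comp (LinearMap.snd R F (M.X (-1))))

lemma mem_pbSub (p : F × M.X (-1)) : p ∈ pbSub M π ↔ π.hom p.1 = (M.d (-1) 0).hom p.2 := by
  simp [pbSub, sub_eq_zero]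

/-- The module `F ×_{M⁰} M⁻¹`. -/
abbrev pbObj : ModuleCat.{u} R := ModuleCat.of R (pbSub M π)

/-- The projection `F ×_{M⁰} M⁻¹ ⟶ F`. -/
def pbFst : pbObj M π ⟶ F :=
  ModuleCat.ofHom ((LinearMap.fst R F (M.X (-1))).comp (pbSub M π).subtype)

/-- The projection `F ×_{M⁰} M⁻¹ ⟶ M⁻¹`. -/
def pbSnd : pbObj M π ⟶ M.X (-1) :=
  ModuleCat.ofHom ((LinearMap.snd R F (M.X (-1))).comp (pbSub M π).subtype)

lemma pb_comm : pbSnd M π ≫ M.d (-1) 0 = pbFst M π ≫ π := by
  refine ModuleCat.hom_ext (LinearMap.ext fun p => ?_)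
  exact ((mem_pbSub M π p.1).1 p.2).symm

variable (h1 : IsZero (M.X 1))

/-- The comparison map `[F ×_{M⁰} M⁻¹ → F] ⟶ M`. -/
noncomputable def pbHom : twoTerm (pbFst M π) ⟶ M :=
  twoTermHom (pbFst M π) M (pbSnd M π) π (pb_comm M π) (h1.eq_of_tgt _ _)

include h1 in
theorem quasiIso_pbHom (hM : ∀ i : ℤ, i ≠ -1 → i ≠ 0 → IsZero (M.X i))
    (hπ : ∀ x : M.X 0, ∃ (f : F) (m : M.X (-1)), π.hom f = x + (M.d (-1) 0).hom m) :
    QuasiIso (pbHom M π h1) := by
  refine ⟨fun i => ?_⟩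
  by_cases hi1 : i = -1
  · subst hi1
    refine quasiIsoAt_of_elementwise _ (-2) (-1) 0 (by simp) (by simp) ?_ ?_
    · intro x₂ hx₂
      have hmem : ((0 : F), x₂) ∈ pbSub M π := by
        rw [mem_pbSub]
        simp [hx₂]
      refine ⟨(⟨((0 : F), x₂), hmem⟩ : pbSub M π), rfl, 0, ?_⟩
      rw [map_zero, add_zero]
      rfl
    · rintro x₁ hx₁ ⟨y₂, hy₂⟩
      refine ⟨0, ?_⟩
      rw [map_zero]
      have : Subsingleton (M.X (-2)) :=
        ModuleCat.subsingleton_of_isZero (hM (-2) (by simp) (by simp))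
      obtain rfl : y₂ = 0 := Subsingleton.elim _ _
      rw [map_zero] at hy₂
      have e1 : (x₁ : pbSub M π).1.1 = 0 := hx₁
      have e2 : (x₁ : pbSub M π).1.2 = 0 := hy₂.symm
      symm
      exact Subtype.ext (Prod.ext e1 e2)
  · by_cases hi0 : i = 0
    · subst hi0
      refine quasiIsoAt_of_elementwise _ (-1) 0 1 (by simp) (by simp) ?_ ?_
      · intro x₂ _
        obtain ⟨f, m, hfm⟩ := hπ x₂
        refine ⟨f, ?_, m, hfm⟩
        rw [twoTerm_d_eq_zero _ 0 1 (by simp)]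
        rfl
      · rintro x₁ _ ⟨y₂, hy₂⟩
        obtain ⟨f, rfl⟩ : ∃ f : F, f = x₁ := ⟨x₁, rfl⟩
        have hmem : (f, y₂) ∈ pbSub M π := by
          rw [mem_pbSub]
          exact hy₂.symm
        exact ⟨(⟨(f, y₂), hmem⟩ : pbSub M π), rfl⟩
    · have s1 : Subsingleton ((twoTerm (pbFst M π)).X i) :=
        ModuleCat.subsingleton_of_isZero (twoTerm_isZero _ i hi1 hi0)
      have s2 : Subsingleton (M.X i) := ModuleCat.subsingleton_of_isZero (hM i hi1 hi0)
      refine quasiIsoAt_of_elementwise _ (i - 1) i (i + 1) (by simp) (by simp) ?_ ?_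
      · intro x₂ _
        exact ⟨0, map_zero _, 0, Subsingleton.elim _ _⟩
      · intro x₁ _ _
        exact ⟨0, Subsingleton.elim _ _⟩

end

end Groth.Agent.Lib.TwoTermRep
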