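import Groth.Agent.Lib.TwoTermRep
import Groth.Prelude.Def_DRing2

/-!
# Two-term representatives in `D(R)`

* `exists_strict`: an object of `D(R)` with cohomology only in degrees `-1, 0` is `Q.obj M` for a
  complex `M` with zero terms outside `-1, 0`.
* `finite_homology_quot`: `H^j(K)` finite implies `ker d^j / im d^{j-1}` finite for a representative.
* `exists_rep_of_map`: replace `M⁰` by `F` along `π : F ⟶ M⁰` (surjective onto `H⁰`).
* `finite_pbSub`: finiteness of `F ×_{M⁰} M⁻¹` over a Noetherian ring.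
-/

set_option autoImplicit false

open CategoryTheory Limits

namespace Groth.Agent.Lib.TwoTermRep

open Groth.Agent.Lib.QuasiIsoElem

universe u

attribute [local instance] HasDerivedCategory.standard

variable (R : Type u) [CommRing R]

lemma exists_strict (K : Dual.D R)
    (hK : ∀ i : ℤ, i ≠ -1 → i ≠ 0 → Subsingleton (Dual.HD R K i)) :
    ∃ M : CochainComplex (ModuleCat.{u} R) ℤ, (∀ i : ℤ, i ≠ -1 → i ≠ 0 → IsZero (M.X i)) ∧
      Nonempty (K ≅ DerivedCategory.Q.obj M) := by
  have hLE : DerivedCategory.IsLE K 0 := by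
    rw [DerivedCategory.isLE_iff]
    intro i hi
    have := hK i (by omega) (by omega)
    exact ModuleCat.isZero_of_subsingleton _
  have hGE : DerivedCategory.IsGE K (-1) := by
    rw [DerivedCategory.isGE_iff]
    intro i hi
    have := hK i (by omega) (by omega)
    exact ModuleCat.isZero_of_subsingleton _
  obtain ⟨M, hM1, hM0, ⟨e⟩⟩ := DerivedCategory.exists_iso_Q_obj_of_isGE_of_isLE K (-1) 0
  refine ⟨M, fun i h1 h0 => ?_, ⟨e⟩⟩
  rcases lt_or_gt_of_ne h0 with h | h
  · exact M.isZero_of_isStrictlyGE (-1) i (by omega)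
  · exact M.isZero_of_isStrictlyLE 0 i h

variable {R}

/-- If `H^j(K)` is a finite module and `K ≅ Q.obj M`, then `ker d^j / im d^{i}` is finite. -/
lemma finite_homology_quot (K : Dual.D R) (M : CochainComplex (ModuleCat.{u} R) ℤ)
    (e : K ≅ DerivedCategory.Q.obj M) (i j k : ℤ) (hi : (ComplexShape.up ℤ).prev j = i)
    (hk : (ComplexShape.up ℤ).next j = k) (h : Module.Finite R (Dual.HD R K j)) :
    Module.Finite R (LinearMap.ker (M.d j k).hom ⧸
      LinearMap.range (M.sc' i j k).moduleCatToCycles) := by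
  let e1 : (DerivedCategory.homologyFunctor (ModuleCat.{u} R) j).obj K ≅
      (M.sc' i j k).moduleCatLeftHomologyData.H :=
    (DerivedCategory.homologyFunctor (ModuleCat.{u} R) j).mapIso e ≪≫
      (DerivedCategory.homologyFunctorFactors (ModuleCat.{u} R) j).app M ≪≫
      M.homologyIsoSc' i j k hi hk ≪≫ (M.sc' i j k).moduleCatHomologyIso
  exact Module.Finite.equiv e1.toLinearEquiv

/-- Replacing the degree-0 term of a strict two-term complex. -/
theorem exists_rep_of_map (K : Dual.D R) (M : CochainComplex (ModuleCat.{u} R) ℤ)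
    (hM : ∀ i : ℤ, i ≠ -1 → i ≠ 0 → IsZero (M.X i)) (e : K ≅ DerivedCategory.Q.obj M)
    {F : ModuleCat.{u} R} (π : F ⟶ M.X 0)
    (hπ : ∀ x : M.X 0, ∃ (f : F) (m : M.X (-1)), π.hom f = x + (M.d (-1) 0).hom m) :
    DRing.VanishesOutside (twoTerm (pbFst M π)) (-1) 0 ∧
      Nonempty (DRing.toD (twoTerm (pbFst M π)) ≅ K) := by
  have h1 : IsZero (M.X 1) := hM 1 (by simp) (by simp)
  have hq := quasiIso_pbHom M π h1 hM hπ
  have hiso : IsIso (DerivedCategory.Q.map (pbHom M π h1)) := by
    rw [DerivedCategory.isIso_Q_map_iff_quasiIso]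
    exact hq
  refine ⟨fun i hi => twoTerm_isZero _ i (by omega) (by omega), ?_⟩
  exact ⟨asIso (DerivedCategory.Q.map (pbHom M π h1)) ≪≫ e.symm⟩

/-- Over a Noetherian ring, `F ×_{M⁰} M⁻¹` is finite when `F` and `ker d⁻¹` are. -/
theorem finite_pbSub [IsNoetherianRing R] (M : CochainComplex (ModuleCat.{u} R) ℤ)
    {F : ModuleCat.{u} R} (π : F ⟶ M.X 0) [Module.Finite R F]
    (hker : Module.Finite R (LinearMap.ker (M.d (-1) 0).hom)) :
    Module.Finite R (pbSub M π) := by
  rw [Module.Finite.iff_fg]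
  refine Submodule.fg_of_fg_map_of_fg_inf_ker (LinearMap.fst R F (M.X (-1))) ?_ ?_
  · exact IsNoetherian.noetherian _
  · have : pbSub M π ⊓ LinearMap.ker (LinearMap.fst R F (M.X (-1))) =
        (LinearMap.ker (M.d (-1) 0).hom).map (LinearMap.inr R F (M.X (-1))) := by
      ext p
      simp only [Submodule.mem_inf, mem_pbSub, LinearMap.mem_ker, LinearMap.fst_apply,
        Submodule.mem_map, LinearMap.inr_apply]
      constructor
      · rintro ⟨h1, h2⟩
        refine ⟨p.2, ?_, Prod.ext h2.symm rfl⟩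
        rw [← h1, h2, map_zero]
      · rintro ⟨m, hm, rfl⟩
        exact ⟨by simp [hm], rfl⟩
    rw [this]
    exact (Module.Finite.iff_fg.1 hker).map _

section Abstract

variable (S : ShortComplex (ModuleCat.{u} R))

lemma finite_ker_g
    (hfin : Module.Finite R (LinearMap.ker S.g.hom ⧸ LinearMap.range S.moduleCatToCycles))
    (h : Subsingleton S.X₁) : Module.Finite R (LinearMap.ker S.g.hom) := by
  have hbot : LinearMap.range S.moduleCatToCycles = ⊥ := by
    rw [LinearMap.range_eq_bot]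
    refine LinearMap.ext fun y => ?_
    obtain rfl : y = 0 := Subsingleton.elim _ _
    simp
  exact Module.Finite.equiv (Submodule.quotEquivOfEqBot _ hbot)

lemma exists_fin_lin
    (hfin : Module.Finite R (LinearMap.ker S.g.hom ⧸ LinearMap.range S.moduleCatToCycles))
    (hg : ∀ x : S.X₂, S.g.hom x = 0) :
    ∃ (n : ℕ) (p : (Fin n → R) →ₗ[R] S.X₂), ∀ x : S.X₂,
      ∃ (c : Fin n → R) (m : S.X₁), p c = x + S.f.hom m := by
  obtain ⟨n, s, hs⟩ := Module.Finite.exists_fin (R := R)
    (M := (LinearMap.ker S.g.hom ⧸ LinearMap.range S.moduleCatToCycles))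
  choose k hk using fun t => Submodule.mkQ_surjective _ (s t)
  refine ⟨n, Fintype.linearCombination R
    (fun t => ((k t : LinearMap.ker S.g.hom) : S.X₂)), fun x => ?_⟩
  let z : LinearMap.ker S.g.hom := ⟨x, hg x⟩
  have hz : (LinearMap.range S.moduleCatToCycles).mkQ z ∈ Submodule.span R (Set.range s) := by
    rw [hs]
    exact Submodule.mem_top
  rw [Submodule.mem_span_range_iff_exists_fun] at hz
  obtain ⟨c, hc⟩ := hz
  have h2 : (LinearMap.range S.moduleCatToCycles).mkQ (z - ∑ t, c t • k t) = 0 := by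
    rw [map_sub, map_sum, ← hc, sub_eq_zero]
    refine Finset.sum_congr rfl fun t _ => ?_
    rw [map_smul, hk]
  rw [Submodule.mkQ_apply, Submodule.Quotient.mk_eq_zero, LinearMap.mem_range] at h2
  obtain ⟨m, hm⟩ := h2
  have hm' : S.f.hom m = x - ∑ t, c t • ((k t : LinearMap.ker S.g.hom) : S.X₂) := by
    have := congrArg Subtype.val hm
    simpa using this
  refine ⟨c, -m, ?_⟩
  rw [Fintype.linearCombination_apply, map_neg, hm']
  abel

end Abstract

/-- `H^{-1}(K)` finite implies `ker d⁻¹` finite for a strict two-term representative. -/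
theorem finite_ker_of_finite (K : Dual.D R) (M : CochainComplex (ModuleCat.{u} R) ℤ)
    (hM : ∀ i : ℤ, i ≠ -1 → i ≠ 0 → IsZero (M.X i)) (e : K ≅ DerivedCategory.Q.obj M)
    (h1 : Module.Finite R (Dual.HD R K (-1))) :
    Module.Finite R (LinearMap.ker (M.d (-1) 0).hom) :=
  finite_ker_g (M.sc' (-2) (-1) 0)
    (finite_homology_quot K M e (-2) (-1) 0 (by simp) (by simp) h1)
    (ModuleCat.subsingleton_of_isZero (hM (-2) (by simp) (by simp)))

/-- `H⁰(K)` finite implies there is a map from a finite free module onto `H⁰`. -/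
theorem exists_fin_map (K : Dual.D R) (M : CochainComplex (ModuleCat.{u} R) ℤ)
    (hM : ∀ i : ℤ, i ≠ -1 → i ≠ 0 → IsZero (M.X i)) (e : K ≅ DerivedCategory.Q.obj M)
    (h0 : Module.Finite R (Dual.HD R K 0)) :
    ∃ (n : ℕ) (π : ModuleCat.of R (Fin n → R) ⟶ M.X 0), ∀ x : M.X 0,
      ∃ (f : ModuleCat.of R (Fin n → R)) (m : M.X (-1)), π.hom f = x + (M.d (-1) 0).hom m := by
  have : Subsingleton (M.X 1) := ModuleCat.subsingleton_of_isZero (hM 1 (by simp) (by simp))
  obtain ⟨n, p, hp⟩ := exists_fin_lin (M.sc' (-1) 0 1)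
    (finite_homology_quot K M e (-1) 0 1 (by simp) (by simp) h0)
    (fun x => Subsingleton.elim (α := M.X 1) _ _)
  exact ⟨n, ModuleCat.ofHom p, hp⟩

end Groth.Agent.Lib.TwoTermRep
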