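/-
helper66: every module on a ringed site (with a covering class B of quasi-compact objects) is a filtered colimit of
modules of type A; canonical category of type A presentations over F.
-/
import Groth.Agent.Lib.QcCompact66
import Mathlib.CategoryTheory.Filtered.Basic

set_option autoImplicit false
universe u
open CategoryTheory CategoryTheory.Limits Opposite

namespace Groth.Agent.Lib.TypeAColim66

open Groth.Agent.FinSupp31 Groth.Agent.Lib.QcObject66 Groth.Agent.Lib.TypeAExt66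
  Groth.Agent.Lib.TypeA66 Groth.Agent.Lib.TypeAKer66 Groth.Agent.Lib.QcCompact66
  Groth.Agent.HomologySheafLocal31

section Abstract

variable {𝒜 : Type*} [Category 𝒜] [Abelian 𝒜]

/-- the cokernel of `biprod.map f g` is the biproduct of the cokernels -/
noncomputable def cokernelBiprodMapIso {X₁ Y₁ X₂ Y₂ : 𝒜} (f : X₁ ⟶ Y₁) (g : X₂ ⟶ Y₂) :
    cokernel f ⊞ cokernel g ≅ cokernel (biprod.map f g) where
  hom := biprod.desc
    (cokernel.desc f (biprod.inl ≫ cokernel.π (biprod.map f g)) (by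
      have h : f ≫ biprod.inl = biprod.inl ≫ biprod.map f g := by simp
      rw [reassoc_of% h, cokernel.condition, comp_zero]))
    (cokernel.desc g (biprod.inr ≫ cokernel.π (biprod.map f g)) (by
      have h : g ≫ biprod.inr = biprod.inr ≫ biprod.map f g := by simp
      rw [reassoc_of% h, cokernel.condition, comp_zero]))
  inv := cokernel.desc (biprod.map f g) (biprod.map (cokernel.π f) (cokernel.π g)) (by
    apply biprod.hom_ext' <;> apply biprod.hom_ext <;> simp)
  hom_inv_id := by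
    apply biprod.hom_ext'
    · rw [← cancel_epi (cokernel.π f)]
      simp
    · rw [← cancel_epi (cokernel.π g)]
      simp
  inv_hom_id := by
    rw [← cancel_epi (cokernel.π (biprod.map f g))]
    apply biprod.hom_ext'
    · simp
    · simp

end Abstract

variable {C : Type u} [SmallCategory C] {J : GrothendieckTopology C} (O : Sheaf J CommRingCat.{u})
  (B : Set C)

/-- a finite free sum is of type A -/
lemma isTypeA_finfree {β : Type*} [Fintype β] (U : β → C) (hU : ∀ b, U b ∈ B) :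
    IsTypeA O B (∐ fun b => ModSite.freeOn O (U b)) := by
  refine isTypeA_of_fintype O B _ (fun x : PEmpty.{1} => x.elim) U (fun x => x.elim) hU 0 ?_
  exact (cokernelZeroIsoTarget).symm


variable {O B}

lemma isTypeA_freeOn {U : C} (hU : U ∈ B) : IsTypeA O B (ModSite.freeOn O U) := by
  refine isTypeA_of_iso O B ?_ (isTypeA_finfree O B (fun _ : Unit => U) (fun _ => hU))
  exact
    { hom := Sigma.ι (fun _ : Unit => ModSite.freeOn O U) ()
      inv := Sigma.desc (fun _ => 𝟙 _)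
      hom_inv_id := by simp
      inv_hom_id := by
        apply Sigma.hom_ext
        rintro ⟨⟩
        simp }

variable (hB₁ : Covers J B) (hB₂ : ∀ U ∈ B, CohCx.IsQcObject (hSh J U))

include hB₁ hB₂ in
/-- type A modules are closed under binary biproducts -/
lemma isTypeA_biprod {A A' : ModSite.Mod O} (hA : IsTypeA O B A) (hA' : IsTypeA O B A') :
    IsTypeA O B (A ⊞ A') := by
  obtain ⟨m, n, V, U, ψ, hV, hU, ⟨e⟩⟩ := hA
  obtain ⟨m', n', V', U', ψ', hV', hU', ⟨e'⟩⟩ := hA'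
  refine isTypeA_of_iso O B (biprod.mapIso e e' ≪≫ cokernelBiprodMapIso ψ ψ') ?_
  refine isTypeA_cokernel O B hB₁ hB₂ _ ?_ ?_
  · refine isTypeA_of_iso O B (sigmaSumIso (fun s : Fin m ⊕ Fin m' =>
      ModSite.freeOn O (Sum.elim V V' s))).symm (isTypeA_finfree O B _ ?_)
    rintro (j | j)
    · exact hV j
    · exact hV' j
  · refine isTypeA_of_iso O B (sigmaSumIso (fun s : Fin n ⊕ Fin n' =>
      ModSite.freeOn O (Sum.elim U U' s))).symm (isTypeA_finfree O B _ ?_)
    rintro (j | j)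
    · exact hU j
    · exact hU' j

include hB₁ in
/-- the modules `j_!O_U`, `U ∈ B`, detect zero morphisms -/
lemma eq_zero_of_forall_freeOn {K M : ModSite.Mod O} (g : K ⟶ M)
    (h : ∀ V ∈ B, ∀ r : ModSite.freeOn O V ⟶ K, r ≫ g = 0) : g = 0 := by
  apply (Groth.Agent.ModGen31.Γ O).map_injective
  rw [Functor.map_zero]
  apply Sheaf.hom_ext
  apply NatTrans.ext
  funext X
  apply AddCommGrpCat.hom_ext
  ext s
  obtain ⟨κ, Yc, f, hcov, hYc⟩ := hB₁ X.unop
  have hsep := Sheaf.isSeparated ((Groth.Agent.ModGen31.Γ O).obj M)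
  refine hsep X.unop _ hcov _ 0 ?_
  rintro W b ⟨W₀, c, b₀, hb₀, rfl⟩
  obtain ⟨k⟩ := hb₀
  have h1 := NatTrans.naturality_apply ((Groth.Agent.ModGen31.Γ O).map g).hom (f k).op s
  have h2 := h (Yc k) (hYc k) ((eqvAdd O (Yc k) K).symm
    (((Groth.Agent.ModGen31.Γ O).obj K).obj.map (f k).op s))
  have h3 := congrArg (eqvAdd O (Yc k) M) h2
  rw [eqvAdd_comp, AddEquiv.apply_symm_apply, map_zero] at h3
  have h4 := h1.symm.trans h3
  rw [map_comp_apply', map_comp_apply', map_zero, map_zero]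
  refine (congrArg _ h4).trans ?_
  rw [map_zero]


variable (O B) in
/-- objects of the canonical category: explicit type A presentations with a map to `F` -/
structure Obj (F : ModSite.Mod O) : Type u where
  m : ℕ
  n : ℕ
  V : Fin m → C
  U : Fin n → C
  ψ : (∐ fun j => ModSite.freeOn O (V j)) ⟶ ∐ fun i => ModSite.freeOn O (U i)
  hV : ∀ j, V j ∈ B
  hU : ∀ i, U i ∈ B
  a : cokernel ψ ⟶ F

namespace Obj

variable {F : ModSite.Mod O}

/-- the underlying module -/
noncomputable abbrev pt (x : Obj O B F) : ModSite.Mod O := cokernel x.ψ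

lemma isTypeA_pt (x : Obj O B F) : IsTypeA O B x.pt :=
  ⟨x.m, x.n, x.V, x.U, x.ψ, x.hV, x.hU, ⟨Iso.refl _⟩⟩

noncomputable instance : Category (Obj O B F) where
  Hom x y := {φ : x.pt ⟶ y.pt // φ ≫ y.a = x.a}
  id x := ⟨𝟙 _, Category.id_comp _⟩
  comp f g := ⟨f.1 ≫ g.1, by rw [Category.assoc, g.2, f.2]⟩
  id_comp f := Subtype.ext (Category.id_comp _)
  comp_id f := Subtype.ext (Category.comp_id _)
  assoc f g h := Subtype.ext (Category.assoc _ _ _)

lemma comp_val {x y z : Obj O B F} (f : x ⟶ y) (g : y ⟶ z) : (f ≫ g).1 = f.1 ≫ g.1 := rfl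

lemma id_val (x : Obj O B F) : (𝟙 x : x ⟶ x).1 = 𝟙 x.pt := rfl

lemma hom_ext {x y : Obj O B F} (f g : x ⟶ y) (h : f.1 = g.1) : f = g := Subtype.ext h

variable (O B F) in
/-- the diagram of type A modules over `F` -/
noncomputable def D : Obj O B F ⥤ ModSite.Mod O where
  obj x := x.pt
  map f := f.1

variable (O B F) in
/-- the canonical cocone -/
noncomputable def coconeι : D O B F ⟶ (Functor.const (Obj O B F)).obj F where
  app x := x.a
  naturality x y f := by
    change f.1 ≫ y.a = x.a ≫ 𝟙 F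
    rw [f.2, Category.comp_id]

/-- every type A module over `F` is represented in the canonical category -/
lemma exists_obj {A : ModSite.Mod O} (hA : IsTypeA O B A) (a : A ⟶ F) :
    ∃ (x : Obj O B F) (θ : x.pt ≅ A), θ.hom ≫ a = x.a := by
  obtain ⟨m, n, V, U, ψ, hV, hU, ⟨e⟩⟩ := hA
  exact ⟨⟨m, n, V, U, ψ, hV, hU, e.inv ≫ a⟩, e.symm, rfl⟩

include hB₁ hB₂ in
lemma isFiltered : IsFiltered (Obj O B F) := by
  have hne : Nonempty (Obj O B F) :=
    ⟨⟨0, 0, Fin.elim0, Fin.elim0, 0, fun j => j.elim0, fun i => i.elim0, 0⟩⟩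
  refine { cocone_objs := ?_, cocone_maps := ?_, nonempty := hne }
  · intro x y
    obtain ⟨z, θ, hθ⟩ := exists_obj (isTypeA_biprod hB₁ hB₂ x.isTypeA_pt y.isTypeA_pt)
      (biprod.desc x.a y.a)
    refine ⟨z, ⟨biprod.inl ≫ θ.inv, ?_⟩, ⟨biprod.inr ≫ θ.inv, ?_⟩, trivial⟩
    · rw [← hθ, Category.assoc, θ.inv_hom_id_assoc, biprod.inl_desc]
    · rw [← hθ, Category.assoc, θ.inv_hom_id_assoc, biprod.inr_desc]
  · intro x y f g
    have h0 : (f.1 - g.1) ≫ y.a = 0 := by
      rw [Preadditive.sub_comp, f.2, g.2, sub_self]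
    obtain ⟨z, θ, hθ⟩ := exists_obj
      (isTypeA_cokernel O B hB₁ hB₂ (f.1 - g.1) x.isTypeA_pt y.isTypeA_pt)
      (cokernel.desc (f.1 - g.1) y.a h0)
    refine ⟨z, ⟨cokernel.π (f.1 - g.1) ≫ θ.inv, ?_⟩, ?_⟩
    · rw [← hθ, Category.assoc, θ.inv_hom_id_assoc, cokernel.π_desc]
    · apply hom_ext
      rw [comp_val, comp_val]
      change f.1 ≫ cokernel.π (f.1 - g.1) ≫ θ.inv = g.1 ≫ cokernel.π (f.1 - g.1) ≫ θ.inv
      rw [← sub_eq_zero, ← Preadditive.sub_comp, cokernel.condition_assoc, zero_comp]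

end Obj

section Colimit

variable {F : ModSite.Mod O} (s : Cocone (Obj.D O B F))

/-- compatibility of the legs of a cocone with morphisms between represented objects -/
lemma leg_comp {x x' : Obj O B F} {A A' : ModSite.Mod O} (θ : x.pt ≅ A) (θ' : x'.pt ≅ A')
    {a : A ⟶ F} {a' : A' ⟶ F} (h : θ.hom ≫ a = x.a) (h' : θ'.hom ≫ a' = x'.a) (φ : A ⟶ A')
    (hφ : φ ≫ a' = a) : θ.inv ≫ s.ι.app x = φ ≫ θ'.inv ≫ s.ι.app x' := by
  let μ : x ⟶ x' := ⟨θ.hom ≫ φ ≫ θ'.inv, by
    rw [Category.assoc, Category.assoc, ← h', θ'.inv_hom_id_assoc, hφ, h]⟩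
  have hw := s.w μ
  change (θ.hom ≫ φ ≫ θ'.inv) ≫ s.ι.app x' = s.ι.app x at hw
  rw [← hw]
  simp

/-- the value of a cocone on a type A module over `F` -/
noncomputable def T {A : ModSite.Mod O} (hA : IsTypeA O B A) (a : A ⟶ F) : A ⟶ s.pt :=
  (Obj.exists_obj hA a).choose_spec.choose.inv ≫ s.ι.app (Obj.exists_obj hA a).choose

lemma T_eq {A : ModSite.Mod O} (hA : IsTypeA O B A) (a : A ⟶ F) (x : Obj O B F) (θ : x.pt ≅ A)
    (h : θ.hom ≫ a = x.a) : T s hA a = θ.inv ≫ s.ι.app x := by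
  have := leg_comp s (Obj.exists_obj hA a).choose_spec.choose θ
    (Obj.exists_obj hA a).choose_spec.choose_spec h (𝟙 A) (Category.id_comp _)
  rw [Category.id_comp] at this
  exact this

lemma T_comp {A A' : ModSite.Mod O} (hA : IsTypeA O B A) (hA' : IsTypeA O B A') (a : A ⟶ F)
    (a' : A' ⟶ F) (φ : A ⟶ A') (hφ : φ ≫ a' = a) : φ ≫ T s hA' a' = T s hA a :=
  (leg_comp s _ _ (Obj.exists_obj hA a).choose_spec.choose_spec
    (Obj.exists_obj hA' a').choose_spec.choose_spec φ hφ).symm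

lemma T_obj (x : Obj O B F) : T s x.isTypeA_pt x.a = s.ι.app x := by
  rw [T_eq s x.isTypeA_pt x.a x (Iso.refl _) (Category.id_comp _)]
  exact Category.id_comp _

variable (O B F) in
/-- the index type of the canonical generators of `F` -/
abbrev I : Type u := Σ U : {U : C // U ∈ B}, (ModSite.freeOn O U.1 ⟶ F)

variable (O B F) in
/-- the canonical presentation of `F` -/
noncomputable abbrev PF : ModSite.Mod O := ∐ fun i : I O B F => ModSite.freeOn O i.1.1

variable (O B F) in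
noncomputable def pF : PF O B F ⟶ F := Sigma.desc (fun i => i.2)

lemma ι_pF (i : I O B F) :
    Sigma.ι (fun i : I O B F => ModSite.freeOn O i.1.1) i ≫ pF O B F = i.2 := Sigma.ι_desc _ _

include hB₁ in
lemma epi_pF : Epi (pF O B F) := by
  refine Preadditive.epi_of_cancel_zero _ (fun {M} h hh => ?_)
  refine eq_zero_of_forall_freeOn hB₁ h (fun V hV r => ?_)
  have h1 := ι_pF (O := O) (B := B) (F := F) ⟨⟨V, hV⟩, r⟩
  change _ = r at h1
  rw [← h1, Category.assoc, hh, comp_zero]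

/-- the map induced by a cocone on the canonical generators -/
noncomputable def ΦP : PF O B F ⟶ s.pt :=
  Sigma.desc (fun i => T s (isTypeA_freeOn i.1.2) i.2)

lemma ι_ΦP (i : I O B F) :
    Sigma.ι (fun i : I O B F => ModSite.freeOn O i.1.1) i ≫ ΦP s =
      T s (isTypeA_freeOn i.1.2) i.2 := Sigma.ι_desc _ _

include hB₁ hB₂ in
lemma kernel_ΦP : kernel.ι (pF O B F) ≫ ΦP s = 0 := by
  classical
  refine eq_zero_of_forall_freeOn hB₁ _ (fun V hV r => ?_)
  let ZI := fun i : I O B F => ModSite.freeOn O i.1.1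
  let r' : ModSite.freeOn O V ⟶ ∐ ZI := r ≫ kernel.ι (pF O B F)
  obtain ⟨S, hS⟩ := finSupp_freeOn (hB₂ V hV) ZI r'
  let ZS := fun i : S => ModSite.freeOn O i.1.1.1
  let incS : (∐ ZS) ⟶ ∐ ZI := Sigma.desc (fun i : S => Sigma.ι ZI i.1)
  let projS : (∐ ZI) ⟶ ∐ ZS :=
    Sigma.desc (fun i => if h : i ∈ S then Sigma.ι ZS ⟨i, h⟩ else 0)
  have hpi : projS ≫ incS = e ZI S := by
    apply Sigma.hom_ext
    intro i
    rw [← Category.assoc, Sigma.ι_desc]
    by_cases h : i ∈ S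
    · rw [dif_pos h, Sigma.ι_desc, ι_e_of_mem ZI h]
    · rw [dif_neg h, zero_comp, ι_e_of_not_mem ZI h]
  let ρ : ModSite.freeOn O V ⟶ ∐ ZS := r' ≫ projS
  have hρ : ρ ≫ incS = r' := by rw [Category.assoc, hpi, hS]
  have hPS : IsTypeA O B (∐ ZS) :=
    isTypeA_finfree O B (fun i : S => i.1.1.1) (fun i => i.1.1.2)
  have hr' : r' ≫ pF O B F = 0 := by
    rw [Category.assoc, kernel.condition, comp_zero]
  have hA' : IsTypeA O B (cokernel ρ) :=
    isTypeA_cokernel O B hB₁ hB₂ ρ (isTypeA_freeOn hV) hPS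
  have h0 : ρ ≫ incS ≫ pF O B F = 0 := by rw [← Category.assoc, hρ, hr']
  have h1 : cokernel.π ρ ≫ T s hA' (cokernel.desc ρ (incS ≫ pF O B F) h0) =
      T s hPS (incS ≫ pF O B F) :=
    T_comp s hPS hA' _ _ (cokernel.π ρ) (cokernel.π_desc _ _ _)
  have h3 : incS ≫ ΦP s = T s hPS (incS ≫ pF O B F) := by
    apply Sigma.hom_ext
    intro i
    rw [← Category.assoc, Sigma.ι_desc, ι_ΦP]
    refine (T_comp s (isTypeA_freeOn i.1.1.2) hPS _ _ (Sigma.ι ZS i) ?_).symm
    rw [← Category.assoc, Sigma.ι_desc, ι_pF]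
  calc r ≫ kernel.ι (pF O B F) ≫ ΦP s = (ρ ≫ incS) ≫ ΦP s := by rw [hρ, Category.assoc]
    _ = 0 := by rw [Category.assoc, h3, ← h1, cokernel.condition_assoc, zero_comp]
    _ = r ≫ 0 := comp_zero.symm


/-- `pF` is the cokernel of its kernel -/
noncomputable def isColimitPF (hp : Epi (pF O B F)) :
    IsColimit (CokernelCofork.ofπ (pF O B F) (kernel.condition (pF O B F))) :=
  haveI := hp
  Abelian.epiIsCokernelOfKernel (KernelFork.ofι (kernel.ι (pF O B F)) (kernel.condition _))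
    (kernelIsKernel _)

/-- the map induced by a cocone -/
noncomputable def Φ (hp : Epi (pF O B F)) (h0 : kernel.ι (pF O B F) ≫ ΦP s = 0) : F ⟶ s.pt :=
  (isColimitPF hp).desc (CokernelCofork.ofπ (ΦP s) h0)

lemma pF_Φ (hp : Epi (pF O B F)) (h0 : kernel.ι (pF O B F) ≫ ΦP s = 0) :
    pF O B F ≫ Φ s hp h0 = ΦP s :=
  (isColimitPF hp).fac (CokernelCofork.ofπ (ΦP s) h0) WalkingParallelPair.one

include hB₁ hB₂ in
/-- **the canonical cocone is a colimit** -/
theorem nonempty_isColimit :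
    Nonempty (IsColimit (Cocone.mk F (Obj.coconeι O B F))) := by
  have hp : Epi (pF O B F) := epi_pF hB₁
  have h0 : ∀ s : Cocone (Obj.D O B F), kernel.ι (pF O B F) ≫ ΦP s = 0 :=
    fun s => kernel_ΦP hB₁ hB₂ s
  refine ⟨{ desc := fun s => Φ s hp (h0 s), fac := ?_, uniq := ?_ }⟩
  · intro s x
    change x.a ≫ Φ s hp (h0 s) = s.ι.app x
    rw [← cancel_epi (cokernel.π x.ψ)]
    apply Sigma.hom_ext
    intro k
    let b : ModSite.freeOn O (x.U k) ⟶ F :=
      Sigma.ι (fun i => ModSite.freeOn O (x.U i)) k ≫ cokernel.π x.ψ ≫ x.a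
    have hb : b = Sigma.ι (fun i : I O B F => ModSite.freeOn O i.1.1) ⟨⟨x.U k, x.hU k⟩, b⟩ ≫
        pF O B F := (ι_pF (O := O) (B := B) (F := F) ⟨⟨x.U k, x.hU k⟩, b⟩).symm
    have h1 : b ≫ Φ s hp (h0 s) = T s (isTypeA_freeOn (x.hU k)) b := by
      calc b ≫ Φ s hp (h0 s)
          = (Sigma.ι (fun i : I O B F => ModSite.freeOn O i.1.1) ⟨⟨x.U k, x.hU k⟩, b⟩ ≫
              pF O B F) ≫ Φ s hp (h0 s) := congrArg (fun t => t ≫ Φ s hp (h0 s)) hb
        _ = _ := by rw [Category.assoc, pF_Φ, ι_ΦP]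
    have h2 : (Sigma.ι (fun i => ModSite.freeOn O (x.U i)) k ≫ cokernel.π x.ψ) ≫
        T s x.isTypeA_pt x.a = T s (isTypeA_freeOn (x.hU k)) b :=
      T_comp s (isTypeA_freeOn (x.hU k)) x.isTypeA_pt b x.a _ (Category.assoc _ _ _)
    rw [T_obj] at h2
    calc Sigma.ι (fun i => ModSite.freeOn O (x.U i)) k ≫ cokernel.π x.ψ ≫ x.a ≫ Φ s hp (h0 s)
        = b ≫ Φ s hp (h0 s) := by simp only [b, Category.assoc]
      _ = T s (isTypeA_freeOn (x.hU k)) b := h1
      _ = (Sigma.ι (fun i => ModSite.freeOn O (x.U i)) k ≫ cokernel.π x.ψ) ≫ s.ι.app x := h2.symm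
      _ = _ := Category.assoc _ _ _
  · intro s m hm
    haveI := hp
    rw [← cancel_epi (pF O B F), pF_Φ]
    apply Sigma.hom_ext
    intro i
    rw [← Category.assoc, ι_pF, ι_ΦP]
    obtain ⟨x, θ, hθ⟩ := Obj.exists_obj (isTypeA_freeOn (O := O) i.1.2) i.2
    rw [T_eq s _ _ x θ hθ]
    have h1 : x.a ≫ m = s.ι.app x := hm x
    rw [← h1, ← hθ, Category.assoc, θ.inv_hom_id_assoc]

end Colimit

include hB₁ hB₂ in
/-- **every module is a filtered colimit of modules of type A** -/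
theorem exists_filtered_colimit (F : ModSite.Mod O) :
    ∃ (Λ : Type u) (_ : SmallCategory Λ) (_ : IsFiltered Λ) (D : Λ ⥤ ModSite.Mod O)
      (ι : D ⟶ (Functor.const Λ).obj F),
      (∀ l, IsTypeA O B (D.obj l)) ∧ Nonempty (IsColimit (Cocone.mk F ι)) :=
  ⟨Obj O B F, inferInstance, Obj.isFiltered hB₁ hB₂, Obj.D O B F, Obj.coconeι O B F,
    fun x => x.isTypeA_pt, nonempty_isColimit hB₁ hB₂⟩

end Groth.Agent.Lib.TypeAColim66
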