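import Mathlib.CategoryTheory.EffectiveEpi.Comp
import Mathlib.CategoryTheory.MorphismProperty.Limits
import Mathlib.CategoryTheory.Limits.Shapes.Pullback.HasPullback
import Mathlib.CategoryTheory.Comma.Over.Pullback

set_option autoImplicit false
set_option linter.dupNamespace false
open CategoryTheory CategoryTheory.Limits
universe v₁ u₁

namespace Groth.Agent.Lib.UEE

variable {C : Type u₁} [Category.{v₁} C]

/-- Universally effective epimorphisms. -/
abbrev UEE : MorphismProperty C :=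
  MorphismProperty.universally (fun (A B : C) (p : A ⟶ B) => EffectiveEpi p)

/-- Universal epimorphisms. -/
abbrev UEpi : MorphismProperty C :=
  MorphismProperty.universally (MorphismProperty.epimorphisms C)

theorem uee_le_uepi : (UEE : MorphismProperty C) ≤ UEpi :=
  MorphismProperty.universally_mono (fun _ _ f hf => by
    have : EffectiveEpi f := hf
    exact (MorphismProperty.epimorphisms.iff f).2 inferInstance)

theorem effectiveEpi_of_uee {X Y : C} {f : X ⟶ Y} (hf : UEE f) : EffectiveEpi f :=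
  MorphismProperty.universally_le _ _ hf

theorem epi_of_uepi {X Y : C} {f : X ⟶ Y} (hf : UEpi f) : Epi f :=
  (MorphismProperty.epimorphisms.iff f).1 (MorphismProperty.universally_le _ _ hf)

theorem epi_of_uee {X Y : C} {f : X ⟶ Y} (hf : UEE f) : Epi f :=
  epi_of_uepi (uee_le_uepi _ hf)

/-- Base change of a universal epimorphism (first projection form). -/
theorem epi_fst_of_uepi [HasPullbacks C] {X Y Z : C} (h : Z ⟶ Y) {f : X ⟶ Y} (hf : UEpi f) :
    Epi (pullback.fst h f) :=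
  (MorphismProperty.epimorphisms.iff _).1 (hf _ _ _ (IsPullback.of_hasPullback h f))

theorem epi_snd_of_uepi [HasPullbacks C] {X Y Z : C} (h : Z ⟶ Y) {f : X ⟶ Y} (hf : UEpi f) :
    Epi (pullback.snd f h) :=
  (MorphismProperty.epimorphisms.iff _).1 (hf _ _ _ (IsPullback.of_hasPullback f h).flip)

theorem uee_fst [HasPullbacks C] {X Y Z : C} (h : Z ⟶ Y) {f : X ⟶ Y} (hf : UEE f) :
    UEE (pullback.fst h f) :=
  MorphismProperty.of_isPullback (IsPullback.of_hasPullback h f).flip hf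

theorem uee_snd [HasPullbacks C] {X Y Z : C} (h : Z ⟶ Y) {f : X ⟶ Y} (hf : UEE f) :
    UEE (pullback.snd f h) :=
  MorphismProperty.of_isPullback (IsPullback.of_hasPullback f h) hf

/-- Given two maps `h₁ h₂ : Z ⟶ T` and a universal epimorphism `v : U ⟶ T`, there is an
epimorphism `π : Z' ⟶ Z` and lifts `k₁ k₂ : Z' ⟶ U` of `π ≫ h₁`, `π ≫ h₂`. -/
theorem exists_epi_lifts [HasPullbacks C] {U T Z : C} (v : U ⟶ T) (hv : UEpi v)
    (h₁ h₂ : Z ⟶ T) :
    ∃ (Z' : C) (π : Z' ⟶ Z) (k₁ k₂ : Z' ⟶ U), Epi π ∧ k₁ ≫ v = π ≫ h₁ ∧ k₂ ≫ v = π ≫ h₂ := by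
  have e1 : Epi (pullback.fst h₁ v) := epi_fst_of_uepi h₁ hv
  have e2 : Epi (pullback.fst (pullback.fst h₁ v ≫ h₂) v) := epi_fst_of_uepi _ hv
  refine ⟨_, pullback.fst (pullback.fst h₁ v ≫ h₂) v ≫ pullback.fst h₁ v,
    pullback.fst (pullback.fst h₁ v ≫ h₂) v ≫ pullback.snd h₁ v,
    pullback.snd (pullback.fst h₁ v ≫ h₂) v, epi_comp _ _, ?_, ?_⟩
  · rw [Category.assoc, Category.assoc, pullback.condition]
  · rw [← pullback.condition, Category.assoc]

/-- `S5204`: composite of effective epis, the first being a universal epi. -/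
theorem effectiveEpi_comp [HasPullbacks C] {U T S : C} (v : U ⟶ T) (u : T ⟶ S)
    [EffectiveEpi u] [EffectiveEpi v] (hv : UEpi v) : EffectiveEpi (v ≫ u) := by
  have h1 : ∀ {W : C} (e : U ⟶ W),
      (∀ {Z : C} (g₁ g₂ : Z ⟶ U), g₁ ≫ v ≫ u = g₂ ≫ v ≫ u → g₁ ≫ e = g₂ ≫ e) →
      ∀ {Z : C} (g₁ g₂ : Z ⟶ U), g₁ ≫ v = g₂ ≫ v → g₁ ≫ e = g₂ ≫ e := by
    intro W e h Z g₁ g₂ hg
    exact h g₁ g₂ (by rw [← Category.assoc, hg, Category.assoc])
  have h2 : ∀ {W : C} (e : U ⟶ W)
      (h : ∀ {Z : C} (g₁ g₂ : Z ⟶ U), g₁ ≫ v ≫ u = g₂ ≫ v ≫ u → g₁ ≫ e = g₂ ≫ e),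
      ∀ {Z : C} (a₁ a₂ : Z ⟶ T), a₁ ≫ u = a₂ ≫ u →
        a₁ ≫ EffectiveEpi.desc v e (h1 e h) = a₂ ≫ EffectiveEpi.desc v e (h1 e h) := by
    intro W e h Z a₁ a₂ ha
    obtain ⟨Z', π, k₁, k₂, hπ, hk₁, hk₂⟩ := exists_epi_lifts v hv a₁ a₂
    rw [← cancel_epi π, ← Category.assoc, ← Category.assoc, ← hk₁, ← hk₂, Category.assoc,
      Category.assoc, EffectiveEpi.fac]
    apply h
    rw [← Category.assoc, ← Category.assoc, hk₁, hk₂, Category.assoc, Category.assoc, ha]
  refine ⟨⟨{ desc := fun e h =>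
               EffectiveEpi.desc u (EffectiveEpi.desc v e (h1 e @h)) (h2 e @h)
             fac := ?_
             uniq := ?_ }⟩⟩
  · intro W e h
    rw [Category.assoc, EffectiveEpi.fac, EffectiveEpi.fac]
  · intro W e h m hm
    apply EffectiveEpi.uniq
    apply EffectiveEpi.uniq
    rw [← Category.assoc, hm]

/-- `S5205`: universally effective epimorphisms are stable under composition. -/
theorem uee_comp [HasPullbacks C] {U T S : C} (v : U ⟶ T) (u : T ⟶ S) (hu : UEE u)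
    (hv : UEE v) : UEE (v ≫ u) := by
  intro X' Y' i₁ i₂ f' H
  have hw := pullback.lift_fst f' (i₁ ≫ v) (H.w.trans (Category.assoc _ _ _).symm)
  have H' : IsPullback (pullback.lift f' (i₁ ≫ v) (H.w.trans (Category.assoc _ _ _).symm)) i₁
      (pullback.snd i₂ u) v := by
    rw [← hw] at H
    exact H.of_right (pullback.lift_snd _ _ _) (IsPullback.of_hasPullback i₂ u)
  have hA : UEE (pullback.fst i₂ u) := uee_fst i₂ hu
  have hB : UEE (pullback.lift f' (i₁ ≫ v) (H.w.trans (Category.assoc _ _ _).symm)) :=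
    MorphismProperty.of_isPullback H'.flip hv
  have : EffectiveEpi (pullback.fst i₂ u) := effectiveEpi_of_uee hA
  have : EffectiveEpi (pullback.lift f' (i₁ ≫ v) (H.w.trans (Category.assoc _ _ _).symm)) :=
    effectiveEpi_of_uee hB
  rw [← hw]
  exact effectiveEpi_comp _ _ (uee_le_uepi _ hB)

/-- If `v ≫ u` is an effective epi whose base change along `u` is an epi, then `u` is an effective
epi. -/
theorem effectiveEpi_of_comp [HasPullbacks C] {U T S : C} (v : U ⟶ T) (u : T ⟶ S)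
    [EffectiveEpi (v ≫ u)] (hq : Epi (pullback.snd (v ≫ u) u)) : EffectiveEpi u := by
  have h1 : ∀ {W : C} (e : T ⟶ W),
      (∀ {Z : C} (g₁ g₂ : Z ⟶ T), g₁ ≫ u = g₂ ≫ u → g₁ ≫ e = g₂ ≫ e) →
      ∀ {Z : C} (g₁ g₂ : Z ⟶ U), g₁ ≫ v ≫ u = g₂ ≫ v ≫ u → g₁ ≫ v ≫ e = g₂ ≫ v ≫ e := by
    intro W e h Z g₁ g₂ hg
    have := h (g₁ ≫ v) (g₂ ≫ v) (by simpa using hg)
    simpa using this
  refine ⟨⟨{ desc := fun e h => EffectiveEpi.desc (v ≫ u) (v ≫ e) (h1 e @h)
             fac := ?_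
             uniq := ?_ }⟩⟩
  · intro W e h
    rw [← cancel_epi (pullback.snd (v ≫ u) u)]
    have hc : pullback.fst (v ≫ u) u ≫ v ≫ u = pullback.snd (v ≫ u) u ≫ u := pullback.condition
    rw [← Category.assoc, ← hc, Category.assoc, Category.assoc]
    have hf := EffectiveEpi.fac (v ≫ u) (v ≫ e) (h1 e @h)
    rw [Category.assoc] at hf
    rw [hf, ← Category.assoc]
    exact h _ _ (by rw [Category.assoc]; exact hc)
  · intro W e h m hm
    apply EffectiveEpi.uniq
    rw [Category.assoc, hm]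

/-- `S5206`: if `v ≫ u` is a universally effective epi then so is `u`. -/
theorem uee_of_comp [HasPullbacks C] {U T S : C} (v : U ⟶ T) (u : T ⟶ S) (h : UEE (v ≫ u)) :
    UEE u := by
  intro X' Y' i₁ i₂ f' H
  have H2 : IsPullback (pullback.fst i₁ v) (pullback.snd i₁ v) i₁ v := IsPullback.of_hasPullback i₁ v
  have H3 : IsPullback (pullback.fst i₁ v ≫ f') (pullback.snd i₁ v) i₂ (v ≫ u) := H2.paste_horiz H
  have hwf : UEE (pullback.fst i₁ v ≫ f') := MorphismProperty.of_isPullback H3.flip h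
  have : EffectiveEpi (pullback.fst i₁ v ≫ f') := effectiveEpi_of_uee hwf
  exact effectiveEpi_of_comp (pullback.fst i₁ v) f' (epi_snd_of_uepi f' (uee_le_uepi _ hwf))

/-- `S5207`: being a universally effective epi can be checked after base change along a
universally effective epi. -/
theorem uee_iff_baseChange [HasPullbacks C] {S' S T : C} (g : S' ⟶ S) (hg : UEE g) (u : T ⟶ S) :
    UEE u ↔ UEE (pullback.snd u g) := by
  refine ⟨fun hu => uee_snd g hu, fun h => ?_⟩
  have h1 : UEE (pullback.snd u g ≫ g) := uee_comp _ _ hg h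
  rw [← pullback.condition] at h1
  exact uee_of_comp _ _ h1

end Groth.Agent.Lib.UEE
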