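import Mathlib

/-!
The divisor class group of `Spec A` vanishes for a Noetherian unique factorization domain `A`
(with Mathlib's `Scheme.ord`): abstract computation of `Ring.ordFrac` of a generator of a
height-one prime in the localization, and assembly on `Spec R`.
-/

set_option autoImplicit false

open CategoryTheory CategoryTheory.Limits AlgebraicGeometry TopologicalSpace WithZero

universe u

namespace Groth.Agent.Lib.UFDCl

section local_

variable {S : Type*} [CommRing S] [IsDomain S] [IsNoetherianRing S] [Ring.KrullDimLE 1 S]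
  [IsLocalRing S] {K : Type*} [Field K] [Algebra S K] [IsFractionRing S K]

theorem ord_eq_one_of_span_eq_maximalIdeal {ϖ : S}
    (h : Ideal.span {ϖ} = IsLocalRing.maximalIdeal S) : Ring.ord S ϖ = 1 := by
  rw [Ring.ord, Module.length_eq_one_iff]
  have : (Ideal.span {ϖ}).IsMaximal := h ▸ IsLocalRing.maximalIdeal.isMaximal S
  rw [isSimpleModule_iff_isSimpleModule_of_algebraMap_surjective (S := S ⧸ Ideal.span {ϖ})
    Ideal.Quotient.mk_surjective]
  let := Ideal.Quotient.field (Ideal.span {ϖ})
  exact instIsSimpleModule _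

theorem ordFrac_of_span_eq_maximalIdeal {ϖ : S} (hϖ : ϖ ≠ 0)
    (h : Ideal.span {ϖ} = IsLocalRing.maximalIdeal S) :
    Ring.ordFrac S (algebraMap S K ϖ) =
      ((Multiplicative.ofAdd (1 : ℤ) : Multiplicative ℤ) : ℤᵐ⁰) := by
  rw [Ring.ordFrac_eq_ord S hϖ]
  exact Ring.ordMonoidWithZeroHom_eq_coe S (mem_nonZeroDivisors_of_ne_zero hϖ) (n := 1)
    (by rw [ord_eq_one_of_span_eq_maximalIdeal h]; rfl)

end local_

section loc

variable {A : Type*} [CommRing A] [IsDomain A] (P : Ideal A) [P.IsPrime]
  {S : Type*} [CommRing S] [IsDomain S] [IsNoetherianRing S] [Ring.KrullDimLE 1 S]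
  [Algebra A S] [IsLocalization.AtPrime S P]
  {K : Type*} [Field K] [Algebra S K] [IsFractionRing S K] [Algebra A K] [IsScalarTower A S K]

theorem ordFrac_of_notMem {a : A} (ha : a ∉ P) :
    Ring.ordFrac S (algebraMap A K a) = 1 := by
  rw [IsScalarTower.algebraMap_apply A S K]
  exact Ring.ordFrac_of_isUnit (IsLocalization.map_units S (⟨a, ha⟩ : P.primeCompl))

theorem ordFrac_of_span_eq {π : A} (hπ : π ≠ 0) (hP : P = Ideal.span {π}) :
    Ring.ordFrac S (algebraMap A K π) =
      ((Multiplicative.ofAdd (1 : ℤ) : Multiplicative ℤ) : ℤᵐ⁰) := by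
  haveI : IsLocalRing S := IsLocalization.AtPrime.isLocalRing S P
  rw [IsScalarTower.algebraMap_apply A S K]
  have hinj : Function.Injective (algebraMap A S) :=
    IsLocalization.injective S (P.primeCompl_le_nonZeroDivisors)
  apply ordFrac_of_span_eq_maximalIdeal
  · exact fun h => hπ (hinj (by rw [h, map_zero]))
  · rw [← IsLocalization.AtPrime.map_eq_maximalIdeal P S, hP, Ideal.map_span, Set.image_singleton]

end loc

section spec

variable (R : CommRingCat.{u}) [IsDomain R] [IsNoetherianRing R]

theorem tower (x : Spec R) :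
    letI : Algebra R ((Spec R).presheaf.stalk x) := StructureSheaf.stalkAlgebra R x
    IsScalarTower R ((Spec R).presheaf.stalk x) (Spec R).functionField := by
  letI : Algebra R ((Spec R).presheaf.stalk x) := StructureSheaf.stalkAlgebra R x
  apply IsScalarTower.of_algebraMap_eq'
  simp_rw [RingHom.algebraMap_toAlgebra]
  have := StructureSheaf.toStalk_stalkSpecializes (R := R)
    ((genericPoint_spec (Spec R)).specializes (Set.mem_univ x))
  exact (congrArg CommRingCat.Hom.hom this).symm

theorem ordHom_of_notMem (x : Spec R) (hx : Order.coheight x = 1) {a : R}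
    (ha : a ∉ x.asIdeal) :
    (Spec R).ordHom x hx (algebraMap R (Spec R).functionField a) = 1 := by
  letI : Algebra R ((Spec R).presheaf.stalk x) := StructureSheaf.stalkAlgebra R x
  haveI : IsLocalization.AtPrime ((Spec R).presheaf.stalk x) x.asIdeal :=
    StructureSheaf.IsLocalization.to_stalk R x
  haveI := tower R x
  haveI : Ring.KrullDimLE 1 ((Spec R).presheaf.stalk x) := krullDimLE_of_coheight_le hx.le
  exact ordFrac_of_notMem x.asIdeal ha

theorem ordHom_of_span_eq (x : Spec R) (hx : Order.coheight x = 1) {π : R} (hπ : π ≠ 0)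
    (hP : x.asIdeal = Ideal.span {π}) :
    (Spec R).ordHom x hx (algebraMap R (Spec R).functionField π) =
      ((Multiplicative.ofAdd (1 : ℤ) : Multiplicative ℤ) : ℤᵐ⁰) := by
  letI : Algebra R ((Spec R).presheaf.stalk x) := StructureSheaf.stalkAlgebra R x
  haveI : IsLocalization.AtPrime ((Spec R).presheaf.stalk x) x.asIdeal :=
    StructureSheaf.IsLocalization.to_stalk R x
  haveI := tower R x
  haveI : Ring.KrullDimLE 1 ((Spec R).presheaf.stalk x) := krullDimLE_of_coheight_le hx.le
  exact ordFrac_of_span_eq x.asIdeal hπ hP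

theorem exists_principal [UniqueFactorizationMonoid R] (D : ↥(Spec R) → ℤ)
    (hD : ∀ x, Order.coheight x ≠ 1 → D x = 0) (hfin : {x | D x ≠ 0}.Finite) :
    ∃ f : ↑(Spec R).functionField, f ≠ 0 ∧
      ∀ x : ↥(Spec R), Order.coheight x = 1 → Scheme.ord f x = D x := by
  classical
  have key : ∀ x : Spec R, ∃ π : R, π ≠ 0 ∧ (Order.coheight x = 1 → x.asIdeal = Ideal.span {π}) := by
    intro x
    by_cases hx : Order.coheight x = 1
    · have hh : x.asIdeal.height = 1 := by rw [idealHeight_eq_coheight R x, hx]
      obtain ⟨π, hπ⟩ := (UniqueFactorizationMonoid.isPrincipal_of_height_eq_one hh).principal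
      refine ⟨π, ?_, fun _ => hπ⟩
      rintro rfl
      apply Ideal.ne_bot_of_height_eq_one hh
      rw [hπ]
      simp
    · exact ⟨1, one_ne_zero, fun h => absurd h hx⟩
  choose π hπ0 hπ using key
  set K := (Spec R).functionField
  have hinj : Function.Injective (algebraMap R K) := IsFractionRing.injective R K
  have hne : ∀ x, algebraMap R K (π x) ≠ 0 := fun x h =>
    hπ0 x (hinj (by rw [h, map_zero]))
  refine ⟨∏ x ∈ hfin.toFinset, (algebraMap R K (π x)) ^ (D x), ?_, ?_⟩
  · rw [Finset.prod_ne_zero_iff]
    exact fun x _ => zpow_ne_zero _ (hne x)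
  · intro y hy
    have hf : ∏ x ∈ hfin.toFinset, (algebraMap R K (π x)) ^ (D x) ≠ 0 := by
      rw [Finset.prod_ne_zero_iff]
      exact fun x _ => zpow_ne_zero _ (hne x)
    rw [Scheme.ord_eq_iff hy hf, map_prod]
    simp_rw [map_zpow₀]
    rw [Finset.prod_eq_single y]
    · rw [ordHom_of_span_eq R y hy (hπ0 y) (hπ y hy), ← WithZero.coe_zpow, ← ofAdd_zsmul,
        smul_eq_mul, mul_one]
    · intro x hx hxy
      have hDx : D x ≠ 0 := by simpa using hx
      have hcx : Order.coheight x = 1 := by
        by_contra h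
        exact hDx (hD x h)
      have hnot : π x ∉ y.asIdeal := by
        intro hmem
        have hle : x.asIdeal ≤ y.asIdeal := by
          rw [hπ x hcx, Ideal.span_singleton_le_iff_mem]
          exact hmem
        have hhx : x.asIdeal.height = 1 := by rw [idealHeight_eq_coheight R x, hcx]
        have hhy : y.asIdeal.height = 1 := by rw [idealHeight_eq_coheight R y, hy]
        rcases hle.eq_or_lt with heq | hlt
        · exact hxy (PrimeSpectrum.ext heq)
        · haveI : y.asIdeal.FiniteHeight := by simp [Ideal.finiteHeight_iff, hhy]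
          have := Ideal.height_strict_mono_of_isPrime_of_isPrime hlt
          rw [hhx, hhy] at this
          exact lt_irrefl _ this
      rw [ordHom_of_notMem R y hy hnot, one_zpow]
    · intro hy'
      have : D y = 0 := by simpa using hy'
      rw [this, zpow_zero]

end spec

end Groth.Agent.Lib.UFDCl
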