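import Groth.Agent.Lib.UHTowerH52
import Mathlib.FieldTheory.IsAlgClosed.AlgebraicClosure

/-!
Ring-level universal homeomorphisms for algebras generated by elements satisfying a step
condition over the base, without assuming injectivity: surjectivity on spectra is obtained by
lifting points with values in algebraically closed fields.  Also quotients of `A[X]`.
-/

set_option autoImplicit false
universe u

namespace Groth.Agent.Lib.UHGenH52

open Groth.Agent.Lib.UHRingH52 Groth.Agent.Lib.UHTowerH52 Polynomial

section General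

variable {A B : Type u} [CommRing A] [CommRing B]

theorem comap_surjective_of_forall_lift (φ : A →+* B)
    (h : ∀ (L : Type u) [Field L] [IsAlgClosed L] (f : A →+* L), ∃ g : B →+* L, g.comp φ = f) :
    Function.Surjective (PrimeSpectrum.comap φ) := by
  intro P
  let f : A →+* AlgebraicClosure P.asIdeal.ResidueField :=
    (algebraMap P.asIdeal.ResidueField (AlgebraicClosure P.asIdeal.ResidueField)).comp
      (algebraMap A P.asIdeal.ResidueField)
  obtain ⟨g, hg⟩ := h _ f
  refine ⟨⟨RingHom.ker g, RingHom.ker_isPrime g⟩, ?_⟩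
  apply PrimeSpectrum.ext
  change (RingHom.ker g).comap φ = P.asIdeal
  rw [RingHom.comap_ker, hg]
  ext a
  rw [RingHom.mem_ker, RingHom.comp_apply, map_eq_zero, Ideal.algebraMap_residueField_eq_zero]

variable [Algebra A B]

theorem isIntegral_of_exhausts (h : Exhausts A B StepAny) : (algebraMap A B).IsIntegral := by
  intro b
  have : b ∈ integralClosure A B := by
    rw [h _ (fun b hb => mem_integralClosure_of_stepAny hb)]
    exact Algebra.mem_top
  exact this

theorem uniq_of_exhausts (h : Exhausts A B StepAny) (K : Type u) [Field K] (g₁ g₂ : B →+* K)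
    (hg : g₁.comp (algebraMap A B) = g₂.comp (algebraMap A B)) : g₁ = g₂ := by
  let _ : Algebra A K := (g₁.comp (algebraMap A B)).toAlgebra
  let G₁ : B →ₐ[A] K := { g₁ with commutes' := fun a => rfl }
  let G₂ : B →ₐ[A] K :=
    { g₂ with commutes' := fun a => (congrArg (fun f : A →+* K => f a) hg).symm }
  have htop := h _ (fun b hb => mem_equalizer_of_stepAny G₁ G₂ hb)
  ext b
  have : b ∈ AlgHom.equalizer G₁ G₂ := by rw [htop]; exact Algebra.mem_top
  exact this

theorem isUH_of_exhausts_of_lift (h : Exhausts A B StepAny)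
    (hl : ∀ (L : Type u) [Field L] [IsAlgClosed L] (f : A →+* L),
      ∃ g : B →+* L, g.comp (algebraMap A B) = f) : IsUH (algebraMap A B) :=
  ⟨isIntegral_of_exhausts h, comap_surjective_of_forall_lift _ hl, uniq_of_exhausts h⟩

end General

section Quotient

variable {A : Type u} [CommRing A] (S : Set A[X])

theorem adjoin_mk_X_eq_top (I : Ideal A[X]) :
    Algebra.adjoin A {(Ideal.Quotient.mk I X : A[X] ⧸ I)} = ⊤ := by
  rw [eq_top_iff]
  intro b _
  obtain ⟨f, rfl⟩ := Ideal.Quotient.mk_surjective b
  have h1 : aeval (Ideal.Quotient.mkₐ A I X) f = Ideal.Quotient.mkₐ A I (aeval X f) :=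
    aeval_algHom_apply _ _ _
  rw [aeval_X_left_apply] at h1
  have h2 : (Ideal.Quotient.mk I f : A[X] ⧸ I) = aeval (Ideal.Quotient.mk I X : A[X] ⧸ I) f :=
    h1.symm
  rw [h2]
  exact aeval_mem_adjoin_singleton _ _

theorem exists_lift {L : Type u} [Field L] (f : A →+* L) (τ : L)
    (h : ∀ s ∈ S, eval₂ f τ s = 0) :
    ∃ g : (A[X] ⧸ Ideal.span S) →+* L,
      g.comp (algebraMap A (A[X] ⧸ Ideal.span S)) = f ∧ g (Ideal.Quotient.mk (Ideal.span S) X) = τ := by
  have hle : Ideal.span S ≤ RingHom.ker (eval₂RingHom f τ) := by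
    rw [Ideal.span_le]
    intro s hs
    exact h s hs
  refine ⟨Ideal.Quotient.lift _ (eval₂RingHom f τ) (fun a ha => hle ha), ?_, ?_⟩
  · ext a
    change Ideal.Quotient.lift (Ideal.span S) (eval₂RingHom f τ) (fun a ha => hle ha)
      (Ideal.Quotient.mk (Ideal.span S) (C a)) = f a
    rw [Ideal.Quotient.lift_mk]
    exact eval₂_C f τ
  · rw [Ideal.Quotient.lift_mk]
    exact eval₂_X f τ

end Quotient

end Groth.Agent.Lib.UHGenH52
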