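import Groth.Agent.Lib.UHAwnH52
import Groth.Agent.Lib.Seminormal
import Groth.Agent.S7402
import Groth.Agent.S7403

/-!
The target of an absolute weak normalization is an absolutely weakly normal ring, and a
universal homeomorphism out of `A` has absolutely weakly normal target iff it is the absolute
weak normalization (Stacks 0EUR/0EUS, ring level).
-/

set_option autoImplicit false
universe u

open CategoryTheory AlgebraicGeometry Polynomial

namespace Groth.Agent.Lib.UHAwnCharH52

open Groth.Agent.Lib.UHRingH52 Groth.Agent.Lib.UHFactorH52 Groth.Agent.Lib.UHConductorH52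
  Groth.Agent.Lib.UHRelH52 Groth.Agent.Lib.Seminormal

section Basic

variable {A B C : Type u} [CommRing A] [CommRing B] [CommRing C]

theorem IsUH.comp {χ : A →+* B} {ψ : B →+* C} (hχ : IsUH χ) (hψ : IsUH ψ) : IsUH (ψ.comp χ) := by
  refine ⟨RingHom.IsIntegral.trans χ ψ hχ.1 hψ.1, ?_, ?_⟩
  · intro P
    obtain ⟨Q, rfl⟩ := hχ.2.1 P
    obtain ⟨Q', rfl⟩ := hψ.2.1 Q
    exact ⟨Q', rfl⟩
  · intro K _ g₁ g₂ hg
    apply hψ.eq_of_comp_eq
    apply hχ.eq_of_comp_eq
    rw [RingHom.comp_assoc, RingHom.comp_assoc, hg]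

theorem isUH_of_surjective {χ : A →+* B} (hs : Function.Surjective χ)
    (hker : RingHom.ker χ ≤ nilradical A) : IsUH χ := by
  let _ : Algebra A B := χ.toAlgebra
  have hint : χ.IsIntegral := χ.isIntegral_of_surjective hs
  refine ⟨hint, comap_surjective_of_isIntegral_of_ker_le (A := A) (B := B) hint hker, ?_⟩
  intro K _ g₁ g₂ hg
  ext b
  obtain ⟨a, rfl⟩ := hs b
  exact congrArg (fun f : A →+* K => f a) hg

end Basic

section AWN

variable {A W : Type u} [CommRing A] [CommRing W] (φ : A →+* W) (hφ : HTop.IsRingAWN φ)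

include hφ

/-- A retraction principle: any universal homeomorphism `j : W → W'` out of the absolute weak
normalization has a retraction. -/
theorem exists_retraction {W' : Type u} [CommRing W'] (j : W →+* W') (hj : IsUH j) :
    ∃ r : W' →+* W, r.comp j = RingHom.id W := by
  have hφU : IsUH φ := (isUnivHomeo_iff φ).mp hφ.1
  obtain ⟨r, hr, -⟩ := hφ.2 W' (j.comp φ) ((isUnivHomeo_iff _).mpr (IsUH.comp hφU hj))
  refine ⟨r, ?_⟩
  obtain ⟨i, -, hi⟩ := hφ.2 W φ hφ.1
  have h1 : r.comp j = i := hi _ (by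
    change (r.comp j).comp φ = φ
    rw [RingHom.comp_assoc]; exact hr)
  have h2 : RingHom.id W = i := hi _ (RingHom.id_comp φ)
  rw [h1, h2]

theorem isReduced_of_isRingAWN : IsReduced W := by
  obtain ⟨r, hr⟩ := exists_retraction φ hφ (Ideal.Quotient.mk (nilradical W))
    (isUH_of_surjective Ideal.Quotient.mk_surjective (by rw [Ideal.mk_ker]))
  constructor
  intro x hx
  have h1 : Ideal.Quotient.mk (nilradical W) x = 0 :=
    Ideal.Quotient.eq_zero_iff_mem.mpr ((mem_nilradical).mpr hx)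
  have h2 := congrArg (fun f : W →+* W => f x) hr
  simp only [RingHom.comp_apply, RingHom.id_apply] at h2
  rw [← h2, h1, map_zero]

theorem isAWNRing_of_isRingAWN : HTop.IsAWNRing W := by
  have hred : IsReduced W := isReduced_of_isRingAWN φ hφ
  refine ⟨isSeminormalRing_of_exists ?_, ?_⟩
  · intro x y hxy
    have hj := (Groth.Agent.S7402.result W x y hxy).1
    rw [isUnivHomeo_iff] at hj
    set I := Ideal.span ({X ^ 2 - C x, X ^ 3 - C y} : Set W[X]) with hI
    obtain ⟨r, hr⟩ := exists_retraction φ hφ _ hj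
    have hr' : ∀ w : W, r (algebraMap W (W[X] ⧸ I) w) = w := fun w =>
      congrArg (fun f : W →+* W => f w) hr
    have ht2 : (Ideal.Quotient.mk I X) ^ 2 = algebraMap W (W[X] ⧸ I) x := by
      rw [← map_pow, ← sub_eq_zero]
      change Ideal.Quotient.mk I (X ^ 2) - Ideal.Quotient.mk I (C x) = 0
      rw [← map_sub, Ideal.Quotient.eq_zero_iff_mem]
      exact Ideal.subset_span (by simp)
    have ht3 : (Ideal.Quotient.mk I X) ^ 3 = algebraMap W (W[X] ⧸ I) y := by
      rw [← map_pow, ← sub_eq_zero]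
      change Ideal.Quotient.mk I (X ^ 3) - Ideal.Quotient.mk I (C y) = 0
      rw [← map_sub, Ideal.Quotient.eq_zero_iff_mem]
      exact Ideal.subset_span (by simp)
    refine ⟨r (Ideal.Quotient.mk I X), ?_, ?_⟩
    · rw [← map_pow, ht2, hr']
    · rw [← map_pow, ht3, hr']
  · intro p hp x y hxy
    apply existsUnique_of_exists_prime hp
    have hj := Groth.Agent.S7403.result W p hp x y hxy
    rw [isUnivHomeo_iff] at hj
    set I := Ideal.span ({X ^ p - C x, C (p : W) * X - C y} : Set W[X]) with hI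
    obtain ⟨r, hr⟩ := exists_retraction φ hφ _ hj
    have hr' : ∀ w : W, r (algebraMap W (W[X] ⧸ I) w) = w := fun w =>
      congrArg (fun f : W →+* W => f w) hr
    have ht1 : (p : W[X] ⧸ I) * (Ideal.Quotient.mk I X) = algebraMap W (W[X] ⧸ I) y := by
      have hpc : (p : W[X] ⧸ I) = Ideal.Quotient.mk I (C (p : W)) := by
        rw [map_natCast C, map_natCast]
      rw [hpc, ← map_mul, ← sub_eq_zero]
      change Ideal.Quotient.mk I (C (p : W) * X) - Ideal.Quotient.mk I (C y) = 0
      rw [← map_sub, Ideal.Quotient.eq_zero_iff_mem]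
      exact Ideal.subset_span (by simp)
    have ht2 : (Ideal.Quotient.mk I X) ^ p = algebraMap W (W[X] ⧸ I) x := by
      rw [← map_pow, ← sub_eq_zero]
      change Ideal.Quotient.mk I (X ^ p) - Ideal.Quotient.mk I (C x) = 0
      rw [← map_sub, Ideal.Quotient.eq_zero_iff_mem]
      exact Ideal.subset_span (by simp)
    refine ⟨r (Ideal.Quotient.mk I X), ?_, ?_⟩
    · rw [← map_pow, ht2, hr']
    · have := congrArg r ht1
      rw [map_mul, map_natCast, hr'] at this
      exact this.symm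

end AWN

section Char

variable {A B W : Type u} [CommRing A] [CommRing B] [CommRing W]
  (φ : A →+* W) (hφ : HTop.IsRingAWN φ) (ψ : A →+* B) (hψ : IsUH ψ) (χ : B →+* W)
  (hχ : χ.comp ψ = φ)

include hφ hψ hχ

theorem bijective_of_isAWNRing (hB : HTop.IsAWNRing B) : Function.Bijective χ := by
  have hredW : IsReduced W := isReduced_of_isRingAWN φ hφ
  have hredB : IsReduced B := isReduced_of_isSeminormalRing hB.1
  have hφU : IsUH φ := (isUnivHomeo_iff φ).mp hφ.1
  -- `χ` is injective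
  have hinj : Function.Injective χ := by
    rw [injective_iff_map_eq_zero]
    intro b hb
    have hnil : b ∈ nilradical B := by
      rw [nilradical_eq_sInf, Ideal.mem_sInf]
      intro Q hQ
      obtain ⟨Q₀, rfl⟩ : ∃ Q₀ : PrimeSpectrum B, Q₀.asIdeal = Q := ⟨⟨Q, hQ⟩, rfl⟩
      obtain ⟨Q', hQ'⟩ := hφU.comap_bijective.2 (PrimeSpectrum.comap ψ Q₀)
      have h1 : PrimeSpectrum.comap ψ (PrimeSpectrum.comap χ Q') = PrimeSpectrum.comap ψ Q₀ := by
        rw [← hQ', ← hχ]
        rfl
      have h2 : PrimeSpectrum.comap χ Q' = Q₀ := hψ.comap_bijective.1 h1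
      rw [← h2]
      change χ b ∈ Q'.asIdeal
      rw [hb]
      exact Q'.asIdeal.zero_mem
    exact (mem_nilradical.mp hnil).eq_zero
  have hχU : IsUH χ := IsUH.right ψ χ hinj (hχ ▸ hφU)
  refine ⟨hinj, ?_⟩
  by_contra hns
  rcases exists_step χ hχU hns with ⟨w, hw, ⟨x, hx⟩, ⟨y, hy⟩⟩ | ⟨p, w, hp, hw, ⟨y, hy⟩, ⟨x, hx⟩⟩
  · have hxy : x ^ 3 = y ^ 2 := by
      apply hinj
      rw [map_pow, map_pow, hx, hy]
      ring
    obtain ⟨a, ⟨ha2, ha3⟩, -⟩ := hB.1 x y hxy
    apply hw
    refine ⟨a, eq_of_sq_cube ?_ ?_⟩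
    · rw [← map_pow, ← ha2, hx]
    · rw [← map_pow, ← ha3, hy]
  · have hxy : (p : B) ^ p * x = y ^ p := by
      apply hinj
      rw [map_mul, map_pow, map_pow, map_natCast, hx, hy]
      ring
    obtain ⟨a, ⟨ha1, ha2⟩, -⟩ := hB.2 p hp x y hxy
    apply hw
    refine ⟨a, eq_of_pow_prime hp ?_ ?_⟩
    · rw [← map_pow, ← ha1, hx]
    · rw [← hy, ha2, map_mul, map_natCast]

omit hψ hχ in
theorem isAWNRing_of_bijective (h : Function.Bijective χ) : HTop.IsAWNRing B :=
  isAWNRing_of_ringEquiv (RingEquiv.ofBijective χ h).symm (isAWNRing_of_isRingAWN φ hφ)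

end Char

end Groth.Agent.Lib.UHAwnCharH52
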