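import Groth.Agent.Lib.UHAwnCharH52
import Mathlib.FieldTheory.IsPerfectClosure

/-!
Universal homeomorphisms between rings of characteristic `p` are exactly the `p`-radical ring
maps (`IsPRadical`), and consequences for perfect closures (Stacks 0CNF in characteristic `p`).
-/

set_option autoImplicit false
universe u

namespace Groth.Agent.Lib.UHCharPH52

open Groth.Agent.Lib.UHRingH52 Groth.Agent.Lib.UHFactorH52 Groth.Agent.Lib.UHConductorH52
  Groth.Agent.Lib.UHRelH52

section Field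

variable {K : Type*} [Field K]

theorem eq_of_pow_p_pow_eq {p : ℕ} (hp : p.Prime) (hp0 : (p : K) = 0) {u v : K} (n : ℕ)
    (h : u ^ p ^ n = v ^ p ^ n) : u = v := by
  induction n generalizing u v with
  | zero => simpa using h
  | succ n ih =>
    apply ih
    apply Groth.Agent.Lib.UHTowerH52.eq_of_prime hp
    · rw [hp0, zero_mul, zero_mul]
    · rw [← pow_mul, ← pow_mul, ← pow_succ]
      exact h

end Field

variable {A B : Type u} [CommRing A] [CommRing B] (p : ℕ) [hp : Fact p.Prime] [CharP A p]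
  [CharP B p] (φ : A →+* B)

theorem ker_le_nilradical_of_isUH (h : IsUH φ) : RingHom.ker φ ≤ nilradical A := by
  intro a ha
  rw [nilradical_eq_sInf, Ideal.mem_sInf]
  intro P hP
  obtain ⟨P₀, rfl⟩ : ∃ P₀ : PrimeSpectrum A, P₀.asIdeal = P := ⟨⟨P, hP⟩, rfl⟩
  obtain ⟨Q, rfl⟩ := h.2.1 P₀
  change φ a ∈ Q.asIdeal
  rw [RingHom.mem_ker.mp ha]
  exact zero_mem _

include hp in
omit [CharP A p] in
theorem isUH_of_isPRadical (h : IsPRadical φ p) : IsUH φ := by
  have hker : RingHom.ker φ ≤ nilradical A := by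
    have := h.ker_le'
    rwa [pNilradical_prime hp.out] at this
  have hint : φ.IsIntegral := by
    intro b
    obtain ⟨n, a, ha⟩ := h.pow_mem' b
    refine ⟨Polynomial.X ^ p ^ n - Polynomial.C a, ?_, ?_⟩
    · exact Polynomial.monic_X_pow_sub_C a (pow_ne_zero n hp.out.ne_zero)
    · rw [Polynomial.eval₂_sub, Polynomial.eval₂_pow, Polynomial.eval₂_X, Polynomial.eval₂_C, ha,
        sub_self]
  let _ : Algebra A B := φ.toAlgebra
  refine ⟨hint, comap_surjective_of_isIntegral_of_ker_le (A := A) (B := B) hint hker, ?_⟩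
  intro K _ g₁ g₂ hg
  ext b
  obtain ⟨n, a, ha⟩ := h.pow_mem' b
  have hp0 : (p : K) = 0 := by
    have : g₁ ((p : B)) = 0 := by rw [CharP.cast_eq_zero B p, map_zero]
    rwa [map_natCast] at this
  apply eq_of_pow_p_pow_eq hp.out hp0 n
  rw [← map_pow, ← map_pow, ← ha]
  exact congrArg (fun f : A →+* K => f a) hg

theorem isPRadical_of_isUH (h : IsUH φ) : IsPRadical φ p := by
  refine ⟨?_, by rw [pNilradical_prime hp.out]; exact ker_le_nilradical_of_isUH φ h⟩
  -- the set of elements with a `p`-power power in the image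
  let T : Set B := {b | ∃ (n : ℕ) (a : A), φ a = b ^ p ^ n}
  have hshift : ∀ (b : B) (n : ℕ) (a : A), φ a = b ^ p ^ n → ∀ m, φ (a ^ p ^ m) = b ^ p ^ (n + m) := by
    intro b n a ha m
    rw [map_pow, ha, ← pow_mul, ← pow_add]
  have hmul : ∀ x y : B, x ∈ T → y ∈ T → x * y ∈ T := by
    rintro x y ⟨n₁, a₁, h₁⟩ ⟨n₂, a₂, h₂⟩
    refine ⟨n₁ + n₂, a₁ ^ p ^ n₂ * a₂ ^ p ^ n₁, ?_⟩
    rw [map_mul, hshift x n₁ a₁ h₁ n₂, hshift y n₂ a₂ h₂ n₁, mul_pow, add_comm n₂ n₁]
  have hadd : ∀ x y : B, x ∈ T → y ∈ T → x + y ∈ T := by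
    rintro x y ⟨n₁, a₁, h₁⟩ ⟨n₂, a₂, h₂⟩
    refine ⟨n₁ + n₂, a₁ ^ p ^ n₂ + a₂ ^ p ^ n₁, ?_⟩
    rw [map_add, hshift x n₁ a₁ h₁ n₂, hshift y n₂ a₂ h₂ n₁, add_pow_char_pow, add_comm n₂ n₁]
  have hrange : ∀ a : A, φ a ∈ T := fun a => ⟨0, a, by simp⟩
  let S : Subring B :=
    { carrier := T
      mul_mem' := fun hx hy => hmul _ _ hx hy
      one_mem' := by simpa using hrange 1
      add_mem' := fun hx hy => hadd _ _ hx hy
      zero_mem' := by simpa using hrange 0
      neg_mem' := fun {x} hx => by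
        have : -x = φ (-1) * x := by simp
        rw [this]
        exact hmul _ _ (hrange (-1)) hx }
  have hroot : ∀ b : B, b ^ p ∈ S → b ∈ S := by
    rintro b ⟨n, a, ha⟩
    exact ⟨n + 1, a, by rw [ha, ← pow_mul, ← pow_succ']⟩
  by_contra hcon
  push Not at hcon
  obtain ⟨b₀, hb₀⟩ := hcon
  have hb₀S : b₀ ∉ S := fun ⟨n, a, ha⟩ => hb₀ n a ha
  let χ : A →+* S := φ.codRestrict S hrange
  have hcomp : φ = S.subtype.comp χ := rfl
  have hψ : Function.Injective S.subtype := Subtype.val_injective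
  have hUψ : IsUH S.subtype := IsUH.right χ S.subtype hψ (hcomp ▸ h)
  have hns : ¬ Function.Surjective S.subtype := by
    intro hs
    obtain ⟨s, hs⟩ := hs b₀
    exact hb₀S (hs ▸ s.2)
  have hrg : ∀ b : B, b ∈ S.subtype.range ↔ b ∈ S := by
    intro b
    constructor
    · rintro ⟨s, rfl⟩
      exact s.2
    · intro hb
      exact ⟨⟨b, hb⟩, rfl⟩
  rcases exists_step S.subtype hUψ hns with ⟨b, hb, h2, h3⟩ | ⟨ℓ, b, hℓ, hb, h1, h2⟩
  · rw [hrg] at hb h2 h3
    apply hb
    apply hroot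
    rcases Nat.even_or_odd' p with ⟨k, hk | hk⟩
    · rw [hk, pow_mul]
      exact S.pow_mem h2 k
    · have hk1 : 1 ≤ k := by
        rcases Nat.eq_zero_or_pos k with rfl | hpos
        · exfalso
          have := hp.out.one_lt
          omega
        · exact hpos
      obtain ⟨k', rfl⟩ : ∃ k', k = k' + 1 := ⟨k - 1, by omega⟩
      have : b ^ p = (b ^ 2) ^ k' * b ^ 3 := by
        rw [hk]
        ring
      rw [this]
      exact S.mul_mem (S.pow_mem h2 k') h3
  · rw [hrg] at hb h1 h2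
    apply hb
    by_cases hℓp : ℓ = p
    · subst hℓp
      exact hroot b h2
    · have hcop : IsCoprime (ℓ : ℤ) (p : ℤ) :=
        Nat.isCoprime_iff_coprime.mpr ((Nat.coprime_primes hℓ hp.out).mpr hℓp)
      obtain ⟨u, v, huv⟩ := hcop
      have h3 : ((u * ℓ + v * p : ℤ) : B) = 1 := by rw [huv]; simp
      push_cast at h3
      rw [CharP.cast_eq_zero B p, mul_zero, add_zero] at h3
      have : b = (u : B) * ((ℓ : B) * b) := by rw [← mul_assoc, h3, one_mul]
      rw [this]
      exact S.mul_mem (intCast_mem S u) h1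

theorem isUH_iff_isPRadical : IsUH φ ↔ IsPRadical φ p :=
  ⟨isPRadical_of_isUH p φ, isUH_of_isPRadical p φ⟩

end Groth.Agent.Lib.UHCharPH52
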