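import Groth.Agent.Lib.UHAwnCharH52
import Groth.Agent.Lib.UHCharPH52
import Mathlib.RingTheory.Localization.BaseChange
import Mathlib.RingTheory.IntegralClosure.Algebra.Basic

/-!
Ring-level universal homeomorphisms are stable under base change; the absolute weak
normalization `Awn` is functorial and commutes with localization at one element.
-/

set_option autoImplicit false
universe u

open TensorProduct

namespace Groth.Agent.Lib.UHAwnFunctorH52

open Groth.Agent.Lib.UHRingH52 Groth.Agent.Lib.UHGenH52 Groth.Agent.Lib.UHAwnH52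
  Groth.Agent.Lib.UHAwnCharH52 Groth.Agent.Lib.Seminormal

section BaseChange

variable {A A' W : Type u} [CommRing A] [CommRing A'] [CommRing W] [Algebra A A'] [Algebra A W]

theorem isUH_baseChange (h : IsUH (algebraMap A W)) : IsUH (algebraMap A' (A' ⊗[A] W)) := by
  have hint : Algebra.IsIntegral A W := ⟨h.1⟩
  have hint' : Algebra.IsIntegral A' (A' ⊗[A] W) := inferInstance
  refine ⟨fun x => hint'.isIntegral x, ?_, ?_⟩
  · apply comap_surjective_of_forall_lift
    intro L _ _ f
    obtain ⟨g₀, hg₀⟩ := Groth.Agent.Lib.EtaPtDescent.exists_extension_of_isIntegral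
      (algebraMap A W) h.1 h.2.1 (f.comp (algebraMap A A'))
    let _ : Algebra A L := (f.comp (algebraMap A A')).toAlgebra
    let fA : A' →ₐ[A] L := { f with commutes' := fun a => rfl }
    let gA : W →ₐ[A] L :=
      { g₀ with commutes' := fun a => congrArg (fun k : A →+* L => k a) hg₀ }
    refine ⟨(Algebra.TensorProduct.productMap fA gA).toRingHom, ?_⟩
    refine RingHom.ext fun x => ?_
    change Algebra.TensorProduct.productMap fA gA (algebraMap A' (A' ⊗[A] W) x) = f x
    rw [Algebra.TensorProduct.algebraMap_apply, Algebra.algebraMap_self, RingHom.id_apply,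
      Algebra.TensorProduct.productMap_left_apply]
    rfl
  · intro K _ g₁ g₂ hg
    have hW : g₁.comp (Algebra.TensorProduct.includeRight (R := A) (A := A') (B := W)).toRingHom =
        g₂.comp (Algebra.TensorProduct.includeRight (R := A) (A := A') (B := W)).toRingHom := by
      apply h.2.2
      refine RingHom.ext fun a => ?_
      have h1 : (Algebra.TensorProduct.includeRight (R := A) (A := A') (B := W))
          (algebraMap A W a) = algebraMap A' (A' ⊗[A] W) (algebraMap A A' a) := by
        rw [AlgHom.commutes, ← IsScalarTower.algebraMap_apply]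
      change g₁ (Algebra.TensorProduct.includeRight (R := A) (A := A') (B := W)
        (algebraMap A W a)) = g₂ (Algebra.TensorProduct.includeRight (R := A) (A := A') (B := W)
        (algebraMap A W a))
      rw [h1]
      exact congrArg (fun k : A' →+* K => k (algebraMap A A' a)) hg
    refine RingHom.ext fun z => ?_
    induction z using TensorProduct.induction_on with
    | zero => rw [map_zero, map_zero]
    | tmul x w =>
      have h1 : x ⊗ₜ[A] w = algebraMap A' (A' ⊗[A] W) x *
          Algebra.TensorProduct.includeRight (R := A) (A := A') (B := W) w := by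
        rw [Algebra.TensorProduct.algebraMap_apply, Algebra.TensorProduct.includeRight_apply,
          Algebra.TensorProduct.tmul_mul_tmul, Algebra.algebraMap_self, RingHom.id_apply, mul_one,
          one_mul]
      rw [h1, map_mul, map_mul]
      congr 1
      · exact congrArg (fun k : A' →+* K => k x) hg
      · exact congrArg (fun k : W →+* K => k w) hW
    | add x y hx hy => rw [map_add, map_add, hx, hy]

end BaseChange

section Functor

variable {A A' A'' : Type u} [CommRing A] [CommRing A'] [CommRing A'']

/-- The comparison map out of the base change of `Awn A`. -/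
noncomputable def awnTensorMap (g : A →+* A') :
    letI := g.toAlgebra
    (A' ⊗[A] Awn A) →+* Awn A' :=
  letI := g.toAlgebra
  (exists_unique_lift (algebraMap A' (A' ⊗[A] Awn A)) (isUH_baseChange (isUH_awn A))).exists.choose

theorem awnTensorMap_comp (g : A →+* A') :
    letI := g.toAlgebra
    (awnTensorMap g).comp (algebraMap A' (A' ⊗[A] Awn A)) = algebraMap A' (Awn A') :=
  letI := g.toAlgebra
  (exists_unique_lift (algebraMap A' (A' ⊗[A] Awn A))
    (isUH_baseChange (isUH_awn A))).exists.choose_spec

theorem awnTensorMap_unique (g : A →+* A') :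
    letI := g.toAlgebra
    ∀ χ : (A' ⊗[A] Awn A) →+* Awn A',
      χ.comp (algebraMap A' (A' ⊗[A] Awn A)) = algebraMap A' (Awn A') → χ = awnTensorMap g := by
  let _ := g.toAlgebra
  intro χ hχ
  exact (exists_unique_lift (algebraMap A' (A' ⊗[A] Awn A))
    (isUH_baseChange (isUH_awn A))).unique hχ (awnTensorMap_comp g)

/-- Functoriality of the absolute weak normalization. -/
noncomputable def awnMap (g : A →+* A') : Awn A →+* Awn A' :=
  letI := g.toAlgebra
  (awnTensorMap g).comp
    (Algebra.TensorProduct.includeRight (R := A) (A := A') (B := Awn A)).toRingHom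

theorem awnMap_comp_algebraMap (g : A →+* A') :
    (awnMap g).comp (algebraMap A (Awn A)) = (algebraMap A' (Awn A')).comp g := by
  let _ := g.toAlgebra
  refine RingHom.ext fun a => ?_
  have h1 : (Algebra.TensorProduct.includeRight (R := A) (A := A') (B := Awn A))
      (algebraMap A (Awn A) a) = algebraMap A' (A' ⊗[A] Awn A) (g a) := by
    rw [AlgHom.commutes]
    exact IsScalarTower.algebraMap_apply A A' (A' ⊗[A] Awn A) a
  change awnTensorMap g ((Algebra.TensorProduct.includeRight (R := A) (A := A') (B := Awn A))
      (algebraMap A (Awn A) a)) = algebraMap A' (Awn A') (g a)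
  rw [h1]
  exact congrArg (fun k : A' →+* Awn A' => k (g a)) (awnTensorMap_comp g)

theorem awnMap_apply_algebraMap (g : A →+* A') (a : A) :
    awnMap g (algebraMap A (Awn A) a) = algebraMap A' (Awn A') (g a) :=
  congrArg (fun k : A →+* Awn A' => k a) (awnMap_comp_algebraMap g)

theorem awnMap_unique (g : A →+* A') (m : Awn A →+* Awn A')
    (hm : m.comp (algebraMap A (Awn A)) = (algebraMap A' (Awn A')).comp g) : m = awnMap g := by
  let _ := g.toAlgebra
  let _ : Algebra A (Awn A') := ((algebraMap A' (Awn A')).comp g).toAlgebra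
  have : IsScalarTower A A' (Awn A') := IsScalarTower.of_algebraMap_eq (fun _ => rfl)
  let mA : Awn A →ₐ[A] Awn A' :=
    { m with commutes' := fun a => congrArg (fun k : A →+* Awn A' => k a) hm }
  let μ : (A' ⊗[A] Awn A) →ₐ[A] Awn A' :=
    Algebra.TensorProduct.productMap (IsScalarTower.toAlgHom A A' (Awn A')) mA
  have hμ : μ.toRingHom = awnTensorMap g := by
    apply awnTensorMap_unique g
    refine RingHom.ext fun x => ?_
    change μ (algebraMap A' (A' ⊗[A] Awn A) x) = algebraMap A' (Awn A') x
    rw [Algebra.TensorProduct.algebraMap_apply, Algebra.algebraMap_self, RingHom.id_apply,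
      Algebra.TensorProduct.productMap_left_apply]
    rfl
  refine RingHom.ext fun w => ?_
  change m w = awnTensorMap g
    ((Algebra.TensorProduct.includeRight (R := A) (A := A') (B := Awn A)) w)
  rw [← hμ]
  change m w = μ ((1 : A') ⊗ₜ[A] w)
  rw [Algebra.TensorProduct.productMap_right_apply]
  rfl

theorem awnMap_id : awnMap (RingHom.id A) = RingHom.id (Awn A) :=
  (awnMap_unique (RingHom.id A) (RingHom.id (Awn A)) rfl).symm

theorem awnMap_comp (g : A →+* A') (g' : A' →+* A'') :
    awnMap (g'.comp g) = (awnMap g').comp (awnMap g) := by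
  symm
  apply awnMap_unique
  rw [RingHom.comp_assoc, awnMap_comp_algebraMap, ← RingHom.comp_assoc, awnMap_comp_algebraMap,
    RingHom.comp_assoc]

end Functor

section Localization

variable {A A' : Type u} [CommRing A] [CommRing A']

/-- A universal homeomorphism out of an absolutely weakly normal ring with reduced target is
bijective. -/
theorem bijective_of_isUH_of_isAWNRing {B : Type u} [CommRing B] (ψ : A →+* B) (hψ : IsUH ψ)
    (hA : HTop.IsAWNRing A) [IsReduced B] : Function.Bijective ψ := by
  have hredA : IsReduced A := isReduced_of_isSeminormalRing hA.1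
  have hinj : Function.Injective ψ := by
    rw [injective_iff_map_eq_zero]
    intro a ha
    have h1 : a ∈ nilradical A :=
      Groth.Agent.Lib.UHCharPH52.ker_le_nilradical_of_isUH ψ hψ (RingHom.mem_ker.mpr ha)
    exact (mem_nilradical.mp h1).eq_zero
  refine ⟨hinj, ?_⟩
  by_contra hns
  rcases Groth.Agent.Lib.UHConductorH52.exists_step ψ hψ hns with
    ⟨w, hw, ⟨x, hx⟩, ⟨y, hy⟩⟩ | ⟨p, w, hp, hw, ⟨y, hy⟩, ⟨x, hx⟩⟩
  · have hxy : x ^ 3 = y ^ 2 := by
      apply hinj
      rw [map_pow, map_pow, hx, hy]
      ring
    obtain ⟨a, ⟨ha2, ha3⟩, -⟩ := hA.1 x y hxy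
    apply hw
    refine ⟨a, eq_of_sq_cube ?_ ?_⟩
    · rw [← map_pow, ← ha2, hx]
    · rw [← map_pow, ← ha3, hy]
  · have hxy : (p : A) ^ p * x = y ^ p := by
      apply hinj
      rw [map_mul, map_pow, map_pow, map_natCast, hx, hy]
      ring
    obtain ⟨a, ⟨ha1, ha2⟩, -⟩ := hA.2 p hp x y hxy
    apply hw
    refine ⟨a, eq_of_pow_prime hp ?_ ?_⟩
    · rw [← map_pow, ← ha1, hx]
    · rw [← hy, ha2, map_mul, map_natCast]

attribute [local instance] Algebra.TensorProduct.rightAlgebra in
/-- `Awn` commutes with localization at one element. -/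
theorem isLocalization_away_awnMap (g : A →+* A') (f : A)
    (hloc : @IsLocalization.Away A _ f A' _ g.toAlgebra) :
    @IsLocalization.Away (Awn A) _ (algebraMap A (Awn A) f) (Awn A') _ (awnMap g).toAlgebra := by
  let _ := g.toAlgebra
  have hloc' : IsLocalization.Away f A' := hloc
  have hT : IsLocalization (Algebra.algebraMapSubmonoid (Awn A) (Submonoid.powers f))
      (A' ⊗[A] Awn A) := IsLocalization.tensorRight (S := Awn A) A' (Submonoid.powers f)
  have hAWN : HTop.IsAWNRing (A' ⊗[A] Awn A) :=
    isAWNRing_of_isLocalization (Algebra.algebraMapSubmonoid (Awn A) (Submonoid.powers f)) _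
      (isAWNRing_of_isRingAWN (algebraMap A (Awn A)) (isRingAWN (A := A)))
  have hbij : Function.Bijective (awnTensorMap g) :=
    bijective_of_isAWNRing (algebraMap A' (Awn A')) (isRingAWN (A := A'))
      (algebraMap A' (A' ⊗[A] Awn A)) (isUH_baseChange (isUH_awn A)) (awnTensorMap g)
      (awnTensorMap_comp g) hAWN
  let _ : Algebra (Awn A) (Awn A') := (awnMap g).toAlgebra
  let e : (A' ⊗[A] Awn A) ≃ₐ[Awn A] Awn A' :=
    { RingEquiv.ofBijective (awnTensorMap g) hbij with
      commutes' := fun w => rfl }
  have hpow : Algebra.algebraMapSubmonoid (Awn A) (Submonoid.powers f) =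
      Submonoid.powers (algebraMap A (Awn A) f) := by
    unfold Algebra.algebraMapSubmonoid
    rw [Submonoid.map_powers]
  rw [hpow] at hT
  exact IsLocalization.isLocalization_of_algEquiv (Submonoid.powers (algebraMap A (Awn A) f)) e

end Localization

end Groth.Agent.Lib.UHAwnFunctorH52
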