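import Groth.Agent.Lib.UHRelH52
import Groth.Prelude.Def_HTop2

/-!
Existence of the absolute weak normalization of a ring (Stacks 0EUK): the relative weak
normalization of `A` inside the product of the algebraic closures of its residue fields.
-/

set_option autoImplicit false
universe u

open CategoryTheory AlgebraicGeometry

namespace Groth.Agent.Lib.UHAwnH52

open Groth.Agent.Lib.UHRingH52 Groth.Agent.Lib.UHTowerH52 Groth.Agent.Lib.UHRelH52

variable (A : Type u) [CommRing A]

/-- The product of the algebraic closures of the residue fields of `A`. -/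
abbrev Big : Type u := ∀ P : PrimeSpectrum A, AlgebraicClosure P.asIdeal.ResidueField

theorem algebraMap_big_apply (a : A) (P : PrimeSpectrum A) :
    algebraMap A (Big A) a P = algebraMap P.asIdeal.ResidueField
      (AlgebraicClosure P.asIdeal.ResidueField) (algebraMap A P.asIdeal.ResidueField a) := by
  rw [← IsScalarTower.algebraMap_apply]
  rfl

theorem ker_big_le : RingHom.ker (algebraMap A (Big A)) ≤ nilradical A := by
  intro a ha
  rw [nilradical_eq_sInf, Ideal.mem_sInf]
  intro P hP
  obtain ⟨Q, rfl⟩ : ∃ Q : PrimeSpectrum A, Q.asIdeal = P := ⟨⟨P, hP⟩, rfl⟩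
  have h1 := congrFun (RingHom.mem_ker.mp ha) Q
  rw [algebraMap_big_apply, Pi.zero_apply, map_eq_zero, Ideal.algebraMap_residueField_eq_zero] at h1
  exact h1

/-- The absolute weak normalization of `A`. -/
abbrev Awn : Type u := wn A (Big A)

theorem isUH_awn : IsUH (algebraMap A (Awn A)) := isUH_wn (ker_big_le A)

variable {A}

theorem exists_unique_lift {C : Type u} [CommRing C] (ψ : A →+* C) (hψ : IsUH ψ) :
    ∃! χ : C →+* Awn A, χ.comp ψ = algebraMap A (Awn A) := by
  let _ : Algebra A C := ψ.toAlgebra
  have hψ' : IsUH (algebraMap A C) := hψ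
  have hex : ∀ P : PrimeSpectrum A, ∃ σ : C →+* AlgebraicClosure P.asIdeal.ResidueField,
      σ.comp ψ = algebraMap A (AlgebraicClosure P.asIdeal.ResidueField) :=
    fun P => Groth.Agent.Lib.EtaPtDescent.exists_extension_of_isIntegral ψ hψ.1 hψ.2.1 _
  choose σ hσ using hex
  let G : C →ₐ[A] Big A :=
    { RingHom.pi σ with
      commutes' := fun a => by
        funext P
        exact congrArg (fun f : A →+* AlgebraicClosure P.asIdeal.ResidueField => f a) (hσ P) }
  have hG : G.range ≤ wn A (Big A) := range_le_wn G (ker_big_le A) hψ'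
  let χ : C →+* Awn A := (G : C →+* Big A).codRestrict (wn A (Big A)).toSubring
    (fun c => hG ⟨c, rfl⟩)
  refine ⟨χ, ?_, ?_⟩
  · refine RingHom.ext fun a => ?_
    apply Subtype.ext
    exact G.commutes a
  · intro χ' hχ'
    refine RingHom.ext fun c => ?_
    apply Subtype.ext
    funext P
    let e : Big A →+* AlgebraicClosure P.asIdeal.ResidueField := Pi.evalRingHom _ P
    have h1 : (e.comp ((wn A (Big A)).val : Awn A →+* Big A)).comp χ' =
        (e.comp ((wn A (Big A)).val : Awn A →+* Big A)).comp χ := by
      apply hψ.eq_of_comp_eq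
      refine RingHom.ext fun a => ?_
      have ha : χ' (ψ a) = algebraMap A (Awn A) a :=
        congrArg (fun f : A →+* Awn A => f a) hχ'
      have hb : χ (ψ a) = algebraMap A (Awn A) a := Subtype.ext (G.commutes a)
      simp only [RingHom.comp_apply]
      rw [ha, hb]
    exact congrArg (fun f : C →+* AlgebraicClosure P.asIdeal.ResidueField => f c) h1

theorem isRingAWN : HTop.IsRingAWN (algebraMap A (Awn A)) := by
  refine ⟨(isUnivHomeo_iff _).mpr (isUH_awn A), ?_⟩
  intro C _ ψ hψ
  exact exists_unique_lift ψ ((isUnivHomeo_iff ψ).mp hψ)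

end Groth.Agent.Lib.UHAwnH52
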