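import Groth.Agent.Lib.UHAwnFunctorH52
import Groth.Agent.Lib.UnivHomeo
import Groth.Agent.Lib.ReducedSubscheme
import Groth.Agent.S7420
import Groth.Agent.S7421
import Mathlib.AlgebraicGeometry.Sites.SmallAffineZariski

/-!
Scheme-level absolute weak normalization (Stacks 0EUK, 0EUS): construction of `X^awn → X` by
relative gluing of `Spec (Awn Γ(X, U))`, and the characterisation of absolute weak normalizations
as universal homeomorphisms from absolutely weakly normal schemes.
-/

set_option autoImplicit false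
universe u

open CategoryTheory AlgebraicGeometry Limits

namespace Groth.Agent.Lib.UHAwnSchemeH52

open Groth.Agent.Lib.UHRingH52 Groth.Agent.Lib.UHAwnH52 Groth.Agent.Lib.UHAwnCharH52
  Groth.Agent.Lib.UHAwnFunctorH52 Groth.Agent.Lib.Seminormal

/-- The absolute weak normalization as an endofunctor of commutative rings. -/
noncomputable def awnFunctor : CommRingCat.{u} ⥤ CommRingCat.{u} where
  obj R := CommRingCat.of (Awn R)
  map g := CommRingCat.ofHom (awnMap g.hom)
  map_id R := by
    ext1
    exact awnMap_id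
  map_comp g g' := by
    ext1
    exact awnMap_comp g.hom g'.hom


section General

open Groth.Agent.Lib.UnivHomeo

theorem isUnivHomeo_eq_inf :
    (FlatMor.IsUnivHomeo : MorphismProperty Scheme.{u}) =
      Min.min (α := MorphismProperty Scheme.{u})
        (Min.min (α := MorphismProperty Scheme.{u}) @UniversallyInjective @Surjective)
        @UniversallyClosed := by
  ext X Y f
  rw [iff_universallyInjective_surjective_universallyClosed]
  exact ⟨fun ⟨a, b, c⟩ => ⟨⟨a, b⟩, c⟩, fun ⟨⟨a, b⟩, c⟩ => ⟨a, b, c⟩⟩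

instance isZariskiLocalAtTarget_isUnivHomeo :
    IsZariskiLocalAtTarget (FlatMor.IsUnivHomeo : MorphismProperty Scheme.{u}) := by
  rw [isUnivHomeo_eq_inf]
  infer_instance

theorem isSeminormal_of_isAWN {X : Scheme.{u}} (hX : HTop.IsAWN X) : HTop.IsSeminormal X := by
  intro x
  obtain ⟨U, hxU, hU⟩ := hX x
  exact ⟨U, hxU, hU.1⟩

theorem isReduced_of_isAWN {X : Scheme.{u}} (hX : HTop.IsAWN X) : IsReduced X :=
  Groth.Agent.S7421.result.2 X (isSeminormal_of_isAWN hX)

/-- A universal homeomorphism from a reduced scheme to an absolutely weakly normal scheme is an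
isomorphism. -/
theorem isIso_of_isAWN {X Y : Scheme.{u}} (hX : HTop.IsAWN X) (π : Y ⟶ X)
    (hπ : FlatMor.IsUnivHomeo π) [IsReduced Y] : IsIso π := by
  have haff : IsAffineHom π := isAffineHom hπ
  have hall := (Groth.Agent.S7420.result X).2.mp hX
  have key : targetAffineLocally (fun X _ f _ => IsAffine X ∧ IsIso f.appTop) π := by
    intro U
    have hg : FlatMor.IsUnivHomeo (π ∣_ U.1) :=
      MorphismProperty.of_isPullback (isPullback_morphismRestrict π U.1).flip hπ
    have hUaff : IsAffine (U.1 : Scheme) := U.2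
    have hVaff : IsAffine ((π ⁻¹ᵁ U.1 : Y.Opens) : Scheme) := U.2.preimage π
    refine ⟨hVaff, ?_⟩
    have hSpec : FlatMor.IsUnivHomeo (Spec.map (π ∣_ U.1).appTop) :=
      ((FlatMor.IsUnivHomeo : MorphismProperty Scheme).arrow_mk_iso_iff
        (arrowIsoSpecΓOfIsAffine (π ∣_ U.1))).mp hg
    have hUH : IsUH (π ∣_ U.1).appTop.hom :=
      (Groth.Agent.Lib.UHRingH52.isUnivHomeo_iff _).mp hSpec
    have haffU : IsAffineOpen (U.1.ι ''ᵁ ⊤) := by
      rw [Scheme.Opens.ι_image_top]
      exact U.2
    have h1 : HTop.IsAWNRing Γ(X, U.1.ι ''ᵁ ⊤) := hall ⟨U.1.ι ''ᵁ ⊤, haffU⟩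
    have hbij : Function.Bijective (π ∣_ U.1).appTop.hom :=
      bijective_of_isUH_of_isAWNRing _ hUH h1
    exact (ConcreteCategory.isIso_iff_bijective _).mpr hbij
  rw [← HasAffineProperty.eq_targetAffineLocally (MorphismProperty.isomorphisms Scheme)] at key
  exact key

/-- Morphisms from a reduced scheme into the source of a universal homeomorphism are determined
by their composites with it. -/
theorem eq_of_comp_eq {T X Y : Scheme.{u}} [IsReduced T] (π : Y ⟶ X)
    (hπ : FlatMor.IsUnivHomeo π) (h₁ h₂ : T ⟶ Y) (h : h₁ ≫ π = h₂ ≫ π) : h₁ = h₂ := by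
  have hsurj : Surjective (pullback.diagonal π) :=
    (UniversallyInjective.iff_diagonal π).mp (universallyInjective hπ)
  have haff : IsAffineHom π := isAffineHom hπ
  have hsep : IsSeparated π := inferInstance
  have hcl : IsClosedImmersion (pullback.diagonal π) := inferInstance
  let l : T ⟶ pullback π π := pullback.lift h₁ h₂ h
  have h1 : IsClosedImmersion (pullback.fst l (pullback.diagonal π)) := inferInstance
  have h2 : Surjective (pullback.fst l (pullback.diagonal π)) := inferInstance
  have h3 : IsIso (pullback.fst l (pullback.diagonal π)) :=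
    isIso_of_isClosedImmersion_of_surjective _
  have e : pullback.fst l (pullback.diagonal π) ≫ l =
      pullback.snd l (pullback.diagonal π) ≫ pullback.diagonal π := pullback.condition
  have e1 : pullback.fst l (pullback.diagonal π) ≫ h₁ = pullback.snd l (pullback.diagonal π) := by
    have := congrArg (fun k => k ≫ pullback.fst π π) e
    simp only [Category.assoc] at this
    rw [pullback.diagonal_fst, Category.comp_id] at this
    rw [← this]
    congr 1
    exact (pullback.lift_fst h₁ h₂ h).symm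
  have e2 : pullback.fst l (pullback.diagonal π) ≫ h₂ = pullback.snd l (pullback.diagonal π) := by
    have := congrArg (fun k => k ≫ pullback.snd π π) e
    simp only [Category.assoc] at this
    rw [pullback.diagonal_snd, Category.comp_id] at this
    rw [← this]
    congr 1
    exact (pullback.lift_snd h₁ h₂ h).symm
  rw [← cancel_epi (pullback.fst l (pullback.diagonal π)), e1, e2]

/-- The reduced closed subscheme with the same underlying space. -/
theorem exists_reduced (Z : Scheme.{u}) :
    ∃ (Z' : Scheme.{u}) (i : Z' ⟶ Z), IsReduced Z' ∧ IsClosedImmersion i ∧ Surjective i := by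
  refine ⟨_, (Scheme.IdealSheafData.vanishingIdeal (⊤ : TopologicalSpace.Closeds Z)).subschemeι,
    Groth.Agent.Lib.ReducedSubscheme.isReduced_subscheme_vanishingIdeal ⊤, inferInstance, ⟨?_⟩⟩
  rw [← Set.range_eq_univ, Scheme.IdealSheafData.range_subschemeι,
    Scheme.IdealSheafData.vanishingIdeal_top, Scheme.support_nilradical]
  rfl

/-- A universal homeomorphism from an absolutely weakly normal scheme is an absolute weak
normalization (Stacks 0EUS, scheme level). -/
theorem isAWNormalization_of_isAWN {X X' : Scheme.{u}} (ν : X' ⟶ X)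
    (hν : FlatMor.IsUnivHomeo ν) (hX' : HTop.IsAWN X') : HTop.IsAWNormalization ν := by
  have hred : IsReduced X' := isReduced_of_isAWN hX'
  refine ⟨hν, fun Y π hπ => ?_⟩
  obtain ⟨Z, i, hZ, hi, hs⟩ := exists_reduced (pullback ν π)
  have h1 : FlatMor.IsUnivHomeo (pullback.fst ν π) :=
    MorphismProperty.pullback_fst _ _ hπ
  have h2 : FlatMor.IsUnivHomeo i := of_isImmersion_of_surjective i
  have h3 : FlatMor.IsUnivHomeo (i ≫ pullback.fst ν π) := comp h2 h1
  have h4 : IsIso (i ≫ pullback.fst ν π) := isIso_of_isAWN hX' _ h3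
  have hex : (inv (i ≫ pullback.fst ν π) ≫ i ≫ pullback.snd ν π) ≫ π = ν := by
    rw [Category.assoc, Category.assoc, ← pullback.condition, ← Category.assoc i,
      IsIso.inv_hom_id_assoc]
  refine ⟨inv (i ≫ pullback.fst ν π) ≫ i ≫ pullback.snd ν π, hex, ?_⟩
  intro h hh
  apply eq_of_comp_eq π hπ
  rw [hh, hex]

theorem isAWN_of_iso {X X' : Scheme.{u}} (e : X ≅ X') (h : HTop.IsAWN X') : HTop.IsAWN X := by
  intro x
  obtain ⟨U', hx, hU'⟩ := h (e.hom x)
  refine ⟨⟨e.hom ⁻¹ᵁ U'.1, U'.2.preimage_of_isIso e.hom⟩, hx, ?_⟩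
  exact isAWNRing_of_ringEquiv (asIso (e.hom.app U'.1)).commRingCatIsoToRingEquiv hU'

theorem isAWNormalization_unique {X X₁ X₂ : Scheme.{u}} (ν₁ : X₁ ⟶ X) (ν₂ : X₂ ⟶ X)
    (h₁ : HTop.IsAWNormalization ν₁) (h₂ : HTop.IsAWNormalization ν₂) :
    ∃ e : X₁ ≅ X₂, e.hom ≫ ν₂ = ν₁ := by
  obtain ⟨a, ha, -⟩ := h₁.2 X₂ ν₂ h₂.1
  obtain ⟨b, hb, -⟩ := h₂.2 X₁ ν₁ h₁.1
  refine ⟨⟨a, b, ?_, ?_⟩, ha⟩
  · exact (h₁.2 X₁ ν₁ h₁.1).unique (by rw [Category.assoc, hb, ha]) (Category.id_comp _)
  · exact (h₂.2 X₂ ν₂ h₂.1).unique (by rw [Category.assoc, ha, hb]) (Category.id_comp _)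

end General

section Glue

open Scheme.AffineZariskiSite

variable (X : Scheme.{u})

/-- The presheaf of absolute weak normalizations on affine opens. -/
noncomputable def awnDiagram : X.AffineZariskiSiteᵒᵖ ⥤ CommRingCat.{u} :=
  (toOpensFunctor X).op ⋙ X.presheaf ⋙ awnFunctor

/-- The structure map of the presheaf of absolute weak normalizations. -/
noncomputable def awnDiagramMap : (toOpensFunctor X).op ⋙ X.presheaf ⟶ awnDiagram X where
  app U := CommRingCat.ofHom (algebraMap Γ(X, U.unop.1) (Awn Γ(X, U.unop.1)))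
  naturality U V i := by
    ext1
    exact (awnMap_comp_algebraMap _).symm

theorem coequifibered_awnDiagramMap : (awnDiagramMap X).Coequifibered := by
  rw [coequifibered_iff_forall_isLocalizationAway]
  intro U f
  exact isLocalization_away_awnMap _ f (U.2.isLocalization_basicOpen f)

/-- The gluing data for the absolute weak normalization. -/
noncomputable def awnGlueData : (directedCover X).RelativeGluingData :=
  relativeGluingData (coequifibered_awnDiagramMap X)

instance : ((awnGlueData X).functor ⋙ Scheme.forget).IsLocallyDirected :=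
  Scheme.Cover.RelativeGluingData.instIsLocallyDirectedI₀CompFunctorForgetOfIsThin ..

/-- The absolute weak normalization of a scheme. -/
noncomputable def awn : Scheme.{u} := (awnGlueData X).glued

/-- The structure morphism of the absolute weak normalization. -/
noncomputable def awnHom : awn X ⟶ X := (awnGlueData X).toBase

/-- The chart of the absolute weak normalization over an affine open. -/
noncomputable def awnChart (U : X.AffineZariskiSite) :
    Spec (CommRingCat.of (Awn Γ(X, U.1))) ⟶ awn X :=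
  colimit.ι (awnGlueData X).functor U

instance (U : X.AffineZariskiSite) : IsOpenImmersion (awnChart X U) :=
  inferInstanceAs (IsOpenImmersion ((awnGlueData X).cover.f U))

theorem isPullback_awnChart (U : X.AffineZariskiSite) :
    IsPullback ((awnGlueData X).natTrans.app U) (awnChart X U) U.1.ι (awnHom X) := by
  have := (awnGlueData X).isPullback_natTrans_ι_toBase U
  exact this

theorem awnChart_jointly_surjective (x : awn X) :
    ∃ (U : X.AffineZariskiSite), x ∈ Set.range (awnChart X U) := by
  obtain ⟨U, y, hy⟩ := (awnGlueData X).cover.exists_eq x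
  refine ⟨U, y, ?_⟩
  have h1 : (awnGlueData X).cover.f U = awnChart X U := rfl
  rw [← h1]
  exact hy

theorem natTrans_app_eq (U : X.AffineZariskiSite) :
    (awnGlueData X).natTrans.app U =
      Spec.map (CommRingCat.ofHom (algebraMap Γ(X, U.1) (Awn Γ(X, U.1)))) ≫ U.2.isoSpec.inv :=
  rfl

theorem isUnivHomeo_natTrans_app (U : X.AffineZariskiSite) :
    FlatMor.IsUnivHomeo ((awnGlueData X).natTrans.app U) := by
  rw [natTrans_app_eq]
  exact Groth.Agent.Lib.UnivHomeo.comp
    ((Groth.Agent.Lib.UHRingH52.isUnivHomeo_iff _).mpr (isUH_awn _))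
    (Groth.Agent.Lib.UnivHomeo.of_isIso _)

theorem isUnivHomeo_awnHom : FlatMor.IsUnivHomeo (awnHom X) := by
  apply IsZariskiLocalAtTarget.of_openCover (directedCover X)
  intro (U : X.AffineZariskiSite)
  have hpb : IsPullback (awnChart X U) ((awnGlueData X).natTrans.app U) (awnHom X) U.1.ι :=
    (isPullback_awnChart X U).flip
  change FlatMor.IsUnivHomeo (pullback.snd (awnHom X) U.1.ι)
  have h := isUnivHomeo_natTrans_app X U
  rw [← hpb.isoPullback_hom_snd] at h
  exact (MorphismProperty.cancel_left_of_respectsIso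
    (FlatMor.IsUnivHomeo : MorphismProperty Scheme.{u}) hpb.isoPullback.hom _).mp h

theorem isAWN_awn : HTop.IsAWN (awn X) := by
  intro x
  obtain ⟨U, hxU⟩ := awnChart_jointly_surjective X x
  have haff : IsAffineOpen ((awnChart X U) ''ᵁ ⊤) :=
    (isAffineOpen_top _).image_of_isOpenImmersion (awnChart X U)
  refine ⟨⟨(awnChart X U) ''ᵁ ⊤, haff⟩, ?_, ?_⟩
  · obtain ⟨y, rfl⟩ := hxU
    exact ⟨y, trivial, rfl⟩
  · have e1 : Γ(awn X, (awnChart X U) ''ᵁ ⊤) ≅ Γ(Spec (CommRingCat.of (Awn Γ(X, U.1))), ⊤) :=
      (awnChart X U).appIso ⊤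
    have e2 : Γ(Spec (CommRingCat.of (Awn Γ(X, U.1))), ⊤) ≅ CommRingCat.of (Awn Γ(X, U.1)) :=
      Scheme.ΓSpecIso _
    exact isAWNRing_of_ringEquiv (e1 ≪≫ e2).commRingCatIsoToRingEquiv.symm
      (isAWNRing_of_isRingAWN (algebraMap Γ(X, U.1) (Awn Γ(X, U.1))) (isRingAWN (A := Γ(X, U.1))))

/-- Existence of the absolute weak normalization of a scheme (Stacks 0EUK). -/
theorem exists_awn : ∃ (X' : Scheme.{u}) (ν : X' ⟶ X),
    HTop.IsAWNormalization ν ∧ HTop.IsAWN X' :=
  ⟨awn X, awnHom X, isAWNormalization_of_isAWN _ (isUnivHomeo_awnHom X) (isAWN_awn X), isAWN_awn X⟩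

end Glue

end Groth.Agent.Lib.UHAwnSchemeH52
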