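import Groth.Agent.Lib.UHCharPH52

/-!
Ring-level universal homeomorphisms and filtered colimits, in elementwise form
(Stacks 0CNB): a jointly surjective compatible family `ι j : B j → B` of `A`-algebras such that
elements of `A` dying in `B` die in some `B j`.
-/

set_option autoImplicit false
universe u

namespace Groth.Agent.Lib.UHColimH52

open Groth.Agent.Lib.UHRingH52 Groth.Agent.Lib.UHRelH52 Groth.Agent.Lib.UHCharPH52

variable {A B : Type u} [CommRing A] [CommRing B] (φ : A →+* B)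
  {J : Type*} (Bj : J → Type u) [∀ j, CommRing (Bj j)] (φj : ∀ j, A →+* Bj j)
  (ι : ∀ j, Bj j →+* B) (hι : ∀ j, (ι j).comp (φj j) = φ)
  (hsurj : ∀ b : B, ∃ (j : J) (y : Bj j), ι j y = b)

include hι hsurj

theorem isIntegral_of_forall (h : ∀ j, (φj j).IsIntegral) : φ.IsIntegral := by
  intro b
  obtain ⟨j, y, rfl⟩ := hsurj b
  have := (h j y).map (ι j)
  rwa [hι j] at this

theorem uniq_of_forall
    (h : ∀ j, ∀ (K : Type u) [Field K] (g₁ g₂ : Bj j →+* K),
      g₁.comp (φj j) = g₂.comp (φj j) → g₁ = g₂)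
    (K : Type u) [Field K] (g₁ g₂ : B →+* K) (hg : g₁.comp φ = g₂.comp φ) : g₁ = g₂ := by
  ext b
  obtain ⟨j, y, rfl⟩ := hsurj b
  have h1 : (g₁.comp (ι j)) = (g₂.comp (ι j)) := by
    apply h j
    rw [RingHom.comp_assoc, RingHom.comp_assoc, hι j, hg]
  exact congrArg (fun f : Bj j →+* K => f y) h1

theorem resTriv_of_forall (h : ∀ j, ResTriv (φj j)) : ResTriv φ := by
  intro Q b
  obtain ⟨j, y, rfl⟩ := hsurj b
  obtain ⟨a, s, hs, hsa⟩ := h j (PrimeSpectrum.comap (ι j) Q) y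
  have e : ∀ a : A, ι j (φj j a) = φ a := fun a => congrArg (fun f : A →+* B => f a) (hι j)
  refine ⟨a, s, ?_, ?_⟩
  · rw [← e]; exact hs
  · have : ι j (φj j s * y - φj j a) ∈ Q.asIdeal := hsa
    rwa [map_sub, map_mul, e, e] at this

theorem isUH_of_forall (hker : ∀ a : A, φ a = 0 → ∃ j, φj j a = 0) (h : ∀ j, IsUH (φj j)) :
    IsUH φ := by
  have hint : φ.IsIntegral := isIntegral_of_forall φ Bj φj ι hι hsurj (fun j => (h j).1)
  let _ : Algebra A B := φ.toAlgebra
  refine ⟨hint, comap_surjective_of_isIntegral_of_ker_le (A := A) (B := B) hint ?_,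
    uniq_of_forall φ Bj φj ι hι hsurj (fun j => (h j).2.2)⟩
  intro a ha
  obtain ⟨j, hj⟩ := hker a ha
  exact ker_le_nilradical_of_isUH (φj j) (h j) hj

end Groth.Agent.Lib.UHColimH52
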