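import Groth.Agent.Lib.UHFactorH52

/-!
Conductor argument for ring-level universal homeomorphisms (Stacks 0CNE, 0CNF/0CNG):
if `A → B` is a non-surjective universal homeomorphism then there is `b ∉ A` with `b², b³ ∈ A`
or a prime `p` and `b ∉ A` with `p b, b^p ∈ A`.
-/

set_option autoImplicit false
universe u

namespace Groth.Agent.Lib.UHConductorH52

open Groth.Agent.Lib.UHRingH52 Groth.Agent.Lib.UHFactorH52

section Pow

variable {B : Type u} [CommRing B]

theorem pow_mem_of_pow_mem (R : Subring B) (h23 : ∀ b : B, b ^ 2 ∈ R → b ^ 3 ∈ R → b ∈ R) (b : B)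
    (n : ℕ) (hn : ∀ N, n ≤ N → b ^ N ∈ R) : ∀ N, 1 ≤ N → b ^ N ∈ R := by
  induction n with
  | zero => exact fun N _ => hn N (Nat.zero_le _)
  | succ k ih =>
    apply ih
    intro N hN
    rcases Nat.eq_or_lt_of_le hN with rfl | hlt
    · rcases Nat.eq_zero_or_pos k with rfl | hk
      · rw [pow_zero]; exact R.one_mem
      · apply h23
        · rw [← pow_mul]; exact hn _ (by omega)
        · rw [← pow_mul]; exact hn _ (by omega)
    · exact hn N hlt

end Pow

variable (A B : Type u) [CommRing A] [CommRing B] [Algebra A B]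

/-- The conductor of `A → B`. -/
def cond : Ideal A where
  carrier := {a | ∀ b : B, algebraMap A B a * b ∈ (algebraMap A B).range}
  add_mem' := fun ha hb c => by
    rw [map_add, add_mul]; exact Subring.add_mem _ (ha c) (hb c)
  zero_mem' := fun c => by rw [map_zero, zero_mul]; exact Subring.zero_mem _
  smul_mem' := fun r a ha c => by
    rw [smul_eq_mul, map_mul, mul_assoc]; exact Subring.mul_mem _ ⟨r, rfl⟩ (ha c)

variable {A B}

theorem mem_cond {a : A} : a ∈ cond A B ↔ ∀ b : B, algebraMap A B a * b ∈ (algebraMap A B).range :=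
  Iff.rfl

theorem mul_mem_range_of_mem_map {x : B} (hx : x ∈ (cond A B).map (algebraMap A B)) :
    ∀ c : B, c * x ∈ (algebraMap A B).range := by
  refine Submodule.span_induction ?_ ?_ ?_ ?_ hx
  · rintro _ ⟨a, ha, rfl⟩ c
    rw [mul_comm]; exact ha c
  · intro c; rw [mul_zero]; exact Subring.zero_mem _
  · intro x y _ _ hx hy c
    rw [mul_add]; exact Subring.add_mem _ (hx c) (hy c)
  · intro c x _ hx c'
    rw [smul_eq_mul, ← mul_assoc]; exact hx _

theorem mem_range_of_mem_map {x : B} (hx : x ∈ (cond A B).map (algebraMap A B)) :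
    x ∈ (algebraMap A B).range := by
  have := mul_mem_range_of_mem_map hx 1
  rwa [one_mul] at this

theorem cond_ne_top (hns : ¬ Function.Surjective (algebraMap A B)) : cond A B ≠ ⊤ := by
  intro h
  apply hns
  intro b
  have h1 : (1 : A) ∈ cond A B := by rw [h]; exact Submodule.mem_top
  have := h1 b
  rwa [map_one, one_mul] at this

theorem exists_mul_pow_mem (hU : IsUH (algebraMap A B)) {p : Ideal A}
    (hp : p ∈ (cond A B).minimalPrimes) (Q : PrimeSpectrum B)
    (hQ : Q.asIdeal.comap (algebraMap A B) = p) {f : B} (hf : f ∈ Q.asIdeal) :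
    ∃ s : A, s ∉ p ∧ ∃ n : ℕ, algebraMap A B s * f ^ n ∈ (cond A B).map (algebraMap A B) := by
  have hpp : p.IsPrime := hp.1.1
  by_contra hcon
  push Not at hcon
  let M : Submonoid B := (p.primeCompl.map (algebraMap A B)) ⊔ Submonoid.powers f
  have hdisj : Disjoint (((cond A B).map (algebraMap A B) : Ideal B) : Set B) M := by
    rw [Set.disjoint_left]
    intro x hx hxM
    obtain ⟨y, hy, z, hz, rfl⟩ := Submonoid.mem_sup.mp hxM
    obtain ⟨s, hs, rfl⟩ := hy
    obtain ⟨n, rfl⟩ := hz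
    exact hcon s hs n hx
  obtain ⟨Q', hQ'prime, hle, hdisj'⟩ := Ideal.exists_le_prime_disjoint _ M hdisj
  have h1 : cond A B ≤ Q'.comap (algebraMap A B) := fun a ha =>
    hle (Ideal.mem_map_of_mem _ ha)
  have h2 : Q'.comap (algebraMap A B) ≤ p := by
    intro a ha
    by_contra hap
    have hM : algebraMap A B a ∈ M := by
      apply Submonoid.mem_sup_left
      exact ⟨a, hap, rfl⟩
    exact Set.disjoint_left.mp hdisj' ha hM
  have h3 : Q'.comap (algebraMap A B) = p :=
    le_antisymm h2 (hp.2 ⟨Ideal.comap_isPrime _ _, h1⟩ h2)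
  have h4 : (⟨Q', hQ'prime⟩ : PrimeSpectrum B) = Q := by
    apply hU.comap_bijective.1
    apply PrimeSpectrum.ext
    change Q'.comap (algebraMap A B) = Q.asIdeal.comap (algebraMap A B)
    rw [h3, hQ]
  have hfQ' : f ∈ Q' := by
    rw [← h4] at hf
    exact hf
  have hfM : f ∈ M := Submonoid.mem_sup_right (Submonoid.mem_powers f)
  exact Set.disjoint_left.mp hdisj' hfQ' hfM

/-- The main lemma: for a finite non-surjective universal homeomorphism `A → B` without
`b ∉ A`, `b², b³ ∈ A`, there is a prime `Q` of `B` such that every element of `Q` lies in `A`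
up to a multiplier outside `Q`, but not every element of `B` does. -/
theorem main [Module.Finite A B] (hU : IsUH (algebraMap A B))
    (hns : ¬ Function.Surjective (algebraMap A B))
    (h23 : ∀ b : B, b ^ 2 ∈ (algebraMap A B).range → b ^ 3 ∈ (algebraMap A B).range →
      b ∈ (algebraMap A B).range) :
    ∃ Q : PrimeSpectrum B,
      (∀ f ∈ Q.asIdeal, ∃ t : A, algebraMap A B t ∉ Q.asIdeal ∧
        algebraMap A B t * f ∈ (algebraMap A B).range) ∧
      ∃ b : B, ∀ t : A, algebraMap A B t ∉ Q.asIdeal →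
        algebraMap A B t * b ∉ (algebraMap A B).range := by
  classical
  obtain ⟨⟨p, hp⟩⟩ := Ideal.nonempty_minimalPrimes (cond_ne_top hns)
  have hpp : p.IsPrime := hp.1.1
  obtain ⟨Q, hQ⟩ := hU.comap_bijective.2 ⟨p, hpp⟩
  have hQ' : Q.asIdeal.comap (algebraMap A B) = p := congrArg PrimeSpectrum.asIdeal hQ
  have hnotin : ∀ t : A, algebraMap A B t ∉ Q.asIdeal ↔ t ∉ p := by
    intro t
    rw [← hQ']
    exact Iff.rfl
  refine ⟨Q, ?_, ?_⟩
  · intro f hf
    obtain ⟨s, hs, n, hn⟩ := exists_mul_pow_mem hU hp Q hQ' hf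
    refine ⟨s, (hnotin s).mpr hs, ?_⟩
    have hpow : ∀ N, n + 1 ≤ N → (algebraMap A B s * f) ^ N ∈ (algebraMap A B).range := by
      intro N hN
      obtain ⟨k, rfl⟩ : ∃ k, N = n + 1 + k := ⟨N - (n + 1), by omega⟩
      have : (algebraMap A B s * f) ^ (n + 1 + k) =
          (algebraMap A B s ^ (n + k) * f ^ (1 + k)) * (algebraMap A B s * f ^ n) := by ring
      rw [this]
      exact mul_mem_range_of_mem_map hn _
    have := pow_mem_of_pow_mem _ h23 (algebraMap A B s * f) (n + 1) hpow 1 le_rfl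
    rwa [pow_one] at this
  · by_contra hall
    push Not at hall
    obtain ⟨S, hS⟩ := (Module.finite_def.mp (inferInstance : Module.Finite A B))
    choose t ht1 ht2 using hall
    let T : A := ∏ b ∈ S, t b
    have hTp : T ∉ p := by
      intro hT
      obtain ⟨b, _, hb⟩ := (Ideal.IsPrime.prod_mem_iff).mp hT
      exact (hnotin (t b)).mp (ht1 b) hb
    have hTcond : T ∈ cond A B := by
      intro c
      have hc : c ∈ Submodule.span A (S : Set B) := by rw [hS]; exact Submodule.mem_top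
      refine Submodule.span_induction ?_ ?_ ?_ ?_ hc
      · intro b hb
        obtain ⟨d, hd⟩ := Finset.dvd_prod_of_mem t hb
        change algebraMap A B (∏ b ∈ S, t b) * b ∈ _
        rw [hd, map_mul, mul_right_comm]
        exact Subring.mul_mem _ (ht2 b) ⟨d, rfl⟩
      · rw [mul_zero]; exact Subring.zero_mem _
      · intro x y _ _ hx hy
        rw [mul_add]; exact Subring.add_mem _ hx hy
      · intro a x _ hx
        rw [Algebra.smul_def, mul_left_comm]
        exact Subring.mul_mem _ ⟨a, rfl⟩ hx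
    exact hTp (hp.1.2 hTcond)

/-- Stacks 0CNE for finite extensions. -/
theorem exists_step23_of_finite [Module.Finite A B] (hU : IsUH (algebraMap A B))
    (hres : ResTriv (algebraMap A B)) (hns : ¬ Function.Surjective (algebraMap A B)) :
    ∃ b : B, b ∉ (algebraMap A B).range ∧ b ^ 2 ∈ (algebraMap A B).range ∧
      b ^ 3 ∈ (algebraMap A B).range := by
  by_contra hcon
  have h23 : ∀ b : B, b ^ 2 ∈ (algebraMap A B).range → b ^ 3 ∈ (algebraMap A B).range →
      b ∈ (algebraMap A B).range := fun b h2 h3 => by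
    by_contra hb
    exact hcon ⟨b, hb, h2, h3⟩
  obtain ⟨Q, hQT, b, hb⟩ := main hU hns h23
  obtain ⟨a, s, hs, hsa⟩ := hres Q b
  obtain ⟨t, ht, htr⟩ := hQT _ hsa
  apply hb (t * s)
  · rw [map_mul]
    intro h
    rcases Q.2.mem_or_mem h with h | h
    · exact ht h
    · exact hs h
  · have : algebraMap A B (t * s) * b =
        algebraMap A B t * (algebraMap A B s * b - algebraMap A B a) + algebraMap A B (t * a) := by
      rw [map_mul, map_mul]; ring
    rw [this]
    exact Subring.add_mem _ htr ⟨_, rfl⟩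

/-- Stacks 0CNG for finite extensions. -/
theorem exists_step_of_finite [Module.Finite A B] (hU : IsUH (algebraMap A B))
    (hns : ¬ Function.Surjective (algebraMap A B)) :
    (∃ b : B, b ∉ (algebraMap A B).range ∧ b ^ 2 ∈ (algebraMap A B).range ∧
      b ^ 3 ∈ (algebraMap A B).range) ∨
    ∃ (p : ℕ) (b : B), p.Prime ∧ b ∉ (algebraMap A B).range ∧
      (p : B) * b ∈ (algebraMap A B).range ∧ b ^ p ∈ (algebraMap A B).range := by
  classical
  by_cases hcon : ∃ b : B, b ∉ (algebraMap A B).range ∧ b ^ 2 ∈ (algebraMap A B).range ∧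
      b ^ 3 ∈ (algebraMap A B).range
  · exact Or.inl hcon
  right
  have h23 : ∀ b : B, b ^ 2 ∈ (algebraMap A B).range → b ^ 3 ∈ (algebraMap A B).range →
      b ∈ (algebraMap A B).range := fun b h2 h3 => by
    by_contra hb
    exact hcon ⟨b, hb, h2, h3⟩
  obtain ⟨Q, hQT, b, hb⟩ := main hU hns h23
  let T : Set B := {c | ∃ t : A, algebraMap A B t ∉ Q.asIdeal ∧
    algebraMap A B t * c ∈ (algebraMap A B).range}
  have hbT : b ∉ T := fun ⟨t, ht, htr⟩ => hb t ht htr
  have hsat : ∀ (t : A) (c : B), algebraMap A B t ∉ Q.asIdeal → algebraMap A B t * c ∈ T →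
      c ∈ T := by
    rintro t c ht ⟨t', ht', htr⟩
    refine ⟨t' * t, ?_, ?_⟩
    · rw [map_mul]
      intro h
      rcases Q.2.mem_or_mem h with h | h
      · exact ht' h
      · exact ht h
    · rw [map_mul, mul_assoc]; exact htr
  have hRT : ∀ c : B, c ∈ (algebraMap A B).range → c ∈ T := by
    intro c hc
    refine ⟨1, ?_, ?_⟩
    · rw [map_one]; exact Q.2.one_notMem
    · rw [map_one, one_mul]; exact hc
  have hresT : ∀ c : B, c ∈ resSub (algebraMap A B) Q → c ∈ T := by
    intro c hc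
    obtain ⟨a, s, hs, hsa⟩ := (mem_resSub_iff _ Q c).mp hc
    obtain ⟨t, ht, htr⟩ := hQT _ hsa
    refine ⟨t * s, ?_, ?_⟩
    · rw [map_mul]
      intro h
      rcases Q.2.mem_or_mem h with h | h
      · exact ht h
      · exact hs h
    · have : algebraMap A B (t * s) * c =
          algebraMap A B t * (algebraMap A B s * c - algebraMap A B a) + algebraMap A B (t * a) := by
        rw [map_mul, map_mul]; ring
      rw [this]
      exact Subring.add_mem _ htr ⟨_, rfl⟩
  obtain ⟨ℓ, n, hℓ, hpow⟩ := hU.exists_pow_mem_resSub Q b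
  rcases hℓ with rfl | ⟨hprime, hℓQ⟩
  · rw [one_pow, pow_one] at hpow
    exact absurd (hresT b hpow) hbT
  have hex : ∃ n : ℕ, b ^ ℓ ^ n ∈ T := ⟨n, hresT _ hpow⟩
  have hn0 : Nat.find hex ≠ 0 := by
    intro h0
    have := Nat.find_spec hex
    rw [h0, pow_zero, pow_one] at this
    exact hbT this
  obtain ⟨m, hm⟩ := Nat.exists_eq_succ_of_ne_zero hn0
  have hb1 : b ^ ℓ ^ m ∉ T := Nat.find_min hex (by omega)
  have hb1' : (b ^ ℓ ^ m) ^ ℓ ∈ T := by
    have := Nat.find_spec hex
    rw [hm, Nat.succ_eq_add_one, pow_succ, pow_mul] at this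
    exact this
  obtain ⟨t, ht, htr⟩ := hb1'
  set b1 := b ^ ℓ ^ m with hb1def
  have hb2 : algebraMap A B t * b1 ∉ T := fun h => hb1 (hsat t b1 ht h)
  obtain ⟨k, rfl⟩ : ∃ k, ℓ = k + 1 := ⟨ℓ - 1, by have := hprime.pos; omega⟩
  have hb2pow : (algebraMap A B t * b1) ^ (k + 1) ∈ (algebraMap A B).range := by
    have : (algebraMap A B t * b1) ^ (k + 1) =
        algebraMap A B (t ^ k) * (algebraMap A B t * b1 ^ (k + 1)) := by
      rw [map_pow]; ring
    rw [this]
    exact Subring.mul_mem _ ⟨_, rfl⟩ htr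
  have hℓb2 : ((k + 1 : ℕ) : B) * (algebraMap A B t * b1) ∈ Q.asIdeal := by
    apply Ideal.mul_mem_right
    have : ((k + 1 : ℕ) : B) = algebraMap A B ((k + 1 : ℕ) : A) := (map_natCast _ _).symm
    rw [this]
    exact hℓQ
  obtain ⟨t', ht', htr'⟩ := hQT _ hℓb2
  have hb3 : algebraMap A B t' * (algebraMap A B t * b1) ∉ T := fun h => hb2 (hsat t' _ ht' h)
  refine ⟨k + 1, algebraMap A B t' * (algebraMap A B t * b1), hprime, fun h => hb3 (hRT _ h), ?_, ?_⟩
  · rw [mul_left_comm]; exact htr'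
  · rw [mul_pow, ← map_pow]
    exact Subring.mul_mem _ ⟨_, rfl⟩ hb2pow

section General

variable {A B : Type u} [CommRing A] [CommRing B] (φ : A →+* B)

/-- Reduction to a finite subextension generated by one element outside the image. -/
theorem exists_finite_sub (hU : IsUH φ) (hns : ¬ Function.Surjective φ) :
    ∃ (C : Type u) (_ : CommRing C) (_ : Algebra A C) (_ : Module.Finite A C) (ψ : C →+* B),
      Function.Injective ψ ∧ φ = ψ.comp (algebraMap A C) ∧
      ¬ Function.Surjective (algebraMap A C) := by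
  let _ := φ.toAlgebra
  obtain ⟨b0, hb0⟩ : ∃ b0 : B, b0 ∉ φ.range := by
    by_contra h
    push Not at h
    exact hns (fun b => h b)
  have hint : IsIntegral A b0 := hU.1 b0
  have hfin : Module.Finite A (Algebra.adjoin A {b0}) :=
    Algebra.finite_adjoin_simple_of_isIntegral hint
  refine ⟨Algebra.adjoin A {b0}, inferInstance, inferInstance, hfin,
    algebraMap (Algebra.adjoin A {b0}) B, Subtype.val_injective, rfl, ?_⟩
  intro h
  obtain ⟨a, ha⟩ := h ⟨b0, Algebra.subset_adjoin rfl⟩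
  exact hb0 ⟨a, congrArg Subtype.val ha⟩

/-- Stacks 0CNE. -/
theorem exists_step23 (hU : IsUH φ) (hres : ResTriv φ) (hns : ¬ Function.Surjective φ) :
    ∃ b : B, b ∉ φ.range ∧ b ^ 2 ∈ φ.range ∧ b ^ 3 ∈ φ.range := by
  obtain ⟨C, _, _, _, ψ, hψ, hcomp, hns0⟩ := exists_finite_sub φ hU hns
  subst hcomp
  obtain ⟨c, hc, h2, h3⟩ := exists_step23_of_finite (IsUH.left _ ψ hψ hU)
    (ResTriv.left _ ψ hψ hU.1 hres) hns0
  refine ⟨ψ c, ?_, ?_, ?_⟩
  · rintro ⟨a, ha⟩
    exact hc ⟨a, hψ ha⟩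
  · obtain ⟨a, ha⟩ := h2
    exact ⟨a, by rw [RingHom.comp_apply, ha, map_pow]⟩
  · obtain ⟨a, ha⟩ := h3
    exact ⟨a, by rw [RingHom.comp_apply, ha, map_pow]⟩

/-- Stacks 0CNG. -/
theorem exists_step (hU : IsUH φ) (hns : ¬ Function.Surjective φ) :
    (∃ b : B, b ∉ φ.range ∧ b ^ 2 ∈ φ.range ∧ b ^ 3 ∈ φ.range) ∨
    ∃ (p : ℕ) (b : B), p.Prime ∧ b ∉ φ.range ∧ (p : B) * b ∈ φ.range ∧ b ^ p ∈ φ.range := by
  obtain ⟨C, _, _, _, ψ, hψ, hcomp, hns0⟩ := exists_finite_sub φ hU hns
  subst hcomp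
  rcases exists_step_of_finite (IsUH.left _ ψ hψ hU) hns0 with ⟨c, hc, h2, h3⟩ | ⟨p, c, hp, hc, h2, h3⟩
  · left
    refine ⟨ψ c, ?_, ?_, ?_⟩
    · rintro ⟨a, ha⟩
      exact hc ⟨a, hψ ha⟩
    · obtain ⟨a, ha⟩ := h2
      exact ⟨a, by rw [RingHom.comp_apply, ha, map_pow]⟩
    · obtain ⟨a, ha⟩ := h3
      exact ⟨a, by rw [RingHom.comp_apply, ha, map_pow]⟩
  · right
    refine ⟨p, ψ c, hp, ?_, ?_, ?_⟩
    · rintro ⟨a, ha⟩
      exact hc ⟨a, hψ ha⟩
    · obtain ⟨a, ha⟩ := h2
      exact ⟨a, by rw [RingHom.comp_apply, ha, map_mul, map_natCast]⟩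
    · obtain ⟨a, ha⟩ := h3
      exact ⟨a, by rw [RingHom.comp_apply, ha, map_pow]⟩

end General

end Groth.Agent.Lib.UHConductorH52
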