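import Groth.Agent.Lib.UHImageH52
import Mathlib.AlgebraicGeometry.AffineSpace
import Mathlib.LinearAlgebra.Basis.VectorSpace

/-!
Descent of functions along proper surjective morphisms onto seminormal schemes:
if `h : Y ⟶ X'` is surjective, `π' : X' ⟶ X` and the two composites `Y ×_X Y ⇉ Y ⟶ X'` agree,
then `π'` is universally injective and induces isomorphisms on residue fields.
-/

set_option autoImplicit false
universe u

open CategoryTheory AlgebraicGeometry Limits TensorProduct

namespace Groth.Agent.Lib.UHDescentFnH52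

open Groth.Agent.Lib.UnivHomeo Groth.Agent.Lib.UHSnSchemeH52 Groth.Agent.Lib.UHImageH52

/-- For a field extension `K/F`, an element `a` with `a ⊗ 1 = 1 ⊗ a` in `K ⊗[F] K` lies in `F`. -/
theorem mem_range_of_tmul_eq {F K : Type*} [Field F] [Field K] [Algebra F K] (a : K)
    (h : a ⊗ₜ[F] (1 : K) = (1 : K) ⊗ₜ[F] a) : a ∈ (algebraMap F K).range := by
  by_contra ha
  let p : Submodule F K := LinearMap.range (Algebra.linearMap F K)
  have hv : a ∉ p := fun ⟨c, hc⟩ => ha ⟨c, hc⟩
  obtain ⟨f, hfa, hpf⟩ := Submodule.exists_le_ker_of_notMem hv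
  have hf1 : f 1 = 0 := hpf ⟨1, by simp⟩
  have h2 := congrArg (fun t => TensorProduct.rid F K (LinearMap.lTensor K f t)) h
  simp only [LinearMap.lTensor_tmul, TensorProduct.rid_tmul, hf1, zero_smul] at h2
  have : f a = 0 := by
    by_contra hne
    have : (f a • (1 : K)) ≠ 0 := smul_ne_zero hne one_ne_zero
    exact this h2.symm
  exact hfa this

variable {Y X' X : Scheme.{u}}

/-- If `h : Y ⟶ X'` is surjective and the two composites `Y ×_X Y ⇉ Y ⟶ X'` agree, then
`π' : X' ⟶ X` induces isomorphisms on residue fields. -/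
theorem resIso_of_fst_comp_eq (h : Y ⟶ X') (π' : X' ⟶ X) (π : Y ⟶ X) (hπ : h ≫ π' = π)
    (hsurj : Function.Surjective h)
    (heq : pullback.fst π π ≫ h = pullback.snd π π ≫ h) :
    HTop.ResidueFieldsIso π' := by
  subst hπ
  intro x'
  obtain ⟨y, rfl⟩ := hsurj x'
  apply isIso_residueFieldMap_of_surjective
  let F := X.residueField ((h ≫ π') y)
  let L := X'.residueField (h y)
  let K := Y.residueField y
  let χ : F ⟶ K := (h ≫ π').residueFieldMap y
  let ψ : L ⟶ K := h.residueFieldMap y
  let _ : Algebra F K := χ.hom.toAlgebra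
  let R : CommRingCat.{u} := CommRingCat.of (K ⊗[F] K)
  let i₁ : K ⟶ R :=
    CommRingCat.ofHom (Algebra.TensorProduct.includeLeft (R := F) (S := F) (A := K) (B := K)).toRingHom
  let i₂ : K ⟶ R :=
    CommRingCat.ofHom (Algebra.TensorProduct.includeRight (R := F) (A := K) (B := K)).toRingHom
  have h12 : χ ≫ i₁ = χ ≫ i₂ := by
    ext a
    exact Algebra.TensorProduct.tmul_one_eq_one_tmul (R := F) (A := K) (B := K) a
  let e₁ : Spec R ⟶ Y := Spec.map i₁ ≫ Y.fromSpecResidueField y
  let e₂ : Spec R ⟶ Y := Spec.map i₂ ≫ Y.fromSpecResidueField y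
  have hres : χ = π'.residueFieldMap (h y) ≫ ψ := Scheme.residueFieldMap_comp h π' y
  have he : e₁ ≫ (h ≫ π') = e₂ ≫ (h ≫ π') := by
    simp only [e₁, e₂, Category.assoc]
    rw [← Scheme.Hom.SpecMap_residueFieldMap_fromSpecResidueField (h ≫ π') y,
      ← Spec.map_comp_assoc, ← Spec.map_comp_assoc, h12]
  have hz : e₁ ≫ h = e₂ ≫ h := by
    have := congrArg (pullback.lift e₁ e₂ he ≫ ·) heq
    simpa only [pullback.lift_fst_assoc, pullback.lift_snd_assoc] using this
  have hz' : Spec.map (ψ ≫ i₁) ≫ X'.fromSpecResidueField (h y) =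
      Spec.map (ψ ≫ i₂) ≫ X'.fromSpecResidueField (h y) := by
    simp only [Spec.map_comp, Category.assoc]
    rw [Scheme.Hom.SpecMap_residueFieldMap_fromSpecResidueField h y]
    simpa only [e₁, e₂, Category.assoc] using hz
  have h3 : ψ ≫ i₁ = ψ ≫ i₂ := Spec.map_injective ((cancel_mono _).mp hz')
  intro b
  have hb : (ψ b) ⊗ₜ[F] (1 : K) = (1 : K) ⊗ₜ[F] (ψ b) := congrArg (fun k => k.hom b) h3
  obtain ⟨a, ha⟩ := mem_range_of_tmul_eq (ψ b) hb
  refine ⟨a, ψ.hom.injective ?_⟩
  have h4 : χ.hom a = ψ.hom ((π'.residueFieldMap (h y)).hom a) :=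
    congrArg (fun k => k.hom a) hres
  exact h4.symm.trans ha

/-- Under the same hypotheses, `π'` is universally injective. -/
theorem universallyInjective_of_fst_comp_eq (h : Y ⟶ X') (π' : X' ⟶ X) (π : Y ⟶ X)
    (hπ : h ≫ π' = π) [Surjective h]
    (heq : pullback.fst π π ≫ h = pullback.snd π π ≫ h) :
    UniversallyInjective π' := by
  subst hπ
  rw [UniversallyInjective.iff_diagonal]
  have hm : Surjective (pullback.map (h ≫ π') (h ≫ π') π' π' h h (𝟙 X)
      ((Category.comp_id _).trans rfl) ((Category.comp_id _).trans rfl)) :=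
    MorphismProperty.pullbackMap (P := @Surjective) inferInstance inferInstance rfl rfl
  have hfac : pullback.map (h ≫ π') (h ≫ π') π' π' h h (𝟙 X)
      ((Category.comp_id _).trans rfl) ((Category.comp_id _).trans rfl) =
      (pullback.fst (h ≫ π') (h ≫ π') ≫ h) ≫ pullback.diagonal π' := by
    apply pullback.hom_ext
    · have e1 : ((pullback.fst (h ≫ π') (h ≫ π') ≫ h) ≫ pullback.diagonal π') ≫
          pullback.fst π' π' = pullback.fst (h ≫ π') (h ≫ π') ≫ h := by simp
      exact (pullback.lift_fst _ _ _).trans e1.symm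
    · have e2 : ((pullback.fst (h ≫ π') (h ≫ π') ≫ h) ≫ pullback.diagonal π') ≫
          pullback.snd π' π' = pullback.snd (h ≫ π') (h ≫ π') ≫ h := by simp [heq]
      exact (pullback.lift_snd _ _ _).trans e2.symm
  rw [hfac] at hm
  exact Surjective.of_comp (pullback.fst (h ≫ π') (h ≫ π') ≫ h) (pullback.diagonal π')

/-- Descent of global functions along a universally closed, quasi-compact surjection from a reduced
scheme onto a seminormal scheme. -/
theorem exists_appTop_eq {X Y : Scheme.{u}} (hX : HTop.IsSeminormal X) (π : Y ⟶ X)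
    [UniversallyClosed π] [QuasiCompact π] [Surjective π] [IsReduced Y] (s : Γ(Y, ⊤))
    (hs : (pullback.fst π π).appTop s = (pullback.snd π π).appTop s) :
    ∃ t : Γ(X, ⊤), π.appTop t = s := by
  let k : Y ⟶ 𝔸(PUnit.{u+1}; X) := AffineSpace.homOfVector π (fun _ => s)
  let q : 𝔸(PUnit.{u+1}; X) ⟶ X := 𝔸(PUnit.{u+1}; X) ↘ X
  have hkq : k ≫ q = π := AffineSpace.homOfVector_over π _
  have hqc : QuasiCompact k := by
    have : QuasiCompact (k ≫ q) := by rw [hkq]; infer_instance
    exact QuasiCompact.of_comp k q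
  have huc : UniversallyClosed k := by
    have : UniversallyClosed (k ≫ q) := by rw [hkq]; infer_instance
    exact UniversallyClosed.of_comp_of_isSeparated k q
  have hπ : k.toImage ≫ (k.imageι ≫ q) = π := by rw [toImage_imageι_comp, hkq]
  have hsurj : Surjective k.toImage :=
    surjective_of_isDominant_of_isClosed_range _ k.toImage.isClosedMap.isClosed_range
  have hk12 : pullback.fst π π ≫ k = pullback.snd π π ≫ k := by
    apply AffineSpace.hom_ext
    · rw [Category.assoc, Category.assoc]
      change _ ≫ k ≫ q = _ ≫ k ≫ q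
      rw [hkq, pullback.condition]
    · intro j
      rw [Scheme.Hom.comp_appTop, Scheme.Hom.comp_appTop, CommRingCat.comp_apply,
        CommRingCat.comp_apply, AffineSpace.homOfVector_appTop_coord]
      exact hs
  have hh12 : pullback.fst π π ≫ k.toImage = pullback.snd π π ≫ k.toImage := by
    rw [← cancel_mono k.imageι, Category.assoc, Category.assoc, Scheme.Hom.toImage_imageι, hk12]
  have hui : UniversallyInjective (k.imageι ≫ q) :=
    universallyInjective_of_fst_comp_eq k.toImage (k.imageι ≫ q) π hπ hh12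
  have hres : HTop.ResidueFieldsIso (k.imageι ≫ q) :=
    resIso_of_fst_comp_eq k.toImage (k.imageι ≫ q) π hπ k.toImage.surjective hh12
  have hsurj' : Surjective (k.imageι ≫ q) := by
    have : Surjective (k.toImage ≫ (k.imageι ≫ q)) := by rw [hπ]; infer_instance
    exact Surjective.of_comp k.toImage (k.imageι ≫ q)
  have hucl : UniversallyClosed (k.imageι ≫ q) := by
    have : UniversallyClosed (k.toImage ≫ (k.imageι ≫ q)) := by rw [hπ]; infer_instance
    exact UniversallyClosed.of_comp_surjective k.toImage (k.imageι ≫ q)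
  have hUH : FlatMor.IsUnivHomeo (k.imageι ≫ q) :=
    (iff_universallyInjective_surjective_universallyClosed _).mpr ⟨hui, hsurj', hucl⟩
  have hdom := isSchemeTheoreticallyDominant_toImage k
  have hred : IsReduced k.image := IsSchemeTheoreticallyDominant.isReduced k.toImage
  have hiso : IsIso (k.imageι ≫ q) := isIso_of_isSeminormal hX _ hUH hres
  refine ⟨(inv (k.imageι ≫ q) ≫ k.imageι).appTop (AffineSpace.coord X PUnit.unit), ?_⟩
  have hfac : π ≫ inv (k.imageι ≫ q) ≫ k.imageι = k := by
    rw [← hπ, Category.assoc, IsIso.hom_inv_id_assoc, Scheme.Hom.toImage_imageι]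
  have h1 : π.appTop ((inv (k.imageι ≫ q) ≫ k.imageι).appTop (AffineSpace.coord X PUnit.unit)) =
      (π ≫ inv (k.imageι ≫ q) ≫ k.imageι).appTop (AffineSpace.coord X PUnit.unit) := by
    simp only [Scheme.Hom.comp_appTop, CommRingCat.comp_apply]
  rw [h1, hfac]
  exact AffineSpace.homOfVector_appTop_coord π (fun _ => s) PUnit.unit

/-- Pullback of functions along a dominant quasi-compact morphism to a reduced scheme is
injective. -/
theorem appTop_injective_of_surjective {X Y : Scheme.{u}} [IsReduced X] (π : Y ⟶ X)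
    [QuasiCompact π] [Surjective π] : Function.Injective π.appTop := by
  have : IsSchemeTheoreticallyDominant π := IsSchemeTheoreticallyDominant.of_isDominant π
  exact π.app_injective ⊤

end Groth.Agent.Lib.UHDescentFnH52
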