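import Groth.Agent.Lib.UHEtDescH52
import Groth.Agent.Lib.EffDescQFinH52

/-!
# Étale schemes, affine over the source, descend along universal homeomorphisms (helper52)

`exists_etale_iso_of_univHomeo`: for `f : X ⟶ Y` integral, universally injective and surjective,
every descent datum relative to `f` on a scheme étale and affine over `X` is effective, by a
scheme étale, separated and quasi-compact over `Y`.
`exists_etale_pullback_iso`: object form (descent data relative to `f` are automatic).
-/

set_option autoImplicit false
set_option linter.style.haveILetI false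
set_option backward.isDefEq.respectTransparency false
set_option backward.isDefEq.respectTransparency.types false

universe u

open CategoryTheory CategoryTheory.Limits AlgebraicGeometry Opposite

namespace Groth.Agent.Lib.UHEtDescH52

open Desc Groth.Agent.Lib.EffDescH52 Groth.Agent.Lib.RadicialDDH52
  Groth.Agent.Lib.RadicialIsoH52 Groth.Agent.Lib.EffDescFamH52

theorem univSubmersive_of_integral_surjective {X Y : Scheme.{u}} (f : X ⟶ Y)
    [IsIntegralHom f] [Surjective f] : SGA1.UnivSubmersive f := by
  intro X' Y' i₁ i₂ f' hpb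
  have h1 : IsIntegralHom f' :=
    MorphismProperty.of_isPullback (P := @IsIntegralHom) hpb.flip inferInstance
  have h2 : Surjective f' :=
    MorphismProperty.of_isPullback (P := @Surjective) hpb.flip inferInstance
  exact f'.isClosedMap.isQuotientMap f'.continuous f'.surjective

/-- **Étale schemes affine over `X` descend along a universal homeomorphism `X ⟶ Y`.** -/
theorem exists_etale_iso_of_univHomeo {X Y : Scheme.{u}} (f : X ⟶ Y)
    [IsIntegralHom f] [UniversallyInjective f] [Surjective f]
    (D : SchDD f) [Etale D.obj.hom] [IsAffineHom D.obj.hom] :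
    ∃ U : Over Y, QuasiCompact U.hom ∧ IsSeparated U.hom ∧ Etale U.hom ∧
      Nonempty ((toDD f).obj U ≅ D) := by
  have hf : SGA1.UnivSubmersive f := univSubmersive_of_integral_surjective f
  let D₁ : SchDDFam (fun _ : PUnit.{u + 1} => f) := (SchDDFam.ofSchDD.{u, u} f).obj D
  have : Etale (D₁.obj PUnit.unit).hom := inferInstanceAs (Etale D.obj.hom)
  have : IsAffineHom (D₁.obj PUnit.unit).hom := inferInstanceAs (IsAffineHom D.obj.hom)
  have : QuasiCompact (D₁.obj PUnit.unit).hom := inferInstance
  have : IsSeparated (D₁.obj PUnit.unit).hom := inferInstance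
  obtain ⟨U, hU, ⟨e⟩⟩ := exists_etale_iso_of_openCover f hf D₁ Y.affineCover (fun a => by
    let h := Y.affineCover.f a
    let pa := pullback.snd f h
    let π : (D₁.obj PUnit.unit).left ⟶ X := (D₁.obj PUnit.unit).hom
    let Da : SchDD pa := (SchDDFam.toSchDD.{u, u} pa).obj (bcDD h D₁)
    have k1 : Etale Da.obj.hom :=
      inferInstanceAs (Etale (pullback.snd π (pullback.fst f h)))
    have k2 : IsAffineHom Da.obj.hom :=
      inferInstanceAs (IsAffineHom (pullback.snd π (pullback.fst f h)))
    have k3 : IsAffine (Y.affineCover.X a) := inferInstanceAs (IsAffine (Spec _))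
    have k4 : UniversallyInjective pa :=
      MorphismProperty.pullback_snd (P := @UniversallyInjective) f h inferInstance
    have k5 : IsIntegralHom pa :=
      MorphismProperty.pullback_snd (P := @IsIntegralHom) f h inferInstance
    have k6 : Surjective pa :=
      MorphismProperty.pullback_snd (P := @Surjective) f h inferInstance
    obtain ⟨Ua, -, -, hUa, ⟨ea⟩⟩ := exists_etale_iso_of_isAffine pa Da
    exact ⟨Ua, hUa, ⟨(SchDDFam.ofSchDD.{u, u} pa).mapIso ea⟩⟩)
  obtain ⟨hqc, hsep⟩ := quasiCompact_isSeparated_of_iso f hf U D₁ e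
  exact ⟨U, hqc, hsep, hU, ⟨(SchDDFam.toSchDD.{u, u} f).mapIso e⟩⟩

/-- The underlying isomorphism over `X` of an isomorphism of descent data. -/
def objIso {X Y : Scheme.{u}} {f : X ⟶ Y} {D D' : SchDD f} (e : D ≅ D') : D.obj ≅ D'.obj where
  hom := e.hom.hom
  inv := e.inv.hom
  hom_inv_id := by
    have h1 : (e.hom ≫ e.inv).hom = (𝟙 D : _ ⟶ _).hom := by rw [e.hom_inv_id]
    exact h1
  inv_hom_id := by
    have h1 : (e.inv ≫ e.hom).hom = (𝟙 D' : _ ⟶ _).hom := by rw [e.inv_hom_id]
    exact h1

/-- **Object form**: a scheme étale and affine over `X` is the pullback of a scheme étale,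
separated and quasi-compact over `Y`, for `X ⟶ Y` a universal homeomorphism. -/
theorem exists_etale_pullback_iso {X Y : Scheme.{u}} (f : X ⟶ Y)
    [IsIntegralHom f] [UniversallyInjective f] [Surjective f]
    (E : Over X) [Etale E.hom] [IsAffineHom E.hom] :
    ∃ U : Over Y, QuasiCompact U.hom ∧ IsSeparated U.hom ∧ Etale U.hom ∧
      Nonempty ((Over.pullback f).obj U ≅ E) := by
  have i1 : Etale (radDD f E).obj.hom := inferInstanceAs (Etale E.hom)
  have i2 : IsAffineHom (radDD f E).obj.hom := inferInstanceAs (IsAffineHom E.hom)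
  obtain ⟨U, hqc, hsep, het, ⟨e⟩⟩ := exists_etale_iso_of_univHomeo f (radDD f E)
  exact ⟨U, hqc, hsep, het, ⟨(canObjIso f U).symm ≪≫ objIso e⟩⟩

/-- Finiteness descends along universal homeomorphisms, for étale separated morphisms. -/
theorem isFinite_of_pullback {X Y : Scheme.{u}} (f : X ⟶ Y)
    [IsIntegralHom f] [Surjective f] (U : Over Y) [Etale U.hom] [IsSeparated U.hom]
    [QuasiCompact U.hom]
    (h : UniversallyClosed (pullback.fst f U.hom)) : IsFinite U.hom := by
  have hf : SGA1.UnivSubmersive f := univSubmersive_of_integral_surjective f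
  have h1 : UniversallyClosed U.hom :=
    MorphismProperty.of_pullback_fst_of_descendsAlong (P := @UniversallyClosed)
      (Q := SGA1.UnivSubmersive) hf h
  have h2 : IsProper U.hom := { }
  have h3 : LocallyQuasiFinite U.hom := Groth.Agent.Lib.EffDescH52.locallyQuasiFinite_of_etale U.hom
  exact IsFinite.of_isProper_of_locallyQuasiFinite U.hom

end Groth.Agent.Lib.UHEtDescH52
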