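import Groth.Agent.Lib.UHEtDesc2H52
import Groth.Agent.Lib.EffDescGlueSubmH52

/-!
# Every étale scheme descends along a universal homeomorphism (helper52)

`exists_etale_pullback_iso'`: for `f : X ⟶ Y` integral, universally injective and surjective,
EVERY scheme étale over `X` (no separation or quasi-compactness) is the pullback of a scheme étale
over `Y`. Gluing of the affine pieces (`exists_etale_pullback_iso`) by the source-local
effectivity principle `Subm.exists_iso_of_forall_exists_open`.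
-/

set_option autoImplicit false
set_option linter.style.haveILetI false
set_option backward.isDefEq.respectTransparency false
set_option backward.isDefEq.respectTransparency.types false

universe u

open CategoryTheory CategoryTheory.Limits AlgebraicGeometry Opposite

namespace Groth.Agent.Lib.UHEtDescH52

open Desc Groth.Agent.Lib.EffDescH52 Groth.Agent.Lib.RadicialDDH52
  Groth.Agent.Lib.RadicialIsoH52 Groth.Agent.Lib.EffDescFamH52

/-- **Topological invariance of the étale site, essential surjectivity.** -/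
theorem exists_etale_pullback_iso' {X Y : Scheme.{u}} (f : X ⟶ Y)
    [IsIntegralHom f] [UniversallyInjective f] [Surjective f]
    (E : Over X) [Etale E.hom] :
    ∃ U : Over Y, Etale U.hom ∧ Nonempty ((Over.pullback f).obj U ≅ E) := by
  have hf : SGA1.UnivSubmersive f := univSubmersive_of_integral_surjective f
  have i1 : Etale (radDD f E).obj.hom := inferInstanceAs (Etale E.hom)
  obtain ⟨U, hU, ⟨e⟩⟩ := Subm.exists_iso_of_forall_exists_open hf (radDD f E) (fun v => by
    change E.left at v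
    obtain ⟨Ya, hYa, hy⟩ : ∃ Ya : Y.Opens, IsAffineOpen Ya ∧ f (E.hom v) ∈ Ya := by
      obtain ⟨_, ⟨Ya, hYa, rfl⟩, hy, -⟩ := Y.isBasis_affineOpens.exists_subset_of_mem_open
        (Set.mem_univ (f (E.hom v))) isOpen_univ
      exact ⟨Ya, hYa, hy⟩
    have hXa : IsAffineOpen (f ⁻¹ᵁ Ya) := hYa.preimage f
    obtain ⟨W, hW, hvW, hWle⟩ : ∃ W : E.left.Opens, IsAffineOpen W ∧ v ∈ W ∧
        W ≤ E.hom ⁻¹ᵁ f ⁻¹ᵁ Ya := by
      obtain ⟨_, ⟨W, hW, rfl⟩, hvW, hWle⟩ :=
        E.left.isBasis_affineOpens.exists_subset_of_mem_open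
          (show v ∈ E.hom ⁻¹ᵁ f ⁻¹ᵁ Ya from hy) (E.hom ⁻¹ᵁ f ⁻¹ᵁ Ya).2
      exact ⟨W, hW, hvW, hWle⟩
    let w : W.toScheme ⟶ (f ⁻¹ᵁ Ya).toScheme := E.hom.resLE (f ⁻¹ᵁ Ya) W hWle
    have hw : w ≫ (f ⁻¹ᵁ Ya).ι = W.ι ≫ E.hom := Scheme.Hom.resLE_comp_ι _ _
    let pa : (f ⁻¹ᵁ Ya).toScheme ⟶ Ya.toScheme := f ∣_ Ya
    have hR : IsPullback (f ⁻¹ᵁ Ya).ι pa f Ya.ι := (isPullback_morphismRestrict f Ya).flip
    have k1 : IsIntegralHom pa :=
      MorphismProperty.of_isPullback (P := @IsIntegralHom) hR inferInstance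
    have k2 : UniversallyInjective pa :=
      MorphismProperty.of_isPullback (P := @UniversallyInjective) hR inferInstance
    have k3 : Surjective pa :=
      MorphismProperty.of_isPullback (P := @Surjective) hR inferInstance
    have k4 : IsAffine W.toScheme := hW
    have k5 : IsAffine (f ⁻¹ᵁ Ya).toScheme := hXa
    have k6 : Etale (w ≫ (f ⁻¹ᵁ Ya).ι) := by
      rw [hw]
      infer_instance
    have k7 : Etale w := Etale.of_comp w (f ⁻¹ᵁ Ya).ι
    have k8 : Etale (Over.mk w).hom := k7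
    have k9 : IsAffineHom (Over.mk w).hom := inferInstanceAs (IsAffineHom w)
    obtain ⟨Ua, -, -, hUa, ⟨ea⟩⟩ := exists_etale_pullback_iso pa (Over.mk w)
    let U' : Over Y := Over.mk (Ua.hom ≫ Ya.ι)
    have hU' : Etale U'.hom := inferInstanceAs (Etale (Ua.hom ≫ Ya.ι))
    let E' : Over X := Over.mk (W.ι ≫ E.hom)
    have hE' : Etale E'.hom := inferInstanceAs (Etale (W.ι ≫ E.hom))
    have hO : IsPullback (pullback.snd Ua.hom pa ≫ (f ⁻¹ᵁ Ya).ι) (pullback.fst Ua.hom pa) f
        (Ua.hom ≫ Ya.ι) := (IsPullback.of_hasPullback Ua.hom pa).flip.paste_horiz hR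
    have hea : ea.hom.left ≫ w = pullback.snd Ua.hom pa := Over.w ea.hom
    let a : ((toDD f).obj U').obj ≅ E' :=
      Over.isoMk (hO.isoPullback.symm ≪≫ (Over.forget _).mapIso ea) (by
        change (hO.isoPullback.inv ≫ ea.hom.left) ≫ W.ι ≫ E.hom = pullback.fst f (Ua.hom ≫ Ya.ι)
        rw [← hw, Category.assoc, ← Category.assoc ea.hom.left, hea]
        exact hO.isoPullback_inv_fst)
    have l1 : Etale ((toDD f).obj U').obj.hom :=
      inferInstanceAs (Etale (pullback.fst f U'.hom))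
    have l2 : Etale (radDD f E').obj.hom := hE'
    refine ⟨radDD f E', homOfRadicial _ _ (Over.homMk W.ι rfl), ?_, ?_, U', hU',
      ⟨isoOfRadicial _ _ a⟩⟩
    · exact inferInstanceAs (IsOpenImmersion W.ι)
    · change v ∈ Set.range W.ι
      rw [Scheme.Opens.range_ι]
      exact hvW)
  exact ⟨U, hU, ⟨(canObjIso f U).symm ≪≫ objIso e⟩⟩

end Groth.Agent.Lib.UHEtDescH52
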