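import Groth.Agent.Lib.UHFPCofinalH52
import Groth.Agent.Lib.ColimDescent96

/-!
# Étale algebras over a universally homeomorphic ring extension descend to a finitely presented
stage (helper52)

`exists_factor_of_isUH`: if `A → B` is a universal homeomorphism on spectra and `C` is an étale
`B`-algebra, there is a factorization `A → G → B` with `G` a finitely presented `A`-algebra,
universally homeomorphic over `A`, and an étale `G`-algebra `Ci` with `C ≅ B ⊗[G] Ci`.
-/

set_option autoImplicit false
set_option linter.style.haveILetI false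

universe u

open TensorProduct

namespace Groth.Agent.Lib.UHEtRingH52

open Groth.Agent.Lib.UHFPSysH52 Groth.Agent.Lib.UHRingH52 Groth.Agent.Lib.UHFPCofinalH52
  Groth.Agent.Lib.ColimDescent96 MvPolynomial

variable {A B : Type u} [CommRing A] [CommRing B] [Algebra A B]

theorem isWeakColim_of_cofinal {Q : ∀ (C : Type u) [CommRing C], (A →+* C) → Prop}
    (hQ : Cofinal (A := A) (B := B) Q) :
    IsWeakColim (fun i : Idx A B Q => Cring i) (fun i => (toB i).toRingHom) := by
  classical
  have h1 := isDirected_of_cofinal hQ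
  have h2 := nonempty_of_cofinal hQ
  refine isWeakColim_of_directed (fun i j h => (UHFPSysH52.trans h).toRingHom) ?_ ?_ ?_
  · intro i j h
    apply RingHom.ext
    intro x
    exact toB_trans h x
  · intro b
    have hb : b ∈ ({b} : Finset B) := Finset.mem_singleton_self b
    obtain ⟨k, h, -⟩ := hQ {b} ⊥ Submodule.fg_bot bot_le
    refine ⟨k, Ideal.Quotient.mk k.I (X ⟨b, h hb⟩), ?_⟩
    change toB k (Ideal.Quotient.mk k.I (X ⟨b, h hb⟩)) = b
    rw [toB_mk]
    unfold ev
    rw [aeval_X]
  · intro i x hx
    obtain ⟨f, rfl⟩ := Ideal.Quotient.mk_surjective x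
    have hf : ev A i.S f = 0 := by
      have h3 : toB i (Ideal.Quotient.mk i.I f) = 0 := hx
      rwa [toB_mk] at h3
    obtain ⟨k, h, hk⟩ := hQ i.S (i.I ⊔ Ideal.span {f})
      (Submodule.FG.sup i.fg ⟨{f}, by simp⟩) (by
        rw [sup_le_iff, Ideal.span_le]
        refine ⟨i.le, ?_⟩
        intro z hz
        rw [Set.mem_singleton_iff] at hz
        rw [hz]
        exact hf)
    have hik : i ≤ k := ⟨h, fun p hp => hk (Ideal.mem_sup_left hp)⟩
    refine ⟨k, hik, ?_⟩
    change UHFPSysH52.trans hik (Ideal.Quotient.mk i.I f) = 0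
    rw [trans_mk _ h, Ideal.Quotient.eq_zero_iff_mem]
    exact hk (Ideal.mem_sup_right (Ideal.subset_span (Set.mem_singleton f)))

/-- An étale algebra over a universally homeomorphic extension `B` of `A` comes from an étale
algebra over a finitely presented universally homeomorphic `A`-algebra mapping to `B`. -/
theorem exists_factor_of_isUH (hU : IsUH (algebraMap A B)) (C : Type u) [CommRing C]
    [Algebra B C] [Algebra.Etale B C] :
    ∃ (G : Type u) (_ : CommRing G) (_ : Algebra A G) (_ : Algebra G B)
      (_ : IsScalarTower A G B) (Ci : Type u) (_ : CommRing Ci) (_ : Algebra G Ci),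
      Algebra.FinitePresentation A G ∧ IsUH (algebraMap A G) ∧ Algebra.Etale G Ci ∧
      Nonempty (C ≃ₐ[B] B ⊗[G] Ci) := by
  have hcof := cofinal_isUH hU
  have hW := isWeakColim_of_cofinal hcof
  obtain ⟨i, Ci, _, _, hE, ⟨e⟩⟩ := hW.exists_etale_descent C
  let _ : Algebra (Cring i) B := ((toB i).toRingHom).toAlgebra
  have : IsScalarTower A (Cring i) B :=
    IsScalarTower.of_algebraMap_eq (fun a => ((toB i).commutes a).symm)
  refine ⟨Cring i, inferInstance, inferInstance, inferInstance, this, Ci, inferInstance,
    inferInstance, ?_, i.good, hE, ⟨e⟩⟩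
  exact Algebra.FinitePresentation.quotient i.fg

end Groth.Agent.Lib.UHEtRingH52
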