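import Groth.Agent.S3687
import Groth.Agent.Lib.RadicialIsoH52
import Groth.Agent.Lib.UHEtRingH52

/-!
# Étale schemes descend along universal homeomorphisms: affine core (helper52)
-/

set_option autoImplicit false
set_option linter.style.haveILetI false
set_option backward.isDefEq.respectTransparency false
set_option backward.isDefEq.respectTransparency.types false

universe u

open CategoryTheory CategoryTheory.Limits AlgebraicGeometry Opposite TensorProduct

namespace Groth.Agent.Lib.UHEtDescH52

open Desc Groth.Agent.Lib.EffDescH52 Groth.Agent.Lib.RadicialDDH52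
  Groth.Agent.Lib.RadicialIsoH52

/-- The object of a canonical descent datum is the pullback (with the factors swapped). -/
noncomputable def canObjIso {X Y : Scheme.{u}} (p : X ⟶ Y) (U : Over Y) :
    ((toDD p).obj U).obj ≅ (Over.pullback p).obj U :=
  Over.isoMk (pullbackSymmetry p U.hom) (by
    change (pullbackSymmetry p U.hom).hom ≫ pullback.snd U.hom p = pullback.fst p U.hom
    simp)

/-- If `p = q ≫ g` with `g` finite, finitely presented, surjective and radicial, every étale
separated quasi-compact scheme over the middle scheme descends (after pullback along `q`). -/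
theorem exists_etale_iso_of_factor {X Y Z : Scheme.{u}} (p : X ⟶ Y) (q : X ⟶ Z) (g : Z ⟶ Y)
    (hp : q ≫ g = p)
    [IsFinite g] [Surjective g] [LocallyOfFinitePresentation g] [UniversallyInjective g]
    (VZ : Over Z) [Etale VZ.hom] [QuasiCompact VZ.hom] [IsSeparated VZ.hom] :
    ∃ U : Over Y, QuasiCompact U.hom ∧ IsSeparated U.hom ∧ Etale U.hom ∧
      Nonempty ((Over.pullback p).obj U ≅ (Over.pullback q).obj VZ) := by
  subst hp
  have i1 : Etale (radDD g VZ).obj.hom := inferInstanceAs (Etale VZ.hom)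
  have i2 : QuasiCompact (radDD g VZ).obj.hom := inferInstanceAs (QuasiCompact VZ.hom)
  have i3 : IsSeparated (radDD g VZ).obj.hom := inferInstanceAs (IsSeparated VZ.hom)
  obtain ⟨U, hqc, hsep, het, ⟨e⟩⟩ := Groth.Agent.S3687.result g (radDD g VZ)
  refine ⟨U, hqc, hsep, het, ⟨?_⟩⟩
  let eo : ((toDD g).obj U).obj ≅ VZ :=
    { hom := e.hom.hom
      inv := e.inv.hom
      hom_inv_id := by
        have h1 : (e.hom ≫ e.inv).hom = (𝟙 ((toDD g).obj U) : _ ⟶ _).hom := by
          rw [e.hom_inv_id]
        exact h1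
      inv_hom_id := by
        have h1 : (e.inv ≫ e.hom).hom = (𝟙 (radDD g VZ) : _ ⟶ _).hom := by
          rw [e.inv_hom_id]
        exact h1 }
  exact (Over.pullbackComp q g).app U ≪≫
    (Over.pullback q).mapIso ((canObjIso g U).symm ≪≫ eo)

open Groth.Agent.Lib.UHRingH52 Groth.Agent.Lib.UHEtRingH52 in
/-- **Affine core**: over an affine base, an étale scheme affine over the source of a universal
homeomorphism `p` descends along `p`. -/
theorem exists_etale_iso_of_isAffine {X Y : Scheme.{u}} (p : X ⟶ Y) [IsAffine Y]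
    [IsIntegralHom p] [UniversallyInjective p] [Surjective p]
    (D : SchDD p) [Etale D.obj.hom] [IsAffineHom D.obj.hom] :
    ∃ U : Over Y, QuasiCompact U.hom ∧ IsSeparated U.hom ∧ Etale U.hom ∧
      Nonempty ((toDD p).obj U ≅ D) := by
  have hX : IsAffine X := isAffine_of_isAffineHom p
  have hV : IsAffine D.obj.left := isAffine_of_isAffineHom D.obj.hom
  let A : Type u := Γ(Y, ⊤)
  let B : Type u := Γ(X, ⊤)
  let C : Type u := Γ(D.obj.left, ⊤)
  let _ : Algebra A B := p.appTop.hom.toAlgebra
  let _ : Algebra B C := D.obj.hom.appTop.hom.toAlgebra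
  have hE : Algebra.Etale B C :=
    (HasRingHomProperty.iff_of_isAffine (P := @Etale)).mp ‹Etale D.obj.hom›
  have hpU : FlatMor.IsUnivHomeo p :=
    (Groth.Agent.Lib.UnivHomeo.iff_isIntegralHom_universallyInjective_surjective p).mpr
      ⟨inferInstance, inferInstance, inferInstance⟩
  have hpU' : FlatMor.IsUnivHomeo (Spec.map p.appTop) := by
    have h1 : FlatMor.IsUnivHomeo (X.isoSpec.hom ≫ Spec.map p.appTop) := by
      rw [Scheme.isoSpec_hom_naturality]
      exact (MorphismProperty.cancel_right_of_respectsIso FlatMor.IsUnivHomeo p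
        Y.isoSpec.hom).mpr hpU
    exact (MorphismProperty.cancel_left_of_respectsIso FlatMor.IsUnivHomeo X.isoSpec.hom
      (Spec.map p.appTop)).mp h1
  have hU : IsUH (algebraMap A B) := (isUnivHomeo_iff (algebraMap A B)).mp hpU'
  obtain ⟨G, _, _, _, hT, Ci, _, _, hfp, hUG, hEi, ⟨e⟩⟩ := exists_factor_of_isUH hU C
  let g₀ : Spec (.of G) ⟶ Spec (.of A) := Spec.map (CommRingCat.ofHom (algebraMap A G))
  have hg₀ : FlatMor.IsUnivHomeo g₀ := (isUnivHomeo_iff (algebraMap A G)).mpr hUG
  let g : Spec (.of G) ⟶ Y := g₀ ≫ Y.isoSpec.inv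
  let q : X ⟶ Spec (.of G) := X.isoSpec.hom ≫ Spec.map (CommRingCat.ofHom (algebraMap G B))
  have hqg : q ≫ g = p := by
    dsimp only [q, g, g₀]
    rw [Category.assoc, ← Category.assoc (Spec.map _), ← Spec.map_comp, ← CommRingCat.ofHom_comp,
      ← IsScalarTower.algebraMap_eq]
    change X.isoSpec.hom ≫ Spec.map p.appTop ≫ Y.isoSpec.inv = p
    rw [Scheme.isoSpec_inv_naturality, Iso.hom_inv_id_assoc]
  have hgU : FlatMor.IsUnivHomeo g :=
    Groth.Agent.Lib.UnivHomeo.comp hg₀ (Groth.Agent.Lib.UnivHomeo.of_isIso _)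
  obtain ⟨i1, i2, i3⟩ :=
    (Groth.Agent.Lib.UnivHomeo.iff_isIntegralHom_universallyInjective_surjective g).mp hgU
  have i4 : LocallyOfFinitePresentation g₀ :=
    (HasRingHomProperty.Spec_iff (P := @LocallyOfFinitePresentation)).mpr
      (RingHom.finitePresentation_algebraMap.mpr hfp)
  have i5 : LocallyOfFinitePresentation g := inferInstance
  have i6 : IsFinite g :=
    (IsFinite.iff_isIntegralHom_and_locallyOfFiniteType g).mpr ⟨i1, inferInstance⟩
  let VZ : Over (Spec (.of G)) := Over.mk (Spec.map (CommRingCat.ofHom (algebraMap G Ci)))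
  have j1 : Etale VZ.hom :=
    (HasRingHomProperty.Spec_iff (P := @Etale)).mpr (RingHom.etale_algebraMap.mpr hEi)
  have j2 : QuasiCompact VZ.hom := inferInstanceAs (QuasiCompact (Spec.map _))
  have j3 : IsSeparated VZ.hom := inferInstanceAs (IsSeparated (Spec.map _))
  obtain ⟨U, hqc, hsep, het, ⟨e1⟩⟩ := exists_etale_iso_of_factor p q g hqg VZ
  -- the pullback square
  let ψ : Ci →+* C := (e.symm : B ⊗[G] Ci →+* C).comp
    (Algebra.TensorProduct.includeRight : Ci →ₐ[G] B ⊗[G] Ci).toRingHom
  have hpo : IsPushout (CommRingCat.ofHom (algebraMap G B)) (CommRingCat.ofHom (algebraMap G Ci))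
      (CommRingCat.ofHom (algebraMap B C)) (CommRingCat.ofHom ψ) := by
    refine (CommRingCat.isPushout_tensorProduct G B Ci).of_iso (Iso.refl _) (Iso.refl _)
      (Iso.refl _) (e.symm.toRingEquiv.toCommRingCatIso) (by simp) (by simp) ?_ ?_
    · ext b
      change e.symm (b ⊗ₜ 1) = algebraMap B C b
      exact e.symm.commutes b
    · ext c
      rfl
  have hsq := isPullback_SpecMap_of_isPushout _ _ _ _ hpo
  have hpb : IsPullback (D.obj.left.isoSpec.hom ≫ Spec.map (CommRingCat.ofHom ψ)) D.obj.hom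
      VZ.hom q := by
    refine IsPullback.of_iso hsq.flip D.obj.left.isoSpec.symm (Iso.refl _) X.isoSpec.symm
      (Iso.refl _) ?_ ?_ ?_ ?_
    · simp
    · change Spec.map D.obj.hom.appTop ≫ X.isoSpec.inv = D.obj.left.isoSpec.inv ≫ D.obj.hom
      exact Scheme.isoSpec_inv_naturality _
    · simp [VZ]
    · simp [q]
  let e2 : D.obj ≅ (Over.pullback q).obj VZ := Over.isoMk hpb.isoPullback (by
    change hpb.isoPullback.hom ≫ pullback.snd VZ.hom q = D.obj.hom
    simp)
  have k1 : Etale ((toDD p).obj U).obj.hom := inferInstanceAs (Etale (pullback.fst p U.hom))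
  exact ⟨U, hqc, hsep, het, ⟨isoOfRadicial _ _ (canObjIso p U ≪≫ e1 ≪≫ e2.symm)⟩⟩

end Groth.Agent.Lib.UHEtDescH52
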