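import Groth.Agent.Lib.UHGenH52

/-!
Relative weak normalization / seminormalization inside an algebra (Stacks 0EUT): for `A → B`
with nilpotent kernel, the subalgebra of elements lying in towers is a universal homeomorphism
over `A` and contains the image of every universal homeomorphism `A → C` mapping to `B`.
-/

set_option autoImplicit false
universe u

namespace Groth.Agent.Lib.UHRelH52

open Groth.Agent.Lib.UHRingH52 Groth.Agent.Lib.UHTowerH52 Groth.Agent.Lib.UHGenH52

variable {A B : Type u} [CommRing A] [CommRing B] [Algebra A B]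

theorem comap_surjective_of_isIntegral_of_ker_le (hint : (algebraMap A B).IsIntegral)
    (hker : RingHom.ker (algebraMap A B) ≤ nilradical A) :
    Function.Surjective (PrimeSpectrum.comap (algebraMap A B)) := by
  intro P
  have : Algebra.IsIntegral A B := ⟨hint⟩
  have hP : RingHom.ker (algebraMap A B) ≤ P.asIdeal :=
    hker.trans (nilradical_le_prime P.asIdeal)
  obtain ⟨Q, -, hQ, hQP⟩ := Ideal.exists_ideal_over_prime_of_isIntegral P.asIdeal (⊥ : Ideal B)
    (by rw [← RingHom.ker_eq_comap_bot]; exact hP)
  exact ⟨⟨Q, hQ⟩, PrimeSpectrum.ext hQP⟩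

theorem isUH_of_exhausts_of_ker_le (h : Exhausts A B StepAny)
    (hker : RingHom.ker (algebraMap A B) ≤ nilradical A) : IsUH (algebraMap A B) :=
  ⟨isIntegral_of_exhausts h,
    comap_surjective_of_isIntegral_of_ker_le (isIntegral_of_exhausts h) hker, uniq_of_exhausts h⟩

theorem ker_subalgebra (W : Subalgebra A B) :
    RingHom.ker (algebraMap A W) = RingHom.ker (algebraMap A B) := by
  ext a
  rw [RingHom.mem_ker, RingHom.mem_ker]
  constructor
  · intro h
    have := congrArg Subtype.val h
    exact this
  · intro h
    exact Subtype.ext h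

section TowerSub

variable {PB : Subalgebra A B → B → Prop}
  (hmono : ∀ (C C' : Subalgebra A B) (b : B), C ≤ C' → PB C b → PB C' b)
  (hfin : ∀ (C : Subalgebra A B) (b : B), PB C b → ∃ F : Finset B, (F : Set B) ⊆ C ∧
      ∀ C' : Subalgebra A B, (F : Set B) ⊆ C' → PB C' b)

include hfin in
theorem exhausts_towerSub (PW : Subalgebra A (towerSub hmono) → (towerSub hmono) → Prop)
    (hnat : ∀ (W' : Subalgebra A (towerSub hmono)) (w : towerSub hmono),
      PB (W'.map (towerSub hmono).val) w.val → PW W' w) :
    Exhausts A (towerSub hmono) PW := by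
  intro W' hW'
  have hVW : W'.map (towerSub hmono).val ≤ towerSub hmono := by
    rintro _ ⟨w, _, rfl⟩
    exact w.2
  have hVclosed : ∀ b, PB (W'.map (towerSub hmono).val) b → b ∈ W'.map (towerSub hmono).val := by
    intro b hb
    have hbW : b ∈ towerSub hmono := mem_towerSub_of_step hmono hfin (hmono _ _ _ hVW hb)
    have : (⟨b, hbW⟩ : towerSub hmono) ∈ W' := hW' _ (hnat W' ⟨b, hbW⟩ hb)
    exact ⟨⟨b, hbW⟩, this, rfl⟩
  rw [eq_top_iff]
  intro w _
  obtain ⟨l, hl, hwl⟩ := w.2
  have h1 : w.val ∈ W'.map (towerSub hmono).val := hl.adjoin_le hmono hVclosed hwl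
  obtain ⟨w', hw', hww'⟩ := h1
  have : w' = w := Subtype.ext hww'
  rw [← this]
  exact hw'

theorem step23_nat (W : Subalgebra A B) (W' : Subalgebra A W) (w : W)
    (h : Step23 (W'.map W.val) w.val) : Step23 W' w := by
  obtain ⟨⟨w2, hw2, h2⟩, ⟨w3, hw3, h3⟩⟩ := h
  refine ⟨?_, ?_⟩
  · have : w2 = w ^ 2 := Subtype.ext h2
    rw [← this]; exact hw2
  · have : w3 = w ^ 3 := Subtype.ext h3
    rw [← this]; exact hw3

theorem stepAny_nat (W : Subalgebra A B) (W' : Subalgebra A W) (w : W)
    (h : StepAny (W'.map W.val) w.val) : StepAny W' w := by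
  rcases h with h | ⟨p, hp, ⟨w1, hw1, h1⟩, ⟨w2, hw2, h2⟩⟩
  · exact Or.inl (step23_nat W W' w h)
  · refine Or.inr ⟨p, hp, ?_, ?_⟩
    · have : w1 = (p : W) * w := by
        apply Subtype.ext
        rw [Subalgebra.coe_mul]
        exact h1
      rw [← this]; exact hw1
    · have : w2 = w ^ p := Subtype.ext h2
      rw [← this]; exact hw2

/-- The relative weak normalization of `A` in `B`. -/
def wn (A B : Type u) [CommRing A] [CommRing B] [Algebra A B] : Subalgebra A B :=
  towerSub (P := StepAny (A := A) (B := B)) stepAny_mono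

/-- The relative seminormalization of `A` in `B`. -/
def sn (A B : Type u) [CommRing A] [CommRing B] [Algebra A B] : Subalgebra A B :=
  towerSub (P := Step23 (A := A) (B := B)) step23_mono

theorem exhausts_wn : Exhausts A (wn A B) StepAny :=
  exhausts_towerSub stepAny_mono stepAny_fin _ (stepAny_nat _)

theorem exhausts_sn : Exhausts A (sn A B) Step23 :=
  exhausts_towerSub step23_mono step23_fin _ (step23_nat _)

theorem isUH_wn (hker : RingHom.ker (algebraMap A B) ≤ nilradical A) :
    IsUH (algebraMap A (wn A B)) :=
  isUH_of_exhausts_of_ker_le exhausts_wn (by rw [ker_subalgebra]; exact hker)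

theorem isUH_sn (hker : RingHom.ker (algebraMap A B) ≤ nilradical A) :
    IsUH (algebraMap A (sn A B)) :=
  isUH_of_exhausts_of_ker_le (exhausts_of_le (fun C b hb => Or.inl hb) exhausts_sn)
    (by rw [ker_subalgebra]; exact hker)

theorem resTriv_sn : ResTriv (algebraMap A (sn A B)) := resTriv_of_exhausts exhausts_sn

end TowerSub

section Range

variable {C : Type u} [CommRing C] [Algebra A C] (g : C →ₐ[A] B)

theorem isUH_range (hker : RingHom.ker (algebraMap A B) ≤ nilradical A)
    (hC : IsUH (algebraMap A C)) : IsUH (algebraMap A g.range) := by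
  have hint : (algebraMap A g.range).IsIntegral := by
    rintro ⟨_, c, rfl⟩
    have h1 : IsIntegral A c := hC.1 c
    have h2 : IsIntegral A (g.rangeRestrict c) := h1.map g.rangeRestrict
    exact h2
  refine ⟨hint, comap_surjective_of_isIntegral_of_ker_le hint
    (by rw [ker_subalgebra]; exact hker), ?_⟩
  intro K _ g₁ g₂ hg
  have h1 : g₁.comp (g.rangeRestrict : C →+* g.range) = g₂.comp (g.rangeRestrict : C →+* g.range) := by
    apply hC.eq_of_comp_eq
    ext a
    have := congrArg (fun f : A →+* K => f a) hg
    simpa using this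
  ext ⟨_, c, rfl⟩
  exact congrArg (fun f : C →+* K => f c) h1

theorem resTriv_range (hC : ResTriv (algebraMap A C)) : ResTriv (algebraMap A g.range) := by
  rintro Q ⟨_, c, rfl⟩
  let π : C →+* g.range := g.rangeRestrict
  obtain ⟨a, s, hs, hsa⟩ := hC (PrimeSpectrum.comap π Q) c
  refine ⟨a, s, ?_, ?_⟩
  · intro h
    apply hs
    change π (algebraMap A C s) ∈ Q.asIdeal
    have : π (algebraMap A C s) = algebraMap A g.range s := g.rangeRestrict.commutes s
    rw [this]
    exact h
  · have h1 : π (algebraMap A C s * c - algebraMap A C a) ∈ Q.asIdeal := hsa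
    have h2 : π (algebraMap A C s * c - algebraMap A C a) =
        algebraMap A g.range s * ⟨g c, c, rfl⟩ - algebraMap A g.range a := by
      rw [map_sub, map_mul]
      have e1 : π (algebraMap A C s) = algebraMap A g.range s := g.rangeRestrict.commutes s
      have e2 : π (algebraMap A C a) = algebraMap A g.range a := g.rangeRestrict.commutes a
      rw [e1, e2]
      rfl
    rw [h2] at h1
    exact h1

theorem range_le_wn (hker : RingHom.ker (algebraMap A B) ≤ nilradical A)
    (hC : IsUH (algebraMap A C)) : g.range ≤ wn A B := by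
  have hU := isUH_range g hker hC
  have hex : Exhausts A g.range StepAny := by
    apply exhausts_of_towers stepAny_mono
    intro c
    have htop := towerSub_eq_top_of_isUH hU
    have : c ∈ towerSub (P := StepAny (A := A) (B := g.range)) stepAny_mono := by
      rw [htop]; exact Algebra.mem_top
    exact this
  have htop := hex ((wn A B).comap g.range.val) (by
    intro c hc
    change (c : B) ∈ wn A B
    apply mem_towerSub_of_step stepAny_mono stepAny_fin
    rcases hc with ⟨h2, h3⟩ | ⟨p, hp, h1, h2⟩
    · exact Or.inl ⟨h2, h3⟩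
    · refine Or.inr ⟨p, hp, ?_, h2⟩
      have h1' : ((p : g.range) * c : g.range).val ∈ wn A B := h1
      rw [Subalgebra.coe_mul] at h1'
      exact h1')
  intro b hb
  have : (⟨b, hb⟩ : g.range) ∈ (wn A B).comap g.range.val := by rw [htop]; exact Algebra.mem_top
  exact this

theorem range_le_sn (hker : RingHom.ker (algebraMap A B) ≤ nilradical A)
    (hC : IsUH (algebraMap A C)) (hres : ResTriv (algebraMap A C)) : g.range ≤ sn A B := by
  have hU := isUH_range g hker hC
  have hR := resTriv_range g hres
  have hex : Exhausts A g.range Step23 := by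
    apply exhausts_of_towers step23_mono
    intro c
    have htop := towerSub_eq_top_of_isUH_resTriv hU hR
    have : c ∈ towerSub (P := Step23 (A := A) (B := g.range)) step23_mono := by
      rw [htop]; exact Algebra.mem_top
    exact this
  have htop := hex ((sn A B).comap g.range.val) (by
    intro c hc
    change (c : B) ∈ sn A B
    apply mem_towerSub_of_step step23_mono step23_fin
    exact ⟨hc.1, hc.2⟩)
  intro b hb
  have : (⟨b, hb⟩ : g.range) ∈ (sn A B).comap g.range.val := by rw [htop]; exact Algebra.mem_top
  exact this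

end Range

end Groth.Agent.Lib.UHRelH52
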