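import Groth.Agent.Lib.UHFPSysH52
import Groth.Agent.Lib.UHRelH52

/-!
Cofinality of "good" finite partial presentations of a universal homeomorphism `A → B`
(Stacks 0EUJ): every finite partial presentation `(S₀, I₀)` of `B` can be enlarged to a finite
presentation `(S, I)` such that `A[X_s : s ∈ S] / I` is exhausted by towers of elementary steps,
hence is a universal homeomorphism over `A` (with trivial residue field extensions if `B` is).
-/

set_option autoImplicit false
universe u

open MvPolynomial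

namespace Groth.Agent.Lib.UHFPCofinalH52

open Groth.Agent.Lib.UHRingH52 Groth.Agent.Lib.UHTowerH52 Groth.Agent.Lib.UHGenH52
  Groth.Agent.Lib.UHFPSysH52

variable {A B : Type u} [CommRing A] [CommRing B] [Algebra A B]

/-- The variables whose names lie in `T`. -/
def varSet (S : Finset B) (T : Set B) : Set (MvPolynomial S A) :=
  {f | ∃ s : S, s.1 ∈ T ∧ f = X s}

theorem ev_X (S : Finset B) (s : S) : ev A S (X s) = s.1 := by
  unfold ev
  rw [aeval_X]

theorem exists_lift_of_mem_adjoin (S : Finset B) (T : Set B) (hT : T ⊆ (S : Set B)) {b : B}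
    (hb : b ∈ Algebra.adjoin A T) :
    ∃ F ∈ Algebra.adjoin A (varSet (A := A) S T), ev A S F = b := by
  have h1 : (Algebra.adjoin A (varSet (A := A) S T)).map (ev A S) = Algebra.adjoin A T := by
    rw [AlgHom.map_adjoin]
    congr 1
    ext c
    constructor
    · rintro ⟨_, ⟨s, hs, rfl⟩, rfl⟩
      rw [ev_X]
      exact hs
    · intro hc
      exact ⟨X ⟨c, Finset.mem_coe.mp (hT hc)⟩, ⟨⟨c, Finset.mem_coe.mp (hT hc)⟩, hc, rfl⟩, ev_X _ _⟩
  rw [← h1] at hb
  obtain ⟨F, hF, rfl⟩ := hb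
  exact ⟨F, hF, rfl⟩

omit [CommRing B] [Algebra A B] in
theorem mk_mem_of_mem_adjoin (S : Finset B) (T : Set B) (I : Ideal (MvPolynomial S A))
    (W : Subalgebra A (MvPolynomial S A ⧸ I))
    (hW : ∀ t : S, t.1 ∈ T → Ideal.Quotient.mk I (X t) ∈ W) {F : MvPolynomial S A}
    (hF : F ∈ Algebra.adjoin A (varSet (A := A) S T)) : Ideal.Quotient.mk I F ∈ W := by
  have : Algebra.adjoin A (varSet (A := A) S T) ≤ W.comap (Ideal.Quotient.mkₐ A I) := by
    apply Algebra.adjoin_le
    rintro _ ⟨t, ht, rfl⟩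
    exact hW t ht
  exact this hF

/-- A step predicate on `B` lifts to finite partial presentations. -/
def Liftable (PB : Subalgebra A B → B → Prop)
    (PC : ∀ (S : Finset B) (I : Ideal (MvPolynomial S A)),
      Subalgebra A (MvPolynomial S A ⧸ I) → (MvPolynomial S A ⧸ I) → Prop) : Prop :=
  ∀ (S : Finset B) (T : Set B), T ⊆ (S : Set B) → ∀ s : S, PB (Algebra.adjoin A T) s.1 →
    ∃ R : Finset (MvPolynomial S A), (∀ r ∈ R, ev A S r = 0) ∧
      ∀ (I : Ideal (MvPolynomial S A)), (∀ r ∈ R, r ∈ I) →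
        ∀ W : Subalgebra A (MvPolynomial S A ⧸ I),
          (∀ t : S, t.1 ∈ T → Ideal.Quotient.mk I (X t) ∈ W) →
            PC S I W (Ideal.Quotient.mk I (X s))

theorem liftable_step23 : Liftable (A := A) (B := B) Step23 (fun _ _ => Step23) := by
  classical
  intro S T hT s hs
  obtain ⟨F, hF, hF'⟩ := exists_lift_of_mem_adjoin S T hT hs.1
  obtain ⟨G, hG, hG'⟩ := exists_lift_of_mem_adjoin S T hT hs.2
  refine ⟨{X s ^ 2 - F, X s ^ 3 - G}, ?_, ?_⟩
  · intro r hr
    rw [Finset.mem_insert, Finset.mem_singleton] at hr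
    rcases hr with rfl | rfl
    · rw [map_sub, map_pow, ev_X, hF', sub_self]
    · rw [map_sub, map_pow, ev_X, hG', sub_self]
  · intro I hI W hW
    have h2 : Ideal.Quotient.mk I (X s) ^ 2 = Ideal.Quotient.mk I F := by
      rw [← map_pow, Ideal.Quotient.eq]
      exact hI _ (by simp)
    have h3 : Ideal.Quotient.mk I (X s) ^ 3 = Ideal.Quotient.mk I G := by
      rw [← map_pow, Ideal.Quotient.eq]
      exact hI _ (by simp)
    refine ⟨?_, ?_⟩
    · rw [h2]; exact mk_mem_of_mem_adjoin S T I W hW hF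
    · rw [h3]; exact mk_mem_of_mem_adjoin S T I W hW hG

theorem liftable_stepAny : Liftable (A := A) (B := B) StepAny (fun _ _ => StepAny) := by
  classical
  intro S T hT s hs
  rcases hs with hs | ⟨p, hp, hs1, hs2⟩
  · obtain ⟨R, hR1, hR2⟩ := liftable_step23 S T hT s hs
    exact ⟨R, hR1, fun I hI W hW => Or.inl (hR2 I hI W hW)⟩
  · obtain ⟨F, hF, hF'⟩ := exists_lift_of_mem_adjoin S T hT hs1
    obtain ⟨G, hG, hG'⟩ := exists_lift_of_mem_adjoin S T hT hs2
    refine ⟨{(p : MvPolynomial S A) * X s - F, X s ^ p - G}, ?_, ?_⟩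
    · intro r hr
      rw [Finset.mem_insert, Finset.mem_singleton] at hr
      rcases hr with rfl | rfl
      · rw [map_sub, map_mul, map_natCast, ev_X, hF', sub_self]
      · rw [map_sub, map_pow, ev_X, hG', sub_self]
    · intro I hI W hW
      have h2 : (p : MvPolynomial S A ⧸ I) * Ideal.Quotient.mk I (X s) = Ideal.Quotient.mk I F := by
        rw [← map_natCast (Ideal.Quotient.mk I), ← map_mul, Ideal.Quotient.eq]
        exact hI _ (by simp)
      have h3 : Ideal.Quotient.mk I (X s) ^ p = Ideal.Quotient.mk I G := by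
        rw [← map_pow, Ideal.Quotient.eq]
        exact hI _ (by simp)
      refine Or.inr ⟨p, hp, ?_, ?_⟩
      · rw [h2]; exact mk_mem_of_mem_adjoin S T I W hW hF
      · rw [h3]; exact mk_mem_of_mem_adjoin S T I W hW hG

theorem exists_good (PB : Subalgebra A B → B → Prop)
    (PC : ∀ (S : Finset B) (I : Ideal (MvPolynomial S A)),
      Subalgebra A (MvPolynomial S A ⧸ I) → (MvPolynomial S A ⧸ I) → Prop)
    (hmono : ∀ (C C' : Subalgebra A B) (b : B), C ≤ C' → PB C b → PB C' b)
    (hlift : Liftable PB PC)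
    (htop : towerSub hmono = ⊤)
    (S₀ : Finset B) (I₀ : Ideal (MvPolynomial S₀ A)) (hfg : I₀.FG)
    (hle : I₀ ≤ RingHom.ker (ev A S₀)) :
    ∃ (S : Finset B) (h : S₀ ⊆ S) (I : Ideal (MvPolynomial S A)), I.FG ∧
      I ≤ RingHom.ker (ev A S) ∧ I₀ ≤ I.comap (ren A h) ∧
      Exhausts A (MvPolynomial S A ⧸ I) (PC S I) := by
  classical
  obtain ⟨l, hl, hS₀⟩ := exists_tower_of_finset hmono S₀
    (fun b _ => by rw [htop]; exact Algebra.mem_top)
  set S : Finset B := S₀ ∪ l.toFinset with hS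
  have h0 : S₀ ⊆ S := Finset.subset_union_left
  have hlS : ∀ c ∈ l, c ∈ S := fun c hc => Finset.mem_union_right _ (List.mem_toFinset.mpr hc)
  have hearlier : ∀ i : Fin l.length, earlier l i ⊆ (S : Set B) := by
    rintro i _ ⟨j, -, rfl⟩
    exact Finset.mem_coe.mpr (hlS _ (List.get_mem l j))
  let v : Fin l.length → S := fun i => ⟨l.get i, hlS _ (List.get_mem l i)⟩
  have hstep := fun i : Fin l.length => hlift S (earlier l i) (hearlier i) (v i) (hl i)
  choose R hR1 hR2 using hstep
  have hL : {c | c ∈ l} ⊆ (S : Set B) := fun c hc => Finset.mem_coe.mpr (hlS c hc)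
  have hS₀' : ∀ s : S₀, ∃ H ∈ Algebra.adjoin A (varSet (A := A) S {c | c ∈ l}),
      ev A S H = s.1 :=
    fun s => exists_lift_of_mem_adjoin S _ hL (hS₀ (Finset.mem_coe.mpr s.2))
  choose H hH1 hH2 using hS₀'
  let R₀ : Finset (MvPolynomial S A) :=
    Finset.univ.image (fun s : S₀ => X ⟨s.1, h0 s.2⟩ - H s)
  let Rall : Finset (MvPolynomial S A) := R₀ ∪ Finset.univ.biUnion R
  let I : Ideal (MvPolynomial S A) := I₀.map (ren A h0) ⊔ Ideal.span (Rall : Set _)
  refine ⟨S, h0, I, ?_, ?_, ?_, ?_⟩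
  · exact Submodule.FG.sup (Ideal.FG.map hfg _) ⟨Rall, rfl⟩
  · rw [sup_le_iff, Ideal.map_le_iff_le_comap, Ideal.span_le]
    refine ⟨fun f hf => ?_, fun r hr => ?_⟩
    · rw [Ideal.mem_comap, RingHom.mem_ker]
      exact (ev_ren h0 f).trans (hle hf)
    · rw [Finset.mem_coe, Finset.mem_union] at hr
      rw [SetLike.mem_coe, RingHom.mem_ker]
      rcases hr with hr | hr
      · obtain ⟨s, -, rfl⟩ := Finset.mem_image.mp hr
        rw [map_sub, hH2, ev_X, sub_self]
      · obtain ⟨i, -, hri⟩ := Finset.mem_biUnion.mp hr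
        exact hR1 i r hri
  · intro f hf
    exact Ideal.mem_sup_left (Ideal.mem_map_of_mem _ hf)
  · intro W hW
    have hRI : ∀ r ∈ Rall, r ∈ I := fun r hr => Ideal.mem_sup_right (Ideal.subset_span hr)
    have key : ∀ n : ℕ, ∀ i : Fin l.length, i.val = n →
        Ideal.Quotient.mk I (X (v i)) ∈ W := by
      intro n
      induction n using Nat.strong_induction_on with
      | _ n ih =>
        intro i hi
        apply hW
        apply hR2 i I (fun r hr => hRI r (Finset.mem_union_right _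
          (Finset.mem_biUnion.mpr ⟨i, Finset.mem_univ _, hr⟩))) W
        rintro t ⟨j, hj, htj⟩
        have : t = v j := Subtype.ext htj
        rw [this]
        exact ih j.val (hi ▸ hj) j rfl
    have hl' : ∀ t : S, t.1 ∈ {c | c ∈ l} → Ideal.Quotient.mk I (X t) ∈ W := by
      intro t ht
      obtain ⟨i, hi⟩ := List.mem_iff_get.mp ht
      have : t = v i := Subtype.ext hi.symm
      rw [this]
      exact key i.val i rfl
    have hall : ∀ t : S, Ideal.Quotient.mk I (X t) ∈ W := by
      intro t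
      rcases Finset.mem_union.mp t.2 with ht | ht
      · have hrel : X t - H ⟨t.1, ht⟩ ∈ I :=
          hRI _ (Finset.mem_union_left _
            (Finset.mem_image.mpr ⟨⟨t.1, ht⟩, Finset.mem_univ _, rfl⟩))
        have : Ideal.Quotient.mk I (X t) = Ideal.Quotient.mk I (H ⟨t.1, ht⟩) :=
          Ideal.Quotient.eq.mpr hrel
        rw [this]
        exact mk_mem_of_mem_adjoin S _ I W hl' (hH1 _)
      · exact hl' t (List.mem_toFinset.mp ht)
    rw [eq_top_iff]
    intro c _
    obtain ⟨f, rfl⟩ := Ideal.Quotient.mk_surjective c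
    have : (⊤ : Subalgebra A (MvPolynomial S A)) ≤ W.comap (Ideal.Quotient.mkₐ A I) := by
      rw [← MvPolynomial.adjoin_range_X]
      apply Algebra.adjoin_le
      rintro _ ⟨t, rfl⟩
      exact hall t
    exact this Algebra.mem_top

theorem isUH_of_exhausts_of_algHom {C : Type u} [CommRing C] [Algebra A C]
    (hex : Exhausts A C StepAny) (g : C →ₐ[A] B) (hU : IsUH (algebraMap A B)) :
    IsUH (algebraMap A C) := by
  refine ⟨isIntegral_of_exhausts hex, ?_, uniq_of_exhausts hex⟩
  intro P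
  obtain ⟨Q, rfl⟩ := hU.2.1 P
  refine ⟨PrimeSpectrum.comap g.toRingHom Q, ?_⟩
  rw [← PrimeSpectrum.comap_comp_apply]
  congr 1
  exact g.comp_algebraMap

theorem cofinal_isUH (hU : IsUH (algebraMap A B)) :
    Cofinal (A := A) (B := B) (fun _ _ f => IsUH f) := by
  intro S₀ I₀ hfg hle
  obtain ⟨S, h, I, hIfg, hIle, hcomap, hex⟩ := exists_good StepAny (fun _ _ => StepAny)
    stepAny_mono liftable_stepAny (towerSub_eq_top_of_isUH hU) S₀ I₀ hfg hle
  refine ⟨⟨S, I, hIfg, hIle, ?_⟩, h, hcomap⟩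
  exact isUH_of_exhausts_of_algHom hex (Ideal.Quotient.liftₐ I (ev A S) hIle) hU

theorem cofinal_isUH_resTriv (hU : IsUH (algebraMap A B)) (hres : ResTriv (algebraMap A B)) :
    Cofinal (A := A) (B := B) (fun _ _ f => IsUH f ∧ ResTriv f) := by
  intro S₀ I₀ hfg hle
  obtain ⟨S, h, I, hIfg, hIle, hcomap, hex⟩ := exists_good Step23 (fun _ _ => Step23)
    step23_mono liftable_step23 (towerSub_eq_top_of_isUH_resTriv hU hres) S₀ I₀ hfg hle
  refine ⟨⟨S, I, hIfg, hIle, ?_, ?_⟩, h, hcomap⟩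
  · exact isUH_of_exhausts_of_algHom (exhausts_of_le (fun C b hb => Or.inl hb) hex)
      (Ideal.Quotient.liftₐ I (ev A S) hIle) hU
  · exact resTriv_of_exhausts hex

end Groth.Agent.Lib.UHFPCofinalH52
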