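import Groth.Agent.Lib.UHRingH52
import Groth.Agent.Lib.EtaPtDescent
import Mathlib.FieldTheory.IsAlgClosed.AlgebraicClosure

/-!
Factorizations `φ = ψ ∘ χ` with `ψ` injective: ring-level universal homeomorphisms (and related
properties) pass from `φ` to `χ` and to `ψ`.  (Stacks 0CNA.)
-/

set_option autoImplicit false
universe u

namespace Groth.Agent.Lib.UHFactorH52

open Groth.Agent.Lib.UHRingH52

variable {A C B : Type u} [CommRing A] [CommRing C] [CommRing B]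
  (χ : A →+* C) (ψ : C →+* B)

/-- Uniqueness of field valued points descends to an intermediate ring. -/
theorem uniq_left (hψ : Function.Injective ψ) (hint : (ψ.comp χ).IsIntegral)
    (huniq : ∀ (K : Type u) [Field K] (g₁ g₂ : B →+* K),
      g₁.comp (ψ.comp χ) = g₂.comp (ψ.comp χ) → g₁ = g₂)
    (K : Type u) [Field K] (g₁ g₂ : C →+* K) (hg : g₁.comp χ = g₂.comp χ) : g₁ = g₂ := by
  have hψint : ψ.IsIntegral := RingHom.IsIntegral.tower_top χ ψ hint
  have hsurj : Function.Surjective (PrimeSpectrum.comap ψ) := hψint.comap_surjective hψ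
  let ι : K →+* AlgebraicClosure K := algebraMap K (AlgebraicClosure K)
  obtain ⟨h₁, hh₁⟩ := Groth.Agent.Lib.EtaPtDescent.exists_extension_of_isIntegral ψ hψint hsurj
    (ι.comp g₁)
  obtain ⟨h₂, hh₂⟩ := Groth.Agent.Lib.EtaPtDescent.exists_extension_of_isIntegral ψ hψint hsurj
    (ι.comp g₂)
  have h12 : h₁ = h₂ := by
    apply huniq
    rw [← RingHom.comp_assoc, ← RingHom.comp_assoc, hh₁, hh₂, RingHom.comp_assoc,
      RingHom.comp_assoc, hg]
  have h3 : ι.comp g₁ = ι.comp g₂ := by rw [← hh₁, ← hh₂, h12]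
  ext c
  apply ι.injective
  exact congrArg (fun f : C →+* AlgebraicClosure K => f c) h3

theorem IsUH.left (hψ : Function.Injective ψ) (h : IsUH (ψ.comp χ)) : IsUH χ := by
  obtain ⟨h1, h2, h3⟩ := h
  refine ⟨RingHom.IsIntegral.tower_bot χ ψ hψ h1, ?_, uniq_left χ ψ hψ h1 h3⟩
  intro P
  obtain ⟨Q, hQ⟩ := h2 P
  exact ⟨PrimeSpectrum.comap ψ Q, hQ⟩

theorem IsUH.right (hψ : Function.Injective ψ) (h : IsUH (ψ.comp χ)) : IsUH ψ := by
  obtain ⟨h1, h2, h3⟩ := h
  have hψint : ψ.IsIntegral := RingHom.IsIntegral.tower_top χ ψ h1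
  refine ⟨hψint, hψint.comap_surjective hψ, fun K _ g₁ g₂ hg => h3 K g₁ g₂ ?_⟩
  rw [← RingHom.comp_assoc, ← RingHom.comp_assoc, hg]

theorem ResTriv.left (hψ : Function.Injective ψ) (hint : (ψ.comp χ).IsIntegral)
    (h : ResTriv (ψ.comp χ)) : ResTriv χ := by
  have hψint : ψ.IsIntegral := RingHom.IsIntegral.tower_top χ ψ hint
  intro Q' c
  obtain ⟨Q, rfl⟩ := hψint.comap_surjective hψ Q'
  obtain ⟨a, s, hs, hsa⟩ := h Q (ψ c)
  refine ⟨a, s, hs, ?_⟩
  change ψ (χ s * c - χ a) ∈ Q.asIdeal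
  rw [map_sub, map_mul]
  exact hsa

theorem ResTriv.right (h : ResTriv (ψ.comp χ)) : ResTriv ψ := by
  intro Q b
  obtain ⟨a, s, hs, hsa⟩ := h Q b
  exact ⟨χ a, χ s, hs, hsa⟩

end Groth.Agent.Lib.UHFactorH52
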