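import Groth.Agent.Lib.UHSnSchemeH52
import Mathlib.AlgebraicGeometry.Morphisms.SchemeTheoreticallyDominant
import Mathlib.AlgebraicGeometry.Morphisms.Proper
import Mathlib.AlgebraicGeometry.Morphisms.Finite
import Mathlib.AlgebraicGeometry.Morphisms.Integral
import Mathlib.AlgebraicGeometry.Noetherian

/-!
Scheme-theoretic image ("graph") factorization of a universal homeomorphism.

Given `k : T' ⟶ P` and a separated `q : P ⟶ T` such that `k ≫ q` is a universal homeomorphism, the
scheme-theoretic image `T₁ := k.image` gives a factorization `T' ⟶ T₁ ⟶ T` where `T' ⟶ T₁` is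
surjective and scheme-theoretically dominant and `T₁ ⟶ T` is a universal homeomorphism
(finite if `q` is locally of finite type).
-/

set_option autoImplicit false
universe u

open CategoryTheory AlgebraicGeometry Limits

namespace Groth.Agent.Lib.UHImageH52

open Groth.Agent.Lib.UnivHomeo Groth.Agent.Lib.UHSnSchemeH52

/-- If `f` is a continuous surjection and `g ∘ f` is a homeomorphism, then so is `g`. -/
theorem isHomeomorph_of_comp_surjective {A B C : Type*} [TopologicalSpace A] [TopologicalSpace B]
    [TopologicalSpace C] {f : A → B} {g : B → C} (hf : Continuous f) (hfs : Function.Surjective f)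
    (hg : Continuous g) (h : IsHomeomorph (g ∘ f)) : IsHomeomorph g := by
  have hinj : Function.Injective g := by
    intro a b hab
    obtain ⟨a', rfl⟩ := hfs a
    obtain ⟨b', rfl⟩ := hfs b
    exact congrArg f (h.injective hab)
  have hsurj : Function.Surjective g := fun c => by
    obtain ⟨a, ha⟩ := h.surjective c
    exact ⟨f a, ha⟩
  refine ⟨hg, ?_, ⟨hinj, hsurj⟩⟩
  intro U hU
  have : g '' U = (g ∘ f) '' (f ⁻¹' U) := by
    rw [Set.image_comp, Set.image_preimage_eq _ hfs]
  rw [this]
  exact h.isOpenMap _ (hU.preimage hf)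

variable {X Y Z : Scheme.{u}}

/-- If `h` is surjective and `h ≫ π` is a universal homeomorphism, then so is `π`. -/
theorem isUnivHomeo_of_comp_surjective (h : X ⟶ Y) (π : Y ⟶ Z) [Surjective h]
    (H : FlatMor.IsUnivHomeo (h ≫ π)) : FlatMor.IsUnivHomeo π := by
  intro Y' Z' i₁ i₂ π' sq
  have sq2 : IsPullback (pullback.fst i₁ h) (pullback.snd i₁ h) i₁ h := IsPullback.of_hasPullback _ _
  have sq3 := sq2.paste_horiz sq
  have hh : IsHomeomorph (pullback.fst i₁ h ≫ π') := H _ _ _ sq3
  have hs : Surjective (pullback.fst i₁ h) := inferInstance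
  exact isHomeomorph_of_comp_surjective (pullback.fst i₁ h).continuous
    (pullback.fst i₁ h).surjective π'.continuous (by simpa using hh)

/-- If `h` is surjective and `h ≫ π` induces isomorphisms on residue fields, then so does `π`. -/
theorem resIso_of_comp_surjective {h : X ⟶ Y} {π : Y ⟶ Z} (hs : Function.Surjective h)
    (hν : HTop.ResidueFieldsIso (h ≫ π)) : HTop.ResidueFieldsIso π := by
  intro y
  obtain ⟨x, rfl⟩ := hs y
  have h1 : IsIso ((h ≫ π).residueFieldMap x) := hν x
  have h4 := Scheme.residueFieldMap_comp h π x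
  rw [h4] at h1
  have hsurj : Function.Surjective (h.residueFieldMap x) := by
    intro z
    obtain ⟨w, hw⟩ := ((ConcreteCategory.isIso_iff_bijective _).mp h1).2 z
    exact ⟨π.residueFieldMap (h x) w, hw⟩
  have h2 : IsIso (h.residueFieldMap x) := isIso_residueFieldMap_of_surjective h x hsurj
  exact @IsIso.of_isIso_comp_right _ _ _ _ _ _ _ h2 h1

/-- Morphisms into a separated `Z`-scheme that agree after precomposition with a
scheme-theoretically dominant morphism are equal (no reducedness needed). -/
theorem ext_of_isSchemeTheoreticallyDominant_of_isSeparated {W X Y Z : Scheme.{u}} {f g : X ⟶ Y}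
    (s : Y ⟶ Z) [IsSeparated s] (h : f ≫ s = g ≫ s)
    (ι : W ⟶ X) [IsSchemeTheoreticallyDominant ι] (hU : ι ≫ f = ι ≫ g) : f = g := by
  let X' : Over Z := Over.mk (f ≫ s)
  let Y' : Over Z := Over.mk s
  let U' : Over Z := Over.mk (ι ≫ f ≫ s)
  let f' : X' ⟶ Y' := Over.homMk f
  let g' : X' ⟶ Y' := Over.homMk g
  let ι' : U' ⟶ X' := Over.homMk ι
  have : IsSeparated Y'.hom := ‹_›
  have hc : ι' ≫ f' = ι' ≫ g' := by ext1; exact hU
  have hl : (equalizer.lift ι' hc).left ≫ (equalizer.ι f' g').left = ι := by
    rw [← Over.comp_left, equalizer.lift_ι]; rfl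
  have : IsIso (equalizer.ι f' g').left := by
    rw [IsClosedImmersion.isIso_iff_ker_eq_bot, ← le_bot_iff, ← ι.ker_eq_bot, ← hl]
    exact Scheme.Hom.le_ker_comp _ _
  rw [← cancel_epi (equalizer.ι f' g').left]
  exact congr($(equalizer.condition f' g').left)

section image

variable {T' T P : Scheme.{u}} (k : T' ⟶ P) (q : P ⟶ T) [IsSeparated q]

theorem isAffineHom_of_comp (hν : FlatMor.IsUnivHomeo (k ≫ q)) : IsAffineHom k := by
  have : IsAffineHom (k ≫ q) := isAffineHom hν
  exact IsAffineHom.of_comp k q

/-- `k.toImage` is scheme-theoretically dominant for quasi-compact `k`. -/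
theorem isSchemeTheoreticallyDominant_toImage [QuasiCompact k] :
    IsSchemeTheoreticallyDominant k.toImage := by
  rw [isSchemeTheoreticallyDominant_iff]
  refine Scheme.IdealSheafData.ext_of_iSup_eq_top
    (fun U : P.affineOpens => ⟨k.imageι ⁻¹ᵁ U.1, U.2.preimage k.imageι⟩) ?_ ?_
  · rw [eq_top_iff]
    intro x _
    obtain ⟨U, hxU⟩ := TopologicalSpace.Opens.mem_iSup.mp
      ((iSup_affineOpens_eq_top P).ge (Set.mem_univ (k.imageι x)))
    exact TopologicalSpace.Opens.mem_iSup.mpr ⟨U, hxU⟩
  · intro U
    rw [Scheme.Hom.ker_apply, Scheme.IdealSheafData.ideal_bot, Pi.bot_apply,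
      ← RingHom.injective_iff_ker_eq_bot]
    exact k.toImage_app_injective U

theorem surjective_toImage (hν : FlatMor.IsUnivHomeo (k ≫ q)) : Surjective k.toImage := by
  have h1 : IsAffineHom k := isAffineHom_of_comp k q hν
  have h2 : UniversallyClosed (k ≫ q) := universallyClosed hν
  have h3 : UniversallyClosed k := UniversallyClosed.of_comp_of_isSeparated k q
  have h4 : UniversallyClosed k.toImage := inferInstance
  have h5 : IsDominant k.toImage := inferInstance
  exact surjective_of_isDominant_of_isClosed_range _ k.toImage.isClosedMap.isClosed_range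

omit [IsSeparated q] in
theorem toImage_imageι_comp : k.toImage ≫ (k.imageι ≫ q) = k ≫ q := by
  rw [← Category.assoc, Scheme.Hom.toImage_imageι]

theorem isUnivHomeo_imageι_comp (hν : FlatMor.IsUnivHomeo (k ≫ q)) :
    FlatMor.IsUnivHomeo (k.imageι ≫ q) := by
  have := surjective_toImage k q hν
  apply isUnivHomeo_of_comp_surjective k.toImage
  rw [toImage_imageι_comp]
  exact hν

theorem isFinite_imageι_comp [LocallyOfFiniteType q] (hν : FlatMor.IsUnivHomeo (k ≫ q)) :
    IsFinite (k.imageι ≫ q) := by
  rw [IsFinite.iff_isIntegralHom_and_locallyOfFiniteType]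
  exact ⟨isIntegralHom (isUnivHomeo_imageι_comp k q hν), inferInstance⟩

theorem resIso_imageι_comp (hν : FlatMor.IsUnivHomeo (k ≫ q))
    (hres : HTop.ResidueFieldsIso (k ≫ q)) : HTop.ResidueFieldsIso (k.imageι ≫ q) := by
  have := surjective_toImage k q hν
  apply resIso_of_comp_surjective (h := k.toImage) k.toImage.surjective
  rw [toImage_imageι_comp]
  exact hres

end image

end Groth.Agent.Lib.UHImageH52
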