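import Groth.Agent.Lib.UHCharPH52
import Mathlib.AlgebraicGeometry.Morphisms.IsIso
import Mathlib.AlgebraicGeometry.Morphisms.Affine

/-!
A universal homeomorphism between perfect rings (resp. schemes) of characteristic `p` is an
isomorphism.
-/

set_option autoImplicit false
universe u

open CategoryTheory AlgebraicGeometry MorphismProperty

namespace Groth.Agent.Lib.UHPerfectH52

open Groth.Agent.Lib.UHRingH52 Groth.Agent.Lib.UHCharPH52

theorem bijective_of_isUH_of_perfect {A B : Type u} [CommRing A] [CommRing B] (p : ℕ)
    [hp : Fact p.Prime] (φ : A →+* B) (hA0 : (p : A) = 0)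
    (hA : Function.Bijective fun s : A => s ^ p) (hB0 : (p : B) = 0)
    (hB : Function.Bijective fun s : B => s ^ p) (h : IsUH φ) : Function.Bijective φ := by
  rcases subsingleton_or_nontrivial A with hsub | hnt
  · have hB' : ∀ b : B, b = 0 := by
      intro b
      have : (1 : B) = 0 := by rw [← map_one φ, Subsingleton.elim (1 : A) 0, map_zero]
      rw [← mul_one b, this, mul_zero]
    exact ⟨fun x y _ => Subsingleton.elim x y, fun b => ⟨0, by rw [hB' b, map_zero]⟩⟩
  · have hntB : Nontrivial B := by
      by_contra hB1
      rw [not_nontrivial_iff_subsingleton] at hB1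
      have h1 : (1 : A) ∈ RingHom.ker φ := RingHom.mem_ker.mpr (Subsingleton.elim _ _)
      have h2 := ker_le_nilradical_of_isUH φ h h1
      obtain ⟨n, hn⟩ := mem_nilradical.mp h2
      rw [one_pow] at hn
      exact one_ne_zero hn
    have hcA : CharP A p := (CharP.charP_iff_prime_eq_zero hp.out).mpr hA0
    have hcB : CharP B p := (CharP.charP_iff_prime_eq_zero hp.out).mpr hB0
    have hpA : PerfectRing A p := ⟨hA⟩
    have hpB : PerfectRing B p := ⟨hB⟩
    have hrad : IsPRadical φ p := isPRadical_of_isUH p φ h
    constructor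
    · rw [injective_iff_map_eq_zero]
      intro a ha
      obtain ⟨n, hn⟩ := mem_pNilradical.mp (hrad.ker_le' (RingHom.mem_ker.mpr ha))
      apply (bijective_iterateFrobenius A p n).1
      rw [iterateFrobenius_def, iterateFrobenius_def, hn, zero_pow (pow_ne_zero _ hp.out.ne_zero)]
    · intro b
      obtain ⟨n, a, ha⟩ := hrad.pow_mem' b
      obtain ⟨a', ha'⟩ := (bijective_iterateFrobenius A p n).2 a
      rw [iterateFrobenius_def] at ha'
      refine ⟨a', (bijective_iterateFrobenius B p n).1 ?_⟩
      rw [iterateFrobenius_def, iterateFrobenius_def, ← map_pow, ha', ha]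

end Groth.Agent.Lib.UHPerfectH52
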