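import Groth.Agent.Lib.UHCharPH52
import Mathlib.NumberTheory.Basic
import Mathlib.Algebra.CharP.Lemmas

/-!
Stacks 0CNI (first half): for a prime `p` and a subring `R ⊆ B` such that every element of `B`
has a `p`-power multiple in `R`, the elements with a `p`-power power in `R` form a subring; if
`R ⊆ B` is a universal homeomorphism this subring is everything.
-/

set_option autoImplicit false
universe u

namespace Groth.Agent.Lib.UHPrimeH52

open Groth.Agent.Lib.UHRingH52 Groth.Agent.Lib.UHFactorH52 Groth.Agent.Lib.UHConductorH52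

variable {B : Type u} [CommRing B] (R : Subring B) (p : ℕ)

theorem exists_pow_mul_mem_of_fg (h0 : ∀ b : B, ∃ k : ℕ, (p : B) ^ k * b ∈ R)
    (M : Submodule R B) (hM : M.FG) : ∃ E : ℕ, ∀ x ∈ M, (p : B) ^ E * x ∈ R := by
  classical
  obtain ⟨G, hG⟩ := hM
  choose k hk using h0
  refine ⟨∑ g ∈ G, k g, ?_⟩
  intro x hx
  rw [← hG] at hx
  have hpR : ∀ m : ℕ, (p : B) ^ m ∈ R := fun m => R.pow_mem (natCast_mem R p) m
  refine Submodule.span_induction ?_ ?_ ?_ ?_ hx
  · intro g hg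
    have hle : k g ≤ ∑ g ∈ G, k g := Finset.single_le_sum (fun _ _ => Nat.zero_le _) hg
    obtain ⟨d, hd⟩ := Nat.exists_eq_add_of_le hle
    rw [hd, add_comm, pow_add, mul_assoc]
    exact R.mul_mem (hpR d) (hk g)
  · rw [mul_zero]; exact R.zero_mem
  · intro x y _ _ hx hy
    rw [mul_add]; exact R.add_mem hx hy
  · intro r x _ hx
    have : r • x = (r : B) * x := rfl
    rw [this, mul_left_comm]
    exact R.mul_mem r.2 hx

theorem exists_add_pow_mem (hp : p.Prime) (h0 : ∀ b : B, ∃ k : ℕ, (p : B) ^ k * b ∈ R)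
    {b c : B} {n : ℕ} (hb : b ^ p ^ n ∈ R) (hc : c ^ p ^ n ∈ R) :
    ∃ N : ℕ, (b + c) ^ p ^ N ∈ R := by
  have hpos : 0 < p ^ n := pow_pos hp.pos n
  have hbint : IsIntegral R b := by
    apply IsIntegral.of_pow hpos
    have : b ^ p ^ n = algebraMap R B ⟨_, hb⟩ := rfl
    rw [this]
    exact isIntegral_algebraMap
  have hcint : IsIntegral R c := by
    apply IsIntegral.of_pow hpos
    have : c ^ p ^ n = algebraMap R B ⟨_, hc⟩ := rfl
    rw [this]
    exact isIntegral_algebraMap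
  set R' := Algebra.adjoin R ({b, c} : Set B) with hR'
  have hfg : R'.toSubmodule.FG := fg_adjoin_of_finite (Set.toFinite _) (by
    intro x hx
    rcases hx with rfl | rfl
    · exact hbint
    · exact hcint)
  obtain ⟨E, hE⟩ := exists_pow_mul_mem_of_fg R p h0 _ hfg
  have hbR' : b ∈ R' := Algebra.subset_adjoin (by simp)
  have hcR' : c ∈ R' := Algebra.subset_adjoin (by simp)
  let b' : R' := ⟨b, hbR'⟩
  let c' : R' := ⟨c, hcR'⟩
  obtain ⟨r, hr⟩ := exists_add_pow_prime_pow_eq hp b' c' n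
  have hdvd : (p : R') ∣ (b' + c') ^ p ^ n - (b' ^ p ^ n + c' ^ p ^ n) :=
    ⟨b' * c' * r, by rw [hr]; ring⟩
  obtain ⟨w, hw⟩ := dvd_sub_pow_of_dvd_sub hdvd E
  refine ⟨n + E, ?_⟩
  have hw' := congrArg (Subtype.val : R' → B) hw
  have hval : ((b + c) ^ p ^ n) ^ p ^ E - (b ^ p ^ n + c ^ p ^ n) ^ p ^ E =
      (p : B) ^ (E + 1) * (w : B) := hw'
  have h1 : (p : B) ^ (E + 1) * (w : B) ∈ R := by
    rw [pow_succ', mul_assoc]
    exact R.mul_mem (natCast_mem R p) (hE _ w.2)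
  have h2 : (b ^ p ^ n + c ^ p ^ n) ^ p ^ E ∈ R := R.pow_mem (R.add_mem hb hc) _
  have h3 : (b + c) ^ p ^ (n + E) =
      (p : B) ^ (E + 1) * (w : B) + (b ^ p ^ n + c ^ p ^ n) ^ p ^ E := by
    rw [← hval, pow_add, pow_mul]
    ring
  rw [h3]
  exact R.add_mem h1 h2

/-- The subring of elements with a `p`-power power in `R`. -/
def powSub (hp : p.Prime) (h0 : ∀ b : B, ∃ k : ℕ, (p : B) ^ k * b ∈ R) : Subring B where
  carrier := {b | ∃ n : ℕ, b ^ p ^ n ∈ R}
  mul_mem' := by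
    rintro x y ⟨n₁, h₁⟩ ⟨n₂, h₂⟩
    refine ⟨n₁ + n₂, ?_⟩
    rw [mul_pow]
    refine R.mul_mem ?_ ?_
    · rw [pow_add, pow_mul]; exact R.pow_mem h₁ _
    · rw [add_comm, pow_add, pow_mul]; exact R.pow_mem h₂ _
  one_mem' := ⟨0, by simp⟩
  add_mem' := by
    rintro x y ⟨n₁, h₁⟩ ⟨n₂, h₂⟩
    apply exists_add_pow_mem R p hp h0 (n := n₁ + n₂)
    · rw [pow_add, pow_mul]; exact R.pow_mem h₁ _
    · rw [add_comm, pow_add, pow_mul]; exact R.pow_mem h₂ _
  zero_mem' := ⟨0, by simp⟩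
  neg_mem' := by
    rintro x ⟨n, h⟩
    refine ⟨n, ?_⟩
    rw [neg_pow]
    exact R.mul_mem (R.pow_mem (R.neg_mem R.one_mem) _) h

theorem mem_powSub (hp : p.Prime) (h0 : ∀ b : B, ∃ k : ℕ, (p : B) ^ k * b ∈ R) (b : B) :
    b ∈ powSub R p hp h0 ↔ ∃ n : ℕ, b ^ p ^ n ∈ R := Iff.rfl

theorem powSub_eq_top (hp : p.Prime) (h0 : ∀ b : B, ∃ k : ℕ, (p : B) ^ k * b ∈ R)
    (hU : IsUH R.subtype) : powSub R p hp h0 = ⊤ := by
  set S := powSub R p hp h0 with hS
  have hRS : ∀ x ∈ R, x ∈ S := fun x hx => ⟨0, by simpa using hx⟩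
  have hroot : ∀ b : B, b ^ p ∈ S → b ∈ S := by
    rintro b ⟨n, hn⟩
    exact ⟨n + 1, by rw [pow_succ', pow_mul]; exact hn⟩
  by_contra hne
  obtain ⟨b₀, hb₀⟩ : ∃ b₀ : B, b₀ ∉ S := by
    by_contra hall
    push Not at hall
    exact hne (eq_top_iff.mpr fun b _ => hall b)
  let χ : R →+* S := R.subtype.codRestrict S (fun x => hRS _ x.2)
  have hcomp : R.subtype = S.subtype.comp χ := rfl
  have hψ : Function.Injective S.subtype := Subtype.val_injective
  have hUψ : IsUH S.subtype := IsUH.right χ S.subtype hψ (hcomp ▸ hU)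
  have hns : ¬ Function.Surjective S.subtype := by
    intro hs
    obtain ⟨s, hs⟩ := hs b₀
    exact hb₀ (hs ▸ s.2)
  have hrg : ∀ b : B, b ∈ S.subtype.range ↔ b ∈ S := by
    intro b
    constructor
    · rintro ⟨s, rfl⟩
      exact s.2
    · intro hb
      exact ⟨⟨b, hb⟩, rfl⟩
  rcases exists_step S.subtype hUψ hns with ⟨b, hb, h2, h3⟩ | ⟨ℓ, b, hℓ, hb, h1, h2⟩
  · rw [hrg] at hb h2 h3
    apply hb
    apply hroot
    rcases Nat.even_or_odd' p with ⟨k, hk | hk⟩
    · rw [hk, pow_mul]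
      exact S.pow_mem h2 k
    · have hk1 : 1 ≤ k := by
        rcases Nat.eq_zero_or_pos k with rfl | hpos
        · exfalso
          have := hp.one_lt
          omega
        · exact hpos
      obtain ⟨k', rfl⟩ : ∃ k', k = k' + 1 := ⟨k - 1, by omega⟩
      have : b ^ p = (b ^ 2) ^ k' * b ^ 3 := by
        rw [hk]
        ring
      rw [this]
      exact S.mul_mem (S.pow_mem h2 k') h3
  · rw [hrg] at hb h1 h2
    apply hb
    by_cases hℓp : ℓ = p
    · subst hℓp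
      exact hroot b h2
    · obtain ⟨k, hk⟩ := h0 b
      have hcop : IsCoprime (ℓ : ℤ) ((p ^ k : ℕ) : ℤ) :=
        Nat.isCoprime_iff_coprime.mpr
          (Nat.Coprime.pow_right k ((Nat.coprime_primes hℓ hp).mpr hℓp))
      obtain ⟨u, v, huv⟩ := hcop
      have h3 : ((u * ℓ + v * ((p ^ k : ℕ) : ℤ) : ℤ) : B) = 1 := by rw [huv]; simp
      push_cast at h3
      have : b = (u : B) * ((ℓ : B) * b) + (v : B) * ((p : B) ^ k * b) := by
        calc b = ((u : B) * (ℓ : B) + (v : B) * (p : B) ^ k) * b := by rw [h3, one_mul]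
          _ = _ := by ring
      rw [this]
      exact S.add_mem (S.mul_mem (intCast_mem S u) h1)
        (S.mul_mem (intCast_mem S v) (hRS _ hk))

end Groth.Agent.Lib.UHPrimeH52
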