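import Groth.Agent.Lib.UHImageH52
import Mathlib.FieldTheory.PurelyInseparable.Basic
import Mathlib.AlgebraicGeometry.Morphisms.UniversallyInjective

/-!
Residue field degrees of finite morphisms are bounded by the number of module generators;
residue field extensions of finite universal homeomorphisms are finite purely inseparable.
-/

set_option autoImplicit false
universe u

open CategoryTheory AlgebraicGeometry Limits

namespace Groth.Agent.Lib.UHResDegH52

open Groth.Agent.Lib.UnivHomeo

/-- Field-level bound: if `B` is spanned over `A` by `n` elements, `L` is "the fraction field of the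
image of `B`" and `K` receives `A` compatibly, then `[L : K] ≤ n`. -/
theorem finrank_le_of_span {K L A B : Type*} [Field K] [Field L] [CommRing A] [CommRing B]
    [Algebra K L] [Algebra A B] (ev : A →+* K) (ev' : B →+* L)
    (hcomm : ∀ a, ev' (algebraMap A B a) = algebraMap K L (ev a))
    (hfrac : ∀ z : L, ∃ b s : B, ev' s ≠ 0 ∧ z * ev' s = ev' b)
    (n : ℕ) (b : Fin n → B) (hb : Submodule.span A (Set.range b) = ⊤) :
    Module.Finite K L ∧ Module.finrank K L ≤ n := by
  classical
  let M : Submodule K L := Submodule.span K (Set.range (ev' ∘ b))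
  have h1 : ∀ x : B, ev' x ∈ M := by
    intro x
    have hx : x ∈ Submodule.span A (Set.range b) := by rw [hb]; trivial
    induction hx using Submodule.span_induction with
    | mem y hy => obtain ⟨i, rfl⟩ := hy; exact Submodule.subset_span ⟨i, rfl⟩
    | zero => simp
    | add y z _ _ hy hz => rw [map_add]; exact M.add_mem hy hz
    | smul a y _ hy =>
      rw [Algebra.smul_def, map_mul, hcomm, ← Algebra.smul_def]
      exact M.smul_mem _ hy
  let S : Subalgebra K L := Algebra.adjoin K (Set.range ev')
  have h2 : Subalgebra.toSubmodule S = M := by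
    apply le_antisymm
    · rw [Algebra.adjoin_eq_span]
      have hr : (Submonoid.closure (Set.range ev') : Set L) = Set.range ev' := by
        have : Set.range ev' = ((ev'.rangeS.toSubmonoid : Submonoid L) : Set L) := by
          ext; simp
        rw [this, Submonoid.closure_eq]
      rw [hr, Submodule.span_le]
      rintro _ ⟨x, rfl⟩
      exact h1 x
    · rw [Submodule.span_le]
      rintro _ ⟨i, rfl⟩
      exact Algebra.subset_adjoin ⟨b i, rfl⟩
  have hMfg : M.FG := Submodule.fg_span (Set.finite_range _)
  have h3 : Module.Finite K S := by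
    have : Module.Finite K (Subalgebra.toSubmodule S) := by
      rw [h2]; exact Module.Finite.iff_fg.mpr hMfg
    exact this
  have h4 : IsField S := isField_of_isIntegral_of_isField' (Field.toIsField K)
  have h5 : S = ⊤ := by
    rw [eq_top_iff]
    intro z _
    obtain ⟨b', s, hs, hz⟩ := hfrac z
    have hsS : ev' s ∈ S := Algebra.subset_adjoin ⟨s, rfl⟩
    have hbS : ev' b' ∈ S := Algebra.subset_adjoin ⟨b', rfl⟩
    obtain ⟨⟨w, hw⟩, hw1⟩ := h4.mul_inv_cancel (a := ⟨ev' s, hsS⟩)
      (by simpa [Subtype.ext_iff] using hs)
    have hw1' : ev' s * w = 1 := congrArg Subtype.val hw1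
    have : z = ev' b' * w := by
      calc z = z * (ev' s * w) := by rw [hw1', mul_one]
        _ = ev' b' * w := by rw [← mul_assoc, hz]
    rw [this]; exact S.mul_mem hbS hw
  have h6 : M = ⊤ := by
    rw [← h2, h5]; simp
  refine ⟨Module.finite_def.mpr (h6 ▸ hMfg), ?_⟩
  rw [← finrank_top K L, ← h6]
  exact (finrank_range_le_card (R := K) (ev' ∘ b)).trans (by simp)

/-- Scheme-level bound: residue field degree at `t'` is at most the number of module generators of
`Γ(T', p⁻¹U)` over `Γ(T, U)` for an affine open `U ∋ p t'` with affine preimage. -/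
theorem finrank_residueField_le {T' T : Scheme.{u}} (p : T' ⟶ T) (U : T.Opens)
    (hU' : IsAffineOpen (p ⁻¹ᵁ U)) (n : ℕ) (b : Fin n → Γ(T', p ⁻¹ᵁ U))
    (hb : letI := (p.app U).hom.toAlgebra; Submodule.span Γ(T, U) (Set.range b) = ⊤)
    (t' : T') (ht' : p t' ∈ U) :
    letI := (p.residueFieldMap t').hom.toAlgebra
    Module.Finite (T.residueField (p t')) (T'.residueField t') ∧
      Module.finrank (T.residueField (p t')) (T'.residueField t') ≤ n := by
  let _ := (p.residueFieldMap t').hom.toAlgebra
  let _ := (p.app U).hom.toAlgebra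
  have ht'' : t' ∈ p ⁻¹ᵁ U := ht'
  refine finrank_le_of_span (T.evaluation U (p t') ht').hom
    (T'.evaluation (p ⁻¹ᵁ U) t' ht').hom ?_ ?_ n b hb
  · intro a
    exact (Scheme.evaluation_naturality_apply p t' ht' a).symm
  · intro z
    obtain ⟨σ, rfl⟩ := T'.residue_surjective t' z
    let _ := T'.presheaf.algebra_section_stalk (U := p ⁻¹ᵁ U) ⟨t', ht''⟩
    have hloc := hU'.isLocalization_stalk ⟨t', ht''⟩
    obtain ⟨⟨b', s⟩, hbs⟩ :=
      IsLocalization.surj (hU'.primeIdealOf ⟨t', ht''⟩).asIdeal.primeCompl σ
    refine ⟨b', s.1, ?_, ?_⟩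
    · have hu : IsUnit (algebraMap _ (T'.presheaf.stalk t') s.1) :=
        IsLocalization.map_units _ s
      have : IsUnit (T'.residue t' (algebraMap _ _ s.1)) := hu.map _
      exact this.ne_zero
    · have := congrArg (T'.residue t') hbs
      rw [map_mul] at this
      exact this

end Groth.Agent.Lib.UHResDegH52
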