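import Groth.Agent.Lib.UHAwnSchemeH52
import Mathlib.AlgebraicGeometry.ResidueField
import Groth.Prelude.Def_Pi1

/-!
Scheme-level seminormalization: morphisms inducing isomorphisms on residue fields
(`HTop.ResidueFieldsIso`), their stability properties (via lifting of residue-field points),
and the characterisation of seminormalizations as universal homeomorphisms with trivial residue
field extensions from seminormal schemes.
-/

set_option autoImplicit false
universe u

open CategoryTheory AlgebraicGeometry Limits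

namespace Groth.Agent.Lib.UHSnSchemeH52

open Groth.Agent.Lib.UHRingH52 Groth.Agent.Lib.UHAwnCharH52 Groth.Agent.Lib.UHAwnFunctorH52
  Groth.Agent.Lib.Seminormal Groth.Agent.Lib.UHAwnSchemeH52 Groth.Agent.Lib.UnivHomeo

section ResIso

variable {X Y Z : Scheme.{u}}

theorem isIso_residueFieldMap_of_surjective (f : X ⟶ Y) (x : X)
    (h : Function.Surjective (f.residueFieldMap x)) : IsIso (f.residueFieldMap x) :=
  (ConcreteCategory.isIso_iff_bijective _).mpr ⟨(f.residueFieldMap x).hom.injective, h⟩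

theorem resIso_of_surjectiveOnStalks (f : X ⟶ Y) [SurjectiveOnStalks f] :
    HTop.ResidueFieldsIso f := by
  intro x
  apply isIso_residueFieldMap_of_surjective
  intro z
  obtain ⟨s, rfl⟩ := X.residue_surjective x z
  obtain ⟨t, rfl⟩ := f.stalkMap_surjective x s
  refine ⟨Y.residue (f x) t, ?_⟩
  have := congrArg (fun k => k.hom t) (Scheme.residue_residueFieldMap f x)
  exact this

theorem resIso_comp {f : X ⟶ Y} {g : Y ⟶ Z} (hf : HTop.ResidueFieldsIso f)
    (hg : HTop.ResidueFieldsIso g) : HTop.ResidueFieldsIso (f ≫ g) := by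
  intro x
  have h1 : IsIso (f.residueFieldMap x) := hf x
  have h2 : IsIso (g.residueFieldMap (f x)) := hg (f x)
  have h3 : IsIso (g.residueFieldMap (f x) ≫ f.residueFieldMap x) := IsIso.comp_isIso
  have h4 := Scheme.residueFieldMap_comp f g x
  change IsIso ((f ≫ g).residueFieldMap x)
  rw [h4]
  exact h3

theorem resIso_of_comp {f : X ⟶ Y} {g : Y ⟶ Z} (hfg : HTop.ResidueFieldsIso (f ≫ g))
    (hg : HTop.ResidueFieldsIso g) : HTop.ResidueFieldsIso f := by
  intro x
  have h1 : IsIso ((f ≫ g).residueFieldMap x) := hfg x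
  have h4 := Scheme.residueFieldMap_comp f g x
  rw [h4] at h1
  have h2 : IsIso (g.residueFieldMap (f x)) := hg (f x)
  exact @IsIso.of_isIso_comp_left _ _ _ _ _ _ _ h2 h1

theorem resIso_restrict {π : Y ⟶ X} (h : HTop.ResidueFieldsIso π) (U : X.Opens) :
    HTop.ResidueFieldsIso (π ∣_ U) := by
  apply resIso_of_comp (g := U.ι) _ (resIso_of_surjectiveOnStalks _)
  rw [morphismRestrict_ι]
  exact resIso_comp (resIso_of_surjectiveOnStalks _) h

theorem resIso_of_arrow_iso {X' Y' : Scheme.{u}} {f : X ⟶ Y} {g : X' ⟶ Y'}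
    (e : Arrow.mk f ≅ Arrow.mk g) (h : HTop.ResidueFieldsIso f) : HTop.ResidueFieldsIso g := by
  have h1 : g = inv e.hom.left ≫ f ≫ e.hom.right := by
    have := e.hom.w
    simp only [Arrow.mk_hom] at this
    rw [← this, IsIso.inv_hom_id_assoc]
  rw [h1]
  exact resIso_comp (resIso_of_surjectiveOnStalks _)
    (resIso_comp h (resIso_of_surjectiveOnStalks _))

/-- Every residue-field point of the target lifts to the source. -/
def LiftsPts (π : Y ⟶ X) : Prop :=
  ∀ x : X, ∃ l : Spec (X.residueField x) ⟶ Y, l ≫ π = X.fromSpecResidueField x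

theorem liftsPts_of_resIso {π : Y ⟶ X} (hs : Function.Surjective π)
    (h : HTop.ResidueFieldsIso π) : LiftsPts π := by
  intro x
  obtain ⟨y, rfl⟩ := hs x
  have := h y
  refine ⟨Spec.map (inv (π.residueFieldMap y)) ≫ Y.fromSpecResidueField y, ?_⟩
  rw [Category.assoc, ← Scheme.Hom.SpecMap_residueFieldMap_fromSpecResidueField,
    ← Spec.map_comp_assoc, IsIso.hom_inv_id, Spec.map_id, Category.id_comp]

theorem resIso_of_liftsPts {π : Y ⟶ X} (hinj : Function.Injective π) (h : LiftsPts π) :
    HTop.ResidueFieldsIso π := by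
  intro y
  obtain ⟨l, hl⟩ := h (π y)
  have hy : y = l (IsLocalRing.closedPoint (X.residueField (π y))) := by
    apply hinj
    have := congrArg (fun k : Spec (X.residueField (π y)) ⟶ X =>
      k (IsLocalRing.closedPoint (X.residueField (π y)))) hl
    simp only [Scheme.Hom.comp_apply, Scheme.fromSpecResidueField_apply] at this
    exact this.symm
  obtain ⟨d, hl'⟩ : ∃ d : Y.residueField (l (IsLocalRing.closedPoint (X.residueField (π y)))) ⟶
      X.residueField (π y), Spec.map d ≫ Y.fromSpecResidueField _ = l :=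
    ⟨_, Scheme.descResidueField_stalkClosedPointTo_fromSpecResidueField
      (X.residueField (π y)) Y l⟩
  let φ : Y.residueField y ⟶ X.residueField (π y) := (Y.residueFieldCongr hy).hom ≫ d
  have hφ : Spec.map φ ≫ Y.fromSpecResidueField y = l := by
    rw [Spec.map_comp, Category.assoc, Scheme.residueFieldCongr_fromSpecResidueField]
    exact hl'
  have h1 : Spec.map (π.residueFieldMap y ≫ φ) ≫ X.fromSpecResidueField (π y) =
      Spec.map (𝟙 _) ≫ X.fromSpecResidueField (π y) := by
    rw [Spec.map_comp, Category.assoc, Scheme.Hom.SpecMap_residueFieldMap_fromSpecResidueField,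
      ← Category.assoc, hφ, hl, Spec.map_id, Category.id_comp]
  have h2 : π.residueFieldMap y ≫ φ = 𝟙 _ := by
    have := (cancel_mono (X.fromSpecResidueField (π y))).mp h1
    exact Spec.map_injective this
  apply isIso_residueFieldMap_of_surjective
  intro z
  refine ⟨φ z, ?_⟩
  apply φ.hom.injective
  have := congrArg (fun k => k.hom (φ z)) h2
  exact this

theorem liftsPts_pullback_fst {X' : Scheme.{u}} (ν : X' ⟶ X) (π : Y ⟶ X) (h : LiftsPts π) :
    LiftsPts (pullback.fst ν π) := by
  intro x'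
  obtain ⟨l, hl⟩ := h (ν x')
  refine ⟨pullback.lift (X'.fromSpecResidueField x') (Spec.map (ν.residueFieldMap x') ≫ l) ?_, ?_⟩
  · rw [Category.assoc, hl, Scheme.Hom.SpecMap_residueFieldMap_fromSpecResidueField]
  · rw [pullback.lift_fst]

theorem resIso_pullback_fst {X' : Scheme.{u}} (ν : X' ⟶ X) {π : Y ⟶ X}
    (hπ : FlatMor.IsUnivHomeo π) (h : HTop.ResidueFieldsIso π) :
    HTop.ResidueFieldsIso (pullback.fst ν π) := by
  have h1 : FlatMor.IsUnivHomeo (pullback.fst ν π) := MorphismProperty.pullback_fst _ _ hπ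
  apply resIso_of_liftsPts (isHomeomorph h1).injective
  exact liftsPts_pullback_fst ν π (liftsPts_of_resIso (isHomeomorph hπ).surjective h)

end ResIso

section Seminormal

/-- A universal homeomorphism with trivial residue field extensions out of a seminormal ring with
reduced target is bijective. -/
theorem bijective_of_isUH_of_isSeminormalRing {A B : Type u} [CommRing A] [CommRing B]
    (ψ : A →+* B) (hψ : IsUH ψ) (hres : ResTriv ψ) (hA : HTop.IsSeminormalRing A)
    [IsReduced B] : Function.Bijective ψ := by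
  have hredA : IsReduced A := isReduced_of_isSeminormalRing hA
  have hinj : Function.Injective ψ := by
    rw [injective_iff_map_eq_zero]
    intro a ha
    have h1 : a ∈ nilradical A :=
      Groth.Agent.Lib.UHCharPH52.ker_le_nilradical_of_isUH ψ hψ (RingHom.mem_ker.mpr ha)
    exact (mem_nilradical.mp h1).eq_zero
  refine ⟨hinj, ?_⟩
  by_contra hns
  obtain ⟨w, hw, ⟨x, hx⟩, ⟨y, hy⟩⟩ :=
    Groth.Agent.Lib.UHConductorH52.exists_step23 ψ hψ hres hns
  have hxy : x ^ 3 = y ^ 2 := by
    apply hinj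
    rw [map_pow, map_pow, hx, hy]
    ring
  obtain ⟨a, ⟨ha2, ha3⟩, -⟩ := hA x y hxy
  apply hw
  refine ⟨a, eq_of_sq_cube ?_ ?_⟩
  · rw [← map_pow, ← ha2, hx]
  · rw [← map_pow, ← ha3, hy]

theorem isReduced_of_isSeminormal {X : Scheme.{u}} (hX : HTop.IsSeminormal X) : IsReduced X :=
  Groth.Agent.S7421.result.2 X hX

/-- A universal homeomorphism with trivial residue field extensions from a reduced scheme to a
seminormal scheme is an isomorphism. -/
theorem isIso_of_isSeminormal {X Y : Scheme.{u}} (hX : HTop.IsSeminormal X) (π : Y ⟶ X)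
    (hπ : FlatMor.IsUnivHomeo π) (hres : HTop.ResidueFieldsIso π) [IsReduced Y] : IsIso π := by
  have haff : IsAffineHom π := isAffineHom hπ
  have hall := (Groth.Agent.S7420.result X).1.mp hX
  have key : targetAffineLocally (fun X _ f _ => IsAffine X ∧ IsIso f.appTop) π := by
    intro U
    have hg : FlatMor.IsUnivHomeo (π ∣_ U.1) :=
      MorphismProperty.of_isPullback (isPullback_morphismRestrict π U.1).flip hπ
    have hUaff : IsAffine (U.1 : Scheme) := U.2
    have hVaff : IsAffine ((π ⁻¹ᵁ U.1 : Y.Opens) : Scheme) := U.2.preimage π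
    refine ⟨hVaff, ?_⟩
    have hSpec : FlatMor.IsUnivHomeo (Spec.map (π ∣_ U.1).appTop) :=
      ((FlatMor.IsUnivHomeo : MorphismProperty Scheme).arrow_mk_iso_iff
        (arrowIsoSpecΓOfIsAffine (π ∣_ U.1))).mp hg
    have hresSpec : HTop.ResidueFieldsIso (Spec.map (π ∣_ U.1).appTop) :=
      resIso_of_arrow_iso (arrowIsoSpecΓOfIsAffine (π ∣_ U.1)) (resIso_restrict hres U.1)
    have hUH : IsUH (π ∣_ U.1).appTop.hom :=
      (Groth.Agent.Lib.UHRingH52.isUnivHomeo_iff _).mp hSpec
    have hRT : ResTriv (π ∣_ U.1).appTop.hom := by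
      apply (resSurj_iff _).mp
      intro x
      have : IsIso ((Spec.map (CommRingCat.ofHom (π ∣_ U.1).appTop.hom)).residueFieldMap x) :=
        hresSpec x
      exact (ConcreteCategory.bijective_of_isIso _).2
    have haffU : IsAffineOpen (U.1.ι ''ᵁ ⊤) := by
      rw [Scheme.Opens.ι_image_top]
      exact U.2
    have h1 : HTop.IsSeminormalRing Γ(X, U.1.ι ''ᵁ ⊤) := hall ⟨U.1.ι ''ᵁ ⊤, haffU⟩
    have hbij : Function.Bijective (π ∣_ U.1).appTop.hom :=
      bijective_of_isUH_of_isSeminormalRing _ hUH hRT h1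
    exact (ConcreteCategory.isIso_iff_bijective _).mpr hbij
  rw [← HasAffineProperty.eq_targetAffineLocally (MorphismProperty.isomorphisms Scheme)] at key
  exact key

/-- A universal homeomorphism with trivial residue field extensions from a seminormal scheme is
a seminormalization. -/
theorem isSeminormalization_of_isSeminormal {X X' : Scheme.{u}} (ν : X' ⟶ X)
    (hν : FlatMor.IsUnivHomeo ν) (hres : HTop.ResidueFieldsIso ν) (hX' : HTop.IsSeminormal X') :
    HTop.IsSeminormalization ν := by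
  have hred : IsReduced X' := isReduced_of_isSeminormal hX'
  refine ⟨⟨hν, hres⟩, fun Y π hπ hπres => ?_⟩
  obtain ⟨Z, i, hZ, hi, hs⟩ := exists_reduced (pullback ν π)
  have h1 : FlatMor.IsUnivHomeo (pullback.fst ν π) :=
    MorphismProperty.pullback_fst _ _ hπ
  have h1' : HTop.ResidueFieldsIso (pullback.fst ν π) := resIso_pullback_fst ν hπ hπres
  have h2 : FlatMor.IsUnivHomeo i := of_isImmersion_of_surjective i
  have h3 : FlatMor.IsUnivHomeo (i ≫ pullback.fst ν π) := comp h2 h1
  have h3' : HTop.ResidueFieldsIso (i ≫ pullback.fst ν π) :=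
    resIso_comp (resIso_of_surjectiveOnStalks i) h1'
  have h4 : IsIso (i ≫ pullback.fst ν π) := isIso_of_isSeminormal hX' _ h3 h3'
  have hex : (inv (i ≫ pullback.fst ν π) ≫ i ≫ pullback.snd ν π) ≫ π = ν := by
    rw [Category.assoc, Category.assoc, ← pullback.condition, ← Category.assoc i,
      IsIso.inv_hom_id_assoc]
  refine ⟨inv (i ≫ pullback.fst ν π) ≫ i ≫ pullback.snd ν π, hex, ?_⟩
  intro h hh
  apply eq_of_comp_eq π hπ
  rw [hh, hex]

theorem isSeminormalization_unique {X X₁ X₂ : Scheme.{u}} (ν₁ : X₁ ⟶ X) (ν₂ : X₂ ⟶ X)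
    (h₁ : HTop.IsSeminormalization ν₁) (h₂ : HTop.IsSeminormalization ν₂) :
    ∃ e : X₁ ≅ X₂, e.hom ≫ ν₂ = ν₁ := by
  obtain ⟨a, ha, -⟩ := h₁.2 X₂ ν₂ h₂.1.1 h₂.1.2
  obtain ⟨b, hb, -⟩ := h₂.2 X₁ ν₁ h₁.1.1 h₁.1.2
  refine ⟨⟨a, b, ?_, ?_⟩, ha⟩
  · exact (h₁.2 X₁ ν₁ h₁.1.1 h₁.1.2).unique (by rw [Category.assoc, hb, ha])
      (Category.id_comp _)
  · exact (h₂.2 X₂ ν₂ h₂.1.1 h₂.1.2).unique (by rw [Category.assoc, ha, hb])
      (Category.id_comp _)

theorem isSeminormal_of_isOpenImmersion {Z X : Scheme.{u}} (j : Z ⟶ X) [IsOpenImmersion j]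
    (h : HTop.IsSeminormal X) : HTop.IsSeminormal Z := by
  have hall := (Groth.Agent.S7420.result X).1.mp h
  intro z
  obtain ⟨V, hzV⟩ := TopologicalSpace.Opens.mem_iSup.mp
    ((iSup_affineOpens_eq_top Z).ge (Set.mem_univ z))
  refine ⟨V, hzV, ?_⟩
  have haff : IsAffineOpen (j ''ᵁ V.1) := V.2.image_of_isOpenImmersion j
  exact isSeminormalRing_of_ringEquiv (j.appIso V.1).commRingCatIsoToRingEquiv
    (hall ⟨j ''ᵁ V.1, haff⟩)

end Seminormal

section Normal

theorem ideal_eq_top_of_forall_prime {A : Type u} [CommRing A] (J : Ideal A)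
    (h : ∀ p : PrimeSpectrum A, ∃ s ∈ J, s ∉ p.asIdeal) : J = ⊤ := by
  by_contra hJ
  obtain ⟨m, hm, hle⟩ := Ideal.exists_le_maximal J hJ
  obtain ⟨s, hsJ, hs⟩ := h ⟨m, hm.isPrime⟩
  exact hs (hle hsJ)

/-- A ring all of whose localizations at primes are integrally closed domains is seminormal. -/
theorem isSeminormalRing_of_forall_atPrime (A : Type u) [CommRing A]
    (h : ∀ p : PrimeSpectrum A, ∃ (S : Type u) (_ : CommRing S) (_ : Algebra A S),
      IsLocalization.AtPrime S p.asIdeal ∧ IsDomain S ∧ IsIntegrallyClosed S) :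
    HTop.IsSeminormalRing A := by
  have hred : IsReduced A := by
    constructor
    intro a ha
    have htop : (Ideal.span {a}).annihilator = ⊤ := by
      apply ideal_eq_top_of_forall_prime
      intro p
      obtain ⟨S, _, _, hloc, hdom, -⟩ := h p
      have h0 : algebraMap A S a = 0 := (ha.map (algebraMap A S)).eq_zero
      obtain ⟨s, hs⟩ := (IsLocalization.map_eq_zero_iff p.asIdeal.primeCompl S a).mp h0
      refine ⟨s, ?_, s.2⟩
      rw [Submodule.mem_annihilator_span_singleton]
      exact hs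
    have h1 : (1 : A) ∈ (Ideal.span {a}).annihilator := by rw [htop]; trivial
    rw [Submodule.mem_annihilator_span_singleton, one_smul] at h1
    exact h1
  apply isSeminormalRing_of_exists
  intro x y hxy
  let J : Ideal A :=
    { carrier := {s | ∃ c, c ^ 2 = s ^ 2 * x ∧ c ^ 3 = s ^ 3 * y}
      add_mem' := by
        rintro s₁ s₂ ⟨c₁, h2₁, h3₁⟩ ⟨c₂, h2₂, h3₂⟩
        have key1 : c₁ * c₂ = s₁ * s₂ * x := by
          apply eq_of_sq_cube
          · linear_combination c₂ ^ 2 * h2₁ + s₁ ^ 2 * x * h2₂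
          · linear_combination c₂ ^ 3 * h3₁ + s₁ ^ 3 * y * h3₂ - s₁ ^ 3 * s₂ ^ 3 * hxy
        have key2 : c₁ ^ 2 * c₂ = s₁ ^ 2 * s₂ * y := by
          apply eq_of_sq_cube
          · linear_combination (c₁ ^ 2 + s₁ ^ 2 * x) * c₂ ^ 2 * h2₁ + s₁ ^ 4 * x ^ 2 * h2₂ +
              s₁ ^ 4 * s₂ ^ 2 * hxy
          · linear_combination (c₁ ^ 3 + s₁ ^ 3 * y) * c₂ ^ 3 * h3₁ + s₁ ^ 6 * y ^ 2 * h3₂
        have key3 : c₁ * c₂ ^ 2 = s₁ * s₂ ^ 2 * y := by
          apply eq_of_sq_cube
          · linear_combination (c₂ ^ 2 + s₂ ^ 2 * x) * c₁ ^ 2 * h2₂ + s₂ ^ 4 * x ^ 2 * h2₁ +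
              s₂ ^ 4 * s₁ ^ 2 * hxy
          · linear_combination (c₂ ^ 3 + s₂ ^ 3 * y) * c₁ ^ 3 * h3₂ + s₂ ^ 6 * y ^ 2 * h3₁
        refine ⟨c₁ + c₂, ?_, ?_⟩
        · linear_combination h2₁ + h2₂ + 2 * key1
        · linear_combination h3₁ + h3₂ + 3 * key2 + 3 * key3
      zero_mem' := ⟨0, by ring, by ring⟩
      smul_mem' := by
        rintro r s ⟨c, h2, h3⟩
        refine ⟨r * c, ?_, ?_⟩
        · rw [smul_eq_mul]
          linear_combination r ^ 2 * h2
        · rw [smul_eq_mul]
          linear_combination r ^ 3 * h3 }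
  have hJ : J = ⊤ := by
    apply ideal_eq_top_of_forall_prime
    intro p
    obtain ⟨S, _, _, hloc, hdom, hic⟩ := h p
    have hā : ∃ ā : S, ā ^ 2 = algebraMap A S x ∧ ā ^ 3 = algebraMap A S y := by
      by_cases hx0 : algebraMap A S x = 0
      · have hy0 : algebraMap A S y = 0 := by
          have : (algebraMap A S y) ^ 2 = 0 := by
            rw [← map_pow, ← hxy, map_pow, hx0]
            ring
          exact pow_eq_zero_iff (two_ne_zero) |>.mp this
        exact ⟨0, by rw [hx0]; ring, by rw [hy0]; ring⟩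
      · have hinjK : Function.Injective (algebraMap S (FractionRing S)) :=
          IsFractionRing.injective S (FractionRing S)
        have hxK : algebraMap S (FractionRing S) (algebraMap A S x) ≠ 0 := by
          intro h0
          exact hx0 (hinjK (by rw [h0, map_zero]))
        have hxyK : (algebraMap S (FractionRing S) (algebraMap A S x)) ^ 3 =
            (algebraMap S (FractionRing S) (algebraMap A S y)) ^ 2 := by
          rw [← map_pow, ← map_pow, ← map_pow, ← map_pow, hxy]
        obtain ⟨α, hα⟩ : ∃ α : FractionRing S, α = algebraMap S (FractionRing S)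
            (algebraMap A S y) / algebraMap S (FractionRing S) (algebraMap A S x) := ⟨_, rfl⟩
        have hα2 : α ^ 2 = algebraMap S (FractionRing S) (algebraMap A S x) := by
          rw [hα, div_pow, ← hxyK]
          field_simp
        have hα3 : α ^ 3 = algebraMap S (FractionRing S) (algebraMap A S y) := by
          rw [pow_succ, hα2, hα, mul_div_cancel₀ _ hxK]
        have hint : IsIntegral S α := by
          refine ⟨Polynomial.X ^ 2 - Polynomial.C (algebraMap A S x),
            Polynomial.monic_X_pow_sub_C _ (by norm_num), ?_⟩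
          rw [Polynomial.eval₂_sub, Polynomial.eval₂_pow, Polynomial.eval₂_X, Polynomial.eval₂_C,
            hα2, sub_self]
        obtain ⟨ā, hā⟩ := IsIntegrallyClosed.isIntegral_iff.mp hint
        refine ⟨ā, ?_, ?_⟩
        · apply hinjK
          rw [map_pow, hā, hα2]
        · apply hinjK
          rw [map_pow, hā, hα3]
    obtain ⟨ā, hā2, hā3⟩ := hā
    obtain ⟨⟨b, s⟩, hbs⟩ := IsLocalization.surj p.asIdeal.primeCompl ā
    have e2 : algebraMap A S (b ^ 2) = algebraMap A S ((s : A) ^ 2 * x) := by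
      rw [map_pow, ← hbs, mul_pow, hā2, map_mul, map_pow]
      ring
    have e3 : algebraMap A S (b ^ 3) = algebraMap A S ((s : A) ^ 3 * y) := by
      rw [map_pow, ← hbs, mul_pow, hā3, map_mul, map_pow]
      ring
    obtain ⟨u, hu⟩ := IsLocalization.exists_of_eq (M := p.asIdeal.primeCompl) e2
    obtain ⟨u', hu'⟩ := IsLocalization.exists_of_eq (M := p.asIdeal.primeCompl) e3
    refine ⟨s * u * u', ⟨b * u * u', ?_, ?_⟩, ?_⟩
    · linear_combination (u : A) * (u' : A) ^ 2 * hu
    · linear_combination (u : A) ^ 3 * (u' : A) ^ 2 * hu'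
    · exact p.asIdeal.primeCompl.mul_mem (p.asIdeal.primeCompl.mul_mem s.2 u.2) u'.2
  have h1 : (1 : A) ∈ J := by rw [hJ]; trivial
  obtain ⟨c, h2, h3⟩ := h1
  exact ⟨c, by rw [h2]; ring, by rw [h3]; ring⟩

theorem isSeminormal_of_isNormalScheme {X : Scheme.{u}} (hn : Pi1.IsNormalScheme X) :
    HTop.IsSeminormal X := by
  intro x
  obtain ⟨U, hxU⟩ := TopologicalSpace.Opens.mem_iSup.mp
    ((iSup_affineOpens_eq_top X).ge (Set.mem_univ x))
  refine ⟨U, hxU, ?_⟩
  apply isSeminormalRing_of_forall_atPrime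
  intro p
  have hy : U.2.fromSpec p ∈ U.1 := by
    have := Set.mem_range_self (f := U.2.fromSpec) p
    rw [U.2.range_fromSpec] at this
    exact this
  exact ⟨X.presheaf.stalk (U.2.fromSpec p), inferInstance,
    X.presheaf.algebra_section_stalk ⟨U.2.fromSpec p, hy⟩, U.2.isLocalization_stalk' p hy,
    (hn (U.2.fromSpec p)).1, (hn (U.2.fromSpec p)).2⟩

end Normal

end Groth.Agent.Lib.UHSnSchemeH52
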