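import Groth.Agent.Lib.UHConductorH52
import Mathlib.Algebra.CharP.Reduced
import Mathlib.Algebra.Field.Subfield.Basic

/-!
Towers of elementary extensions `A[b₁, …, bₙ]` where each `bᵢ` satisfies a step condition
(`bᵢ², bᵢ³` in the previous algebra, or `p bᵢ, bᵢ^p` in the previous algebra), and the
characterization of ring-level universal homeomorphisms by such towers (Stacks 0CNF, 0CNH).
-/

set_option autoImplicit false
universe u

namespace Groth.Agent.Lib.UHTowerH52

open Groth.Agent.Lib.UHRingH52 Groth.Agent.Lib.UHFactorH52 Groth.Agent.Lib.UHConductorH52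

section Field

variable {K : Type*} [Field K]

theorem eq_of_sq_cube {u v : K} (h2 : u ^ 2 = v ^ 2) (h3 : u ^ 3 = v ^ 3) : u = v := by
  by_cases hu : u = 0
  · subst hu
    rw [zero_pow (by norm_num)] at h2
    exact (pow_eq_zero_iff (by norm_num)).mp h2.symm |>.symm
  · have hu2 : u ^ 2 ≠ 0 := pow_ne_zero _ hu
    have : u * u ^ 2 = v * u ^ 2 := by
      calc u * u ^ 2 = u ^ 3 := by ring
        _ = v ^ 3 := h3
        _ = v * v ^ 2 := by ring
        _ = v * u ^ 2 := by rw [h2]
    exact mul_right_cancel₀ hu2 this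

theorem eq_of_prime {u v : K} {p : ℕ} (hp : p.Prime) (h1 : (p : K) * u = (p : K) * v)
    (h2 : u ^ p = v ^ p) : u = v := by
  by_cases hp0 : (p : K) = 0
  · have hdvd : ringChar K ∣ p := (ringChar.spec K p).mp hp0
    have hchar : CharP K p := by
      rcases (Nat.dvd_prime hp).mp hdvd with h | h
      · exfalso
        have h1 : ((1 : ℕ) : K) = 0 := (ringChar.spec K 1).mpr (by rw [h])
        simp at h1
      · exact ringChar.of_eq h
    have : Fact p.Prime := ⟨hp⟩
    exact frobenius_inj K p h2
  · exact mul_left_cancel₀ hp0 h1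

theorem mem_subfield_of_sq_cube (F : Subfield K) {u : K} (h2 : u ^ 2 ∈ F) (h3 : u ^ 3 ∈ F) :
    u ∈ F := by
  by_cases hu : u = 0
  · rw [hu]; exact F.zero_mem
  · have : u = u ^ 3 / u ^ 2 := by
      field_simp
    rw [this]
    exact F.div_mem h3 h2

end Field

variable {A B : Type u} [CommRing A] [CommRing B] [Algebra A B]

/-- Earlier entries of a list. -/
def earlier (l : List B) (i : Fin l.length) : Set B :=
  {b | ∃ j : Fin l.length, j < i ∧ b = l.get j}

variable (A) in
/-- A list is a `P`-tower if each entry satisfies `P` relative to the algebra generated by the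
earlier entries. -/
def IsTower (P : Subalgebra A B → B → Prop) (l : List B) : Prop :=
  ∀ i : Fin l.length, P (Algebra.adjoin A (earlier l i)) (l.get i)

section Tower

variable {P : Subalgebra A B → B → Prop}
  (hmono : ∀ (C C' : Subalgebra A B) (b : B), C ≤ C' → P C b → P C' b)

include hmono

theorem IsTower.get_mem {W : Subalgebra A B} (hW : ∀ b, P W b → b ∈ W) {l : List B}
    (hl : IsTower A P l) : ∀ i : Fin l.length, l.get i ∈ W := by
  have key : ∀ n : ℕ, ∀ i : Fin l.length, i.val = n → l.get i ∈ W := by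
    intro n
    induction n using Nat.strong_induction_on with
    | _ n ih =>
      intro i hi
      apply hW
      apply hmono _ _ _ _ (hl i)
      apply Algebra.adjoin_le
      rintro b ⟨j, hj, rfl⟩
      exact ih j.val (hi ▸ hj) j rfl
  exact fun i => key i.val i rfl

theorem IsTower.adjoin_le {W : Subalgebra A B} (hW : ∀ b, P W b → b ∈ W) {l : List B}
    (hl : IsTower A P l) : Algebra.adjoin A {c | c ∈ l} ≤ W := by
  apply Algebra.adjoin_le
  intro c hc
  obtain ⟨i, rfl⟩ := List.mem_iff_get.mp hc
  exact hl.get_mem hmono hW i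

theorem IsTower.append {l₁ l₂ : List B} (h₁ : IsTower A P l₁) (h₂ : IsTower A P l₂) :
    IsTower A P (l₁ ++ l₂) := by
  intro i
  by_cases hi : i.val < l₁.length
  · have hget : (l₁ ++ l₂).get i = l₁.get ⟨i.val, hi⟩ := List.getElem_append_left hi
    rw [hget]
    apply hmono _ _ _ _ (h₁ ⟨i.val, hi⟩)
    apply Algebra.adjoin_mono
    rintro b ⟨j, hj, rfl⟩
    refine ⟨⟨j.val, by rw [List.length_append]; have := j.2; omega⟩, hj, ?_⟩
    exact (List.getElem_append_left j.2).symm
  · push Not at hi
    have hlen : i.val - l₁.length < l₂.length := by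
      have h := i.isLt
      have hl : (l₁ ++ l₂).length = l₁.length + l₂.length := List.length_append
      omega
    have hget : (l₁ ++ l₂).get i = l₂.get ⟨i.val - l₁.length, hlen⟩ :=
      List.getElem_append_right hi
    rw [hget]
    apply hmono _ _ _ _ (h₂ ⟨_, hlen⟩)
    apply Algebra.adjoin_mono
    rintro b ⟨j, hj, rfl⟩
    have hj' : j.val < i.val - l₁.length := hj
    refine ⟨⟨l₁.length + j.val, by rw [List.length_append]; have := j.2; omega⟩, ?_, ?_⟩
    · change l₁.length + j.val < i.val
      omega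
    · change l₂[j.val] = (l₁ ++ l₂)[l₁.length + j.val]
      rw [List.getElem_append_right (by omega)]
      simp

theorem IsTower.concat {l : List B} (h : IsTower A P l) {b : B}
    (hb : P (Algebra.adjoin A {c | c ∈ l}) b) : IsTower A P (l ++ [b]) := by
  intro i
  by_cases hi : i.val < l.length
  · have hget : (l ++ [b]).get i = l.get ⟨i.val, hi⟩ := List.getElem_append_left hi
    rw [hget]
    apply hmono _ _ _ _ (h ⟨i.val, hi⟩)
    apply Algebra.adjoin_mono
    rintro c ⟨j, hj, rfl⟩
    refine ⟨⟨j.val, by rw [List.length_append]; have := j.2; omega⟩, hj, ?_⟩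
    exact (List.getElem_append_left j.2).symm
  · push Not at hi
    have hi' : i.val = l.length := by
      have h := i.isLt
      have hl : (l ++ [b]).length = l.length + 1 := by
        rw [List.length_append, List.length_singleton]
      omega
    have hget : (l ++ [b]).get i = b := by
      change (l ++ [b])[i.val] = b
      rw [List.getElem_append_right hi]
      simp
    rw [hget]
    apply hmono _ _ _ _ hb
    apply Algebra.adjoin_mono
    intro c hc
    obtain ⟨j, rfl⟩ := List.mem_iff_get.mp hc
    refine ⟨⟨j.val, by rw [List.length_append]; have := j.2; omega⟩, ?_, ?_⟩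
    · change j.val < i.val
      have := j.2
      omega
    · exact (List.getElem_append_left j.2).symm

omit hmono in
theorem isTower_nil : IsTower A P ([] : List B) := fun i => absurd i.2 (by simp)

/-- The elements of `B` lying in the algebra generated by some `P`-tower. -/
def towerSub : Subalgebra A B where
  carrier := {b | ∃ l : List B, IsTower A P l ∧ b ∈ Algebra.adjoin A {c | c ∈ l}}
  mul_mem' := by
    rintro x y ⟨l₁, h₁, hx⟩ ⟨l₂, h₂, hy⟩
    refine ⟨l₁ ++ l₂, h₁.append hmono h₂, mul_mem ?_ ?_⟩
    · exact Algebra.adjoin_mono (fun c hc => List.mem_append_left _ hc) hx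
    · exact Algebra.adjoin_mono (fun c hc => List.mem_append_right _ hc) hy
  add_mem' := by
    rintro x y ⟨l₁, h₁, hx⟩ ⟨l₂, h₂, hy⟩
    refine ⟨l₁ ++ l₂, h₁.append hmono h₂, add_mem ?_ ?_⟩
    · exact Algebra.adjoin_mono (fun c hc => List.mem_append_left _ hc) hx
    · exact Algebra.adjoin_mono (fun c hc => List.mem_append_right _ hc) hy
  algebraMap_mem' := fun a => ⟨[], isTower_nil, Subalgebra.algebraMap_mem _ a⟩

theorem mem_towerSub {b : B} : b ∈ towerSub hmono ↔
    ∃ l : List B, IsTower A P l ∧ b ∈ Algebra.adjoin A {c | c ∈ l} := Iff.rfl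

theorem exists_tower_of_finset (E : Finset B) (hE : ∀ b ∈ E, b ∈ towerSub hmono) :
    ∃ l : List B, IsTower A P l ∧ (E : Set B) ⊆ Algebra.adjoin A {c | c ∈ l} := by
  classical
  induction E using Finset.induction_on with
  | empty => exact ⟨[], isTower_nil, by simp⟩
  | insert b E hb ih =>
    obtain ⟨l₁, h₁, hE₁⟩ := ih (fun c hc => hE c (Finset.mem_insert_of_mem hc))
    obtain ⟨l₂, h₂, hb₂⟩ := hE b (Finset.mem_insert_self b E)
    refine ⟨l₁ ++ l₂, h₁.append hmono h₂, ?_⟩
    intro c hc
    rw [Finset.coe_insert, Set.mem_insert_iff] at hc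
    rcases hc with rfl | hc
    · exact Algebra.adjoin_mono (fun c hc => List.mem_append_right _ hc) hb₂
    · exact Algebra.adjoin_mono (fun c hc => List.mem_append_left _ hc) (hE₁ hc)

theorem mem_towerSub_of_step
    (hfin : ∀ (C : Subalgebra A B) (b : B), P C b → ∃ F : Finset B, (F : Set B) ⊆ C ∧
      ∀ C' : Subalgebra A B, (F : Set B) ⊆ C' → P C' b)
    {b : B} (hb : P (towerSub hmono) b) : b ∈ towerSub hmono := by
  obtain ⟨F, hF, hF'⟩ := hfin _ _ hb
  obtain ⟨l, hl, hFl⟩ := exists_tower_of_finset hmono F hF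
  exact ⟨l ++ [b], hl.concat hmono (hF' _ hFl), Algebra.subset_adjoin (by simp)⟩

end Tower

section Steps

/-- `b², b³ ∈ C`. -/
def Step23 (C : Subalgebra A B) (b : B) : Prop := b ^ 2 ∈ C ∧ b ^ 3 ∈ C

/-- `p b, b^p ∈ C` for some prime number `p`. -/
def StepP (C : Subalgebra A B) (b : B) : Prop :=
  ∃ p : ℕ, p.Prime ∧ (p : B) * b ∈ C ∧ b ^ p ∈ C

/-- Either kind of step. -/
def StepAny (C : Subalgebra A B) (b : B) : Prop := Step23 C b ∨ StepP C b

theorem step23_mono (C C' : Subalgebra A B) (b : B) (h : C ≤ C') (hb : Step23 C b) :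
    Step23 C' b := ⟨h hb.1, h hb.2⟩

theorem stepAny_mono (C C' : Subalgebra A B) (b : B) (h : C ≤ C') (hb : StepAny C b) :
    StepAny C' b := by
  rcases hb with hb | ⟨p, hp, h1, h2⟩
  · exact Or.inl (step23_mono C C' b h hb)
  · exact Or.inr ⟨p, hp, h h1, h h2⟩

theorem step23_fin (C : Subalgebra A B) (b : B) (hb : Step23 C b) :
    ∃ F : Finset B, (F : Set B) ⊆ C ∧ ∀ C' : Subalgebra A B, (F : Set B) ⊆ C' → Step23 C' b := by
  classical
  refine ⟨{b ^ 2, b ^ 3}, ?_, fun C' hC' => ⟨hC' (by simp), hC' (by simp)⟩⟩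
  intro x hx
  rw [Finset.coe_insert, Finset.coe_singleton, Set.mem_insert_iff, Set.mem_singleton_iff] at hx
  rcases hx with rfl | rfl
  · exact hb.1
  · exact hb.2

theorem stepAny_fin (C : Subalgebra A B) (b : B) (hb : StepAny C b) :
    ∃ F : Finset B, (F : Set B) ⊆ C ∧ ∀ C' : Subalgebra A B, (F : Set B) ⊆ C' → StepAny C' b := by
  classical
  rcases hb with hb | ⟨p, hp, h1, h2⟩
  · obtain ⟨F, hF, hF'⟩ := step23_fin C b hb
    exact ⟨F, hF, fun C' hC' => Or.inl (hF' C' hC')⟩
  · refine ⟨{(p : B) * b, b ^ p}, ?_, fun C' hC' => Or.inr ⟨p, hp, hC' (by simp), hC' (by simp)⟩⟩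
    intro x hx
    rw [Finset.coe_insert, Finset.coe_singleton, Set.mem_insert_iff, Set.mem_singleton_iff] at hx
    rcases hx with rfl | rfl
    · exact h1
    · exact h2

/-- The integral closure is closed under steps. -/
theorem mem_integralClosure_of_stepAny {b : B} (hb : StepAny (integralClosure A B) b) :
    b ∈ integralClosure A B := by
  rcases hb with hb | ⟨p, hp, _, h2⟩
  · exact IsIntegral.of_pow (n := 2) (by norm_num) hb.1
  · exact IsIntegral.of_pow hp.pos h2

/-- Equalizers of algebra maps to a field are closed under steps. -/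
theorem mem_equalizer_of_stepAny {K : Type*} [Field K] [Algebra A K] (G₁ G₂ : B →ₐ[A] K) {b : B}
    (hb : StepAny (AlgHom.equalizer G₁ G₂) b) : b ∈ AlgHom.equalizer G₁ G₂ := by
  rw [AlgHom.mem_equalizer]
  rcases hb with hb | ⟨p, hp, h1, h2⟩
  · have h2 := hb.1
    have h3 := hb.2
    rw [AlgHom.mem_equalizer, map_pow, map_pow] at h2 h3
    exact eq_of_sq_cube h2 h3
  · rw [AlgHom.mem_equalizer] at h1 h2
    rw [map_mul, map_mul, map_natCast, map_natCast] at h1
    rw [map_pow, map_pow] at h2
    exact eq_of_prime hp h1 h2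

/-- `resSub` as a subalgebra. -/
noncomputable def resSubalg (Q : PrimeSpectrum B) : Subalgebra A B :=
  { (resSub (algebraMap A B) Q).toSubsemiring with
    algebraMap_mem' := fun a => map_mem_resSub _ Q a }

theorem mem_resSubalg (Q : PrimeSpectrum B) (b : B) :
    b ∈ resSubalg (A := A) Q ↔ b ∈ resSub (algebraMap A B) Q := Iff.rfl

theorem mem_resSubalg_of_step23 (Q : PrimeSpectrum B) {b : B}
    (hb : Step23 (resSubalg (A := A) Q) b) : b ∈ resSubalg (A := A) Q := by
  obtain ⟨h2, h3⟩ := hb
  rw [mem_resSubalg, mem_resSub_iff'] at h2 h3 ⊢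
  set f := Ideal.ResidueField.map (PrimeSpectrum.comap (algebraMap A B) Q).asIdeal Q.asIdeal
    (algebraMap A B) rfl with hf
  have h2' : (algebraMap B Q.asIdeal.ResidueField b) ^ 2 ∈ f.fieldRange := by
    rw [← map_pow]; exact RingHom.mem_fieldRange.mpr h2
  have h3' : (algebraMap B Q.asIdeal.ResidueField b) ^ 3 ∈ f.fieldRange := by
    rw [← map_pow]; exact RingHom.mem_fieldRange.mpr h3
  exact RingHom.mem_fieldRange.mp (mem_subfield_of_sq_cube _ h2' h3')

variable (A B) in
/-- Every subalgebra closed under `P`-steps is everything. -/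
def Exhausts (P : Subalgebra A B → B → Prop) : Prop :=
  ∀ W : Subalgebra A B, (∀ b, P W b → b ∈ W) → W = ⊤

theorem isUH_of_exhausts (hinj : Function.Injective (algebraMap A B))
    (h : Exhausts A B StepAny) : IsUH (algebraMap A B) := by
  have hint : (algebraMap A B).IsIntegral := by
    intro b
    have : b ∈ integralClosure A B := by
      rw [h _ (fun b hb => mem_integralClosure_of_stepAny hb)]
      exact Algebra.mem_top
    exact this
  refine ⟨hint, hint.comap_surjective hinj, ?_⟩
  intro K _ g₁ g₂ hg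
  let _ : Algebra A K := (g₁.comp (algebraMap A B)).toAlgebra
  let G₁ : B →ₐ[A] K := { g₁ with commutes' := fun a => rfl }
  let G₂ : B →ₐ[A] K :=
    { g₂ with commutes' := fun a => (congrArg (fun f : A →+* K => f a) hg).symm }
  have htop := h _ (fun b hb => mem_equalizer_of_stepAny G₁ G₂ hb)
  ext b
  have : b ∈ AlgHom.equalizer G₁ G₂ := by rw [htop]; exact Algebra.mem_top
  exact this

theorem resTriv_of_exhausts (h : Exhausts A B Step23) : ResTriv (algebraMap A B) := by
  rw [resTriv_iff_resSub]
  intro Q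
  have htop := h _ (fun b hb => mem_resSubalg_of_step23 (A := A) Q hb)
  rw [eq_top_iff]
  intro b _
  have : b ∈ resSubalg (A := A) Q := by rw [htop]; exact Algebra.mem_top
  exact this

theorem exhausts_of_le {P P' : Subalgebra A B → B → Prop} (hPP' : ∀ C b, P C b → P' C b)
    (h : Exhausts A B P) : Exhausts A B P' :=
  fun W hW => h W (fun b hb => hW b (hPP' W b hb))

/-- Generation by elements satisfying the step condition over the base. -/
theorem exhausts_of_adjoin {P : Subalgebra A B → B → Prop}
    (hmono : ∀ (C C' : Subalgebra A B) (b : B), C ≤ C' → P C b → P C' b)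
    (S : Set B) (hS : Algebra.adjoin A S = ⊤) (hP : ∀ b ∈ S, P ⊥ b) : Exhausts A B P := by
  intro W hW
  rw [eq_top_iff, ← hS]
  apply Algebra.adjoin_le
  intro b hb
  exact hW b (hmono _ _ _ bot_le (hP b hb))

/-- Towers exhaust. -/
theorem exhausts_of_towers {P : Subalgebra A B → B → Prop}
    (hmono : ∀ (C C' : Subalgebra A B) (b : B), C ≤ C' → P C b → P C' b)
    (h : ∀ b : B, ∃ l : List B, IsTower A P l ∧ b ∈ Algebra.adjoin A {c | c ∈ l}) :
    Exhausts A B P := by
  intro W hW
  rw [eq_top_iff]
  intro b _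
  obtain ⟨l, hl, hb⟩ := h b
  exact hl.adjoin_le hmono hW hb

/-- Universal homeomorphisms are exhausted by towers (Stacks 0CNH, hard direction). -/
theorem towerSub_eq_top_of_isUH (hU : IsUH (algebraMap A B)) :
    towerSub (P := StepAny (A := A) (B := B)) stepAny_mono = ⊤ := by
  by_contra hne
  set W := towerSub (P := StepAny (A := A) (B := B)) stepAny_mono with hW
  have hcomp : algebraMap A B = (algebraMap W B).comp (algebraMap A W) := rfl
  have hψ : Function.Injective (algebraMap W B) := Subtype.val_injective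
  have hUW : IsUH (algebraMap W B) := IsUH.right (algebraMap A W) _ hψ (hcomp ▸ hU)
  have hns : ¬ Function.Surjective (algebraMap W B) := by
    intro hs
    apply hne
    rw [eq_top_iff]
    intro b _
    obtain ⟨w, rfl⟩ := hs b
    exact w.2
  have hrange : ∀ b : B, b ∈ (algebraMap W B).range ↔ b ∈ W := by
    intro b
    constructor
    · rintro ⟨w, rfl⟩
      exact w.2
    · intro hb
      exact ⟨⟨b, hb⟩, rfl⟩
  rcases exists_step (algebraMap W B) hUW hns with ⟨b, hb, h2, h3⟩ | ⟨p, b, hp, hb, h2, h3⟩
  · rw [hrange] at hb h2 h3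
    exact hb (mem_towerSub_of_step stepAny_mono stepAny_fin (Or.inl ⟨h2, h3⟩))
  · rw [hrange] at hb h2 h3
    exact hb (mem_towerSub_of_step stepAny_mono stepAny_fin (Or.inr ⟨p, hp, h2, h3⟩))

/-- Universal homeomorphisms with trivial residue field extensions are exhausted by towers of
`(b², b³)`-steps (Stacks 0CNF, hard direction). -/
theorem towerSub_eq_top_of_isUH_resTriv (hU : IsUH (algebraMap A B))
    (hres : ResTriv (algebraMap A B)) :
    towerSub (P := Step23 (A := A) (B := B)) step23_mono = ⊤ := by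
  by_contra hne
  set W := towerSub (P := Step23 (A := A) (B := B)) step23_mono with hW
  have hcomp : algebraMap A B = (algebraMap W B).comp (algebraMap A W) := rfl
  have hψ : Function.Injective (algebraMap W B) := Subtype.val_injective
  have hUW : IsUH (algebraMap W B) := IsUH.right (algebraMap A W) _ hψ (hcomp ▸ hU)
  have hresW : ResTriv (algebraMap W B) := ResTriv.right (algebraMap A W) _ (hcomp ▸ hres)
  have hns : ¬ Function.Surjective (algebraMap W B) := by
    intro hs
    apply hne
    rw [eq_top_iff]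
    intro b _
    obtain ⟨w, rfl⟩ := hs b
    exact w.2
  have hrange : ∀ b : B, b ∈ (algebraMap W B).range ↔ b ∈ W := by
    intro b
    constructor
    · rintro ⟨w, rfl⟩
      exact w.2
    · intro hb
      exact ⟨⟨b, hb⟩, rfl⟩
  obtain ⟨b, hb, h2, h3⟩ := exists_step23 (algebraMap W B) hUW hresW hns
  rw [hrange] at hb h2 h3
  exact hb (mem_towerSub_of_step step23_mono step23_fin ⟨h2, h3⟩)

end Steps

end Groth.Agent.Lib.UHTowerH52
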