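import Mathlib
import Groth.Prelude.Def_W4c5m1nsnscurvesU

/-!
# The coordinate ring of `U_5` over `ℤ` is a polynomial ring in six variables (helper1)
-/

set_option autoImplicit false
universe u

open W4c5m1nsnscurves MvPolynomial

namespace Groth.Agent.Lib.URingFive

/-- the linear expression for `c_{54}` -/
noncomputable def L : MvPolynomial (Fin 6) ℤ := X 0 + X 1 + X 2 + X 3 + X 4 - X 5

/-- images of the generators in the polynomial ring on `a, c_4, c̄_4, c_5, c̄_5, c_{45}` -/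
noncomputable def ψ₀ : UGen 2 → MvPolynomial (Fin 6) ℤ
  | .a => X 0
  | .c => L * X 3 + X 5 * X 1 - X 1 * X 3
  | .cb => L * X 2 + X 5 * X 4 - X 2 * X 4
  | .ci i => if i = 0 then X 1 else X 3
  | .cbi i => if i = 0 then X 2 else X 4
  | .cij i _ _ => if i = 0 then X 5 else L

noncomputable def ψ : MvPolynomial (UGen 2) ℤ →ₐ[ℤ] MvPolynomial (Fin 6) ℤ := aeval ψ₀

theorem ψ_X (g : UGen 2) : ψ (X g) = ψ₀ g := aeval_X _ _

theorem ψ_rel (p : MvPolynomial (UGen 2) ℤ) (hp : p ∈ URel ℤ 2) : ψ p = 0 := by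
  unfold URel at hp
  rcases hp with ((⟨⟨⟨i, j⟩, hij⟩, rfl⟩ | ⟨⟨⟨i, j⟩, hij⟩, rfl⟩) | ⟨⟨⟨i, j⟩, hij⟩, rfl⟩) |
    ⟨⟨⟨i, j, l⟩, hij, hjl, hil⟩, rfl⟩
  · fin_cases i <;> fin_cases j <;> simp at hij <;>
      (simp [ψ_X, ψ₀, L]; try ring)
  · fin_cases i <;> fin_cases j <;> simp at hij <;>
      (simp [ψ_X, ψ₀, L]; try ring)
  · fin_cases i <;> fin_cases j <;> simp at hij <;>
      (simp [ψ_X, ψ₀, L]; try ring)
  · exfalso
    fin_cases i <;> fin_cases j <;> fin_cases l <;> simp at hij hjl hil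

noncomputable def ψbar : URing ℤ 2 →ₐ[ℤ] MvPolynomial (Fin 6) ℤ :=
  Ideal.Quotient.liftₐ (Ideal.span (URel ℤ 2)) ψ (by
    intro p hp
    have : Ideal.span (URel ℤ 2) ≤ RingHom.ker ψ := by
      rw [Ideal.span_le]
      intro q hq
      exact ψ_rel q hq
    exact RingHom.mem_ker.1 (this hp))

theorem ψbar_ugen (g : UGen 2) : ψbar (ugen ℤ 2 g) = ψ₀ g := by
  have h : ψbar (ugen ℤ 2 g) = ψ (X g) := rfl
  rw [h, ψ_X]

end Groth.Agent.Lib.URingFive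

namespace Groth.Agent.Lib.URingFive

theorem rel1 : ugen ℤ 2 (.cij 0 1 Fin.zero_ne_one) + ugen ℤ 2 (.cij 1 0 Fin.zero_ne_one.symm) =
    ugen ℤ 2 .a + ugen ℤ 2 (.ci 0) + ugen ℤ 2 (.cbi 0) + ugen ℤ 2 (.ci 1) + ugen ℤ 2 (.cbi 1) := by
  have hmem : (X (.cij 0 1 Fin.zero_ne_one) + X (.cij 1 0 Fin.zero_ne_one.symm) -
      (X .a + X (.ci 0) + X (.cbi 0) + X (.ci 1) + X (.cbi 1)) : MvPolynomial (UGen 2) ℤ) ∈
      URel ℤ 2 := by
    unfold URel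
    left; left; left
    exact ⟨⟨(0, 1), Fin.zero_ne_one⟩, rfl⟩
  have h := Ideal.Quotient.eq_zero_iff_mem.2 (Ideal.subset_span hmem)
  rw [map_sub, sub_eq_zero] at h
  simpa [ugen] using h

theorem rel2 : ugen ℤ 2 .c = ugen ℤ 2 (.cij 1 0 Fin.zero_ne_one.symm) * ugen ℤ 2 (.ci 1) +
    ugen ℤ 2 (.cij 0 1 Fin.zero_ne_one) * ugen ℤ 2 (.ci 0) - ugen ℤ 2 (.ci 0) * ugen ℤ 2 (.ci 1) := by
  have hmem : (X (.cij 1 0 Fin.zero_ne_one.symm) * X (.ci 1) + X (.cij 0 1 Fin.zero_ne_one) * X (.ci 0) -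
      X (.ci 0) * X (.ci 1) - X .c : MvPolynomial (UGen 2) ℤ) ∈ URel ℤ 2 := by
    unfold URel
    left; left; right
    exact ⟨⟨(0, 1), Fin.zero_ne_one⟩, rfl⟩
  have h := Ideal.Quotient.eq_zero_iff_mem.2 (Ideal.subset_span hmem)
  rw [map_sub, sub_eq_zero] at h
  simpa [ugen] using h.symm

theorem rel3 : ugen ℤ 2 .cb = ugen ℤ 2 (.cij 1 0 Fin.zero_ne_one.symm) * ugen ℤ 2 (.cbi 0) +
    ugen ℤ 2 (.cij 0 1 Fin.zero_ne_one) * ugen ℤ 2 (.cbi 1) - ugen ℤ 2 (.cbi 0) * ugen ℤ 2 (.cbi 1) := by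
  have hmem : (X (.cij 1 0 Fin.zero_ne_one.symm) * X (.cbi 0) + X (.cij 0 1 Fin.zero_ne_one) * X (.cbi 1) -
      X (.cbi 0) * X (.cbi 1) - X .cb : MvPolynomial (UGen 2) ℤ) ∈ URel ℤ 2 := by
    unfold URel
    left; right
    exact ⟨⟨(0, 1), Fin.zero_ne_one⟩, rfl⟩
  have h := Ideal.Quotient.eq_zero_iff_mem.2 (Ideal.subset_span hmem)
  rw [map_sub, sub_eq_zero] at h
  simpa [ugen] using h.symm

/-- the map of the statement -/
noncomputable def φ : MvPolynomial (Fin 6) ℤ →ₐ[ℤ] URing ℤ 2 :=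
  MvPolynomial.aeval (R := ℤ) (S₁ := URing ℤ 2)
    ![ugen ℤ 2 .a, ugen ℤ 2 (.ci 0), ugen ℤ 2 (.cbi 0), ugen ℤ 2 (.ci 1), ugen ℤ 2 (.cbi 1),
      ugen ℤ 2 (.cij 0 1 Fin.zero_ne_one)]

theorem φ_L : φ L = ugen ℤ 2 (.cij 1 0 Fin.zero_ne_one.symm) := by
  have h := rel1
  unfold φ L
  simp only [map_sub, map_add, aeval_X]
  simp only [Matrix.cons_val_zero, Matrix.cons_val_one, Matrix.cons_val]
  rw [← h]
  ring

theorem ψbar_comp_φ : ψbar.comp φ = AlgHom.id ℤ _ := by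
  apply MvPolynomial.algHom_ext
  intro i
  rw [AlgHom.comp_apply, AlgHom.id_apply]
  unfold φ
  rw [aeval_X]
  fin_cases i <;> simp [ψbar_ugen, ψ₀]

theorem φ_ψ₀ (g : UGen 2) : φ (ψ₀ g) = ugen ℤ 2 g := by
  cases g with
  | a => simp [ψ₀, φ]
  | c =>
    rw [rel2]
    simp only [ψ₀, map_sub, map_add, map_mul, φ_L]
    simp [φ]
  | cb =>
    rw [rel3]
    simp only [ψ₀, map_sub, map_add, map_mul, φ_L]
    simp [φ]
  | ci i => fin_cases i <;> simp [ψ₀, φ]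
  | cbi i => fin_cases i <;> simp [ψ₀, φ]
  | cij i j h =>
    fin_cases i <;> fin_cases j <;> simp at h
    · simp [ψ₀, φ]
    · simp only [ψ₀]
      simpa using φ_L

theorem φ_comp_ψbar : φ.comp ψbar = AlgHom.id ℤ _ := by
  apply Ideal.Quotient.algHom_ext
  apply MvPolynomial.algHom_ext
  intro g
  change φ (ψbar (ugen ℤ 2 g)) = ugen ℤ 2 g
  rw [ψbar_ugen, φ_ψ₀]

theorem φ_bijective : Function.Bijective φ := by
  constructor
  · intro x y hxy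
    have := congrArg ψbar hxy
    have h1 : ∀ z, ψbar (φ z) = z := fun z => DFunLike.congr_fun ψbar_comp_φ z
    rwa [h1, h1] at this
  · intro z
    exact ⟨ψbar z, DFunLike.congr_fun φ_comp_ψbar z⟩

end Groth.Agent.Lib.URingFive
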