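import Mathlib

/-!
# First segment of the Newton polygon, via ultrametric coefficient bounds

For a monic polynomial with coefficients of norm `≤ 1` over an ultrametric normed field which
splits, the number `m` of roots of norm `< 1` is the least index `j` with `‖a_j‖ = 1`.
Specialised to integer polynomials over `PadicAlgCl p`. (Helper for S17987.)
-/

namespace Groth.Agent.Lib.UltraNewton

open Polynomial

section general

variable {K : Type*} [NormedField K] [IsUltrametricDist K]

lemma norm_sum_lt {ι : Type*} (s : Finset ι) (f : ι → K) {C : ℝ} (hC : 0 < C)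
    (h : ∀ i ∈ s, ‖f i‖ < C) : ‖∑ i ∈ s, f i‖ < C := by
  classical
  induction s using Finset.induction_on with
  | empty => simpa using hC
  | insert a s ha ih =>
    rw [Finset.sum_insert ha]
    refine lt_of_le_of_lt (IsUltrametricDist.norm_add_le_max _ _) (max_lt ?_ ?_)
    · exact h a (Finset.mem_insert_self a s)
    · exact ih (fun i hi => h i (Finset.mem_insert_of_mem hi))

lemma norm_sum_le {ι : Type*} (s : Finset ι) (f : ι → K) {C : ℝ} (hC : 0 ≤ C)
    (h : ∀ i ∈ s, ‖f i‖ ≤ C) : ‖∑ i ∈ s, f i‖ ≤ C := by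
  classical
  induction s using Finset.induction_on with
  | empty => simpa using hC
  | insert a s ha ih =>
    rw [Finset.sum_insert ha]
    refine le_trans (IsUltrametricDist.norm_add_le_max _ _) (max_le ?_ ?_)
    · exact h a (Finset.mem_insert_self a s)
    · exact ih (fun i hi => h i (Finset.mem_insert_of_mem hi))

lemma norm_sub_le_max' (a b : K) : ‖a - b‖ ≤ max ‖a‖ ‖b‖ := by
  rw [sub_eq_add_neg]
  refine le_trans (IsUltrametricDist.norm_add_le_max _ _) ?_
  rw [norm_neg]

/-- a root of a monic polynomial with coefficients of norm `≤ 1` has norm `≤ 1`. -/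
lemma norm_root_le_one {P : K[X]} (hP : P.Monic) (hc : ∀ j, ‖P.coeff j‖ ≤ 1) {z : K}
    (hz : P.eval z = 0) : ‖z‖ ≤ 1 := by
  by_contra hlt
  push Not at hlt
  set n := P.natDegree with hn
  have hn0 : n ≠ 0 := by
    intro h0
    have : P = 1 := by
      have h1 : P.coeff 0 = 1 := by
        have := hP.coeff_natDegree; rwa [← hn, h0] at this
      have := Polynomial.eq_C_of_natDegree_eq_zero (hn ▸ h0)
      rw [this, h1, map_one]
    rw [this, eval_one] at hz
    exact one_ne_zero hz
  rw [Polynomial.eval_eq_sum_range, Finset.sum_range_succ, ← hn, hP.coeff_natDegree, one_mul] at hz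
  have h1 : z ^ n = - ∑ j ∈ Finset.range n, P.coeff j * z ^ j := by
    rw [eq_neg_iff_add_eq_zero, add_comm]; exact hz
  have h2 : ‖z ^ n‖ ≤ ‖z‖ ^ (n - 1) := by
    rw [h1, norm_neg]
    apply norm_sum_le _ _ (by positivity)
    intro j hj
    rw [Finset.mem_range] at hj
    rw [norm_mul, norm_pow]
    calc ‖P.coeff j‖ * ‖z‖ ^ j ≤ 1 * ‖z‖ ^ (n - 1) := by
          apply mul_le_mul (hc j) _ (by positivity) zero_le_one
          exact pow_le_pow_right₀ hlt.le (by omega)
      _ = ‖z‖ ^ (n - 1) := one_mul _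
  rw [norm_pow] at h2
  have h3 : ‖z‖ ^ (n - 1) < ‖z‖ ^ n := pow_lt_pow_right₀ hlt (by omega)
  exact absurd h2 (not_le.mpr h3)

/-- coefficients of `∏ (X - z)` with all `‖z‖ ≤ 1` have norm `≤ 1`. -/
lemma norm_coeff_prod_le_one (s : Multiset K) (hs : ∀ z ∈ s, ‖z‖ ≤ 1) (j : ℕ) :
    ‖((s.map (fun z => X - C z)).prod).coeff j‖ ≤ 1 := by
  induction s using Multiset.induction_on generalizing j with
  | empty =>
    simp only [Multiset.map_zero, Multiset.prod_zero, coeff_one]
    split_ifs <;> simp
  | cons a s ih =>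
    have hs' : ∀ z ∈ s, ‖z‖ ≤ 1 := fun z hz => hs z (Multiset.mem_cons_of_mem hz)
    have ha : ‖a‖ ≤ 1 := hs a (Multiset.mem_cons_self a s)
    rw [Multiset.map_cons, Multiset.prod_cons]
    cases j with
    | zero =>
      rw [mul_coeff_zero, norm_mul]
      have : ‖(X - C a : K[X]).coeff 0‖ ≤ 1 := by simpa using ha
      exact mul_le_one₀ this (norm_nonneg _) (ih hs' 0)
    | succ j =>
      rw [coeff_X_sub_C_mul]
      refine le_trans (norm_sub_le_max' _ _) (max_le (ih hs' j) ?_)
      rw [norm_mul]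
      exact mul_le_one₀ ha (norm_nonneg _) (ih hs' (j+1))

/-- coefficients below the degree of `∏ (X - z)` with all `‖z‖ < 1` have norm `< 1`. -/
lemma norm_coeff_prod_lt_one (s : Multiset K) (hs : ∀ z ∈ s, ‖z‖ < 1) (j : ℕ)
    (hj : j < Multiset.card s) :
    ‖((s.map (fun z => X - C z)).prod).coeff j‖ < 1 := by
  induction s using Multiset.induction_on generalizing j with
  | empty => simp at hj
  | cons a s ih =>
    have hs' : ∀ z ∈ s, ‖z‖ < 1 := fun z hz => hs z (Multiset.mem_cons_of_mem hz)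
    have ha : ‖a‖ < 1 := hs a (Multiset.mem_cons_self a s)
    have hle : ∀ j, ‖((s.map (fun z => X - C z)).prod).coeff j‖ ≤ 1 :=
      norm_coeff_prod_le_one s (fun z hz => (hs' z hz).le)
    rw [Multiset.map_cons, Multiset.prod_cons]
    cases j with
    | zero =>
      rw [mul_coeff_zero, norm_mul]
      have : ‖(X - C a : K[X]).coeff 0‖ < 1 := by simpa using ha
      calc ‖(X - C a : K[X]).coeff 0‖ * ‖((s.map (fun z => X - C z)).prod).coeff 0‖
          ≤ ‖(X - C a : K[X]).coeff 0‖ * 1 :=
            mul_le_mul_of_nonneg_left (hle 0) (norm_nonneg _)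
        _ < 1 := by rw [mul_one]; exact this
    | succ j =>
      rw [Multiset.card_cons] at hj
      rw [coeff_X_sub_C_mul]
      refine lt_of_le_of_lt (norm_sub_le_max' _ _) (max_lt (ih hs' j (by omega)) ?_)
      rw [norm_mul]
      calc ‖a‖ * ‖((s.map (fun z => X - C z)).prod).coeff (j+1)‖ ≤ ‖a‖ * 1 :=
            mul_le_mul_of_nonneg_left (hle (j+1)) (norm_nonneg _)
        _ < 1 := by rw [mul_one]; exact ha

omit [IsUltrametricDist K] in
/-- constant coefficient of `∏ (X - z)` with all `‖z‖ = 1` has norm `1`. -/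
lemma norm_coeff_zero_prod_eq_one (s : Multiset K) (hs : ∀ z ∈ s, ‖z‖ = 1) :
    ‖((s.map (fun z => X - C z)).prod).coeff 0‖ = 1 := by
  induction s using Multiset.induction_on with
  | empty => simp
  | cons a s ih =>
    have hs' : ∀ z ∈ s, ‖z‖ = 1 := fun z hz => hs z (Multiset.mem_cons_of_mem hz)
    have ha : ‖a‖ = 1 := hs a (Multiset.mem_cons_self a s)
    rw [Multiset.map_cons, Multiset.prod_cons, mul_coeff_zero, norm_mul, ih hs']
    simp [ha]

/-- the product lemma: `f` with integral coefficients and unit constant term, `g` monic of degree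
`m` with lower coefficients of norm `< 1`. -/
lemma norm_coeff_mul (f g : K[X]) (m : ℕ) (hf : ∀ j, ‖f.coeff j‖ ≤ 1) (hf0 : ‖f.coeff 0‖ = 1)
    (hg : ∀ j < m, ‖g.coeff j‖ < 1) (hgm : g.coeff m = 1) :
    (∀ j < m, ‖(f * g).coeff j‖ < 1) ∧ ‖(f * g).coeff m‖ = 1 := by
  constructor
  · intro j hj
    rw [coeff_mul]
    apply norm_sum_lt _ _ one_pos
    intro x hx
    rw [Finset.HasAntidiagonal.mem_antidiagonal] at hx
    rw [norm_mul]
    calc ‖f.coeff x.1‖ * ‖g.coeff x.2‖ ≤ 1 * ‖g.coeff x.2‖ :=
          mul_le_mul_of_nonneg_right (hf _) (norm_nonneg _)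
      _ < 1 := by rw [one_mul]; exact hg _ (by omega)
  · rw [coeff_mul]
    have hmem : ((0, m) : ℕ × ℕ) ∈ Finset.HasAntidiagonal.antidiagonal m := by simp
    rw [← Finset.add_sum_erase _ _ hmem]
    have h1 : ‖f.coeff (0, m).1 * g.coeff (0, m).2‖ = 1 := by
      simp only [hgm, mul_one, hf0]
    have h2 : ‖∑ x ∈ (Finset.HasAntidiagonal.antidiagonal m).erase (0, m), f.coeff x.1 * g.coeff x.2‖ < 1 := by
      apply norm_sum_lt _ _ one_pos
      intro x hx
      rw [Finset.mem_erase, Finset.HasAntidiagonal.mem_antidiagonal] at hx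
      have hx2 : x.2 < m := by
        rcases hx with ⟨hne, hsum⟩
        by_contra hge
        apply hne
        ext <;> simp <;> omega
      rw [norm_mul]
      calc ‖f.coeff x.1‖ * ‖g.coeff x.2‖ ≤ 1 * ‖g.coeff x.2‖ :=
            mul_le_mul_of_nonneg_right (hf _) (norm_nonneg _)
        _ < 1 := by rw [one_mul]; exact hg _ hx2
    rw [IsUltrametricDist.norm_add_eq_max_of_norm_ne_norm (by rw [h1]; exact h2.ne'), h1]
    exact max_eq_left h2.le

/-- Newton polygon, first segment: for a split monic polynomial with coefficients of norm `≤ 1`,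
the number `m` of roots of norm `< 1` is the least index of a coefficient of norm `1`. -/
theorem first_segment {P : K[X]} (hP : P.Monic) (hsplit : P.Splits) (hc : ∀ j, ‖P.coeff j‖ ≤ 1) :
    (∀ j < Multiset.card (P.roots.filter (fun z => ‖z‖ < 1)), ‖P.coeff j‖ < 1) ∧
      ‖P.coeff (Multiset.card (P.roots.filter (fun z => ‖z‖ < 1)))‖ = 1 ∧
      Multiset.card (P.roots.filter (fun z => ‖z‖ = 1)) +
        Multiset.card (P.roots.filter (fun z => ‖z‖ < 1)) = P.natDegree := by
  classical
  have hle : ∀ z ∈ P.roots, ‖z‖ ≤ 1 := by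
    intro z hz
    exact norm_root_le_one hP hc ((mem_roots hP.ne_zero).mp hz)
  have hfilt : P.roots.filter (fun z => ¬ ‖z‖ < 1) = P.roots.filter (fun z => ‖z‖ = 1) := by
    apply Multiset.filter_congr
    intro z hz
    constructor
    · intro h; exact le_antisymm (hle z hz) (not_lt.mp h)
    · intro h; rw [h]; exact lt_irrefl _
  have hsum : P.roots.filter (fun z => ‖z‖ < 1) + P.roots.filter (fun z => ‖z‖ = 1) = P.roots := by
    rw [← hfilt]; exact Multiset.filter_add_not _ _
  set s1 := P.roots.filter (fun z => ‖z‖ < 1) with hs1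
  set s2 := P.roots.filter (fun z => ‖z‖ = 1) with hs2
  set g : K[X] := (s1.map (fun z => X - C z)).prod with hg
  set f : K[X] := (s2.map (fun z => X - C z)).prod with hf
  have hPfg : P = f * g := by
    conv_lhs => rw [hsplit.eq_prod_roots_of_monic hP, ← hsum]
    rw [Multiset.map_add, Multiset.prod_add, mul_comm]
  have hgdeg : g.natDegree = Multiset.card s1 := natDegree_multiset_prod_X_sub_C_eq_card s1
  have hgmonic : g.Monic := by
    apply monic_multiset_prod_of_monic
    intro z _
    exact monic_X_sub_C z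
  have hgm : g.coeff (Multiset.card s1) = 1 := by
    rw [← hgdeg]; exact hgmonic.coeff_natDegree
  have h1 := norm_coeff_mul f g (Multiset.card s1)
    (norm_coeff_prod_le_one s2 (fun z hz => ((Multiset.mem_filter.mp hz).2).le))
    (norm_coeff_zero_prod_eq_one s2 (fun z hz => (Multiset.mem_filter.mp hz).2))
    (fun j hj => norm_coeff_prod_lt_one s1 (fun z hz => (Multiset.mem_filter.mp hz).2) j hj)
    hgm
  rw [← hPfg] at h1
  refine ⟨h1.1, h1.2, ?_⟩
  rw [hsplit.natDegree_eq_card_roots, ← hsum, Multiset.card_add, add_comm]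

end general

section padic

variable (p : ℕ) [Fact p.Prime]

lemma norm_intCast_padicAlgCl (a : ℤ) : ‖((a : ℤ) : PadicAlgCl p)‖ = ‖((a : ℤ) : ℚ_[p])‖ := by
  rw [← PadicAlgCl.norm_extends]
  congr 1

/-- Newton polygon, first segment, for monic integer polynomials over `PadicAlgCl p`. -/
theorem padic_first_segment {P : ℤ[X]} (hP : P.Monic) :
    (∀ j < Multiset.card ((P.aroots (PadicAlgCl p)).filter (fun z => ‖z‖ < 1)),
        (p : ℤ) ∣ P.coeff j) ∧
      ¬ (p : ℤ) ∣ P.coeff (Multiset.card ((P.aroots (PadicAlgCl p)).filter (fun z => ‖z‖ < 1))) ∧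
      Multiset.card ((P.aroots (PadicAlgCl p)).filter (fun z => ‖z‖ = 1)) +
        Multiset.card ((P.aroots (PadicAlgCl p)).filter (fun z => ‖z‖ < 1)) = P.natDegree := by
  set PΩ : (PadicAlgCl p)[X] := P.map (algebraMap ℤ (PadicAlgCl p)) with hPΩ
  have hmonic : PΩ.Monic := hP.map _
  have hsplit : PΩ.Splits := IsAlgClosed.splits PΩ
  have hcoeff : ∀ j, PΩ.coeff j = ((P.coeff j : ℤ) : PadicAlgCl p) := by
    intro j; rw [hPΩ, coeff_map]; rfl
  have hc : ∀ j, ‖PΩ.coeff j‖ ≤ 1 := by
    intro j
    rw [hcoeff, norm_intCast_padicAlgCl]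
    exact Padic.norm_int_le_one _
  obtain ⟨h1, h2, h3⟩ := first_segment hmonic hsplit hc
  have hroots : P.aroots (PadicAlgCl p) = PΩ.roots := rfl
  rw [hroots]
  refine ⟨?_, ?_, ?_⟩
  · intro j hj
    have := h1 j hj
    rw [hcoeff, norm_intCast_padicAlgCl] at this
    exact Padic.norm_intCast_lt_one_iff.mp this
  · intro hdvd
    rw [hcoeff, norm_intCast_padicAlgCl] at h2
    have := Padic.norm_intCast_lt_one_iff.mpr hdvd
    rw [h2] at this
    exact lt_irrefl _ this
  · rw [h3]; exact hP.natDegree_map _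

end padic

end Groth.Agent.Lib.UltraNewton
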