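import Mathlib
import Groth.Prelude.Def_CAlg2

/-!
# Counting maximal ideals of integral closures (helper84)

For a normal local domain `R` with fraction field `K` and a field extension `M/K` such that the
algebraic closure of `K` in `M` has finite separable degree `n > 0`, the integral closure of `R` in
`M` has at most `n` maximal ideals (EGA III 4.3.4 / the algebra behind S4484).  The proof passes to
a Galois closure of the separable closure and uses transitivity of the Galois action on the primes
above a given prime (`Algebra.IsInvariant.exists_smul_of_under_eq`), plus pure inseparability.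
Also: for a unibranch local domain, the integral closure in any fraction field is local.
-/

set_option autoImplicit false
set_option maxHeartbeats 800000
set_option linter.style.haveILetI false
set_option linter.unusedSectionVars false
universe u

open IntermediateField
open scoped Pointwise

namespace Groth.Agent.Lib.UnibranchCount84

/-- Galois closure of a finite separable extension. -/
theorem exists_galois_closure (K E : Type u) [Field K] [Field E] [Algebra K E]
    [FiniteDimensional K E] [Algebra.IsSeparable K E] :
    ∃ (N : Type u) (_ : Field N) (_ : Algebra K N) (_ : Algebra E N) (_ : IsScalarTower K E N),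
      FiniteDimensional K N ∧ IsGalois K N := by
  let Ω := AlgebraicClosure E
  haveI : IsAlgClosure K Ω := inferInstance
  haveI : Normal K Ω := inferInstance
  let N := IntermediateField.normalClosure K E Ω
  refine ⟨N, inferInstance, inferInstance, inferInstance, inferInstance, inferInstance, ?_⟩
  haveI : Algebra.IsSeparable K N := by
    have : ∀ f : E →ₐ[K] Ω, Algebra.IsSeparable K f.fieldRange := by
      intro f
      exact Algebra.IsSeparable.of_algHom K E (AlgEquiv.ofInjectiveField f).symm.toAlgHom
    change Algebra.IsSeparable K (⨆ f : E →ₐ[K] Ω, f.fieldRange : IntermediateField K Ω)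
    infer_instance
  exact ⟨⟩

section B

variable (R K E N : Type*) [CommRing R] [IsDomain R] [IsIntegrallyClosed R] [Field K] [Algebra R K]
  [IsFractionRing R K] [Field E] [Algebra K E] [Algebra R E] [IsScalarTower R K E]
  [Field N] [Algebra K N] [Algebra R N] [IsScalarTower R K N] [Algebra E N] [IsScalarTower K E N]
  [FiniteDimensional K N] [IsGalois K N]

/-- Transitivity of the Galois action, in the form: every prime of the integral closure of `R` in
`E` lying over the same prime of `R` as a fixed prime `Q₀` of the integral closure in a Galois
closure `N` is the contraction of `Q₀` along some `K`-embedding `E → N`. -/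
theorem exists_algHom_comap_eq
    (Q₀ : Ideal (integralClosure R N)) [Q₀.IsPrime]
    (P : Ideal (integralClosure R E)) [P.IsPrime] (hP : P.under R = Q₀.under R) :
    ∃ σ : E →ₐ[K] N, P = Q₀.comap ((σ.restrictScalars R).mapIntegralClosure) := by
  classical
  let ι₀ : E →ₐ[K] N := IsScalarTower.toAlgHom K E N
  let j : integralClosure R E →ₐ[R] integralClosure R N := (ι₀.restrictScalars R).mapIntegralClosure
  have hjinj : Function.Injective j := by
    intro a b hab
    apply Subtype.ext
    have := congrArg (fun z : integralClosure R N => (z : N)) hab
    simp only [j, AlgHom.coe_mapIntegralClosure] at this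
    exact ι₀.injective this
  letI : Algebra (integralClosure R E) (integralClosure R N) := j.toRingHom.toAlgebra
  haveI : IsScalarTower R (integralClosure R E) (integralClosure R N) :=
    IsScalarTower.of_algebraMap_eq (fun r => (j.commutes r).symm)
  haveI : Algebra.IsIntegral (integralClosure R E) (integralClosure R N) :=
    ⟨fun d => IsIntegral.tower_top (R := R) (integralClosure.isIntegral d)⟩
  obtain ⟨Q, hQp, hQ⟩ := Ideal.exists_ideal_over_prime_of_isIntegral_of_isDomain P
    (S := integralClosure R N)
    (by
      have : RingHom.ker (algebraMap (integralClosure R E) (integralClosure R N)) = ⊥ :=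
        (RingHom.injective_iff_ker_eq_bot _).mp hjinj
      rw [this]; exact bot_le)
  haveI := hQp
  -- the Galois group acts
  haveI : IsFractionRing (integralClosure R N) N :=
    integralClosure.isFractionRing_of_finite_extension K N
  letI := IsIntegralClosure.MulSemiringAction R K N (integralClosure R N)
  haveI : Algebra.IsInvariant R (integralClosure R N) Gal(N/K) :=
    Algebra.isInvariant_of_isGalois R K N (integralClosure R N)
  haveI : SMulCommClass Gal(N/K) R (integralClosure R N) := by
    refine ⟨fun g r d => ?_⟩
    change galRestrict R K N (integralClosure R N) g (r • d) =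
      r • galRestrict R K N (integralClosure R N) g d
    exact map_smul _ _ _
  have hQQ₀ : Q₀.under R = Q.under R := by
    rw [← hP, ← hQ]
    rw [Ideal.under_def, Ideal.under_def, Ideal.comap_comap]
    congr 1
    exact (IsScalarTower.algebraMap_eq R (integralClosure R E) (integralClosure R N)).symm
  obtain ⟨g, hg⟩ := Algebra.IsInvariant.exists_smul_of_under_eq R (integralClosure R N) Gal(N/K)
    Q₀ Q hQQ₀
  refine ⟨(g⁻¹ : Gal(N/K)).toAlgHom.comp ι₀, ?_⟩
  ext x
  rw [← hQ, Ideal.mem_comap, Ideal.mem_comap, hg, Ideal.mem_pointwise_smul_iff_inv_smul_mem]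
  have : g⁻¹ • (algebraMap (integralClosure R E) (integralClosure R N) x) =
      (((g⁻¹ : Gal(N/K)).toAlgHom.comp ι₀).restrictScalars R).mapIntegralClosure x := by
    apply Subtype.ext
    change algebraMap (integralClosure R N) N
      (galRestrict R K N (integralClosure R N) g⁻¹ (j x)) = _
    rw [algebraMap_galRestrict_apply]
    rfl
  rw [this]

end B

section C

variable (R K E : Type u) [CommRing R] [IsDomain R] [IsIntegrallyClosed R] [IsLocalRing R]
  [Field K] [Algebra R K]
  [IsFractionRing R K] [Field E] [Algebra K E] [Algebra R E] [IsScalarTower R K E]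
  [FiniteDimensional K E] [Algebra.IsSeparable K E]

theorem under_eq_maximalIdeal {S : Type*} [CommRing S] [Algebra R S] [Algebra.IsIntegral R S]
    (P : Ideal S) [P.IsMaximal] : P.under R = IsLocalRing.maximalIdeal R :=
  IsLocalRing.eq_maximalIdeal (Ideal.isMaximal_comap_of_isIntegral_of_isMaximal P)

/-- For a normal local domain `R` with fraction field `K` and a finite separable extension `E/K`,
the integral closure of `R` in `E` has at most `[E:K]` maximal ideals. -/
theorem card_maximalSpectrum_le_finrank :
    Finite (MaximalSpectrum (integralClosure R E)) ∧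
      Nat.card (MaximalSpectrum (integralClosure R E)) ≤ Module.finrank K E := by
  classical
  obtain ⟨N, _, _, _, _, hfin, hgal⟩ := exists_galois_closure K E
  letI : Algebra R N := ((algebraMap K N).comp (algebraMap R K)).toAlgebra
  haveI : IsScalarTower R K N := IsScalarTower.of_algebraMap_eq (fun _ => rfl)
  obtain ⟨Q₀, hQ₀⟩ := Ideal.exists_maximal (integralClosure R N)
  haveI := hQ₀
  have key : ∀ P : MaximalSpectrum (integralClosure R E), ∃ σ : E →ₐ[K] N,
      P.asIdeal = Q₀.comap ((σ.restrictScalars R).mapIntegralClosure) := by
    intro P
    haveI := P.isMaximal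
    exact exists_algHom_comap_eq R K E N Q₀ P.asIdeal
      ((under_eq_maximalIdeal R P.asIdeal).trans (under_eq_maximalIdeal R Q₀).symm)
  choose σ hσ using key
  have hinj : Function.Injective σ := by
    intro P P' h
    apply MaximalSpectrum.ext
    rw [hσ P, hσ P', h]
  haveI : Finite (E →ₐ[K] N) := inferInstance
  refine ⟨Finite.of_injective σ hinj, ?_⟩
  exact (Nat.card_le_card_of_injective σ hinj).trans (card_algHom_le_finrank K E N)

end C

section D

variable (R E L : Type*) [CommRing R] [Field E] [Field L] [Algebra R E] [Algebra R L] [Algebra E L]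
  [IsScalarTower R E L] [IsPurelyInseparable E L]

/-- For a purely inseparable extension `L/E`, primes of the integral closure in `L` are determined
by their contraction to the integral closure in `E`. -/
theorem eq_of_comap_eq_of_isPurelyInseparable
    (P₁ P₂ : Ideal (integralClosure R L)) [P₁.IsPrime] [P₂.IsPrime]
    (h : P₁.comap (IsScalarTower.toAlgHom R E L).mapIntegralClosure =
      P₂.comap (IsScalarTower.toAlgHom R E L).mapIntegralClosure) : P₁ = P₂ := by
  have key : ∀ (P₁ P₂ : Ideal (integralClosure R L)) [P₁.IsPrime] [P₂.IsPrime],
      P₁.comap (IsScalarTower.toAlgHom R E L).mapIntegralClosure =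
      P₂.comap (IsScalarTower.toAlgHom R E L).mapIntegralClosure → P₁ ≤ P₂ := by
    intro P₁ P₂ _ _ h x hx
    obtain ⟨k, y, hy⟩ := IsPurelyInseparable.pow_mem E (ringExpChar E) (x : L)
    have hyint : IsIntegral R y := by
      rw [← isIntegral_algebraMap_iff (FaithfulSMul.algebraMap_injective E L), hy]
      exact (x.2 : IsIntegral R (x : L)).pow _
    have hjy : (IsScalarTower.toAlgHom R E L).mapIntegralClosure ⟨y, hyint⟩ =
        x ^ (ringExpChar E ^ k) := by
      apply Subtype.ext
      rw [AlgHom.coe_mapIntegralClosure]
      simpa using hy
    have h1 : (⟨y, hyint⟩ : integralClosure R E) ∈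
        P₁.comap (IsScalarTower.toAlgHom R E L).mapIntegralClosure := by
      rw [Ideal.mem_comap, hjy]
      exact Ideal.pow_mem_of_mem _ hx _ (pow_pos (lt_of_lt_of_le one_pos (le_max_right _ _)) k)
    rw [h, Ideal.mem_comap, hjy] at h1
    exact Ideal.IsPrime.mem_of_pow_mem inferInstance _ h1
  exact le_antisymm (key P₁ P₂ h) (key P₂ P₁ h.symm)

end D

section E

variable (R K L : Type u) [CommRing R] [IsDomain R] [IsIntegrallyClosed R] [IsLocalRing R]
  [Field K] [Algebra R K] [IsFractionRing R K] [Field L] [Algebra K L] [Algebra R L]
  [IsScalarTower R K L] [Algebra.IsAlgebraic K L]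

/-- For a normal local domain `R` with fraction field `K` and an algebraic extension `L/K` of finite
separable degree `n > 0`, the integral closure of `R` in `L` has at most `n` maximal ideals. -/
theorem card_maximalSpectrum_le_finSepDegree (n : ℕ) (hn0 : 0 < n)
    (hn : Field.finSepDegree K L = n) :
    Finite (MaximalSpectrum (integralClosure R L)) ∧
      Nat.card (MaximalSpectrum (integralClosure R L)) ≤ n := by
  classical
  let E := separableClosure K L
  have hfr : Module.finrank K E = n := by
    rw [← hn, Field.finSepDegree_eq K L]
    rfl
  haveI : FiniteDimensional K E := Module.finite_of_finrank_pos (by rw [hfr]; exact hn0)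
  haveI : IsPurelyInseparable E L := separableClosure.isPurelyInseparable K L
  haveI : IsScalarTower R E L := IsScalarTower.of_algebraMap_eq (fun r => rfl)
  obtain ⟨hfin, hcard⟩ := card_maximalSpectrum_le_finrank R K E
  let j : integralClosure R E →ₐ[R] integralClosure R L :=
    (IsScalarTower.toAlgHom R E L).mapIntegralClosure
  letI : Algebra (integralClosure R E) (integralClosure R L) := j.toRingHom.toAlgebra
  haveI : IsScalarTower R (integralClosure R E) (integralClosure R L) :=
    IsScalarTower.of_algebraMap_eq (fun r => (j.commutes r).symm)
  haveI : Algebra.IsIntegral (integralClosure R E) (integralClosure R L) :=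
    ⟨fun d => IsIntegral.tower_top (R := R) (integralClosure.isIntegral d)⟩
  let Φ : MaximalSpectrum (integralClosure R L) → MaximalSpectrum (integralClosure R E) :=
    fun P => ⟨P.asIdeal.comap j, by
      haveI := P.isMaximal
      exact Ideal.isMaximal_comap_of_isIntegral_of_isMaximal (R := integralClosure R E) P.asIdeal⟩
  have hΦ : Function.Injective Φ := by
    intro P P' h
    haveI := P.isMaximal
    haveI := P'.isMaximal
    apply MaximalSpectrum.ext
    exact eq_of_comap_eq_of_isPurelyInseparable R E L P.asIdeal P'.asIdeal
      (congrArg MaximalSpectrum.asIdeal h)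
  refine ⟨Finite.of_injective Φ hΦ, ?_⟩
  exact ((Nat.card_le_card_of_injective Φ hΦ).trans hcard).trans hfr.le

end E

section F

variable (R K M : Type u) [CommRing R] [IsDomain R] [IsIntegrallyClosed R] [IsLocalRing R]
  [Field K] [Algebra R K] [IsFractionRing R K] [Field M] [Algebra K M] [Algebra R M]
  [IsScalarTower R K M]

/-- For a normal local domain `R` with fraction field `K` and any field extension `M/K` such that
the algebraic closure of `K` in `M` has finite separable degree `n > 0` over `K`, the integral
closure of `R` in `M` has at most `n` maximal ideals. -/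
theorem card_maximalSpectrum_integralClosure_le (n : ℕ) (hn0 : 0 < n)
    (hn : Field.finSepDegree K (algebraicClosure K M) = n) :
    Finite (MaximalSpectrum (integralClosure R M)) ∧
      Nat.card (MaximalSpectrum (integralClosure R M)) ≤ n := by
  classical
  let L := algebraicClosure K M
  haveI : IsScalarTower R L M := IsScalarTower.of_algebraMap_eq (fun r => rfl)
  obtain ⟨hfin, hcard⟩ := card_maximalSpectrum_le_finSepDegree R K L n hn0 hn
  let j : integralClosure R L →ₐ[R] integralClosure R M :=
    (IsScalarTower.toAlgHom R L M).mapIntegralClosure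
  have hsurj : Function.Surjective j := by
    intro x
    have hx : IsIntegral R (x : M) := x.2
    have hxK : IsIntegral K (x : M) := hx.tower_top
    have hxL : (x : M) ∈ algebraicClosure K M := mem_algebraicClosure_iff'.mpr hxK
    have hint : IsIntegral R (⟨x, hxL⟩ : L) := by
      rw [← isIntegral_algebraMap_iff (FaithfulSMul.algebraMap_injective L M)]
      exact hx
    exact ⟨⟨⟨x, hxL⟩, hint⟩, Subtype.ext rfl⟩
  let Φ : MaximalSpectrum (integralClosure R M) → MaximalSpectrum (integralClosure R L) :=
    fun P => ⟨P.asIdeal.comap j, by
      haveI := P.isMaximal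
      exact Ideal.comap_isMaximal_of_surjective j hsurj⟩
  have hΦ : Function.Injective Φ := fun P P' h =>
    MaximalSpectrum.ext (Ideal.comap_injective_of_surjective j hsurj
      (congrArg MaximalSpectrum.asIdeal h))
  exact ⟨Finite.of_injective Φ hΦ, (Nat.card_le_card_of_injective Φ hΦ).trans hcard⟩

end F

/-- For a unibranch local domain `A` with fraction field `K`, the integral closure of `A` in `K`
is local. -/
theorem isLocalRing_integralClosure_of_isUnibranch (A K : Type u) [CommRing A] [IsDomain A]
    [IsLocalRing A] [Field K] [Algebra A K] [IsFractionRing A K] (hA : CAlg2.IsUnibranch A) :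
    IsLocalRing (integralClosure A K) := by
  haveI : IsDomain (CAlg2.red A) := hA.1
  haveI : IsLocalRing (CAlg2.normRed A) := hA.2
  have hnil : nilradical A = ⊥ := nilradical_eq_zero _
  let e : CAlg2.red A ≃+* A := (Ideal.quotEquivOfEq hnil).trans (RingEquiv.quotientBot _)
  let σ' : CAlg2.red A →+* K := (algebraMap A K).comp e.toRingHom
  have hσ'inj : Function.Injective σ' := (IsFractionRing.injective A K).comp e.injective
  let θ : FractionRing (CAlg2.red A) →+* K := IsFractionRing.lift hσ'inj
  have hθ : ∀ r, θ (algebraMap _ _ r) = σ' r := IsFractionRing.lift_algebraMap hσ'inj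
  have hθσ' : θ.comp (algebraMap _ _) = σ' := RingHom.ext hθ
  have hmem : ∀ n : CAlg2.normRed A,
      (θ.comp (algebraMap (CAlg2.normRed A) (FractionRing (CAlg2.red A)))) n ∈
        integralClosure A K := by
    intro n
    obtain ⟨p, hp, hpn⟩ := n.2
    refine ⟨p.map e.toRingHom, hp.map _, ?_⟩
    rw [Polynomial.eval₂_map]
    change Polynomial.eval₂ σ' _ p = 0
    rw [← hθσ']
    have := Polynomial.hom_eval₂ p (algebraMap (CAlg2.red A) _) θ n.1
    rw [hpn, map_zero] at this
    exact this.symm
  let φ : CAlg2.normRed A →+* integralClosure A K :=
    (θ.comp (algebraMap (CAlg2.normRed A) (FractionRing (CAlg2.red A)))).codRestrict _ hmem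
  have hsurj : Function.Surjective φ := by
    intro c
    obtain ⟨a, s, hs, hc⟩ := IsFractionRing.div_surjective (A := A) (c : K)
    set c' : FractionRing (CAlg2.red A) :=
      algebraMap _ _ (e.symm a) / algebraMap _ _ (e.symm s) with hc'
    have hθc : θ c' = (c : K) := by
      rw [← hc, hc', map_div₀, hθ, hθ]
      simp [σ']
    have hcint : c' ∈ integralClosure (CAlg2.red A) (FractionRing (CAlg2.red A)) := by
      obtain ⟨P, hP, hPc⟩ := c.2
      refine ⟨P.map e.symm.toRingHom, hP.map _, ?_⟩
      apply θ.injective
      rw [map_zero, Polynomial.hom_eval₂, Polynomial.eval₂_map, hθc]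
      have : (θ.comp (algebraMap (CAlg2.red A) _)).comp e.symm.toRingHom = algebraMap A K := by
        rw [hθσ']
        ext a
        simp [σ']
      rw [this]
      exact hPc
    exact ⟨⟨c', hcint⟩, Subtype.ext hθc⟩
  exact IsLocalRing.of_surjective' φ hsurj

end Groth.Agent.Lib.UnibranchCount84
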