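import Groth.Agent.Lib.HopfPrim41
import Groth.Agent.Lib.ComodSurj
import Mathlib.LinearAlgebra.Dual.Lemmas

/-!
# Group-like elements of a base-changed unipotent Hopf algebra are trivial (helper55)

If `U` is a Hopf algebra over a field `k` all of whose nonzero finite-dimensional comodules have a
nonzero fixed vector, then for every field extension `K` of `k` the only group-like element of the
`K`-Hopf algebra `K ⊗[k] U` is `1` (a unipotent group has no nontrivial characters, even after
extension of scalars).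
-/

set_option autoImplicit false
universe u v w

open TensorProduct

namespace Groth.Agent.Lib.UnipGroupLike

open Groth.Agent.Lib.Comod Groth.Agent.Lib.HopfPrim41

variable {k : Type u} [Field k] (K : Type w) [Field K] [Algebra k K]
  {U : Type v} [CommRing U] [HopfAlgebra k U]

/-- The `K`-span of `1 ⊗ ι w`, `w ∈ F`. -/
noncomputable def bc {W : Type*} [AddCommGroup W] [Module k W] (ι : W →ₗ[k] U)
    (F : Submodule k W) : Submodule K (K ⊗[k] U) :=
  Submodule.span K ((fun w : W => (1 : K) ⊗ₜ[k] ι w) '' (F : Set W))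

/-- The `K`-span of `(1 ⊗ ι w) ⊗ z`, `w ∈ F`. -/
noncomputable def bc2 {W : Type*} [AddCommGroup W] [Module k W] (ι : W →ₗ[k] U)
    (F : Submodule k W) : Submodule K ((K ⊗[k] U) ⊗[K] (K ⊗[k] U)) :=
  Submodule.span K {t | ∃ w ∈ F, ∃ z : K ⊗[k] U, t = ((1 : K) ⊗ₜ[k] ι w) ⊗ₜ[K] z}

/-- Contraction of the second factor. -/
noncomputable def contrR (lam : Module.Dual K (K ⊗[k] U)) :
    (K ⊗[k] U) ⊗[K] (K ⊗[k] U) →ₗ[K] K ⊗[k] U :=
  (TensorProduct.rid K (K ⊗[k] U)).toLinearMap ∘ₗ lam.lTensor (K ⊗[k] U)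


theorem contrR_tmul (lam : Module.Dual K (K ⊗[k] U)) (y z : K ⊗[k] U) :
    contrR K lam (y ⊗ₜ[K] z) = lam z • y := by
  simp [contrR]

theorem contrR_mem {W : Type*} [AddCommGroup W] [Module k W] (ι : W →ₗ[k] U) (F : Submodule k W)
    (lam : Module.Dual K (K ⊗[k] U)) {t : (K ⊗[k] U) ⊗[K] (K ⊗[k] U)} (ht : t ∈ bc2 K ι F) :
    contrR K lam t ∈ bc K ι F := by
  refine Submodule.span_induction ?_ ?_ ?_ ?_ ht
  · rintro _ ⟨w, hw, z, rfl⟩
    rw [contrR_tmul]
    exact Submodule.smul_mem _ _ (Submodule.subset_span ⟨w, hw, rfl⟩)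
  · rw [map_zero]; exact Submodule.zero_mem _
  · intro x y _ _ hx hy
    rw [map_add]; exact Submodule.add_mem _ hx hy
  · intro a x _ hx
    rw [map_smul]; exact Submodule.smul_mem _ _ hx

theorem comul_sub_mem {W : Type*} [AddCommGroup W] [Module k W] (c : HopfRep.Comod k U W)
    (ι : W →ₗ[k] U)
    (hι : ∀ w, CoalgebraStruct.comul (R := k) (ι w) = ι.rTensor U (c.coact w))
    (F F' : Submodule k W)
    (htriv : ∀ v ∈ F', c.coact v - v ⊗ₜ[k] (1 : U) ∈ LinearMap.range (F.subtype.rTensor U))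
    {y : K ⊗[k] U} (hy : y ∈ bc K ι F') :
    CoalgebraStruct.comul (R := K) y - y ⊗ₜ[K] (1 : K ⊗[k] U) ∈ bc2 K ι F := by
  refine Submodule.span_induction ?_ ?_ ?_ ?_ hy
  · rintro _ ⟨w, hw, rfl⟩
    obtain ⟨s, hs⟩ := htriv w hw
    rw [comul_eq_theta, tmul_one_eq_theta, ← map_sub, LinearMap.lTensor_tmul,
      LinearMap.lTensor_tmul, ← TensorProduct.tmul_sub, hι]
    have h1 : ι.rTensor U (c.coact w) - (TensorProduct.mk k U U).flip 1 (ι w) =
        ι.rTensor U ((F.subtype.rTensor U) s) := by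
      rw [hs, map_sub, LinearMap.rTensor_tmul]
      rfl
    rw [h1]
    have key : ∀ s : ↥F ⊗[k] U,
        theta K ((1 : K) ⊗ₜ[k] ι.rTensor U ((F.subtype.rTensor U) s)) ∈ bc2 K ι F := by
      intro s
      induction s using TensorProduct.induction_on with
      | zero =>
        simp only [map_zero, TensorProduct.tmul_zero]
        exact Submodule.zero_mem _
      | add s₁ s₂ h₁ h₂ =>
        simp only [map_add, TensorProduct.tmul_add]
        exact Submodule.add_mem _ h₁ h₂
      | tmul f b =>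
        rw [LinearMap.rTensor_tmul, LinearMap.rTensor_tmul, theta_tmul_tmul]
        exact Submodule.subset_span ⟨f.1, f.2, _, rfl⟩
    exact key s
  · simp
  · intro x y _ _ hx hy
    have : CoalgebraStruct.comul (R := K) (x + y) - (x + y) ⊗ₜ[K] (1 : K ⊗[k] U) =
        (CoalgebraStruct.comul (R := K) x - x ⊗ₜ[K] (1 : K ⊗[k] U)) +
        (CoalgebraStruct.comul (R := K) y - y ⊗ₜ[K] (1 : K ⊗[k] U)) := by
      rw [map_add, TensorProduct.add_tmul]; abel
    rw [this]; exact Submodule.add_mem _ hx hy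
  · intro a x _ hx
    have : CoalgebraStruct.comul (R := K) (a • x) - (a • x) ⊗ₜ[K] (1 : K ⊗[k] U) =
        a • (CoalgebraStruct.comul (R := K) x - x ⊗ₜ[K] (1 : K ⊗[k] U)) := by
      rw [map_smul, smul_sub, TensorProduct.smul_tmul']
    rw [this]; exact Submodule.smul_mem _ _ hx

/-- A unipotent group has no nontrivial characters, even after extension of scalars. -/
theorem groupLike_eq_one (hU : HopfRep.IsUnipotent k U) (g : K ⊗[k] U)
    (hg : IsGroupLikeElem K g) : g = 1 := by
  classical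
  by_contra hne
  have hsub : g - 1 ≠ 0 := sub_ne_zero.mpr hne
  obtain ⟨lam, hlam⟩ : ∃ lam : Module.Dual K (K ⊗[k] U), lam (g - 1) ≠ 0 := by
    by_contra h
    push Not at h
    exact hsub ((Module.forall_dual_apply_eq_zero_iff K (g - 1)).1 h)
  obtain ⟨S, hS⟩ := TensorProduct.exists_finset g
  obtain ⟨W, hWfin, hSW, hW⟩ :=
    exists_finite_subcomod_span (k := k) (C := U) (V := U) (S.image Prod.snd)
  let c := ComodSub.Comod.restr (HopfRep.Comod.regular k U) W hW
  obtain ⟨m, F, hmono, hF0, hFm, hsub', htriv⟩ :=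
    hasUnipFiltration_of_isUnipotent (k := k) (A := U)
      (fun V _ _ _ hf hn => hU V hf hn) _ ↥W c rfl
  have hι : ∀ w : W, CoalgebraStruct.comul (R := k) (W.subtype w) =
      W.subtype.rTensor U (c.coact w) :=
    fun w => (ComodSub.restr_coact_coe (HopfRep.Comod.regular k U) W hW w).symm
  have hgm : g ∈ bc K W.subtype (F m) := by
    rw [hS, hFm]
    refine Submodule.sum_mem _ fun i hi => ?_
    have hi2 : i.2 ∈ W :=
      hSW (Submodule.subset_span (Finset.mem_coe.2 (Finset.mem_image_of_mem _ hi)))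
    have h1 : i.1 ⊗ₜ[k] i.2 = i.1 • ((1 : K) ⊗ₜ[k] W.subtype ⟨i.2, hi2⟩) := by
      rw [TensorProduct.smul_tmul', smul_eq_mul, mul_one]
      rfl
    rw [h1]
    exact Submodule.smul_mem _ _ (Submodule.subset_span ⟨⟨i.2, hi2⟩, trivial, rfl⟩)
  have hstep : ∀ i, g ∈ bc K W.subtype (F (i + 1)) → g ∈ bc K W.subtype (F i) := by
    intro i hi
    have h1 := comul_sub_mem K c W.subtype hι (F i) (F (i + 1)) (htriv i) hi
    have h2 := contrR_mem K W.subtype (F i) lam h1
    rw [hg.comul_eq_tmul_self, ← TensorProduct.tmul_sub, contrR_tmul] at h2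
    have h3 := Submodule.smul_mem _ (lam (g - 1))⁻¹ h2
    rwa [smul_smul, inv_mul_cancel₀ hlam, one_smul] at h3
  have hdown : ∀ i, g ∈ bc K W.subtype (F i) → g ∈ bc K W.subtype (F 0) := by
    intro i
    induction i with
    | zero => exact id
    | succ i ih => exact fun h => ih (hstep i h)
  have h0 := hdown m hgm
  have hg0 : g = 0 := by
    rw [hF0] at h0
    have : bc K W.subtype (⊥ : Submodule k W) = ⊥ := by
      rw [bc, eq_bot_iff, Submodule.span_le]
      rintro _ ⟨w, hw, rfl⟩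
      rw [SetLike.mem_coe, Submodule.mem_bot] at hw
      simp [hw]
    rw [this] at h0
    exact (Submodule.mem_bot K).1 h0
  have := hg.counit_eq_one
  rw [hg0, map_zero] at this
  exact zero_ne_one this

end Groth.Agent.Lib.UnipGroupLike
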