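import Groth.Agent.Lib.UniqueComp45
import Mathlib.AlgebraicGeometry.Stalk
import Mathlib.AlgebraicGeometry.Properties
import Mathlib.AlgebraicGeometry.Morphisms.Preimmersion
import Mathlib.RingTheory.Ideal.MinimalPrime.Basic

/-!
# Unique irreducible component through a point and minimal primes of the local ring (helper45)
-/

set_option autoImplicit false
universe u
open AlgebraicGeometry CategoryTheory

namespace Groth.Agent.Lib.UniqueCompStalk45

open Groth.Agent.Lib.UniqueComp45

/-- If a point `x` of a scheme lies on a unique irreducible component, then the local ring at `x`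
has at most one minimal prime. -/
theorem subsingleton_minimalPrimes_stalk {X : Scheme.{u}} {x : X} (hx : UniqueComp x) :
    (minimalPrimes (X.presheaf.stalk x)).Subsingleton := by
  intro p₁ hp₁ p₂ hp₂
  have hpr₁ : p₁.IsPrime := hp₁.1.1
  have hpr₂ : p₂.IsPrime := hp₂.1.1
  let φ := X.fromSpecStalk x
  have hemb : Topology.IsEmbedding φ := φ.isEmbedding
  have key : ∀ (P : PrimeSpectrum (X.presheaf.stalk x))
      (_ : P.asIdeal ∈ minimalPrimes (X.presheaf.stalk x)),
      closure {φ P} ∈ irreducibleComponents X ∧ x ∈ closure {φ P} := by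
    intro P hp
    have hsx : φ P ⤳ x := by
      have : φ P ∈ Set.range φ := ⟨_, rfl⟩
      rw [Scheme.range_fromSpecStalk] at this
      exact this
    refine ⟨closure_singleton_mem_irreducibleComponents fun w hw => ?_, hsx.mem_closure⟩
    have hwx : w ∈ Set.range φ := by
      rw [Scheme.range_fromSpecStalk]
      exact hw.trans hsx
    obtain ⟨q, rfl⟩ := hwx
    have hq : q ⤳ P := hemb.isInducing.specializes_iff.mp hw
    have hq' : q.asIdeal ≤ P.asIdeal :=
      (PrimeSpectrum.le_iff_specializes (R := X.presheaf.stalk x) q P).mpr hq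
    have hle : P.asIdeal ≤ q.asIdeal := hp.2 ⟨q.isPrime, bot_le⟩ hq'
    have h4 : P ⤳ q :=
      (PrimeSpectrum.le_iff_specializes (R := X.presheaf.stalk x) P q).mp hle
    exact Specializes.map h4 φ.continuous
  obtain ⟨h1, hx1⟩ := key ⟨p₁, hpr₁⟩ hp₁
  obtain ⟨h2, hx2⟩ := key ⟨p₂, hpr₂⟩ hp₂
  have heq := hx h1 h2 hx1 hx2
  have hins : Inseparable (φ (⟨p₁, hpr₁⟩ : PrimeSpectrum _)) (φ (⟨p₂, hpr₂⟩ : PrimeSpectrum _)) :=
    inseparable_iff_closure_eq.mpr heq
  have := hemb.injective hins.eq
  exact congrArg PrimeSpectrum.asIdeal this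

end Groth.Agent.Lib.UniqueCompStalk45
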