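import Mathlib
import Groth.Agent.Lib.TransvGen38
import Groth.Agent.Lib.NatCharGL38

/-!
# Units of the coordinate ring of `GL_n` over a reduced connected ring (helper38)

* `exists_eq_single_of_isUnit`: units of `A[ℤ]` (Laurent polynomials) over a reduced ring without
  nontrivial idempotents are `a T^m`;
* `SX A n = A[X_ij][1/det]`, `ev φ Y hY : SX A n →+* B` evaluation at an invertible matrix;
* `ev_transvection_mul`: units of `SX A n` (`A` reduced) are invariant under left multiplication by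
  transvections;
* `exists_eq_mul_det_zpow`: units of `SX A n` are `a det^m`.
-/

set_option autoImplicit false
set_option linter.unusedSectionVars false
set_option linter.unusedSimpArgs false
set_option linter.style.haveILetI false
universe u v

namespace Groth.Agent.Lib.UnitsGL38
open MvPolynomial


section Laurent

/-- units of `D[ℤ]` for a domain `D` are monomials -/
theorem exists_eq_single_of_mul_eq_one {D : Type*} [CommRing D] [IsDomain D]
    (P Q : AddMonoidAlgebra D ℤ) (h : P * Q = 1) : ∃ (m : ℤ) (c : D), P = AddMonoidAlgebra.single m c := by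
  have hP : P ≠ 0 := by rintro rfl; rw [zero_mul] at h; exact zero_ne_one h
  have hQ : Q ≠ 0 := by rintro rfl; rw [mul_zero] at h; exact zero_ne_one h
  have hPs : P.coeff.support.Nonempty := by
    rw [Finsupp.support_nonempty_iff]; intro h0; exact hP (AddMonoidAlgebra.coeff_injective (by simpa using h0))
  have hQs : Q.coeff.support.Nonempty := by
    rw [Finsupp.support_nonempty_iff]; intro h0; exact hQ (AddMonoidAlgebra.coeff_injective (by simpa using h0))
  set M := P.coeff.support.max' hPs with hM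
  set m := P.coeff.support.min' hPs with hm
  set M' := Q.coeff.support.max' hQs with hM'
  set m' := Q.coeff.support.min' hQs with hm'
  have hMmem : M ∈ P.coeff.support := Finset.max'_mem _ _
  have hmmem : m ∈ P.coeff.support := Finset.min'_mem _ _
  have hM'mem : M' ∈ Q.coeff.support := Finset.max'_mem _ _
  have hm'mem : m' ∈ Q.coeff.support := Finset.min'_mem _ _
  have hmax : UniqueAdd P.coeff.support Q.coeff.support M M' := by
    intro a b ha hb hab
    have h1 : a ≤ M := Finset.le_max' _ _ ha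
    have h2 : b ≤ M' := Finset.le_max' _ _ hb
    constructor <;> omega
  have hmin : UniqueAdd P.coeff.support Q.coeff.support m m' := by
    intro a b ha hb hab
    have h1 : m ≤ a := Finset.min'_le _ _ ha
    have h2 : m' ≤ b := Finset.min'_le _ _ hb
    constructor <;> omega
  have e1 := AddMonoidAlgebra.coeff_mul_add_of_uniqueAdd hmax
  have e2 := AddMonoidAlgebra.coeff_mul_add_of_uniqueAdd hmin
  rw [h, AddMonoidAlgebra.one_def, AddMonoidAlgebra.coeff_single] at e1 e2
  have hne1 : P.coeff M * Q.coeff M' ≠ 0 :=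
    mul_ne_zero (Finsupp.mem_support_iff.mp hMmem) (Finsupp.mem_support_iff.mp hM'mem)
  have hne2 : P.coeff m * Q.coeff m' ≠ 0 :=
    mul_ne_zero (Finsupp.mem_support_iff.mp hmmem) (Finsupp.mem_support_iff.mp hm'mem)
  have hz1 : M + M' = 0 := by
    by_contra hne
    rw [Finsupp.single_apply, if_neg (Ne.symm hne)] at e1
    exact hne1 e1.symm
  have hz2 : m + m' = 0 := by
    by_contra hne
    rw [Finsupp.single_apply, if_neg (Ne.symm hne)] at e2
    exact hne2 e2.symm
  have hle1 : m ≤ M := Finset.min'_le _ _ hMmem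
  have hle2 : m' ≤ M' := Finset.min'_le _ _ hM'mem
  have hMm : M = m := by omega
  refine ⟨m, P.coeff m, ?_⟩
  apply AddMonoidAlgebra.coeff_injective
  rw [AddMonoidAlgebra.coeff_single]
  ext j
  rw [Finsupp.single_apply]
  by_cases hj : m = j
  · rw [if_pos hj, hj]
  · rw [if_neg hj]
    by_contra hne
    have hjmem : j ∈ P.coeff.support := Finsupp.mem_support_iff.mpr hne
    have h1 : j ≤ M := Finset.le_max' _ _ hjmem
    have h2 : m ≤ j := Finset.min'_le _ _ hjmem
    omega

/-- units of `A[ℤ]` for a reduced ring `A` without nontrivial idempotents are monomials -/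
theorem exists_eq_single_of_isUnit {A : Type*} [CommRing A] [IsReduced A] [Nontrivial A]
    (hconn : ∀ e : A, IsIdempotentElem e → e = 0 ∨ e = 1)
    (P : AddMonoidAlgebra A ℤ) (hP : IsUnit P) :
    ∃ (m : ℤ) (a : Aˣ), P = AddMonoidAlgebra.single m (a : A) := by
  classical
  obtain ⟨Q, hPQ⟩ := hP.exists_right_inv
  -- products of distinct coefficients vanish
  have hprod : ∀ i j : ℤ, i ≠ j → P.coeff i * P.coeff j = 0 := by
    intro i j hij
    apply IsNilpotent.eq_zero
    rw [nilpotent_iff_mem_prime]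
    intro 𝔭 h𝔭
    let φ := AddMonoidAlgebra.mapRingHom ℤ (Ideal.Quotient.mk 𝔭)
    have h1 : φ P * φ Q = 1 := by rw [← map_mul, hPQ, map_one]
    obtain ⟨m, c, hmc⟩ := exists_eq_single_of_mul_eq_one (φ P) (φ Q) h1
    have h2 : ∀ l, l ≠ m → P.coeff l ∈ 𝔭 := by
      intro l hl
      have := congrArg (fun x : AddMonoidAlgebra (A ⧸ 𝔭) ℤ => x.coeff l) hmc
      simp only [φ, AddMonoidAlgebra.coeff_mapRingHom, AddMonoidAlgebra.coeff_single] at this
      rw [Finsupp.single_apply, if_neg (Ne.symm hl)] at this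
      exact Ideal.Quotient.eq_zero_iff_mem.mp this
    by_cases him : i = m
    · have hjm : j ≠ m := fun h => hij (him.trans h.symm)
      exact 𝔭.mul_mem_left _ (h2 j hjm)
    · exact 𝔭.mul_mem_right _ (h2 i him)
  -- the coefficients generate the unit ideal
  have hspan : (1 : A) ∈ Ideal.span (Set.range P.coeff) := by
    have h0 := congrArg (fun x : AddMonoidAlgebra A ℤ => x.coeff 0) hPQ
    simp only [AddMonoidAlgebra.one_def, AddMonoidAlgebra.coeff_single, Finsupp.single_eq_same] at h0
    rw [← h0, AddMonoidAlgebra.coeff_mul]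
    refine Ideal.sum_mem _ fun a₁ _ => Ideal.sum_mem _ fun a₂ _ => ?_
    show (if a₁ + a₂ = 0 then P.coeff a₁ * Q.coeff a₂ else 0) ∈ _
    split_ifs
    · exact Ideal.mul_mem_right _ _ (Ideal.subset_span ⟨a₁, rfl⟩)
    · exact Ideal.zero_mem _
  rw [Finsupp.mem_ideal_span_range_iff_exists_finsupp] at hspan
  obtain ⟨c, hc⟩ := hspan
  -- orthogonal idempotents
  set e : ℤ → A := fun i => c i * P.coeff i with he
  have hsum : ∑ i ∈ c.support, e i = 1 := hc
  have horth : ∀ i j, i ≠ j → e i * e j = 0 := by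
    intro i j hij
    have := hprod i j hij
    simp only [he]
    linear_combination (c i * c j) * this
  have hidem : ∀ i ∈ c.support, IsIdempotentElem (e i) := by
    intro i hi
    show e i * e i = e i
    have h1 : e i * ∑ j ∈ c.support, e j = e i * e i := by
      rw [Finset.mul_sum, Finset.sum_eq_single i]
      · intro j _ hji
        exact horth i j (Ne.symm hji)
      · intro h; exact absurd hi h
    rw [← h1, hsum, mul_one]
  have hex : ∃ j₀ ∈ c.support, e j₀ = 1 := by
    by_contra hcon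
    push Not at hcon
    have : ∑ i ∈ c.support, e i = 0 := by
      refine Finset.sum_eq_zero fun i hi => ?_
      rcases hconn _ (hidem i hi) with h | h
      · exact h
      · exact absurd h (hcon i hi)
    rw [hsum] at this
    exact one_ne_zero this
  obtain ⟨j₀, -, hj₀⟩ := hex
  have hunit : IsUnit (P.coeff j₀) := IsUnit.of_mul_eq_one (c j₀) (by rw [mul_comm]; exact hj₀)
  obtain ⟨a, ha⟩ := hunit
  refine ⟨j₀, a, ?_⟩
  apply AddMonoidAlgebra.coeff_injective
  rw [AddMonoidAlgebra.coeff_single]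
  ext j
  rw [Finsupp.single_apply]
  by_cases hj : j₀ = j
  · rw [if_pos hj, ha, hj]
  · rw [if_neg hj]
    have h1 := hprod j j₀ (Ne.symm hj)
    have : P.coeff j = P.coeff j * e j₀ := by rw [hj₀, mul_one]
    rw [this]
    simp only [he]
    linear_combination (c j₀) * h1

end Laurent


theorem map_transvection {B C' : Type*} [CommRing B] [CommRing C'] {n : Type*} [DecidableEq n] [Fintype n]
    (f : B →+* C') (i j : n) (c : B) :
    (Matrix.transvection i j c).map f = Matrix.transvection i j (f c) := by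
  unfold Matrix.transvection
  rw [Matrix.map_add f (map_add f), Matrix.map_one f (map_zero f) (map_one f), Matrix.map_single i j c f]

theorem isUnit_det_transvection_mul {B : Type*} [CommRing B] {n : Type*} [DecidableEq n] [Fintype n]
    (i j : n) (hij : i ≠ j) (c : B) (Y : Matrix n n B) (hY : IsUnit Y.det) :
    IsUnit (Matrix.transvection i j c * Y).det := by
  rw [Matrix.det_mul, Matrix.det_transvection_of_ne _ _ hij, one_mul]
  exact hY

/-- units of a polynomial ring over a reduced ring are constant -/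
theorem eq_C_of_isUnit {S : Type*} [CommRing S] [IsReduced S] (p : Polynomial S) (hp : IsUnit p) :
    p = Polynomial.C (p.coeff 0) := by
  rw [Polynomial.isUnit_iff_coeff_isUnit_isNilpotent] at hp
  ext k
  rw [Polynomial.coeff_C]
  by_cases hk : k = 0
  · rw [if_pos hk, hk]
  · rw [if_neg hk]
    exact (hp.2 k hk).eq_zero


section Coord
variable (A : Type u) [CommRing A] (n : ℕ)

/-- the polynomial ring in the entries of the generic `n × n` matrix -/
abbrev RX := MvPolynomial (Fin n × Fin n) A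

/-- the determinant of the generic matrix -/
noncomputable abbrev dX : RX A n := (Matrix.mvPolynomialX (Fin n) (Fin n) A).det

/-- the coordinate ring of `GL_n` -/
abbrev SX := Localization.Away (dX A n)

variable {A n}
variable {B : Type v} [CommRing B]

/-- evaluation of polynomials at a matrix -/
noncomputable def evP (φ : A →+* B) (Y : Matrix (Fin n) (Fin n) B) : RX A n →+* B :=
  MvPolynomial.eval₂Hom φ (fun p => Y p.1 p.2)

theorem evP_C (φ : A →+* B) (Y : Matrix (Fin n) (Fin n) B) (a : A) : evP φ Y (C a) = φ a := by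
  simp [evP]

theorem evP_X (φ : A →+* B) (Y : Matrix (Fin n) (Fin n) B) (i j : Fin n) :
    evP φ Y (X (i, j)) = Y i j := by
  simp [evP]

theorem evP_det (φ : A →+* B) (Y : Matrix (Fin n) (Fin n) B) : evP φ Y (dX A n) = Y.det := by
  rw [RingHom.map_det]
  congr 1
  ext i j
  simp [evP, Matrix.mvPolynomialX]

/-- evaluation of functions on `GL_n` at an invertible matrix -/
noncomputable def ev (φ : A →+* B) (Y : Matrix (Fin n) (Fin n) B) (hY : IsUnit Y.det) :
    SX A n →+* B :=
  IsLocalization.Away.lift (dX A n) (g := evP φ Y) (by rw [evP_det]; exact hY)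

theorem ev_algebraMap (φ : A →+* B) (Y : Matrix (Fin n) (Fin n) B) (hY : IsUnit Y.det) (p : RX A n) :
    ev φ Y hY (algebraMap (RX A n) (SX A n) p) = evP φ Y p :=
  IsLocalization.Away.lift_eq _ _ _

theorem ev_algebraMap_base (φ : A →+* B) (Y : Matrix (Fin n) (Fin n) B) (hY : IsUnit Y.det) (a : A) :
    ev φ Y hY (algebraMap A (SX A n) a) = φ a := by
  rw [IsScalarTower.algebraMap_apply A (RX A n) (SX A n), ev_algebraMap, MvPolynomial.algebraMap_eq, evP_C]

/-- the generic matrix with entries in the coordinate ring -/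
noncomputable def Xs : Matrix (Fin n) (Fin n) (SX A n) :=
  fun i j => algebraMap (RX A n) (SX A n) (X (i, j))

theorem ev_Xs (φ : A →+* B) (Y : Matrix (Fin n) (Fin n) B) (hY : IsUnit Y.det) (i j : Fin n) :
    ev φ Y hY (Xs i j) = Y i j := by
  unfold Xs
  rw [ev_algebraMap, evP_X]

theorem ringHom_ext' {f g : SX A n →+* B}
    (hA : ∀ a, f (algebraMap A (SX A n) a) = g (algebraMap A (SX A n) a))
    (hX : ∀ i j, f (Xs i j) = g (Xs i j)) : f = g := by
  apply IsLocalization.ringHom_ext (Submonoid.powers (dX A n))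
  apply MvPolynomial.ringHom_ext
  · intro a
    have := hA a
    rw [IsScalarTower.algebraMap_apply A (RX A n) (SX A n), MvPolynomial.algebraMap_eq] at this
    exact this
  · rintro ⟨i, j⟩
    exact hX i j

theorem det_Xs : (Xs (A := A) (n := n)).det = algebraMap (RX A n) (SX A n) (dX A n) := by
  rw [RingHom.map_det]
  congr 1

theorem isUnit_det_Xs : IsUnit (Xs (A := A) (n := n)).det := by
  rw [det_Xs]
  exact IsLocalization.Away.algebraMap_isUnit _

/-- compatibility of evaluation with ring homomorphisms -/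
theorem comp_ev {C' : Type*} [CommRing C'] (θ : B →+* C') (φ : A →+* B)
    (Y : Matrix (Fin n) (Fin n) B) (hY : IsUnit Y.det) (hY' : IsUnit (Y.map θ).det) :
    θ.comp (ev φ Y hY) = ev (θ.comp φ) (Y.map θ) hY' := by
  apply ringHom_ext'
  · intro a
    rw [RingHom.comp_apply, ev_algebraMap_base, ev_algebraMap_base, RingHom.comp_apply]
  · intro i j
    rw [RingHom.comp_apply, ev_Xs, ev_Xs, Matrix.map_apply]

theorem ev_self : ev (algebraMap A (SX A n)) Xs isUnit_det_Xs = RingHom.id (SX A n) := by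
  apply ringHom_ext'
  · intro a
    rw [ev_algebraMap_base, RingHom.id_apply]
  · intro i j
    rw [ev_Xs, RingHom.id_apply]

end Coord

section Invariance
variable {A : Type u} [CommRing A] {n : ℕ} {B : Type v} [CommRing B]

theorem ev_congr {φ φ' : A →+* B} {Y Y' : Matrix (Fin n) (Fin n) B} (hφ : φ = φ') (hY : Y = Y')
    (h : IsUnit Y.det) (h' : IsUnit Y'.det) : ev φ Y h = ev φ' Y' h' := by
  subst hφ; subst hY; rfl

/-- the generic row operation `X ↦ T_{ij}(t) X` -/
noncomputable def tauMat (i j : Fin n) : Matrix (Fin n) (Fin n) (Polynomial (SX A n)) :=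
  Matrix.transvection i j (Polynomial.X : Polynomial (SX A n)) * (Xs (A := A) (n := n)).map Polynomial.C

theorem isUnit_det_tauMat (i j : Fin n) (hij : i ≠ j) : IsUnit (tauMat (A := A) i j).det := by
  unfold tauMat
  apply isUnit_det_transvection_mul i j hij
  have : ((Xs (A := A) (n := n)).map Polynomial.C).det = Polynomial.C (Xs (A := A) (n := n)).det := by
    rw [← RingHom.mapMatrix_apply, ← RingHom.map_det]
  rw [this]
  exact isUnit_det_Xs.map _

/-- the coaction of the generic row operation -/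
noncomputable def tau (i j : Fin n) (hij : i ≠ j) : SX A n →+* Polynomial (SX A n) :=
  ev (Polynomial.C.comp (algebraMap A (SX A n))) (tauMat i j) (isUnit_det_tauMat i j hij)

theorem eval_comp_tau (i j : Fin n) (hij : i ≠ j) (φ : A →+* B) (Y : Matrix (Fin n) (Fin n) B)
    (hY : IsUnit Y.det) (c : B) :
    (Polynomial.eval₂RingHom (ev φ Y hY) c).comp (tau i j hij) =
      ev φ (Matrix.transvection i j c * Y) (isUnit_det_transvection_mul i j hij c Y hY) := by
  have hm : (tauMat (A := A) i j).map (Polynomial.eval₂RingHom (ev φ Y hY) c) =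
      Matrix.transvection i j c * Y := by
    unfold tauMat
    rw [Matrix.map_mul, map_transvection, Matrix.map_map]
    congr 1
    · simp
    · ext a b
      simp [ev_Xs]
  unfold tau
  rw [comp_ev _ _ _ _ (by rw [hm]; exact isUnit_det_transvection_mul i j hij c Y hY)]
  apply ev_congr _ hm
  ext a
  simp [ev_algebraMap_base]

theorem tau_eq_C [IsReduced A] (i j : Fin n) (hij : i ≠ j) (u : SX A n) (hu : IsUnit u) :
    tau i j hij u = Polynomial.C u := by
  have h1 := eq_C_of_isUnit (tau i j hij u) (hu.map _)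
  have h2 : (tau i j hij u).coeff 0 = u := by
    have h3 := eval_comp_tau i j hij (algebraMap A (SX A n)) Xs isUnit_det_Xs (0 : SX A n)
    have h4 : ev (algebraMap A (SX A n)) (Matrix.transvection i j (0 : SX A n) * Xs)
        (isUnit_det_transvection_mul i j hij 0 Xs isUnit_det_Xs) = RingHom.id _ := by
      rw [← ev_self]
      apply ev_congr rfl
      rw [Matrix.transvection_zero, Matrix.one_mul]
    rw [h4] at h3
    have h5 := congrArg (fun f : SX A n →+* SX A n => f u) h3
    simp only [RingHom.comp_apply, RingHom.id_apply, Polynomial.coe_eval₂RingHom, ev_self,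
      Polynomial.eval₂_id] at h5
    rw [Polynomial.coeff_zero_eq_eval_zero]
    exact h5
  rw [h1, h2]

/-- **Units on `GL_n` over a reduced ring are invariant under row operations.** -/
theorem ev_transvection_mul [IsReduced A] (i j : Fin n) (hij : i ≠ j) (φ : A →+* B)
    (Y : Matrix (Fin n) (Fin n) B) (hY : IsUnit Y.det) (c : B) (u : SX A n) (hu : IsUnit u) :
    ev φ (Matrix.transvection i j c * Y) (isUnit_det_transvection_mul i j hij c Y hY) u =
      ev φ Y hY u := by
  rw [← eval_comp_tau i j hij φ Y hY c, RingHom.comp_apply, tau_eq_C i j hij u hu]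
  simp

end Invariance

section Field
variable {A : Type u} [CommRing A] [IsReduced A] {n : ℕ} {L : Type v} [Field L]

/-- over a field, units on `GL_n` are invariant under left multiplication by `SL_n` -/
theorem ev_mul_of_det_eq_one (φ : A →+* L) (u : SX A n) (hu : IsUnit u)
    (M : Matrix (Fin n) (Fin n) L) (hM : M.det = 1) (Y : Matrix (Fin n) (Fin n) L)
    (hY : IsUnit Y.det) (hMY : IsUnit (M * Y).det) :
    ev φ (M * Y) hMY u = ev φ Y hY u := by
  revert Y
  refine Groth.Agent.Lib.TransvGen38.induction_det_one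
    (fun M => ∀ (Y : Matrix (Fin n) (Fin n) L) (hY : IsUnit Y.det) (hMY : IsUnit (M * Y).det),
      ev φ (M * Y) hMY u = ev φ Y hY u) ?_ ?_ ?_ M hM
  · intro Y hY hMY
    exact congrArg (fun f : SX A n →+* L => f u) (ev_congr rfl (Matrix.one_mul Y) hMY hY)
  · intro i j hij c Y hY hMY
    exact ev_transvection_mul i j hij φ Y hY c u hu
  · intro M₁ M₂ h1 h2 Y hY hMY
    have e : M₁ * M₂ * Y = M₁ * (M₂ * Y) := Matrix.mul_assoc _ _ _
    have hMY' : IsUnit (M₁ * (M₂ * Y)).det := by rw [← e]; exact hMY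
    have h2Y : IsUnit (M₂ * Y).det := by
      rw [Matrix.det_mul] at hMY'
      exact isUnit_of_mul_isUnit_right hMY'
    have := congrArg (fun f : SX A n →+* L => f u) (ev_congr (φ := φ) rfl e hMY hMY')
    exact this.trans ((h1 (M₂ * Y) h2Y hMY').trans (h2 Y hY h2Y))

/-- the diagonal matrix `diag(δ, 1, …, 1)` -/
def dg {B : Type*} [CommRing B] (i₀ : Fin n) (δ : B) : Matrix (Fin n) (Fin n) B :=
  Matrix.diagonal (Function.update (fun _ => (1 : B)) i₀ δ)

theorem det_dg {B : Type*} [CommRing B] (i₀ : Fin n) (δ : B) : (dg i₀ δ).det = δ := by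
  unfold dg
  rw [Matrix.det_diagonal, Finset.prod_eq_single i₀]
  · simp
  · intro b _ hb; simp [Function.update_of_ne hb]
  · intro h; exact absurd (Finset.mem_univ _) h

theorem dg_mul_dg {B : Type*} [CommRing B] (i₀ : Fin n) (δ δ' : B) :
    dg i₀ δ * dg i₀ δ' = dg i₀ (δ * δ') := by
  unfold dg
  rw [Matrix.diagonal_mul_diagonal]
  congr 1
  funext k
  by_cases hk : k = i₀
  · subst hk; simp
  · simp [Function.update_of_ne hk]

theorem dg_one {B : Type*} [CommRing B] (i₀ : Fin n) : dg i₀ (1 : B) = 1 := by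
  unfold dg
  rw [← Matrix.diagonal_one]
  congr 1
  funext k
  by_cases hk : k = i₀
  · subst hk; simp
  · simp [Function.update_of_ne hk]

theorem map_dg {B C' : Type*} [CommRing B] [CommRing C'] (f : B →+* C') (i₀ : Fin n) (δ : B) :
    (dg i₀ δ).map f = dg i₀ (f δ) := by
  unfold dg
  rw [Matrix.diagonal_map (map_zero f)]
  congr 1
  funext k
  by_cases hk : k = i₀
  · subst hk; simp
  · simp [Function.update_of_ne hk]

/-- over a field, the value of a unit on `GL_n` only depends on the determinant -/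
theorem ev_eq_ev_dg (φ : A →+* L) (u : SX A n) (hu : IsUnit u) (i₀ : Fin n)
    (Y : Matrix (Fin n) (Fin n) L) (hY : IsUnit Y.det) :
    ev φ Y hY u = ev φ (dg i₀ Y.det) (by rw [det_dg]; exact hY) u := by
  have hδ : Y.det ≠ 0 := hY.ne_zero
  set M := Y * dg i₀ (Y.det)⁻¹ with hMdef
  have hM : M.det = 1 := by
    rw [hMdef, Matrix.det_mul, det_dg, mul_inv_cancel₀ hδ]
  have hYM : Y = M * dg i₀ Y.det := by
    rw [hMdef, Matrix.mul_assoc, dg_mul_dg, inv_mul_cancel₀ hδ, dg_one, Matrix.mul_one]
  have hd : IsUnit (dg i₀ Y.det).det := by rw [det_dg]; exact hY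
  have hMd : IsUnit (M * dg i₀ Y.det).det := by rw [← hYM]; exact hY
  have h1 := ev_mul_of_det_eq_one φ u hu M hM (dg i₀ Y.det) hd hMd
  rw [← h1]
  exact congrArg (fun f : SX A n →+* L => f u) (ev_congr rfl hYM hY hMd)

end Field

open Groth.Agent.Lib.NatCharGL38

section LaurentFactor
variable {A : Type u} [CommRing A] {n : ℕ}

theorem isUnit_det_dg_tU (i₀ : Fin n) :
    IsUnit (dg i₀ ((tU A : (AddMonoidAlgebra A ℤ)ˣ) : AddMonoidAlgebra A ℤ)).det := by
  rw [det_dg]; exact (tU A).isUnit

/-- restriction of functions on `GL_n` to the one-parameter subgroup `diag(T,1,…,1)` -/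
noncomputable def eta (i₀ : Fin n) : SX A n →+* AddMonoidAlgebra A ℤ :=
  ev (algebraMap A (AddMonoidAlgebra A ℤ)) (dg i₀ ((tU A : (AddMonoidAlgebra A ℤ)ˣ) : AddMonoidAlgebra A ℤ))
    (isUnit_det_dg_tU i₀)

theorem evB_comp_eta {B : Type v} [CommRing B] [Algebra A B] (i₀ : Fin n) (b : Bˣ) :
    ((evB b : AddMonoidAlgebra A ℤ →ₐ[A] B) : AddMonoidAlgebra A ℤ →+* B).comp (eta i₀) =
      ev (algebraMap A B) (dg i₀ (b : B)) (by rw [det_dg]; exact b.isUnit) := by
  have hm : (dg i₀ ((tU A : (AddMonoidAlgebra A ℤ)ˣ) : AddMonoidAlgebra A ℤ)).map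
      ((evB b : AddMonoidAlgebra A ℤ →ₐ[A] B) : AddMonoidAlgebra A ℤ →+* B) = dg i₀ (b : B) := by
    rw [map_dg]
    congr 1
    have := congrArg Units.val (map_evB_tU (R := A) b)
    exact this
  unfold eta
  rw [comp_ev _ _ _ _ (by rw [hm, det_dg]; exact b.isUnit)]
  apply ev_congr _ hm
  ext a
  simp

end LaurentFactor

section Generic
variable {A : Type u} [CommRing A] {n : ℕ}

/-- the structure map to the function field of `GL_n` over `A ⧸ 𝔭` -/
noncomputable def phiP (𝔭 : Ideal A) [𝔭.IsPrime] :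
    A →+* FractionRing (MvPolynomial (Fin n × Fin n) (A ⧸ 𝔭)) :=
  (algebraMap (MvPolynomial (Fin n × Fin n) (A ⧸ 𝔭)) _).comp (C.comp (Ideal.Quotient.mk 𝔭))

/-- the generic matrix over `A ⧸ 𝔭` -/
noncomputable def YP (𝔭 : Ideal A) [𝔭.IsPrime] :
    Matrix (Fin n) (Fin n) (FractionRing (MvPolynomial (Fin n × Fin n) (A ⧸ 𝔭))) :=
  fun i j => algebraMap (MvPolynomial (Fin n × Fin n) (A ⧸ 𝔭)) _ (X (i, j))

theorem det_YP (𝔭 : Ideal A) [𝔭.IsPrime] :
    (YP (n := n) 𝔭).det = algebraMap (MvPolynomial (Fin n × Fin n) (A ⧸ 𝔭)) _ (dX (A ⧸ 𝔭) n) := by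
  rw [RingHom.map_det]
  congr 1

theorem isUnit_det_YP (𝔭 : Ideal A) [𝔭.IsPrime] : IsUnit (YP (n := n) 𝔭).det := by
  rw [det_YP, isUnit_iff_ne_zero, Ne, map_eq_zero_iff _ (IsFractionRing.injective _ _)]
  exact Matrix.det_mvPolynomialX_ne_zero (Fin n) (A ⧸ 𝔭)

/-- evaluation at the generic point of `GL_n` over `A ⧸ 𝔭` -/
noncomputable def psi (𝔭 : Ideal A) [𝔭.IsPrime] :
    SX A n →+* FractionRing (MvPolynomial (Fin n × Fin n) (A ⧸ 𝔭)) :=
  ev (phiP 𝔭) (YP 𝔭) (isUnit_det_YP 𝔭)

theorem psi_algebraMap (𝔭 : Ideal A) [𝔭.IsPrime] (g : RX A n) :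
    psi 𝔭 (algebraMap (RX A n) (SX A n) g) =
      algebraMap (MvPolynomial (Fin n × Fin n) (A ⧸ 𝔭)) _ (MvPolynomial.map (Ideal.Quotient.mk 𝔭) g) := by
  unfold psi
  rw [ev_algebraMap]
  have : evP (phiP (n := n) 𝔭) (YP 𝔭) =
      (algebraMap (MvPolynomial (Fin n × Fin n) (A ⧸ 𝔭)) _).comp (MvPolynomial.map (Ideal.Quotient.mk 𝔭)) := by
    apply MvPolynomial.ringHom_ext
    · intro a
      simp [evP, phiP]
    · rintro ⟨i, j⟩
      simp [evP, YP]
  rw [this, RingHom.comp_apply]

/-- the generic points over all primes detect zero (`A` reduced) -/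
theorem eq_zero_of_forall_psi [IsReduced A] (x : SX A n)
    (h : ∀ (𝔭 : Ideal A) [𝔭.IsPrime], psi 𝔭 x = 0) : x = 0 := by
  obtain ⟨k, g, hg⟩ := IsLocalization.Away.surj (dX A n) x
  have hg0 : g = 0 := by
    ext m
    rw [MvPolynomial.coeff_zero]
    apply IsNilpotent.eq_zero
    rw [nilpotent_iff_mem_prime]
    intro 𝔭 h𝔭
    have h1 := congrArg (psi 𝔭) hg
    rw [map_mul, h 𝔭, zero_mul, psi_algebraMap] at h1
    have h2 : MvPolynomial.map (Ideal.Quotient.mk 𝔭) g = 0 :=
      (map_eq_zero_iff _ (IsFractionRing.injective _ _)).mp h1.symm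
    have h3 := congrArg (MvPolynomial.coeff m) h2
    rw [MvPolynomial.coeff_map, MvPolynomial.coeff_zero] at h3
    exact Ideal.Quotient.eq_zero_iff_mem.mp h3
  rw [hg0, map_zero] at hg
  have hu : IsUnit (algebraMap (RX A n) (SX A n) (dX A n) ^ k) :=
    (IsLocalization.Away.algebraMap_isUnit _).pow k
  exact (hu.mul_left_eq_zero).mp hg

end Generic

section Main
variable {A : Type u} [CommRing A]

/-- the determinant as a unit of the coordinate ring of `GL_n` -/
noncomputable def dU (A : Type u) [CommRing A] (n : ℕ) : (SX A n)ˣ :=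
  (IsLocalization.Away.algebraMap_isUnit (S := SX A n) (dX A n)).unit

theorem dU_val (n : ℕ) : ((dU A n : (SX A n)ˣ) : SX A n) = algebraMap (RX A n) (SX A n) (dX A n) := rfl

theorem units_map_ev_dU {B : Type v} [CommRing B] {n : ℕ} (φ : A →+* B) (Y : Matrix (Fin n) (Fin n) B)
    (hY : IsUnit Y.det) : Units.map (ev φ Y hY : SX A n →* B) (dU A n) = hY.unit := by
  apply Units.ext
  show ev φ Y hY (algebraMap (RX A n) (SX A n) (dX A n)) = Y.det
  rw [ev_algebraMap, evP_det]

theorem ev_dU_zpow {B : Type v} [CommRing B] {n : ℕ} (φ : A →+* B) (Y : Matrix (Fin n) (Fin n) B)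
    (hY : IsUnit Y.det) (m : ℤ) :
    ev φ Y hY (((dU A n) ^ m : (SX A n)ˣ) : SX A n) = ((hY.unit ^ m : Bˣ) : B) := by
  have h := units_map_ev_dU φ Y hY
  have h2 : Units.map (ev φ Y hY : SX A n →* B) ((dU A n) ^ m) = hY.unit ^ m := by
    rw [map_zpow, h]
  exact congrArg Units.val h2

/-- **Units of the coordinate ring of `GL_n`** over a reduced ring without nontrivial idempotents
are `a · det^m`. -/
theorem exists_eq_mul_det_zpow [IsReduced A] [Nontrivial A]
    (hconn : ∀ e : A, IsIdempotentElem e → e = 0 ∨ e = 1) (n : ℕ) (hn : 0 < n) (u : (SX A n)ˣ) :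
    ∃ (a : Aˣ) (m : ℤ), (u : SX A n) = algebraMap A (SX A n) (a : A) * (((dU A n) ^ m : (SX A n)ˣ) : SX A n) := by
  let i₀ : Fin n := ⟨0, hn⟩
  obtain ⟨m, a, hP⟩ := exists_eq_single_of_isUnit hconn (eta i₀ (u : SX A n)) (u.isUnit.map _)
  refine ⟨a, m, ?_⟩
  rw [← sub_eq_zero]
  apply eq_zero_of_forall_psi
  intro 𝔭 h𝔭
  rw [map_sub, sub_eq_zero]
  set L := FractionRing (MvPolynomial (Fin n × Fin n) (A ⧸ 𝔭)) with hL
  letI : Algebra A L := (phiP (n := n) 𝔭).toAlgebra
  have hφ : algebraMap A L = phiP (n := n) 𝔭 := rfl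
  set δ : Lˣ := (isUnit_det_YP (n := n) 𝔭).unit with hδ
  have hδv : (δ : L) = (YP (n := n) 𝔭).det := rfl
  -- left hand side
  have h1 : psi 𝔭 (u : SX A n) = algebraMap A L (a : A) * ((δ ^ m : Lˣ) : L) := by
    unfold psi
    rw [ev_eq_ev_dg (phiP 𝔭) (u : SX A n) u.isUnit i₀ (YP 𝔭) (isUnit_det_YP 𝔭)]
    have h2 := evB_comp_eta (A := A) (B := L) i₀ δ
    have h3 := congrArg (fun f : SX A n →+* L => f (u : SX A n)) h2
    simp only [RingHom.comp_apply] at h3
    have h4 : ev (algebraMap A L) (dg i₀ (δ : L)) (by rw [det_dg]; exact δ.isUnit) (u : SX A n) =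
        ev (phiP 𝔭) (dg i₀ (YP (n := n) 𝔭).det) (by rw [det_dg]; exact isUnit_det_YP 𝔭) (u : SX A n) :=
      congrArg (fun f : SX A n →+* L => f (u : SX A n)) (ev_congr hφ (by rw [hδv]) _ _)
    rw [← h4, ← h3, hP]
    show evB δ (AddMonoidAlgebra.single m (a : A)) = _
    rw [evB_single, Algebra.smul_def]
  rw [h1, map_mul]
  unfold psi
  rw [ev_dU_zpow, ev_algebraMap_base]
  rfl

end Main

section Converse
variable {A : Type u} [CommRing A]

theorem eta_dU_zpow {n : ℕ} (i₀ : Fin n) (m : ℤ) :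
    eta i₀ (((dU A n) ^ m : (SX A n)ˣ) : SX A n) = AddMonoidAlgebra.single m 1 := by
  unfold eta
  rw [ev_dU_zpow]
  have : (isUnit_det_dg_tU (A := A) i₀).unit = tU A := by
    apply Units.ext
    show (dg i₀ ((tU A : (AddMonoidAlgebra A ℤ)ˣ) : AddMonoidAlgebra A ℤ)).det = _
    rw [det_dg]
  rw [this, tU_zpow]

/-- if every unit on `GL_n` is of the form `a det^m` then `A` has no nonzero square-zero
elements -/
theorem eq_zero_of_sq_eq_zero_of_surj [Nontrivial A] (n : ℕ) (hn : 0 < n)
    (hsurj : ∀ u : (SX A n)ˣ, ∃ (a : Aˣ) (m : ℤ),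
      (u : SX A n) = algebraMap A (SX A n) (a : A) * (((dU A n) ^ m : (SX A n)ˣ) : SX A n))
    (ε : A) (hε : ε ^ 2 = 0) : ε = 0 := by
  let i₀ : Fin n := ⟨0, hn⟩
  let v : RX A n := 1 + C ε * X (i₀, i₀)
  let v' : RX A n := 1 - C ε * X (i₀, i₀)
  have hvv' : v * v' = 1 := by
    have : (C ε : RX A n) ^ 2 = 0 := by rw [← map_pow, hε, map_zero]
    simp only [v, v']
    linear_combination (-(X (i₀, i₀) : RX A n) ^ 2) * this
  let U : (SX A n)ˣ := ⟨algebraMap _ _ v, algebraMap _ _ v', by rw [← map_mul, hvv', map_one],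
    by rw [← map_mul, mul_comm, hvv', map_one]⟩
  obtain ⟨a, m, hU⟩ := hsurj U
  have h1 := congrArg (eta i₀) hU
  rw [map_mul, eta_dU_zpow] at h1
  have h2 : eta i₀ (U : SX A n) = AddMonoidAlgebra.single 0 1 + AddMonoidAlgebra.single 1 ε := by
    show eta i₀ (algebraMap _ _ v) = _
    unfold eta
    rw [ev_algebraMap]
    simp only [v, map_add, map_one, map_mul, evP_C, evP_X]
    rw [AddMonoidAlgebra.one_def]
    congr 1
    have hdg : dg i₀ ((tU A : (AddMonoidAlgebra A ℤ)ˣ) : AddMonoidAlgebra A ℤ) i₀ i₀ =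
        AddMonoidAlgebra.single 1 1 := by
      unfold dg
      rw [Matrix.diagonal_apply_eq, Function.update_self]
      rfl
    rw [hdg]
    show AddMonoidAlgebra.single 0 ε * AddMonoidAlgebra.single 1 1 = _
    rw [AddMonoidAlgebra.single_mul_single, zero_add, mul_one]
  have h3 : eta i₀ (algebraMap A (SX A n) (a : A)) = AddMonoidAlgebra.single 0 (a : A) := by
    unfold eta
    rw [ev_algebraMap_base]
    rfl
  rw [h2, h3, AddMonoidAlgebra.single_mul_single, zero_add, mul_one] at h1
  have c0 := congrArg (fun x : AddMonoidAlgebra A ℤ => x.coeff 0) h1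
  have c1 := congrArg (fun x : AddMonoidAlgebra A ℤ => x.coeff 1) h1
  simp only [AddMonoidAlgebra.coeff_add, AddMonoidAlgebra.coeff_single, Finsupp.add_apply,
    Finsupp.single_apply] at c0 c1
  by_cases hm : m = 0
  · subst hm
    simpa using c1
  · exfalso
    rw [if_neg hm] at c0
    simp at c0

end Converse

end Groth.Agent.Lib.UnitsGL38
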