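import Mathlib

/-!
# The object of units of a monoid object (helper18)

In a cartesian monoidal category with pullbacks, for a monoid object `M` the pullback
`unitsObj M = {(a, b) | a b = 1, b a = 1}` with `unitsι : unitsObj M ⟶ M`, `(a, b) ↦ a` is a
monomorphism through which `m : T ⟶ M` factors iff `m` is a unit of the monoid `T ⟶ M`.
-/

set_option autoImplicit false
set_option maxHeartbeats 400000
universe v u
open CategoryTheory MonoidalCategory CartesianMonoidalCategory MonObj

namespace Groth.Agent.Lib.UnitsMon18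

variable {C : Type u} [Category.{v} C] [CartesianMonoidalCategory C] [Limits.HasPullbacks C]
  (M : C) [MonObj M]

/-- `(a, b) ↦ (a b, b a)` -/
noncomputable def mulBoth : M ⊗ M ⟶ M ⊗ M := lift μ[M] (lift (snd M M) (fst M M) ≫ μ[M])

/-- `* ↦ (1, 1)` -/
noncomputable def oneBoth : 𝟙_ C ⟶ M ⊗ M := lift η[M] η[M]

/-- the object of units -/
noncomputable abbrev unitsObj : C := Limits.pullback (mulBoth M) (oneBoth M)

/-- `(a, b) ↦ a` -/
noncomputable def unitsι : unitsObj M ⟶ M := Limits.pullback.fst (mulBoth M) (oneBoth M) ≫ fst M M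

variable {M}

lemma lift_mulBoth {T : C} (a b : T ⟶ M) : lift a b ≫ mulBoth M = lift (a * b) (b * a) := by
  rw [mulBoth, comp_lift, ← Category.assoc, comp_lift, lift_snd, lift_fst]
  rfl

lemma toUnit_oneBoth (T : C) : toUnit T ≫ oneBoth M = lift (1 : T ⟶ M) 1 := by
  rw [oneBoth, comp_lift]; rfl

lemma factors_iff {T : C} (m : T ⟶ M) : (∃ g : T ⟶ unitsObj M, g ≫ unitsι M = m) ↔ IsUnit m := by
  constructor
  · rintro ⟨g, rfl⟩
    set p := g ≫ Limits.pullback.fst (mulBoth M) (oneBoth M) with hp
    have hp' : p = lift (p ≫ fst M M) (p ≫ snd M M) := by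
      apply CartesianMonoidalCategory.hom_ext <;> simp
    have hcond : p ≫ mulBoth M = lift (1 : T ⟶ M) 1 := by
      rw [hp, Category.assoc, Limits.pullback.condition, ← Category.assoc,
        toUnit_unique (g ≫ Limits.pullback.snd _ _) (toUnit T), toUnit_oneBoth]
    rw [hp', lift_mulBoth] at hcond
    have h1 := congrArg (· ≫ fst M M) hcond
    have h2 := congrArg (· ≫ snd M M) hcond
    simp only [lift_fst, lift_snd] at h1 h2
    rw [isUnit_iff_exists]
    refine ⟨p ≫ snd M M, ?_, ?_⟩
    · rw [unitsι, ← Category.assoc]; exact h1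
    · rw [unitsι, ← Category.assoc]; exact h2
  · intro h
    obtain ⟨n, h1, h2⟩ := isUnit_iff_exists.mp h
    refine ⟨Limits.pullback.lift (lift m n) (toUnit T) ?_, ?_⟩
    · rw [lift_mulBoth, toUnit_oneBoth, h1, h2]
    · rw [unitsι, ← Category.assoc, Limits.pullback.lift_fst, lift_fst]

instance mono_unitsι : Mono (unitsι M) := by
  constructor
  intro T g₁ g₂ h
  have key : ∀ g : T ⟶ unitsObj M,
      (g ≫ Limits.pullback.fst (mulBoth M) (oneBoth M) ≫ fst M M) *
        (g ≫ Limits.pullback.fst (mulBoth M) (oneBoth M) ≫ snd M M) = 1 ∧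
      (g ≫ Limits.pullback.fst (mulBoth M) (oneBoth M) ≫ snd M M) *
        (g ≫ Limits.pullback.fst (mulBoth M) (oneBoth M) ≫ fst M M) = 1 := by
    intro g
    set p := g ≫ Limits.pullback.fst (mulBoth M) (oneBoth M) with hp
    have hp' : p = lift (p ≫ fst M M) (p ≫ snd M M) := by
      apply CartesianMonoidalCategory.hom_ext <;> simp
    have hcond : p ≫ mulBoth M = lift (1 : T ⟶ M) 1 := by
      rw [hp, Category.assoc, Limits.pullback.condition, ← Category.assoc,
        toUnit_unique (g ≫ Limits.pullback.snd _ _) (toUnit T), toUnit_oneBoth]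
    rw [hp', lift_mulBoth] at hcond
    have h1 := congrArg (· ≫ fst M M) hcond
    have h2 := congrArg (· ≫ snd M M) hcond
    simp only [lift_fst, lift_snd] at h1 h2
    simp only [← Category.assoc]
    exact ⟨h1, h2⟩
  apply Limits.pullback.hom_ext
  · apply CartesianMonoidalCategory.hom_ext
    · simpa [unitsι] using h
    · obtain ⟨h11, h12⟩ := key g₁
      obtain ⟨h21, h22⟩ := key g₂
      have ha : g₁ ≫ Limits.pullback.fst (mulBoth M) (oneBoth M) ≫ fst M M =
          g₂ ≫ Limits.pullback.fst (mulBoth M) (oneBoth M) ≫ fst M M := by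
        simpa [unitsι] using h
      rw [ha] at h11 h12
      simp only [Category.assoc]
      exact left_inv_eq_right_inv h12 h21
  · exact toUnit_unique _ _

end Groth.Agent.Lib.UnitsMon18
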