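import Groth.Agent.Lib.GoodQuotOpen45
import Groth.Agent.Lib.InducedAct45
import Mathlib.CategoryTheory.Comma.Over.Pullback

/-!
# Universal categorical quotients: surjectivity and the sheaf of invariants (helper45)

* `ZA S`, `E T : (T ⟶ ZA S) ≃ Γ(T.left, ⊤)`: the affine line over `S` represents global functions
  on `Over S`.
* `sections_top_of_isCatQuot`: for a categorical quotient, global functions on `Y` are the
  invariant global functions on `X`.
* `sections_of_restrict`: the sections clause over an open `U'' ⊆ Y` follows from the clause for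
  the restriction `φ⁻¹(YU) ⟶ YU` to an open subscheme `YU ⊇ U''`.
* `sections_of_isUnivCatQuot`, `surjective_of_isUnivCatQuot`.
-/

set_option autoImplicit false
set_option linter.unusedSectionVars false
universe u
open CategoryTheory CategoryTheory.Limits MonoidalCategory CartesianMonoidalCategory MonObj
  AlgebraicGeometry

namespace Groth.Agent.Lib.UnivCatQuot45

open Groth.Agent.Lib.GammaFpqc Groth.Agent.Lib.GeomQuotDesc45 Groth.Agent.Lib.GoodQuotOpen45
  Groth.Agent.Lib.InducedAct45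

variable {S : Scheme.{u}}

/-- The affine line over `S`. -/
noncomputable abbrev ZA (S : Scheme.{u}) : Over S := (Over.star S).obj A1.{u}

/-- Morphisms to the affine line over `S` are global functions. -/
noncomputable def E (T : Over S) : (T ⟶ ZA S) ≃ Γ(T.left, ⊤) :=
  ((Over.forgetAdjStar S).homEquiv T A1.{u}).symm.trans (fnEquiv ((Over.forget S).obj T))

lemma E_apply (T : Over S) (χ : T ⟶ ZA S) :
    E T χ = fnEquiv T.left (((Over.forgetAdjStar S).homEquiv T A1.{u}).symm χ) := rfl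

lemma E_comp {T T' : Over S} (u : T' ⟶ T) (χ : T ⟶ ZA S) :
    E T' (u ≫ χ) = u.left.appTop.hom (E T χ) := by
  rw [E_apply, E_apply, Adjunction.homEquiv_naturality_left_symm]
  exact fnEquiv_comp _ _

variable {G X Y : Over S} [GrpObj G] (a : AlgGrp.Action G X) (φ : X ⟶ Y)

/-- For a categorical quotient, global functions on `Y` are the invariant global functions. -/
theorem sections_top_of_isCatQuot (h : GIT.IsCatQuot a φ) :
    Function.Injective (φ.left.app ⊤) ∧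
      Set.range (φ.left.app ⊤) = {f | GIT.IsInvSection a φ ⊤ f} := by
  refine ⟨?_, Set.Subset.antisymm ?_ ?_⟩
  · intro s₁ s₂ hs
    have h1 : φ ≫ (E Y).symm s₁ = φ ≫ (E Y).symm s₂ := by
      apply (E X).injective
      rw [E_comp, E_comp, Equiv.apply_symm_apply, Equiv.apply_symm_apply]
      exact hs
    have hinvψ : GIT.IsInvariant a (φ ≫ (E Y).symm s₁) := by
      unfold GIT.IsInvariant
      rw [← Category.assoc, h.1, Category.assoc]
    obtain ⟨χ, -, huniq⟩ := h.2 _ (φ ≫ (E Y).symm s₁) hinvψ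
    have e1 := huniq ((E Y).symm s₁) rfl
    have e2 := huniq ((E Y).symm s₂) h1.symm
    exact (E Y).symm.injective (e1.trans e2.symm)
  · rintro _ ⟨s, rfl⟩
    exact Groth.Agent.Lib.GeomQuotFpqc18.isInvSection_app a φ h.1 ⊤ s
  · intro f hf
    obtain ⟨f', rfl⟩ : ∃ f' : Γ(X.left, ⊤), f' = f := ⟨f, rfl⟩
    have hf' : (a.act.left.appLE (φ.left ⁻¹ᵁ ⊤) (a.act.left ⁻¹ᵁ (φ.left ⁻¹ᵁ ⊤) ⊓
        (snd G X).left ⁻¹ᵁ (φ.left ⁻¹ᵁ ⊤)) inf_le_left).hom f' =
      ((snd G X).left.appLE (φ.left ⁻¹ᵁ ⊤) (a.act.left ⁻¹ᵁ (φ.left ⁻¹ᵁ ⊤) ⊓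
        (snd G X).left ⁻¹ᵁ (φ.left ⁻¹ᵁ ⊤)) inf_le_right).hom f' := hf
    -- restriction from `⊤` is injective
    have hle : (⊤ : (G ⊗ X).left.Opens) ≤ a.act.left ⁻¹ᵁ (φ.left ⁻¹ᵁ ⊤) ⊓
        (snd G X).left ⁻¹ᵁ (φ.left ⁻¹ᵁ ⊤) := fun v _ => ⟨trivial, trivial⟩
    have hiso : IsIso (homOfLE (le_top : a.act.left ⁻¹ᵁ (φ.left ⁻¹ᵁ ⊤) ⊓
        (snd G X).left ⁻¹ᵁ (φ.left ⁻¹ᵁ ⊤) ≤ ⊤)) := ⟨homOfLE hle, rfl, rfl⟩
    have hrinj : Function.Injective ((G ⊗ X).left.presheaf.map (homOfLE (le_top :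
        a.act.left ⁻¹ᵁ (φ.left ⁻¹ᵁ ⊤) ⊓ (snd G X).left ⁻¹ᵁ (φ.left ⁻¹ᵁ ⊤) ≤ ⊤)).op).hom :=
      (ConcreteCategory.bijective_of_isIso _).1
    have hr : ∀ (m : G ⊗ X ⟶ X) (e : a.act.left ⁻¹ᵁ (φ.left ⁻¹ᵁ ⊤) ⊓
        (snd G X).left ⁻¹ᵁ (φ.left ⁻¹ᵁ ⊤) ≤ m.left ⁻¹ᵁ (φ.left ⁻¹ᵁ ⊤)),
        ((G ⊗ X).left.presheaf.map (homOfLE (le_top : a.act.left ⁻¹ᵁ (φ.left ⁻¹ᵁ ⊤) ⊓
          (snd G X).left ⁻¹ᵁ (φ.left ⁻¹ᵁ ⊤) ≤ ⊤)).op).hom (m.left.appTop.hom f') =
        (m.left.appLE (φ.left ⁻¹ᵁ ⊤) _ e).hom f' := by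
      intro m e
      rfl
    have hinvψ : GIT.IsInvariant a ((E X).symm f') := by
      unfold GIT.IsInvariant
      apply (E (G ⊗ X)).injective
      rw [E_comp, E_comp, Equiv.apply_symm_apply]
      apply hrinj
      rw [hr a.act inf_le_left, hr (snd G X) inf_le_right]
      exact hf'
    obtain ⟨χ, hχ, -⟩ := h.2 _ ((E X).symm f') hinvψ
    refine ⟨E Y χ, ?_⟩
    have := E_comp φ χ
    rw [hχ, Equiv.apply_symm_apply] at this
    exact this.symm

section restrict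

variable {XV YU : Over S} (aU : AlgGrp.Action G XV) (jU : XV ⟶ X) [IsOpenImmersion jU.left]
  (jY : YU ⟶ Y) [IsOpenImmersion jY.left] (haU : aU.act ≫ jU = (G ◁ jU) ≫ a.act)
  (φU : XV ⟶ YU) (hpb : IsPullback jU.left φU.left φ.left jY.left)

include haU hpb in
/-- The sections clause over `U'' ⊆ YU ⊆ Y` follows from the clause for the restriction over
`YU`. -/
theorem sections_of_restrict (hinv : GIT.IsInvariant a φ) (U'' : Y.left.Opens)
    (hU'' : U'' ≤ jY.left.opensRange)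
    (hsec : Function.Injective (φU.left.app (jY.left ⁻¹ᵁ U'')) ∧
      Set.range (φU.left.app (jY.left ⁻¹ᵁ U'')) =
        {f | GIT.IsInvSection aU φU (jY.left ⁻¹ᵁ U'') f}) :
    Function.Injective (φ.left.app U'') ∧
      Set.range (φ.left.app U'') = {f | GIT.IsInvSection a φ U'' f} := by
  have e := preimage_le φ jY jU φU hpb U''
  have e' := le_preimage φ jY jU φU hpb U''
  have o4 : φ.left ⁻¹ᵁ U'' ≤ jU.left.opensRange := by
    intro x hx
    have hx' : φ.left x ∈ U'' := hx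
    have hr := Groth.Agent.Lib.ClosedAct45.range_fst_of_isPullback hpb
    show x ∈ Set.range jU.left
    rw [hr]
    exact hU'' hx'
  have hβY := appLE_bijective_of_isOpenImmersion jY.left U'' (jY.left ⁻¹ᵁ U'') le_rfl le_rfl hU''
  have hβX := appLE_bijective_of_isOpenImmersion jU.left (φ.left ⁻¹ᵁ U'')
    (φU.left ⁻¹ᵁ (jY.left ⁻¹ᵁ U'')) e e' o4
  have hsqs : ∀ s : Γ(Y.left, U''),
      (jU.left.appLE (φ.left ⁻¹ᵁ U'') (φU.left ⁻¹ᵁ (jY.left ⁻¹ᵁ U'')) e).hom
        ((φ.left.app U'').hom s) =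
      (φU.left.app (jY.left ⁻¹ᵁ U'')).hom ((jY.left.app U'').hom s) := by
    intro s
    have := appLE_sq jU.left φ.left φU.left jY.left hpb.w U''
      (φ.left ⁻¹ᵁ U'') (jY.left ⁻¹ᵁ U'') (φU.left ⁻¹ᵁ (jY.left ⁻¹ᵁ U'')) le_rfl e le_rfl le_rfl s
    simpa only [Scheme.Hom.appLE_eq_app] using this
  have hβY' : Function.Bijective (jY.left.app U'').hom := by
    rw [Scheme.Hom.app_eq_appLE]; exact hβY
  refine ⟨?_, Set.Subset.antisymm ?_ ?_⟩
  · intro s₁ s₂ hs
    have hs' : (φ.left.app U'').hom s₁ = (φ.left.app U'').hom s₂ := hs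
    apply hβY'.1
    apply hsec.1
    change (φU.left.app (jY.left ⁻¹ᵁ U'')).hom ((jY.left.app U'').hom s₁) =
      (φU.left.app (jY.left ⁻¹ᵁ U'')).hom ((jY.left.app U'').hom s₂)
    rw [← hsqs, ← hsqs, hs']
  · rintro _ ⟨s, rfl⟩
    exact Groth.Agent.Lib.GeomQuotFpqc18.isInvSection_app a φ hinv U'' s
  · intro ft hft
    have h1 := isInvSection_pullback a φ jY jU φU aU haU U'' ft hft e
    obtain ⟨t, ht⟩ : (jU.left.appLE (φ.left ⁻¹ᵁ U'') (φU.left ⁻¹ᵁ (jY.left ⁻¹ᵁ U'')) e).hom ft ∈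
        Set.range (φU.left.app (jY.left ⁻¹ᵁ U'')) := by
      rw [hsec.2]; exact h1
    obtain ⟨s, rfl⟩ := hβY'.2 t
    refine ⟨s, ?_⟩
    apply hβX.1
    rw [hsqs]
    exact ht

end restrict

/-- For a universal categorical quotient, `O_Y` is the sheaf of invariant functions. -/
theorem sections_of_isUnivCatQuot (h : GIT.IsUnivCatQuot a φ) (U : Y.left.Opens) :
    Function.Injective (φ.left.app U) ∧
      Set.range (φ.left.app U) = {f | GIT.IsInvSection a φ U f} := by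
  have hw : (φ.left ∣_ U) ≫ U.ι ≫ Y.hom = (φ.left ⁻¹ᵁ U).ι ≫ X.hom := by
    rw [← Category.assoc, morphismRestrict_ι, Category.assoc, Over.w φ]
  have hpbL : IsPullback (Over.homMk (φ.left ⁻¹ᵁ U).ι rfl :
        Over.mk ((φ.left ⁻¹ᵁ U).ι ≫ X.hom) ⟶ X).left
      (Over.homMk (φ.left ∣_ U) hw :
        Over.mk ((φ.left ⁻¹ᵁ U).ι ≫ X.hom) ⟶ Over.mk (U.ι ≫ Y.hom)).left φ.left
      (Over.homMk U.ι rfl : Over.mk (U.ι ≫ Y.hom) ⟶ Y).left :=
    (isPullback_morphismRestrict φ.left U).flip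
  have hsq : (Over.homMk (φ.left ⁻¹ᵁ U).ι rfl : Over.mk ((φ.left ⁻¹ᵁ U).ι ≫ X.hom) ⟶ X) ≫ φ =
      (Over.homMk (φ.left ∣_ U) hw :
        Over.mk ((φ.left ⁻¹ᵁ U).ι ≫ X.hom) ⟶ Over.mk (U.ι ≫ Y.hom)) ≫
      (Over.homMk U.ι rfl : Over.mk (U.ι ≫ Y.hom) ⟶ Y) := by
    ext1; exact hpbL.w
  have hpb := IsPullback.of_map (Over.forget S) hsq hpbL
  have hcq : GIT.IsCatQuot (inducedAction a h.1.1 hpb) _ :=
    h.2 _ _ _ trivial hpb (inducedAction a h.1.1 hpb) (inducedAction_equivariant a h.1.1 hpb)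
      (inducedAction_invariant a h.1.1 hpb)
  have htop := sections_top_of_isCatQuot _ _ hcq
  have e1 : (Over.homMk U.ι rfl : Over.mk (U.ι ≫ Y.hom) ⟶ Y).left ⁻¹ᵁ U = ⊤ :=
    Scheme.Opens.ι_preimage_self U
  have hi1 : IsOpenImmersion
      (Over.homMk (φ.left ⁻¹ᵁ U).ι rfl : Over.mk ((φ.left ⁻¹ᵁ U).ι ≫ X.hom) ⟶ X).left :=
    inferInstanceAs (IsOpenImmersion (φ.left ⁻¹ᵁ U).ι)
  have hi2 : IsOpenImmersion (Over.homMk U.ι rfl : Over.mk (U.ι ≫ Y.hom) ⟶ Y).left :=
    inferInstanceAs (IsOpenImmersion U.ι)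
  refine sections_of_restrict a φ (inducedAction a h.1.1 hpb) _ _
    (inducedAction_equivariant a h.1.1 hpb) _ hpbL h.1.1 U ?_ ?_
  · change U ≤ U.ι.opensRange
    rw [Scheme.Opens.opensRange_ι]
  · rw [e1]; exact htop

/-- Morphisms out of an object of `Over S` with empty underlying scheme are unique. -/
lemma hom_ext_of_isEmpty {E Z : Over S} [IsEmpty E.left] (u v : E ⟶ Z) : u = v := by
  ext1
  exact (isInitialOfIsEmpty (X := E.left)).hom_ext _ _

/-- A universal categorical quotient is surjective. -/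
theorem surjective_of_isUnivCatQuot (h : GIT.IsUnivCatQuot a φ) :
    Function.Surjective φ.left.base := by
  intro y
  by_contra hy
  -- base change to the residue field of `y`
  have hpb := IsPullback.of_hasPullback φ
    (Over.homMk (Y.left.fromSpecResidueField y) rfl :
      Over.mk (Y.left.fromSpecResidueField y ≫ Y.hom) ⟶ Y)
  have hcq : GIT.IsCatQuot (inducedAction a h.1.1 hpb) _ :=
    h.2 _ _ _ trivial hpb (inducedAction a h.1.1 hpb) (inducedAction_equivariant a h.1.1 hpb)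
      (inducedAction_invariant a h.1.1 hpb)
  have hempty : IsEmpty (pullback φ (Over.homMk (Y.left.fromSpecResidueField y) rfl :
      Over.mk (Y.left.fromSpecResidueField y ≫ Y.hom) ⟶ Y)).left := by
    constructor
    intro p
    apply hy
    refine ⟨(pullback.fst φ _).left p, ?_⟩
    have hw := congrArg (fun m => m.left) hpb.w
    simp only [Over.comp_left] at hw
    change φ.left ((pullback.fst φ _).left p) = y
    rw [← Scheme.Hom.comp_apply, hw, Scheme.Hom.comp_apply]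
    exact Scheme.fromSpecResidueField_apply _ _
  have hemptyG : IsEmpty (G ⊗ pullback φ (Over.homMk (Y.left.fromSpecResidueField y) rfl :
      Over.mk (Y.left.fromSpecResidueField y ≫ Y.hom) ⟶ Y)).left :=
    ⟨fun p => hempty.false ((snd G _).left p)⟩
  -- two distinct functions on the point
  have hne : Nontrivial Γ(Spec (Y.left.residueField y), ⊤) := by
    have : Nonempty ↥(Spec (Y.left.residueField y)) :=
      inferInstanceAs (Nonempty (PrimeSpectrum (Y.left.residueField y)))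
    infer_instance
  have hinvψ : GIT.IsInvariant (inducedAction a h.1.1 hpb)
      (pullback.snd φ _ ≫ (E (Over.mk (Y.left.fromSpecResidueField y ≫ Y.hom))).symm 0) :=
    hom_ext_of_isEmpty _ _
  obtain ⟨χ, -, huniq⟩ := hcq.2 _ _ hinvψ
  have e1 := huniq ((E (Over.mk (Y.left.fromSpecResidueField y ≫ Y.hom))).symm 0) rfl
  have e2 := huniq ((E (Over.mk (Y.left.fromSpecResidueField y ≫ Y.hom))).symm 1)
    (hom_ext_of_isEmpty _ _)
  have h01 : (0 : Γ(Spec (Y.left.residueField y), ⊤)) = 1 :=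
    (E (Over.mk (Y.left.fromSpecResidueField y ≫ Y.hom))).symm.injective (e1.trans e2.symm)
  exact zero_ne_one h01

/-- A base change of a universal categorical quotient is a universal categorical quotient. -/
theorem isUnivCatQuot_baseChange (h : GIT.IsUnivCatQuot a φ) {X' Y' : Over S} (pr : X' ⟶ X)
    (φ' : X' ⟶ Y') (g : Y' ⟶ Y) (hpb : IsPullback pr φ' φ g) (a' : AlgGrp.Action G X')
    (heq : a'.act ≫ pr = (G ◁ pr) ≫ a.act) (hinv' : GIT.IsInvariant a' φ') :
    GIT.IsUnivCatQuot a' φ' := by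
  refine ⟨h.2 pr φ' g trivial hpb a' heq hinv', ?_⟩
  intro X'' Y'' pr₂ φ'' g₂ _ hpb₂ a'' heq₂ hinv₂
  exact h.2 (pr₂ ≫ pr) φ'' (g₂ ≫ g) trivial (hpb₂.paste_horiz hpb) a''
    (by rw [← Category.assoc, heq₂, Category.assoc, heq, ← MonoidalCategory.whiskerLeft_comp_assoc])
    hinv₂

/-- A universal categorical quotient which is universally submersive with surjective
`(σ, p₂)` is a universal geometric quotient. -/
theorem isUnivGeomQuot_of_isUnivCatQuot (h : GIT.IsUnivCatQuot a φ)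
    (hsub : GIT.IsUnivSubmersive φ.left)
    (horb : Function.Surjective (GIT.PsiY a φ h.1.1).base) : GIT.IsUnivGeomQuot a φ := by
  refine ⟨⟨h.1.1, surjective_of_isUnivCatQuot a φ h, horb, hsub,
    sections_of_isUnivCatQuot a φ h⟩, ?_⟩
  intro X' Y' pr φ' g _ hpb a' heq hinv'
  have h' := isUnivCatQuot_baseChange a φ h pr φ' g hpb a' heq hinv'
  have hpbL : IsPullback pr.left φ'.left φ.left g.left :=
    Functor.map_isPullback (Over.forget S) hpb
  refine ⟨hinv', surjective_of_isUnivCatQuot a' φ' h',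
    Groth.Agent.Lib.QuotBC45.surjective_PsiY_baseChange a φ h.1.1 horb hpbL a'.act heq hinv'.left,
    ?_, sections_of_isUnivCatQuot a' φ' h'⟩
  intro X₁ Y₁ i₁ i₂ f₁ sq
  exact hsub (i₁ ≫ pr.left) (i₂ ≫ g.left) f₁ (sq.paste_vert hpbL.flip)

end Groth.Agent.Lib.UnivCatQuot45
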