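/-
helper6: the universal finite open of a quasi-finite, finitely presented morphism of affine schemes
(S1445).

* `zmt_global`, `exists_model`: ring-level Zariski main theorem packaged as a "model":
  a finite free `A`-algebra `F`, finitely many relations `k j` and elements `r l`, and
  `ψ : F → B` such that `Spec B → Spec (F ⧸ (k))` is an open immersion with image `⋃ D(r l)`.
* `isOpenImmersion_of_elem`: elementary local-isomorphism data gives an open immersion of spectra.
* `Au`, `xu`, `chi`: the finitely presented algebra parametrizing solutions of the idempotent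
  equation, its universal solution and the classifying map.
* `finite_of_idem`, `exists_idem_of_finite`: opens finite over the base ↔ idempotents.
* `core`: ring-level universal property; `main_Q`: version for arbitrary pullback squares;
  `main`: the statement of S1445.
-/
import Mathlib

set_option autoImplicit false
set_option linter.style.haveILetI false
universe u

namespace Groth.Agent.Lib.UnivFinOpen6

section Part1
open scoped TensorProduct

/-- Global ring-level ZMT data in elementary form. -/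
theorem zmt_global (A B : Type u) [CommRing A] [CommRing B] [Algebra A B]
    [Algebra.FiniteType A B] [Algebra.QuasiFinite A B] :
    ∃ (S' : Subalgebra A B), S'.toSubmodule.FG ∧ ∃ (m : ℕ) (r : Fin m → B),
      (∀ l, r l ∈ S') ∧ Ideal.span (Set.range r) = ⊤ ∧
      ∀ l (b : B), ∃ n : ℕ, r l ^ n * b ∈ S' := by
  classical
  -- local data
  have hloc : ∀ q : PrimeSpectrum B, ∃ r : B, r ∉ q.asIdeal ∧ IsIntegral A r ∧
      ∀ x : B, ∃ n : ℕ, IsIntegral A (r ^ n * x) := by
    intro q
    have := Algebra.ZariskisMainProperty.of_finiteType (R := A) q.asIdeal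
    exact Algebra.zariskisMainProperty_iff.mp this
  choose rq hrq hint hpow using hloc
  -- the rq generate the unit ideal
  have htop : Ideal.span (Set.range rq) = ⊤ := by
    by_contra hne
    obtain ⟨M, hM, hle⟩ := Ideal.exists_le_maximal _ hne
    exact hrq ⟨M, hM.isPrime⟩ (hle (Ideal.subset_span ⟨⟨M, hM.isPrime⟩, rfl⟩))
  have h1 : (1 : B) ∈ Ideal.span (Set.range rq) := by rw [htop]; trivial
  obtain ⟨T, hT, h1T⟩ := Submodule.mem_span_finite_of_mem_span h1
  -- algebra generators
  obtain ⟨gens, hgens⟩ := (Algebra.FiniteType.out : (⊤ : Subalgebra A B).FG)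
  -- for each r ∈ T the local data
  have hT' : ∀ r ∈ T, IsIntegral A r ∧ ∀ x : B, ∃ n : ℕ, IsIntegral A (r ^ n * x) := by
    intro r hr
    obtain ⟨q, rfl⟩ := hT hr
    exact ⟨hint q, hpow q⟩
  have hexp : ∀ (r x : B), ∃ n : ℕ, r ∈ T → IsIntegral A (r ^ n * x) := by
    intro r x
    by_cases hr : r ∈ T
    · obtain ⟨n, hn⟩ := (hT' r hr).2 x
      exact ⟨n, fun _ => hn⟩
    · exact ⟨0, fun h => absurd h hr⟩
  choose e he using hexp
  let W : Set B := (T : Set B) ∪
    ⋃ r ∈ T, (fun b => r ^ (e r b) * b) '' (gens : Set B)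
  have hWfin : W.Finite := by
    refine T.finite_toSet.union ?_
    exact T.finite_toSet.biUnion fun r _ => gens.finite_toSet.image _
  have hWint : ∀ x ∈ W, IsIntegral A x := by
    rintro x (hx | hx)
    · exact (hT' x hx).1
    · simp only [Set.mem_iUnion] at hx
      obtain ⟨r, hr, b, hb, rfl⟩ := hx
      exact he r b hr
  refine ⟨Algebra.adjoin A W, fg_adjoin_of_finite hWfin hWint, T.card,
    fun i => (T.equivFin.symm i : B), ?_, ?_, ?_⟩
  · intro l
    exact Algebra.subset_adjoin (Or.inl (T.equivFin.symm l).2)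
  · have : Set.range (fun i => ((T.equivFin.symm i : T) : B)) = (T : Set B) := by
      ext x
      constructor
      · rintro ⟨i, rfl⟩; exact (T.equivFin.symm i).2
      · intro hx; exact ⟨T.equivFin ⟨x, hx⟩, by simp⟩
    rw [this]
    exact (Ideal.eq_top_iff_one _).mpr h1T
  · intro l b
    set r : B := (T.equivFin.symm l : B) with hr
    have hrT : r ∈ T := (T.equivFin.symm l).2
    have hrS : r ∈ Algebra.adjoin A W := Algebra.subset_adjoin (Or.inl hrT)
    have hb : b ∈ Algebra.adjoin A (gens : Set B) := by rw [hgens]; trivial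
    induction hb using Algebra.adjoin_induction with
    | mem x hx =>
      refine ⟨e r x, Algebra.subset_adjoin (Or.inr ?_)⟩
      simp only [Set.mem_iUnion]
      exact ⟨r, hrT, x, hx, rfl⟩
    | algebraMap a => exact ⟨0, by simpa using Subalgebra.algebraMap_mem _ a⟩
    | add x y _ _ hx hy =>
      obtain ⟨n1, h1⟩ := hx
      obtain ⟨n2, h2⟩ := hy
      refine ⟨n1 + n2, ?_⟩
      have : r ^ (n1 + n2) * (x + y) = r ^ n2 * (r ^ n1 * x) + r ^ n1 * (r ^ n2 * y) := by ring
      rw [this]
      exact Subalgebra.add_mem _ (Subalgebra.mul_mem _ (Subalgebra.pow_mem _ hrS _) h1)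
        (Subalgebra.mul_mem _ (Subalgebra.pow_mem _ hrS _) h2)
    | mul x y _ _ hx hy =>
      obtain ⟨n1, h1⟩ := hx
      obtain ⟨n2, h2⟩ := hy
      refine ⟨n1 + n2, ?_⟩
      have : r ^ (n1 + n2) * (x * y) = (r ^ n1 * x) * (r ^ n2 * y) := by ring
      rw [this]
      exact Subalgebra.mul_mem _ h1 h2

end Part1

section Part2
open scoped TensorProduct

/-- Finite set of kernel elements generating the kernel after inverting `ρ`. -/
theorem exists_finset_ker {A B F : Type u} [CommRing A] [CommRing B] [CommRing F]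
    [Algebra A B] [Algebra A F] [Algebra.FinitePresentation A F] [Algebra.FinitePresentation A B]
    (ψ : F →ₐ[A] B) (ρ : F) (hsurj : ∀ b : B, ∃ (c : F) (n : ℕ), ψ c = ψ ρ ^ n * b) :
    ∃ T : Finset F, (∀ t ∈ T, ψ t = 0) ∧
      ∀ c : F, ψ c = 0 → ∃ n : ℕ, ρ ^ n * c ∈ Ideal.span (T : Set F) := by
  classical
  let g : Localization.Away ρ →ₐ[A] Localization.Away (ψ ρ) := Localization.awayMapₐ ψ ρ
  have hg : Function.Surjective g := by
    have : Function.Surjective (Localization.awayMap ψ.toRingHom ρ) :=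
      Localization.awayMap_surjective_iff.mpr hsurj
    exact this
  have hK : (RingHom.ker g.toRingHom).FG := Algebra.FinitePresentation.ker_fG_of_surjective g hg
  let 𝔎 : Ideal F := RingHom.ker ψ.toRingHom
  have hgalg : ∀ c : F, g (algebraMap F (Localization.Away ρ) c) =
      algebraMap B (Localization.Away (ψ ρ)) (ψ c) := by
    intro c
    change IsLocalization.Away.mapₐ _ _ ψ ρ _ = _
    rw [IsLocalization.Away.mapₐ_apply]
    exact IsLocalization.map_eq (M := Submonoid.powers ρ) (T := Submonoid.powers (ψ ρ))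
      (Q := Localization.Away (ψ ρ)) _ c
  have hKeq : RingHom.ker g.toRingHom = Ideal.map (algebraMap F (Localization.Away ρ)) 𝔎 := by
    apply le_antisymm
    · intro x hx
      obtain ⟨c, ⟨_, n, rfl⟩, rfl⟩ := IsLocalization.exists_mk'_eq (Submonoid.powers ρ) x
      rw [IsLocalization.mk'_mem_map_algebraMap_iff]
      have h0 : g (IsLocalization.mk' (Localization.Away ρ) c
          (⟨ρ ^ n, n, rfl⟩ : Submonoid.powers ρ)) = 0 := hx
      have h1 : algebraMap B (Localization.Away (ψ ρ)) (ψ c) = 0 := by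
        rw [← hgalg]
        have := IsLocalization.mk'_spec (Localization.Away ρ) c
          (⟨ρ ^ n, n, rfl⟩ : Submonoid.powers ρ)
        rw [← this, map_mul, h0, zero_mul]
      obtain ⟨⟨_, N, rfl⟩, hN⟩ := (IsLocalization.map_eq_zero_iff (Submonoid.powers (ψ ρ))
        (Localization.Away (ψ ρ)) (ψ c)).mp h1
      refine ⟨ρ ^ N, ⟨N, rfl⟩, ?_⟩
      change ψ (ρ ^ N * c) = 0
      rw [map_mul, map_pow]
      exact hN
    · rw [Ideal.map_le_iff_le_comap]
      intro c hc
      change g (algebraMap F _ c) = 0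
      rw [hgalg]
      have : ψ c = 0 := hc
      rw [this, map_zero]
  rw [hKeq, Ideal.map] at hK
  obtain ⟨s', hs's, hss'⟩ := (Submodule.fg_span_iff_fg_span_finset_subset _).mp hK
  obtain ⟨T, hT𝔎, rfl⟩ := Finset.subset_set_image_iff.mp hs's
  refine ⟨T, fun t ht => hT𝔎 ht, fun c hc => ?_⟩
  have hc' : algebraMap F (Localization.Away ρ) c ∈
      Ideal.map (algebraMap F (Localization.Away ρ)) (Ideal.span (T : Set F)) := by
    rw [Ideal.map_span]
    have : algebraMap F (Localization.Away ρ) c ∈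
        Ideal.span (⇑(algebraMap F (Localization.Away ρ)) '' (𝔎 : Set F)) :=
      Ideal.mem_map_of_mem _ hc
    rw [Ideal.span, hss'] at this
    simpa using this
  obtain ⟨_, ⟨n, rfl⟩, hn⟩ := (IsLocalization.algebraMap_mem_map_algebraMap_iff
    (Submonoid.powers ρ) (Localization.Away ρ) _ c).mp hc'
  exact ⟨n, hn⟩

/-- The model data. -/
structure IsModel {A B F : Type u} [CommRing A] [CommRing B] [CommRing F] [Algebra A B]
    [Algebra A F] {s m : ℕ} (k : Fin s → F) (r : Fin m → F) (ψ : F →ₐ[A] B) : Prop where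
  hk : ∀ j, ψ (k j) = 0
  cover : Ideal.span (Set.range fun l => ψ (r l)) = ⊤
  surj : ∀ l (b : B), ∃ (c : F) (n : ℕ), ψ c = ψ (r l) ^ n * b
  inj : ∀ l (c : F), ψ c = 0 → ∃ n : ℕ, r l ^ n * c ∈ Ideal.span (Set.range k)

theorem exists_model (A B : Type u) [CommRing A] [CommRing B] [Algebra A B]
    [Algebra.FinitePresentation A B] [Algebra.QuasiFinite A B] :
    ∃ (F : Type u) (_ : CommRing F) (_ : Algebra A F) (_ : Module.Free A F)
      (_ : Module.Finite A F) (s m : ℕ) (k : Fin s → F) (r : Fin m → F) (ψ : F →ₐ[A] B),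
      IsModel k r ψ := by
  classical
  obtain ⟨S', hS', m, r₀, hr₀S, hr₀top, hr₀pow⟩ := zmt_global A B
  have : Module.Finite A S' := ⟨(Submodule.fg_top _).mpr hS'⟩
  obtain ⟨F, _, _, _, _, _, φ, hφ⟩ := Module.Finite.exists_free_surjective A S'
  let ψ : F →ₐ[A] B := S'.val.comp φ
  have hlift : ∀ l, ∃ ρ : F, φ ρ = ⟨r₀ l, hr₀S l⟩ := fun l => hφ _
  choose r hr using hlift
  have hψr : ∀ l, ψ (r l) = r₀ l := by
    intro l
    change (S'.val (φ (r l)) : B) = _
    rw [hr l]; rfl
  have hsurj : ∀ l (b : B), ∃ (c : F) (n : ℕ), ψ c = ψ (r l) ^ n * b := by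
    intro l b
    obtain ⟨n, hn⟩ := hr₀pow l b
    obtain ⟨c, hc⟩ := hφ ⟨_, hn⟩
    refine ⟨c, n, ?_⟩
    change (S'.val (φ c) : B) = _
    rw [hc, hψr]; rfl
  have hT : ∀ l, ∃ T : Finset F, (∀ t ∈ T, ψ t = 0) ∧
      ∀ c : F, ψ c = 0 → ∃ n : ℕ, r l ^ n * c ∈ Ideal.span (T : Set F) :=
    fun l => exists_finset_ker ψ (r l) (hsurj l)
  choose T hT0 hTpow using hT
  let TT : Finset F := Finset.univ.biUnion T
  refine ⟨F, inferInstance, inferInstance, inferInstance, inferInstance, TT.card, m,
    fun i => (TT.equivFin.symm i : F), r, ψ, ?_, ?_, hsurj, ?_⟩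
  · intro j
    have := (TT.equivFin.symm j).2
    obtain ⟨l, -, hl⟩ := Finset.mem_biUnion.mp this
    exact hT0 l _ hl
  · have : (fun l => ψ (r l)) = r₀ := funext hψr
    rw [this]; exact hr₀top
  · intro l c hc
    obtain ⟨n, hn⟩ := hTpow l c hc
    refine ⟨n, ?_⟩
    have hrange : Set.range (fun i => ((TT.equivFin.symm i : TT) : F)) = (TT : Set F) := by
      ext x
      constructor
      · rintro ⟨i, rfl⟩; exact (TT.equivFin.symm i).2
      · intro hx; exact ⟨TT.equivFin ⟨x, hx⟩, by simp⟩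
    rw [hrange]
    refine Ideal.span_mono ?_ hn
    intro x hx
    exact Finset.mem_biUnion.mpr ⟨l, Finset.mem_univ _, hx⟩

end Part2

section Part3
open AlgebraicGeometry CategoryTheory Limits

/-- Part B: elementary local-iso data ⟹ open immersion with explicit range. -/
theorem isOpenImmersion_of_elem {C B : Type u} [CommRing C] [CommRing B] (φ : C →+* B) {m : ℕ}
    (r : Fin m → C)
    (hinj : ∀ l (c : C), φ c = 0 → ∃ n : ℕ, r l ^ n * c = 0)
    (hsurj : ∀ l (b : B), ∃ (c : C) (n : ℕ), φ c = φ (r l) ^ n * b)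
    (hcover : Ideal.span (Set.range fun l => φ (r l)) = ⊤) :
    IsOpenImmersion (Spec.map (CommRingCat.ofHom φ)) ∧
    Set.range (Spec.map (CommRingCat.ofHom φ)) =
      ⋃ l, (PrimeSpectrum.basicOpen (r l) : Set (PrimeSpectrum C)) := by
  have hbij : ∀ l, Function.Bijective (Localization.awayMap φ (r l)) := fun l =>
    ⟨Localization.awayMap_injective_iff.mpr (hinj l),
     Localization.awayMap_surjective_iff.mpr (hsurj l)⟩
  -- notation
  let j := Spec.map (CommRingCat.ofHom φ)
  let i : ∀ l, Spec (CommRingCat.of (Localization.Away (φ (r l)))) ⟶ Spec (CommRingCat.of B) :=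
    fun l => Spec.map (CommRingCat.ofHom (algebraMap B (Localization.Away (φ (r l)))))
  let i' : ∀ l, Spec (CommRingCat.of (Localization.Away (r l))) ⟶ Spec (CommRingCat.of C) :=
    fun l => Spec.map (CommRingCat.ofHom (algebraMap C (Localization.Away (r l))))
  let a : ∀ l, Spec (CommRingCat.of (Localization.Away (φ (r l)))) ⟶
      Spec (CommRingCat.of (Localization.Away (r l))) :=
    fun l => Spec.map (CommRingCat.ofHom (Localization.awayMap φ (r l)))
  have hi : ∀ l, IsOpenImmersion (i l) := fun l => IsOpenImmersion.of_isLocalization (φ (r l))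
  have hi' : ∀ l, IsOpenImmersion (i' l) := fun l => IsOpenImmersion.of_isLocalization (r l)
  have ha : ∀ l, IsIso (a l) := by
    intro l
    have : IsIso (CommRingCat.ofHom (Localization.awayMap φ (r l))) :=
      (ConcreteCategory.isIso_iff_bijective _).mpr (hbij l)
    infer_instance
  have hsq : ∀ l, i l ≫ j = a l ≫ i' l := by
    intro l
    simp only [i, j, a, i', ← Spec.map_comp, ← CommRingCat.ofHom_comp]
    congr 2
    exact (IsLocalization.map_comp _).symm
  have hij : ∀ l, IsOpenImmersion (i l ≫ j) := by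
    intro l; rw [hsq l]; infer_instance
  have hri : ∀ l, Set.range (i l) = (PrimeSpectrum.basicOpen (φ (r l)) : Set (PrimeSpectrum B)) :=
    fun l => PrimeSpectrum.localization_away_comap_range _ _
  have hri' : ∀ l, Set.range (i' l) = (PrimeSpectrum.basicOpen (r l) : Set (PrimeSpectrum C)) :=
    fun l => PrimeSpectrum.localization_away_comap_range _ _
  have hex : ∀ x : Spec (CommRingCat.of B), ∃ l, φ (r l) ∉ x.asIdeal := by
    intro x
    by_contra hcon
    push Not at hcon
    have : Ideal.span (Set.range fun l => φ (r l)) ≤ x.asIdeal := by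
      rw [Ideal.span_le]; rintro _ ⟨l, rfl⟩; exact hcon l
    rw [hcover] at this
    exact x.isPrime.ne_top (top_le_iff.mp this)
  have hjmem : ∀ (x : Spec (CommRingCat.of B)) (c : C), c ∈ (j x).asIdeal ↔ φ c ∈ x.asIdeal := by
    intro x c; rfl
  have hinjective : Function.Injective j := by
    intro x y hxy
    obtain ⟨l, hl⟩ := hex x
    have hly : φ (r l) ∉ y.asIdeal := by
      rw [← hjmem, ← hxy, hjmem]; exact hl
    have hx : x ∈ Set.range (i l) := by rw [hri]; exact hl
    have hy : y ∈ Set.range (i l) := by rw [hri]; exact hly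
    obtain ⟨x', rfl⟩ := hx
    obtain ⟨y', rfl⟩ := hy
    have : (i l ≫ j) x' = (i l ≫ j) y' := by
      simpa using hxy
    have hinj' : Function.Injective (i l ≫ j) := by
      have := hij l
      exact (i l ≫ j).isOpenEmbedding.injective
    rw [hinj' this]
  refine ⟨IsOpenImmersion.of_forall_source_exists j hinjective ?_, ?_⟩
  · intro x
    obtain ⟨l, hl⟩ := hex x
    refine ⟨_, i l, hi l, ?_, hij l⟩
    change x ∈ Set.range (i l)
    rw [hri]; exact hl
  · apply Set.Subset.antisymm
    · rintro _ ⟨x, rfl⟩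
      obtain ⟨l, hl⟩ := hex x
      refine Set.mem_iUnion.mpr ⟨l, ?_⟩
      change r l ∉ (j x).asIdeal
      rw [hjmem]; exact hl
    · intro p hp
      obtain ⟨l, hl⟩ := Set.mem_iUnion.mp hp
      rw [← hri' l] at hl
      obtain ⟨p', rfl⟩ := hl
      have hsurj' : Function.Surjective (a l) := by
        have : IsIso (a l) := ha l
        exact (a l).homeomorph.surjective
      obtain ⟨p'', rfl⟩ := hsurj' p'
      refine ⟨i l p'', ?_⟩
      have := congrArg (fun f => f p'') (hsq l)
      simpa using this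

end Part3

section Part4
open AlgebraicGeometry CategoryTheory Limits TensorProduct

section Dict

variable (A B : Type u) [CommRing A] [CommRing B] [Algebra A B]

/-- the morphism of spectra of an algebra -/
noncomputable def sm : Spec (CommRingCat.of B) ⟶ Spec (CommRingCat.of A) :=
  Spec.map (CommRingCat.ofHom (algebraMap A B))

instance sm_lfp [Algebra.FinitePresentation A B] : LocallyOfFinitePresentation (sm A B) :=
  (HasRingHomProperty.Spec_iff (P := @LocallyOfFinitePresentation)).mpr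
    (RingHom.finitePresentation_algebraMap.mpr inferInstance)

instance sm_sep : IsSeparated (sm A B) := by
  unfold sm; infer_instance

instance sm_affine : IsAffineHom (sm A B) := by
  unfold sm; infer_instance

instance sm_finite [Module.Finite A B] : IsFinite (sm A B) :=
  (IsFinite.SpecMap_iff _).mpr (RingHom.finite_algebraMap.mpr inferInstance)

variable (R : Type u) [CommRing R] [Algebra A R]

theorem isPullback_sm :
    IsPullback (Spec.map (CommRingCat.ofHom
        (Algebra.TensorProduct.includeRight : B →ₐ[A] R ⊗[A] B).toRingHom))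
      (sm R (R ⊗[A] B)) (sm A B) (sm A R) := by
  have h := (isPullback_SpecMap_of_isPushout _ _ _ _ (CommRingCat.isPushout_tensorProduct A R B)).flip
  exact h

end Dict

theorem range_fst_of_isPullback {P X Y S : Scheme.{u}} {fst : P ⟶ X} {snd : P ⟶ Y} {f : X ⟶ S}
    {g : Y ⟶ S} (H : IsPullback fst snd f g) : Set.range fst = f ⁻¹' Set.range g := by
  rw [← Scheme.Pullback.range_fst, ← H.isoPullback_hom_fst]
  rw [Scheme.Hom.comp_base, TopCat.coe_comp, Set.range_comp]
  have : Function.Surjective H.isoPullback.hom := H.isoPullback.hom.homeomorph.surjective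
  rw [Set.range_eq_univ.mpr this, Set.image_univ]

section BC

variable {A C B : Type u} [CommRing A] [CommRing C] [CommRing B] [Algebra A C] [Algebra A B]
  (φ : C →ₐ[A] B) (R : Type u) [CommRing R] [Algebra A R]

/-- base change of an algebra map -/
noncomputable abbrev bc : R ⊗[A] C →ₐ[R] R ⊗[A] B := Algebra.TensorProduct.map (AlgHom.id R R) φ

theorem bc_comp_sm :
    Spec.map (CommRingCat.ofHom (bc φ R).toRingHom) ≫ sm R (R ⊗[A] C) = sm R (R ⊗[A] B) := by
  unfold sm
  rw [← Spec.map_comp, ← CommRingCat.ofHom_comp]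
  congr 2
  exact (bc φ R).comp_algebraMap

theorem comp_sm : Spec.map (CommRingCat.ofHom φ.toRingHom) ≫ sm A C = sm A B := by
  unfold sm
  rw [← Spec.map_comp, ← CommRingCat.ofHom_comp]
  congr 2
  exact φ.comp_algebraMap

theorem isPullback_bc :
    IsPullback (Spec.map (CommRingCat.ofHom (bc φ R).toRingHom))
      (Spec.map (CommRingCat.ofHom
        (Algebra.TensorProduct.includeRight : B →ₐ[A] R ⊗[A] B).toRingHom))
      (Spec.map (CommRingCat.ofHom
        (Algebra.TensorProduct.includeRight : C →ₐ[A] R ⊗[A] C).toRingHom))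
      (Spec.map (CommRingCat.ofHom φ.toRingHom)) := by
  refine IsPullback.of_right (h₁₂ := sm R (R ⊗[A] C)) (h₂₂ := sm A C) (v₁₃ := sm A R) ?_ ?_
    (isPullback_sm A C R).flip
  · rw [bc_comp_sm, comp_sm]
    exact (isPullback_sm A B R).flip
  · rw [← Spec.map_comp, ← Spec.map_comp, ← CommRingCat.ofHom_comp, ← CommRingCat.ofHom_comp]
    congr 2

theorem isOpenImmersion_bc [IsOpenImmersion (Spec.map (CommRingCat.ofHom φ.toRingHom))] :
    IsOpenImmersion (Spec.map (CommRingCat.ofHom (bc φ R).toRingHom)) :=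
  MorphismProperty.of_isPullback (P := @IsOpenImmersion) (isPullback_bc φ R).flip inferInstance

theorem range_bc :
    Set.range (Spec.map (CommRingCat.ofHom (bc φ R).toRingHom)) =
      (Spec.map (CommRingCat.ofHom
        (Algebra.TensorProduct.includeRight : C →ₐ[A] R ⊗[A] C).toRingHom)) ⁻¹'
        Set.range (Spec.map (CommRingCat.ofHom φ.toRingHom)) :=
  range_fst_of_isPullback (isPullback_bc φ R)

end BC

end Part4

section Part5
open TensorProduct Module

section ParamAlg

variable {A F : Type u} [CommRing A] [CommRing F] [Algebra A F] [Module.Free A F]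
  [Module.Finite A F] {s m : ℕ} (k : Fin s → F) (r : Fin m → F)

variable (A F) in
/-- index of the chosen basis -/
abbrev κ := Module.Free.ChooseBasisIndex A F

variable (A F) in
/-- the chosen basis -/
noncomputable def bas : Basis (κ A F) A F := Module.Free.chooseBasis A F

/-- variables -/
abbrev Var (s m : ℕ) := Fin m ⊕ Fin s

variable (A F s m) in
/-- polynomial ring of coordinates -/
abbrev Qp := MvPolynomial (Var s m × κ A F) A

/-- the equation: `z² - z - ∑ y_j k_j` with `z = ∑ x_l r_l`. -/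
noncomputable def Eqn (R : Type u) [CommRing R] [Algebra A R] (x : Var s m → R ⊗[A] F) :
    R ⊗[A] F :=
  (∑ l, x (.inl l) * (1 ⊗ₜ[A] r l)) ^ 2 - ∑ l, x (.inl l) * (1 ⊗ₜ[A] r l)
    - ∑ j, x (.inr j) * (1 ⊗ₜ[A] k j)

theorem Eqn_map {R R' : Type u} [CommRing R] [CommRing R'] [Algebra A R] [Algebra A R']
    (χ : R →ₐ[A] R') (x : Var s m → R ⊗[A] F) :
    Algebra.TensorProduct.map χ (AlgHom.id A F) (Eqn k r R x) =
      Eqn k r R' (fun t => Algebra.TensorProduct.map χ (AlgHom.id A F) (x t)) := by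
  simp only [Eqn, map_sub, map_pow, map_sum, map_mul, Algebra.TensorProduct.map_tmul, map_one,
    AlgHom.coe_id, id_eq]

/-- coordinates w.r.t. the base-changed basis -/
noncomputable def coord (R : Type u) [CommRing R] [Algebra A R] (z : R ⊗[A] F) (α : κ A F) : R :=
  ((bas A F).baseChange R).repr z α

theorem coord_tmul (R : Type u) [CommRing R] [Algebra A R] (ρ : R) (f : F) (α : κ A F) :
    coord R (ρ ⊗ₜ[A] f) α = (bas A F).repr f α • ρ := by
  simp [coord]

theorem coord_add (R : Type u) [CommRing R] [Algebra A R] (z w : R ⊗[A] F) (α : κ A F) :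
    coord R (z + w) α = coord R z α + coord R w α := by
  simp [coord]

theorem coord_zero (R : Type u) [CommRing R] [Algebra A R] (α : κ A F) :
    coord R (0 : R ⊗[A] F) α = 0 := by
  simp [coord]

theorem coord_map {R R' : Type u} [CommRing R] [CommRing R'] [Algebra A R] [Algebra A R']
    (χ : R →ₐ[A] R') (z : R ⊗[A] F) (α : κ A F) :
    coord R' (Algebra.TensorProduct.map χ (AlgHom.id A F) z) α = χ (coord R z α) := by
  induction z using TensorProduct.induction_on with
  | zero => simp [coord_zero]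
  | tmul ρ f =>
    rw [Algebra.TensorProduct.map_tmul, coord_tmul, coord_tmul]
    simp
  | add z w hz hw => rw [map_add, coord_add, coord_add, hz, hw, map_add]

theorem sum_coord (R : Type u) [CommRing R] [Algebra A R] (z : R ⊗[A] F) :
    ∑ α, coord R z α ⊗ₜ[A] (bas A F) α = z := by
  have h := ((bas A F).baseChange R).sum_repr z
  conv_rhs => rw [← h]
  refine Finset.sum_congr rfl fun α _ => ?_
  rw [Basis.baseChange_apply, TensorProduct.smul_tmul', smul_eq_mul, mul_one]
  rfl

theorem eq_zero_of_coord (R : Type u) [CommRing R] [Algebra A R] (z : R ⊗[A] F)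
    (h : ∀ α, coord R z α = 0) : z = 0 := by
  rw [← sum_coord R z]
  simp [h]

/-- the generic point -/
noncomputable def gen (t : Var s m) : Qp A F s m ⊗[A] F :=
  ∑ α, (MvPolynomial.X (t, α) : Qp A F s m) ⊗ₜ[A] (bas A F) α

variable (A) in
/-- the ideal of equations -/
noncomputable def eqI : Ideal (Qp A F s m) :=
  Ideal.span (Set.range fun α => coord (Qp A F s m) (Eqn k r (Qp A F s m) gen) α)

variable (A) in
/-- the universal algebra -/
abbrev Au := Qp A F s m ⧸ eqI A k r

instance : Algebra.FinitePresentation A (Au A k r) := by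
  apply Algebra.FinitePresentation.quotient
  refine ⟨(Set.finite_range fun α =>
    coord (Qp A F s m) (Eqn k r (Qp A F s m) gen) α).toFinset, ?_⟩
  rw [Set.Finite.coe_toFinset]
  rfl

variable (A) in
/-- the universal solution -/
noncomputable def xu (t : Var s m) : Au A k r ⊗[A] F :=
  Algebra.TensorProduct.map (Ideal.Quotient.mkₐ A (eqI A k r)) (AlgHom.id A F) (gen t)

theorem Eqn_xu : Eqn k r (Au A k r) (xu A k r) = 0 := by
  have h := Eqn_map k r (Ideal.Quotient.mkₐ A (eqI A k r)) gen
  change _ = Eqn k r (Au A k r) (xu A k r) at h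
  rw [← h]
  apply eq_zero_of_coord
  intro α
  rw [coord_map]
  rw [Ideal.Quotient.mkₐ_eq_mk]
  exact Ideal.Quotient.eq_zero_iff_mem.mpr (Ideal.subset_span ⟨α, rfl⟩)

variable (R : Type u) [CommRing R] [Algebra A R] (x : Var s m → R ⊗[A] F)

/-- classifying map on the polynomial ring -/
noncomputable def chi0 : Qp A F s m →ₐ[A] R :=
  MvPolynomial.aeval fun p : Var s m × κ A F => coord R (x p.1) p.2

theorem chi0_gen (t : Var s m) :
    Algebra.TensorProduct.map (chi0 R x) (AlgHom.id A F) (gen t) = x t := by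
  rw [gen, map_sum]
  simp only [Algebra.TensorProduct.map_tmul, AlgHom.coe_id, id_eq, chi0, MvPolynomial.aeval_X]
  exact sum_coord R (x t)

theorem chi0_mem (hx : Eqn k r R x = 0) (a : Qp A F s m) (ha : a ∈ eqI A k r) :
    chi0 R x a = 0 := by
  have hle : eqI A k r ≤ RingHom.ker (chi0 R x).toRingHom := by
    rw [eqI, Ideal.span_le]
    rintro _ ⟨α, rfl⟩
    change chi0 R x _ = 0
    rw [← coord_map, Eqn_map]
    have : (fun t => Algebra.TensorProduct.map (chi0 R x) (AlgHom.id A F) (gen t)) = x :=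
      funext (chi0_gen R x)
    rw [this, hx, coord_zero]
  exact hle ha

/-- classifying map -/
noncomputable def chi (hx : Eqn k r R x = 0) : Au A k r →ₐ[A] R :=
  Ideal.Quotient.liftₐ (eqI A k r) (chi0 R x) (chi0_mem k r R x hx)

theorem chi_xu (hx : Eqn k r R x = 0) (t : Var s m) :
    Algebra.TensorProduct.map (chi k r R x hx) (AlgHom.id A F) (xu A k r t) = x t := by
  rw [← chi0_gen R x t, xu]
  have : (chi k r R x hx).comp (Ideal.Quotient.mkₐ A (eqI A k r)) = chi0 R x := by
    ext a
    change Ideal.Quotient.lift (eqI A k r) (chi0 R x).toRingHom (chi0_mem k r R x hx)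
      (Ideal.Quotient.mk (eqI A k r) (MvPolynomial.X a)) = _
    rw [Ideal.Quotient.lift_mk]
    rfl
  rw [← this]
  generalize (gen t : Qp A F s m ⊗[A] F) = z
  induction z using TensorProduct.induction_on with
  | zero => simp
  | tmul ρ f => simp
  | add z w hz hw => simp only [map_add, hz, hw]

end ParamAlg

end Part5

section Part6
open AlgebraicGeometry CategoryTheory Limits TensorProduct

/-- basic open of `Spec` -/
def D {T : Type u} [CommRing T] (t : T) : (Spec (CommRingCat.of T)).Opens :=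
  PrimeSpectrum.basicOpen t

theorem mem_D {T : Type u} [CommRing T] (t : T) (x : ↥(Spec (CommRingCat.of T))) :
    x ∈ D t ↔ t ∉ x.asIdeal := Iff.rfl

theorem preimage_D {T T' : Type u} [CommRing T] [CommRing T'] (φ : T →+* T') (t : T) :
    (Spec.map (CommRingCat.ofHom φ)) ⁻¹ᵁ D t = D (φ t) := by
  ext x
  rfl

theorem isClosed_D_of_idem {T : Type u} [CommRing T] (e : T) (he : IsIdempotentElem e) :
    IsClosed ((D e : (Spec (CommRingCat.of T)).Opens) : Set ↥(Spec (CommRingCat.of T))) :=
  (PrimeSpectrum.isClopen_iff.mpr ⟨e, he, rfl⟩).1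

theorem mem_span_of_D_subset {T : Type u} [CommRing T] {m : ℕ} (ρ : Fin m → T) (e : T)
    (he : IsIdempotentElem e)
    (h : ((D e : (Spec (CommRingCat.of T)).Opens) : Set ↥(Spec (CommRingCat.of T))) ⊆
      ⋃ l, ((D (ρ l) : (Spec (CommRingCat.of T)).Opens) : Set ↥(Spec (CommRingCat.of T)))) :
    e ∈ Ideal.span (Set.range ρ) := by
  have hrad : e ∈ (Ideal.span (Set.range ρ)).radical := by
    rw [← PrimeSpectrum.vanishingIdeal_zeroLocus_eq_radical, PrimeSpectrum.mem_vanishingIdeal]
    intro p hp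
    by_contra hep
    have hpD : p ∈ ((D e : (Spec (CommRingCat.of T)).Opens) : Set ↥(Spec (CommRingCat.of T))) := hep
    obtain ⟨l, hl⟩ := Set.mem_iUnion.mp (h hpD)
    apply hl
    rw [PrimeSpectrum.mem_zeroLocus] at hp
    exact hp (Ideal.subset_span ⟨l, rfl⟩)
  obtain ⟨n, hn⟩ := hrad
  rcases n with _ | n
  · rw [pow_zero] at hn
    rw [(Ideal.eq_top_iff_one _).mpr hn]; trivial
  · rwa [he.pow_succ_eq] at hn

theorem D_subset_of_mem_span {T : Type u} [CommRing T] {m : ℕ} (ρ : Fin m → T) (e : T)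
    (h : e ∈ Ideal.span (Set.range ρ)) :
    ((D e : (Spec (CommRingCat.of T)).Opens) : Set ↥(Spec (CommRingCat.of T))) ⊆
      ⋃ l, ((D (ρ l) : (Spec (CommRingCat.of T)).Opens) : Set ↥(Spec (CommRingCat.of T))) := by
  intro p hp
  by_contra hcon
  apply hp
  have hle : Ideal.span (Set.range ρ) ≤ p.asIdeal := by
    rw [Ideal.span_le]
    rintro _ ⟨l, rfl⟩
    by_contra hl
    exact hcon (Set.mem_iUnion.mpr ⟨l, hl⟩)
  exact hle h

section Geom

variable {R CR TB : Type u} [CommRing R] [CommRing CR] [CommRing TB] [Algebra R CR] [Algebra R TB]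
  (φ : CR →ₐ[R] TB)

theorem finite_of_idem [Module.Finite R CR]
    [IsOpenImmersion (Spec.map (CommRingCat.ofHom φ.toRingHom))]
    (e : CR) (he : IsIdempotentElem e)
    (hsub : ((D e : (Spec (CommRingCat.of CR)).Opens) : Set ↥(Spec (CommRingCat.of CR))) ⊆
      Set.range (Spec.map (CommRingCat.ofHom φ.toRingHom))) :
    IsFinite ((D (φ e)).ι ≫ sm R TB) := by
  set j := Spec.map (CommRingCat.ofHom φ.toRingHom) with hj
  set W : (Spec (CommRingCat.of CR)).Opens := D e with hW
  have hW' : j ⁻¹ᵁ W = D (φ e) := preimage_D φ.toRingHom e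
  rw [← hW']
  have hcomp : j ≫ sm R CR = sm R TB := comp_sm φ
  have heq : (j ⁻¹ᵁ W).ι ≫ sm R TB = (j ∣_ W) ≫ W.ι ≫ sm R CR := by
    rw [← hcomp, ← Category.assoc, ← morphismRestrict_ι, Category.assoc]
  rw [heq]
  have hiso : IsIso (j ∣_ W) := by
    apply isIso_of_isOpenImmersion_of_opensRange_eq_top
    rw [eq_top_iff]
    rintro w -
    obtain ⟨y, hy⟩ := hsub w.2
    have hyW : y ∈ j ⁻¹ᵁ W := by
      change j y ∈ W
      rw [hy]; exact w.2
    refine ⟨⟨y, hyW⟩, ?_⟩
    apply Subtype.ext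
    rw [← hy]
    exact morphismRestrict_base_coe j W ⟨y, hyW⟩
  have hcl : IsClosedImmersion W.ι := by
    apply IsClosedImmersion.of_isPreimmersion
    rw [Scheme.Opens.range_ι]
    exact isClosed_D_of_idem e he
  infer_instance

theorem exists_idem_of_finite [IsOpenImmersion (Spec.map (CommRingCat.ofHom φ.toRingHom))]
    (U' : (Spec (CommRingCat.of TB)).Opens) (hfin : IsFinite (U'.ι ≫ sm R TB)) :
    ∃ e : CR, IsIdempotentElem e ∧
      ((D e : (Spec (CommRingCat.of CR)).Opens) : Set ↥(Spec (CommRingCat.of CR))) ⊆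
        Set.range (Spec.map (CommRingCat.ofHom φ.toRingHom)) ∧
      U' = D (φ e) := by
  set j := Spec.map (CommRingCat.ofHom φ.toRingHom) with hj
  have hcomp : j ≫ sm R CR = sm R TB := comp_sm φ
  have hfin' : IsFinite ((U'.ι ≫ j) ≫ sm R CR) := by
    rw [Category.assoc, hcomp]; exact hfin
  have hg : IsFinite (U'.ι ≫ j) := IsFinite.of_comp (U'.ι ≫ j) (sm R CR)
  have hrange : Set.range (U'.ι ≫ j) = j '' (U' : Set ↥(Spec (CommRingCat.of TB))) := by
    rw [Scheme.Hom.comp_base, TopCat.coe_comp, Set.range_comp, Scheme.Opens.range_ι]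
  have hclosed : IsClosed (j '' (U' : Set ↥(Spec (CommRingCat.of TB)))) := by
    rw [← hrange]
    exact (U'.ι ≫ j).isClosedMap.isClosed_range
  have hopen : IsOpen (j '' (U' : Set ↥(Spec (CommRingCat.of TB)))) :=
    j.isOpenEmbedding.isOpenMap _ U'.2
  obtain ⟨e, he, hZ⟩ := PrimeSpectrum.isClopen_iff.mp
    (show IsClopen (j '' (U' : Set ↥(Spec (CommRingCat.of TB))) : Set (PrimeSpectrum CR)) from
      ⟨hclosed, hopen⟩)
  refine ⟨e, he, ?_, ?_⟩
  · change (PrimeSpectrum.basicOpen e : Set (PrimeSpectrum CR)) ⊆ _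
    rw [← hZ]
    exact Set.image_subset_range _ _
  · have hpre : j ⁻¹ᵁ D e = D (φ e) := preimage_D φ.toRingHom e
    rw [← hpre]
    apply TopologicalSpace.Opens.ext
    have h1 : ((j ⁻¹ᵁ D e : (Spec (CommRingCat.of TB)).Opens) :
        Set ↥(Spec (CommRingCat.of TB))) =
        j ⁻¹' (j '' (U' : Set ↥(Spec (CommRingCat.of TB)))) := by
      have hZ' : j '' (U' : Set ↥(Spec (CommRingCat.of TB))) =
          ((D e : (Spec (CommRingCat.of CR)).Opens) : Set ↥(Spec (CommRingCat.of CR))) := hZ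
      rw [hZ']; rfl
    rw [h1, Set.preimage_image_eq _ j.isOpenEmbedding.injective]

end Geom

end Part6

section Part7
open AlgebraicGeometry CategoryTheory Limits TensorProduct

section BCLemmas

variable {A C B : Type u} [CommRing A] [CommRing C] [CommRing B] [Algebra A C] [Algebra A B]
  (φ : C →ₐ[A] B) (R : Type u) [CommRing R] [Algebra A R]

theorem bc_tmul (ρ : R) (c : C) : bc φ R (ρ ⊗ₜ[A] c) = ρ ⊗ₜ[A] φ c := by
  simp [bc]

theorem bc_eq_map (z : R ⊗[A] C) :
    bc φ R z = Algebra.TensorProduct.map (AlgHom.id A R) φ z := by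
  induction z using TensorProduct.induction_on with
  | zero => simp
  | tmul ρ c => simp [bc]
  | add z w hz hw => simp only [map_add, hz, hw]

theorem bc_surjective (hφ : Function.Surjective φ) : Function.Surjective (bc φ R) := by
  intro z
  induction z using TensorProduct.induction_on with
  | zero => exact ⟨0, map_zero _⟩
  | tmul ρ b =>
    obtain ⟨c, rfl⟩ := hφ b
    exact ⟨ρ ⊗ₜ[A] c, bc_tmul φ R ρ c⟩
  | add z w hz hw =>
    obtain ⟨z', rfl⟩ := hz
    obtain ⟨w', rfl⟩ := hw
    exact ⟨z' + w', map_add _ _ _⟩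

theorem bc_comp {C' : Type u} [CommRing C'] [Algebra A C'] (φ' : C' →ₐ[A] C) (z : R ⊗[A] C') :
    bc φ R (bc φ' R z) = bc (φ.comp φ') R z := by
  induction z using TensorProduct.induction_on with
  | zero => simp
  | tmul ρ c => simp [bc]
  | add z w hz hw => simp only [map_add, hz, hw]

theorem map_bc {R' : Type u} [CommRing R'] [Algebra A R'] (χ : R →ₐ[A] R') (z : R ⊗[A] C) :
    Algebra.TensorProduct.map χ (AlgHom.id A B) (bc φ R z) =
      bc φ R' (Algebra.TensorProduct.map χ (AlgHom.id A C) z) := by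
  induction z using TensorProduct.induction_on with
  | zero => simp
  | tmul ρ c => simp [bc]
  | add z w hz hw => simp only [map_add, hz, hw]

theorem mem_ker_bc (hφ : Function.Surjective φ) (z : R ⊗[A] C) (hz : bc φ R z = 0) :
    z ∈ (RingHom.ker φ.toRingHom).map
      (Algebra.TensorProduct.includeRight : C →ₐ[A] R ⊗[A] C).toRingHom := by
  have h := Algebra.TensorProduct.lTensor_ker (A := R) (g := φ) hφ
  have hz' : z ∈ RingHom.ker (Algebra.TensorProduct.map (AlgHom.id A R) φ) := by
    rw [RingHom.mem_ker, ← bc_eq_map]; exact hz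
  rw [h] at hz'
  exact hz'

end BCLemmas

section Model

variable {A B F : Type u} [CommRing A] [CommRing B] [CommRing F] [Algebra A B] [Algebra A F]
  {s m : ℕ} {k : Fin s → F} {r : Fin m → F} {ψ : F →ₐ[A] B}

/-- the ideal of relations -/
abbrev kI (k : Fin s → F) : Ideal F := Ideal.span (Set.range k)

/-- the model quotient -/
abbrev Cq (k : Fin s → F) := F ⧸ kI k

variable (A) in
/-- quotient map -/
noncomputable def qm (k : Fin s → F) : F →ₐ[A] Cq k := Ideal.Quotient.mkₐ A (kI k)

theorem qm_surjective (k : Fin s → F) : Function.Surjective (qm A k) :=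
  Ideal.Quotient.mkₐ_surjective A _

theorem qm_k (k : Fin s → F) (j : Fin s) : qm A k (k j) = 0 :=
  Ideal.Quotient.eq_zero_iff_mem.mpr (Ideal.subset_span ⟨j, rfl⟩)

theorem ker_qm (k : Fin s → F) : RingHom.ker (qm A k).toRingHom = kI k :=
  Ideal.Quotient.mkₐ_ker A _

theorem psi_mem (hM : IsModel k r ψ) (a : F) (ha : a ∈ kI k) : ψ a = 0 := by
  have hle : kI k ≤ RingHom.ker ψ.toRingHom := by
    rw [Ideal.span_le]
    rintro _ ⟨j, rfl⟩
    exact hM.hk j
  exact hle ha

/-- induced map on the model quotient -/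
noncomputable def ψbar (hM : IsModel k r ψ) : Cq k →ₐ[A] B :=
  Ideal.Quotient.liftₐ (kI k) ψ (psi_mem hM)

theorem ψbar_qm (hM : IsModel k r ψ) (c : F) : ψbar hM (qm A k c) = ψ c := by
  change Ideal.Quotient.lift (kI k) ψ.toRingHom (psi_mem hM) (Ideal.Quotient.mk (kI k) c) = _
  rw [Ideal.Quotient.lift_mk]; rfl

theorem ψbar_comp_qm (hM : IsModel k r ψ) : (ψbar hM).comp (qm A k) = ψ :=
  AlgHom.ext (ψbar_qm hM)

theorem model_openImm (hM : IsModel k r ψ) :
    IsOpenImmersion (Spec.map (CommRingCat.ofHom (ψbar hM).toRingHom)) ∧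
    Set.range (Spec.map (CommRingCat.ofHom (ψbar hM).toRingHom)) =
      ⋃ l, ((D (qm A k (r l)) : (Spec (CommRingCat.of (Cq k))).Opens) :
        Set ↥(Spec (CommRingCat.of (Cq k)))) := by
  refine isOpenImmersion_of_elem (ψbar hM).toRingHom (fun l => qm A k (r l)) ?_ ?_ ?_
  · intro l c hc
    obtain ⟨c, rfl⟩ := qm_surjective (A := A) k c
    have hc' : ψ c = 0 := by rw [← ψbar_qm hM]; exact hc
    obtain ⟨n, hn⟩ := hM.inj l c hc'
    refine ⟨n, ?_⟩
    rw [← map_pow, ← map_mul]
    exact Ideal.Quotient.eq_zero_iff_mem.mpr hn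
  · intro l b
    obtain ⟨c, n, hc⟩ := hM.surj l b
    refine ⟨qm A k c, n, ?_⟩
    change ψbar hM (qm A k c) = ψbar hM (qm A k (r l)) ^ n * b
    rw [ψbar_qm, ψbar_qm, hc]
  · have : (fun l => (ψbar hM).toRingHom (qm A k (r l))) = fun l => ψ (r l) :=
      funext fun l => ψbar_qm hM (r l)
    rw [this]
    exact hM.cover

variable (R : Type u) [CommRing R] [Algebra A R]

theorem model_openImm_bc (hM : IsModel k r ψ) :
    IsOpenImmersion (Spec.map (CommRingCat.ofHom (bc (ψbar hM) R).toRingHom)) := by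
  have := (model_openImm hM).1
  exact isOpenImmersion_bc (ψbar hM) R

theorem model_range_bc (hM : IsModel k r ψ) :
    Set.range (Spec.map (CommRingCat.ofHom (bc (ψbar hM) R).toRingHom)) =
      ⋃ l, ((D ((1 : R) ⊗ₜ[A] qm A k (r l)) : (Spec (CommRingCat.of (R ⊗[A] Cq k))).Opens) :
        Set ↥(Spec (CommRingCat.of (R ⊗[A] Cq k)))) := by
  rw [range_bc, (model_openImm hM).2, Set.preimage_iUnion]
  refine Set.iUnion_congr fun l => ?_
  rfl

end Model

end Part7

section Part8
open AlgebraicGeometry CategoryTheory Limits TensorProduct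

section Core

variable {A B F : Type u} [CommRing A] [CommRing B] [CommRing F] [Algebra A B] [Algebra A F]
  {s m : ℕ} {k : Fin s → F} {r : Fin m → F} {ψ : F →ₐ[A] B}

/-- `z = ∑ x_l r_l` -/
noncomputable def zF (r : Fin m → F) (R : Type u) [CommRing R] [Algebra A R]
    (x : Var s m → R ⊗[A] F) : R ⊗[A] F :=
  ∑ l, x (.inl l) * (1 ⊗ₜ[A] r l)

theorem Eqn_eq (R : Type u) [CommRing R] [Algebra A R] (x : Var s m → R ⊗[A] F) :
    Eqn k r R x = zF r R x ^ 2 - zF r R x - ∑ j, x (.inr j) * (1 ⊗ₜ[A] k j) := rfl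

theorem zF_map {R R' : Type u} [CommRing R] [CommRing R'] [Algebra A R] [Algebra A R']
    (χ : R →ₐ[A] R') (x : Var s m → R ⊗[A] F) :
    Algebra.TensorProduct.map χ (AlgHom.id A F) (zF r R x) =
      zF r R' (fun t => Algebra.TensorProduct.map χ (AlgHom.id A F) (x t)) := by
  simp only [zF, map_sum, map_mul, Algebra.TensorProduct.map_tmul, map_one,
    AlgHom.coe_id, id_eq]

variable (R : Type u) [CommRing R] [Algebra A R]

theorem sol_idem (x : Var s m → R ⊗[A] F) (hx : Eqn k r R x = 0) :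
    IsIdempotentElem (bc (qm A k) R (zF r R x)) ∧
    bc (qm A k) R (zF r R x) ∈
      Ideal.span (Set.range fun l => (1 : R) ⊗ₜ[A] qm A k (r l)) := by
  constructor
  · rw [Eqn_eq, sub_eq_zero] at hx
    have h1 : bc (qm A k) R (zF r R x ^ 2 - zF r R x) = 0 := by
      rw [hx, map_sum]
      refine Finset.sum_eq_zero fun j _ => ?_
      rw [map_mul, bc_tmul, qm_k, tmul_zero, mul_zero]
    rw [map_sub, map_pow, sub_eq_zero, pow_two] at h1
    exact h1
  · rw [zF, map_sum]
    refine Ideal.sum_mem _ fun l _ => ?_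
    rw [map_mul, bc_tmul]
    exact Ideal.mul_mem_left _ _ (Ideal.subset_span ⟨l, rfl⟩)

theorem idem_sol (e : R ⊗[A] Cq k) (he : IsIdempotentElem e)
    (hspan : e ∈ Ideal.span (Set.range fun l => (1 : R) ⊗ₜ[A] qm A k (r l))) :
    ∃ x : Var s m → R ⊗[A] F, Eqn k r R x = 0 ∧ bc (qm A k) R (zF r R x) = e := by
  obtain ⟨c, hc⟩ := Ideal.mem_span_range_iff_exists_fun.mp hspan
  have hlift : ∀ l, ∃ xl : R ⊗[A] F, bc (qm A k) R xl = c l :=
    fun l => bc_surjective (qm A k) R (qm_surjective k) (c l)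
  choose xl hxl using hlift
  set z : R ⊗[A] F := ∑ l, xl l * (1 ⊗ₜ[A] r l) with hz
  have hqz : bc (qm A k) R z = e := by
    rw [hz, map_sum, ← hc]
    refine Finset.sum_congr rfl fun l _ => ?_
    rw [map_mul, bc_tmul, hxl]
  have hker : bc (qm A k) R (z ^ 2 - z) = 0 := by
    rw [map_sub, map_pow, hqz, pow_two, he.eq, sub_self]
  have hmem := mem_ker_bc (qm A k) R (qm_surjective k) _ hker
  rw [ker_qm, Ideal.map_span] at hmem
  have hrange : (⇑(Algebra.TensorProduct.includeRight : F →ₐ[A] R ⊗[A] F).toRingHom ''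
      Set.range k) = Set.range fun j => (1 : R) ⊗ₜ[A] k j := by
    rw [← Set.range_comp]; rfl
  rw [hrange] at hmem
  obtain ⟨y, hy⟩ := Ideal.mem_span_range_iff_exists_fun.mp hmem
  refine ⟨Sum.elim xl y, ?_, ?_⟩
  · rw [Eqn_eq]
    have hzF : zF r R (Sum.elim xl y) = z := rfl
    rw [hzF]
    simp only [Sum.elim_inr]
    rw [hy, sub_self]
  · exact hqz

end Core

section Main

variable {A B F : Type u} [CommRing A] [CommRing B] [CommRing F] [Algebra A B] [Algebra A F]
  [Module.Free A F] [Module.Finite A F]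
  {s m : ℕ} {k : Fin s → F} {r : Fin m → F} {ψ : F →ₐ[A] B}

theorem core_of_model (hM : IsModel k r ψ) :
    ∃ εu : Au A k r ⊗[A] B,
      IsFinite ((D εu).ι ≫ sm (Au A k r) (Au A k r ⊗[A] B)) ∧
      ∀ (R : Type u) [CommRing R] [Algebra A R] (U' : (Spec (CommRingCat.of (R ⊗[A] B))).Opens),
        IsFinite (U'.ι ≫ sm R (R ⊗[A] B)) →
        ∃ χ : Au A k r →ₐ[A] R,
          U' = D (Algebra.TensorProduct.map χ (AlgHom.id A B) εu) := by
  refine ⟨bc ψ (Au A k r) (zF r (Au A k r) (xu A k r)), ?_, ?_⟩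
  · obtain ⟨he, hspan⟩ := sol_idem (Au A k r) (xu A k r) (Eqn_xu k r)
    have hoi := model_openImm_bc (Au A k r) hM
    have hsub := D_subset_of_mem_span _ _ hspan
    rw [← model_range_bc (Au A k r) hM] at hsub
    have hfin := finite_of_idem (bc (ψbar hM) (Au A k r)) _ he hsub
    rw [bc_comp, ψbar_comp_qm] at hfin
    exact hfin
  · intro R _ _ U' hfin
    have hoi := model_openImm_bc R hM
    obtain ⟨e, he, hsub, hU'⟩ := exists_idem_of_finite (bc (ψbar hM) R) U' hfin
    rw [model_range_bc R hM] at hsub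
    have hspan := mem_span_of_D_subset _ e he hsub
    obtain ⟨x, hx, hxe⟩ := idem_sol R e he hspan
    refine ⟨chi k r R x hx, ?_⟩
    rw [hU', map_bc, zF_map]
    have : (fun t => Algebra.TensorProduct.map (chi k r R x hx) (AlgHom.id A F) (xu A k r t)) = x :=
      funext (chi_xu k r R x hx)
    rw [this, ← hxe, bc_comp, ψbar_comp_qm]

end Main

/-- **Ring-level core theorem.** -/
theorem core (A B : Type u) [CommRing A] [CommRing B] [Algebra A B]
    [Algebra.FinitePresentation A B] [Algebra.QuasiFinite A B] :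
    ∃ (Au : Type u) (_ : CommRing Au) (_ : Algebra A Au) (_ : Algebra.FinitePresentation A Au)
      (εu : Au ⊗[A] B),
      IsFinite ((D εu).ι ≫ sm Au (Au ⊗[A] B)) ∧
      ∀ (R : Type u) [CommRing R] [Algebra A R] (U' : (Spec (CommRingCat.of (R ⊗[A] B))).Opens),
        IsFinite (U'.ι ≫ sm R (R ⊗[A] B)) →
        ∃ χ : Au →ₐ[A] R,
          U' = D (Algebra.TensorProduct.map χ (AlgHom.id A B) εu) := by
  obtain ⟨F, _, _, _, _, s, m, k, r, ψ, hM⟩ := exists_model A B
  obtain ⟨εu, h1, h2⟩ := core_of_model hM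
  exact ⟨Au A k r, inferInstance, inferInstance, inferInstance, εu, h1, h2⟩

end Part8

section Part9
open AlgebraicGeometry CategoryTheory Limits TensorProduct

theorem isFinite_preimage_iso {P P' Y' : Scheme.{u}} (g : P ⟶ P') [IsIso g] (U' : P'.Opens)
    (snd' : P' ⟶ Y') (h : IsFinite (U'.ι ≫ snd')) : IsFinite ((g ⁻¹ᵁ U').ι ≫ g ≫ snd') := by
  have : (g ⁻¹ᵁ U').ι ≫ g ≫ snd' = (g ∣_ U') ≫ U'.ι ≫ snd' := by
    rw [← Category.assoc, ← morphismRestrict_ι, Category.assoc]
  rw [this]; infer_instance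

/-- transport of a pullback square along isomorphisms of the cospan -/
theorem isPullback_of_iso_cospan {P X Y S X' S' : Scheme.{u}} {fst : P ⟶ X} {snd : P ⟶ Y}
    {f : X ⟶ S} {g : Y ⟶ S} (H : IsPullback fst snd f g) (eX : X' ≅ X) (eS : S' ≅ S)
    (f' : X' ⟶ S') (hf : f' ≫ eS.hom = eX.hom ≫ f) :
    IsPullback (fst ≫ eX.inv) snd f' (g ≫ eS.inv) := by
  refine H.of_iso (Iso.refl _) eX.symm (Iso.refl _) eS.symm (by simp) (by simp) ?_ (by simp)
  rw [Iso.symm_hom, Iso.symm_hom, Iso.comp_inv_eq, Category.assoc, hf, Iso.inv_hom_id_assoc]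

section Affine

variable {X Y : Scheme.{u}} (f : X ⟶ Y) [IsAffine X] [IsAffine Y]

/-- the ring of global functions of the base -/
abbrev GA (Y : Scheme.{u}) : Type u := Γ(Y, ⊤)

theorem sm_eq_of_toAlgebra {X Y : Scheme.{u}} (f : X ⟶ Y) :
    letI : Algebra (GA Y) (GA X) := f.appTop.hom.toAlgebra
    sm (GA Y) (GA X) = Spec.map f.appTop := rfl

theorem main_Q [LocallyQuasiFinite f] [LocallyOfFinitePresentation f] :
    ∃ (Yu : Scheme.{u}) (a : Yu ⟶ Y) (P : Scheme.{u}) (fstP : P ⟶ X) (sndP : P ⟶ Yu)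
      (H : IsPullback fstP sndP f a) (Uu : P.Opens),
      LocallyOfFinitePresentation a ∧ QuasiCompact a ∧ QuasiSeparated a ∧
      IsFinite (Uu.ι ≫ sndP) ∧
      ∀ (Y' : Scheme.{u}) (b : Y' ⟶ Y) (P' : Scheme.{u}) (fst' : P' ⟶ X) (snd' : P' ⟶ Y')
        (H' : IsPullback fst' snd' f b) (U' : P'.Opens), IsAffine Y' → IsFinite (U'.ι ≫ snd') →
        ∃ (c : Y' ⟶ Yu) (hc : c ≫ a = b),
          (H.lift fst' (snd' ≫ c) (by rw [Category.assoc, hc]; exact H'.w)) ⁻¹ᵁ Uu = U' := by
  letI algAB : Algebra (GA Y) (GA X) := f.appTop.hom.toAlgebra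
  have hfp : Algebra.FinitePresentation (GA Y) (GA X) := by
    have h := (HasRingHomProperty.iff_of_isAffine (P := @LocallyOfFinitePresentation)).mp
      (inferInstance : LocallyOfFinitePresentation f)
    exact RingHom.finitePresentation_algebraMap.mp h
  have hqf : Algebra.QuasiFinite (GA Y) (GA X) := by
    have h := (HasRingHomProperty.iff_of_isAffine (P := @LocallyQuasiFinite)).mp
      (inferInstance : LocallyQuasiFinite f)
    exact RingHom.quasiFinite_algebraMap.mp h
  have hnat : f ≫ Y.isoSpec.hom = X.isoSpec.hom ≫ sm (GA Y) (GA X) :=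
    (Scheme.isoSpec_hom_naturality f).symm
  obtain ⟨Au, _, _, _, εu, hfin, huniv⟩ := core (GA Y) (GA X)
  have H : IsPullback
      (Spec.map (CommRingCat.ofHom
        (Algebra.TensorProduct.includeRight : GA X →ₐ[GA Y] Au ⊗[GA Y] GA X).toRingHom) ≫
        X.isoSpec.inv)
      (sm Au (Au ⊗[GA Y] GA X)) f (sm (GA Y) Au ≫ Y.isoSpec.inv) :=
    isPullback_of_iso_cospan (isPullback_sm (GA Y) (GA X) Au) X.isoSpec Y.isoSpec f hnat
  refine ⟨Spec (CommRingCat.of Au), sm (GA Y) Au ≫ Y.isoSpec.inv,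
    Spec (CommRingCat.of (Au ⊗[GA Y] GA X)), _, _, H, D εu, inferInstance, inferInstance,
    inferInstance, hfin, ?_⟩
  intro Y' b P' fst' snd' H' U' hY' hU'
  letI algAR : Algebra (GA Y) (GA Y') := b.appTop.hom.toAlgebra
  have hnatb : b ≫ Y.isoSpec.hom = Y'.isoSpec.hom ≫ sm (GA Y) (GA Y') :=
    (Scheme.isoSpec_hom_naturality b).symm
  have H'' : IsPullback (fst' ≫ X.isoSpec.hom) (snd' ≫ Y'.isoSpec.hom) (sm (GA Y) (GA X))
      (sm (GA Y) (GA Y')) :=
    H'.of_iso (Iso.refl _) X.isoSpec Y'.isoSpec Y.isoSpec (by simp) (by simp) hnat hnatb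
  let e : P' ≅ Spec (CommRingCat.of (GA Y' ⊗[GA Y] GA X)) :=
    H''.isoIsPullback _ _ (isPullback_sm (GA Y) (GA X) (GA Y'))
  have he_fst : e.hom ≫ Spec.map (CommRingCat.ofHom
      (Algebra.TensorProduct.includeRight : GA X →ₐ[GA Y] GA Y' ⊗[GA Y] GA X).toRingHom) =
      fst' ≫ X.isoSpec.hom := H''.isoIsPullback_hom_fst _ _ _
  have he_snd : e.hom ≫ sm (GA Y') (GA Y' ⊗[GA Y] GA X) = snd' ≫ Y'.isoSpec.hom :=
    H''.isoIsPullback_hom_snd _ _ _
  have he_inv_snd : e.inv ≫ snd' ≫ Y'.isoSpec.hom = sm (GA Y') (GA Y' ⊗[GA Y] GA X) :=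
    H''.isoIsPullback_inv_snd _ _ _
  have hfin'' : IsFinite ((e.inv ⁻¹ᵁ U').ι ≫ sm (GA Y') (GA Y' ⊗[GA Y] GA X)) := by
    rw [← he_inv_snd]
    have h1 : IsFinite (U'.ι ≫ (snd' ≫ Y'.isoSpec.hom)) := by
      rw [← Category.assoc]; infer_instance
    exact isFinite_preimage_iso e.inv U' _ h1
  obtain ⟨χ, hχ⟩ := huniv (GA Y') (e.inv ⁻¹ᵁ U') hfin''
  have hc : (Y'.isoSpec.hom ≫ Spec.map (CommRingCat.ofHom χ.toRingHom)) ≫
      (sm (GA Y) Au ≫ Y.isoSpec.inv) = b := by
    rw [Category.assoc, ← Category.assoc (Spec.map _), comp_sm χ, ← Category.assoc, ← hnatb,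
      Category.assoc, Iso.hom_inv_id, Category.comp_id]
  refine ⟨Y'.isoSpec.hom ≫ Spec.map (CommRingCat.ofHom χ.toRingHom), hc, ?_⟩
  have hlift : H.lift fst' (snd' ≫ Y'.isoSpec.hom ≫ Spec.map (CommRingCat.ofHom χ.toRingHom))
      (by rw [Category.assoc, hc]; exact H'.w) =
      e.hom ≫ Spec.map (CommRingCat.ofHom
        (Algebra.TensorProduct.map χ (AlgHom.id (GA Y) (GA X))).toRingHom) := by
    apply H.hom_ext
    · rw [H.lift_fst, Category.assoc, ← Category.assoc (Spec.map _), ← Spec.map_comp,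
        ← CommRingCat.ofHom_comp]
      have : (Algebra.TensorProduct.map χ (AlgHom.id (GA Y) (GA X))).toRingHom.comp
          (Algebra.TensorProduct.includeRight : GA X →ₐ[GA Y] Au ⊗[GA Y] GA X).toRingHom =
          (Algebra.TensorProduct.includeRight :
            GA X →ₐ[GA Y] GA Y' ⊗[GA Y] GA X).toRingHom := by
        ext x
        simp
      rw [this, ← Category.assoc, he_fst, Category.assoc, Iso.hom_inv_id, Category.comp_id]
    · rw [H.lift_snd, Category.assoc]
      have : Spec.map (CommRingCat.ofHom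
          (Algebra.TensorProduct.map χ (AlgHom.id (GA Y) (GA X))).toRingHom) ≫
          sm Au (Au ⊗[GA Y] GA X) =
          sm (GA Y') (GA Y' ⊗[GA Y] GA X) ≫ Spec.map (CommRingCat.ofHom χ.toRingHom) := by
        have hring : (Algebra.TensorProduct.map χ (AlgHom.id (GA Y) (GA X))).toRingHom.comp
            (algebraMap Au (Au ⊗[GA Y] GA X)) =
            (algebraMap (GA Y') (GA Y' ⊗[GA Y] GA X)).comp χ.toRingHom := by
          ext x
          simp [Algebra.TensorProduct.algebraMap_apply]
        unfold sm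
        rw [← Spec.map_comp, ← Spec.map_comp, ← CommRingCat.ofHom_comp, ← CommRingCat.ofHom_comp,
          hring]
      rw [this, ← Category.assoc e.hom, he_snd, Category.assoc]
  have hpre : (Spec.map (CommRingCat.ofHom
      (Algebra.TensorProduct.map χ (AlgHom.id (GA Y) (GA X))).toRingHom)) ⁻¹ᵁ D εu =
      D (Algebra.TensorProduct.map χ (AlgHom.id (GA Y) (GA X)) εu) := preimage_D _ _
  rw [hlift, Scheme.Hom.comp_preimage, hpre, ← hχ, ← Scheme.Hom.comp_preimage,
    e.hom_inv_id, Scheme.Hom.id_preimage]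

end Affine

open AlgebraicGeometry CategoryTheory Limits in
theorem main {X Y : Scheme.{u}} (f : X ⟶ Y) [IsAffine X] [IsAffine Y] [LocallyQuasiFinite f]
    [LocallyOfFinitePresentation f] :
    ∃ (Yu : Scheme.{u}) (a : Yu ⟶ Y) (Uu : (pullback f a).Opens),
      LocallyOfFinitePresentation a ∧ QuasiCompact a ∧ QuasiSeparated a ∧
      IsFinite (Uu.ι ≫ pullback.snd f a) ∧
      ∀ (Y' : Scheme.{u}) (b : Y' ⟶ Y) (U' : (pullback f b).Opens), IsAffine Y' →
        IsFinite (U'.ι ≫ pullback.snd f b) →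
        ∃ (c : Y' ⟶ Yu) (hc : c ≫ a = b),
          (pullback.map f b f a (𝟙 X) c (𝟙 Y)
            ((Category.comp_id f).trans (Category.id_comp f).symm)
            ((Category.comp_id b).trans hc.symm)) ⁻¹ᵁ Uu = U' := by
  obtain ⟨Yu, a, P, fstP, sndP, H, Uu, h1, h2, h3, h4, h5⟩ := main_Q f
  refine ⟨Yu, a, H.isoPullback.inv ⁻¹ᵁ Uu, h1, h2, h3, ?_, ?_⟩
  · have := isFinite_preimage_iso H.isoPullback.inv Uu sndP h4
    rwa [H.isoPullback_inv_snd] at this
  · intro Y' b U' hY' hU'
    obtain ⟨c, hc, hpre⟩ := h5 Y' b (pullback f b) (pullback.fst f b) (pullback.snd f b)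
      (IsPullback.of_hasPullback f b) U' hY' hU'
    refine ⟨c, hc, ?_⟩
    rw [← Scheme.Hom.comp_preimage]
    have hmap : pullback.map f b f a (𝟙 X) c (𝟙 Y)
        ((Category.comp_id f).trans (Category.id_comp f).symm)
        ((Category.comp_id b).trans hc.symm) ≫ H.isoPullback.inv =
        H.lift (pullback.fst f b) (pullback.snd f b ≫ c)
          (by rw [Category.assoc, hc]; exact pullback.condition) := by
      apply H.hom_ext
      · rw [Category.assoc, H.isoPullback_inv_fst, H.lift_fst]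
        exact (pullback.lift_fst _ _ _).trans (Category.comp_id _)
      · rw [Category.assoc, H.isoPullback_inv_snd, H.lift_snd]
        exact pullback.lift_snd _ _ _
    rw [hmap]; exact hpre

end Part9

end Groth.Agent.Lib.UnivFinOpen6
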