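import Groth.Prelude.Def_CAlgX
import Mathlib.Algebra.Module.FinitePresentation
import Mathlib.LinearAlgebra.TensorProduct.Vanishing
import Mathlib.Algebra.Colimit.TensorProduct

/-!
Universally injective linear maps: the equational criterion and the test on
finitely presented modules.
-/

set_option autoImplicit false
universe u v

namespace Groth.Agent.Lib.UnivInj

open TensorProduct

variable {R : Type u} [CommRing R] {M₁ M₂ : Type u} [AddCommGroup M₁] [Module R M₁]
  [AddCommGroup M₂] [Module R M₂]

/-- The equational condition on a linear map. -/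
def Equational (f : M₁ →ₗ[R] M₂) : Prop :=
  ∀ (n m : ℕ) (x : Fin n → M₁) (y : Fin m → M₂) (a : Fin n → Fin m → R),
    (∀ i, f (x i) = ∑ j, a i j • y j) → ∃ z : Fin m → M₁, ∀ i, x i = ∑ j, a i j • z j

/-- If the family `q` spans `Q`, every element of `Q ⊗ M` is `∑ q i ⊗ x i`. -/
theorem exists_sum_tmul_of_span {Q : Type v} [AddCommGroup Q] [Module R Q]
    {M : Type u} [AddCommGroup M] [Module R M] {n : ℕ} (q : Fin n → Q)
    (hq : Submodule.span R (Set.range q) = ⊤) (t : Q ⊗[R] M) :
    ∃ x : Fin n → M, t = ∑ i, q i ⊗ₜ[R] x i := by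
  induction t with
  | zero => exact ⟨0, by simp⟩
  | tmul p m =>
    have hp : p ∈ Submodule.span R (Set.range q) := by rw [hq]; trivial
    obtain ⟨c, rfl⟩ := (Submodule.mem_span_range_iff_exists_fun R).1 hp
    refine ⟨fun i => c i • m, ?_⟩
    rw [TensorProduct.sum_tmul]
    refine Finset.sum_congr rfl fun i _ => ?_
    rw [TensorProduct.smul_tmul]
  | add t₁ t₂ h₁ h₂ =>
    obtain ⟨x₁, rfl⟩ := h₁
    obtain ⟨x₂, rfl⟩ := h₂
    refine ⟨x₁ + x₂, ?_⟩
    simp [TensorProduct.tmul_add, Finset.sum_add_distrib]

/-- The equational condition implies injectivity of `Q ⊗ f` for every module `Q`. -/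
theorem lTensor_injective_of_equational (f : M₁ →ₗ[R] M₂) (hf : Equational f)
    (Q : Type v) [AddCommGroup Q] [Module R Q] : Function.Injective (f.lTensor Q) := by
  rw [injective_iff_map_eq_zero]
  intro t ht
  obtain ⟨J, hJ, t₀, rfl⟩ := Submodule.exists_fg_le_eq_rTensor_subtype (M := M₁) t
  have h1 : (J.subtype.rTensor M₂) (f.lTensor J t₀) = (J.subtype.rTensor M₂) 0 := by
    rw [map_zero, ← ht, ← LinearMap.comp_apply, ← LinearMap.comp_apply,
      LinearMap.rTensor_comp_lTensor, LinearMap.lTensor_comp_rTensor]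
  obtain ⟨J', hJ', hle, h2⟩ := hJ.exists_rTensor_fg_inclusion_eq h1
  rw [map_zero] at h2
  set t₁ : J' ⊗[R] M₁ := (J.inclusion hle).rTensor M₁ t₀ with ht₁
  have h3 : f.lTensor J' t₁ = 0 := by
    rw [ht₁, ← h2, ← LinearMap.comp_apply, ← LinearMap.comp_apply,
      LinearMap.rTensor_comp_lTensor, LinearMap.lTensor_comp_rTensor]
  have h4 : J.subtype.rTensor M₁ t₀ = J'.subtype.rTensor M₁ t₁ := by
    rw [ht₁, ← LinearMap.comp_apply, ← LinearMap.rTensor_comp]
    rfl
  rw [h4]
  suffices h : t₁ = 0 by rw [h, map_zero]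
  have hfin : Module.Finite R J' := Module.Finite.iff_fg.2 hJ'
  obtain ⟨n, q, hq⟩ := Module.Finite.exists_fin (R := R) (M := J')
  obtain ⟨x, hx⟩ := exists_sum_tmul_of_span q hq t₁
  rw [hx] at h3 ⊢
  simp only [map_sum, LinearMap.lTensor_tmul] at h3
  obtain ⟨k, b, w, hw, hb⟩ := TensorProduct.vanishesTrivially_of_sum_tmul_eq_zero R hq h3
  obtain ⟨z, hz⟩ := hf n k x w b hw
  exact TensorProduct.sum_tmul_eq_zero_of_vanishesTrivially R ⟨k, b, z, hz, hb⟩

/-- The equational condition implies injectivity of `f ⊗ Q` for every module `Q`. -/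
theorem rTensor_injective_of_equational (f : M₁ →ₗ[R] M₂) (hf : Equational f)
    (Q : Type v) [AddCommGroup Q] [Module R Q] : Function.Injective (f.rTensor Q) := by
  have h := lTensor_injective_of_equational f hf Q
  have : f.rTensor Q = (TensorProduct.comm R Q M₂).toLinearMap ∘ₗ f.lTensor Q ∘ₗ
      (TensorProduct.comm R M₁ Q).toLinearMap := by
    ext; simp
  rw [this]
  exact (TensorProduct.comm R Q M₂).injective.comp (h.comp (TensorProduct.comm R M₁ Q).injective)

/-- If `f ⊗ Q` is injective for every finitely presented `Q`, the equational condition holds. -/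
theorem equational_of_forall_finitePresentation (f : M₁ →ₗ[R] M₂)
    (h : ∀ (Q : Type u) [AddCommGroup Q] [Module R Q], Module.FinitePresentation R Q →
        Function.Injective (f.rTensor Q)) : Equational f := by
  intro n m x y a hxy
  classical
  let col : Fin m → (Fin n → R) := fun j i => a i j
  let K : Submodule R (Fin n → R) := Submodule.span R (Set.range col)
  let Q := (Fin n → R) ⧸ K
  have hKfg : K.FG := Submodule.fg_span (Set.finite_range col)
  have hQ : Module.FinitePresentation R Q :=
    Module.finitePresentation_of_surjective K.mkQ K.mkQ_surjective (by rwa [Submodule.ker_mkQ])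
  let e : Fin n → Q := fun i => K.mkQ (Pi.single i 1)
  have he : Submodule.span R (Set.range e) = ⊤ := by
    have : Set.range e = K.mkQ '' Set.range (fun i : Fin n => (Pi.single i 1 : Fin n → R)) := by
      rw [← Set.range_comp]; rfl
    have hbasis : Submodule.span R
        (Set.range (fun i : Fin n => (Pi.single i 1 : Fin n → R))) = ⊤ := by
      have h0 := (Pi.basisFun R (Fin n)).span_eq
      have h1 : (⇑(Pi.basisFun R (Fin n)) : Fin n → (Fin n → R)) =
          fun i : Fin n => (Pi.single i 1 : Fin n → R) := by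
        funext i
        exact Pi.basisFun_apply R (Fin n) i
      rwa [h1] at h0
    rw [this, ← Submodule.map_span, hbasis, Submodule.map_top, Submodule.range_mkQ]
  have hcol : ∀ j, ∑ i, a i j • e i = 0 := by
    intro j
    have : ∑ i, a i j • e i = K.mkQ (col j) := by
      simp only [e, ← map_smul, ← map_sum]
      congr 1
      ext i'
      simp [col, Finset.sum_apply, Pi.single_apply]
    rw [this]
    exact (Submodule.Quotient.mk_eq_zero K).2 (Submodule.subset_span ⟨j, rfl⟩)
  have ht : (f.rTensor Q) (∑ i, x i ⊗ₜ[R] e i) = 0 := by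
    simp only [map_sum, LinearMap.rTensor_tmul, hxy]
    simp only [TensorProduct.sum_tmul, TensorProduct.smul_tmul]
    rw [Finset.sum_comm]
    simp only [← TensorProduct.tmul_sum, hcol, TensorProduct.tmul_zero, Finset.sum_const_zero]
  have ht0 : (∑ i, x i ⊗ₜ[R] e i) = 0 := by
    apply h Q hQ
    rw [ht, map_zero]
  have ht1 : ∑ i, e i ⊗ₜ[R] x i = 0 := by
    have := congrArg (TensorProduct.comm R M₁ Q) ht0
    simpa using this
  obtain ⟨k, b, w, hw, hb⟩ := TensorProduct.vanishesTrivially_of_sum_tmul_eq_zero R he ht1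
  have hbK : ∀ l, (fun i => b i l) ∈ K := by
    intro l
    have h1 : ∑ i, b i l • e i = K.mkQ (fun i => b i l) := by
      simp only [e, ← map_smul, ← map_sum]
      congr 1
      ext i'
      simp [Finset.sum_apply, Pi.single_apply]
    have h2 := hb l
    rw [h1] at h2
    exact (Submodule.Quotient.mk_eq_zero K).1 h2
  choose c hc using fun l => (Submodule.mem_span_range_iff_exists_fun R).1 (hbK l)
  refine ⟨fun j => ∑ l, c l j • w l, fun i => ?_⟩
  rw [hw i]
  have hci : ∀ l, b i l = ∑ j, c l j * a i j := by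
    intro l
    have := congrFun (hc l) i
    simp only [Finset.sum_apply, Pi.smul_apply, smul_eq_mul, col] at this
    exact this.symm
  simp only [Finset.smul_sum, smul_smul]
  rw [Finset.sum_comm]
  refine Finset.sum_congr rfl fun l _ => ?_
  rw [hci l, Finset.sum_smul]
  refine Finset.sum_congr rfl fun j _ => ?_
  rw [mul_comm]

end Groth.Agent.Lib.UnivInj
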