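import Groth.Agent.Lib.SpecResidueH52
import Mathlib.AlgebraicGeometry.GammaSpecAdjunction

/-!
Ring-level form of universal injectivity for `Spec.map φ`: field-valued points are determined
by their restriction along `φ`.
-/

set_option autoImplicit false
universe u

open CategoryTheory AlgebraicGeometry

namespace Groth.Agent.Lib.UnivInjRingH52

variable {A C : Type u} [CommRing A] [CommRing C] (φ : A →+* C)

theorem universallyInjective_Spec_iff :
    UniversallyInjective (Spec.map (CommRingCat.ofHom φ)) ↔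
      ∀ (K : Type u) [Field K] (g₁ g₂ : C →+* K), g₁.comp φ = g₂.comp φ → g₁ = g₂ := by
  have htfae : UniversallyInjective (Spec.map (CommRingCat.ofHom φ)) ↔
      ∀ (K : Type u) [Field K], Function.Injective
        (fun g : Spec (.of K) ⟶ Spec (CommRingCat.of C) ↦ g ≫ Spec.map (CommRingCat.ofHom φ)) :=
    (tfae_universallyInjective (Spec.map (CommRingCat.ofHom φ))).out 0 1
  rw [htfae]
  constructor
  · intro h K _ g₁ g₂ hg
    have h1 : Spec.map (CommRingCat.ofHom g₁) ≫ Spec.map (CommRingCat.ofHom φ) =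
        Spec.map (CommRingCat.ofHom g₂) ≫ Spec.map (CommRingCat.ofHom φ) := by
      rw [← Spec.map_comp, ← Spec.map_comp, ← CommRingCat.ofHom_comp, ← CommRingCat.ofHom_comp, hg]
    have h2 := Spec.map_injective (h K h1)
    exact congrArg CommRingCat.Hom.hom h2
  · intro h K _ g₁' g₂' hg
    obtain ⟨ψ₁, rfl⟩ := Spec.map_surjective g₁'
    obtain ⟨ψ₂, rfl⟩ := Spec.map_surjective g₂'
    simp only at hg
    rw [← Spec.map_comp, ← Spec.map_comp] at hg
    have h1 := Spec.map_injective hg
    have h2 : ψ₁.hom.comp φ = ψ₂.hom.comp φ := congrArg CommRingCat.Hom.hom h1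
    have h3 := h K ψ₁.hom ψ₂.hom h2
    congr 1
    exact CommRingCat.hom_ext h3

theorem eq_of_comp_eq_of_isUnivHomeo (h : FlatMor.IsUnivHomeo (Spec.map (CommRingCat.ofHom φ)))
    {K : Type u} [Field K] (g₁ g₂ : C →+* K) (hg : g₁.comp φ = g₂.comp φ) : g₁ = g₂ :=
  (universallyInjective_Spec_iff φ).mp (Groth.Agent.Lib.UnivHomeo.universallyInjective h) K g₁ g₂ hg

theorem isUnivHomeo_of_ring (hint : φ.IsIntegral)
    (hsurj : Function.Surjective (PrimeSpectrum.comap φ))
    (huniq : ∀ (K : Type u) [Field K] (g₁ g₂ : C →+* K), g₁.comp φ = g₂.comp φ → g₁ = g₂) :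
    FlatMor.IsUnivHomeo (Spec.map (CommRingCat.ofHom φ)) := by
  rw [Groth.Agent.Lib.UnivHomeo.iff_isIntegralHom_universallyInjective_surjective]
  exact ⟨IsIntegralHom.SpecMap_iff.mpr hint, (universallyInjective_Spec_iff φ).mpr huniq, ⟨hsurj⟩⟩

end Groth.Agent.Lib.UnivInjRingH52
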