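import Groth.Agent.Lib.SteinField5A
import Mathlib.AlgebraicGeometry.Morphisms.UniversallyInjective
import Mathlib.AlgebraicGeometry.Morphisms.QuasiFinite

/-!
# Geometric connectedness of the fibres of a universally open proper morphism (helper5), part A

General lemmas:
* two `K`-points of `X` with the same image point and the same composite to `Y` agree when the residue
  field extension at that point is purely inseparable;
* density of images of irreducible components passes along a surjection;
* a surjective universally injective morphism is geometrically connected.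
-/

set_option autoImplicit false
universe u

open CategoryTheory CategoryTheory.Limits AlgebraicGeometry TopologicalSpace Opposite

namespace Groth.Agent.Lib.UnivOpenConn5

section Points

variable {X Y : Scheme.{u}} (f : X ⟶ Y)

set_option backward.isDefEq.respectTransparency.types false in
set_option backward.defeqAttrib.useBackward true in
/-- Two `K`-points of `X` with the same underlying point `x` and the same composite to `Y` agree as
soon as `κ(x)/κ(f x)` is purely inseparable. -/
theorem eq_of_comp_eq_of_isPurelyInseparable (K : Type u) [Field K]
    (g₁ g₂ : Spec (.of K) ⟶ X) (hg : g₁ ≫ f = g₂ ≫ f)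
    (hpt : g₁ (IsLocalRing.closedPoint K) = g₂ (IsLocalRing.closedPoint K))
    (hpi : (f.residueFieldMap (g₁ (IsLocalRing.closedPoint K))).hom.IsPurelyInseparable) :
    g₁ = g₂ := by
  obtain ⟨e, h⟩ := Scheme.SpecToEquivOfField_eq_iff.mp congr((Y.SpecToEquivOfField K) $(hg))
  apply (X.SpecToEquivOfField K).injective
  dsimp at e h
  simp only [Scheme.descResidueField_stalkClosedPointTo_comp] at e h
  rw [← f.residueFieldMap_congr'_assoc hpt, CommRingCat.hom_ext_iff] at h
  rw [Scheme.SpecToEquivOfField_eq_iff]
  let x := g₁ (IsLocalRing.closedPoint K)
  have hfx := hpi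
  algebraize [(f.residueFieldMap (g₁ (IsLocalRing.closedPoint K))).hom]
  refine ⟨hpt, CommRingCat.hom_ext ?_⟩
  exact IsPurelyInseparable.injective_comp_algebraMap
    (Y.residueField (f x)) (X.residueField x) _ h

end Points

section Top

/-- Density of the images of the irreducible components passes along a surjection. -/
theorem dense_image_irreducibleComponent_of_surjective {A B T : Type*} [TopologicalSpace A]
    [TopologicalSpace B] [TopologicalSpace T] [QuasiSober B] (p : A → B) (hp : Continuous p)
    (hsurj : Function.Surjective p) (a : A → T) (b : B → T)
    (hab : ∀ w, b (p w) = a w)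
    (h : ∀ Z ∈ irreducibleComponents A, Dense (a '' Z)) :
    ∀ Z' ∈ irreducibleComponents B, Dense (b '' Z') := by
  intro Z' hZ'
  have hirr : IsIrreducible Z' := hZ'.1
  have hcl : IsClosed Z' := isClosed_of_mem_irreducibleComponents Z' hZ'
  obtain ⟨ζ, hζ⟩ := QuasiSober.sober hirr hcl
  obtain ⟨w, hw⟩ := hsurj ζ
  have hZ : irreducibleComponent w ∈ irreducibleComponents A :=
    irreducibleComponent_mem_irreducibleComponents w
  have hwZ : w ∈ irreducibleComponent w := mem_irreducibleComponent
  have hirr2 : IsIrreducible (closure (p '' irreducibleComponent w)) :=
    (isIrreducible_irreducibleComponent.image p hp.continuousOn).closure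
  have hsub : Z' ⊆ closure (p '' irreducibleComponent w) := by
    rw [← hζ.def]
    apply closure_minimal _ isClosed_closure
    rw [Set.singleton_subset_iff, ← hw]
    exact subset_closure ⟨w, hwZ, rfl⟩
  have heq : closure (p '' irreducibleComponent w) ⊆ Z' := hZ'.2 hirr2 hsub
  refine (h _ hZ).mono ?_
  rintro _ ⟨v, hv, rfl⟩
  exact ⟨p v, heq (subset_closure ⟨v, hv, rfl⟩), hab v⟩

end Top

section UnivInj

variable {X Y : Scheme.{u}} (g : X ⟶ Y)

set_option backward.isDefEq.respectTransparency.types false in
instance universallyInjective_pullback_snd {S Y : Scheme.{u}} (g : X ⟶ S) (y : Y ⟶ S)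
    [UniversallyInjective g] : UniversallyInjective (pullback.snd g y) :=
  MorphismProperty.pullback_snd (P := @UniversallyInjective) g y inferInstance

/-- A surjective universally injective morphism is geometrically connected. -/
theorem geometricallyConnected_of_universallyInjective_of_surjective [UniversallyInjective g]
    [Surjective g] : GeometricallyConnected g := by
  refine ⟨geometrically_iff_of_isClosedUnderIsomorphisms.mpr fun K _ y ↦ ?_⟩
  have h1 : UniversallyInjective (pullback.snd g y) := inferInstance
  have h2 : Surjective (pullback.snd g y) := inferInstance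
  have : Subsingleton ↥(pullback g y) := (pullback.snd g y).injective.subsingleton
  obtain ⟨pt⟩ : Nonempty ↥(Spec (CommRingCat.of K)) := inferInstance
  obtain ⟨z, -⟩ := h2.surj pt
  have : Nonempty ↥(pullback g y) := ⟨z⟩
  have : IrreducibleSpace ↥(pullback g y) :=
    { toPreirreducibleSpace := inferInstance, toNonempty := inferInstance }
  infer_instance

end UnivInj

end Groth.Agent.Lib.UnivOpenConn5
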