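import Groth.Agent.Lib.UnivOpenConn5A
import Groth.Agent.Lib.FibrationNormal5

/-!
# Geometric connectedness of the fibres of a universally open proper morphism (helper5), part B

Pure inseparability of the residue field extension at the generic point of the Stein factor, from the
hypothesis that the algebraic closure of `R(Y)` in `R(X)` is purely inseparable over `R(Y)`.
-/

set_option autoImplicit false
universe u

open CategoryTheory CategoryTheory.Limits AlgebraicGeometry TopologicalSpace Opposite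

namespace Groth.Agent.Lib.UnivOpenConn5

section PI

variable {X Y' Y : Scheme.{u}} [IsIntegral X] [IsIntegral Y] (π : X ⟶ Y') (g : Y' ⟶ Y)

/-- Sections of `Y'` over the preimage of an affine open of `Y` give elements of `R(X)` that are
algebraic over `R(Y)` when `g` is integral. -/
theorem isAlgebraic_germ_app [IsIntegralHom g]
    (hdom : (π ≫ g).base (genericPoint X) ⤳ genericPoint Y) {V : Y.Opens} (hV : IsAffineOpen V)
    (hξ : genericPoint X ∈ (π ≫ g) ⁻¹ᵁ V) (b : Γ(Y', g ⁻¹ᵁ V)) :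
    letI := (CohIII.stalkToFunctionField (π ≫ g) (genericPoint Y) hdom).toAlgebra
    IsAlgebraic Y.functionField
      (X.presheaf.germ ((π ≫ g) ⁻¹ᵁ V) (genericPoint X) hξ ((π.app (g ⁻¹ᵁ V)).hom b)) := by
  letI := (CohIII.stalkToFunctionField (π ≫ g) (genericPoint Y) hdom).toAlgebra
  have hη : genericPoint Y ∈ V :=
    Groth.Agent.Lib.FibrationNormal5.genericPoint_mem_of_nonempty V ⟨_, hξ⟩
  obtain ⟨P, hP, hPb⟩ := g.isIntegral_app V hV b
  refine ⟨P.map (Y.presheaf.germ V (genericPoint Y) hη).hom, (hP.map _).ne_zero, ?_⟩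
  rw [Polynomial.aeval_def, Polynomial.eval₂_map]
  have hcomp : (algebraMap Y.functionField X.functionField).comp
      (Y.presheaf.germ V (genericPoint Y) hη).hom =
      ((X.presheaf.germ ((π ≫ g) ⁻¹ᵁ V) (genericPoint X) hξ).hom.comp
        (π.app (g ⁻¹ᵁ V)).hom).comp (g.app V).hom := by
    ext a
    have := Groth.Agent.Lib.FibrationNormal5.stalkToFunctionField_germ (π ≫ g) hdom V hη
      ((π ≫ g) ⁻¹ᵁ V) le_rfl hξ a
    rw [← Scheme.Hom.app_eq_appLE, Scheme.Hom.comp_app] at this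
    exact this
  rw [hcomp]
  have h2 := Polynomial.hom_eval₂ P (g.app V).hom
    ((X.presheaf.germ ((π ≫ g) ⁻¹ᵁ V) (genericPoint X) hξ).hom.comp (π.app (g ⁻¹ᵁ V)).hom) b
  rw [hPb, map_zero] at h2
  exact h2.symm

/-- The residue field extension of `g` at the image of the generic point of `X` is purely
inseparable, when the algebraic closure of `R(Y)` in `R(X)` is purely inseparable over `R(Y)`. -/
theorem isPurelyInseparable_residueFieldMap [IsIntegralHom g]
    (hdom : (π ≫ g).base (genericPoint X) ⤳ genericPoint Y)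
    (hrad : ∀ x : X.functionField,
      (∃ q : Polynomial Y.functionField, q ≠ 0 ∧
        Polynomial.eval₂ (CohIII.stalkToFunctionField (π ≫ g) (genericPoint Y) hdom) x q = 0) →
      ∃ e : ℕ, x ^ (ringExpChar X.functionField ^ e) ∈
        Set.range (CohIII.stalkToFunctionField (π ≫ g) (genericPoint Y) hdom)) :
    (g.residueFieldMap (π.base (genericPoint X))).hom.IsPurelyInseparable := by
  set ξ := genericPoint X with hξdef
  set ψ := CohIII.stalkToFunctionField (π ≫ g) (genericPoint Y) hdom with hψ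
  -- exponential characteristics agree
  have hinj1 : Function.Injective ((π.residueFieldMap ξ).hom.comp
      (g.residueFieldMap (π.base ξ)).hom) := RingHom.injective _
  have hinj2 : Function.Injective (X.residue ξ).hom := by
    haveI : IsLocalHom (X.residue ξ).hom := inferInstance
    exact RingHom.injective _
  have hpq : ringExpChar X.functionField = ringExpChar (Y.residueField (g.base (π.base ξ))) := by
    haveI h1 : ExpChar (X.residueField ξ) (ringExpChar (Y.residueField (g.base (π.base ξ)))) :=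
      expChar_of_injective_ringHom hinj1 _
    haveI h2 : ExpChar (X.residueField ξ) (ringExpChar X.functionField) :=
      expChar_of_injective_ringHom hinj2 _
    exact ExpChar.eq h2 h1
  rw [RingHom.IsPurelyInseparable]
  letI := (g.residueFieldMap (π.base ξ)).hom.toAlgebra
  rw [isPurelyInseparable_iff_pow_mem _ (ringExpChar (Y.residueField (g.base (π.base ξ))))]
  intro z
  -- an affine open of `Y` around the image of the generic point
  obtain ⟨_, ⟨V, hV, rfl⟩, hyV, -⟩ :=
    Y.isBasis_affineOpens.exists_subset_of_mem_open (Set.mem_univ (g.base (π.base ξ))) isOpen_univ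
  have hU' : IsAffineOpen (g ⁻¹ᵁ V) := hV.preimage g
  have hη' : π.base ξ ∈ g ⁻¹ᵁ V := hyV
  have hξV : ξ ∈ (π ≫ g) ⁻¹ᵁ V := hyV
  -- lift `z` to the stalk and write it as a fraction
  obtain ⟨zt, rfl⟩ : ∃ zt, (Y'.residue (π.base ξ)).hom zt = z := IsLocalRing.residue_surjective z
  letI : Algebra Γ(Y', g ⁻¹ᵁ V) (Y'.presheaf.stalk (π.base ξ)) :=
    Y'.presheaf.algebra_section_stalk ⟨π.base ξ, hη'⟩
  haveI : IsLocalization.AtPrime (Y'.presheaf.stalk (π.base ξ))
      (hU'.primeIdealOf ⟨π.base ξ, hη'⟩).asIdeal := hU'.isLocalization_stalk ⟨π.base ξ, hη'⟩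
  obtain ⟨⟨b, s⟩, hbs⟩ := IsLocalization.surj
    (hU'.primeIdealOf ⟨π.base ξ, hη'⟩).asIdeal.primeCompl zt
  have hsunit : IsUnit (Y'.presheaf.germ (g ⁻¹ᵁ V) (π.base ξ) hη' s.1) :=
    IsLocalization.map_units (M := (hU'.primeIdealOf ⟨π.base ξ, hη'⟩).asIdeal.primeCompl)
      (Y'.presheaf.stalk (π.base ξ)) s
  have hbs' : zt * Y'.presheaf.germ (g ⁻¹ᵁ V) (π.base ξ) hη' s.1 =
      Y'.presheaf.germ (g ⁻¹ᵁ V) (π.base ξ) hη' b := hbs
  -- push to `R(X)`
  set x' : X.functionField := (π.stalkMap ξ).hom zt with hx'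
  have hgs : ∀ t : Γ(Y', g ⁻¹ᵁ V), (π.stalkMap ξ).hom (Y'.presheaf.germ (g ⁻¹ᵁ V) (π.base ξ) hη' t) =
      X.presheaf.germ ((π ≫ g) ⁻¹ᵁ V) ξ hξV ((π.app (g ⁻¹ᵁ V)).hom t) := fun t =>
    Scheme.Hom.germ_stalkMap_apply π (g ⁻¹ᵁ V) ξ hη' t
  have hx'eq : x' * X.presheaf.germ ((π ≫ g) ⁻¹ᵁ V) ξ hξV ((π.app (g ⁻¹ᵁ V)).hom s.1) =
      X.presheaf.germ ((π ≫ g) ⁻¹ᵁ V) ξ hξV ((π.app (g ⁻¹ᵁ V)).hom b) := by
    rw [← hgs, ← hgs, ← map_mul, hbs']
  have hsne : X.presheaf.germ ((π ≫ g) ⁻¹ᵁ V) ξ hξV ((π.app (g ⁻¹ᵁ V)).hom s.1) ≠ 0 := by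
    rw [← hgs]
    exact (hsunit.map (π.stalkMap ξ).hom).ne_zero
  letI := ψ.toAlgebra
  have halg : IsAlgebraic Y.functionField x' := by
    have hb := isAlgebraic_germ_app π g hdom hV hξV b
    have hs := isAlgebraic_germ_app π g hdom hV hξV s.1
    have : x' = X.presheaf.germ ((π ≫ g) ⁻¹ᵁ V) ξ hξV ((π.app (g ⁻¹ᵁ V)).hom b) *
        (X.presheaf.germ ((π ≫ g) ⁻¹ᵁ V) ξ hξV ((π.app (g ⁻¹ᵁ V)).hom s.1))⁻¹ := by
      rw [← hx'eq, mul_assoc, mul_inv_cancel₀ hsne, mul_one]
    rw [this]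
    exact hb.mul hs.inv
  obtain ⟨q, hq, hqx⟩ := halg
  obtain ⟨e, c, hc⟩ := hrad x' ⟨q, hq, by
    have := hqx
    rw [Polynomial.aeval_def] at this
    exact this⟩
  refine ⟨e, (Y.residue (g.base (π.base ξ))).hom ((Y.presheaf.stalkSpecializes hdom).hom c), ?_⟩
  apply (π.residueFieldMap ξ).hom.injective
  -- left side
  have hL : (π.residueFieldMap ξ).hom ((Y'.residue (π.base ξ)).hom zt) = (X.residue ξ).hom x' :=
    congr($(Scheme.residue_residueFieldMap π ξ).hom zt)
  -- right side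
  have hR : (π.residueFieldMap ξ).hom ((g.residueFieldMap (π.base ξ)).hom
      ((Y.residue (g.base (π.base ξ))).hom ((Y.presheaf.stalkSpecializes hdom).hom c))) =
      (X.residue ξ).hom (ψ c) := by
    have h1 := congr($(Scheme.residue_residueFieldMap (π ≫ g) ξ).hom
      ((Y.presheaf.stalkSpecializes hdom).hom c))
    rw [Scheme.residueFieldMap_comp] at h1
    exact h1
  rw [map_pow, hL]
  change (π.residueFieldMap ξ).hom ((g.residueFieldMap (π.base ξ)).hom _) = _
  rw [hR, hc, map_pow, hpq]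

end PI

end Groth.Agent.Lib.UnivOpenConn5
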