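import Groth.Agent.Lib.UnivOpenConn5B
import Groth.Agent.Lib.ConnFib5K

/-!
# Geometric connectedness of the fibres of a universally open proper morphism (helper5), part C

S5735 in hypothesis form (EGA IV 15.5-type statement).
-/

set_option autoImplicit false
universe u

open CategoryTheory CategoryTheory.Limits AlgebraicGeometry TopologicalSpace Opposite

namespace Groth.Agent.Lib.UnivOpenConn5

open Groth.Agent.Lib.ProperFinHyp Groth.Agent.Lib.ConnFib5

section Core

variable {X Y' Y : Scheme.{u}} [IrreducibleSpace X] (π : X ⟶ Y') (g : Y' ⟶ Y)

theorem isGenericPoint_map_of_surjective [Surjective π] :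
    IsGenericPoint (π.base (genericPoint X)) (Set.univ : Set Y') := by
  rw [isGenericPoint_def]
  apply Set.eq_univ_of_univ_subset
  have h1 : π.base '' closure {genericPoint X} ⊆ closure (π.base '' {genericPoint X}) :=
    image_closure_subset_closure_image π.continuous
  rw [(genericPoint_spec X).def, Set.image_univ, Set.image_singleton,
    Set.range_eq_univ.mpr π.surjective] at h1
  exact h1

set_option backward.isDefEq.respectTransparency.types false in
/-- If every irreducible component of `X ×_Y Y'` dominates `Y'` and the residue field extension at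
the generic point of `Y'` is purely inseparable, then the finite morphism `g : Y' ⟶ Y` is universally
injective. -/
theorem universallyInjective_of_dense_components [IsFinite g] [Surjective π]
    (hpi : (g.residueFieldMap (π.base (genericPoint X))).hom.IsPurelyInseparable)
    (hopen : ∀ Z ∈ irreducibleComponents ↥(pullback (π ≫ g) g),
      Dense ((pullback.snd (π ≫ g) g).base '' Z)) :
    UniversallyInjective g := by
  rw [UniversallyInjective.iff_diagonal]
  refine ⟨fun w => ?_⟩
  set η' := π.base (genericPoint X) with hη'
  have hgen : IsGenericPoint η' (Set.univ : Set Y') := isGenericPoint_map_of_surjective π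
  -- transfer of the density hypothesis
  let p : pullback (π ≫ g) g ⟶ pullback g g :=
    (pullbackRightPullbackFstIso g g π).inv ≫ pullback.snd π (pullback.fst g g)
  have hp : p ≫ pullback.snd g g = pullback.snd (π ≫ g) g := by
    simp [p]
  have hpsurj : Function.Surjective p.base := by
    have : Surjective p := inferInstance
    exact this.surj
  have hdense : ∀ Z' ∈ irreducibleComponents ↥(pullback g g),
      Dense ((pullback.snd g g).base '' Z') :=
    dense_image_irreducibleComponent_of_surjective p.base p.continuous hpsurj
      (pullback.snd (π ≫ g) g).base (pullback.snd g g).base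
      (fun v => by rw [← hp]; rfl) hopen
  -- the irreducible component of `w` and its generic point
  have hZ' : irreducibleComponent w ∈ irreducibleComponents ↥(pullback g g) :=
    irreducibleComponent_mem_irreducibleComponents w
  obtain ⟨ζ, hζ⟩ := QuasiSober.sober (isIrreducible_irreducibleComponent (x := w))
    isClosed_irreducibleComponent
  -- `pr₂ ζ = η'`
  have h2 : (pullback.snd g g).base ζ = η' := by
    apply IsGenericPoint.eq _ hgen
    rw [isGenericPoint_def]
    apply Set.eq_univ_of_univ_subset
    rw [← (hdense _ hZ').closure_eq]
    apply closure_minimal _ isClosed_closure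
    rw [← hζ.def]
    exact (image_closure_subset_closure_image (pullback.snd g g).continuous).trans
      (by rw [Set.image_singleton])
  -- `pr₁ ζ = η'`
  have h1 : (pullback.fst g g).base ζ = η' := by
    have hg12 : g.base ((pullback.fst g g).base ζ) = g.base η' := by
      rw [← h2, ← Scheme.Hom.comp_apply, ← Scheme.Hom.comp_apply, pullback.condition]
    have hdisc := g.isDiscrete_preimage_singleton (g.base η')
    have hspec : η' ⤳ (pullback.fst g g).base ζ := hgen.specializes (Set.mem_univ _)
    have hmem1 : (pullback.fst g g).base ζ ∈ g.base ⁻¹' {g.base η'} := hg12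
    have hmem2 : η' ∈ g.base ⁻¹' {g.base η'} := rfl
    haveI : DiscreteTopology ↥(g.base ⁻¹' {g.base η'}) := hdisc.to_subtype
    have hs : (⟨η', hmem2⟩ : ↥(g.base ⁻¹' {g.base η'})) ⤳ ⟨_, hmem1⟩ :=
      Topology.IsInducing.subtypeVal.specializes_iff.mp hspec
    exact (congrArg Subtype.val hs.eq).symm
  -- the two `κ(ζ)`-points of `Y'` agree
  let K : Type u := (pullback g g).residueField ζ
  let φ : Spec (CommRingCat.of K) ⟶ pullback g g := (pullback g g).fromSpecResidueField ζ
  have hφpt : φ.base (IsLocalRing.closedPoint K) = ζ :=
    Scheme.fromSpecResidueField_apply _ _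
  have hpt1 : (φ ≫ pullback.fst g g).base (IsLocalRing.closedPoint K) = η' := by
    rw [Scheme.Hom.comp_apply, hφpt, h1]
  have hpt2 : (φ ≫ pullback.snd g g).base (IsLocalRing.closedPoint K) = η' := by
    rw [Scheme.Hom.comp_apply, hφpt, h2]
  have hφ : φ ≫ pullback.fst g g = φ ≫ pullback.snd g g := by
    apply eq_of_comp_eq_of_isPurelyInseparable g K _ _
      (by simp only [Category.assoc, pullback.condition]) (hpt1.trans hpt2.symm)
    rw [hpt1]
    exact hpi
  have hφ2 : φ = (φ ≫ pullback.fst g g) ≫ pullback.diagonal g := by
    apply pullback.hom_ext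
    · simp
    · simp [hφ]
  have hζmem : ζ ∈ Set.range (pullback.diagonal g).base := by
    refine ⟨(φ ≫ pullback.fst g g).base (IsLocalRing.closedPoint K), ?_⟩
    rw [← Scheme.Hom.comp_apply, ← hφ2, hφpt]
  have hclosed : IsClosed (Set.range (pullback.diagonal g).base) :=
    (pullback.diagonal g).isClosedEmbedding.isClosed_range
  have hsub : irreducibleComponent w ⊆ Set.range (pullback.diagonal g).base := by
    rw [← hζ.def]
    exact closure_minimal (Set.singleton_subset_iff.mpr hζmem) hclosed
  exact hsub mem_irreducibleComponent

end Core

section Main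

/-- Factorised form: `f = π ≫ g` with `g` finite surjective, `π` universally closed and geometrically
connected. -/
theorem geometricallyConnected_comp_of_universallyOpen {X Y' Y : Scheme.{u}} [IsIntegral X]
    [IsIntegral Y] (π : X ⟶ Y') (g : Y' ⟶ Y) [IsFinite g] [Surjective g] [UniversallyClosed π]
    [GeometricallyConnected π] [IsLocallyNoetherian Y']
    (hdom : (π ≫ g).base (genericPoint X) ⤳ genericPoint Y)
    (hopen : ∀ (T : Scheme.{u}) (t : T ⟶ Y), IrreducibleSpace ↥T → IsLocallyNoetherian T →
      IsDominant t → ∀ Z ∈ irreducibleComponents ↥(pullback (π ≫ g) t),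
        Dense ((pullback.snd (π ≫ g) t).base '' Z))
    (hrad : ∀ x : X.functionField,
      (∃ q : Polynomial Y.functionField, q ≠ 0 ∧
        Polynomial.eval₂ (CohIII.stalkToFunctionField (π ≫ g) (genericPoint Y) hdom) x q = 0) →
      ∃ e : ℕ, x ^ (ringExpChar X.functionField ^ e) ∈
        Set.range (CohIII.stalkToFunctionField (π ≫ g) (genericPoint Y) hdom)) :
    GeometricallyConnected (π ≫ g) := by
  haveI : Surjective π := inferInstance
  haveI : IrreducibleSpace ↥Y' := by
    have h1 : IsIrreducible (π.base '' Set.univ) :=
      (IrreducibleSpace.isIrreducible_univ X).image π.base π.continuous.continuousOn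
    rw [Set.image_univ, Set.range_eq_univ.mpr π.surjective] at h1
    exact (irreducibleSpace_def _).mpr h1
  have hpi := isPurelyInseparable_residueFieldMap π g hdom hrad
  haveI : UniversallyInjective g :=
    universallyInjective_of_dense_components π g hpi (hopen Y' g inferInstance inferInstance inferInstance)
  haveI : GeometricallyConnected g := geometricallyConnected_of_universallyInjective_of_surjective g
  exact Groth.Agent.Lib.SteinField5.geometricallyConnected_comp_of_universallyClosed π g

/-- **S5735 (hypothesis form).** A proper dominant "universally open" morphism of locally Noetherian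
integral schemes such that the algebraic closure of `R(Y)` in `R(X)` is purely inseparable over
`R(Y)` has geometrically connected fibres. -/
theorem geometricallyConnected_of_universallyOpen (H2 : Hyp.{u}) (H58 : Hyp58.{u})
    {X Y : Scheme.{u}} [IsIntegral X] [IsIntegral Y] [IsLocallyNoetherian Y]
    (f : X ⟶ Y) [IsProper f]
    (hdom : f.base (genericPoint X) ⤳ genericPoint Y)
    (hopen : ∀ (Y' : Scheme.{u}) (g : Y' ⟶ Y), IrreducibleSpace ↥Y' → IsLocallyNoetherian Y' →
      IsDominant g → ∀ Z ∈ irreducibleComponents ↥(pullback f g),
        Dense ((pullback.snd f g).base '' Z))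
    (hrad : ∀ x : X.functionField,
      (∃ q : Polynomial Y.functionField, q ≠ 0 ∧
        Polynomial.eval₂ (CohIII.stalkToFunctionField f (genericPoint Y) hdom) x q = 0) →
      ∃ e : ℕ, x ^ (ringExpChar X.functionField ^ e) ∈
        Set.range (CohIII.stalkToFunctionField f (genericPoint Y) hdom)) :
    GeometricallyConnected f := by
  have hgen : f.base (genericPoint X) = genericPoint Y :=
    (hdom.antisymm ((genericPoint_spec Y).specializes (Set.mem_univ _))).eq
  have hfsurj : Function.Surjective f.base :=
    surjective_of_isClosedMap_of_dominant f f.isClosedMap hgen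
  obtain ⟨Y', π, g, hfac, hfin, hsurj, huc, hgc, hln⟩ : ∃ (Y' : Scheme.{u}) (π : X ⟶ Y')
      (g : Y' ⟶ Y), π ≫ g = f ∧ IsFinite g ∧ Surjective g ∧ UniversallyClosed π ∧
        GeometricallyConnected π ∧ IsLocallyNoetherian Y' := by
    have hfac : f.toNormalization ≫ f.fromNormalization = f := f.toNormalization_fromNormalization
    haveI hfin : IsFinite f.fromNormalization :=
      Groth.Agent.Lib.SteinFin5.isFinite_fromNormalization_of_hyp H2 f
    haveI hln : IsLocallyNoetherian f.normalization :=
      LocallyOfFiniteType.isLocallyNoetherian f.fromNormalization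
    haveI : IsProper (f.toNormalization ≫ f.fromNormalization) := by rw [hfac]; infer_instance
    haveI hprop : IsProper f.toNormalization :=
      IsProper.of_comp f.toNormalization f.fromNormalization
    have hgc : GeometricallyConnected f.toNormalization :=
      geometricallyConnected_of_isIso_app f.toNormalization H2 H58
        (Groth.Agent.Lib.SteinProp5.isIso_toNormalization_app f)
    refine ⟨f.normalization, f.toNormalization, f.fromNormalization, hfac, hfin, ⟨fun y => ?_⟩,
      inferInstance, hgc, hln⟩
    obtain ⟨x, hx⟩ := hfsurj y
    refine ⟨f.toNormalization.base x, ?_⟩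
    rw [← Scheme.Hom.comp_apply, hfac, hx]
  subst hfac
  exact geometricallyConnected_comp_of_universallyOpen π g hdom hopen hrad

end Main

end Groth.Agent.Lib.UnivOpenConn5
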