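import Mathlib.AlgebraicGeometry.Morphisms.UniversallyOpen
import Mathlib.AlgebraicGeometry.Morphisms.SurjectiveOnStalks
import Mathlib.AlgebraicGeometry.PullbackCarrier
import Mathlib.CategoryTheory.Limits.Shapes.Diagonal

/-!
# Universal openness: cancellation and descent along universally submersive maps (helper45)

* `universallyOpen_of_surjective_comp` : if `f` is surjective and `f ≫ g` is universally open then
  `g` is universally open.
* `universallyOpen_of_univSubmersive` : if `f : X ⟶ Z` is universally submersive (every base
  change is a topological quotient map) and the base change `X ×_Z Y ⟶ X` of `g : Y ⟶ Z` is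
  universally open, then `g` is universally open.
-/

set_option autoImplicit false
universe u
open CategoryTheory CategoryTheory.Limits MorphismProperty AlgebraicGeometry Topology

namespace Groth.Agent.Lib.UnivSubmOpen45

theorem universallyOpen_of_surjective_comp {A B C : Scheme.{u}} (f : A ⟶ B) (g : B ⟶ C)
    [Surjective f] [UniversallyOpen (f ≫ g)] : UniversallyOpen g := by
  refine ⟨universally_mk' _ _ fun {T} h _ s hs => ?_⟩
  have t := IsPullback.of_hasPullback h g
  have s0 := IsPullback.of_hasPullback h (f ≫ g)
  have hpf : pullback.fst h (f ≫ g) ≫ h = (pullback.snd h (f ≫ g) ≫ f) ≫ g := by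
    rw [Category.assoc, pullback.condition]
  have sq : IsPullback (t.lift (pullback.fst h (f ≫ g)) (pullback.snd h (f ≫ g) ≫ f) hpf)
      (pullback.snd h (f ≫ g)) (pullback.snd h g) f := IsPullback.of_right' s0 t
  set m := t.lift (pullback.fst h (f ≫ g)) (pullback.snd h (f ≫ g) ≫ f) hpf with hm_def
  have hm : Surjective m :=
    MorphismProperty.of_isPullback (P := @Surjective) sq.flip inferInstance
  have hmfst : m ≫ pullback.fst h g = pullback.fst h (f ≫ g) := t.lift_fst _ _ _
  have : (pullback.fst h g).base '' s = (pullback.fst h (f ≫ g)).base '' (m.base ⁻¹' s) := by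
    rw [← hmfst, Scheme.Hom.comp_base, TopCat.coe_comp, Set.image_comp,
      Set.image_preimage_eq _ m.surjective]
  change IsOpen ((pullback.fst h g).base '' s)
  rw [this]
  exact (pullback.fst h (f ≫ g)).isOpenMap _ (hs.preimage m.continuous)

theorem universallyOpen_of_univSubmersive {X Y Z : Scheme.{u}} (f : X ⟶ Z) (g : Y ⟶ Z)
    (hf : MorphismProperty.universally (topologically @IsQuotientMap) f)
    [UniversallyOpen (pullback.fst f g)] : UniversallyOpen g := by
  refine ⟨universally_mk' _ _ fun {T} h _ s hs => ?_⟩
  let p := pullback.fst (pullback.fst f h) (pullback.fst f g)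
  let r : pullback (pullback.fst f h) (pullback.fst f g) ⟶ pullback h g :=
    pullback.map _ _ _ _ (pullback.snd _ _) (pullback.snd _ _) f (pullback.condition ..)
      (pullback.condition ..)
  have : IsOpen ((pullback.snd f h).base ⁻¹' ((pullback.fst h g).base '' s)) := by
    rw [← Scheme.image_preimage_eq_of_isPullback (isPullback_map_snd_snd ..)]
    exact p.isOpenMap _ (hs.preimage r.continuous)
  have hq : IsQuotientMap (pullback.snd f h).base :=
    hf _ _ _ (IsPullback.of_hasPullback f h).flip
  change IsOpen ((pullback.fst h g).base '' s)
  rwa [hq.isOpen_preimage] at this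

end Groth.Agent.Lib.UnivSubmOpen45
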