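import Groth.Prelude.Def_Omega3
import Groth.Agent.Lib.H4FirstOrderBC
import Mathlib.AlgebraicGeometry.Cover.Directed

/-!
# Universal first order thickenings: locality lemmas (helper24)

General lemmas on `OmegaSh.IsUnivThickening`:

* `existsUnique_lift_of_cover`: the lifting problem can be solved locally on a locally directed
  open cover of the test thickening `T'`.
* `isUnivThickening_of_affine`: affine test thickenings suffice.
* `existsUnique_lift_of_resLE`: a lift into an open `V'` of `Z'` gives a lift into `Z'`.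
* `isUnivThickening_of_local`: universal thickenings can be checked on a basis of `Z`.
* transport lemmas along isomorphisms / open immersions.
-/

set_option autoImplicit false
universe u

namespace Groth.Agent.Lib.UnivThickLocal24

open AlgebraicGeometry CategoryTheory Limits TopologicalSpace

variable {Z Z' X : Scheme.{u}}

/-- The lifting problem defining a universal thickening can be solved on a locally directed
open cover of `T'`. -/
theorem existsUnique_lift_of_cover (i : Z ⟶ Z') (h' : Z' ⟶ X) {T T' : Scheme.{u}}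
    (j : T ⟶ T') (b : T' ⟶ X) (a : T ⟶ Z)
    (𝒰 : T'.OpenCover) [Category* 𝒰.I₀] [𝒰.LocallyDirected]
    (H : ∀ k, ∃! c : 𝒰.X k ⟶ Z', pullback.snd j (𝒰.f k) ≫ c = (pullback.fst j (𝒰.f k) ≫ a) ≫ i ∧
      c ≫ h' = 𝒰.f k ≫ b) :
    ∃! a' : T' ⟶ Z', j ≫ a' = a ≫ i ∧ a' ≫ h' = b := by
  choose g hg hguniq using H
  have hcompat : ∀ {k l : 𝒰.I₀} (f : k ⟶ l), 𝒰.trans f ≫ g l = g k := by
    intro k l f
    apply hguniq k
    constructor
    · have e1 : pullback.snd j (𝒰.f k) ≫ 𝒰.trans f =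
          pullback.map j (𝒰.f k) j (𝒰.f l) (𝟙 _) (𝒰.trans f) (𝟙 _) (by simp) (by simp) ≫
            pullback.snd j (𝒰.f l) := (pullback.lift_snd _ _ _).symm
      have e2 : pullback.map j (𝒰.f k) j (𝒰.f l) (𝟙 _) (𝒰.trans f) (𝟙 _) (by simp) (by simp) ≫
            pullback.fst j (𝒰.f l) = pullback.fst j (𝒰.f k) :=
        (pullback.lift_fst _ _ _).trans (Category.comp_id _)
      rw [← Category.assoc, e1, Category.assoc, (hg l).1, Category.assoc, ← Category.assoc, e2,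
        Category.assoc]
    · rw [Category.assoc, (hg l).2, ← Category.assoc, 𝒰.trans_map]
  refine ⟨𝒰.glueMorphismsOfLocallyDirected g hcompat, ⟨?_, ?_⟩, ?_⟩
  · refine Scheme.Cover.hom_ext (𝒰.pullback₁ j) _ _ fun k => ?_
    change pullback.fst j (𝒰.f k) ≫ j ≫ _ = pullback.fst j (𝒰.f k) ≫ a ≫ i
    rw [← Category.assoc, pullback.condition, Category.assoc,
      Scheme.OpenCover.map_glueMorphismsOfLocallyDirected, (hg k).1, Category.assoc]
  · apply 𝒰.hom_ext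
    intro k
    rw [← Category.assoc, Scheme.OpenCover.map_glueMorphismsOfLocallyDirected, (hg k).2]
  · rintro a'' ⟨h1, h2⟩
    apply 𝒰.hom_ext
    intro k
    rw [Scheme.OpenCover.map_glueMorphismsOfLocallyDirected]
    apply hguniq k
    constructor
    · rw [← Category.assoc, ← pullback.condition, Category.assoc, h1, Category.assoc]
    · rw [Category.assoc, h2]

/-- Affine test thickenings suffice for a universal first order thickening. -/
theorem isUnivThickening_of_affine (h : Z ⟶ X) (i : Z ⟶ Z') (h' : Z' ⟶ X)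
    (hi : MoreMor.IsFirstOrderThickening i) (hc : i ≫ h' = h)
    (H : ∀ (T T' : Scheme.{u}) [IsAffine T'] (j : T ⟶ T') (b : T' ⟶ X) (a : T ⟶ Z),
      MoreMor.IsFirstOrderThickening j → j ≫ b = a ≫ h →
        ∃! a' : T' ⟶ Z', j ≫ a' = a ≫ i ∧ a' ≫ h' = b) :
    OmegaSh.IsUnivThickening h i h' := by
  refine ⟨hi, hc, fun T T' j b a hj hw => ?_⟩
  refine existsUnique_lift_of_cover i h' j b a T'.directedAffineCover fun k => ?_
  haveI : IsAffine (T'.directedAffineCover.X k) := k.2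
  refine H _ _ _ _ _ ?_ ?_
  · exact Groth.Agent.Lib.H4FirstOrderBC.isFirstOrderThickening_of_isPullback
      (IsPullback.of_hasPullback j (T'.directedAffineCover.f k)).flip hj
  · rw [← Category.assoc, ← pullback.condition, Category.assoc, hw, Category.assoc]

/-- A unique lift into the open part `V'` of `Z'` gives a unique lift into `Z'`. -/
theorem existsUnique_lift_of_resLE (i : Z ⟶ Z') (h' : Z' ⟶ X) (V : Z.Opens) (V' : Z'.Opens)
    (hV : V ≤ i ⁻¹ᵁ V') {T T' : Scheme.{u}} (j : T ⟶ T') (hj : Function.Surjective j)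
    (b : T' ⟶ X) (a : T ⟶ V)
    (H : ∃! c : T' ⟶ V', j ≫ c = a ≫ i.resLE V' V hV ∧ c ≫ V'.ι ≫ h' = b) :
    ∃! a' : T' ⟶ Z', j ≫ a' = (a ≫ V.ι) ≫ i ∧ a' ≫ h' = b := by
  obtain ⟨c, ⟨hc1, hc2⟩, hcu⟩ := H
  refine ⟨c ≫ V'.ι, ⟨?_, ?_⟩, ?_⟩
  · rw [← Category.assoc, hc1, Category.assoc, Category.assoc, Scheme.Hom.resLE_comp_ι]
  · rw [Category.assoc, hc2]
  · rintro a'' ⟨h1, h2⟩
    have hrange : Set.range a'' ⊆ Set.range V'.ι := by
      rintro _ ⟨t', rfl⟩
      obtain ⟨t, rfl⟩ := hj t'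
      have h3 : a'' (j t) = i (V.ι (a t)) := by
        have := congrArg (fun φ : T ⟶ Z' => φ t) h1
        simpa using this
      rw [h3, Scheme.Opens.range_ι]
      exact hV (a t).2
    have e : a'' = IsOpenImmersion.lift V'.ι a'' hrange ≫ V'.ι :=
      (IsOpenImmersion.lift_fac _ _ _).symm
    rw [e]
    congr 1
    apply hcu
    constructor
    · rw [← cancel_mono V'.ι, Category.assoc, IsOpenImmersion.lift_fac, h1, Category.assoc,
        Category.assoc, Scheme.Hom.resLE_comp_ι]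
    · rw [← Category.assoc, IsOpenImmersion.lift_fac, h2]

/-- A first order thickening is an open map on points. -/
theorem isOpenMap_of_isFirstOrderThickening {T T' : Scheme.{u}} (j : T ⟶ T')
    (hj : MoreMor.IsFirstOrderThickening j) : IsOpenMap j := by
  have hcl : IsClosedImmersion j := hj.1.1
  have hsurj : Function.Surjective j := hj.1.2.surj
  exact ((isHomeomorph_iff_isEmbedding_surjective).mpr
    ⟨j.isClosedEmbedding.isEmbedding, hsurj⟩).isOpenMap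

/-- Universal first order thickenings can be checked on a basis of `Z`. -/
theorem isUnivThickening_of_local (h : Z ⟶ X) (i : Z ⟶ Z') (h' : Z' ⟶ X)
    (hi : MoreMor.IsFirstOrderThickening i) (hc : i ≫ h' = h)
    (B : Set Z.Opens) (hB : Opens.IsBasis B) (V' : B → Z'.Opens)
    (hV' : ∀ V : B, V.1 ≤ i ⁻¹ᵁ V' V)
    (H : ∀ V : B, OmegaSh.IsUnivThickening (V.1.ι ≫ h) (i.resLE (V' V) V.1 (hV' V))
      ((V' V).ι ≫ h')) :
    OmegaSh.IsUnivThickening h i h' := by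
  refine ⟨hi, hc, fun T T' j b a hj hw => ?_⟩
  have hcl : IsClosedImmersion j := hj.1.1
  have hsurj : Function.Surjective j := hj.1.2.surj
  have hopen : IsOpenMap j := isOpenMap_of_isFirstOrderThickening j hj
  let S : Set T'.Opens := {W : T'.Opens | ∃ V : B, j ⁻¹ᵁ W ≤ a ⁻¹ᵁ V.1}
  have hbasis : Opens.IsBasis S := by
    rw [Opens.isBasis_iff_nbhd]
    intro O t' ht'
    obtain ⟨t, rfl⟩ := hsurj t'
    obtain ⟨V, hVB, hzV, -⟩ := Opens.isBasis_iff_nbhd.mp hB (Opens.mem_top (a t))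
    let W0 : T'.Opens := ⟨j '' ((a ⁻¹ᵁ V : T.Opens) : Set T), hopen _ (a ⁻¹ᵁ V).isOpen⟩
    refine ⟨O ⊓ W0, ⟨⟨V, hVB⟩, ?_⟩, ⟨ht', t, hzV, rfl⟩, inf_le_left⟩
    intro s hs
    obtain ⟨s', hs', e⟩ := hs.2
    have : s' = s := j.isClosedEmbedding.injective e
    exact this ▸ hs'
  let 𝒰 : T'.OpenCover := T'.openCoverOfIsOpenCover (fun W : S => (W : T'.Opens)) hbasis.isOpenCover
  letI : Preorder 𝒰.I₀ := inferInstanceAs (Preorder S)
  have hle : ∀ {k l : 𝒰.I₀}, k ≤ l ↔ (𝒰.f k).opensRange ≤ (𝒰.f l).opensRange := by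
    intro k l
    change k.1 ≤ l.1 ↔ (k.1.ι).opensRange ≤ (l.1.ι).opensRange
    rw [Scheme.Opens.opensRange_ι, Scheme.Opens.opensRange_ι]
  have hb2 : Opens.IsBasis (Set.range fun k : 𝒰.I₀ => (𝒰.f k).opensRange) := by
    have : (Set.range fun k : 𝒰.I₀ => (𝒰.f k).opensRange) = S := by
      ext W
      constructor
      · rintro ⟨k, rfl⟩
        change (k.1.ι).opensRange ∈ S
        rw [Scheme.Opens.opensRange_ι]
        exact k.2
      · intro hW
        refine ⟨⟨W, hW⟩, ?_⟩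
        change (W.ι).opensRange = W
        rw [Scheme.Opens.opensRange_ι]
    rw [this]
    exact hbasis
  letI : 𝒰.LocallyDirected := .ofIsBasisOpensRange hle hb2
  refine existsUnique_lift_of_cover i h' j b a 𝒰 fun k => ?_
  obtain ⟨W, V, hWV⟩ := k
  change ∃! c : (W : Scheme.{u}) ⟶ Z', pullback.snd j W.ι ≫ c = (pullback.fst j W.ι ≫ a) ≫ i ∧
      c ≫ h' = W.ι ≫ b
  have hjW : MoreMor.IsFirstOrderThickening (pullback.snd j W.ι) :=
    Groth.Agent.Lib.H4FirstOrderBC.isFirstOrderThickening_of_isPullback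
      (IsPullback.of_hasPullback j W.ι).flip hj
  have hr : Set.range (pullback.fst j W.ι ≫ a) ⊆ Set.range V.1.ι := by
    rintro _ ⟨p, rfl⟩
    rw [Scheme.Opens.range_ι]
    have h1 : j (pullback.fst j W.ι p) = W.ι (pullback.snd j W.ι p) := by
      have := congrArg (fun φ : pullback j W.ι ⟶ T' => φ p) (pullback.condition (f := j) (g := W.ι))
      simpa using this
    have h2 : pullback.fst j W.ι p ∈ j ⁻¹ᵁ W := by
      change j (pullback.fst j W.ι p) ∈ W
      rw [h1]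
      exact (pullback.snd j W.ι p).2
    exact hWV h2
  have e : pullback.fst j W.ι ≫ a = IsOpenImmersion.lift V.1.ι (pullback.fst j W.ι ≫ a) hr ≫ V.1.ι :=
    (IsOpenImmersion.lift_fac _ _ _).symm
  rw [e]
  refine existsUnique_lift_of_resLE i h' V.1 (V' V) (hV' V) (pullback.snd j W.ι) hjW.1.2.surj
    (W.ι ≫ b) _ ?_
  refine (H V).2.2 _ _ (pullback.snd j W.ι) (W.ι ≫ b) _ hjW ?_
  rw [← Category.assoc _ V.1.ι, ← e, Category.assoc, ← hw, ← Category.assoc, ← Category.assoc,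
    pullback.condition]

/-- Transport of a universal thickening along an isomorphism of the thickened scheme. -/
theorem isUnivThickening_comp_iso {Z'' : Scheme.{u}} (h : Z ⟶ X) (i : Z ⟶ Z') (h' : Z' ⟶ X)
    (hu : OmegaSh.IsUnivThickening h i h') (e : Z' ≅ Z'') :
    OmegaSh.IsUnivThickening h (i ≫ e.hom) (e.inv ≫ h') := by
  obtain ⟨hi, hc, huniv⟩ := hu
  refine ⟨?_, by rw [Category.assoc, e.hom_inv_id_assoc, hc], fun T T' j b a hj hw => ?_⟩
  · have hpb : IsPullback (i ≫ e.hom) (𝟙 Z) e.inv i := IsPullback.of_vert_isIso ⟨by simp⟩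
    exact Groth.Agent.Lib.H4FirstOrderBC.isFirstOrderThickening_of_isPullback hpb hi
  · obtain ⟨c, ⟨hc1, hc2⟩, hcu⟩ := huniv T T' j b a hj hw
    refine ⟨c ≫ e.hom, ⟨by rw [← Category.assoc, hc1, Category.assoc],
      by rw [Category.assoc, e.hom_inv_id_assoc, hc2]⟩, ?_⟩
    rintro a'' ⟨h1, h2⟩
    have : a'' ≫ e.inv = c := by
      apply hcu
      constructor
      · rw [← Category.assoc, h1, Category.assoc, Category.assoc, e.hom_inv_id, Category.comp_id]
      · rw [Category.assoc, h2]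
    rw [← this, Category.assoc, e.inv_hom_id, Category.comp_id]

/-- Transport of a universal thickening along an isomorphism of the source. -/
theorem isUnivThickening_iso_comp {Z₁ : Scheme.{u}} (h : Z ⟶ X) (i : Z ⟶ Z') (h' : Z' ⟶ X)
    (hu : OmegaSh.IsUnivThickening h i h') (e : Z₁ ≅ Z) :
    OmegaSh.IsUnivThickening (e.hom ≫ h) (e.hom ≫ i) h' := by
  obtain ⟨hi, hc, huniv⟩ := hu
  refine ⟨?_, by rw [Category.assoc, hc], fun T T' j b a hj hw => ?_⟩
  · obtain ⟨⟨hcl, hsurj⟩, hsq⟩ := hi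
    refine ⟨⟨inferInstance, inferInstance⟩, ?_⟩
    rw [Scheme.Hom.ker_comp_of_isIso]
    exact hsq
  · obtain ⟨c, ⟨hc1, hc2⟩, hcu⟩ := huniv T T' j b (a ≫ e.hom) hj (by rw [hw, Category.assoc])
    refine ⟨c, ⟨by rw [hc1, Category.assoc], hc2⟩, ?_⟩
    rintro a'' ⟨h1, h2⟩
    exact hcu a'' ⟨by rw [h1, Category.assoc], h2⟩

/-- Post-composing the base with an open immersion preserves universal thickenings. -/
theorem isUnivThickening_comp_openImmersion {X₀ : Scheme.{u}} (h : Z ⟶ X₀) (i : Z ⟶ Z')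
    (h' : Z' ⟶ X₀) (hu : OmegaSh.IsUnivThickening h i h') (g : X₀ ⟶ X) [IsOpenImmersion g] :
    OmegaSh.IsUnivThickening (h ≫ g) i (h' ≫ g) := by
  obtain ⟨hi, hc, huniv⟩ := hu
  refine ⟨hi, by rw [← Category.assoc, hc], fun T T' j b a hj hw => ?_⟩
  have hsurj : Function.Surjective j := hj.1.2.surj
  have hr : Set.range b ⊆ Set.range g := by
    rintro _ ⟨t', rfl⟩
    obtain ⟨t, rfl⟩ := hsurj t'
    have h3 : b (j t) = g (h (a t)) := by
      have := congrArg (fun φ : T ⟶ X => φ t) hw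
      simpa using this
    rw [h3]
    exact ⟨_, rfl⟩
  have hb0 : j ≫ IsOpenImmersion.lift g b hr = a ≫ h := by
    rw [← cancel_mono g, Category.assoc, IsOpenImmersion.lift_fac, hw, Category.assoc]
  obtain ⟨c, ⟨hc1, hc2⟩, hcu⟩ := huniv T T' j (IsOpenImmersion.lift g b hr) a hj hb0
  refine ⟨c, ⟨hc1, by rw [← Category.assoc, hc2, IsOpenImmersion.lift_fac]⟩, ?_⟩
  rintro a'' ⟨h1, h2⟩
  refine hcu a'' ⟨h1, ?_⟩
  rw [← cancel_mono g, Category.assoc, h2, IsOpenImmersion.lift_fac]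

/-- Two universal thickenings of the same morphism are isomorphic (compatibly). -/
theorem exists_iso_of_isUnivThickening {Z₁' Z₂' : Scheme.{u}} (h : Z ⟶ X)
    (i₁ : Z ⟶ Z₁') (h₁' : Z₁' ⟶ X) (i₂ : Z ⟶ Z₂') (h₂' : Z₂' ⟶ X)
    (hu₁ : OmegaSh.IsUnivThickening h i₁ h₁') (hu₂ : OmegaSh.IsUnivThickening h i₂ h₂') :
    ∃ e : Z₁' ≅ Z₂', i₁ ≫ e.hom = i₂ ∧ e.hom ≫ h₂' = h₁' := by
  obtain ⟨c₁₂, ⟨ha, hb⟩, -⟩ := hu₂.2.2 Z Z₁' i₁ h₁' (𝟙 Z) hu₁.1 (by rw [hu₁.2.1, Category.id_comp])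
  obtain ⟨c₂₁, ⟨hc, hd⟩, -⟩ := hu₁.2.2 Z Z₂' i₂ h₂' (𝟙 Z) hu₂.1 (by rw [hu₂.2.1, Category.id_comp])
  rw [Category.id_comp] at ha hc
  obtain ⟨x, -, hx⟩ := hu₁.2.2 Z Z₁' i₁ h₁' (𝟙 Z) hu₁.1 (by rw [hu₁.2.1, Category.id_comp])
  obtain ⟨y, -, hy⟩ := hu₂.2.2 Z Z₂' i₂ h₂' (𝟙 Z) hu₂.1 (by rw [hu₂.2.1, Category.id_comp])
  refine ⟨⟨c₁₂, c₂₁, ?_, ?_⟩, ha, hb⟩
  · rw [hx (c₁₂ ≫ c₂₁) ⟨by rw [← Category.assoc, ha, hc, Category.id_comp],
      by rw [Category.assoc, hd, hb]⟩, hx (𝟙 _) ⟨by simp, by simp⟩]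
  · rw [hy (c₂₁ ≫ c₁₂) ⟨by rw [← Category.assoc, hc, ha, Category.id_comp],
      by rw [Category.assoc, hb, hd]⟩, hy (𝟙 _) ⟨by simp, by simp⟩]

/-- Restriction of a universal thickening along open immersions forming a pullback square. -/
theorem isUnivThickening_of_isPullback {Z₁ Z₁' : Scheme.{u}} (h : Z ⟶ X) (i : Z ⟶ Z') (h' : Z' ⟶ X)
    (hu : OmegaSh.IsUnivThickening h i h') (g : Z₁ ⟶ Z) (g' : Z₁' ⟶ Z') [IsOpenImmersion g']
    (i₁ : Z₁ ⟶ Z₁') (hpb : IsPullback i₁ g g' i) :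
    OmegaSh.IsUnivThickening (g ≫ h) i₁ (g' ≫ h') := by
  obtain ⟨hi, hc, huniv⟩ := hu
  refine ⟨Groth.Agent.Lib.H4FirstOrderBC.isFirstOrderThickening_of_isPullback hpb hi,
    by rw [← Category.assoc, hpb.w, Category.assoc, hc], fun T T' j b a hj hw => ?_⟩
  obtain ⟨c, ⟨hc1, hc2⟩, hcu⟩ := huniv T T' j b (a ≫ g) hj (by rw [hw, Category.assoc])
  have hsurj : Function.Surjective j := hj.1.2.surj
  have hr : Set.range c ⊆ Set.range g' := by
    rintro _ ⟨t', rfl⟩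
    obtain ⟨t, rfl⟩ := hsurj t'
    have h3 : c (j t) = g' (i₁ (a t)) := by
      have := congrArg (fun φ : T ⟶ Z' => φ t) hc1
      rw [Category.assoc, ← hpb.w] at this
      simpa using this
    rw [h3]
    exact ⟨_, rfl⟩
  refine ⟨IsOpenImmersion.lift g' c hr, ⟨?_, ?_⟩, ?_⟩
  · rw [← cancel_mono g', Category.assoc, IsOpenImmersion.lift_fac, hc1, Category.assoc,
      Category.assoc, hpb.w]
  · rw [← Category.assoc, IsOpenImmersion.lift_fac, hc2]
  · rintro a'' ⟨h1, h2⟩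
    rw [← cancel_mono g', IsOpenImmersion.lift_fac]
    apply hcu
    constructor
    · rw [← Category.assoc, h1, Category.assoc, Category.assoc, hpb.w]
    · rw [Category.assoc, h2]

/-- Transition maps between universal thickenings along an open immersion of the sources are open
immersions. -/
theorem exists_trans_of_isUnivThickening {Z₁ Z₁' Z₂ Z₂' : Scheme.{u}} (g : Z₁ ⟶ Z₂)
    [IsOpenImmersion g] (h₂ : Z₂ ⟶ X) (i₁ : Z₁ ⟶ Z₁') (h₁' : Z₁' ⟶ X)
    (hu₁ : OmegaSh.IsUnivThickening (g ≫ h₂) i₁ h₁')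
    (i₂ : Z₂ ⟶ Z₂') (h₂' : Z₂' ⟶ X) (hu₂ : OmegaSh.IsUnivThickening h₂ i₂ h₂') :
    ∃ τ : Z₁' ⟶ Z₂', IsOpenImmersion τ ∧ i₁ ≫ τ = g ≫ i₂ ∧ τ ≫ h₂' = h₁' := by
  have hopen : IsOpenMap i₂ := isOpenMap_of_isFirstOrderThickening i₂ hu₂.1
  have hcl : IsClosedImmersion i₂ := hu₂.1.1.1
  let V₀ : Z₂'.Opens := ⟨i₂ '' Set.range g, hopen _ g.isOpenEmbedding.isOpen_range⟩
  have hr : Set.range (g ≫ i₂) ⊆ Set.range V₀.ι := by
    rintro _ ⟨z, rfl⟩
    rw [Scheme.Opens.range_ι]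
    exact ⟨g z, ⟨z, rfl⟩, by simp⟩
  let i₀ : Z₁ ⟶ V₀ := IsOpenImmersion.lift V₀.ι (g ≫ i₂) hr
  have hfac : i₀ ≫ V₀.ι = g ≫ i₂ := IsOpenImmersion.lift_fac _ _ _
  have hpre : i₂ ⁻¹ᵁ V₀.ι.opensRange = g.opensRange := by
    rw [Scheme.Opens.opensRange_ι]
    ext z
    constructor
    · rintro ⟨z', hz', e⟩
      have : z' = z := i₂.isClosedEmbedding.injective e
      exact this ▸ hz'
    · intro hz
      exact ⟨z, hz, rfl⟩
  have hpb : IsPullback i₀ g V₀.ι i₂ := IsOpenImmersion.isPullback i₀ g V₀.ι i₂ hfac.symm hpre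
  have hu₀ := isUnivThickening_of_isPullback h₂ i₂ h₂' hu₂ g V₀.ι i₀ hpb
  obtain ⟨e, he1, he2⟩ := exists_iso_of_isUnivThickening (g ≫ h₂) i₁ h₁' i₀ (V₀.ι ≫ h₂') hu₁ hu₀
  refine ⟨e.hom ≫ V₀.ι, inferInstance, ?_, ?_⟩
  · rw [← Category.assoc, he1, hfac]
  · rw [Category.assoc, he2]

end Groth.Agent.Lib.UnivThickLocal24
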