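import Mathlib
import Groth.Prelude.Def_CotT
import Groth.Agent.Lib.Unobs3

/-!
# The obstruction class in `T²` and unobstructedness when `T² = 0` (ring level)
-/

set_option autoImplicit false
set_option linter.unusedVariables false
set_option linter.unusedSectionVars false

universe u

open TensorProduct Function IsLocalRing MvPolynomial

namespace Groth.Agent.Lib.Unobs

section T2

variable {k : Type u} [Field k] {B₀ : Type u} [CommRing B₀] [Algebra k B₀] {ι σ : Type u}
  [Fintype σ] (P : Algebra.Presentation k B₀ ι σ)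
variable {A' A : Type u} [CommRing A'] [CommRing A]
  [IsLocalRing A'] [IsLocalRing A] [Algebra k A'] [Algebra k A] (D : SmallData k A' A)
  (F' : σ → MvPolynomial ι A')
  (hFflat : Module.Flat A
    (MvPolynomial ι A ⧸ Ideal.span (Set.range (fun s => mapP D (F' s)))))
  (hrel : ∀ s, mapR D.res' (F' s) = P.relation s)

/-- the coefficient function of a relation -/
noncomputable def coeffFun (q : CotT.relMod P) : σ → MvPolynomial ι k := fun s => q s

theorem jmap_eq_sum' (q : CotT.relMod P) :
    CotT.jmap P q = ∑ s, q s * CotT.rel P s := by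
  unfold CotT.jmap
  rw [Finsupp.linearCombination_apply]
  exact Finsupp.sum_fintype q (fun i a => a • CotT.rel P i) (fun s => zero_smul _ _)

theorem jmap_eq_sum (q : CotT.relMod P) :
    (CotT.jmap P q : MvPolynomial ι k) = ∑ s, coeffFun P q s * P.relation s :=
  jmap_eq_sum' P q

include hrel in
theorem sum_eq_zero_of_mem_relKer (q : CotT.relKer P) :
    ∑ s, coeffFun P q.1 s * mapR D.res' (F' s) = 0 := by
  have h : (CotT.jmap P q.1 : MvPolynomial ι k) = 0 := q.2
  rw [jmap_eq_sum] at h
  refine Eq.trans ?_ h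
  exact Finset.sum_congr rfl fun s _ => by rw [hrel]

/-- the obstruction of a relation, as an element of `B₀` -/
noncomputable def obFun (q : CotT.relKer P) : B₀ :=
  aeval P.val (Classical.choose (exists_obRel D F' hFflat (coeffFun P q.1)
    (sum_eq_zero_of_mem_relKer P D F' hrel q)))

include hrel in
theorem obFun_eq (q : CotT.relKer P) (w : MvPolynomial ι k)
    (hw : ObRel D F' (coeffFun P q.1) w) : obFun P D F' hFflat hrel q = aeval P.val w := by
  have h1 := Classical.choose_spec (exists_obRel D F' hFflat (coeffFun P q.1)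
    (sum_eq_zero_of_mem_relKer P D F' hrel q))
  have h2 := obRel_sub_mem D F' hFflat _ _ _ h1 hw
  have h3 : (fun s => mapR D.res' (F' s)) = P.relation := funext hrel
  rw [h3, P.span_range_relation_eq_ker, P.ker_eq_ker_aeval_val, RingHom.mem_ker, map_sub,
    sub_eq_zero] at h2
  exact h2

theorem obFun_spec (q : CotT.relKer P) :
    ∃ w, ObRel D F' (coeffFun P q.1) w ∧ obFun P D F' hFflat hrel q = aeval P.val w :=
  ⟨_, Classical.choose_spec (exists_obRel D F' hFflat (coeffFun P q.1)
    (sum_eq_zero_of_mem_relKer P D F' hrel q)), rfl⟩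

/-- the obstruction as a linear map on the module of relations -/
noncomputable def obLin : CotT.relKer P →ₗ[P.toExtension.Ring] B₀ where
  toFun := obFun P D F' hFflat hrel
  map_add' q₁ q₂ := by
    obtain ⟨w₁, h₁, e₁⟩ := obFun_spec P D F' hFflat hrel q₁
    obtain ⟨w₂, h₂, e₂⟩ := obFun_spec P D F' hFflat hrel q₂
    have h := obRel_add D F' _ _ _ _ h₁ h₂
    rw [obFun_eq P D F' hFflat hrel (q₁ + q₂) (w₁ + w₂) h, e₁, e₂, map_add]
  map_smul' g q := by
    obtain ⟨w, h₁, e₁⟩ := obFun_spec P D F' hFflat hrel q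
    let g' : MvPolynomial ι k := g
    have h := obRel_smul D F' g' _ _ h₁
    have h2 : obFun P D F' hFflat hrel (g • q) = aeval P.val (g' * w) :=
      obFun_eq P D F' hFflat hrel (g • q) (g' * w) h
    rw [h2, e₁, map_mul, RingHom.id_apply, Algebra.smul_def, CotT.algebraMap_toExtension]

theorem obLin_apply (q : CotT.relKer P) :
    obLin P D F' hFflat hrel q = obFun P D F' hFflat hrel q := rfl

include hrel in
theorem obLin_eq_zero_of_mem_trivRel (q : CotT.relKer P) (hq : q.1 ∈ CotT.trivRel P) :
    obLin P D F' hFflat hrel q = 0 := by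
  have key : ∀ x (hx : x ∈ CotT.trivRel P),
      obLin P D F' hFflat hrel ⟨x, CotT.trivRel_le_relKer P hx⟩ = 0 := by
    intro x hx
    unfold CotT.trivRel at hx
    refine Submodule.span_induction (p := fun x hx => obLin P D F' hFflat hrel
      ⟨x, CotT.trivRel_le_relKer P hx⟩ = 0) ?_ ?_ ?_ ?_ hx
    · rintro _ ⟨a, b, rfl⟩
      rw [obLin_apply]
      have h := obRel_triv D F' (coeffFun P a) (coeffFun P b)
      have h2 : (fun s => (∑ u, coeffFun P a u * mapR D.res' (F' u)) * coeffFun P b s -
          (∑ u, coeffFun P b u * mapR D.res' (F' u)) * coeffFun P a s) =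
          coeffFun P (CotT.jmap P a • b - CotT.jmap P b • a) := by
        funext s
        have ha : (∑ u, coeffFun P a u * mapR D.res' (F' u)) = CotT.jmap P a := by
          rw [jmap_eq_sum]
          exact Finset.sum_congr rfl fun u _ => by rw [hrel]
        have hb : (∑ u, coeffFun P b u * mapR D.res' (F' u)) = CotT.jmap P b := by
          rw [jmap_eq_sum]
          exact Finset.sum_congr rfl fun u _ => by rw [hrel]
        rw [ha, hb]
        rfl
      rw [h2] at h
      rw [obFun_eq P D F' hFflat hrel _ 0 h, map_zero]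
    · exact map_zero _
    · intro x y hx hy h1 h2
      have : (⟨x + y, CotT.trivRel_le_relKer P (Submodule.add_mem _ hx hy)⟩ : CotT.relKer P) =
          ⟨x, CotT.trivRel_le_relKer P hx⟩ + ⟨y, CotT.trivRel_le_relKer P hy⟩ := rfl
      rw [this, map_add, h1, h2, add_zero]
    · intro g x hx h1
      have : (⟨g • x, CotT.trivRel_le_relKer P (Submodule.smul_mem _ g hx)⟩ : CotT.relKer P) =
          g • ⟨x, CotT.trivRel_le_relKer P hx⟩ := rfl
      rw [this, map_smul, h1, smul_zero]
  exact key q.1 hq

/-- the obstruction as a `B₀`-linear map on `L₂` -/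
noncomputable def obL2 : CotT.L2 P →ₗ[B₀] B₀ :=
  Submodule.liftQ _ (LinearMap.liftBaseChange B₀ (obLin P D F' hFflat hrel)) (by
    rw [LinearMap.range_le_ker_iff]
    refine TensorProduct.AlgebraTensorModule.ext fun b z => ?_
    simp only [LinearMap.coe_comp, Function.comp_apply, LinearMap.baseChange_tmul,
      Submodule.coe_subtype, LinearMap.zero_apply, LinearMap.liftBaseChange_tmul]
    have hz : ((z : CotT.relKer P) : CotT.relMod P) ∈ CotT.trivRel P := z.2
    rw [obLin_eq_zero_of_mem_trivRel P D F' hFflat hrel _ hz, smul_zero])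

theorem obL2_mk_tmul (q : CotT.relKer P) :
    obL2 P D F' hFflat hrel (Submodule.Quotient.mk ((1 : B₀) ⊗ₜ q)) =
      obFun P D F' hFflat hrel q := by
  unfold obL2
  rw [Submodule.liftQ_apply, LinearMap.liftBaseChange_tmul, one_smul]
  rfl

include hFflat hrel in
/-- if `T² = 0` the obstruction is a coboundary -/
theorem exists_correction (hT2 : Subsingleton (CotT.T2 P B₀)) :
    ∃ c : σ → MvPolynomial ι k, ∀ (q : σ → MvPolynomial ι k) (w : MvPolynomial ι k),
      ∑ s, q s * mapR D.res' (F' s) = 0 → ObRel D F' q w →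
        w - ∑ s, q s * c s ∈ Ideal.span (Set.range (fun s => mapR D.res' (F' s))) := by
  classical
  have h0 : CotT.toT2 P B₀ (obL2 P D F' hFflat hrel) = 0 := Subsingleton.elim _ _
  unfold CotT.toT2 at h0
  rw [Submodule.mkQ_apply, Submodule.Quotient.mk_eq_zero] at h0
  obtain ⟨φ, hφ⟩ := h0
  rw [CotT.d2Star_apply] at hφ
  choose c hc using fun s => P.aeval_val_surjective
    (φ ((1 : B₀) ⊗ₜ (Finsupp.single s 1 : CotT.relMod P)))
  refine ⟨c, fun q w hq hw => ?_⟩
  let qf : CotT.relMod P := Finsupp.equivFunOnFinite.symm q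
  have hqf : coeffFun P qf = q := by
    funext s
    rfl
  have hqk : qf ∈ CotT.relKer P := by
    change CotT.jmap P qf = 0
    have h1 := jmap_eq_sum P qf
    rw [hqf] at h1
    refine h1.trans (Eq.trans ?_ hq)
    exact Finset.sum_congr rfl fun s _ => by rw [hrel]
  let qk : CotT.relKer P := ⟨qf, hqk⟩
  have hw' : ObRel D F' (coeffFun P qk.1) w := by
    change ObRel D F' (coeffFun P qf) w
    rw [hqf]
    exact hw
  have e1 : obFun P D F' hFflat hrel qk = aeval P.val w := obFun_eq P D F' hFflat hrel qk w hw'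
  have e2 : obFun P D F' hFflat hrel qk = φ ((1 : B₀) ⊗ₜ qf) := by
    rw [← obL2_mk_tmul, ← hφ, LinearMap.comp_apply, CotT.d2_mk_tmul]
  have e3 : qf = ∑ s, (qf s) • (Finsupp.single s 1 : CotT.relMod P) := by
    conv_lhs => rw [← Finsupp.univ_sum_single qf]
    exact Finset.sum_congr rfl fun s _ => (Finsupp.smul_single_one s (qf s)).symm
  have e4 : φ ((1 : B₀) ⊗ₜ qf) = aeval P.val (∑ s, q s * c s) := by
    conv_lhs => rw [e3]
    rw [TensorProduct.tmul_sum, map_sum, map_sum]
    refine Finset.sum_congr rfl fun s _ => ?_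
    rw [TensorProduct.tmul_smul, LinearMap.map_smul_of_tower, map_mul, hc, Algebra.smul_def,
      CotT.algebraMap_toExtension]
    rfl
  have e5 : aeval P.val (w - ∑ s, q s * c s) = 0 := by
    rw [map_sub, ← e1, e2, e4, sub_self]
  have h3 : (fun s => mapR D.res' (F' s)) = P.relation := funext hrel
  rw [h3, P.span_range_relation_eq_ker, P.ker_eq_ker_aeval_val, RingHom.mem_ker]
  exact e5

end T2

end Groth.Agent.Lib.Unobs
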