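import Mathlib
import Groth.Agent.Lib.Unobs4

/-!
# Unobstructedness when `T² = 0` (ring level): lifting a flat deformation along a small extension
-/

set_option autoImplicit false
set_option linter.unusedVariables false
set_option linter.unusedSectionVars false

universe u

open TensorProduct Function IsLocalRing MvPolynomial

namespace Groth.Agent.Lib.Unobs

section Main

variable {k : Type u} [Field k] {B₀ : Type u} [CommRing B₀] [Algebra k B₀] {ι σ : Type u}
  [Fintype σ] (P : Algebra.Presentation k B₀ ι σ)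
variable {A' A : Type u} [CommRing A'] [CommRing A]
  [IsLocalRing A'] [IsLocalRing A] [Algebra k A'] [Algebra k A] (D : SmallData k A' A)
variable {R : Type u} [CommRing R] (φ : A →+* R) (hflat : φ.Flat) (π : R →+* B₀)
  (hcomm : ∀ a, π (φ a) = algebraMap k B₀ (D.res a)) (hπ : Surjective π)
  (hker : RingHom.ker π = (maximalIdeal A).map φ)

set_option maxHeartbeats 800000 in
include hflat hcomm hπ hker in
theorem exists_lift_of_T2 (hT2 : Subsingleton (CotT.T2 P B₀)) :
    ∃ (R' : Type u) (_ : CommRing R') (φ' : A' →+* R') (π' : R' →+* B₀) (ρ : R' →+* R),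
      φ'.Flat ∧ Surjective π' ∧ RingHom.ker π' = (maximalIdeal A').map φ' ∧
      (∀ a, π' (φ' a) = algebraMap k B₀ (D.res' a)) ∧ (∀ a, ρ (φ' a) = φ (D.p a)) ∧
      (∀ r, π (ρ r) = π' r) := by
  classical
  obtain ⟨Φ, F, hΦs, hΦC, hπΦ, hkerΦ, hFrel, hFfl⟩ :=
    exists_presentation P D.res D.ker_res D.nilA φ hflat π hcomm hπ hker
  choose F' hF' using fun s => mapP_surjective (ι := ι) D (F s)
  have hFF : (fun s => mapP D (F' s)) = F := funext hF'
  have hFflat : Module.Flat A
      (MvPolynomial ι A ⧸ Ideal.span (Set.range (fun s => mapP D (F' s)))) := by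
    rw [hFF]
    exact hFfl
  have hrel : ∀ s, mapR D.res' (F' s) = P.relation s := fun s => by
    rw [← mapR_mapP, hF', hFrel]
  obtain ⟨c, hc⟩ := exists_correction P D F' hFflat hrel hT2
  have hflat'' := flat_of_correction D F' hFflat c hc
  let F'' : σ → MvPolynomial ι A' := fun s => F' s - C D.t * liftA A' (c s)
  have hF''R : ∀ s, mapR D.res' (F'' s) = P.relation s := fun s => by
    change mapR D.res' (F' s - C D.t * liftA A' (c s)) = _
    rw [map_sub, mapR'_C_t_mul, sub_zero, hrel]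
  have hF''P : ∀ s, mapP D (F'' s) = F s := fun s => by
    change mapP D (F' s - C D.t * liftA A' (c s)) = _
    rw [map_sub, mapP_C_t_mul, sub_zero, hF']
  let J : Ideal (MvPolynomial ι A') := Ideal.span (Set.range F'')
  let π₀ : MvPolynomial ι A' →+* B₀ :=
    ((aeval P.val : MvPolynomial ι k →ₐ[k] B₀) : _ →+* _).comp (mapR D.res')
  have hπ₀ : ∀ q ∈ J, π₀ q = 0 := by
    intro q hq
    have hle : J ≤ RingHom.ker π₀ := by
      rw [Ideal.span_le]
      rintro _ ⟨s, rfl⟩
      rw [SetLike.mem_coe, RingHom.mem_ker]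
      change aeval P.val (mapR D.res' (F'' s)) = 0
      rw [hF''R]
      exact P.aeval_val_relation s
    exact hle hq
  let ρ₀ : MvPolynomial ι A' →+* R := Φ.comp (mapP D)
  have hρ₀ : ∀ q ∈ J, ρ₀ q = 0 := by
    intro q hq
    have hle : J ≤ RingHom.ker ρ₀ := by
      rw [Ideal.span_le]
      rintro _ ⟨s, rfl⟩
      rw [SetLike.mem_coe, RingHom.mem_ker]
      change Φ (mapP D (F'' s)) = 0
      rw [hF''P, ← RingHom.mem_ker, hkerΦ]
      exact Ideal.subset_span ⟨s, rfl⟩
    exact hle hq
  let π' : (MvPolynomial ι A' ⧸ J) →+* B₀ := Ideal.Quotient.lift J π₀ hπ₀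
  let ρ : (MvPolynomial ι A' ⧸ J) →+* R := Ideal.Quotient.lift J ρ₀ hρ₀
  have hπ'mk : ∀ q, π' (Ideal.Quotient.mk J q) = aeval P.val (mapR D.res' q) := fun q =>
    Ideal.Quotient.lift_mk J π₀ hπ₀
  have hρmk : ∀ q, ρ (Ideal.Quotient.mk J q) = Φ (mapP D q) := fun q =>
    Ideal.Quotient.lift_mk J ρ₀ hρ₀
  have halg : ∀ a : A', algebraMap A' (MvPolynomial ι A' ⧸ J) a = Ideal.Quotient.mk J (C a) :=
    fun a => rfl
  have hres'surj : Surjective (D.res' : A' →+* k) := fun c =>
    ⟨algebraMap k A' c, by simp⟩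
  refine ⟨MvPolynomial ι A' ⧸ J, inferInstance, algebraMap A' (MvPolynomial ι A' ⧸ J), π', ρ,
    ?_, ?_, ?_, ?_, ?_, ?_⟩
  · rw [RingHom.flat_algebraMap_iff]
    exact hflat''
  · intro b
    obtain ⟨qb, rfl⟩ := P.aeval_val_surjective b
    obtain ⟨q, rfl⟩ := MvPolynomial.map_surjective (D.res' : A' →+* k) hres'surj qb
    exact ⟨Ideal.Quotient.mk J q, hπ'mk q⟩
  · apply le_antisymm
    · intro r hr
      obtain ⟨q, rfl⟩ := Ideal.Quotient.mk_surjective r
      rw [RingHom.mem_ker, hπ'mk] at hr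
      have h1 : mapR D.res' q ∈ Ideal.span (Set.range P.relation) := by
        rw [P.span_range_relation_eq_ker, P.ker_eq_ker_aeval_val, RingHom.mem_ker]
        exact hr
      rw [Ideal.mem_span_range_iff_exists_fun] at h1
      obtain ⟨h, hh⟩ := h1
      have h2 : q - ∑ s, liftA A' (h s) * F'' s ∈ RingHom.ker (mapR (ι := ι) D.res') := by
        rw [RingHom.mem_ker, map_sub, map_sum, ← hh, sub_eq_zero]
        refine Finset.sum_congr rfl fun s _ => ?_
        rw [map_mul, mapR_liftA, hF''R]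
      rw [ker_mapR D.res' D.ker_res'] at h2
      have h3 : Ideal.Quotient.mk J q = Ideal.Quotient.mk J (q - ∑ s, liftA A' (h s) * F'' s) := by
        rw [Ideal.Quotient.eq]
        have : q - (q - ∑ s, liftA A' (h s) * F'' s) = ∑ s, liftA A' (h s) * F'' s := by ring
        rw [this]
        exact Ideal.sum_mem _ fun s _ => Ideal.mul_mem_left _ _ (Ideal.subset_span ⟨s, rfl⟩)
      rw [h3]
      have h4 := Ideal.mem_map_of_mem (Ideal.Quotient.mk J) h2
      rw [Ideal.map_map] at h4
      exact h4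
    · rw [Ideal.map_le_iff_le_comap]
      intro a ha
      rw [Ideal.mem_comap, RingHom.mem_ker, halg, hπ'mk]
      rw [← D.ker_res', RingHom.mem_ker] at ha
      unfold mapR
      rw [MvPolynomial.map_C, ha, map_zero, map_zero]
  · intro a
    rw [halg, hπ'mk]
    unfold mapR
    rw [MvPolynomial.map_C, aeval_C]
    rfl
  · intro a
    rw [halg, hρmk]
    unfold mapP
    rw [MvPolynomial.map_C, hΦC]
    rfl
  · intro r
    obtain ⟨q, rfl⟩ := Ideal.Quotient.mk_surjective r
    rw [hρmk, hπΦ, mapR_mapP, hπ'mk]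

end Main

end Groth.Agent.Lib.Unobs
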