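import Mathlib
import Groth.Agent.Lib.UnramSplit61b

/-!
# Finite unramified algebras are étale locally finite products of quotients (helper61)

`split_finite`: for `R → T` finite and formally unramified and a prime `p` of `R` there are an étale
`R`-algebra `L`, a prime of `L` over `p` and an isomorphism `L ⊗[R] T ≃ Π j : Fin n, A j` with all
`L → A j` surjective.  `exists_isIso_sigma_Spec_pi`: `∐ Spec (A j) ≅ Spec (Π A j)` for families
indexed by `Fin n` in any universe.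
-/

universe u
open TensorProduct CategoryTheory CategoryTheory.Limits AlgebraicGeometry

namespace Groth.Agent.Lib.UnramSplit61c

open Groth.Agent.Lib.UnramSplit61b

/-- Finite unramified algebras are étale locally (around a prime of the base) finite products of
quotients of the base. -/
theorem split_finite (R T : Type u) [CommRing R] [CommRing T] [Algebra R T] [Module.Finite R T]
    [Algebra.FormallyUnramified R T] (p : Ideal R) [p.IsPrime] :
    ∃ (L : Type u) (_ : CommRing L) (_ : Algebra R L) (_ : Algebra.Etale R L) (pL : Ideal L)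
      (_ : pL.IsPrime) (_ : pL.LiesOver p) (n : ℕ) (A : Fin n → Type u) (_ : ∀ i, CommRing (A i))
      (_ : ∀ i, Algebra L (A i)),
      Nonempty ((L ⊗[R] T) ≃ₐ[L] (∀ i, A i)) ∧ ∀ i, Function.Surjective (algebraMap L (A i)) := by
  have hun : Algebra.Unramified R T := {}
  obtain ⟨R', _, _, het, p', _, hlies, ι, _, K, B, _, _, ⟨e⟩, hK, hB⟩ := split_of_unramified R T p
  -- `B` is finite over `R'`
  let π : R' ⊗[R] T →ₐ[R'] B := (AlgHom.snd R' _ B).comp e.toAlgHom
  have hπ : Function.Surjective π := by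
    intro b
    exact ⟨e.symm (0, b), by simp [π]⟩
  have hfinB : Module.Finite R' B := Module.Finite.of_surjective π.toLinearMap hπ
  -- an element of the kernel of `R' → B` outside `p'`
  have hex : ∃ g ∈ RingHom.ker (algebraMap R' B), g ∉ p' := by
    by_contra hcon
    push Not at hcon
    obtain ⟨Q, -, hQprime, hQ⟩ :=
      Ideal.exists_ideal_over_prime_of_isIntegral (R := R') (S := B) p' ⊥ hcon
    exact hB Q hQ
  obtain ⟨g, hg0, hgp⟩ := hex
  rw [RingHom.mem_ker] at hg0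
  -- reindex
  let n := Nat.card ι
  let eqv : ι ≃ Fin n := Finite.equivFin ι
  let c₀ : (∀ i, R' ⧸ K i) ≃ₐ[R'] (∀ j, R' ⧸ K (eqv.symm j)) :=
    AlgEquiv.piCongrLeft' R' (fun i => R' ⧸ K i) eqv
  let e' : R' ⊗[R] T ≃ₐ[R'] ((∀ j : Fin n, R' ⧸ K (eqv.symm j)) × B) :=
    e.trans (AlgEquiv.prodCongr c₀ AlgEquiv.refl)
  -- the localisation
  let L := Localization.Away g
  have hdisj : Disjoint (Submonoid.powers g : Set R') (p' : Set R') := by
    rw [Ideal.disjoint_powers_iff_notMem_of_isPrime]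
    exact hgp
  let pL : Ideal L := p'.map (algebraMap R' L)
  have hpL : pL.IsPrime :=
    IsLocalization.isPrime_of_isPrime_disjoint (Submonoid.powers g) _ p' inferInstance hdisj
  have hpLcomap : pL.comap (algebraMap R' L) = p' :=
    IsLocalization.under_map_of_isPrime_disjoint (Submonoid.powers g) _ inferInstance hdisj
  have hl1 : pL.LiesOver p' := ⟨hpLcomap.symm⟩
  have hl2 : pL.LiesOver p := .trans pL p' p
  have hetL : Algebra.Etale R L := Algebra.Etale.comp R R' L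
  have hsub : Subsingleton (L ⊗[R'] B) := by
    obtain ⟨v, hv⟩ := (IsLocalization.Away.algebraMap_isUnit (S := L) g).exists_right_inv
    refine subsingleton_of_zero_eq_one ?_
    have h1 : (1 : L ⊗[R'] B) = (algebraMap R' L g * v) ⊗ₜ[R'] (1 : B) := by
      rw [hv]; rfl
    rw [h1, ← Algebra.smul_def, TensorProduct.smul_tmul, Algebra.smul_def, hg0, zero_mul,
      TensorProduct.tmul_zero]
  -- the chain
  let c₁ : L ⊗[R] T ≃ₐ[L] L ⊗[R'] (R' ⊗[R] T) :=
    (Algebra.TensorProduct.cancelBaseChange R R' L L T).symm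
  let c₂ : L ⊗[R'] (R' ⊗[R] T) ≃ₐ[L] L ⊗[R'] ((∀ j : Fin n, R' ⧸ K (eqv.symm j)) × B) :=
    Algebra.TensorProduct.congr AlgEquiv.refl e'
  let c₃ : L ⊗[R'] ((∀ j : Fin n, R' ⧸ K (eqv.symm j)) × B) ≃ₐ[L]
      ((L ⊗[R'] (∀ j : Fin n, R' ⧸ K (eqv.symm j))) × (L ⊗[R'] B)) :=
    Algebra.TensorProduct.prodRight R' L L _ B
  have hbij : Function.Bijective
      (AlgHom.fst L (L ⊗[R'] (∀ j : Fin n, R' ⧸ K (eqv.symm j))) (L ⊗[R'] B)) := by
    refine ⟨?_, fun x => ⟨(x, 0), rfl⟩⟩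
    rintro ⟨x, y⟩ ⟨x', y'⟩ h
    exact Prod.ext h (Subsingleton.elim _ _)
  let c₄ : ((L ⊗[R'] (∀ j : Fin n, R' ⧸ K (eqv.symm j))) × (L ⊗[R'] B)) ≃ₐ[L]
      (L ⊗[R'] (∀ j : Fin n, R' ⧸ K (eqv.symm j))) :=
    AlgEquiv.ofBijective _ hbij
  let c₅ : L ⊗[R'] (∀ j : Fin n, R' ⧸ K (eqv.symm j)) ≃ₐ[L]
      (∀ j : Fin n, L ⊗[R'] (R' ⧸ K (eqv.symm j))) :=
    Algebra.TensorProduct.piRight R' L L (fun j : Fin n => R' ⧸ K (eqv.symm j))
  refine ⟨L, inferInstance, inferInstance, hetL, pL, hpL, hl2, n,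
    fun j => L ⊗[R'] (R' ⧸ K (eqv.symm j)), inferInstance, inferInstance,
    ⟨(((c₁.trans c₂).trans c₃).trans c₄).trans c₅⟩, ?_⟩
  intro j
  exact Algebra.TensorProduct.includeLeft_surjective (R := R') (T := R' ⧸ K (eqv.symm j)) L L
    Ideal.Quotient.mk_surjective

/-- For a family of rings indexed by `Fin n`, `∐ Spec (A j) ≅ Spec (Π A j)`, compatibly with the
evaluation maps. -/
lemma exists_isIso_sigma_Spec_pi {n : ℕ} (A : Fin n → Type u) [∀ j, CommRing (A j)] :
    ∃ Θ : (∐ fun j => Spec (CommRingCat.of (A j))) ⟶ Spec (CommRingCat.of (∀ j, A j)),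
      IsIso Θ ∧ ∀ j, Sigma.ι (fun j => Spec (CommRingCat.of (A j))) j ≫ Θ =
        Spec.map (CommRingCat.ofHom (Pi.evalRingHom A j)) := by
  let ε : ULift.{u} (Fin n) ≃ Fin n := Equiv.ulift
  let V : Fin n → Scheme.{u} := fun j => Spec (CommRingCat.of (A j))
  let R' : ULift.{u} (Fin n) → CommRingCat.{u} := fun i => CommRingCat.of (A i.down)
  let ρ : (∀ j, A j) →+* (∀ i : ULift.{u} (Fin n), A i.down) :=
    RingHom.pi (fun i => Pi.evalRingHom A i.down)
  have hρ : Function.Bijective ρ := by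
    constructor
    · intro x y h
      funext j
      exact congrFun h ⟨j⟩
    · intro y
      exact ⟨fun j => y ⟨j⟩, rfl⟩
  have hρiso : IsIso (CommRingCat.ofHom ρ) :=
    ((RingEquiv.ofBijective ρ hρ).toCommRingCatIso).isIso_hom
  have h2 : IsIso (Spec.map (CommRingCat.ofHom ρ)) := inferInstance
  let σ' : (∐ (V ∘ ε)) ⟶ Spec (CommRingCat.of (∀ i : ULift.{u} (Fin n), A i.down)) :=
    sigmaSpec R'
  have h3 : IsIso σ' := inferInstanceAs (IsIso (sigmaSpec R'))
  have h23 : IsIso (σ' ≫ Spec.map (CommRingCat.ofHom ρ)) := IsIso.comp_isIso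
  refine ⟨(Sigma.reindex ε V).inv ≫ σ' ≫ Spec.map (CommRingCat.ofHom ρ), IsIso.comp_isIso, ?_⟩
  intro j
  have h4 : Sigma.ι V j ≫ (Sigma.reindex ε V).inv = Sigma.ι (V ∘ ε) ⟨j⟩ :=
    Sigma.ι_reindex_inv ε V ⟨j⟩
  have h5 : Sigma.ι (V ∘ ε) ⟨j⟩ ≫ σ' =
      Spec.map (CommRingCat.ofHom (Pi.evalRingHom (fun i : ULift.{u} (Fin n) => A i.down) ⟨j⟩)) :=
    ι_sigmaSpec R' ⟨j⟩
  have e1 := congrArg (fun t => t ≫ σ' ≫ Spec.map (CommRingCat.ofHom ρ)) h4
  have e2 := congrArg (fun t => t ≫ Spec.map (CommRingCat.ofHom ρ)) h5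
  simp only [Category.assoc] at e1 e2
  refine e1.trans (e2.trans ?_)
  exact (Spec.map_comp (CommRingCat.ofHom ρ) (CommRingCat.ofHom
    (Pi.evalRingHom (fun i : ULift.{u} (Fin n) => A i.down) ⟨j⟩))).symm

end Groth.Agent.Lib.UnramSplit61c
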