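import Mathlib

set_option autoImplicit false
universe u
open IsLocalRing

namespace Groth.Agent.Lib.ValChainH52

section compVal

variable {K : Type u} [Field K]

/-- Composite of a valuation subring `A` of `K` with a valuation subring `B` of the residue field
of `A`: the elements of `A` whose residue class lies in `B`. -/
noncomputable def compVal (A : ValuationSubring K) (B : ValuationSubring (ResidueField A)) :
    ValuationSubring K :=
  { (B.toSubring.comap (residue A)).map A.subtype with
    mem_or_inv_mem' := by
      have key : ∀ x : K, x ∈ A → (x ∈ (B.toSubring.comap (residue A)).map A.subtype ∨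
          x⁻¹ ∈ (B.toSubring.comap (residue A)).map A.subtype) := by
        intro x hx
        let a : A := ⟨x, hx⟩
        by_cases ha : IsUnit a
        · rcases B.mem_or_inv_mem (residue A a) with h | h
          · exact Or.inl ⟨a, h, rfl⟩
          · refine Or.inr ⟨((ha.unit⁻¹ : Aˣ) : A), ?_, ?_⟩
            · show residue A ((ha.unit⁻¹ : Aˣ) : A) ∈ B
              have h1 : residue A a * residue A ((ha.unit⁻¹ : Aˣ) : A) = 1 := by
                rw [← map_mul]
                have : a * ((ha.unit⁻¹ : Aˣ) : A) = 1 := ha.mul_val_inv
                rw [this, map_one]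
              rw [eq_inv_of_mul_eq_one_right h1]
              exact h
            · have h1 : a * ((ha.unit⁻¹ : Aˣ) : A) = 1 := ha.mul_val_inv
              have h2 : x * ((((ha.unit⁻¹ : Aˣ) : A) : K)) = 1 := by
                calc x * ((((ha.unit⁻¹ : Aˣ) : A) : K))
                    = ((a * ((ha.unit⁻¹ : Aˣ) : A) : A) : K) := rfl
                  _ = ((1 : A) : K) := by rw [h1]
                  _ = 1 := rfl
              exact eq_inv_of_mul_eq_one_right h2
        · refine Or.inl ⟨a, ?_, rfl⟩
          show residue A a ∈ B
          have : residue A a = 0 := (residue_eq_zero_iff a).mpr ((mem_maximalIdeal a).mpr ha)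
          rw [this]
          exact B.zero_mem
      intro x
      rcases A.mem_or_inv_mem x with hx | hx
      · exact key x hx
      · have := (key x⁻¹ hx).symm
        rwa [inv_inv] at this }

theorem mem_compVal {A : ValuationSubring K} {B : ValuationSubring (ResidueField A)} {x : K} :
    x ∈ compVal A B ↔ ∃ a : A, residue A a ∈ B ∧ (a : K) = x := by
  show x ∈ (B.toSubring.comap (residue A)).map A.subtype ↔ _
  rw [Subring.mem_map]
  constructor
  · rintro ⟨a, ha, rfl⟩; exact ⟨a, ha, rfl⟩
  · rintro ⟨a, ha, rfl⟩; exact ⟨a, ha, rfl⟩

theorem compVal_le (A : ValuationSubring K) (B : ValuationSubring (ResidueField A)) :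
    compVal A B ≤ A := by
  intro x hx
  obtain ⟨a, -, rfl⟩ := mem_compVal.mp hx
  exact a.2

/-- the projection of the composite onto the second valuation ring -/
noncomputable def compValProj (A : ValuationSubring K) (B : ValuationSubring (ResidueField A)) :
    ↥(compVal A B) →+* ↥B :=
  ((residue A).comp (Subring.inclusion (compVal_le A B))).codRestrict B.toSubring (by
    intro x
    obtain ⟨a, ha, hax⟩ := mem_compVal.mp x.2
    have : (Subring.inclusion (compVal_le A B)) x = a := Subtype.ext hax.symm
    show residue A ((Subring.inclusion (compVal_le A B)) x) ∈ B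
    rw [this]
    exact ha)

theorem compValProj_apply (A : ValuationSubring K) (B : ValuationSubring (ResidueField A))
    (x : ↥(compVal A B)) :
    ((compValProj A B x : ↥B) : ResidueField A) = residue A ⟨x.1, compVal_le A B x.2⟩ := rfl

end compVal

/-- Ring-level realization of a chain of primes by a valuation ring: if `φ : R → k` is a ring map
to a field whose kernel is the first member of a chain of primes `P 0 ≤ ⋯ ≤ P n`, there is a
valuation subring `B` of `k` containing `φ R` with a chain of primes lying over the `P i`. -/
theorem exists_valuationSubring_of_chain (n : ℕ) :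
    ∀ {R : Type u} [CommRing R] (k : Type u) [Field k] (φ : R →+* k)
      (P : Fin (n + 1) → PrimeSpectrum R) (_ : ∀ i j, i ≤ j → P i ≤ P j)
      (_ : RingHom.ker φ = (P 0).asIdeal),
      ∃ (B : ValuationSubring k) (hB : ∀ r, φ r ∈ B) (q : Fin (n + 1) → PrimeSpectrum B),
        (∀ i j, i ≤ j → q i ≤ q j) ∧
        ∀ i, PrimeSpectrum.comap (φ.codRestrict B.toSubring hB) (q i) = P i := by
  induction n with
  | zero =>
    intro R _ k _ φ P hP h0
    refine ⟨⊤, fun r => trivial, fun _ => ⟨⊥, Ideal.isPrime_bot⟩, fun _ _ _ => le_rfl, ?_⟩
    intro i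
    have hi : i = 0 := by
      ext
      have := i.2
      simp only [Fin.val_zero]
      omega
    subst hi
    apply PrimeSpectrum.ext
    rw [← h0]
    ext r
    simp only [PrimeSpectrum.comap_asIdeal, Ideal.mem_comap, Ideal.mem_bot, RingHom.mem_ker]
    constructor
    · intro h; exact congrArg Subtype.val h
    · intro h; exact Subtype.ext h
  | succ n ih =>
    intro R _ k _ φ P hP h0
    let P₁ := P 1
    let S := Localization.AtPrime P₁.asIdeal
    have hunit : ∀ y : P₁.asIdeal.primeCompl, IsUnit (φ y) := by
      intro y
      rw [isUnit_iff_ne_zero]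
      intro hy
      have h1 : (y : R) ∈ (P 0).asIdeal := by rw [← h0]; exact hy
      exact y.2 (hP 0 1 (Fin.zero_le _) h1)
    let φ₁ : S →+* k := IsLocalization.lift (M := P₁.asIdeal.primeCompl) hunit
    have hφ₁ : ∀ r, φ₁ (algebraMap R S r) = φ r := fun r => IsLocalization.lift_eq hunit r
    obtain ⟨A₁, hA₁, hloc⟩ := IsLocalRing.exists_factor_valuationRing φ₁
    have hφA : ∀ r, φ r ∈ A₁ := fun r => by rw [← hφ₁]; exact hA₁ _
    let ψ : R →+* A₁ := φ.codRestrict A₁.toSubring hφA
    let θ : S →+* ↥A₁ := φ₁.codRestrict A₁.toSubring hA₁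
    have hloc' : IsLocalHom θ := hloc
    have hψ : ψ = θ.comp (algebraMap R S) := by
      ext r
      exact (hφ₁ r).symm
    have hcomap : Ideal.comap ψ (maximalIdeal A₁) = P₁.asIdeal := by
      rw [hψ, ← Ideal.comap_comap]
      have h1 : Ideal.comap θ (maximalIdeal A₁) = maximalIdeal S :=
        ((local_hom_TFAE θ).out 0 4).mp hloc'
      rw [h1]
      exact Localization.AtPrime.under_maximalIdeal
    let φ' : R →+* ResidueField A₁ := (residue A₁).comp ψ
    have hker' : RingHom.ker φ' = (P (Fin.succ 0)).asIdeal := by
      show RingHom.ker ((residue A₁).comp ψ) = _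
      rw [← RingHom.comap_ker, ker_residue]
      exact hcomap
    obtain ⟨B', hB', q', hq', hcomap'⟩ := ih (ResidueField A₁) φ' (fun i => P i.succ)
      (fun i j hij => hP _ _ (Fin.succ_le_succ_iff.mpr hij)) hker'
    have hB : ∀ r, φ r ∈ compVal A₁ B' := fun r => mem_compVal.mpr ⟨ψ r, hB' r, rfl⟩
    let π := compValProj A₁ B'
    have hπ : π.comp (φ.codRestrict (compVal A₁ B').toSubring hB) =
        φ'.codRestrict B'.toSubring hB' := by
      ext r
      rfl
    refine ⟨compVal A₁ B', hB,
      Fin.cons ⟨⊥, Ideal.isPrime_bot⟩ (fun i => PrimeSpectrum.comap π (q' i)), ?_, ?_⟩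
    · intro i j hij
      cases i using Fin.cases with
      | zero =>
        rw [Fin.cons_zero]
        exact bot_le (a := (Fin.cons (α := fun _ => PrimeSpectrum ↥(compVal A₁ B'))
          ⟨⊥, Ideal.isPrime_bot⟩ (fun i => PrimeSpectrum.comap π (q' i)) j).asIdeal)
      | succ i =>
        cases j using Fin.cases with
        | zero => exact absurd hij (by simp [Fin.succ_ne_zero])
        | succ j =>
          rw [Fin.cons_succ, Fin.cons_succ]
          have := hq' i j (Fin.succ_le_succ_iff.mp hij)
          exact Ideal.comap_mono this
    · intro i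
      cases i using Fin.cases with
      | zero =>
        rw [Fin.cons_zero]
        apply PrimeSpectrum.ext
        rw [← h0]
        ext r
        simp only [PrimeSpectrum.comap_asIdeal, Ideal.mem_comap, Ideal.mem_bot, RingHom.mem_ker]
        constructor
        · intro h; exact congrArg Subtype.val h
        · intro h; exact Subtype.ext h
      | succ i =>
        rw [Fin.cons_succ, ← PrimeSpectrum.comap_comp_apply, hπ]
        exact hcomap' i

end Groth.Agent.Lib.ValChainH52
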