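import Mathlib

/-!
# A Newton polygon lemma (helper76)

`O` a valuation subring of a field `N`, `s` a multiset of elements of `N`, `c ≠ 0` such that the sum
of the `y / c` over those `y ∈ s` with the same valuation as `c` is a unit of `O`. Then two
consecutive coefficients `p_d`, `p_{d+1}` of `∏ (X - y)` satisfy `v(c p_{d+1}) = v(p_d) ≠ 0`.
-/

set_option autoImplicit false

namespace Groth.Agent.Lib.ValEt76

open Polynomial IsLocalRing

variable {N : Type*} [Field N] (O : ValuationSubring N)

/-- total "coercion" into the valuation ring -/
noncomputable def toO (x : N) : O := by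
  classical exact if h : x ∈ O then ⟨x, h⟩ else 0

lemma toO_coe {x : N} (h : x ∈ O) : ((toO O x : O) : N) = x := by
  simp [toO, h]

lemma toO_add {x y : N} (hx : x ∈ O) (hy : y ∈ O) : toO O (x + y) = toO O x + toO O y := by
  apply Subtype.ext
  rw [toO_coe O (O.add_mem _ _ hx hy)]
  push_cast
  rw [toO_coe O hx, toO_coe O hy]

lemma toO_zero : toO O 0 = 0 := by
  apply Subtype.ext
  rw [toO_coe O O.zero_mem]
  rfl

/-- the normalized linear factor -/
noncomputable def ell (c y : N) : O[X] := by
  classical exact if O.valuation c < O.valuation y then 1 - C (toO O (c / y)) * X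
    else X - C (toO O (y / c))

/-- the normalizing constant -/
noncomputable def kap (c y : N) : N := by
  classical exact if O.valuation c < O.valuation y then -y else c

lemma div_mem_of_lt {c y : N} (h : O.valuation c < O.valuation y) : c / y ∈ O := by
  rw [← O.valuation_le_one_iff, map_div₀]
  exact div_le_one_of_le₀ h.le zero_le

lemma div_mem_of_not_lt {c y : N} (h : ¬ O.valuation c < O.valuation y) :
    y / c ∈ O := by
  rw [← O.valuation_le_one_iff, map_div₀]
  exact div_le_one_of_le₀ (not_lt.mp h) zero_le

lemma kap_ne_zero {c y : N} (hc : c ≠ 0) : kap O c y ≠ 0 := by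
  classical
  unfold kap
  split_ifs with h
  · intro hy
    rw [neg_eq_zero] at hy
    rw [hy, map_zero] at h
    exact not_lt_zero h
  · exact hc

lemma C_kap_mul_ell (c y : N) (hc : c ≠ 0) :
    C (kap O c y) * (ell O c y).map O.subtype = C c * X - C y := by
  classical
  unfold kap ell
  split_ifs with h
  · have hy : y ≠ 0 := by
      rintro rfl
      rw [map_zero] at h
      exact not_lt_zero h
    simp only [Polynomial.map_sub, Polynomial.map_one, Polynomial.map_mul, map_C, map_X]
    have e : O.subtype (toO O (c / y)) = c / y := toO_coe O (div_mem_of_lt O h)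
    rw [e, mul_sub, mul_one, ← mul_assoc, ← C_mul]
    have e2 : -y * (c / y) = -c := by field_simp
    rw [e2, C_neg, C_neg]
    ring
  · simp only [Polynomial.map_sub, map_C, map_X]
    have e : O.subtype (toO O (y / c)) = y / c := toO_coe O (div_mem_of_not_lt O h)
    rw [e, mul_sub, ← C_mul]
    have e2 : c * (y / c) = y := by field_simp
    rw [e2]

lemma ell_map_residue_of_lt {c y : N} (h : O.valuation c < O.valuation y) :
    (ell O c y).map (residue O) = 1 := by
  classical
  unfold ell
  rw [if_pos h]
  have hmem : toO O (c / y) ∈ maximalIdeal O := by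
    rw [O.valuation_lt_one_iff, toO_coe O (div_mem_of_lt O h), map_div₀]
    have hy : O.valuation y ≠ 0 := fun h0 => by
      rw [h0] at h
      exact not_lt_zero h
    exact (div_lt_one₀ (lt_of_le_of_ne zero_le hy.symm)).mpr h
  have e : residue O (toO O (c / y)) = 0 := (residue_eq_zero_iff _).mpr hmem
  simp [e]

lemma ell_map_residue_of_eq {c y : N} (h : O.valuation y = O.valuation c) :
    (ell O c y).map (residue O) = X - C (residue O (toO O (y / c))) := by
  classical
  unfold ell
  rw [if_neg (by rw [h]; exact lt_irrefl _)]
  simp

lemma ell_map_residue_of_gt {c y : N} (hc : c ≠ 0) (h : O.valuation y < O.valuation c) :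
    (ell O c y).map (residue O) = X := by
  classical
  unfold ell
  rw [if_neg (not_lt.mpr h.le)]
  have hmem : toO O (y / c) ∈ maximalIdeal O := by
    rw [O.valuation_lt_one_iff, toO_coe O (div_mem_of_not_lt O (not_lt.mpr h.le)), map_div₀]
    have hc' : O.valuation c ≠ 0 := (_root_.map_ne_zero _).mpr hc
    exact (div_lt_one₀ (lt_of_le_of_ne zero_le hc'.symm)).mpr h
  have e : residue O (toO O (y / c)) = 0 := (residue_eq_zero_iff _).mpr hmem
  simp [e]

/-- the reduction of the product of the normalized linear factors -/
lemma prod_ell_map_residue (s : Multiset N) (c : N) (hc : c ≠ 0) :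
    ((s.map (ell O c)).prod).map (residue O) =
      X ^ (s.filter fun y => O.valuation y < O.valuation c).card *
        ((s.filter fun y => O.valuation y = O.valuation c).map
          fun y => X - C (residue O (toO O (y / c)))).prod := by
  classical
  induction s using Multiset.induction_on with
  | empty => simp
  | cons y s ih =>
    rw [Multiset.map_cons, Multiset.prod_cons, Polynomial.map_mul, ih]
    rcases lt_trichotomy (O.valuation y) (O.valuation c) with h | h | h
    · rw [ell_map_residue_of_gt O hc h,
        Multiset.filter_cons_of_pos (p := fun y => O.valuation y < O.valuation c) s h,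
        Multiset.filter_cons_of_neg (p := fun y => O.valuation y = O.valuation c) s (ne_of_lt h),
        Multiset.card_cons, pow_succ]
      ring
    · rw [ell_map_residue_of_eq O h,
        Multiset.filter_cons_of_neg (p := fun y => O.valuation y < O.valuation c) s
          (by rw [h]; exact lt_irrefl _),
        Multiset.filter_cons_of_pos (p := fun y => O.valuation y = O.valuation c) s h,
        Multiset.map_cons, Multiset.prod_cons]
      ring
    · rw [ell_map_residue_of_lt O h,
        Multiset.filter_cons_of_neg (p := fun y => O.valuation y < O.valuation c) s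
          (not_lt.mpr h.le),
        Multiset.filter_cons_of_neg (p := fun y => O.valuation y = O.valuation c) s (ne_of_gt h),
        one_mul]

lemma residue_toO_sum (t : Multiset N) (ht : ∀ x ∈ t, x ∈ O) :
    residue O (toO O t.sum) = (t.map fun x => residue O (toO O x)).sum := by
  induction t using Multiset.induction_on with
  | empty => simp [toO_zero]
  | cons x t ih =>
    have hx : x ∈ O := ht x (Multiset.mem_cons_self x t)
    have ht' : ∀ x ∈ t, x ∈ O := fun z hz => ht z (Multiset.mem_cons_of_mem hz)
    have hsum : t.sum ∈ O := O.toSubring.multiset_sum_mem t ht'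
    rw [Multiset.sum_cons, Multiset.map_cons, Multiset.sum_cons, toO_add O hx hsum, map_add,
      ih ht']

set_option maxHeartbeats 400000 in
/-- **Newton polygon lemma.** -/
theorem exists_coeff_valuation_eq (s : Multiset N) (c : N) (hc : c ≠ 0)
    (hsum : O.valuation (((s.filter fun y => O.valuation y = O.valuation c).map
      fun y => y / c).sum) = 1) :
    ∃ d : ℕ, (s.map fun y => X - C y).prod.coeff d ≠ 0 ∧
      O.valuation (c * (s.map fun y => X - C y).prod.coeff (d + 1)) =
        O.valuation ((s.map fun y => X - C y).prod.coeff d) := by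
  classical
  set P : N[X] := (s.map fun y => X - C y).prod with hP
  set G : O[X] := (s.map (ell O c)).prod with hG
  set Kc : N := (s.map (kap O c)).prod with hKc
  set T : Multiset N := s.filter fun y => O.valuation y = O.valuation c with hT
  set a : ℕ := (s.filter fun y => O.valuation y < O.valuation c).card with ha
  set M : (ResidueField O)[X] := (T.map fun y => X - C (residue O (toO O (y / c)))).prod with hM
  -- the basic identity
  have H1 : P.comp (C c * X) = C Kc * G.map O.subtype := by
    rw [hP, Polynomial.multiset_prod_comp, hG, Polynomial.map_multiset_prod, hKc,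
      map_multiset_prod, Multiset.map_map, Multiset.map_map, Multiset.map_map,
      ← Multiset.prod_map_mul]
    congr 1
    apply Multiset.map_congr rfl
    intro y _
    simp only [Function.comp_apply]
    rw [C_kap_mul_ell O c y hc]
    simp
  have H2 : ∀ k, P.coeff k * c ^ k = Kc * (G.coeff k : N) := by
    intro k
    have := congrArg (fun q => q.coeff k) H1
    simp only [comp_C_mul_X_coeff, coeff_C_mul, coeff_map] at this
    exact this
  have H3 : Kc ≠ 0 := by
    rw [hKc]
    apply Multiset.prod_ne_zero
    intro h0
    obtain ⟨y, _, hy⟩ := Multiset.mem_map.mp h0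
    exact kap_ne_zero O hc hy
  have H4 : G.map (residue O) = X ^ a * M := prod_ell_map_residue O s c hc
  -- `M` is monic of degree `card T` with nonzero next coefficient
  have hTO : ∀ x ∈ T.map (fun y => y / c), x ∈ O := by
    intro x hx
    obtain ⟨y, hy, rfl⟩ := Multiset.mem_map.mp hx
    have hy' := (Multiset.mem_filter.mp hy).2
    rw [← O.valuation_le_one_iff, map_div₀, hy', div_self ((_root_.map_ne_zero _).mpr hc)]
  have hσ : (T.map fun y => y / c).sum ∈ O := O.toSubring.multiset_sum_mem _ hTO
  have hunit : IsUnit (toO O (T.map fun y => y / c).sum) := by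
    rw [O.valuation_eq_one_iff, toO_coe O hσ]
    exact hsum
  have hres : residue O (toO O (T.map fun y => y / c).sum) ≠ 0 := by
    intro h0
    exact ((residue_eq_zero_iff _).mp h0) hunit
  rw [residue_toO_sum O _ hTO, Multiset.map_map] at hres
  have hMmonic : M.Monic := monic_multiset_prod_of_monic _ _ fun y _ => monic_X_sub_C _
  have hMdeg : M.natDegree = T.card := by
    rw [hM]
    have := natDegree_multiset_prod_X_sub_C_eq_card (T.map fun y => residue O (toO O (y / c)))
    rw [Multiset.map_map] at this
    rw [Multiset.card_map] at this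
    exact this
  have hMnext : M.nextCoeff = -(T.map fun y => residue O (toO O (y / c))).sum := by
    rw [hM]
    have := multiset_prod_X_sub_C_nextCoeff (T.map fun y => residue O (toO O (y / c)))
    rw [Multiset.map_map] at this
    exact this
  have hnext0 : M.nextCoeff ≠ 0 := by
    rw [hMnext, neg_ne_zero]
    exact hres
  have hb : M.natDegree ≠ 0 := by
    intro h0
    apply hnext0
    rw [nextCoeff, if_pos h0]
  have hMb1 : M.coeff (M.natDegree - 1) ≠ 0 := by
    rw [nextCoeff, if_neg hb] at hnext0
    exact hnext0
  -- the two consecutive unit coefficients of `G`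
  set d : ℕ := a + (M.natDegree - 1) with hd
  have hd1 : d + 1 = a + M.natDegree := by omega
  have hcoeff1 : (G.map (residue O)).coeff (d + 1) = 1 := by
    rw [H4, hd1, add_comm, coeff_X_pow_mul]
    exact hMmonic.coeff_natDegree
  have hcoeff0 : (G.map (residue O)).coeff d ≠ 0 := by
    rw [H4, hd, add_comm, coeff_X_pow_mul]
    exact hMb1
  rw [coeff_map] at hcoeff1 hcoeff0
  have hu1 : O.valuation ((G.coeff (d + 1) : O) : N) = 1 := by
    rw [← O.valuation_eq_one_iff]
    by_contra hnu
    have : residue O (G.coeff (d + 1)) = 0 := (residue_eq_zero_iff _).mpr hnu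
    rw [this] at hcoeff1
    exact zero_ne_one hcoeff1
  have hu0 : O.valuation ((G.coeff d : O) : N) = 1 := by
    rw [← O.valuation_eq_one_iff]
    by_contra hnu
    exact hcoeff0 ((residue_eq_zero_iff _).mpr hnu)
  have hvc : O.valuation c ≠ 0 := (_root_.map_ne_zero _).mpr hc
  have hvK : O.valuation Kc ≠ 0 := (_root_.map_ne_zero _).mpr H3
  have e1 := congrArg O.valuation (H2 (d + 1))
  have e0 := congrArg O.valuation (H2 d)
  rw [map_mul, map_mul, hu1, mul_one, map_pow] at e1
  rw [map_mul, map_mul, hu0, mul_one, map_pow] at e0
  refine ⟨d, ?_, ?_⟩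
  · intro h0
    rw [h0, map_zero, zero_mul] at e0
    exact hvK e0.symm
  · rw [map_mul]
    have h5 : O.valuation c * O.valuation (P.coeff (d + 1)) * O.valuation c ^ d =
        O.valuation (P.coeff d) * O.valuation c ^ d := by
      rw [e0, ← e1, pow_succ]
      generalize O.valuation c = x
      generalize O.valuation (P.coeff (d + 1)) = y
      generalize x ^ d = z
      rw [mul_comm x y, mul_assoc, mul_comm x z]
    exact mul_right_cancel₀ (pow_ne_zero d hvc) h5

end Groth.Agent.Lib.ValEt76
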