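import Mathlib

/-!
# Symmetric functions of the roots via resultants (helper76)

`f ∈ F[X]` monic, splitting over `N`, `c ∈ F[X]`: the polynomial `∏_β (X - c(β))` (over the roots
`β` of `f` in `N`, with multiplicity) has coefficients in `F`.
-/

set_option autoImplicit false

namespace Groth.Agent.Lib.ValEt76

open Polynomial

theorem exists_poly_map_eq_prod {F N : Type*} [Field F] [Field N] [Algebra F N] (f c : F[X])
    (hf : f.Monic) (hs : (f.map (algebraMap F N)).Splits) :
    ∃ Q : F[X], Q.map (algebraMap F N) =
      ((f.map (algebraMap F N)).roots.map fun β => X - C (aeval β c)).prod := by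
  classical
  set fN : N[X] := f.map (algebraMap F N) with hfN
  set cN : N[X] := c.map (algebraMap F N) with hcN
  -- bivariate polynomials: outer variable is the variable of `f`, inner is the new variable `Y`
  set f2 : F[X][X] := f.map C with hf2
  set g2 : F[X][X] := C X - c.map C with hg2
  set m : ℕ := c.natDegree + 1 with hm
  set φ : F[X] →+* N[X] := mapRingHom (algebraMap F N) with hφ
  refine ⟨resultant f2 g2 f.natDegree m, ?_⟩
  have e1 : (resultant f2 g2 f.natDegree m).map (algebraMap F N) =
      resultant (f2.map φ) (g2.map φ) f.natDegree m := by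
    rw [resultant_map_map]
    rfl
  have e2 : f2.map φ = fN.map C := by
    rw [hf2, hfN, Polynomial.map_map, Polynomial.map_map]
    congr 1
    ext x
    simp [hφ]
  have e3 : g2.map φ = C X - cN.map C := by
    rw [hg2, hcN, Polynomial.map_sub, Polynomial.map_C, Polynomial.map_map, Polynomial.map_map]
    congr 2
    · simp [hφ]
    · ext x
      simp [hφ]
  have hsplit : (fN.map (C : N →+* N[X])).Splits := hs.map _
  have hdeg : (fN.map (C : N →+* N[X])).natDegree = f.natDegree := by
    rw [natDegree_map_eq_of_injective C_injective, hfN,
      natDegree_map_eq_of_injective (algebraMap F N).injective]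
  have hlc : (fN.map (C : N →+* N[X])).leadingCoeff = 1 := by
    have : (fN.map (C : N →+* N[X])).Monic := (hf.map _).map _
    exact this
  have hgdeg : (C (X : N[X]) - cN.map (C : N →+* N[X])).natDegree ≤ m := by
    refine (natDegree_sub_le _ _).trans ?_
    rw [natDegree_C]
    refine max_le (Nat.zero_le _) ?_
    refine natDegree_map_le.trans ?_
    rw [hcN]
    exact natDegree_map_le.trans (Nat.le_succ _)
  have e4 := resultant_eq_prod_eval (fN.map (C : N →+* N[X])) (C (X : N[X]) - cN.map C) m hgdeg
    hsplit
  rw [hdeg, hlc, one_pow, one_mul, hs.roots_map_of_injective C_injective, Multiset.map_map] at e4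
  rw [e1, e2, e3, e4]
  congr 1
  apply Multiset.map_congr rfl
  intro β _
  simp only [Function.comp_apply, eval_sub, eval_C]
  rw [eval_map]
  have e5 : eval₂ (C : N →+* N[X]) (C β) cN = C (eval β cN) := by
    have := Polynomial.hom_eval₂ cN (RingHom.id N) (C : N →+* N[X]) β
    rw [RingHom.comp_id] at this
    rw [← this, eval₂_id]
  rw [e5, hcN, eval_map_algebraMap]
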