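import Groth.Agent.Lib.ValEt76A
import Groth.Agent.Lib.ValEt76B

/-!
# Value groups of unramified extensions: field level (helper76)

`O` a valuation subring of a field `N`, `F → N` a subfield, `f ∈ F[X]` monic with coefficients
in `O`, splitting over `N`, `α` a root with `v(f'(α)) = 1`.

* `exists_valuation_eq_of_residue_trivial`: if some `θ ∈ F` has `v(α - θ) < 1`, then the valuation
  of every nonzero element of `F[α]` is the valuation of an element of `F`.
-/

set_option autoImplicit false

namespace Groth.Agent.Lib.ValEt76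

open Polynomial IsLocalRing

variable {N : Type*} [Field N] (O : ValuationSubring N)

lemma valuation_eq_one_of_prod (s : Multiset N) (hs : ∀ y ∈ s, O.valuation y ≤ 1)
    (h : O.valuation s.prod = 1) : ∀ y ∈ s, O.valuation y = 1 := by
  induction s using Multiset.induction_on with
  | empty => simp
  | cons x s ih =>
    have hx : O.valuation x ≤ 1 := hs x (Multiset.mem_cons_self x s)
    have hs' : ∀ y ∈ s, O.valuation y ≤ 1 := fun y hy => hs y (Multiset.mem_cons_of_mem hy)
    have hp : O.valuation s.prod ≤ 1 := by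
      rw [O.valuation_le_one_iff]
      exact O.toSubring.multiset_prod_mem s fun y hy => (O.valuation_le_one_iff y).mp (hs' y hy)
    rw [Multiset.prod_cons, map_mul] at h
    have h1 : O.valuation x = 1 := by
      apply le_antisymm hx
      calc (1 : O.ValueGroup) = O.valuation x * O.valuation s.prod := h.symm
        _ ≤ O.valuation x * 1 := mul_le_mul_right hp _
        _ = O.valuation x := mul_one _
    have h2 : O.valuation s.prod = 1 := by rw [h1, one_mul] at h; exact h
    intro y hy
    rcases Multiset.mem_cons.mp hy with rfl | hy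
    · exact h1
    · exact ih hs' h2 y hy

/-- roots of monic polynomials with integral coefficients are integral -/
lemma mem_of_aeval_eq_zero {F : Type*} [Field F] [Algebra F N] (f : F[X]) (hf : f.Monic)
    (hfO : ∀ i, algebraMap F N (f.coeff i) ∈ O) (β : N) (hβ : aeval β f = 0) : β ∈ O := by
  have hint : IsIntegral O β := by
    have hsub : (↑(f.map (algebraMap F N)).coeffs : Set N) ⊆ O.toSubring := by
      intro y hy
      rw [Finset.mem_coe, mem_coeffs_iff] at hy
      obtain ⟨n, _, rfl⟩ := hy
      rw [coeff_map]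
      exact hfO n
    refine ⟨(f.map (algebraMap F N)).toSubring O.toSubring hsub, ?_, ?_⟩
    · exact (monic_toSubring _ _ _).mpr (hf.map _)
    · have : ((f.map (algebraMap F N)).toSubring O.toSubring hsub).map O.toSubring.subtype =
          f.map (algebraMap F N) := map_toSubring _ _ _
      rw [← aeval_def, ← eval_map_algebraMap]
      have e : algebraMap O N = O.toSubring.subtype := rfl
      rw [e, this, eval_map_algebraMap]
      exact hβ
  obtain ⟨y, rfl⟩ := (IsIntegrallyClosed.isIntegral_iff (R := O) (K := N)).mp hint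
  exact y.2

/-- pigeonhole: `n` pairwise distinct values cannot all be attained on a multiset of size `< n` -/
lemma exists_lt_forall_ne {Γ ι : Type*} (w : Multiset ι) (φ : ι → Γ) (ψ : ℕ → Γ)
    (hψ : Function.Injective ψ) (n : ℕ) (hn : w.card < n) :
    ∃ k < n, ∀ β ∈ w, φ β ≠ ψ k := by
  classical
  by_contra hcon
  push Not at hcon
  have hsub : (Finset.range n).image ψ ⊆ (w.map φ).toFinset := by
    intro y hy
    obtain ⟨k, hk, rfl⟩ := Finset.mem_image.mp hy
    obtain ⟨β, hβ, e⟩ := hcon k (Finset.mem_range.mp hk)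
    rw [Multiset.mem_toFinset, ← e]
    exact Multiset.mem_map_of_mem _ hβ
  have h1 := Finset.card_le_card hsub
  rw [Finset.card_image_of_injective _ hψ, Finset.card_range] at h1
  have h2 : (w.map φ).toFinset.card ≤ w.card := by
    refine (Multiset.toFinset_card_le _).trans ?_
    rw [Multiset.card_map]
  omega

/-- **Value group, trivial residue extension.** -/
theorem exists_valuation_eq_of_residue_trivial {F : Type*} [Field F] [Algebra F N]
    (f : F[X]) (hf : f.Monic) (hfO : ∀ i, algebraMap F N (f.coeff i) ∈ O)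
    (hs : (f.map (algebraMap F N)).Splits) (α : N) (hα : aeval α f = 0)
    (hder : O.valuation (aeval α (derivative f)) = 1)
    (θ : F) (hθ : O.valuation (α - algebraMap F N θ) < 1)
    (c : F[X]) (hc : aeval α c ≠ 0) :
    ∃ a : F, O.valuation (aeval α c) = O.valuation (algebraMap F N a) := by
  classical
  set fN : N[X] := f.map (algebraMap F N) with hfN
  have hfNm : fN.Monic := hf.map _
  set R : Multiset N := fN.roots with hR
  have hαR : α ∈ R := by
    rw [hR, mem_roots hfNm.ne_zero, IsRoot.def, hfN, eval_map_algebraMap]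
    exact hα
  set R' : Multiset N := R.erase α with hR'
  have hRcons : R = α ::ₘ R' := (Multiset.cons_erase hαR).symm
  have hRO : ∀ β ∈ R, β ∈ O := by
    intro β hβ
    refine mem_of_aeval_eq_zero O f hf hfO β ?_
    rw [hR, mem_roots hfNm.ne_zero, IsRoot.def, hfN, eval_map_algebraMap] at hβ
    exact hβ
  have hαO : α ∈ O := hRO α hαR
  -- `v (α - β) = 1` for the other roots
  have hder' : aeval α (derivative f) = (R'.map fun β => α - β).prod := by
    rw [← eval_map_algebraMap, ← derivative_map]
    exact hs.eval_root_derivative hfNm hαR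
  have hαβ : ∀ β ∈ R', O.valuation (α - β) = 1 := by
    intro β hβ
    refine valuation_eq_one_of_prod O (R'.map fun β => α - β) ?_ (hder' ▸ hder) (α - β)
      (Multiset.mem_map_of_mem _ hβ)
    intro y hy
    obtain ⟨β', hβ', rfl⟩ := Multiset.mem_map.mp hy
    rw [O.valuation_le_one_iff]
    exact sub_mem hαO (hRO β' (Multiset.mem_of_mem_erase hβ'))
  set θN : N := algebraMap F N θ with hθN
  have hβθ : ∀ β ∈ R', O.valuation (β - θN) = 1 := by
    intro β hβ
    have e : β - θN = (β - α) + (α - θN) := by ring
    rw [e, Valuation.map_add_eq_of_lt_left]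
    · rw [Valuation.map_sub_swap]; exact hαβ β hβ
    · rw [O.valuation.map_sub_swap β α, hαβ β hβ]; exact hθ
  -- the value of `α - θ`
  have hfθ : O.valuation (algebraMap F N (f.eval θ)) = O.valuation (α - θN) := by
    have e1 : algebraMap F N (f.eval θ) = fN.eval θN := by
      rw [hfN, eval_map_algebraMap, aeval_algebraMap_apply, coe_aeval_eq_eval]
    rw [e1, hs.eval_eq_prod_roots_of_monic hfNm, ← hR, hRcons, Multiset.map_cons,
      Multiset.prod_cons, map_mul, Valuation.map_sub_swap]
    have e2 : O.valuation (R'.map fun β => θN - β).prod = 1 := by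
      rw [map_multiset_prod, Multiset.map_map]
      apply Multiset.prod_eq_one
      intro y hy
      obtain ⟨β, hβ, rfl⟩ := Multiset.mem_map.mp hy
      simp only [Function.comp_apply]
      rw [Valuation.map_sub_swap]
      exact hβθ β hβ
    rw [e2, mul_one]
  by_cases hαθ : α = θN
  · refine ⟨c.eval θ, ?_⟩
    rw [hαθ, hθN, aeval_algebraMap_apply, coe_aeval_eq_eval]
  -- the general case
  set zv := O.valuation (α - θN) with hzv
  have hzv0 : zv ≠ 0 := (_root_.map_ne_zero _).mpr (sub_ne_zero.mpr hαθ)
  set xv := O.valuation (aeval α c) with hxv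
  have hxv0 : xv ≠ 0 := (_root_.map_ne_zero _).mpr hc
  have hinj : Function.Injective fun k : ℕ => xv * zv ^ k := by
    have hanti : StrictAnti fun k : ℕ => zv ^ k :=
      pow_right_strictAnti₀ (lt_of_le_of_ne zero_le hzv0.symm) hθ
    intro k l hkl
    exact hanti.injective (mul_left_cancel₀ hxv0 hkl)
  have hcard : R'.card < R.card := by
    rw [hRcons, Multiset.card_cons]; exact Nat.lt_succ_self _
  obtain ⟨k, -, hk⟩ := exists_lt_forall_ne R' (fun β => O.valuation (aeval β c))
    (fun k : ℕ => xv * zv ^ k) hinj R.card hcard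
  -- apply the Newton polygon lemma to `c * (X - θ)^k`
  set ck : F[X] := c * (X - C θ) ^ k with hck
  have hckβ : ∀ β : N, aeval β ck = aeval β c * (β - θN) ^ k := by
    intro β
    rw [hck, map_mul, map_pow, map_sub, aeval_X, aeval_C]
  set c₀ : N := aeval α ck with hc₀
  have hc₀0 : c₀ ≠ 0 := by
    rw [hc₀, hckβ]
    exact mul_ne_zero hc (pow_ne_zero _ (sub_ne_zero.mpr hαθ))
  have hvc₀ : O.valuation c₀ = xv * zv ^ k := by
    rw [hc₀, hckβ, map_mul, map_pow]
  set s : Multiset N := R.map fun β => aeval β ck with hs'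
  have hfilter : (s.filter fun y => O.valuation y = O.valuation c₀) = {c₀} := by
    rw [hs', hRcons, Multiset.map_cons,
      Multiset.filter_cons_of_pos (p := fun y => O.valuation y = O.valuation c₀) _ rfl]
    have : (Multiset.map (fun β => aeval β ck) R').filter
        (fun y => O.valuation y = O.valuation c₀) = 0 := by
      rw [Multiset.filter_eq_nil]
      intro y hy
      obtain ⟨β, hβ, rfl⟩ := Multiset.mem_map.mp hy
      rw [hckβ, map_mul, map_pow, hβθ β hβ, one_pow, mul_one, hvc₀]
      exact hk β hβ
    rw [this]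
    rfl
  have hsum : O.valuation (((s.filter fun y => O.valuation y = O.valuation c₀).map
      fun y => y / c₀).sum) = 1 := by
    rw [hfilter]
    simp [div_self hc₀0]
  obtain ⟨d, hd0, hd⟩ := exists_coeff_valuation_eq O s c₀ hc₀0 hsum
  obtain ⟨Q, hQ⟩ := exists_poly_map_eq_prod (N := N) f ck hf hs
  have hQ' : (s.map fun y => X - C y).prod = Q.map (algebraMap F N) := by
    rw [hQ, hs', Multiset.map_map]
    rfl
  rw [hQ', coeff_map, coeff_map] at hd
  rw [hQ', coeff_map] at hd0
  have hvd0 : O.valuation (algebraMap F N (Q.coeff d)) ≠ 0 := (_root_.map_ne_zero _).mpr hd0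
  have hQd1 : algebraMap F N (Q.coeff (d + 1)) ≠ 0 := by
    intro h0
    rw [h0, mul_zero, map_zero] at hd
    exact hvd0 hd.symm
  have hfθ0 : algebraMap F N (f.eval θ) ≠ 0 := by
    intro h0
    rw [h0, map_zero] at hfθ
    exact hzv0 hfθ.symm
  refine ⟨Q.coeff d / Q.coeff (d + 1) / (f.eval θ) ^ k, ?_⟩
  rw [map_div₀, map_div₀, map_pow, map_div₀, map_div₀, map_pow, hfθ, ← hd, map_mul, hvc₀]
  have hv1 : O.valuation (algebraMap F N (Q.coeff (d + 1))) ≠ 0 := (_root_.map_ne_zero _).mpr hQd1
  rw [mul_div_assoc, div_self hv1, mul_one, mul_div_assoc, div_self (pow_ne_zero _ hzv0), mul_one]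

open IntermediateField in
/-- **Value group, general residue extension**: two-step tower `K ⊆ K(θ) ⊆ K(θ, α)`. -/
theorem exists_valuation_eq {K : Type*} [Field K] [Algebra K N]
    (f : K[X]) (hf : f.Monic) (hfO : ∀ i, algebraMap K N (f.coeff i) ∈ O)
    (hs : (f.map (algebraMap K N)).Splits) (α : N) (hα : aeval α f = 0)
    (hder : O.valuation (aeval α (derivative f)) = 1)
    (θ : N) (hθint : IsIntegral K θ) (hθ : O.valuation (α - θ) < 1)
    (H1 : ∀ q : K[X], aeval θ q ≠ 0 →
      ∃ a : K, O.valuation (aeval θ q) = O.valuation (algebraMap K N a))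
    (c : K[X]) (hc : aeval α c ≠ 0) :
    ∃ a : K, O.valuation (aeval α c) = O.valuation (algebraMap K N a) := by
  set F : IntermediateField K N := K⟮θ⟯ with hF
  set θF : F := AdjoinSimple.gen K θ with hθF
  have hθF' : algebraMap F N θF = θ := AdjoinSimple.algebraMap_gen K θ
  have hmm : (f.map (algebraMap K F)).map (algebraMap F N) = f.map (algebraMap K N) := by
    rw [Polynomial.map_map, ← IsScalarTower.algebraMap_eq]
  obtain ⟨aF, haF⟩ := exists_valuation_eq_of_residue_trivial O (f.map (algebraMap K F))
    (hf.map _)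
    (fun i => by
      rw [coeff_map, ← IsScalarTower.algebraMap_apply]
      exact hfO i)
    (by rw [hmm]; exact hs) α
    (by rw [aeval_map_algebraMap]; exact hα)
    (by rw [derivative_map, aeval_map_algebraMap]; exact hder)
    θF (by rw [hθF']; exact hθ) (c.map (algebraMap K F))
    (by rw [aeval_map_algebraMap]; exact hc)
  rw [aeval_map_algebraMap] at haF
  have hmem : (aF : N) ∈ Algebra.adjoin K {θ} := by
    rw [← adjoin_simple_toSubalgebra_of_isAlgebraic hθint.isAlgebraic]
    exact aF.2
  rw [Algebra.adjoin_singleton_eq_range_aeval] at hmem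
  obtain ⟨q, hq⟩ := hmem
  have hq' : aeval θ q = algebraMap F N aF := hq
  have hq0 : aeval θ q ≠ 0 := by
    intro h0
    rw [← hq', h0, map_zero] at haF
    exact hc ((map_eq_zero _).mp haF)
  obtain ⟨a, ha⟩ := H1 q hq0
  exact ⟨a, by rw [haF, ← hq', ha]⟩

end Groth.Agent.Lib.ValEt76
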