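import Groth.Agent.Lib.ValEt76C
import Groth.Agent.Lib.BoschCore76Y

/-!
# Local rings "standard étale" over a valuation ring (helper76)

* `valuationRing_of_isAlgebraic`: a local integrally closed domain `D`, algebraic over a valuation
  ring `A ⊆ D`, is a valuation ring (Seidenberg).
* `exists_valuationSubring_dominating`: a valuation subring of a field dominating a local subring.
* `exists_unit_mul_algebraMap`: if moreover `D` is generated, up to units, by a root `α` of a monic
  polynomial `f ∈ A[X]` with `f'(α)` a unit, then every nonzero element of `D` is a unit times an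
  element of `A`.
-/

set_option autoImplicit false
set_option linter.style.haveILetI false

namespace Groth.Agent.Lib.ValEt76

open Polynomial IsLocalRing

section Seidenberg

/-- Seidenberg's lemma, for an injective map from a local ring to a field. -/
theorem mem_range_or_inv_mem_range (D L : Type*) [CommRing D] [IsLocalRing D] [Field L]
    [Algebra D L] (hinj : Function.Injective (algebraMap D L))
    (hD : ∀ x : L, IsIntegral D x → x ∈ (algebraMap D L).range) (x : L) (p : D[X])
    (hp : aeval x p = 0) (hu : ∃ i, IsUnit (p.coeff i)) :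
    x ∈ (algebraMap D L).range ∨ x⁻¹ ∈ (algebraMap D L).range := by
  let e : (⊥ : Subalgebra D L) ≃ₐ[D] D := Algebra.botEquivOfInjective hinj
  haveI : IsLocalRing (⊥ : Subalgebra D L) := e.symm.toRingEquiv.isLocalRing
  have hbot : ∀ y : L, y ∈ (⊥ : Subalgebra D L) ↔ y ∈ (algebraMap D L).range := by
    intro y
    rw [Algebra.mem_bot]
    rfl
  have hA : ∀ y : L, IsIntegral (⊥ : Subalgebra D L) y → y ∈ (⊥ : Subalgebra D L) := by
    intro y hy
    rw [hbot]
    apply hD
    haveI : Algebra.IsIntegral D (⊥ : Subalgebra D L) := by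
      refine ⟨fun z => ?_⟩
      obtain ⟨w, hw⟩ : ∃ w : D, algebraMap D (⊥ : Subalgebra D L) w = z := by
        obtain ⟨w, hw⟩ := Algebra.mem_bot.mp z.2
        exact ⟨w, Subtype.ext hw⟩
      rw [← hw]
      exact isIntegral_algebraMap
    exact isIntegral_trans y hy
  set p' : (⊥ : Subalgebra D L)[X] := p.map (algebraMap D (⊥ : Subalgebra D L)) with hp'
  have hp'x : aeval x p' = 0 := by
    rw [hp', aeval_map_algebraMap]; exact hp
  obtain ⟨i, hi⟩ := hu
  have hu' : ∃ j, IsUnit (p'.coeff j) := ⟨i, by rw [hp', coeff_map]; exact hi.map _⟩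
  have := Groth.Agent.Lib.BoschCore76.mem_or_inv_mem_of_aeval_eq_zero (⊥ : Subalgebra D L) hA x
    p'.natDegree p' rfl hp'x hu'
  rwa [hbot, hbot] at this

/-- A local integrally closed domain, algebraic over a valuation ring contained in it, is a
valuation ring. -/
theorem valuationRing_of_isAlgebraic (A D : Type*) [CommRing A] [IsDomain A] [ValuationRing A]
    [CommRing D] [IsDomain D] [IsLocalRing D] [IsIntegrallyClosed D] [Algebra A D]
    (hinj : Function.Injective (algebraMap A D)) [Algebra.IsAlgebraic A D] :
    ValuationRing D := by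
  let L := FractionRing D
  have hDL : Function.Injective (algebraMap D L) := IsFractionRing.injective D L
  have hAL : Function.Injective (algebraMap A L) := by
    rw [IsScalarTower.algebraMap_eq A D L]
    exact hDL.comp hinj
  rw [ValuationRing.iff_isInteger_or_isInteger D L]
  intro x
  -- `x` is algebraic over `A`
  have halg : IsAlgebraic A x := by
    obtain ⟨d₁, d₂, hd₂, rfl⟩ := IsFractionRing.div_surjective (A := D) x
    have h1 : IsAlgebraic A (algebraMap D L d₁) := (Algebra.IsAlgebraic.isAlgebraic d₁).algebraMap
    have h2 : IsAlgebraic A (algebraMap D L d₂) := (Algebra.IsAlgebraic.isAlgebraic d₂).algebraMap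
    rw [div_eq_mul_inv]
    exact h1.mul (IsAlgebraic.inv_iff.mpr h2)
  obtain ⟨p, hp0, hp⟩ := halg
  obtain ⟨c, q, hc, hpq, i, hi⟩ := Groth.Agent.Lib.BoschCore76.exists_primitive_of_valuationRing p hp0
  have hq : aeval x q = 0 := by
    rw [hpq, map_mul, aeval_C] at hp
    rcases mul_eq_zero.mp hp with h | h
    · exact absurd (hAL (h.trans (map_zero _).symm)) hc
    · exact h
  have hD : ∀ y : L, IsIntegral D y → y ∈ (algebraMap D L).range := fun y hy =>
    IsIntegrallyClosed.isIntegral_iff.mp hy
  have := mem_range_or_inv_mem_range D L hDL hD x (q.map (algebraMap A D))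
    (by rw [aeval_map_algebraMap]; exact hq)
    ⟨i, by rw [coeff_map, hi, map_one]; exact isUnit_one⟩
  exact this

end Seidenberg

section Dominate

/-- a valuation subring of a field dominating a local subring -/
theorem exists_valuationSubring_dominating (D N : Type*) [CommRing D] [IsLocalRing D] [Field N]
    [Algebra D N] (hinj : Function.Injective (algebraMap D N)) :
    ∃ O : ValuationSubring N, (∀ d : D, algebraMap D N d ∈ O) ∧
      (∀ d : D, d ∈ maximalIdeal D → O.valuation (algebraMap D N d) < 1) ∧
      (∀ d : D, IsUnit d → O.valuation (algebraMap D N d) = 1) := by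
  set S : Subring N := (algebraMap D N).range with hS
  set ρ : D →+* S := (algebraMap D N).rangeRestrict with hρ
  have hρs : Function.Surjective ρ := (algebraMap D N).rangeRestrict_surjective
  set I : Ideal S := (maximalIdeal D).map ρ with hI
  have hI' : I ≠ ⊤ := by
    intro h
    have h1 : (1 : S) ∈ I := by rw [h]; trivial
    rw [hI, Ideal.mem_map_iff_of_surjective ρ hρs] at h1
    obtain ⟨m, hm, hm1⟩ := h1
    have : algebraMap D N m = 1 := congrArg Subtype.val hm1
    have hm' : m = 1 := hinj (this.trans (map_one _).symm)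
    rw [hm'] at hm
    exact (Ideal.ne_top_iff_one _).mp (maximalIdeal.isMaximal D).ne_top hm
  obtain ⟨O, hle, hsub⟩ := Ideal.image_subset_nonunits_valuationSubring I hI'
  have h1 : ∀ d : D, algebraMap D N d ∈ O := fun d => hle ⟨d, rfl⟩
  have h2 : ∀ d : D, d ∈ maximalIdeal D → O.valuation (algebraMap D N d) < 1 := by
    intro d hd
    have : algebraMap D N d ∈ O.nonunits :=
      hsub ⟨ρ d, Ideal.mem_map_of_mem ρ hd, rfl⟩
    exact (ValuationSubring.mem_nonunits_iff O).mp this
  refine ⟨O, h1, h2, ?_⟩
  intro d hd
  obtain ⟨e, he⟩ := hd.exists_right_inv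
  have h3 : O.valuation (algebraMap D N d) * O.valuation (algebraMap D N e) = 1 := by
    rw [← map_mul, ← map_mul, he, map_one, map_one]
  apply le_antisymm ((O.valuation_le_one_iff _).mpr (h1 d))
  calc (1 : O.ValueGroup) = O.valuation (algebraMap D N d) * O.valuation (algebraMap D N e) :=
        h3.symm
    _ ≤ O.valuation (algebraMap D N d) * 1 :=
        mul_le_mul_right ((O.valuation_le_one_iff _).mpr (h1 e)) _
    _ = O.valuation (algebraMap D N d) := mul_one _

end Dominate

end Groth.Agent.Lib.ValEt76
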