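import Groth.Agent.Lib.ValEt76D

/-!
# Weak unramifiedness of standard étale local rings over a valuation ring (helper76)

* `exists_unit_mul_algebraMap`: `A` a valuation ring, `D` a valuation ring, local over `A`, generated
  up to units by a root `α` of a monic `f ∈ A[X]` with `f'(α)` a unit. Then every nonzero element of
  `D` is a unit times an element of `A`.
-/

set_option autoImplicit false
set_option linter.style.haveILetI false

namespace Groth.Agent.Lib.ValEt76

open Polynomial IsLocalRing

section Main

/-- the lift of the minimal polynomial of the residue class of `α` -/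
theorem exists_monic_lift_minpoly (A D : Type*) [CommRing A] [IsLocalRing A]
    [CommRing D] [IsLocalRing D] [Algebra A D] [IsLocalHom (algebraMap A D)] (f : A[X]) (hf : f.Monic) (α : D) (hα : aeval α f = 0) :
    ∃ g : A[X], g.Monic ∧ aeval α g ∈ maximalIdeal D ∧
      ∀ q : A[X], q.natDegree < g.natDegree → (∃ i, q.coeff i = 1) → IsUnit (aeval α q) := by
  set αbar : ResidueField D := residue D α with hαbar
  have hres : ∀ p : A[X], aeval αbar (p.map (algebraMap A (ResidueField A))) =
      residue D (aeval α p) := by
    intro p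
    rw [aeval_map_algebraMap, hαbar, ← ResidueField.algebraMap_eq, aeval_algebraMap_apply]
  have hαint : IsIntegral (ResidueField A) αbar := by
    refine ⟨f.map (algebraMap A (ResidueField A)), hf.map _, ?_⟩
    rw [← aeval_def, hres, hα, map_zero]
  have hlift : minpoly (ResidueField A) αbar ∈ lifts (algebraMap A (ResidueField A)) :=
    (lifts_iff_coeff_lifts _).mpr fun n => residue_surjective _
  obtain ⟨g, hg1, hg2, hg3⟩ := lifts_and_natDegree_eq_and_monic hlift (minpoly.monic hαint)
  refine ⟨g, hg3, ?_, ?_⟩
  · rw [← residue_eq_zero_iff, ← hres, hg1, minpoly.aeval]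
  · intro q hq ⟨i, hi⟩
    rw [← residue_ne_zero_iff_isUnit, ← hres]
    intro h0
    have hq0 : q.map (algebraMap A (ResidueField A)) ≠ 0 := by
      intro h
      have := congrArg (fun p => p.coeff i) h
      simp only [coeff_map, hi, map_one, coeff_zero] at this
      exact one_ne_zero this
    have h1 := natDegree_le_natDegree (minpoly.degree_le_of_ne_zero (ResidueField A) αbar hq0 h0)
    have h2 : (q.map (algebraMap A (ResidueField A))).natDegree ≤ q.natDegree := natDegree_map_le
    omega

variable (A D : Type*) [CommRing A] [IsDomain A] [ValuationRing A]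
  [CommRing D] [IsDomain D] [IsLocalRing D] [Algebra A D] [IsLocalHom (algebraMap A D)]

set_option maxHeartbeats 1000000 in
/-- **Weak unramifiedness** of "standard étale" local rings over a valuation ring. -/
theorem exists_unit_mul_algebraMap [ValuationRing D]
    (hinj : Function.Injective (algebraMap A D))
    (f : A[X]) (hf : f.Monic) (α : D) (hα : aeval α f = 0)
    (hder : IsUnit (aeval α (derivative f)))
    (hgen : ∀ d : D, ∃ c s : A[X], IsUnit (aeval α s) ∧ d * aeval α s = aeval α c)
    (d : D) (hd : d ≠ 0) : ∃ (a : A) (u : Dˣ), d = u * algebraMap A D a := by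
  classical
  let L := FractionRing D
  let N := AlgebraicClosure L
  have hDN : Function.Injective (algebraMap D N) := by
    rw [IsScalarTower.algebraMap_eq D L N]
    exact (algebraMap L N).injective.comp (IsFractionRing.injective D L)
  have hAN : Function.Injective (algebraMap A N) := by
    rw [IsScalarTower.algebraMap_eq A D N]
    exact hDN.comp hinj
  haveI : FaithfulSMul A N := (faithfulSMul_iff_algebraMap_injective A N).mpr hAN
  let K := FractionRing A
  letI : Algebra K N := FractionRing.liftAlgebra A N
  haveI : IsScalarTower A K N := FractionRing.isScalarTower_liftAlgebra A N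
  obtain ⟨O, hO1, hO2, hO3⟩ := exists_valuationSubring_dominating D N hDN
  have hO4 : ∀ e : D, O.valuation (algebraMap D N e) = 1 → IsUnit e := by
    intro e he
    by_contra hne
    have := hO2 e ((mem_maximalIdeal e).mpr hne)
    rw [he] at this
    exact lt_irrefl _ this
  have hAO : ∀ a : A, algebraMap A N a ∈ O := by
    intro a
    rw [IsScalarTower.algebraMap_apply A D N]
    exact hO1 _
  set αN : N := algebraMap D N α with hαN
  have hαNO : αN ∈ O := hO1 α
  have hmapK : ∀ p : A[X], aeval αN (p.map (algebraMap A K)) = algebraMap D N (aeval α p) := by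
    intro p
    rw [aeval_map_algebraMap, aeval_algebraMap_apply]
  have hcoeffO : ∀ (p : A[X]) (i : ℕ), algebraMap K N ((p.map (algebraMap A K)).coeff i) ∈ O := by
    intro p i
    rw [coeff_map, ← IsScalarTower.algebraMap_apply A K N]
    exact hAO _
  set fK : K[X] := f.map (algebraMap A K) with hfK
  have hs : (fK.map (algebraMap K N)).Splits := IsAlgClosed.splits _
  have hαK : aeval αN fK = 0 := by rw [hmapK, hα, map_zero]
  have hderK : O.valuation (aeval αN (derivative fK)) = 1 := by
    rw [hfK, derivative_map, hmapK]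
    exact hO3 _ hder
  -- the auxiliary polynomial `g` and its root `θ`
  obtain ⟨g, hgm, hgα, hgq⟩ := exists_monic_lift_minpoly A D f hf α hα
  set gK : K[X] := g.map (algebraMap A K) with hgK
  have hgKm : gK.Monic := hgm.map _
  have hgNm : (gK.map (algebraMap K N)).Monic := hgKm.map _
  have hgs : (gK.map (algebraMap K N)).Splits := IsAlgClosed.splits _
  have hgval : O.valuation (aeval αN gK) < 1 := by
    rw [hmapK]
    exact hO2 _ hgα
  have hrootO : ∀ θ ∈ (gK.map (algebraMap K N)).roots, θ ∈ O := by
    intro θ hθ
    refine mem_of_aeval_eq_zero O gK hgKm (hcoeffO g) θ ?_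
    rw [mem_roots hgNm.ne_zero, IsRoot.def, eval_map_algebraMap] at hθ
    exact hθ
  obtain ⟨θ, hθroot, hθ⟩ : ∃ θ, aeval θ gK = 0 ∧ O.valuation (αN - θ) < 1 := by
    by_contra hcon
    push Not at hcon
    have e1 : aeval αN gK = ((gK.map (algebraMap K N)).roots.map fun θ => αN - θ).prod := by
      rw [← eval_map_algebraMap]
      exact hgs.eval_eq_prod_roots_of_monic hgNm αN
    have e2 : O.valuation (aeval αN gK) = 1 := by
      rw [e1, map_multiset_prod, Multiset.map_map]
      apply Multiset.prod_eq_one
      intro y hy
      obtain ⟨θ, hθ, rfl⟩ := Multiset.mem_map.mp hy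
      simp only [Function.comp_apply]
      apply le_antisymm
      · rw [O.valuation_le_one_iff]
        exact sub_mem hαNO (hrootO θ hθ)
      · refine hcon θ ?_
        rw [mem_roots hgNm.ne_zero, IsRoot.def, eval_map_algebraMap] at hθ
        exact hθ
    rw [e2] at hgval
    exact lt_irrefl _ hgval
  have hθO : θ ∈ O := mem_of_aeval_eq_zero O gK hgKm (hcoeffO g) θ hθroot
  have hθint : IsIntegral K θ := ⟨gK, hgKm, by rw [← aeval_def]; exact hθroot⟩
  -- the ring homomorphism `A → O`
  let φ : A →+* O := (algebraMap A N).codRestrict O.toSubring hAO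
  have hφ : ∀ (p : A[X]) (y : O), (((p.map φ).eval y : O) : N) = aeval (y : N) p := by
    intro p y
    have h1 := Polynomial.hom_eval₂ p φ O.subtype y
    rw [← eval_map] at h1
    have h2 : O.subtype.comp φ = algebraMap A N := by
      ext a
      rfl
    rw [h2] at h1
    exact h1
  -- elements with a coefficient one and small degree are units at `θ`
  have hunitθ : ∀ q : A[X], q.natDegree < g.natDegree → (∃ i, q.coeff i = 1) →
      O.valuation (aeval θ q) = 1 := by
    intro q hq hq1
    have hu : IsUnit (aeval α q) := hgq q hq hq1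
    have h1 : O.valuation (aeval αN q) = 1 := by
      rw [hαN, aeval_algebraMap_apply]
      exact hO3 _ hu
    obtain ⟨w, hw⟩ := Polynomial.sub_dvd_eval_sub (⟨θ, hθO⟩ : O) ⟨αN, hαNO⟩ (q.map φ)
    have h2 : aeval θ q - aeval αN q = (θ - αN) * (w : N) := by
      have := congrArg (fun z : O => (z : N)) hw
      push_cast at this
      rw [hφ, hφ] at this
      exact this
    have h3 : O.valuation (aeval θ q - aeval αN q) < 1 := by
      rw [h2, map_mul, O.valuation.map_sub_swap]
      calc O.valuation (αN - θ) * O.valuation (w : N)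
          ≤ O.valuation (αN - θ) * 1 := mul_le_mul_right (O.valuation_le_one w) _
        _ = O.valuation (αN - θ) := mul_one _
        _ < 1 := hθ
    have e : aeval θ q = aeval αN q + (aeval θ q - aeval αN q) := by ring
    rw [e, Valuation.map_add_eq_of_lt_left]
    · exact h1
    · rw [h1]; exact h3
  -- the hypothesis `H1`
  have H1 : ∀ q : K[X], aeval θ q ≠ 0 →
      ∃ a : K, O.valuation (aeval θ q) = O.valuation (algebraMap K N a) := by
    intro q hq
    set q₁ : K[X] := q %ₘ gK with hq₁
    have hq₁θ : aeval θ q₁ = aeval θ q := by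
      have := modByMonic_add_div q gK
      conv_rhs => rw [← this]
      rw [map_add, map_mul, hθroot, zero_mul, add_zero]
    have hq₁0 : q₁ ≠ 0 := by
      intro h
      rw [h, map_zero] at hq₁θ
      exact hq hq₁θ.symm
    have hgK1 : gK ≠ 1 := by
      intro h
      rw [h, map_one] at hθroot
      exact one_ne_zero hθroot
    have hq₁deg : q₁.natDegree < gK.natDegree := natDegree_modByMonic_lt q hgKm hgK1
    obtain ⟨b, hbM, hb⟩ := IsLocalization.integerNormalization_spec (nonZeroDivisors A) q₁
    set q₂ : A[X] := IsLocalization.integerNormalization (nonZeroDivisors A) q₁ with hq₂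
    have hb0 : b ≠ 0 := nonZeroDivisors.ne_zero hbM
    have hbK : algebraMap A K b ≠ 0 := by
      intro h
      exact hb0 (IsFractionRing.injective A K (h.trans (map_zero _).symm))
    have hsmul : b • q₁ = C (algebraMap A K b) * q₁ := by
      rw [Algebra.smul_def, Polynomial.algebraMap_apply]
    rw [hsmul] at hb
    have hq₂0 : q₂ ≠ 0 := by
      intro h
      rw [h, Polynomial.map_zero] at hb
      exact mul_ne_zero (fun h => hbK (C_eq_zero.mp h)) hq₁0 hb.symm
    obtain ⟨c₂, q₃, hc₂, hq₂₃, hq₃1⟩ :=
      Groth.Agent.Lib.BoschCore76.exists_primitive_of_valuationRing q₂ hq₂0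
    have hdeg₃ : q₃.natDegree < g.natDegree := by
      have h1 : q₃.natDegree = q₂.natDegree := by
        rw [hq₂₃, natDegree_C_mul hc₂]
      have h2 : q₂.natDegree = (q₂.map (algebraMap A K)).natDegree :=
        (natDegree_map_eq_of_injective (IsFractionRing.injective A K) _).symm
      have h3 : (C (algebraMap A K b) * q₁).natDegree = q₁.natDegree := natDegree_C_mul hbK
      have h4 : gK.natDegree = g.natDegree :=
        natDegree_map_eq_of_injective (IsFractionRing.injective A K) _
      rw [h1, h2, hb, h3, ← h4]
      exact hq₁deg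
    have hv₃ : O.valuation (aeval θ q₃) = 1 := hunitθ q₃ hdeg₃ hq₃1
    have hrel : algebraMap A N b * aeval θ q₁ = algebraMap A N c₂ * aeval θ q₃ := by
      have := congrArg (aeval θ) hb
      rw [aeval_map_algebraMap, hq₂₃, map_mul, aeval_C, map_mul, aeval_C,
        ← IsScalarTower.algebraMap_apply A K N] at this
      exact this.symm
    have hbN : O.valuation (algebraMap A N b) ≠ 0 :=
      (_root_.map_ne_zero _).mpr fun h => hb0 (hAN (h.trans (map_zero _).symm))
    refine ⟨algebraMap A K c₂ / algebraMap A K b, ?_⟩
    rw [map_div₀, map_div₀, ← IsScalarTower.algebraMap_apply A K N,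
      ← IsScalarTower.algebraMap_apply A K N, ← hq₁θ, eq_div_iff hbN, mul_comm, ← map_mul, hrel,
      map_mul, hv₃, mul_one]
  -- apply the field-level theorem
  obtain ⟨c, s, hsu, hds⟩ := hgen d
  have hcα : aeval α c ≠ 0 := by
    rw [← hds]
    exact mul_ne_zero hd hsu.ne_zero
  have hcK : aeval αN (c.map (algebraMap A K)) ≠ 0 := by
    rw [hmapK]
    exact fun h => hcα (hDN (h.trans (map_zero _).symm))
  obtain ⟨aK, haK⟩ := exists_valuation_eq O fK (hf.map _) (hcoeffO f) hs αN hαK hderK θ hθint hθ H1
    (c.map (algebraMap A K)) hcK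
  have hvd : O.valuation (algebraMap D N d) = O.valuation (algebraMap K N aK) := by
    have h1 := congrArg (fun z => O.valuation (algebraMap D N z)) hds
    simp only [map_mul] at h1
    rw [hO3 _ hsu, mul_one, ← hmapK, haK] at h1
    exact h1
  have hdN : O.valuation (algebraMap D N d) ≠ 0 :=
    (_root_.map_ne_zero _).mpr fun h => hd (hDN (h.trans (map_zero _).symm))
  obtain ⟨a₁, a₂, ha₂, rfl⟩ := IsFractionRing.div_surjective (A := A) aK
  have ha₂0 : a₂ ≠ 0 := nonZeroDivisors.ne_zero ha₂
  rw [map_div₀, map_div₀, ← IsScalarTower.algebraMap_apply A K N,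
    ← IsScalarTower.algebraMap_apply A K N] at hvd
  have hva₂ : O.valuation (algebraMap A N a₂) ≠ 0 :=
    (_root_.map_ne_zero _).mpr fun h => ha₂0 (hAN (h.trans (map_zero _).symm))
  rw [eq_div_iff hva₂] at hvd
  have hAD : ∀ a : A, algebraMap A N a = algebraMap D N (algebraMap A D a) := fun a =>
    IsScalarTower.algebraMap_apply A D N a
  rcases ValuationRing.dvd_total a₁ a₂ with ⟨t, ht⟩ | ⟨t, ht⟩
  · -- `a₂ = a₁ * t`: then `d * t` is a unit
    have h1 : O.valuation (algebraMap D N (d * algebraMap A D t)) = 1 := by
      have ha₁0 : O.valuation (algebraMap A N a₁) ≠ 0 := by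
        intro h
        rw [h] at hvd
        exact mul_ne_zero hdN hva₂ hvd
      rw [ht, map_mul, map_mul, ← mul_assoc, mul_comm _ (O.valuation (algebraMap A N a₁)),
        mul_assoc] at hvd
      have := mul_left_cancel₀ ha₁0 (hvd.trans (mul_one _).symm)
      rw [map_mul, map_mul, ← hAD]
      exact this
    have hu : IsUnit (d * algebraMap A D t) := hO4 _ h1
    have hdu : IsUnit d := isUnit_of_mul_isUnit_left hu
    exact ⟨1, hdu.unit, by rw [map_one, mul_one]; rfl⟩
  · -- `a₁ = a₂ * t`
    have h1 : O.valuation (algebraMap D N d) = O.valuation (algebraMap D N (algebraMap A D t)) := by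
      rw [ht, map_mul, map_mul, mul_comm (O.valuation (algebraMap A N a₂))] at hvd
      rw [← hAD]
      exact mul_right_cancel₀ hva₂ hvd
    have ht0 : O.valuation (algebraMap D N (algebraMap A D t)) ≠ 0 := h1 ▸ hdN
    rcases ValuationRing.dvd_total d (algebraMap A D t) with ⟨e, he⟩ | ⟨e, he⟩
    · have h2 : O.valuation (algebraMap D N e) = 1 := by
        rw [he, map_mul, map_mul] at h1
        exact (mul_left_cancel₀ hdN (h1.symm.trans (mul_one _).symm))
      have hu : IsUnit e := hO4 e h2
      refine ⟨t, hu.unit⁻¹, ?_⟩
      rw [he, mul_comm d e, ← mul_assoc, IsUnit.val_inv_mul, one_mul]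
    · have h2 : O.valuation (algebraMap D N e) = 1 := by
        rw [he, map_mul, map_mul] at h1
        exact (mul_left_cancel₀ ht0 (h1.trans (mul_one _).symm))
      have hu : IsUnit e := hO4 e h2
      exact ⟨t, hu.unit, by rw [he, mul_comm]; rfl⟩

end Main

end Groth.Agent.Lib.ValEt76
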