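import Groth.Agent.Lib.ValEt76E
import Groth.Agent.Lib.WEtaleNormalLocal22

/-!
# Étale algebras over valuation rings (helper76), Stacks 0ASJ

`A` a valuation ring, `B` an étale `A`-algebra, `m` a prime of `B` over the maximal ideal of `A`.
Then `B_m` is a valuation ring, `A → B_m` is injective, local and weakly unramified.
-/

set_option autoImplicit false
set_option linter.style.haveILetI false

namespace Groth.Agent.Lib.ValEt76

open Polynomial IsLocalRing

universe u

/-- standard étale coordinates on the local ring of an étale algebra -/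
theorem exists_standardEtale_data (A B : Type*) [CommRing A] [CommRing B] [Algebra A B]
    [Algebra.Etale A B] (m : Ideal B) [m.IsPrime] :
    ∃ (f : A[X]) (α : Localization.AtPrime m), f.Monic ∧ aeval α f = 0 ∧
      IsUnit (aeval α (derivative f)) ∧
      ∀ d : Localization.AtPrime m, ∃ c s : A[X], IsUnit (aeval α s) ∧
        d * aeval α s = aeval α c := by
  classical
  obtain ⟨g₀, hg₀, hse⟩ := Algebra.IsEtaleAt.exists_isStandardEtale (R := A) m
  obtain ⟨P⟩ := hse.nonempty_standardEtalePresentation
  set D := Localization.AtPrime m with hD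
  have hunit : ∀ y : Submonoid.powers g₀, IsUnit (IsScalarTower.toAlgHom A B D y) := by
    rintro ⟨_, n, rfl⟩
    simp only [IsScalarTower.coe_toAlgHom', map_pow]
    exact (IsLocalization.map_units D (⟨g₀, hg₀⟩ : m.primeCompl)).pow n
  let ψ : Localization.Away g₀ →ₐ[A] D := IsLocalization.liftAlgHom (M := Submonoid.powers g₀)
    (f := IsScalarTower.toAlgHom A B D) hunit
  have hψ : ∀ b : B, ψ (algebraMap B (Localization.Away g₀) b) = algebraMap B D b := by
    intro b
    rw [IsLocalization.liftAlgHom_apply, IsLocalization.lift_eq]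
    rfl
  set α : D := ψ P.x with hα
  have hae : ∀ p : A[X], aeval α p = ψ (aeval P.x p) := fun p => aeval_algHom_apply ψ P.x p
  set G : D := aeval α P.g with hG
  have hGu : IsUnit G := by
    rw [hG, hae]
    exact P.hasMap.2.map ψ
  refine ⟨P.f, α, P.monic_f, ?_, ?_, ?_⟩
  · rw [hae, P.hasMap.1, map_zero]
  · rw [hae]
    exact P.hasMap.isUnit_derivative_f.map ψ
  · intro d
    obtain ⟨b, s, rfl⟩ := IsLocalization.exists_mk'_eq m.primeCompl d
    obtain ⟨pb, nb, hb⟩ := P.exists_mul_aeval_x_g_pow_eq_aeval_x
      (algebraMap B (Localization.Away g₀) b)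
    obtain ⟨ps, ns, hs⟩ := P.exists_mul_aeval_x_g_pow_eq_aeval_x
      (algebraMap B (Localization.Away g₀) (s : B))
    have hb' : algebraMap B D b * G ^ nb = aeval α pb := by
      have := congrArg ψ hb
      rw [map_mul, map_pow, hψ, ← hae, ← hae] at this
      exact this
    have hs' : algebraMap B D (s : B) * G ^ ns = aeval α ps := by
      have := congrArg ψ hs
      rw [map_mul, map_pow, hψ, ← hae, ← hae] at this
      exact this
    refine ⟨pb * P.g ^ ns, ps * P.g ^ nb, ?_, ?_⟩
    · rw [map_mul, map_pow, ← hG, ← hs']
      exact ((IsLocalization.map_units D s).mul (hGu.pow ns)).mul (hGu.pow nb)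
    · rw [map_mul, map_pow, map_mul, map_pow, ← hG, ← hs', ← hb']
      have := IsLocalization.mk'_spec D b s
      calc IsLocalization.mk' D b s * (algebraMap B D (s : B) * G ^ ns * G ^ nb)
          = (IsLocalization.mk' D b s * algebraMap B D (s : B)) * G ^ ns * G ^ nb := by ring
        _ = algebraMap B D b * G ^ nb * G ^ ns := by rw [this]; ring

/-- **Stacks 0ASJ.** -/
theorem etale_localization (A B : Type u) [CommRing A] [IsDomain A] [ValuationRing A]
    [CommRing B] [Algebra A B] [Algebra.Etale A B] (m : Ideal B) [m.IsPrime]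
    (hm : m.comap (algebraMap A B) = maximalIdeal A) :
    IsDomain (Localization.AtPrime m) ∧
    (∀ _ : IsDomain (Localization.AtPrime m), ValuationRing (Localization.AtPrime m)) ∧
    Function.Injective (algebraMap A (Localization.AtPrime m)) ∧
    IsLocalHom (algebraMap A (Localization.AtPrime m)) ∧
    ∀ b : Localization.AtPrime m, b ≠ 0 → ∃ (a : A) (u : (Localization.AtPrime m)ˣ),
      b = u * algebraMap A (Localization.AtPrime m) a := by
  classical
  set D := Localization.AtPrime m with hD
  haveI : Algebra.WeaklyEtale B D :=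
    Groth.Agent.Lib.WEtaleNormalLocal22.weaklyEtale_of_isLocalization m.primeCompl D
  haveI : Algebra.WeaklyEtale A D := Algebra.WeaklyEtale.trans A B D
  obtain ⟨hdom, hicl⟩ :=
    Groth.Agent.Lib.WEtaleNormalLocal22.isDomain_and_isIntegrallyClosed_of_weaklyEtale A D
      (fun e he => Groth.Agent.Lib.WEtaleNormalLocal22.eq_zero_or_eq_one_of_isLocalRing e he)
  haveI := hdom
  haveI := hicl
  have hinj : Function.Injective (algebraMap A D) := FaithfulSMul.algebraMap_injective A D
  haveI hloc : IsLocalHom (algebraMap A D) := by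
    constructor
    intro a ha
    rw [IsScalarTower.algebraMap_apply A B D] at ha
    have h1 : algebraMap A B a ∉ m := by
      intro hmem
      have : algebraMap B D (algebraMap A B a) ∈ maximalIdeal D :=
        (IsLocalization.AtPrime.to_map_mem_maximal_iff D m _).mpr hmem
      exact this ha
    have h2 : a ∉ maximalIdeal A := by
      rw [← hm]
      exact h1
    exact not_not.mp h2
  obtain ⟨f, α, hf, hα, hder, hgen⟩ := exists_standardEtale_data A B m
  -- algebraicity
  have hαint : IsIntegral A α := ⟨f, hf, by rw [← aeval_def]; exact hα⟩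
  have hpint : ∀ p : A[X], IsIntegral A (aeval α p) := by
    intro p
    have := Polynomial.aeval_subalgebra_coe p (integralClosure A D) ⟨α, hαint⟩
    rw [← this]
    exact (aeval (⟨α, hαint⟩ : integralClosure A D) p).2
  haveI : Algebra.IsAlgebraic A D := by
    refine ⟨fun d => ?_⟩
    obtain ⟨c, s, hsu, hds⟩ := hgen d
    refine IsAlgebraic.of_mul (y := aeval α s) (mem_nonZeroDivisors_of_ne_zero hsu.ne_zero)
      (hpint s).isAlgebraic ?_
    rw [mul_comm, hds]
    exact (hpint c).isAlgebraic
  have hval : ValuationRing D := valuationRing_of_isAlgebraic A D hinj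
  refine ⟨hdom, fun _ => hval, hinj, hloc, ?_⟩
  intro b hb
  exact exists_unit_mul_algebraMap A D hinj f hf α hα hder hgen b hb

end Groth.Agent.Lib.ValEt76
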