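import Groth.Agent.Lib.ValEt76F

/-!
# Ind-étale local algebras over valuation rings (helper76)

`A` a valuation ring, `S` a local `A`-algebra, local and injective over `A`, such that every element
of `S` lies in the image of an étale `A`-algebra (e.g. a henselization or a strict henselization).
Then `S` is a valuation ring, weakly unramified over `A`.
-/

set_option autoImplicit false
set_option linter.style.haveILetI false

namespace Groth.Agent.Lib.ValEt76

open Polynomial IsLocalRing

universe u

theorem exists_unit_mul_of_etale_gen (A S : Type u) [CommRing A] [IsDomain A] [ValuationRing A]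
    [CommRing S] [IsLocalRing S] [Algebra A S] [IsLocalHom (algebraMap A S)]
    (E : Type u) [CommRing E] [Algebra A E] [Algebra.Etale A E] (φ : E →ₐ[A] S) (e : E)
    (he : φ e ≠ 0) : ∃ (a : A) (u : Sˣ), φ e = u * algebraMap A S a := by
  classical
  set q : Ideal E := (maximalIdeal S).comap φ.toRingHom with hq
  haveI : q.IsPrime := Ideal.comap_isPrime _ _
  have hqA : q.comap (algebraMap A E) = maximalIdeal A := by
    rw [hq, Ideal.comap_comap]
    have : φ.toRingHom.comp (algebraMap A E) = algebraMap A S := φ.comp_algebraMap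
    rw [this]
    exact ((local_hom_TFAE (algebraMap A S)).out 0 4).mp ‹IsLocalHom (algebraMap A S)›
  obtain ⟨-, -, -, -, hwu⟩ := etale_localization A E q hqA
  have hunit : ∀ y : q.primeCompl, IsUnit (φ.toRingHom y) := by
    intro y
    have : φ.toRingHom y ∉ maximalIdeal S := fun h => y.2 h
    exact not_not.mp this
  let ψ : Localization.AtPrime q →+* S := IsLocalization.lift (M := q.primeCompl) hunit
  have hψ : ∀ x : E, ψ (algebraMap E (Localization.AtPrime q) x) = φ x := fun x =>
    IsLocalization.lift_eq hunit x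
  have he' : algebraMap E (Localization.AtPrime q) e ≠ 0 := by
    intro h
    apply he
    rw [← hψ, h, map_zero]
  obtain ⟨a, u, hu⟩ := hwu _ he'
  refine ⟨a, Units.map ψ.toMonoidHom u, ?_⟩
  have := congrArg ψ hu
  rw [hψ, map_mul, IsScalarTower.algebraMap_apply A E (Localization.AtPrime q), hψ,
    AlgHom.commutes] at this
  exact this

theorem of_etale_gen (A S : Type u) [CommRing A] [IsDomain A] [ValuationRing A]
    [CommRing S] [IsLocalRing S] [Algebra A S] [IsLocalHom (algebraMap A S)]
    (hinj : Function.Injective (algebraMap A S))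
    (hgen : ∀ s : S, ∃ (E : Type u) (_ : CommRing E) (_ : Algebra A E) (_ : Algebra.Etale A E)
      (φ : E →ₐ[A] S), s ∈ φ.range) :
    IsDomain S ∧ (∀ _ : IsDomain S, ValuationRing S) ∧ Function.Injective (algebraMap A S) ∧
      ∀ s : S, s ≠ 0 → ∃ (a : A) (u : Sˣ), s = u * algebraMap A S a := by
  classical
  have key : ∀ s : S, s ≠ 0 → ∃ (a : A) (u : Sˣ), s = u * algebraMap A S a := by
    intro s hs
    obtain ⟨E, _, _, _, φ, e, rfl⟩ := hgen s
    exact exists_unit_mul_of_etale_gen A S E φ e hs
  have hdom : IsDomain S := by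
    haveI : NoZeroDivisors S := by
      refine ⟨fun {x y} hxy => ?_⟩
      by_contra hcon
      push Not at hcon
      obtain ⟨a, u, hu⟩ := key x hcon.1
      obtain ⟨b, v, hv⟩ := key y hcon.2
      have h1 : algebraMap A S (a * b) = 0 := by
        have : (u : S) * (v : S) * algebraMap A S (a * b) = 0 := by
          rw [map_mul, ← hxy, hu, hv]; ring
        exact (u * v).isUnit.mul_right_eq_zero.mp (by rw [Units.val_mul]; exact this)
      have h2 : a * b = 0 := hinj (h1.trans (map_zero _).symm)
      rcases mul_eq_zero.mp h2 with h | h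
      · apply hcon.1
        rw [hu, h, map_zero, mul_zero]
      · apply hcon.2
        rw [hv, h, map_zero, mul_zero]
    exact NoZeroDivisors.to_isDomain S
  refine ⟨hdom, fun _ => ?_, hinj, key⟩
  rw [ValuationRing.iff_dvd_total]
  refine ⟨fun x y => ?_⟩
  by_cases hx : x = 0
  · right
    rw [hx]
    exact dvd_zero y
  by_cases hy : y = 0
  · left
    rw [hy]
    exact dvd_zero x
  obtain ⟨a, u, hu⟩ := key x hx
  obtain ⟨b, v, hv⟩ := key y hy
  rcases ValuationRing.dvd_total a b with ⟨t, ht⟩ | ⟨t, ht⟩
  · left
    refine ⟨(↑u⁻¹ : S) * v * algebraMap A S t, ?_⟩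
    rw [hv, hu, ht, map_mul]
    have : (u : S) * (↑u⁻¹ : S) = 1 := u.mul_inv
    calc (v : S) * (algebraMap A S a * algebraMap A S t)
        = ((u : S) * (↑u⁻¹ : S)) * (v * (algebraMap A S a * algebraMap A S t)) := by
          rw [this, one_mul]
      _ = (u : S) * algebraMap A S a * ((↑u⁻¹ : S) * v * algebraMap A S t) := by ring
  · right
    refine ⟨(↑v⁻¹ : S) * u * algebraMap A S t, ?_⟩
    rw [hv, hu, ht, map_mul]
    have : (v : S) * (↑v⁻¹ : S) = 1 := v.mul_inv
    calc (u : S) * (algebraMap A S b * algebraMap A S t)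
        = ((v : S) * (↑v⁻¹ : S)) * (u * (algebraMap A S b * algebraMap A S t)) := by
          rw [this, one_mul]
      _ = (v : S) * algebraMap A S b * ((↑v⁻¹ : S) * u * algebraMap A S t) := by ring

end Groth.Agent.Lib.ValEt76
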