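import Groth.Agent.Lib.ValEt76F

/-!
# Étale algebras over a ring with a valuation local ring (helper76)

`P` a ring, `P₀` a prime such that `V' = P_{P₀}` is a valuation ring, `B` étale over `P`, `q` a prime
of `B` over `P₀`. Then `B_q` is a valuation ring, weakly unramified over `V'`.
-/

set_option autoImplicit false
set_option linter.style.haveILetI false

namespace Groth.Agent.Lib.ValEt76

open Polynomial IsLocalRing

universe u

set_option maxHeartbeats 800000 in
theorem etale_localization_of_liesOver (P B : Type u) [CommRing P] [CommRing B] [Algebra P B]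
    [Algebra.Etale P B] (P₀ : Ideal P) [P₀.IsPrime] [IsDomain (Localization.AtPrime P₀)]
    [ValuationRing (Localization.AtPrime P₀)] (q : Ideal B) [q.IsPrime] [q.LiesOver P₀]
    [Algebra (Localization.AtPrime P₀) (Localization.AtPrime q)]
    [Localization.AtPrime.IsLiesOverAlgebra P₀ q] :
    IsDomain (Localization.AtPrime q) ∧
    (∀ _ : IsDomain (Localization.AtPrime q), ValuationRing (Localization.AtPrime q)) ∧
    Function.Injective (algebraMap (Localization.AtPrime P₀) (Localization.AtPrime q)) ∧
    IsLocalHom (algebraMap (Localization.AtPrime P₀) (Localization.AtPrime q)) ∧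
    ∀ b : Localization.AtPrime q, b ≠ 0 → ∃ (a : Localization.AtPrime P₀)
      (u : (Localization.AtPrime q)ˣ),
      b = u * algebraMap (Localization.AtPrime P₀) (Localization.AtPrime q) a := by
  classical
  set V' := Localization.AtPrime P₀ with hV'
  set D := Localization.AtPrime q with hD
  haveI : Algebra.WeaklyEtale V' D :=
    Groth.Agent.Lib.WEtaleNormalLocal22.weaklyEtale_localization_of_weaklyEtale P B V' D
      P₀.primeCompl q.primeCompl
  obtain ⟨hdom, hicl⟩ :=
    Groth.Agent.Lib.WEtaleNormalLocal22.isDomain_and_isIntegrallyClosed_of_weaklyEtale V' D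
      (fun e he => Groth.Agent.Lib.WEtaleNormalLocal22.eq_zero_or_eq_one_of_isLocalRing e he)
  haveI := hdom
  haveI := hicl
  have hinj : Function.Injective (algebraMap V' D) := FaithfulSMul.algebraMap_injective V' D
  haveI hloc : IsLocalHom (algebraMap V' D) := by
    rw [Localization.AtPrime.IsLiesOverAlgebra.algebraMap_eq (p := P₀) (P := q)]
    infer_instance
  obtain ⟨f, α, hf, hα, hder, hgen⟩ := exists_standardEtale_data P B q
  have hmap : ∀ p : P[X], aeval α (p.map (algebraMap P V')) = aeval α p := fun p =>
    aeval_map_algebraMap V' α p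
  set f' : V'[X] := f.map (algebraMap P V') with hf'
  have hf'm : f'.Monic := hf.map _
  have hα' : aeval α f' = 0 := by rw [hmap, hα]
  have hder' : IsUnit (aeval α (derivative f')) := by
    rw [hf', derivative_map, hmap]; exact hder
  have hgen' : ∀ d : D, ∃ c s : V'[X], IsUnit (aeval α s) ∧ d * aeval α s = aeval α c := by
    intro d
    obtain ⟨c, s, hsu, hds⟩ := hgen d
    exact ⟨c.map (algebraMap P V'), s.map (algebraMap P V'), by rw [hmap]; exact hsu,
      by rw [hmap, hmap]; exact hds⟩
  -- algebraicity
  have hαint : IsIntegral V' α := ⟨f', hf'm, by rw [← aeval_def]; exact hα'⟩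
  have hpint : ∀ p : V'[X], IsIntegral V' (aeval α p) := by
    intro p
    have := Polynomial.aeval_subalgebra_coe p (integralClosure V' D) ⟨α, hαint⟩
    rw [← this]
    exact (aeval (⟨α, hαint⟩ : integralClosure V' D) p).2
  haveI : Algebra.IsAlgebraic V' D := by
    refine ⟨fun d => ?_⟩
    obtain ⟨c, s, hsu, hds⟩ := hgen' d
    refine IsAlgebraic.of_mul (y := aeval α s) (mem_nonZeroDivisors_of_ne_zero hsu.ne_zero)
      (hpint s).isAlgebraic ?_
    rw [mul_comm, hds]
    exact (hpint c).isAlgebraic
  have hval : ValuationRing D := valuationRing_of_isAlgebraic V' D hinj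
  refine ⟨hdom, fun _ => hval, hinj, hloc, ?_⟩
  intro b hb
  exact exists_unit_mul_algebraMap V' D hinj f' hf'm α hα' hder' hgen' b hb

end Groth.Agent.Lib.ValEt76
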