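import Groth.Agent.Lib.ValEt76H

/-!
# The Gauss valuation ring `V[x₁,…,xₙ]_{𝔪V[x]}` (helper76)

`V` a valuation ring, `P = MvPolynomial σ V`, `gaussIdeal = 𝔪_V P`. Every nonzero element of `P` is a
constant times a polynomial outside `gaussIdeal`; hence `P_{gaussIdeal}` is a valuation ring whose
nonzero elements are units times elements of `V`.
-/

set_option autoImplicit false
set_option linter.style.haveILetI false

namespace Groth.Agent.Lib.ValEt76

open IsLocalRing

universe u

section General

/-- a domain all of whose nonzero elements are units times elements of a valuation ring is a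
valuation ring -/
theorem valuationRing_of_exists_unit_mul (A S : Type*) [CommRing A] [IsDomain A] [ValuationRing A]
    [CommRing S] [IsDomain S] [Algebra A S]
    (key : ∀ s : S, s ≠ 0 → ∃ (a : A) (u : Sˣ), s = u * algebraMap A S a) : ValuationRing S := by
  rw [ValuationRing.iff_dvd_total]
  refine ⟨fun x y => ?_⟩
  by_cases hx : x = 0
  · right
    rw [hx]
    exact dvd_zero y
  by_cases hy : y = 0
  · left
    rw [hy]
    exact dvd_zero x
  obtain ⟨a, u, hu⟩ := key x hx
  obtain ⟨b, v, hv⟩ := key y hy
  rcases ValuationRing.dvd_total a b with ⟨t, ht⟩ | ⟨t, ht⟩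
  · left
    refine ⟨(↑u⁻¹ : S) * v * algebraMap A S t, ?_⟩
    rw [hv, hu, ht, map_mul]
    have : (u : S) * (↑u⁻¹ : S) = 1 := u.mul_inv
    calc (v : S) * (algebraMap A S a * algebraMap A S t)
        = ((u : S) * (↑u⁻¹ : S)) * (v * (algebraMap A S a * algebraMap A S t)) := by
          rw [this, one_mul]
      _ = (u : S) * algebraMap A S a * ((↑u⁻¹ : S) * v * algebraMap A S t) := by ring
  · right
    refine ⟨(↑v⁻¹ : S) * u * algebraMap A S t, ?_⟩
    rw [hv, hu, ht, map_mul]
    have : (v : S) * (↑v⁻¹ : S) = 1 := v.mul_inv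
    calc (u : S) * (algebraMap A S b * algebraMap A S t)
        = ((v : S) * (↑v⁻¹ : S)) * (u * (algebraMap A S b * algebraMap A S t)) := by
          rw [this, one_mul]
      _ = (v : S) * algebraMap A S b * ((↑v⁻¹ : S) * u * algebraMap A S t) := by ring

end General

section Gauss

variable (V : Type u) [CommRing V] [IsDomain V] [ValuationRing V] (σ : Type*)

/-- the extension of the maximal ideal to the polynomial ring -/
noncomputable def gaussIdeal : Ideal (MvPolynomial σ V) :=
  (maximalIdeal V).map (MvPolynomial.C : V →+* MvPolynomial σ V)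

instance gaussIdeal_isPrime : (gaussIdeal V σ).IsPrime := by
  have : gaussIdeal V σ = RingHom.ker (MvPolynomial.map (σ := σ) (residue V)) := by
    rw [MvPolynomial.ker_map, ker_residue]
    rfl
  rw [this]
  exact RingHom.ker_isPrime _

theorem mem_gaussIdeal_iff {g : MvPolynomial σ V} :
    g ∈ gaussIdeal V σ ↔ ∀ m : σ →₀ ℕ, g.coeff m ∈ maximalIdeal V :=
  MvPolynomial.mem_map_C_iff

/-- primitive part of a multivariate polynomial over a valuation ring -/
theorem exists_primitive_mv (g : MvPolynomial σ V) (hg : g ≠ 0) :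
    ∃ (c : V) (g₀ : MvPolynomial σ V), c ≠ 0 ∧ g = MvPolynomial.C c * g₀ ∧
      g₀ ∉ gaussIdeal V σ := by
  classical
  have hs : g.support.Nonempty := by
    rw [Finset.nonempty_iff_ne_empty, Ne, MvPolynomial.support_eq_empty]
    exact hg
  obtain ⟨i₀, hi₀, hdvd⟩ :=
    Groth.Agent.Lib.BoschCore76.exists_dvd_of_finset (fun i => g.coeff i) g.support hs
  have hc0 : g.coeff i₀ ≠ 0 := MvPolynomial.mem_support_iff.mp hi₀
  have hd : ∀ j, ∃ d, g.coeff j = g.coeff i₀ * d := by
    intro j
    by_cases hj : j ∈ g.support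
    · exact hdvd j hj
    · exact ⟨0, by rw [MvPolynomial.notMem_support_iff.mp hj, mul_zero]⟩
  choose d hd using hd
  refine ⟨g.coeff i₀, ∑ j ∈ g.support, MvPolynomial.monomial j (d j), hc0, ?_, ?_⟩
  · rw [Finset.mul_sum]
    conv_lhs => rw [MvPolynomial.as_sum g]
    apply Finset.sum_congr rfl
    intro j _
    rw [MvPolynomial.C_mul_monomial, ← hd j]
  · rw [mem_gaussIdeal_iff]
    intro h
    have h1 := h i₀
    rw [MvPolynomial.coeff_sum] at h1
    simp only [MvPolynomial.coeff_monomial] at h1
    rw [Finset.sum_ite_eq' g.support i₀, if_pos hi₀] at h1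
    have h2 : d i₀ = 1 := by
      have := hd i₀
      exact (mul_left_cancel₀ hc0 (by rw [mul_one]; exact this)).symm
    rw [h2] at h1
    exact (maximalIdeal.isMaximal V).ne_top ((Ideal.eq_top_iff_one _).mpr h1)

instance : IsDomain (Localization.AtPrime (gaussIdeal V σ)) :=
  IsLocalization.isDomain_localization (gaussIdeal V σ).primeCompl_le_nonZeroDivisors

/-- every nonzero element of the Gauss ring is a unit times an element of `V` -/
theorem gauss_exists_unit_mul (x : Localization.AtPrime (gaussIdeal V σ)) (hx : x ≠ 0) :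
    ∃ (c : V) (u : (Localization.AtPrime (gaussIdeal V σ))ˣ),
      x = u * algebraMap V (Localization.AtPrime (gaussIdeal V σ)) c := by
  obtain ⟨g, s, hxgs⟩ := IsLocalization.exists_mk'_eq (gaussIdeal V σ).primeCompl x
  have hspec : x * algebraMap (MvPolynomial σ V) (Localization.AtPrime (gaussIdeal V σ))
      (s : MvPolynomial σ V) = algebraMap (MvPolynomial σ V) _ g := by
    rw [← hxgs]
    exact IsLocalization.mk'_spec _ g s
  have hg : g ≠ 0 := by
    rintro rfl
    rw [IsLocalization.mk'_zero] at hxgs
    exact hx hxgs.symm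
  obtain ⟨c, g₀, hc, hgc, hg₀⟩ := exists_primitive_mv V σ g hg
  have hu₀ : IsUnit (algebraMap (MvPolynomial σ V) (Localization.AtPrime (gaussIdeal V σ)) g₀) :=
    IsLocalization.map_units _ (⟨g₀, hg₀⟩ : (gaussIdeal V σ).primeCompl)
  have hus : IsUnit (algebraMap (MvPolynomial σ V) (Localization.AtPrime (gaussIdeal V σ))
      (s : MvPolynomial σ V)) := IsLocalization.map_units _ s
  refine ⟨c, hu₀.unit * hus.unit⁻¹, ?_⟩
  rw [hgc, map_mul] at hspec
  have hC : algebraMap (MvPolynomial σ V) (Localization.AtPrime (gaussIdeal V σ))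
      (MvPolynomial.C c) = algebraMap V _ c := by
    rw [IsScalarTower.algebraMap_apply V (MvPolynomial σ V) (Localization.AtPrime (gaussIdeal V σ)),
      MvPolynomial.algebraMap_eq]
  rw [hC] at hspec
  rw [Units.val_mul, IsUnit.unit_spec]
  have h1 : x = x * algebraMap (MvPolynomial σ V) (Localization.AtPrime (gaussIdeal V σ))
      (s : MvPolynomial σ V) * ((hus.unit⁻¹ : (Localization.AtPrime (gaussIdeal V σ))ˣ) :
        Localization.AtPrime (gaussIdeal V σ)) := by
    rw [mul_assoc, IsUnit.mul_val_inv, mul_one]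
  rw [h1, hspec]
  ring

instance gauss_valuationRing : ValuationRing (Localization.AtPrime (gaussIdeal V σ)) :=
  valuationRing_of_exists_unit_mul V _ (gauss_exists_unit_mul V σ)

end Gauss

end Groth.Agent.Lib.ValEt76
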