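import Groth.Agent.Lib.ValEt76I

/-!
# Smooth algebras over a valuation ring at generic points of the special fibre (helper76)
-/

set_option autoImplicit false
set_option linter.style.haveILetI false

namespace Groth.Agent.Lib.ValEt76

open IsLocalRing

universe u

section GoingDown

variable (V : Type u) [CommRing V] [IsDomain V] [ValuationRing V] (σ : Type*)

/-- a prime of a flat `V[x]`-algebra, minimal over `𝔪_V`, lies over the Gauss prime -/
theorem under_eq_gaussIdeal (B : Type*) [CommRing B] [Algebra (MvPolynomial σ V) B] [Algebra V B]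
    [IsScalarTower V (MvPolynomial σ V) B] [Module.Flat (MvPolynomial σ V) B]
    (q : Ideal B) [q.IsPrime]
    (hq : q ∈ ((maximalIdeal V).map (algebraMap V B)).minimalPrimes) :
    q.under (MvPolynomial σ V) = gaussIdeal V σ := by
  have hle : gaussIdeal V σ ≤ q.under (MvPolynomial σ V) := by
    rw [gaussIdeal, Ideal.map_le_iff_le_comap]
    intro m hm
    rw [Ideal.mem_comap, Ideal.under_def, Ideal.mem_comap, ← MvPolynomial.algebraMap_eq,
      ← IsScalarTower.algebraMap_apply V (MvPolynomial σ V) B]
    exact hq.1.2 (Ideal.mem_map_of_mem _ hm)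
  haveI : q.LiesOver (q.under (MvPolynomial σ V)) := ⟨rfl⟩
  obtain ⟨Q', hQ'q, hQ'prime, hQ'over⟩ :=
    Ideal.exists_ideal_le_liesOver_of_le (p := gaussIdeal V σ) (q := q.under (MvPolynomial σ V)) q
      hle
  have h1 : (maximalIdeal V).map (algebraMap V B) ≤ Q' := by
    rw [Ideal.map_le_iff_le_comap]
    intro m hm
    rw [Ideal.mem_comap, IsScalarTower.algebraMap_apply V (MvPolynomial σ V) B]
    have : algebraMap V (MvPolynomial σ V) m ∈ Q'.under (MvPolynomial σ V) := by
      rw [← hQ'over.over, MvPolynomial.algebraMap_eq]
      exact Ideal.mem_map_of_mem _ hm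
    exact this
  have h2 : q ≤ Q' := hq.2 ⟨hQ'prime, h1⟩ hQ'q
  have h3 : Q' = q := le_antisymm hQ'q h2
  rw [← h3]
  exact hQ'over.over.symm

end GoingDown

section Smooth

set_option maxHeartbeats 1000000 in
/-- **Smooth algebras over valuation rings**: local rings at generic points of the special fibre. -/
theorem smooth_localization
    (V : Type u) [CommRing V] [IsDomain V] [ValuationRing V]
    (A : Type u) [CommRing A] [IsDomain A] [Algebra V A] [Algebra.Smooth V A]
    (p : Ideal A) [p.IsPrime]
    (hp : p ∈ ((maximalIdeal V).map (algebraMap V A)).minimalPrimes) :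
    ValuationRing (Localization.AtPrime p) ∧
      Function.Injective (algebraMap V (Localization.AtPrime p)) ∧
      IsLocalHom (algebraMap V (Localization.AtPrime p)) ∧
      ∀ x : Localization.AtPrime p, x ≠ 0 →
        ∃ (v : V) (w : (Localization.AtPrime p)ˣ),
          x = algebraMap V (Localization.AtPrime p) v * w := by
  classical
  obtain ⟨f₀, hf₀, n, alg, tower, hse⟩ :=
    Algebra.IsSmoothAt.exists_isStandardEtale_mvPolynomial (R := V) (p := p)
  set P := MvPolynomial (Fin n) V with hP
  set B := Localization.Away f₀ with hB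
  haveI : Algebra.Etale P B := inferInstance
  -- the prime `q` of `B`
  set q : Ideal B := p.map (algebraMap A B) with hq
  have hdisj : Disjoint (Submonoid.powers f₀ : Set A) (p : Set A) :=
    (Ideal.disjoint_powers_iff_notMem_of_isPrime _).mpr hf₀
  haveI hqprime : q.IsPrime :=
    IsLocalization.isPrime_of_isPrime_disjoint (.powers f₀) _ _ ‹_› hdisj
  have hqcomap : q.comap (algebraMap A B) = p :=
    IsLocalization.under_map_of_isPrime_disjoint (.powers f₀) B ‹_› hdisj
  -- `q` is minimal over `𝔪_V B`
  have hqmin : q ∈ ((maximalIdeal V).map (algebraMap V B)).minimalPrimes := by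
    refine ⟨⟨hqprime, ?_⟩, ?_⟩
    · rw [IsScalarTower.algebraMap_eq V A B, ← Ideal.map_map]
      exact Ideal.map_mono hp.1.2
    · rintro q' ⟨hq'prime, hq'le⟩ hq'q
      have h1 : (maximalIdeal V).map (algebraMap V A) ≤ q'.comap (algebraMap A B) := by
        rw [Ideal.map_le_iff_le_comap, Ideal.comap_comap, ← IsScalarTower.algebraMap_eq]
        exact Ideal.map_le_iff_le_comap.mp hq'le
      have h2 : q'.comap (algebraMap A B) ≤ p := by
        rw [← hqcomap]
        exact Ideal.comap_mono hq'q
      have h3 : p ≤ q'.comap (algebraMap A B) := hp.2 ⟨Ideal.comap_isPrime _ _, h1⟩ h2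
      calc q = p.map (algebraMap A B) := rfl
        _ ≤ (q'.comap (algebraMap A B)).map (algebraMap A B) := Ideal.map_mono h3
        _ = q' := IsLocalization.map_under (.powers f₀) B q'
  have hunder : q.under P = gaussIdeal V (Fin n) := under_eq_gaussIdeal V (Fin n) B q hqmin
  haveI : q.LiesOver (gaussIdeal V (Fin n)) := ⟨hunder.symm⟩
  letI := Localization.AtPrime.algebraOfLiesOver (gaussIdeal V (Fin n)) q
  obtain ⟨hdom, hval, hinj', hloc', hwu⟩ :=
    etale_localization_of_liesOver P B (gaussIdeal V (Fin n)) q
  set V' := Localization.AtPrime (gaussIdeal V (Fin n)) with hV'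
  set D' := Localization.AtPrime q with hD'
  haveI := hdom
  haveI : ValuationRing D' := hval hdom
  -- the transfer isomorphism
  haveI hloc : IsLocalization.AtPrime D' p := by
    have h1 := IsLocalization.isLocalization_isLocalization_atPrime_isLocalization
      (Submonoid.powers f₀) D' q
    have e : (q.comap (algebraMap A B)).primeCompl = p.primeCompl := by
      ext x
      simp only [Ideal.mem_primeCompl_iff, hqcomap]
    show IsLocalization p.primeCompl D'
    rw [← e]
    exact h1
  let e : Localization.AtPrime p ≃ₐ[A] D' := IsLocalization.algEquiv p.primeCompl _ _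
  have heV : ∀ c : V, e (algebraMap V (Localization.AtPrime p) c) = algebraMap V D' c := by
    intro c
    rw [IsScalarTower.algebraMap_apply V A (Localization.AtPrime p), e.commutes,
      ← IsScalarTower.algebraMap_apply V A D']
  have hVV' : ∀ c : V, algebraMap V D' c = algebraMap V' D' (algebraMap V V' c) := fun c =>
    IsScalarTower.algebraMap_apply V V' D' c
  have hVV'inj : Function.Injective (algebraMap V V') := by
    rw [IsScalarTower.algebraMap_eq V P V']
    exact (IsLocalization.injective V' (gaussIdeal V (Fin n)).primeCompl_le_nonZeroDivisors).comp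
      (MvPolynomial.C_injective (Fin n) V)
  haveI : IsDomain (Localization.AtPrime p) :=
    IsLocalization.isDomain_localization p.primeCompl_le_nonZeroDivisors
  refine ⟨?_, ?_, ?_, ?_⟩
  · exact Function.Surjective.valuationRing (e.symm : D' →+* Localization.AtPrime p)
      e.symm.surjective
  · intro c₁ c₂ h
    have := congrArg e h
    rw [heV, heV, hVV', hVV'] at this
    exact hVV'inj (hinj' this)
  · constructor
    intro c hc
    have h1 : IsUnit (algebraMap V' D' (algebraMap V V' c)) := by
      rw [← hVV', ← heV]
      exact hc.map e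
    have h2 : IsUnit (algebraMap V V' c) := hloc'.map_nonunit _ h1
    by_contra hcu
    have h3 : c ∈ maximalIdeal V := hcu
    have h4 : MvPolynomial.C c ∈ gaussIdeal V (Fin n) := Ideal.mem_map_of_mem _ h3
    have h5 : algebraMap P V' (MvPolynomial.C c) ∈ maximalIdeal V' :=
      (IsLocalization.AtPrime.to_map_mem_maximal_iff V' (gaussIdeal V (Fin n)) _).mpr h4
    rw [IsScalarTower.algebraMap_apply V P V', MvPolynomial.algebraMap_eq] at h2
    exact h5 h2
  · intro x hx
    have hex : e x ≠ 0 := fun h => hx (e.injective (h.trans (map_zero e).symm))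
    obtain ⟨a', u, hu⟩ := hwu (e x) hex
    have ha' : a' ≠ 0 := by
      rintro rfl
      rw [map_zero, mul_zero] at hu
      exact hex hu
    obtain ⟨c, u', hu'⟩ := gauss_exists_unit_mul V (Fin n) a' ha'
    refine ⟨c, Units.map (e.symm : D' →* Localization.AtPrime p)
      (u * Units.map (algebraMap V' D' : V' →* D') u'), ?_⟩
    apply e.injective
    rw [map_mul, heV, hu, hu', map_mul, ← hVV']
    simp only [Units.coe_map, MonoidHom.coe_coe, Units.val_mul]
    rw [AlgEquiv.apply_symm_apply]
    ring

end Smooth

end Groth.Agent.Lib.ValEt76
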