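import Groth.Agent.Lib.ValFP76A

/-!
# Finite flat modules over (essentially) finite type algebras over a valuation ring are f.p.
(helper76; Stacks 053E)
-/

set_option autoImplicit false
set_option linter.style.haveILetI false

namespace Groth.Agent.Lib.ValFP76

open TensorProduct

universe u v w

/-- Finite presentation passes to a quotient ring through which the module structure factors. -/
lemma finitePresentation_of_surjective_algebraMap {P B M : Type*} [CommRing P] [CommRing B]
    [Algebra P B] (h : Function.Surjective (algebraMap P B)) [AddCommGroup M] [Module P M]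
    [Module B M] [IsScalarTower P B M] [Module.FinitePresentation P M] :
    Module.FinitePresentation B M := by
  let e : B ⊗[P] M →ₗ[B] M := LinearMap.liftBaseChange B (LinearMap.id : M →ₗ[P] M)
  have he : ∀ (b : B) (m : M), e (b ⊗ₜ m) = b • m := fun b m => by
    simp [e, LinearMap.liftBaseChange_tmul]
  have hsurj : Function.Surjective e := fun m => ⟨1 ⊗ₜ m, by rw [he, one_smul]⟩
  have hinj : Function.Injective e := by
    rw [injective_iff_map_eq_zero]
    intro x hx
    obtain ⟨m, rfl⟩ := TensorProduct.mk_surjective P M B h x
    rw [TensorProduct.mk_apply, he, one_smul] at hx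
    rw [TensorProduct.mk_apply, hx, tmul_zero]
  exact Module.FinitePresentation.of_equiv (LinearEquiv.ofBijective e ⟨hinj, hsurj⟩)

/-- **Stacks 053E (2), global form.** `A` a valuation ring, `C` a finite type `A`-algebra, `M` a
finite `C`-module which is torsion-free over `A`: then `M` is finitely presented over `C`. -/
theorem finitePresentation_of_finiteType (A : Type u) [CommRing A] [IsDomain A] [ValuationRing A]
    (C : Type v) [CommRing C] [Algebra A C] [Algebra.FiniteType A C]
    (M : Type w) [AddCommGroup M] [Module A M] [Module C M] [IsScalarTower A C M]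
    [Module.Finite C M] [Module.IsTorsionFree A M] : Module.FinitePresentation C M := by
  obtain ⟨n, φ, hφ⟩ := Algebra.FiniteType.iff_quotient_mvPolynomial''.mp
    (inferInstance : Algebra.FiniteType A C)
  letI : Algebra (MvPolynomial (Fin n) A) C := φ.toRingHom.toAlgebra
  letI : Module (MvPolynomial (Fin n) A) M := Module.compHom M φ.toRingHom
  haveI : IsScalarTower (MvPolynomial (Fin n) A) C M :=
    ⟨fun p c m => by
      change (φ p * c) • m = φ p • (c • m)
      rw [mul_smul]⟩
  haveI : IsScalarTower A (MvPolynomial (Fin n) A) M :=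
    ⟨fun a p m => by
      change φ (a • p) • m = a • (φ p • m)
      rw [map_smul, smul_assoc]⟩
  have hsurj : Function.Surjective (algebraMap (MvPolynomial (Fin n) A) C) := hφ
  haveI : Module.Finite (MvPolynomial (Fin n) A) M := by
    obtain ⟨s, hs⟩ := (inferInstance : Module.Finite C M)
    refine ⟨⟨s, ?_⟩⟩
    rw [← Submodule.restrictScalars_span (MvPolynomial (Fin n) A) C hsurj, hs]
    rfl
  haveI : Module.FinitePresentation (MvPolynomial (Fin n) A) M :=
    finitePresentation_of_isTorsionFree A (Fin n) M
  exact finitePresentation_of_surjective_algebraMap hsurj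

/-- **Stacks 053E (2).** `A` a valuation ring, `B` an `A`-algebra essentially of finite type, `M` a
finite `B`-module which is torsion-free over `A`: then `M` is finitely presented over `B`. -/
theorem finitePresentation_of_essFiniteType (A : Type u) [CommRing A] [IsDomain A]
    [ValuationRing A] (B : Type v) [CommRing B] [Algebra A B] [Algebra.EssFiniteType A B]
    (M : Type w) [AddCommGroup M] [Module A M] [Module B M] [IsScalarTower A B M]
    [Module.Finite B M] [Module.IsTorsionFree A M] : Module.FinitePresentation B M := by
  classical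
  let B₀ : Subalgebra A B := Algebra.EssFiniteType.subalgebra A B
  let S₀ : Submonoid B₀ := Algebra.EssFiniteType.submonoid A B
  haveI : IsLocalization S₀ B := Algebra.EssFiniteType.isLocalization A B
  obtain ⟨s, hs⟩ := (inferInstance : Module.Finite B M)
  let M₀ : Submodule B₀ M := Submodule.span B₀ (s : Set M)
  let ι : M₀ →ₗ[B₀] M := M₀.subtype
  have hunit : ∀ x : S₀, IsUnit (algebraMap B₀ B x.1) := fun x => x.2
  haveI : IsLocalizedModule S₀ ι := by
    refine ⟨?_, ?_, ?_⟩
    · intro x
      rw [Module.End.isUnit_iff]
      obtain ⟨u, hu⟩ := hunit x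
      have hend : ∀ m : M, (algebraMap B₀ (Module.End B₀ M) x.1) m = (u : B) • m := by
        intro m
        rw [Module.algebraMap_end_apply, hu, algebraMap_smul]
      constructor
      · intro m₁ m₂ h
        rw [hend, hend] at h
        have := congrArg (fun m => (↑u⁻¹ : B) • m) h
        simpa [smul_smul] using this
      · intro m
        refine ⟨(↑u⁻¹ : B) • m, ?_⟩
        rw [hend, smul_smul, Units.mul_inv, one_smul]
    · intro y
      have hy : y ∈ Submodule.span B (s : Set M) := hs ▸ Submodule.mem_top
      refine Submodule.span_induction (p := fun y _ => ∃ x : M₀ × S₀, x.2 • y = ι x.1)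
        ?_ ?_ ?_ ?_ hy
      · intro m hm
        exact ⟨(⟨m, Submodule.subset_span hm⟩, 1), by simp [ι]⟩
      · exact ⟨(0, 1), by simp⟩
      · rintro y₁ y₂ _ _ ⟨⟨m₁, t₁⟩, h₁⟩ ⟨⟨m₂, t₂⟩, h₂⟩
        refine ⟨(t₂ • m₁ + t₁ • m₂, t₁ * t₂), ?_⟩
        simp only [map_add, map_smul, ← h₁, ← h₂, smul_add, Submonoid.smul_def, Submonoid.coe_mul,
          smul_smul] at *
        congr 1
        rw [mul_comm]
      · rintro b y _ ⟨⟨m, t⟩, h⟩
        obtain ⟨⟨c, t'⟩, hb⟩ := IsLocalization.surj S₀ b
        refine ⟨(c • m, t' * t), ?_⟩
        simp only [map_smul, ← h, Submonoid.smul_def, Submonoid.coe_mul] at *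
        have h1 : ((t'.1 * t.1 : B₀)) • b • y = ((algebraMap B₀ B (t'.1 * t.1)) * b) • y := by
          rw [← algebraMap_smul B, smul_smul]
        have h2 : c • t.1 • y = ((algebraMap B₀ B c) * (algebraMap B₀ B t.1)) • y := by
          rw [← algebraMap_smul B c, ← algebraMap_smul B t.1, smul_smul]
        rw [h1, h2]
        congr 1
        rw [map_mul, ← hb]
        ring
    · intro x y h
      exact ⟨1, by rw [one_smul, one_smul]; exact Subtype.ext h⟩
  have hbc : IsBaseChange B ι := (isLocalizedModule_iff_isBaseChange S₀ B ι).mp inferInstance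
  haveI : Module.Finite B₀ M₀ := Module.Finite.span_of_finite B₀ (Finset.finite_toSet s)
  haveI : Module.IsTorsionFree A M₀ :=
    Function.Injective.moduleIsTorsionFree (Subtype.val : M₀ → M) Subtype.val_injective
      (fun a m => rfl)
  haveI : Module.FinitePresentation B₀ M₀ := finitePresentation_of_finiteType A B₀ M₀
  exact FinitePresentation.of_isBaseChange ι hbc

end Groth.Agent.Lib.ValFP76
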