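import Groth.Agent.Lib.ValFP76B
import Groth.Agent.Lib.LocInjG88

/-!
# Stacks 046Y over a valuation ring, with finite (not nec. f.p.) modules over an essentially
finite type local algebra (helper76)
-/

set_option autoImplicit false
set_option linter.style.haveILetI false

namespace Groth.Agent.Lib.ValFP76

open TensorProduct

universe u

/-- A local ring essentially of finite type over `A` is a quotient of a local ring of a polynomial
ring over `A`. -/
theorem exists_polynomial_local_model (A B : Type u) [CommRing A] [CommRing B] [IsLocalRing B]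
    [Algebra A B] [Algebra.EssFiniteType A B] :
    ∃ (σ : Type u) (_ : Finite σ) (q : Ideal (MvPolynomial σ A)) (_ : q.IsPrime)
      (g : Localization.AtPrime q →ₐ[A] B), Function.Surjective g := by
  classical
  obtain ⟨s, hs⟩ := (Algebra.essFiniteType_iff (R := A) (S := B)).mp inferInstance
  let ψ : MvPolynomial s A →ₐ[A] B := MvPolynomial.aeval (fun i : s => (i : B))
  have hψ : ψ.range = Algebra.adjoin A (s : Set B) := by
    rw [← Algebra.adjoin_range_eq_range_aeval]
    congr 1
    ext x
    simp
  let q : Ideal (MvPolynomial s A) := (IsLocalRing.maximalIdeal B).comap ψ.toRingHom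
  haveI hq : q.IsPrime := Ideal.comap_isPrime _ _
  have hunit : ∀ y : q.primeCompl, IsUnit (ψ.toRingHom y) := by
    intro y
    have : ψ.toRingHom y ∉ IsLocalRing.maximalIdeal B := y.2
    simpa [IsLocalRing.mem_maximalIdeal] using this
  let g : Localization.AtPrime q →ₐ[A] B := IsLocalization.liftAlgHom (M := q.primeCompl)
    (f := ψ) hunit
  refine ⟨s, inferInstance, q, hq, g, ?_⟩
  intro x
  obtain ⟨t, ht, htu, hxt⟩ := hs x
  rw [← hψ] at ht hxt
  obtain ⟨p₂, rfl⟩ := ht
  obtain ⟨p₁, hp₁⟩ := hxt
  have hp₂ : p₂ ∈ q.primeCompl := by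
    intro h
    have : ψ p₂ ∈ IsLocalRing.maximalIdeal B := h
    exact (IsLocalRing.mem_maximalIdeal _).mp this htu
  refine ⟨IsLocalization.mk' _ p₁ ⟨p₂, hp₂⟩, ?_⟩
  have h1 : g (IsLocalization.mk' (Localization.AtPrime q) p₁ ⟨p₂, hp₂⟩) * ψ p₂ = ψ p₁ := by
    have h2 : ψ p₂ = g (algebraMap _ (Localization.AtPrime q) p₂) := by
      simp [g]
    have h3 : ψ p₁ = g (algebraMap _ (Localization.AtPrime q) p₁) := by
      simp [g]
    rw [h2, h3, ← map_mul]
    congr 1
    exact IsLocalization.mk'_spec (Localization.AtPrime q) p₁ ⟨p₂, hp₂⟩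
  have hp₁' : ψ p₁ = x * ψ p₂ := hp₁
  have htu' : IsUnit (ψ p₂) := htu
  rw [hp₁'] at h1
  exact htu'.mul_left_injective h1

/-- Over a valuation ring, elements of `I • N'` are single multiples `a • n`. -/
lemma exists_smul_eq_of_mem_smul {A : Type*} [CommRing A] [IsDomain A] [ValuationRing A]
    {N : Type*} [AddCommGroup N] [Module A N] (I : Ideal A) (N' : Submodule A N) {x : N}
    (hx : x ∈ I • N') : ∃ a ∈ I, ∃ n ∈ N', x = a • n := by
  induction hx using Submodule.smul_induction_on' with
  | smul a ha n hn => exact ⟨a, ha, n, hn, rfl⟩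
  | add x y _ _ hx hy =>
    obtain ⟨a, ha, n, hn, rfl⟩ := hx
    obtain ⟨b, hb, n', hn', rfl⟩ := hy
    rcases ValuationRing.dvd_total a b with ⟨c, rfl⟩ | ⟨c, rfl⟩
    · exact ⟨a, ha, n + c • n', N'.add_mem hn (N'.smul_mem c hn'), by rw [smul_add, mul_smul]⟩
    · exact ⟨b, hb, c • n + n', N'.add_mem (N'.smul_mem c hn) hn', by rw [smul_add, mul_smul]⟩

set_option maxHeartbeats 800000 in
/-- **Stacks 046Y over a valuation ring**: finite modules over an essentially finite type local
algebra, the target flat. -/
theorem injective_and_flat_of_valuationRing {A B : Type u} [CommRing A] [IsDomain A]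
    [ValuationRing A] [CommRing B] [IsLocalRing B] [Algebra A B] [IsLocalHom (algebraMap A B)]
    [Algebra.EssFiniteType A B]
    {N M : Type u} [AddCommGroup N] [Module B N] [Module A N] [IsScalarTower A B N]
    [Module.Finite B N] [AddCommGroup M] [Module B M] [Module A M] [IsScalarTower A B M]
    [Module.Finite B M] [Module.Flat A M] (u : N →ₗ[B] M)
    (hu : ∀ x : N, u x ∈ (IsLocalRing.maximalIdeal A • ⊤ : Submodule A M) →
      x ∈ (IsLocalRing.maximalIdeal A • ⊤ : Submodule A N)) :
    Function.Injective u ∧ Module.Flat A (M ⧸ LinearMap.range u) := by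
  classical
  haveI : Module.IsTorsionFree A (LinearMap.range u) :=
    Subtype.val_injective.moduleIsTorsionFree _ (fun _ _ => rfl)
  haveI : Module.FinitePresentation B (LinearMap.range u) :=
    finitePresentation_of_essFiniteType A B (LinearMap.range u)
  -- injectivity
  have hKfg : (LinearMap.ker u).FG := by
    have := Module.FinitePresentation.fg_ker u.rangeRestrict u.surjective_rangeRestrict
    rwa [LinearMap.ker_rangeRestrict] at this
  have hK : LinearMap.ker u ≤ IsLocalRing.maximalIdeal B • LinearMap.ker u := by
    intro x hx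
    have hx0 : u x = 0 := hx
    have h1 := hu x (by rw [hx0]; exact Submodule.zero_mem _)
    obtain ⟨a, ha, n, -, rfl⟩ := exists_smul_eq_of_mem_smul _ _ h1
    by_cases ha0 : a = 0
    · rw [ha0, zero_smul]
      exact Submodule.zero_mem _
    · have h2 : a • u n = 0 := by
        rw [← hx0, ← algebraMap_smul B a n, map_smul, algebraMap_smul]
      have h3 : u n = 0 := (smul_eq_zero.mp h2).resolve_left ha0
      rw [← algebraMap_smul B a n]
      refine Submodule.smul_mem_smul ?_ h3
      rw [IsLocalRing.mem_maximalIdeal] at ha ⊢
      exact fun h => ha (isUnit_of_map_unit (algebraMap A B) a h)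
  have hinj : Function.Injective u := by
    rw [← LinearMap.ker_eq_bot]
    exact Submodule.eq_bot_of_le_smul_of_le_jacobson_bot _ _ hKfg hK
      (IsLocalRing.jacobson_eq_maximalIdeal _ bot_ne_top).ge
  refine ⟨hinj, ?_⟩
  obtain ⟨σ, _, q, _, g, hg⟩ := exists_polynomial_local_model A B
  letI : Algebra (Localization.AtPrime q) B := g.toRingHom.toAlgebra
  haveI : IsScalarTower A (Localization.AtPrime q) B :=
    IsScalarTower.of_algebraMap_eq' (by ext r; exact (g.commutes r).symm)
  have hsurj : Function.Surjective (algebraMap (Localization.AtPrime q) B) := hg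
  haveI : IsLocalHom (algebraMap A (Localization.AtPrime q)) := by
    refine ⟨fun a ha => ?_⟩
    have h1 : IsUnit (algebraMap (Localization.AtPrime q) B
        (algebraMap A (Localization.AtPrime q) a)) := ha.map _
    rw [← IsScalarTower.algebraMap_apply] at h1
    exact isUnit_of_map_unit (algebraMap A B) a h1
  have hS : CAlgX.IsEssFinitePresentation A (Localization.AtPrime q) :=
    ⟨MvPolynomial σ A, inferInstance, inferInstance, inferInstance, inferInstance, q.primeCompl,
      inferInstance, inferInstance⟩
  -- module structures over the local polynomial model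
  letI : Module (Localization.AtPrime q) M :=
    Module.compHom M (algebraMap (Localization.AtPrime q) B)
  haveI : IsScalarTower (Localization.AtPrime q) B M :=
    ⟨fun c b m => by
      change (algebraMap (Localization.AtPrime q) B c * b) • m =
        algebraMap (Localization.AtPrime q) B c • (b • m)
      rw [mul_smul]⟩
  haveI : IsScalarTower A (Localization.AtPrime q) M :=
    ⟨fun a c m => by
      change algebraMap (Localization.AtPrime q) B (a • c) • m =
        a • (algebraMap (Localization.AtPrime q) B c • m)
      rw [Algebra.smul_def, map_mul, ← IsScalarTower.algebraMap_apply, mul_smul, algebraMap_smul]⟩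
  letI : Module (Localization.AtPrime q) (LinearMap.range u) :=
    Module.compHom (LinearMap.range u) (algebraMap (Localization.AtPrime q) B)
  haveI : IsScalarTower (Localization.AtPrime q) B (LinearMap.range u) :=
    ⟨fun c b m => by
      change (algebraMap (Localization.AtPrime q) B c * b) • m =
        algebraMap (Localization.AtPrime q) B c • (b • m)
      rw [mul_smul]⟩
  haveI : IsScalarTower A (Localization.AtPrime q) (LinearMap.range u) :=
    ⟨fun a c m => by
      change algebraMap (Localization.AtPrime q) B (a • c) • m =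
        a • (algebraMap (Localization.AtPrime q) B c • m)
      rw [Algebra.smul_def, map_mul, ← IsScalarTower.algebraMap_apply, mul_smul, algebraMap_smul]⟩
  haveI : Module.Finite (Localization.AtPrime q) M := by
    obtain ⟨s, hs⟩ := (inferInstance : Module.Finite B M)
    refine ⟨⟨s, ?_⟩⟩
    rw [← Submodule.restrictScalars_span (Localization.AtPrime q) B hsurj, hs]
    rfl
  haveI : Module.Finite (Localization.AtPrime q) (LinearMap.range u) := by
    obtain ⟨s, hs⟩ := (inferInstance : Module.Finite B (LinearMap.range u))
    refine ⟨⟨s, ?_⟩⟩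
    rw [← Submodule.restrictScalars_span (Localization.AtPrime q) B hsurj, hs]
    rfl
  haveI : Module.FinitePresentation (Localization.AtPrime q) M :=
    finitePresentation_of_essFiniteType A (Localization.AtPrime q) M
  haveI : Module.FinitePresentation (Localization.AtPrime q) (LinearMap.range u) :=
    finitePresentation_of_essFiniteType A (Localization.AtPrime q) (LinearMap.range u)
  let ι : (LinearMap.range u) →ₗ[Localization.AtPrime q] M :=
    (LinearMap.range u).subtype.restrictScalars (Localization.AtPrime q)
  have hι : ∀ x : LinearMap.range u, ι x ∈ (IsLocalRing.maximalIdeal A) • (⊤ : Submodule A M) →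
      x ∈ (IsLocalRing.maximalIdeal A) • (⊤ : Submodule A (LinearMap.range u)) := by
    rintro ⟨_, n, rfl⟩ hx
    have h1 := hu n hx
    obtain ⟨a, ha, n₁, -, rfl⟩ := exists_smul_eq_of_mem_smul _ _ h1
    have e : (⟨u (a • n₁), a • n₁, rfl⟩ : LinearMap.range u) = a • ⟨u n₁, n₁, rfl⟩ := by
      apply Subtype.ext
      change u (a • n₁) = a • u n₁
      rw [← algebraMap_smul B a n₁, map_smul, algebraMap_smul]
    rw [e]
    exact Submodule.smul_mem_smul ha Submodule.mem_top
  obtain ⟨-, hflat⟩ := Groth.Agent.Lib.LocInjG88.injective_and_flat_of_essFP' hS ι hι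
  have hrange : (LinearMap.range ι).restrictScalars A = (LinearMap.range u).restrictScalars A := by
    ext y
    simp only [Submodule.restrictScalars_mem, LinearMap.mem_range]
    constructor
    · rintro ⟨x, rfl⟩
      exact x.2
    · intro hy
      exact ⟨⟨y, hy⟩, rfl⟩
  let e : (M ⧸ LinearMap.range u) ≃ₗ[A] (M ⧸ LinearMap.range ι) :=
    ((Submodule.Quotient.restrictScalarsEquiv A (LinearMap.range u)).symm.trans
      (Submodule.quotEquivOfEq _ _ hrange.symm)).trans
      (Submodule.Quotient.restrictScalarsEquiv A (LinearMap.range ι))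
  exact Module.Flat.of_linearEquiv e

end Groth.Agent.Lib.ValFP76
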