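import Groth.Agent.Lib.ValFP76E
import Groth.Agent.Lib.H87GlDim2
import Groth.Agent.Lib.GrPd
import Groth.Agent.Lib.CritFibE88

/-!
# Projective dimension over local rings of flat finitely presented algebras over valuation rings
(helper88)

`W` a valuation ring, `W → A` a flat local homomorphism essentially of finite type, `I = 𝔪_W A`,
`A/I` regular local of dimension `n`. Then finitely presented `A`-modules which are `W`-flat have
projective dimension `≤ n`, all finitely presented `A`-modules have projective dimension `≤ n + 1`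
and reflexive ones `≤ n - 1`.
-/

set_option autoImplicit false
set_option maxHeartbeats 400000
set_option linter.style.haveILetI false
set_option linter.unusedSectionVars false

open CategoryTheory Function

universe u

namespace Groth.Agent.Lib.ValPd88

section TorsionFree

variable {W : Type*} [CommRing W] [IsDomain W] [ValuationRing W]

theorem flat_of_isTorsionFree (M : Type*) [AddCommGroup M] [Module W M]
    [Module.IsTorsionFree W M] : Module.Flat W M :=
  Module.Flat.flat_iff_torsion_eq_bot_of_isBezout.mpr
    (Submodule.isTorsionFree_iff_torsion_eq_bot.mp inferInstance)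

end TorsionFree

section Abstract

variable {W A : Type u} [CommRing W] [IsDomain W] [ValuationRing W] [CommRing A] [IsLocalRing A]
  [Algebra W A] [IsLocalHom (algebraMap W A)] [Algebra.EssFiniteType W A] [Module.Flat W A]
  (I : Ideal A) (hI : I = (IsLocalRing.maximalIdeal W).map (algebraMap W A))

include hI in
theorem I_le_maximalIdeal : I ≤ IsLocalRing.maximalIdeal A := by
  rw [hI]
  exact ((IsLocalRing.local_hom_TFAE (algebraMap W A)).out 0 2 rfl rfl).mp inferInstance

section Modules

variable (M : Type u) [AddCommGroup M] [Module A M] [Module W M] [IsScalarTower W A M]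

include hI in
/-- Elements of `𝔪_W M` (as `A`-submodule `I • ⊤`) are single multiples. -/
theorem exists_smul_eq_of_mem {x : M} (hx : x ∈ I • (⊤ : Submodule A M)) :
    ∃ a ∈ IsLocalRing.maximalIdeal W, ∃ m : M, x = a • m := by
  rw [hI, Groth.Agent.Lib.CritFibE88.smul_top_map_iff] at hx
  obtain ⟨a, ha, m, -, rfl⟩ := Groth.Agent.Lib.ValFP76.exists_smul_eq_of_mem_smul _ _ hx
  exact ⟨a, ha, m, rfl⟩

/-- A finite `A`-module which is torsion-free over `W` is finitely presented and `W`-flat. -/
theorem fp_of_isTorsionFree [Module.Finite A M] [Module.IsTorsionFree W M] :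
    Module.FinitePresentation A M :=
  Groth.Agent.Lib.ValFP76.finitePresentation_of_essFiniteType W A M

variable {M} in
include hI in
/-- `Tor`-vanishing in elementary form: for `M` torsion-free over `W`, the kernel of a map to `M`
meets `I F` in `I K`. -/
theorem mem_smul_top_ker [Module.IsTorsionFree W M] {F : Type u} [AddCommGroup F] [Module A F]
    [Module W F] [IsScalarTower W A F] (π : F →ₗ[A] M) (x : LinearMap.ker π)
    (hx : (x : F) ∈ I • (⊤ : Submodule A F)) :
    x ∈ I • (⊤ : Submodule A (LinearMap.ker π)) := by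
  obtain ⟨a, ha, f, hf⟩ := exists_smul_eq_of_mem I hI F hx
  by_cases ha0 : a = 0
  · have : x = 0 := by
      apply Subtype.ext
      rw [hf, ha0, zero_smul]
      rfl
    rw [this]
    exact Submodule.zero_mem _
  · have h1 : a • π f = 0 := by
      rw [← algebraMap_smul A a (π f), ← map_smul, algebraMap_smul, ← hf]
      exact x.2
    have h2 : π f = 0 := (smul_eq_zero_iff_right ha0).mp h1
    have h3 : x = (algebraMap W A a) • (⟨f, h2⟩ : LinearMap.ker π) := by
      apply Subtype.ext
      rw [hf, Submodule.coe_smul, algebraMap_smul]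
    rw [h3]
    refine Submodule.smul_mem_smul ?_ trivial
    rw [hI]
    exact Ideal.mem_map_of_mem _ ha

include hI in
/-- Lifting freeness from the fibre: a finite `A`-module, flat over `W`, whose reduction modulo
`I = 𝔪_W A` is free over `A/I`, is free. -/
theorem free_of_free_quot [Module.Finite A M] [Module.Flat W M]
    [Module.Free (A ⧸ I) (M ⧸ I • (⊤ : Submodule A M))] : Module.Free A M := by
  classical
  have hIne : I ≠ ⊤ :=
    ne_top_of_le_ne_top (IsLocalRing.maximalIdeal.isMaximal A).ne_top (I_le_maximalIdeal I hI)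
  haveI : Nontrivial (A ⧸ I) := Ideal.Quotient.nontrivial_iff.mpr hIne
  haveI : Module.Finite (A ⧸ I) (M ⧸ I • (⊤ : Submodule A M)) :=
    Module.Finite.of_restrictScalars_finite A (A ⧸ I) _
  set r := Module.finrank (A ⧸ I) (M ⧸ I • (⊤ : Submodule A M)) with hr
  let bb : Module.Basis (Fin r) (A ⧸ I) (M ⧸ I • (⊤ : Submodule A M)) :=
    Module.finBasis (A ⧸ I) (M ⧸ I • (⊤ : Submodule A M))
  choose b hb using fun i => Submodule.Quotient.mk_surjective (I • (⊤ : Submodule A M)) (bb i)
  let u : (Fin r → A) →ₗ[A] M := Fintype.linearCombination A b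
  have hmk : ∀ x : Fin r → A, (Submodule.Quotient.mk (u x) : M ⧸ I • (⊤ : Submodule A M)) =
      ∑ i, (Ideal.Quotient.mk I (x i)) • bb i := by
    intro x
    change Submodule.Quotient.mk (Fintype.linearCombination A b x) = _
    rw [Fintype.linearCombination_apply]
    have : (Submodule.Quotient.mk (∑ i, x i • b i) : M ⧸ I • (⊤ : Submodule A M)) =
        ∑ i, Submodule.Quotient.mk (x i • b i) := map_sum (Submodule.mkQ _) _ _
    rw [this]
    refine Finset.sum_congr rfl (fun i _ => ?_)
    rw [Submodule.Quotient.mk_smul, hb i]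
    rfl
  have hu : ∀ x : Fin r → A,
      u x ∈ (IsLocalRing.maximalIdeal W • ⊤ : Submodule W M) →
      x ∈ (IsLocalRing.maximalIdeal W • ⊤ : Submodule W (Fin r → A)) := by
    intro x hx
    rw [← Groth.Agent.Lib.CritFibE88.smul_top_map_iff (S := A), ← hI] at hx ⊢
    have h0 : (Submodule.Quotient.mk (u x) : M ⧸ I • (⊤ : Submodule A M)) = 0 :=
      (Submodule.Quotient.mk_eq_zero _).mpr hx
    rw [hmk x] at h0
    have hli := Fintype.linearIndependent_iff.mp bb.linearIndependent _ h0
    have hxi : ∀ i, x i ∈ I := fun i => Ideal.Quotient.eq_zero_iff_mem.mp (hli i)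
    have hx' : x = ∑ i, x i • (Pi.single i (1 : A) : Fin r → A) := by
      ext j
      simp [Pi.single_apply]
    rw [hx']
    exact Submodule.sum_mem _ (fun i _ => Submodule.smul_mem_smul (hxi i) trivial)
  obtain ⟨hinj, -⟩ := Groth.Agent.Lib.ValFP76.injective_and_flat_of_valuationRing
    (A := W) (B := A) u hu
  have hsurj : Surjective u := by
    rw [← LinearMap.range_eq_top, eq_top_iff]
    apply Submodule.le_of_le_smul_of_le_jacobson_bot (I := I) Module.Finite.fg_top
    · rw [IsLocalRing.jacobson_eq_maximalIdeal _ bot_ne_top]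
      exact I_le_maximalIdeal I hI
    · intro m _
      choose x hxc using fun i => Ideal.Quotient.mk_surjective (I := I)
        (bb.repr (Submodule.Quotient.mk m) i)
      have h1 : (Submodule.Quotient.mk (u x) : M ⧸ I • (⊤ : Submodule A M)) =
          Submodule.Quotient.mk m := by
        rw [hmk x]
        conv_rhs => rw [← bb.sum_repr (Submodule.Quotient.mk m)]
        exact Finset.sum_congr rfl (fun i _ => by rw [hxc i])
      have h2 : m - u x ∈ I • (⊤ : Submodule A M) := by
        rw [← Submodule.Quotient.mk_eq_zero, Submodule.Quotient.mk_sub, h1, sub_self]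
      have h3 : m = u x + (m - u x) := by abel
      rw [h3]
      exact Submodule.add_mem_sup (LinearMap.mem_range_self u x) h2
  exact Module.Free.of_equiv (LinearEquiv.ofBijective u ⟨hinj, hsurj⟩)

end Modules

section PiLemmas

variable {A : Type*} [CommRing A] (I : Ideal A) {r : ℕ}

theorem mem_smul_top_pi (x : Fin r → A) :
    x ∈ I • (⊤ : Submodule A (Fin r → A)) ↔ ∀ i, x i ∈ I := by
  constructor
  · intro hx
    refine Submodule.smul_induction_on hx (fun a ha y _ i => ?_) (fun y z hy hz i => ?_)
    · exact I.mul_mem_right _ ha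
    · exact I.add_mem (hy i) (hz i)
  · intro hxi
    have hx' : x = ∑ i, x i • (Pi.single i (1 : A) : Fin r → A) := by
      ext j
      simp [Pi.single_apply]
    rw [hx']
    exact Submodule.sum_mem _ (fun i _ => Submodule.smul_mem_smul (hxi i) trivial)

/-- coordinatewise reduction `A^r → (A/I)^r` -/
noncomputable def rho (r : ℕ) : (Fin r → A) →ₗ[A] (Fin r → A ⧸ I) :=
  (Algebra.linearMap A (A ⧸ I)).compLeft (Fin r)

theorem rho_apply (x : Fin r → A) (i : Fin r) : rho I r x i = Ideal.Quotient.mk I (x i) := rfl

theorem rho_surjective : Surjective (rho I r) := by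
  intro y
  choose x hx using fun i => Ideal.Quotient.mk_surjective (y i)
  exact ⟨x, funext fun i => hx i⟩

theorem rho_eq_zero_iff (x : Fin r → A) :
    rho I r x = 0 ↔ x ∈ I • (⊤ : Submodule A (Fin r → A)) := by
  rw [mem_smul_top_pi]
  constructor
  · intro h i
    have := congrFun h i
    rw [rho_apply] at this
    exact Ideal.Quotient.eq_zero_iff_mem.mp this
  · intro h
    funext i
    rw [rho_apply]
    exact Ideal.Quotient.eq_zero_iff_mem.mpr (h i)

end PiLemmas

section Step

variable (M : Type u) [AddCommGroup M] [Module A M] [Module W M] [IsScalarTower W A M]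
  {r : ℕ} (π : (Fin r → A) →ₗ[A] M)

/-- the induced presentation of `M/IM` over `A/I` -/
noncomputable def piBar : (Fin r → A ⧸ I) →ₗ[A ⧸ I] (M ⧸ I • (⊤ : Submodule A M)) :=
  Fintype.linearCombination (A ⧸ I)
    (fun i => (Submodule.Quotient.mk (π (Pi.single i 1)) : M ⧸ I • (⊤ : Submodule A M)))

theorem piBar_rho (x : Fin r → A) :
    piBar I M π (rho I r x) = Submodule.Quotient.mk (π x) := by
  have hx' : x = ∑ i, x i • (Pi.single i (1 : A) : Fin r → A) := by
    ext j
    simp [Pi.single_apply]
  conv_rhs => rw [hx']
  rw [map_sum]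
  have : (Submodule.Quotient.mk (∑ i, π (x i • (Pi.single i (1 : A) : Fin r → A))) :
      M ⧸ I • (⊤ : Submodule A M)) =
      ∑ i, Submodule.Quotient.mk (π (x i • (Pi.single i (1 : A) : Fin r → A))) :=
    map_sum (Submodule.mkQ _) _ _
  rw [this, piBar, Fintype.linearCombination_apply]
  refine Finset.sum_congr rfl (fun i _ => ?_)
  rw [map_smul, Submodule.Quotient.mk_smul, rho_apply]
  rfl

variable {M} in
theorem piBar_surjective (hπ : Surjective π) : Surjective (piBar I M π) := by
  intro y
  obtain ⟨m, rfl⟩ := Submodule.Quotient.mk_surjective _ y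
  obtain ⟨x, rfl⟩ := hπ m
  exact ⟨rho I r x, piBar_rho I M π x⟩

/-- the comparison map `ker π → ker π̄` -/
noncomputable def theta :
    LinearMap.ker π →ₗ[A] ((LinearMap.ker (piBar I M π)).restrictScalars A) :=
  ((rho I r).domRestrict (LinearMap.ker π)).codRestrict _ (fun x => by
    change piBar I M π (rho I r x) = 0
    rw [piBar_rho, x.2, Submodule.Quotient.mk_zero])

theorem theta_apply (x : LinearMap.ker π) :
    ((theta I M π x : (LinearMap.ker (piBar I M π)).restrictScalars A) : Fin r → A ⧸ I) =
      rho I r x := rfl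

variable {M} in
theorem theta_surjective (hπ : Surjective π) : Surjective (theta I M π) := by
  rintro ⟨y, hy⟩
  obtain ⟨f, rfl⟩ := rho_surjective I y
  have h0 : piBar I M π (rho I r f) = 0 := hy
  rw [piBar_rho, Submodule.Quotient.mk_eq_zero] at h0
  have h1 : I • (⊤ : Submodule A M) =
      Submodule.map π (I • (⊤ : Submodule A (Fin r → A))) := by
    rw [Submodule.map_smul'', Submodule.map_top, LinearMap.range_eq_top.mpr hπ]
  rw [h1] at h0
  obtain ⟨g, hg, hgf⟩ := h0
  have hk : f - g ∈ LinearMap.ker π := by
    rw [LinearMap.mem_ker, map_sub, hgf, sub_self]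
  refine ⟨⟨f - g, hk⟩, ?_⟩
  apply Subtype.ext
  rw [theta_apply]
  change rho I r (f - g) = rho I r f
  rw [map_sub, (rho_eq_zero_iff I g).mpr hg, sub_zero]

include hI in
variable {M} in
theorem ker_theta [Module.IsTorsionFree W M] :
    LinearMap.ker (theta I M π) = I • (⊤ : Submodule A (LinearMap.ker π)) := by
  ext x
  rw [LinearMap.mem_ker]
  constructor
  · intro hx
    have h1 : rho I r x = 0 := by
      rw [← theta_apply, hx]
      rfl
    exact mem_smul_top_ker I hI π x ((rho_eq_zero_iff I _).mp h1)
  · intro hx
    apply Subtype.ext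
    rw [theta_apply]
    change rho I r x = 0
    rw [rho_eq_zero_iff]
    refine Submodule.smul_induction_on hx (fun a ha y _ => ?_) (fun y z hy hz => ?_)
    · rw [Submodule.coe_smul]
      exact Submodule.smul_mem_smul ha trivial
    · rw [Submodule.coe_add]
      exact Submodule.add_mem _ hy hz

include hI in
variable {M} in
theorem nonempty_kerEquiv [Module.IsTorsionFree W M] (hπ : Surjective π) :
    Nonempty ((LinearMap.ker π ⧸ I • (⊤ : Submodule A (LinearMap.ker π))) ≃ₗ[A ⧸ I]
      LinearMap.ker (piBar I M π)) := by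
  let e1 : (LinearMap.ker π ⧸ I • (⊤ : Submodule A (LinearMap.ker π))) ≃ₗ[A]
      (LinearMap.ker π ⧸ LinearMap.ker (theta I M π)) :=
    Submodule.quotEquivOfEq _ _ (ker_theta I hI π).symm
  let e2 : (LinearMap.ker π ⧸ LinearMap.ker (theta I M π)) ≃ₗ[A]
      ((LinearMap.ker (piBar I M π)).restrictScalars A) :=
    (theta I M π).quotKerEquivOfSurjective (theta_surjective I π hπ)
  let e3 : ((LinearMap.ker (piBar I M π)).restrictScalars A) ≃ₗ[A]
      LinearMap.ker (piBar I M π) :=
    (Submodule.restrictScalarsEquiv A (A ⧸ I) _ (LinearMap.ker (piBar I M π))).restrictScalars A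
  exact ⟨((e1.trans e2).trans e3).extendScalarsOfSurjective Ideal.Quotient.mk_surjective⟩

end Step

section Induction

include hI in
theorem isLocalRing_quot : IsLocalRing (A ⧸ I) := by
  have hIne : I ≠ ⊤ :=
    ne_top_of_le_ne_top (IsLocalRing.maximalIdeal.isMaximal A).ne_top (I_le_maximalIdeal I hI)
  haveI : Nontrivial (A ⧸ I) := Ideal.Quotient.nontrivial_iff.mpr hIne
  exact IsLocalRing.of_surjective' (Ideal.Quotient.mk I) Ideal.Quotient.mk_surjective

include hI in
/-- Projective dimension of a `W`-flat finitely presented module is bounded by that of its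
fibre. -/
theorem pdLT_of_pdLT_quot (k : ℕ) : ∀ (M : Type u) [AddCommGroup M] [Module A M] [Module W M]
    [IsScalarTower W A M] [Module.FinitePresentation A M] [Module.Flat W M],
    HasProjectiveDimensionLT (ModuleCat.of (A ⧸ I) (M ⧸ I • (⊤ : Submodule A M))) (k + 1) →
    HasProjectiveDimensionLT (ModuleCat.of A M) (k + 1) := by
  haveI := isLocalRing_quot I hI
  induction k with
  | zero =>
    intro M _ _ _ _ _ _ h
    rw [zero_add] at h ⊢
    rw [Groth.Agent.Lib.GrPd.pdLT_one_iff] at h ⊢
    haveI := h
    haveI : Module.Finite (A ⧸ I) (M ⧸ I • (⊤ : Submodule A M)) :=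
      Module.Finite.of_restrictScalars_finite A _ _
    haveI : Module.Free (A ⧸ I) (M ⧸ I • (⊤ : Submodule A M)) :=
      Module.free_of_flat_of_isLocalRing
    haveI := free_of_free_quot I hI M
    infer_instance
  | succ k ih =>
    intro M _ _ _ _ _ _ h
    obtain ⟨r, π, hπ⟩ := Module.Finite.exists_fin' A M
    haveI : Module.Finite A (LinearMap.ker π) :=
      Module.Finite.iff_fg.mpr (Module.FinitePresentation.fg_ker π hπ)
    haveI : Module.IsTorsionFree W (LinearMap.ker π) :=
      Subtype.val_injective.moduleIsTorsionFree _ (fun _ _ => rfl)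
    haveI := fp_of_isTorsionFree (W := W) (A := A) (LinearMap.ker π)
    haveI := flat_of_isTorsionFree (W := W) (LinearMap.ker π)
    obtain ⟨e⟩ := nonempty_kerEquiv I hI π hπ
    have h1 : HasProjectiveDimensionLT
        (ModuleCat.of (A ⧸ I) (LinearMap.ker (piBar I M π))) (k + 1) :=
      (Groth.Agent.Lib.GrPd.pdLT_succ_succ_iff_ker (piBar I M π)
        (piBar_surjective I π hπ) k).mp h
    haveI := h1
    have h2 : HasProjectiveDimensionLT (ModuleCat.of (A ⧸ I)
        (LinearMap.ker π ⧸ I • (⊤ : Submodule A (LinearMap.ker π)))) (k + 1) :=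
      hasProjectiveDimensionLT_of_iso e.symm.toModuleIso (k + 1)
    have h3 := ih (LinearMap.ker π) h2
    exact (Groth.Agent.Lib.GrPd.pdLT_succ_succ_iff_ker π hπ k).mpr h3

end Induction

section Main

variable (n : ℕ) [IsRegularLocalRing (A ⧸ I)] (hn : ringKrullDim (A ⧸ I) = n)

include hI hn in
/-- Finitely presented `W`-flat modules have projective dimension `≤ n`. -/
theorem pdLT_of_flat (M : Type u) [AddCommGroup M] [Module A M] [Module W M]
    [IsScalarTower W A M] [Module.FinitePresentation A M] [Module.Flat W M] :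
    HasProjectiveDimensionLT (ModuleCat.of A M) (n + 1) :=
  pdLT_of_pdLT_quot I hI n M
    (Groth.Agent.Lib.H87GlDim2.hasProjectiveDimensionLT_of_isRegularLocalRing n hn _)

include hI hn in
/-- Finite `A`-modules which are torsion-free over `W` have projective dimension `≤ n`. -/
theorem pdLT_of_isTorsionFree (M : Type u) [AddCommGroup M] [Module A M] [Module W M]
    [IsScalarTower W A M] [Module.Finite A M] [Module.IsTorsionFree W M] :
    HasProjectiveDimensionLT (ModuleCat.of A M) (n + 1) := by
  haveI := fp_of_isTorsionFree (W := W) (A := A) M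
  haveI := flat_of_isTorsionFree (W := W) M
  exact pdLT_of_flat I hI n hn M

include hI hn in
/-- Finitely presented modules have projective dimension `≤ n + 1`. -/
theorem pdLT_of_fp (M : Type u) [AddCommGroup M] [Module A M]
    [Module.FinitePresentation A M] :
    HasProjectiveDimensionLT (ModuleCat.of A M) (n + 2) := by
  obtain ⟨r, π, hπ⟩ := Module.Finite.exists_fin' A M
  haveI : Module.Finite A (LinearMap.ker π) :=
    Module.Finite.iff_fg.mpr (Module.FinitePresentation.fg_ker π hπ)
  haveI : Module.IsTorsionFree W (LinearMap.ker π) :=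
    Subtype.val_injective.moduleIsTorsionFree _ (fun _ _ => rfl)
  have h := pdLT_of_isTorsionFree I hI n hn (LinearMap.ker π)
  exact (Groth.Agent.Lib.GrPd.pdLT_succ_succ_iff_ker π hπ n).mpr h

end Main

section Dual

variable (M : Type u) [AddCommGroup M] [Module A M] [Module.FinitePresentation A M]

/-- The dual of a finitely presented module over the coherent ring `A` is finite. -/
theorem finite_dual (W : Type u) [CommRing W] [IsDomain W] [ValuationRing W] [Algebra W A]
    [Algebra.EssFiniteType W A] [Module.Flat W A] : Module.Finite A (Module.Dual A M) := by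
  classical
  obtain ⟨r, π, hπ⟩ := Module.Finite.exists_fin' A M
  obtain ⟨m, k, hk⟩ := Submodule.fg_iff_exists_fin_generating_family.mp
    (Module.FinitePresentation.fg_ker π hπ)
  -- `g c = (∑ j, c j * k l j)_l`
  let g : (Fin r → A) →ₗ[A] (Fin m → A) :=
    LinearMap.pi (fun l => ∑ j, (k l j) • (LinearMap.proj j : (Fin r → A) →ₗ[A] A))
  have hg : ∀ c l, g c l = ∑ j, k l j * c j := by
    intro c l
    simp [g, LinearMap.pi_apply, LinearMap.sum_apply]
  -- kernel of `g` is finitely generated
  haveI : Module.IsTorsionFree W (LinearMap.range g) :=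
    Subtype.val_injective.moduleIsTorsionFree _ (fun _ _ => rfl)
  haveI : Module.Finite A (LinearMap.range g) := Module.Finite.range g
  haveI : Module.FinitePresentation A (LinearMap.range g) :=
    Groth.Agent.Lib.ValFP76.finitePresentation_of_essFiniteType W A (LinearMap.range g)
  have hKfg : (LinearMap.ker g).FG := by
    have := Module.FinitePresentation.fg_ker g.rangeRestrict g.surjective_rangeRestrict
    rwa [LinearMap.ker_rangeRestrict] at this
  -- the embedding of the dual
  let ι : Module.Dual A M →ₗ[A] (Fin r → A) :=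
    LinearMap.pi (fun j => (LinearMap.applyₗ (π (Pi.single j 1)) : Module.Dual A M →ₗ[A] A))
  have hι : ∀ φ j, ι φ j = φ (π (Pi.single j 1)) := fun φ j => rfl
  have hexp : ∀ x : Fin r → A, x = ∑ j, x j • (Pi.single j (1 : A) : Fin r → A) := by
    intro x
    ext j
    simp [Pi.single_apply]
  have hφπ : ∀ (φ : Module.Dual A M) (x : Fin r → A), φ (π x) = ∑ j, x j * ι φ j := by
    intro φ x
    conv_lhs => rw [hexp x]
    rw [map_sum, map_sum]
    refine Finset.sum_congr rfl (fun j _ => ?_)
    rw [map_smul, map_smul, hι, smul_eq_mul]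
  have hιinj : Injective ι := by
    intro φ φ' h
    ext y
    obtain ⟨x, rfl⟩ := hπ y
    rw [hφπ, hφπ, h]
  have hrange : LinearMap.range ι = LinearMap.ker g := by
    ext c
    constructor
    · rintro ⟨φ, rfl⟩
      rw [LinearMap.mem_ker]
      funext l
      rw [hg, Pi.zero_apply, ← hφπ φ (k l)]
      have hkl : k l ∈ LinearMap.ker π := by
        rw [← hk]
        exact Submodule.subset_span ⟨l, rfl⟩
      rw [hkl, map_zero]
    · intro hc
      rw [LinearMap.mem_ker] at hc
      let ℓ : (Fin r → A) →ₗ[A] A := ∑ j, (c j) • (LinearMap.proj j : (Fin r → A) →ₗ[A] A)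
      have hℓ : ∀ x, ℓ x = ∑ j, c j * x j := by
        intro x
        simp [ℓ, LinearMap.sum_apply]
      have hker : LinearMap.ker π ≤ LinearMap.ker ℓ := by
        rw [← hk, Submodule.span_le]
        rintro _ ⟨l, rfl⟩
        change ℓ (k l) = 0
        rw [hℓ]
        have := congrFun hc l
        rw [hg, Pi.zero_apply] at this
        rw [← this]
        exact Finset.sum_congr rfl (fun j _ => mul_comm _ _)
      let φ : Module.Dual A M :=
        ((LinearMap.ker π).liftQ ℓ hker) ∘ₗ (π.quotKerEquivOfSurjective hπ).symm.toLinearMap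
      have hφ : ∀ x, φ (π x) = ℓ x := by
        intro x
        change ((LinearMap.ker π).liftQ ℓ hker) ((π.quotKerEquivOfSurjective hπ).symm (π x)) = ℓ x
        have : (π.quotKerEquivOfSurjective hπ).symm (π x) = Submodule.Quotient.mk x := by
          rw [LinearEquiv.symm_apply_eq]
          rfl
        rw [this]
        rfl
      refine ⟨φ, ?_⟩
      funext j
      rw [hι, hφ, hℓ]
      simp [Pi.single_apply]
  have hfin : Module.Finite A (LinearMap.range ι) := by
    rw [hrange]
    exact Module.Finite.iff_fg.mpr hKfg
  exact Module.Finite.equiv (LinearEquiv.ofInjective ι hιinj).symm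

end Dual

section Reflexive

variable (n : ℕ) [IsRegularLocalRing (A ⧸ I)] (hn : ringKrullDim (A ⧸ I) = n)

include hI hn in
/-- Reflexive finitely presented modules have projective dimension `≤ n - 1`. -/
theorem pdLE_of_isReflexive (M : Type u) [AddCommGroup M] [Module A M]
    [Module.FinitePresentation A M] [Module.IsReflexive A M] :
    HasProjectiveDimensionLE (ModuleCat.of A M) (n - 1) := by
  classical
  haveI := finite_dual (A := A) M W
  obtain ⟨s, σ, hσ⟩ := Module.Finite.exists_fin' A (Module.Dual A M)
  have hexp : ∀ x : Fin s → A, x = ∑ j, x j • (Pi.single j (1 : A) : Fin s → A) := by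
    intro x
    ext j
    simp [Pi.single_apply]
  -- the embedding `ψ : M → A^s`
  let ψ : M →ₗ[A] (Fin s → A) := LinearMap.pi (fun i => σ (Pi.single i 1))
  have hψ : ∀ m i, ψ m i = σ (Pi.single i 1) m := fun m i => rfl
  have hσm : ∀ (b : Fin s → A) (m : M), σ b m = ∑ i, b i * ψ m i := by
    intro b m
    conv_lhs => rw [hexp b]
    rw [map_sum, LinearMap.sum_apply]
    refine Finset.sum_congr rfl (fun i _ => ?_)
    rw [map_smul, LinearMap.smul_apply, hψ, smul_eq_mul]
  have hψinj : Injective ψ := by
    rw [injective_iff_map_eq_zero]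
    intro m hm
    apply (Module.bijective_dual_eval A M).1
    rw [map_zero]
    ext φ
    obtain ⟨b, rfl⟩ := hσ φ
    rw [Module.Dual.eval_apply, hσm, hm]
    simp
  -- the cokernel is torsion-free over `W`
  have htf : Module.IsTorsionFree W ((Fin s → A) ⧸ LinearMap.range ψ) := by
    apply Module.IsTorsionFree.of_smul_eq_zero
    intro a cb hcb
    by_cases ha : a = 0
    · exact Or.inl ha
    right
    obtain ⟨c, rfl⟩ := Submodule.Quotient.mk_surjective _ cb
    rw [← Submodule.Quotient.mk_smul, Submodule.Quotient.mk_eq_zero] at hcb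
    obtain ⟨m, hm⟩ := hcb
    rw [Submodule.Quotient.mk_eq_zero]
    let ℓ : (Fin s → A) →ₗ[A] A := ∑ j, (c j) • (LinearMap.proj j : (Fin s → A) →ₗ[A] A)
    have hℓ : ∀ x, ℓ x = ∑ j, c j * x j := by
      intro x
      simp [ℓ, LinearMap.sum_apply]
    have hker : LinearMap.ker σ ≤ LinearMap.ker ℓ := by
      intro b hb
      rw [LinearMap.mem_ker] at hb ⊢
      have h1 : σ b m = 0 := by rw [hb]; rfl
      rw [hσm, hm] at h1
      have h2 : a • ℓ b = 0 := by
        rw [hℓ, Finset.smul_sum, ← h1]
        refine Finset.sum_congr rfl (fun i _ => ?_)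
        rw [Pi.smul_apply, mul_smul_comm, mul_comm]
      exact (smul_eq_zero_iff_right ha).mp h2
    let lam : Module.Dual A (Module.Dual A M) :=
      ((LinearMap.ker σ).liftQ ℓ hker) ∘ₗ (σ.quotKerEquivOfSurjective hσ).symm.toLinearMap
    have hlam : ∀ b, lam (σ b) = ℓ b := by
      intro b
      change ((LinearMap.ker σ).liftQ ℓ hker) ((σ.quotKerEquivOfSurjective hσ).symm (σ b)) = ℓ b
      have : (σ.quotKerEquivOfSurjective hσ).symm (σ b) = Submodule.Quotient.mk b := by
        rw [LinearEquiv.symm_apply_eq]
        rfl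
      rw [this]
      rfl
    obtain ⟨m', hm'⟩ := (Module.bijective_dual_eval A M).2 lam
    refine ⟨m', ?_⟩
    funext i
    rw [hψ]
    have h3 := congrArg (fun f => f (σ (Pi.single i 1))) hm'
    simp only [Module.Dual.eval_apply] at h3
    rw [h3, hlam, hℓ]
    simp [Pi.single_apply]
  haveI := htf
  have hC := pdLT_of_isTorsionFree I hI n hn ((Fin s → A) ⧸ LinearMap.range ψ)
  -- shift
  have hsurj : Surjective (LinearMap.range ψ).mkQ := Submodule.mkQ_surjective _
  let e : M ≃ₗ[A] LinearMap.ker (LinearMap.range ψ).mkQ :=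
    (LinearEquiv.ofInjective ψ hψinj).trans
      (LinearEquiv.ofEq _ _ (Submodule.ker_mkQ (LinearMap.range ψ)).symm)
  rcases n with _ | j
  · have h2 : HasProjectiveDimensionLT
        (ModuleCat.of A ((Fin s → A) ⧸ LinearMap.range ψ)) (0 + 2) :=
      hasProjectiveDimensionLT_of_ge _ (0 + 1) (0 + 2) (by omega)
    have h3 := (Groth.Agent.Lib.GrPd.pdLT_succ_succ_iff_ker (LinearMap.range ψ).mkQ hsurj 0).mp h2
    haveI := h3
    exact hasProjectiveDimensionLT_of_iso e.symm.toModuleIso (0 + 1)
  · have h3 := (Groth.Agent.Lib.GrPd.pdLT_succ_succ_iff_ker (LinearMap.range ψ).mkQ hsurj j).mp hC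
    haveI := h3
    exact hasProjectiveDimensionLT_of_iso e.symm.toModuleIso (j + 1)

end Reflexive

end Abstract

section Concrete

theorem valuationRing_atPrime {V : Type*} [CommRing V] [IsDomain V] [ValuationRing V]
    (p : Ideal V) [p.IsPrime] : ValuationRing (Localization.AtPrime p) := by
  rw [ValuationRing.iff_dvd_total]
  refine ⟨fun a b => ?_⟩
  obtain ⟨⟨x, s⟩, rfl⟩ := IsLocalization.mk'_surjective p.primeCompl a
  obtain ⟨⟨y, t⟩, rfl⟩ := IsLocalization.mk'_surjective p.primeCompl b
  have hs : IsUnit (algebraMap V (Localization.AtPrime p) s) := IsLocalization.map_units _ s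
  have ht : IsUnit (algebraMap V (Localization.AtPrime p) t) := IsLocalization.map_units _ t
  have hx : IsLocalization.mk' (Localization.AtPrime p) x s * algebraMap V _ (s : V) =
      algebraMap V _ x := IsLocalization.mk'_spec _ x s
  have hy : IsLocalization.mk' (Localization.AtPrime p) y t * algebraMap V _ (t : V) =
      algebraMap V _ y := IsLocalization.mk'_spec _ y t
  rcases ValuationRing.dvd_total x y with h | h
  · left
    have h1 := map_dvd (algebraMap V (Localization.AtPrime p)) h
    rw [← hx, ← hy, hs.mul_right_dvd, ht.dvd_mul_right] at h1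
    exact h1
  · right
    have h1 := map_dvd (algebraMap V (Localization.AtPrime p)) h
    rw [← hx, ← hy, ht.mul_right_dvd, hs.dvd_mul_right] at h1
    exact h1

variable (V : Type u) [CommRing V] [IsDomain V] [ValuationRing V]
  (B : Type u) [CommRing B] [Algebra V B] [Module.Flat V B] [Algebra.FinitePresentation V B]
  (q : Ideal B) [q.IsPrime]

/-- The local valuation ring `W = V_𝔭` (`𝔭 = q ∩ V`) under `A = B_q`, with all the structure
needed for the abstract results. -/
theorem exists_local_setup :
    ∃ (W : Type u) (_ : CommRing W) (_ : IsDomain W) (_ : ValuationRing W)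
      (_ : Algebra W (Localization.AtPrime q)) (_ : IsLocalHom (algebraMap W (Localization.AtPrime q)))
      (_ : Algebra.EssFiniteType W (Localization.AtPrime q))
      (_ : Module.Flat W (Localization.AtPrime q)) (_ : Algebra V W)
      (_ : IsScalarTower V W (Localization.AtPrime q))
      (_ : IsLocalization.AtPrime W (Ideal.comap (algebraMap V B) q)),
      Ideal.map (algebraMap V (Localization.AtPrime q)) (Ideal.comap (algebraMap V B) q) =
        (IsLocalRing.maximalIdeal W).map (algebraMap W (Localization.AtPrime q)) := by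
  haveI hlo : q.LiesOver (Ideal.comap (algebraMap V B) q) := ⟨rfl⟩
  letI algWA : Algebra (Localization.AtPrime (Ideal.comap (algebraMap V B) q))
      (Localization.AtPrime q) :=
    Localization.AtPrime.algebraOfLiesOver (Ideal.comap (algebraMap V B) q) q
  haveI hval := valuationRing_atPrime (Ideal.comap (algebraMap V B) q)
  haveI hloc : IsLocalHom (algebraMap (Localization.AtPrime (Ideal.comap (algebraMap V B) q))
      (Localization.AtPrime q)) :=
    Localization.isLocalHom_localRingHom _ _ _ Ideal.LiesOver.over
  haveI : Algebra.EssFiniteType B (Localization.AtPrime q) :=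
    Algebra.EssFiniteType.of_isLocalization _ q.primeCompl
  haveI : Algebra.EssFiniteType V (Localization.AtPrime q) :=
    Algebra.EssFiniteType.comp V B _
  haveI heft : Algebra.EssFiniteType (Localization.AtPrime (Ideal.comap (algebraMap V B) q))
      (Localization.AtPrime q) :=
    Algebra.EssFiniteType.of_comp V _ _
  haveI : Module.Flat V (Localization.AtPrime q) := Module.Flat.trans V B _
  haveI hflat : Module.Flat (Localization.AtPrime (Ideal.comap (algebraMap V B) q))
      (Localization.AtPrime q) :=
    (Module.flat_iff_of_isLocalization (Localization.AtPrime (Ideal.comap (algebraMap V B) q))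
      (Ideal.comap (algebraMap V B) q).primeCompl _).mpr inferInstance
  refine ⟨Localization.AtPrime (Ideal.comap (algebraMap V B) q), inferInstance, inferInstance,
    hval, algWA, hloc, heft, hflat, inferInstance, inferInstance, inferInstance, ?_⟩
  rw [← Localization.AtPrime.map_eq_maximalIdeal, Ideal.map_map, ← IsScalarTower.algebraMap_eq]

variable (n : ℕ)
  (hreg : IsRegularLocalRing (Localization.AtPrime q ⧸
    Ideal.map (algebraMap V (Localization.AtPrime q)) (Ideal.comap (algebraMap V B) q)))
  (hn : ringKrullDim (Localization.AtPrime q ⧸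
    Ideal.map (algebraMap V (Localization.AtPrime q)) (Ideal.comap (algebraMap V B) q)) = n)

include hreg hn in
/-- S16178. -/
theorem pdLE_of_flat_atPrime (M : Type u) [AddCommGroup M] [Module (Localization.AtPrime q) M]
    [Module.FinitePresentation (Localization.AtPrime q) M]
    [Module V M] [IsScalarTower V (Localization.AtPrime q) M] [Module.Flat V M] :
    HasProjectiveDimensionLE (ModuleCat.of (Localization.AtPrime q) M) n := by
  obtain ⟨W, _, _, _, _, _, _, _, _, _, _, hI⟩ := exists_local_setup V B q
  haveI := hreg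
  letI : Module W M := Module.compHom M (algebraMap W (Localization.AtPrime q))
  have hsm : ∀ (w : W) (m : M), w • m = algebraMap W (Localization.AtPrime q) w • m :=
    fun _ _ => rfl
  haveI : IsScalarTower W (Localization.AtPrime q) M := ⟨fun w a m => by
    rw [hsm w (a • m), Algebra.smul_def, mul_smul]⟩
  haveI : IsScalarTower V W M := ⟨fun v w m => by
    rw [hsm (v • w) m, hsm w m, Algebra.smul_def, map_mul, mul_smul,
      ← IsScalarTower.algebraMap_apply V W (Localization.AtPrime q), algebraMap_smul]⟩
  haveI : Module.Flat W M :=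
    (Module.flat_iff_of_isLocalization W (Ideal.comap (algebraMap V B) q).primeCompl M).mpr
      inferInstance
  exact pdLT_of_flat _ hI n hn M

include hreg hn in
/-- S16179. -/
theorem pdLE_succ_atPrime (M : Type u) [AddCommGroup M] [Module (Localization.AtPrime q) M]
    [Module.FinitePresentation (Localization.AtPrime q) M] :
    HasProjectiveDimensionLE (ModuleCat.of (Localization.AtPrime q) M) (n + 1) := by
  obtain ⟨W, _, _, _, _, _, _, _, _, _, _, hI⟩ := exists_local_setup V B q
  haveI := hreg
  exact pdLT_of_fp _ hI n hn M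

include hreg hn in
/-- S16180. -/
theorem pdLE_of_isReflexive_atPrime (M : Type u) [AddCommGroup M]
    [Module (Localization.AtPrime q) M] [Module.FinitePresentation (Localization.AtPrime q) M]
    [Module.IsReflexive (Localization.AtPrime q) M] :
    HasProjectiveDimensionLE (ModuleCat.of (Localization.AtPrime q) M) (n - 1) := by
  obtain ⟨W, _, _, _, _, _, _, _, _, _, _, hI⟩ := exists_local_setup V B q
  haveI := hreg
  exact pdLE_of_isReflexive _ hI n hn M

end Concrete

end Groth.Agent.Lib.ValPd88
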