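/-
helper85: valuative criteria tested at field-valued points: `LiftsAt f t` (valuation subrings of
`κ` lift uniquely at `t : Spec κ ⟶ X`), lifting of specializations, stability under base change,
and the version of Stacks 0894 for a set `D` of points of which every point is a specialization
(e.g. the generic points of the irreducible components).
-/
import Groth.Agent.Lib.ValDense3

set_option autoImplicit false
universe u
open CategoryTheory CategoryTheory.Limits AlgebraicGeometry IsLocalRing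

namespace Groth.Agent.Lib.ValPoint

open Groth.Agent.Lib.ValCenter Groth.Agent.Lib.ValDense

variable {X S : Scheme.{u}}

/-- Valuation subrings of `κ` lift uniquely along `f` at the field-valued point `t`. -/
def LiftsAt (f : X ⟶ S) {κ : Type u} [Field κ] (t : Spec (.of κ) ⟶ X) : Prop :=
  ∀ (R : ValuationSubring κ) (φ : Spec (.of R) ⟶ S),
    Spec.map (CommRingCat.ofHom R.subtype) ≫ φ = t ≫ f →
    ∃! l : Spec (.of R) ⟶ X, Spec.map (CommRingCat.ofHom R.subtype) ≫ l = t ∧ l ≫ f = φ

/-- At most one lift. -/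
def SubsingletonLiftsAt (f : X ⟶ S) {κ : Type u} [Field κ] (t : Spec (.of κ) ⟶ X) : Prop :=
  ∀ (R : ValuationSubring κ) (l₁ l₂ : Spec (.of R) ⟶ X),
    Spec.map (CommRingCat.ofHom R.subtype) ≫ l₁ = t →
    Spec.map (CommRingCat.ofHom R.subtype) ≫ l₂ = t → l₁ ≫ f = l₂ ≫ f → l₁ = l₂

lemma LiftsAt.subsingleton {f : X ⟶ S} {κ : Type u} [Field κ] {t : Spec (.of κ) ⟶ X}
    (H : LiftsAt f t) : SubsingletonLiftsAt f t := by
  intro R l₁ l₂ h1 h2 h12
  have hφ : Spec.map (CommRingCat.ofHom R.subtype) ≫ (l₁ ≫ f) = t ≫ f := by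
    rw [← Category.assoc, h1]
  exact (H R (l₁ ≫ f) hφ).unique ⟨h1, rfl⟩ ⟨h2, h12.symm⟩

set_option backward.isDefEq.respectTransparency.types false in
/-- Lifting specializations along `f` using a field-valued point specializing to `x'`. -/
theorem exists_specializes_of_liftsAt (f : X ⟶ S) {κ : Type u} [Field κ] (t : Spec (.of κ) ⟶ X)
    (H : LiftsAt f t) (x' : X) (hx' : t (closedPoint κ) ⤳ x') (s : S) (hs : f x' ⤳ s) :
    ∃ x, x' ⤳ x ∧ f x = s := by
  -- the valuation ring `A₁` of `κ` dominating `O_{X,x'}`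
  let φ₁ : X.presheaf.stalk x' ⟶ CommRingCat.of κ :=
    X.presheaf.stalkSpecializes hx' ≫ Scheme.stalkClosedPointTo t
  obtain ⟨A₁, hA₁, hA₁loc⟩ := exists_factor_valuationRing φ₁.hom
  let θ₁ : X.presheaf.stalk x' →+* A₁ := φ₁.hom.codRestrict _ hA₁
  have hθ₁loc : IsLocalHom θ₁ := hA₁loc
  let ψ₀ : S.presheaf.stalk s ⟶ X.presheaf.stalk x' :=
    S.presheaf.stalkSpecializes hs ≫ f.stalkMap x'
  -- the valuation ring `A₂` of the residue field of `A₁` dominating `O_{S,s}`
  let ψ : S.presheaf.stalk s →+* ResidueField A₁ := (residue A₁).comp (θ₁.comp ψ₀.hom)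
  obtain ⟨A₂, hA₂, hA₂loc⟩ := exists_factor_valuationRing ψ
  let A : ValuationSubring κ := composite A₁ A₂
  have hAle : A ≤ A₁ := composite_le A₁ A₂
  have hθmem : ∀ a, φ₁.hom (ψ₀.hom a) ∈ A := by
    intro a
    rw [mem_composite]
    exact ⟨hA₁ _, hA₂ a⟩
  let θ : S.presheaf.stalk s →+* A := (φ₁.hom.comp ψ₀.hom).codRestrict A.toSubring hθmem
  have hθloc : IsLocalHom θ := by
    constructor
    intro a ha
    by_contra hnu
    have h1 : ¬ IsUnit (ψ.codRestrict A₂.toSubring hA₂ a) := fun hu ↦ hnu (hA₂loc.map_nonunit _ hu)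
    have h2 : A₂.valuation (ψ a) < 1 :=
      (A₂.valuation_lt_one_iff _).mp ((mem_maximalIdeal _).mpr h1)
    have h3 : A.valuation (φ₁.hom (ψ₀.hom a)) < 1 :=
      valuation_composite_lt_one A₁ A₂ (hA₁ _) h2
    have h4 : (⟨φ₁.hom (ψ₀.hom a), hθmem a⟩ : A) ∈ maximalIdeal A :=
      (A.valuation_lt_one_iff _).mpr h3
    exact ((mem_maximalIdeal _).mp h4) ha
  -- the morphisms
  let y : Spec (.of A) ⟶ S := Spec.map (CommRingCat.ofHom θ) ≫ S.fromSpecStalk s
  let m₁ : Spec (.of A₁) ⟶ X := Spec.map (CommRingCat.ofHom θ₁) ≫ X.fromSpecStalk x'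
  have hφ₁ : Spec.map φ₁ ≫ X.fromSpecStalk x' = t := by
    simp only [φ₁, Spec.map_comp, Category.assoc,
      Scheme.SpecMap_stalkSpecializes_fromSpecStalk]
    exact Scheme.Spec_stalkClosedPointTo_fromSpecStalk t
  have hψ₀ : Spec.map ψ₀ ≫ S.fromSpecStalk s = X.fromSpecStalk x' ≫ f := by
    simp only [ψ₀, Spec.map_comp, Category.assoc,
      Scheme.SpecMap_stalkSpecializes_fromSpecStalk, Scheme.SpecMap_stalkMap_fromSpecStalk]
  have e1 : ψ₀ ≫ φ₁ = CommRingCat.ofHom θ ≫ CommRingCat.ofHom A.subtype := by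
    ext a; rfl
  have w : Spec.map (CommRingCat.ofHom A.subtype) ≫ y = t ≫ f := by
    rw [← hφ₁, Category.assoc, ← hψ₀, ← Spec.map_comp_assoc, ← Spec.map_comp_assoc, e1]
  obtain ⟨l, ⟨hl₁, hl₂⟩, -⟩ := H A y w
  -- the second square
  let incl : A →+* A₁ := ValuationSubring.inclusion A A₁ hAle
  let y₁ : Spec (.of A₁) ⟶ S := Spec.map (CommRingCat.ofHom incl) ≫ y
  have e2 : CommRingCat.ofHom incl ≫ CommRingCat.ofHom A₁.subtype =
      CommRingCat.ofHom A.subtype := by
    ext a; rfl
  have w₁ : Spec.map (CommRingCat.ofHom A₁.subtype) ≫ y₁ = t ≫ f := by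
    rw [← w, ← e2, Spec.map_comp_assoc]
  have e3 : CommRingCat.ofHom θ₁ ≫ CommRingCat.ofHom A₁.subtype = φ₁ := by
    ext a; rfl
  have e4 : ψ₀ ≫ CommRingCat.ofHom θ₁ = CommRingCat.ofHom θ ≫ CommRingCat.ofHom incl := by
    ext a; rfl
  have e4' : Spec.map (CommRingCat.ofHom θ₁) ≫ Spec.map ψ₀ =
      Spec.map (CommRingCat.ofHom incl) ≫ Spec.map (CommRingCat.ofHom θ) := by
    rw [← Spec.map_comp, ← Spec.map_comp]
    exact congrArg Spec.map e4
  have ha : Spec.map (CommRingCat.ofHom A₁.subtype) ≫ (Spec.map (CommRingCat.ofHom incl) ≫ l) = t ∧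
      (Spec.map (CommRingCat.ofHom incl) ≫ l) ≫ f = y₁ := by
    constructor
    · rw [← Spec.map_comp_assoc, e2, hl₁]
    · rw [Category.assoc, hl₂]
  have hb : Spec.map (CommRingCat.ofHom A₁.subtype) ≫ m₁ = t ∧ m₁ ≫ f = y₁ := by
    constructor
    · change Spec.map (CommRingCat.ofHom A₁.subtype) ≫
        Spec.map (CommRingCat.ofHom θ₁) ≫ X.fromSpecStalk x' = t
      rw [← Spec.map_comp_assoc, e3, hφ₁]
    · change (Spec.map (CommRingCat.ofHom θ₁) ≫ X.fromSpecStalk x') ≫ f =
        Spec.map (CommRingCat.ofHom incl) ≫ Spec.map (CommRingCat.ofHom θ) ≫ S.fromSpecStalk s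
      rw [Category.assoc, ← hψ₀, ← Category.assoc, e4', Category.assoc]
  have hlm : Spec.map (CommRingCat.ofHom incl) ≫ l = m₁ := (H A₁ y₁ w₁).unique ha hb
  let pt : ↥(Spec (CommRingCat.of A)) := closedPoint A
  let pt₁ : ↥(Spec (CommRingCat.of A₁)) := closedPoint A₁
  refine ⟨l pt, ?_, ?_⟩
  · have h1 : m₁ pt₁ = x' := by
      change (Spec.map (CommRingCat.ofHom θ₁) ≫ X.fromSpecStalk x') pt₁ = x'
      rw [Scheme.Hom.comp_apply]
      have : (Spec.map (CommRingCat.ofHom θ₁)) pt₁ = closedPoint (X.presheaf.stalk x') :=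
        comap_closedPoint θ₁
      rw [this, Scheme.fromSpecStalk_closedPoint]
    rw [← h1, ← hlm, Scheme.Hom.comp_apply]
    exact (specializes_closedPoint (R := A) _).map l.continuous
  · have h2 : (l ≫ f) pt = s := by
      rw [hl₂]
      change (Spec.map (CommRingCat.ofHom θ) ≫ S.fromSpecStalk s) pt = s
      rw [Scheme.Hom.comp_apply]
      have : (Spec.map (CommRingCat.ofHom θ)) pt = closedPoint (S.presheaf.stalk s) :=
        comap_closedPoint θ
      rw [this, Scheme.fromSpecStalk_closedPoint]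
    exact h2

/-- If every point of `X` is a specialization of a point of `D`, and valuation subrings of the
residue fields of the points of `D` lift uniquely, then specializations lift along `f`. -/
theorem specializingMap_of_liftsAt (f : X ⟶ S) (D : Set X) (hD : ∀ x, ∃ ξ ∈ D, ξ ⤳ x)
    (H : ∀ ξ ∈ D, LiftsAt f (X.fromSpecResidueField ξ)) : SpecializingMap f := by
  intro x' s hs
  obtain ⟨ξ, hξD, hξ⟩ := hD x'
  refine exists_specializes_of_liftsAt f (X.fromSpecResidueField ξ) (H ξ hξD) x' ?_ s hs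
  have h0 : (X.fromSpecResidueField ξ) (closedPoint (X.residueField ξ)) = ξ :=
    Scheme.fromSpecResidueField_apply ξ _
  exact h0.symm ▸ hξ

/-- `LiftsAt` is stable under base change (restricting valuation rings to the subfield). -/
lemma LiftsAt.of_isPullback {X' S' : Scheme.{u}} {f : X ⟶ S} {f' : X' ⟶ S'} {g : S' ⟶ S}
    {gX : X' ⟶ X} (sq1 : IsPullback gX f' f g) {κ κ' : Type u} [Field κ] [Field κ']
    {t : Spec (.of κ) ⟶ X} {t' : Spec (.of κ') ⟶ X'} (ι : κ →+* κ')
    (ht : t' ≫ gX = Spec.map (CommRingCat.ofHom ι) ≫ t) (H : LiftsAt f t) : LiftsAt f' t' := by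
  intro R' φ' hφ'
  let R : ValuationSubring κ := restrictVal (R := R') ι
  let ρ : R →+* R' := restrictValTo ι
  have e : CommRingCat.ofHom ρ ≫ CommRingCat.ofHom R'.subtype =
      CommRingCat.ofHom R.subtype ≫ CommRingCat.ofHom ι := by
    ext c
    exact algebraMap_restrictValTo ι c
  -- existence
  have hm : Spec.map (CommRingCat.ofHom (algebraMap R' κ')) ≫ (φ' ≫ g) =
      Spec.map (CommRingCat.ofHom ι) ≫ (t ≫ f) := by
    change Spec.map (CommRingCat.ofHom R'.subtype) ≫ (φ' ≫ g) = _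
    rw [← Category.assoc, hφ', Category.assoc, ← sq1.w, ← Category.assoc, ht, Category.assoc]
  obtain ⟨φ, hφa, hφb⟩ := exists_factor_restrictVal ι (φ' ≫ g) (t ≫ f) hm
  obtain ⟨l, ⟨hl₁, hl₂⟩, hluniq⟩ := H R φ hφb
  have hcomp : (Spec.map (CommRingCat.ofHom ρ) ≫ l) ≫ f = φ' ≫ g := by
    rw [Category.assoc, hl₂, hφa]
  let l' : Spec (.of R') ⟶ X' := sq1.lift (Spec.map (CommRingCat.ofHom ρ) ≫ l) φ' hcomp
  have hl'₁ : l' ≫ gX = Spec.map (CommRingCat.ofHom ρ) ≫ l := sq1.lift_fst _ _ _
  have hl'₂ : l' ≫ f' = φ' := sq1.lift_snd _ _ _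
  refine ⟨l', ⟨?_, hl'₂⟩, ?_⟩
  · apply sq1.hom_ext
    · rw [Category.assoc, hl'₁, ← Spec.map_comp_assoc, e, Spec.map_comp_assoc, hl₁, ht]
    · rw [Category.assoc, hl'₂, hφ']
  · rintro l'' ⟨h1, h2⟩
    apply sq1.hom_ext
    · -- factor `l'' ≫ gX` through `Spec R`
      have hm'' : Spec.map (CommRingCat.ofHom (algebraMap R' κ')) ≫ (l'' ≫ gX) =
          Spec.map (CommRingCat.ofHom ι) ≫ t := by
        change Spec.map (CommRingCat.ofHom R'.subtype) ≫ (l'' ≫ gX) = _
        rw [← Category.assoc, h1, ht]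
      obtain ⟨l₀, hl₀a, hl₀b⟩ := exists_factor_restrictVal ι (l'' ≫ gX) t hm''
      have hl₀f : l₀ ≫ f = φ := by
        apply eq_of_SpecMap_comp_eq ρ (restrictValTo_injective ι)
        rw [← Category.assoc, hl₀a, hφa, Category.assoc, sq1.w, ← Category.assoc, h2]
      have : l₀ = l := hluniq l₀ ⟨hl₀b, hl₀f⟩
      rw [hl'₁, ← this, hl₀a]
    · rw [hl'₂, h2]

open AlgebraicGeometry.AffineSpace in
set_option backward.isDefEq.respectTransparency.types false in
/-- Affine space is flat over its base. -/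
lemma flat_affineSpace_over (n : Type u) (S : Scheme.{u}) : Flat (𝔸(n; S) ↘ S) :=
  MorphismProperty.pullback_fst _ _ <| by
  have := isIso_of_isTerminal specULiftZIsTerminal.{u} terminalIsTerminal (terminal.from _)
  rw [← terminal.comp_from (Spec.map (CommRingCat.ofHom
      (MvPolynomial.C : ULift.{u} ℤ →+* MvPolynomial n (ULift.{u} ℤ)))),
    MorphismProperty.cancel_right_of_respectsIso (P := @Flat),
    HasRingHomProperty.Spec_iff (P := @Flat)]
  change (algebraMap (ULift.{u} ℤ) (MvPolynomial n (ULift.{u} ℤ))).Flat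
  rw [RingHom.flat_algebraMap_iff]
  infer_instance

/-- The generic-points version of Stacks 0894, first part. -/
theorem universallyClosed_of_liftsAt (f : X ⟶ S) [QuasiCompact f] (D : Set X)
    (hD : ∀ x, ∃ ξ ∈ D, ξ ⤳ x) (H : ∀ ξ ∈ D, LiftsAt f (X.fromSpecResidueField ξ)) :
    UniversallyClosed f := by
  apply Groth.Agent.Lib.UnivClosedAffineSpace.universallyClosed_of_forall_isClosedMap_map
  intro n
  have hqc : QuasiCompact (AffineSpace.map (ULift.{u} (Fin n)) f) :=
    MorphismProperty.of_isPullback (P := @QuasiCompact)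
      (AffineSpace.isPullback_map (n := ULift.{u} (Fin n)) f).flip inferInstance
  rw [isClosedMap_iff_specializingMap]
  let π : 𝔸(ULift.{u} (Fin n); X) ⟶ X := 𝔸(ULift.{u} (Fin n); X) ↘ X
  have hflat : Flat π := flat_affineSpace_over _ X
  have hgen : GeneralizingMap π := Flat.generalizingMap π
  refine specializingMap_of_liftsAt _ (π ⁻¹' D) ?_ ?_
  · intro x''
    obtain ⟨ξ, hξD, hξ⟩ := hD (π x'')
    obtain ⟨ξ'', hξ'', hπξ''⟩ := hgen hξ
    exact ⟨ξ'', by rw [Set.mem_preimage, hπξ'']; exact hξD, hξ''⟩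
  · intro ξ'' hξ''
    refine LiftsAt.of_isPullback (AffineSpace.isPullback_map (n := ULift.{u} (Fin n)) f).flip
      (π.residueFieldMap ξ'').hom ?_ (H (π ξ'') hξ'')
    exact (Scheme.Hom.SpecMap_residueFieldMap_fromSpecResidueField π ξ'').symm

/-- If valuation subrings of `κ` have at most one lift along `f` at `t`, then they lift uniquely
along the diagonal of `f`. -/
lemma liftsAt_diagonal (f : X ⟶ S) {κ : Type u} [Field κ] (t : Spec (.of κ) ⟶ X)
    (H : SubsingletonLiftsAt f t) : LiftsAt (pullback.diagonal f) t := by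
  intro R φ hφ
  have h1 : Spec.map (CommRingCat.ofHom R.subtype) ≫ (φ ≫ pullback.fst f f) = t := by
    rw [← Category.assoc, hφ, Category.assoc, pullback.diagonal_fst, Category.comp_id]
  have h2 : Spec.map (CommRingCat.ofHom R.subtype) ≫ (φ ≫ pullback.snd f f) = t := by
    rw [← Category.assoc, hφ, Category.assoc, pullback.diagonal_snd, Category.comp_id]
  have h12 : φ ≫ pullback.fst f f = φ ≫ pullback.snd f f :=
    H R _ _ h1 h2 (by rw [Category.assoc, Category.assoc, pullback.condition])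
  have hΔ : (φ ≫ pullback.fst f f) ≫ pullback.diagonal f = φ := by
    apply pullback.hom_ext
    · rw [Category.assoc, pullback.diagonal_fst, Category.comp_id]
    · rw [Category.assoc, pullback.diagonal_snd, Category.comp_id, h12]
  refine ⟨φ ≫ pullback.fst f f, ⟨h1, hΔ⟩, ?_⟩
  rintro l ⟨-, hl⟩
  rw [← cancel_mono (pullback.diagonal f), hl, hΔ]

/-- The generic-points version of Stacks 0894, second part. -/
theorem isSeparated_of_subsingletonLiftsAt (f : X ⟶ S) [QuasiSeparated f] (D : Set X)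
    (hD : ∀ x, ∃ ξ ∈ D, ξ ⤳ x) (H : ∀ ξ ∈ D, SubsingletonLiftsAt f (X.fromSpecResidueField ξ)) :
    IsSeparated f where
  isClosedImmersion_diagonal := by
    have := universallyClosed_of_liftsAt (pullback.diagonal f) D hD
      (fun ξ hξ ↦ liftsAt_diagonal f _ (H ξ hξ))
    exact .of_isPreimmersion _ (pullback.diagonal f).isClosedMap.isClosed_range

/-- Over a locally Noetherian base, uniqueness of lifts of valuation subrings of `κ` can be tested
on discrete valuation subrings. -/
theorem subsingletonLiftsAt_of_forall_dvr [IsLocallyNoetherian S] (f : X ⟶ S)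
    [LocallyOfFiniteType f] [QuasiSeparated f] {κ : Type u} [Field κ] (t₀ : Spec (.of κ) ⟶ X)
    (hκ : (Scheme.stalkClosedPointTo t₀).hom.EssFiniteType)
    (H : ∀ A : ValuationSubring κ, IsDiscreteValuationRing A → ∀ l₁ l₂ : Spec (.of A) ⟶ X,
      Spec.map (CommRingCat.ofHom A.subtype) ≫ l₁ = t₀ →
      Spec.map (CommRingCat.ofHom A.subtype) ≫ l₂ = t₀ → l₁ ≫ f = l₂ ≫ f → l₁ = l₂) :
    SubsingletonLiftsAt f t₀ := by
  have hXX : IsLocallyNoetherian (pullback f f) :=
    LocallyOfFiniteType.isLocallyNoetherian (pullback.fst f f ≫ f)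
  have hΔlft : LocallyOfFiniteType (pullback.diagonal f) := by
    have : LocallyOfFiniteType (pullback.diagonal f ≫ pullback.fst f f) := by
      rw [pullback.diagonal_fst]; infer_instance
    exact locallyOfFiniteType_of_comp (pullback.diagonal f) (pullback.fst f f)
  have HΔ : ∀ A : ValuationSubring κ, IsDiscreteValuationRing A →
      ∀ y : Spec (.of A) ⟶ pullback f f,
      Spec.map (CommRingCat.ofHom A.subtype) ≫ y = t₀ ≫ pullback.diagonal f →
      ∃ l : Spec (.of A) ⟶ X, Spec.map (CommRingCat.ofHom A.subtype) ≫ l = t₀ ∧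
        l ≫ pullback.diagonal f = y := by
    intro A hA y hy
    have e1 : Spec.map (CommRingCat.ofHom A.subtype) ≫ (y ≫ pullback.fst f f) = t₀ := by
      rw [← Category.assoc, hy, Category.assoc, pullback.diagonal_fst, Category.comp_id]
    have e2 : Spec.map (CommRingCat.ofHom A.subtype) ≫ (y ≫ pullback.snd f f) = t₀ := by
      rw [← Category.assoc, hy, Category.assoc, pullback.diagonal_snd, Category.comp_id]
    have e12 : y ≫ pullback.fst f f = y ≫ pullback.snd f f :=
      H A hA _ _ e1 e2 (by rw [Category.assoc, Category.assoc, pullback.condition])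
    refine ⟨y ≫ pullback.fst f f, e1, ?_⟩
    apply pullback.hom_ext
    · rw [Category.assoc, pullback.diagonal_fst, Category.comp_id]
    · rw [Category.assoc, pullback.diagonal_snd, Category.comp_id, e12]
  intro V l₁ l₂ h1 h2 h12
  let φ : Spec (.of V) ⟶ pullback f f := pullback.lift l₁ l₂ h12
  have hφ₁ : φ ≫ pullback.fst f f = l₁ := pullback.lift_fst _ _ _
  have hφ₂ : φ ≫ pullback.snd f f = l₂ := pullback.lift_snd _ _ _
  have hφ : Spec.map (CommRingCat.ofHom V.subtype) ≫ φ = t₀ ≫ pullback.diagonal f := by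
    apply pullback.hom_ext
    · rw [Category.assoc, hφ₁, Category.assoc, pullback.diagonal_fst, Category.comp_id, h1]
    · rw [Category.assoc, hφ₂, Category.assoc, pullback.diagonal_snd, Category.comp_id, h2]
  obtain ⟨m, -, hm⟩ := exists_lift_of_forall_dvr (pullback.diagonal f) t₀ hκ HΔ V φ hφ
  have hm1 : m = l₁ := by
    rw [← hφ₁, ← hm, Category.assoc, pullback.diagonal_fst, Category.comp_id]
  have hm2 : m = l₂ := by
    rw [← hφ₂, ← hm, Category.assoc, pullback.diagonal_snd, Category.comp_id]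
  rw [← hm1, ← hm2]

/-- Over a locally Noetherian base and for separated `f`, lifting of valuation subrings of `κ` can
be tested on discrete valuation subrings. -/
theorem liftsAt_of_forall_dvr [IsLocallyNoetherian S] (f : X ⟶ S)
    [LocallyOfFiniteType f] [QuasiCompact f] [IsSeparated f] {κ : Type u} [Field κ]
    (t₀ : Spec (.of κ) ⟶ X) (hκ : (Scheme.stalkClosedPointTo t₀).hom.EssFiniteType)
    (H : ∀ A : ValuationSubring κ, IsDiscreteValuationRing A → ∀ y : Spec (.of A) ⟶ S,
      Spec.map (CommRingCat.ofHom A.subtype) ≫ y = t₀ ≫ f →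
      ∃ l : Spec (.of A) ⟶ X, Spec.map (CommRingCat.ofHom A.subtype) ≫ l = t₀ ∧ l ≫ f = y) :
    LiftsAt f t₀ := by
  intro V φ hφ
  obtain ⟨m, hm₁, hm₂⟩ := exists_lift_of_forall_dvr f t₀ hκ H V φ hφ
  refine ⟨m, ⟨hm₁, hm₂⟩, ?_⟩
  rintro m' ⟨h1, h2⟩
  let sq : ValuativeCommSq f :=
    { R := V, K := κ, i₁ := t₀, i₂ := φ, commSq := ⟨hφ.symm⟩ }
  have hsub : Subsingleton sq.commSq.LiftStruct := IsSeparated.valuativeCriterion f sq
  let L : sq.commSq.LiftStruct := ⟨m, hm₁, hm₂⟩
  let L' : sq.commSq.LiftStruct := ⟨m', h1, h2⟩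
  exact congrArg (·.l) (Subsingleton.elim L' L)

/-- Every point of a scheme is a specialization of the generic point of an irreducible
component. -/
lemma exists_generic_specializes (X : Scheme.{u}) (x : X) :
    ∃ ξ : X, closure {ξ} ∈ irreducibleComponents (X : Type u) ∧ ξ ⤳ x := by
  obtain ⟨η, hη⟩ := QuasiSober.sober (isIrreducible_irreducibleComponent (x := x))
    isClosed_irreducibleComponent
  refine ⟨η, ?_, ?_⟩
  · rw [hη.def]
    exact irreducibleComponent_mem_irreducibleComponents x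
  · rw [specializes_iff_mem_closure, hη.def]
    exact mem_irreducibleComponent

end Groth.Agent.Lib.ValPoint
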