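import Groth.Agent.Lib.ValSpecialize
import Mathlib.AlgebraicGeometry.ValuativeCriterion
import Mathlib.AlgebraicGeometry.Morphisms.FiniteType
import Mathlib.RingTheory.Valuation.ValuationSubring
import Mathlib.Topology.Compactness.Compact
import Mathlib.Topology.Constructions
import Mathlib.Topology.Separation.Hausdorff

/-!
# Valuative criterion + finitely many irreducible components ⟹ quasi-compact (helper45)

Via quasi-compactness of the Zariski–Riemann space (`zariskiRiemann_compact`).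
-/

set_option autoImplicit false
universe u
open CategoryTheory CategoryTheory.Limits AlgebraicGeometry IsLocalRing

namespace Groth.Agent.Lib.ValQC45

open Classical in
/-- Quasi-compactness of the Zariski–Riemann space, in elementary form. -/
theorem zariskiRiemann_compact {K : Type*} [Field K] (S₀ : Set K) {J : Type*} (F : J → Finset K)
    (h : ∀ R : ValuationSubring K, S₀ ⊆ (R : Set K) → ∃ j, (↑(F j) : Set K) ⊆ (R : Set K)) :
    ∃ J₀ : Finset J, ∀ R : ValuationSubring K, S₀ ⊆ (R : Set K) →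
      ∃ j ∈ J₀, (↑(F j) : Set K) ⊆ (R : Set K) := by
  let Ω := K → Bool
  let C : Set Ω := {χ | χ 0 = true ∧ χ 1 = true ∧ (∀ a b, χ a = true → χ b = true → χ (a + b) = true) ∧
    (∀ a b, χ a = true → χ b = true → χ (a * b) = true) ∧ (∀ a, χ a = true → χ (-a) = true) ∧
    (∀ a, χ a = true ∨ χ a⁻¹ = true) ∧ ∀ a ∈ S₀, χ a = true}
  have hev : ∀ a : K, Continuous (fun χ : Ω => χ a) := fun a => continuous_apply a
  have hcl1 : ∀ a : K, IsClosed {χ : Ω | χ a = true} := fun a =>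
    (isClosed_discrete ({true} : Set Bool)).preimage (hev a)
  have hop1 : ∀ a : K, IsOpen {χ : Ω | χ a = true} := fun a =>
    (isOpen_discrete ({true} : Set Bool)).preimage (hev a)
  have hcl3 : ∀ (a b c : K), IsClosed {χ : Ω | χ a = true → χ b = true → χ c = true} := by
    intro a b c
    have : Continuous (fun χ : Ω => (χ a, χ b, χ c)) :=
      (hev a).prodMk ((hev b).prodMk (hev c))
    exact (isClosed_discrete ({p : Bool × Bool × Bool | p.1 = true → p.2.1 = true → p.2.2 = true})).preimage this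
  have hcl2 : ∀ (a c : K), IsClosed {χ : Ω | χ a = true → χ c = true} := by
    intro a c
    have : Continuous (fun χ : Ω => (χ a, χ c)) := (hev a).prodMk (hev c)
    exact (isClosed_discrete ({p : Bool × Bool | p.1 = true → p.2 = true})).preimage this
  have hcl2' : ∀ (a c : K), IsClosed {χ : Ω | χ a = true ∨ χ c = true} := by
    intro a c
    have : Continuous (fun χ : Ω => (χ a, χ c)) := (hev a).prodMk (hev c)
    exact (isClosed_discrete ({p : Bool × Bool | p.1 = true ∨ p.2 = true})).preimage this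
  have hC : IsClosed C := by
    have : C = {χ | χ 0 = true} ∩ {χ | χ 1 = true} ∩
        (⋂ a, ⋂ b, {χ : Ω | χ a = true → χ b = true → χ (a + b) = true}) ∩
        (⋂ a, ⋂ b, {χ : Ω | χ a = true → χ b = true → χ (a * b) = true}) ∩
        (⋂ a, {χ : Ω | χ a = true → χ (-a) = true}) ∩
        (⋂ a, {χ : Ω | χ a = true ∨ χ a⁻¹ = true}) ∩
        (⋂ a ∈ S₀, {χ : Ω | χ a = true}) := by
      ext χ
      simp only [C, Set.mem_ofPred_eq, Set.mem_inter_iff, Set.mem_iInter]
      tauto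
    rw [this]
    refine ((((((hcl1 0).inter (hcl1 1)).inter ?_).inter ?_).inter ?_).inter ?_).inter ?_
    · exact isClosed_iInter fun a => isClosed_iInter fun b => hcl3 a b (a + b)
    · exact isClosed_iInter fun a => isClosed_iInter fun b => hcl3 a b (a * b)
    · exact isClosed_iInter fun a => hcl2 a (-a)
    · exact isClosed_iInter fun a => hcl2' a a⁻¹
    · exact isClosed_iInter fun a => isClosed_iInter fun _ => hcl1 a
  have hCc : IsCompact C := hC.isCompact
  let V : J → Set Ω := fun j => ⋂ a ∈ F j, {χ : Ω | χ a = true}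
  have hV : ∀ j, IsOpen (V j) := fun j => isOpen_biInter_finset fun a _ => hop1 a
  have hcov : C ⊆ ⋃ j, V j := by
    intro χ hχ
    obtain ⟨h0, h1, hadd, hmul, hneg, hinv, hS⟩ := hχ
    let R : ValuationSubring K :=
      { carrier := {a | χ a = true}
        mul_mem' := fun {a b} ha hb => hmul a b ha hb
        one_mem' := h1
        add_mem' := fun {a b} ha hb => hadd a b ha hb
        zero_mem' := h0
        neg_mem' := fun {a} ha => hneg a ha
        mem_or_inv_mem' := hinv }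
    obtain ⟨j, hj⟩ := h R (fun a ha => hS a ha)
    refine Set.mem_iUnion.mpr ⟨j, ?_⟩
    simp only [V, Set.mem_iInter]
    intro a ha
    exact hj ha
  obtain ⟨t, ht⟩ := hCc.elim_finite_subcover V hV hcov
  refine ⟨t, fun R hR => ?_⟩
  let χ : Ω := fun a => decide (a ∈ R)
  have hχ : χ ∈ C := by
    refine ⟨by simp [χ, R.zero_mem], by simp [χ, R.one_mem], ?_, ?_, ?_, ?_, ?_⟩
    · intro a b ha hb
      simp only [χ, decide_eq_true_eq] at ha hb ⊢
      exact R.add_mem _ _ ha hb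
    · intro a b ha hb
      simp only [χ, decide_eq_true_eq] at ha hb ⊢
      exact R.mul_mem _ _ ha hb
    · intro a ha
      simp only [χ, decide_eq_true_eq] at ha ⊢
      exact R.neg_mem _ ha
    · intro a
      simp only [χ, decide_eq_true_eq]
      exact R.mem_or_inv_mem a
    · intro a ha
      simp only [χ, decide_eq_true_eq]
      exact hR ha
  obtain ⟨j, hj, hjV⟩ := Set.mem_iUnion₂.mp (ht hχ)
  refine ⟨j, hj, fun a ha => ?_⟩
  simp only [V, Set.mem_iInter] at hjV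
  have := hjV a ha
  simpa [χ] using this

variable {X Y : Scheme.{u}}

theorem factor_fromSpec {R : CommRingCat.{u}} (g : Spec R ⟶ X) {W : X.Opens}
    (hW : IsAffineOpen W) (e : ⊤ ≤ g ⁻¹ᵁ W) :
    g = Spec.map (g.appLE W ⊤ e ≫ (Scheme.ΓSpecIso R).hom) ≫ hW.fromSpec := by
  have h1 := IsAffineOpen.SpecMap_appLE_fromSpec g hW (isAffineOpen_top _) e
  rw [IsAffineOpen.fromSpec_top, Scheme.isoSpec_Spec_inv] at h1
  rw [Spec.map_comp, Category.assoc, h1, ← Category.assoc, ← Spec.map_comp, Iso.inv_hom_id,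
    Spec.map_id, Category.id_comp]

theorem eq_of_SpecMap_fromSpec_eq {R : CommRingCat.{u}} {W : X.Opens} (hW : IsAffineOpen W)
    {a b : Γ(X, W) ⟶ R} (h : Spec.map a ≫ hW.fromSpec = Spec.map b ≫ hW.fromSpec) : a = b := by
  have : Mono hW.fromSpec := inferInstance
  exact Spec.map_injective ((cancel_mono hW.fromSpec).mp h)

theorem preimage_eq_top_of_closedPoint_mem {R : CommRingCat.{u}} [IsLocalRing R]
    (g : Spec R ⟶ X) (W : X.Opens) (h : g (closedPoint R) ∈ W) : ⊤ ≤ g ⁻¹ᵁ W := by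
  have : g ⁻¹ᵁ W = ⊤ := (IsLocalRing.closedPoint_mem_iff (R := R) (g ⁻¹ᵁ W)).mp h
  rw [this]

section

variable (f : X ⟶ Y) {U : Y.Opens} (hU : IsAffineOpen U) (ξ : X)

/-- Data: a valuation subring `R` of `κ(ξ)` together with a morphism `l : Spec R ⟶ X` extending
the canonical point, such that `f (l closedPoint) ∈ U`. We record the consequences. -/
theorem key_of_lift (R : ValuationSubring (X.residueField ξ))
    (l : Spec (CommRingCat.of R) ⟶ X)
    (hl : Spec.map (CommRingCat.ofHom (algebraMap R (X.residueField ξ))) ≫ l =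
      X.fromSpecResidueField ξ)
    {W : X.Opens} (hW : IsAffineOpen W) (hlW : l (closedPoint R) ∈ W) :
    ∃ (hξW : ⊤ ≤ X.fromSpecResidueField ξ ⁻¹ᵁ W) (θ : Γ(X, W) ⟶ CommRingCat.of R),
      l = Spec.map θ ≫ hW.fromSpec ∧
      (X.fromSpecResidueField ξ).appLE W ⊤ hξW ≫ (Scheme.ΓSpecIso (X.residueField ξ)).hom =
        θ ≫ CommRingCat.ofHom (algebraMap R (X.residueField ξ)) := by
  have e1 := preimage_eq_top_of_closedPoint_mem l W hlW
  have hξW : ⊤ ≤ X.fromSpecResidueField ξ ⁻¹ᵁ W := by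
    rw [← hl]
    intro z _
    exact e1 (show (Spec.map (CommRingCat.ofHom (algebraMap R (X.residueField ξ)))) z ∈ ⊤ from trivial)
  refine ⟨hξW, l.appLE W ⊤ e1 ≫ (Scheme.ΓSpecIso _).hom, factor_fromSpec l hW e1, ?_⟩
  apply eq_of_SpecMap_fromSpec_eq hW
  rw [← factor_fromSpec _ hW hξW, Spec.map_comp, Category.assoc, ← factor_fromSpec l hW e1, hl]


set_option backward.isDefEq.respectTransparency false in
set_option maxHeartbeats 800000 in
theorem exists_compact_cover (f : X ⟶ Y) [LocallyOfFiniteType f] (hf : ValuativeCriterion f)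
    {U : Y.Opens} (hU : IsAffineOpen U) (ξ : X) (hξ : f ξ ∈ U) :
    ∃ Q : Set X, IsCompact Q ∧ Q ⊆ (f ⁻¹ᵁ U : Set X) ∧ {x | ξ ⤳ x ∧ f x ∈ U} ⊆ Q := by
  classical
  let K := X.residueField ξ
  let i₁ := X.fromSpecResidueField ξ
  have hi₁U : ⊤ ≤ (i₁ ≫ f) ⁻¹ᵁ U := by
    intro z _
    change (i₁ ≫ f) z ∈ U
    rw [Scheme.Hom.comp_apply, Scheme.fromSpecResidueField_apply]
    exact hξ
  let ψ : Γ(Y, U) ⟶ K := (i₁ ≫ f).appLE U ⊤ hi₁U ≫ (Scheme.ΓSpecIso K).hom
  have hψ : i₁ ≫ f = Spec.map ψ ≫ hU.fromSpec := factor_fromSpec _ hU hi₁U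
  let J := {W : X.affineOpens // ξ ∈ W.1 ∧ W.1 ≤ f ⁻¹ᵁ U}
  have hJξ : ∀ W : J, ⊤ ≤ i₁ ⁻¹ᵁ W.1.1 := fun W z _ => by
    change i₁ z ∈ W.1.1
    rw [Scheme.fromSpecResidueField_apply]
    exact W.2.1
  let φ : ∀ W : J, Γ(X, W.1.1) ⟶ K := fun W =>
    i₁.appLE W.1.1 ⊤ (hJξ W) ≫ (Scheme.ΓSpecIso K).hom
  have hφ : ∀ W : J, i₁ = Spec.map (φ W) ≫ W.1.2.fromSpec := fun W =>
    factor_fromSpec _ W.1.2 (hJξ W)
  have hαφ : ∀ W : J, f.appLE U W.1.1 W.2.2 ≫ φ W = ψ := by
    intro W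
    apply eq_of_SpecMap_fromSpec_eq hU
    rw [Spec.map_comp, Category.assoc, IsAffineOpen.SpecMap_appLE_fromSpec f hU W.1.2 W.2.2,
      ← Category.assoc, ← hφ W, hψ]
  have hft : ∀ W : J, (f.appLE U W.1.1 W.2.2).hom.FiniteType := fun W =>
    LocallyOfFiniteType.finiteType_appLE f hU W.1.2 W.2.2
  have hgen : ∀ W : J, ∃ s : Finset Γ(X, W.1.1), ∀ (R : Subring K), (∀ a, ψ a ∈ R) →
      (∀ b ∈ s, φ W b ∈ R) → ∀ b, φ W b ∈ R := by
    intro W
    algebraize [(f.appLE U W.1.1 W.2.2).hom]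
    have hft' : Algebra.FiniteType Γ(Y, U) Γ(X, W.1.1) := hft W
    obtain ⟨s, hs⟩ := hft'.out
    refine ⟨s, fun R hR hs' b => ?_⟩
    have hb : b ∈ Algebra.adjoin Γ(Y, U) (s : Set Γ(X, W.1.1)) := by rw [hs]; trivial
    induction hb using Algebra.adjoin_induction with
    | mem x hx => exact hs' x hx
    | algebraMap a =>
      have : φ W (algebraMap _ _ a) = ψ a := by rw [← hαφ W]; rfl
      rw [this]; exact hR a
    | add x y _ _ hx hy => rw [map_add]; exact R.add_mem hx hy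
    | mul x y _ _ hx hy => rw [map_mul]; exact R.mul_mem hx hy
  choose s hs using hgen
  let F : J → Finset K := fun W => (s W).image (φ W)
  -- the hypothesis of Zariski-Riemann compactness
  have hZR : ∀ R : ValuationSubring K, Set.range ψ ⊆ (R : Set K) →
      ∃ W : J, (↑(F W) : Set K) ⊆ (R : Set K) := by
    intro R hR
    let ψR : Γ(Y, U) ⟶ CommRingCat.of R :=
      CommRingCat.ofHom (ψ.hom.codRestrict R.toSubring (fun a => hR ⟨a, rfl⟩))
    have hψR : ψR ≫ CommRingCat.ofHom (algebraMap R K) = ψ := rfl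
    let i₂ : Spec (CommRingCat.of R) ⟶ Y := Spec.map ψR ≫ hU.fromSpec
    have w : i₁ ≫ f = Spec.map (CommRingCat.ofHom (algebraMap R K)) ≫ i₂ := by
      rw [hψ, ← hψR, Spec.map_comp, Category.assoc]
    obtain ⟨l, hl₁, hl₂⟩ : ∃ l : Spec (CommRingCat.of R) ⟶ X,
        Spec.map (CommRingCat.ofHom (algebraMap R K)) ≫ l = i₁ ∧ l ≫ f = i₂ := by
      obtain ⟨l, h1, h2⟩ := ((ValuativeCriterion.existence hf)
        { R := R, K := K, i₁ := i₁, i₂ := i₂, commSq := ⟨w⟩ }).exists_lift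
      exact ⟨l, h1, h2⟩
    have hxU : l (closedPoint R) ∈ f ⁻¹ᵁ U := by
      change f (l (closedPoint R)) ∈ U
      rw [← Scheme.Hom.comp_apply, hl₂, Scheme.Hom.comp_apply]
      have : hU.fromSpec ((Spec.map ψR) (closedPoint R)) ∈ Set.range hU.fromSpec := ⟨_, rfl⟩
      rw [hU.range_fromSpec] at this
      exact this
    obtain ⟨W, hW, hxW, hWU⟩ :=
      TopologicalSpace.Opens.isBasis_iff_nbhd.mp X.isBasis_affineOpens hxU
    replace hW : IsAffineOpen W := hW
    obtain ⟨hξW, θ, hlθ, hθ⟩ := key_of_lift ξ R l hl₁ hW hxW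
    have hξW' : ξ ∈ W := by
      have := hξW (show closedPoint K ∈ (⊤ : (Spec K).Opens) from trivial)
      change i₁ (closedPoint K) ∈ W at this
      rwa [Scheme.fromSpecResidueField_apply] at this
    refine ⟨⟨⟨W, hW⟩, hξW', hWU⟩, ?_⟩
    intro c hc
    obtain ⟨b, _, rfl⟩ := Finset.mem_image.mp hc
    have : (φ ⟨⟨W, hW⟩, hξW', hWU⟩) b = (θ b : K) := by
      change (i₁.appLE W ⊤ _ ≫ (Scheme.ΓSpecIso K).hom) b = _
      rw [hθ]
      rfl
    rw [this]
    exact (θ b).2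
  obtain ⟨J₀, hJ₀⟩ := zariskiRiemann_compact (Set.range ψ) F hZR
  refine ⟨⋃ W ∈ J₀, (W.1.1 : Set X), ?_, ?_, ?_⟩
  · exact J₀.finite_toSet.isCompact_biUnion fun W _ => W.1.2.isCompact
  · exact Set.iUnion₂_subset fun W _ => W.2.2
  · rintro x ⟨hξx, hxU⟩
    obtain ⟨R, l₁, hl₁x, hl₁⟩ :=
      Groth.Agent.Lib.ValSpecialize.exists_valuationSubring_of_specializes hξx
    -- the map to `Y` lands in `U`
    have e1 : ⊤ ≤ (l₁ ≫ f) ⁻¹ᵁ U := by
      apply preimage_eq_top_of_closedPoint_mem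
      rw [Scheme.Hom.comp_apply, hl₁x]
      exact hxU
    let β : Γ(Y, U) ⟶ CommRingCat.of R := (l₁ ≫ f).appLE U ⊤ e1 ≫ (Scheme.ΓSpecIso _).hom
    have hβ : l₁ ≫ f = Spec.map β ≫ hU.fromSpec := factor_fromSpec _ hU e1
    have hβψ : β ≫ CommRingCat.ofHom (algebraMap R K) = ψ := by
      apply eq_of_SpecMap_fromSpec_eq hU
      rw [Spec.map_comp, Category.assoc, ← hβ, ← Category.assoc, hl₁, hψ]
    have hR : Set.range ψ ⊆ (R : Set K) := by
      rintro _ ⟨a, rfl⟩
      have : ψ a = (β a : K) := by rw [← hβψ]; rfl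
      rw [this]
      exact (β a).2
    obtain ⟨W, hWJ₀, hFW⟩ := hJ₀ R hR
    have hall : ∀ b, φ W b ∈ R.toSubring := by
      apply hs W R.toSubring
      · intro a; exact hR ⟨a, rfl⟩
      · intro b hb; exact hFW (Finset.mem_coe.mpr (Finset.mem_image_of_mem _ hb))
    let θ₂ : Γ(X, W.1.1) ⟶ CommRingCat.of R :=
      CommRingCat.ofHom ((φ W).hom.codRestrict R.toSubring hall)
    have hθ₂ : θ₂ ≫ CommRingCat.ofHom (algebraMap R K) = φ W := rfl
    let l₂ : Spec (CommRingCat.of R) ⟶ X := Spec.map θ₂ ≫ W.1.2.fromSpec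
    have hl₂ : Spec.map (CommRingCat.ofHom (algebraMap R K)) ≫ l₂ = i₁ := by
      rw [hφ W, ← hθ₂, Spec.map_comp, Category.assoc]
    have hβθ : β = f.appLE U W.1.1 W.2.2 ≫ θ₂ := by
      have h3 : β ≫ CommRingCat.ofHom (algebraMap R K) =
          (f.appLE U W.1.1 W.2.2 ≫ θ₂) ≫ CommRingCat.ofHom (algebraMap R K) := by
        rw [hβψ, Category.assoc, hθ₂, hαφ W]
      ext a
      exact congrArg (fun t : Γ(Y, U) ⟶ K => t a) h3
    have hl₂f : l₂ ≫ f = l₁ ≫ f := by
      rw [hβ, hβθ, Spec.map_comp]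
      simp only [l₂, Category.assoc]
      rw [IsAffineOpen.SpecMap_appLE_fromSpec f hU W.1.2 W.2.2]
    have w : i₁ ≫ f = Spec.map (CommRingCat.ofHom (algebraMap R K)) ≫ (l₁ ≫ f) := by
      rw [← Category.assoc, hl₁]
    have huniq := (ValuativeCriterion.uniqueness hf)
      { R := R, K := K, i₁ := i₁, i₂ := l₁ ≫ f, commSq := ⟨w⟩ }
    have heq : l₁ = l₂ := by
      have := @Subsingleton.elim _ huniq ⟨l₁, hl₁, rfl⟩ ⟨l₂, hl₂, hl₂f⟩
      exact congrArg CommSq.LiftStruct.l this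
    refine Set.mem_iUnion₂.mpr ⟨W, hWJ₀, ?_⟩
    rw [← hl₁x, heq]
    have : l₂ (closedPoint R) ∈ Set.range W.1.2.fromSpec := ⟨_, rfl⟩
    rw [W.1.2.range_fromSpec] at this
    exact this

theorem quasiCompact_of_valuativeCriterion (f : X ⟶ Y) [LocallyOfFiniteType f]
    (hf : ValuativeCriterion f) (hX : (irreducibleComponents ↥X).Finite) : QuasiCompact f := by
  rw [quasiCompact_iff_forall_isAffineOpen]
  intro U hU
  have key : ∀ Z : Set X, ∃ Q : Set X, IsCompact Q ∧ Q ⊆ (f ⁻¹ᵁ U : Set X) ∧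
      (Z ∈ irreducibleComponents ↥X → Z ∩ (f ⁻¹ᵁ U : Set X) ⊆ Q) := by
    intro Z
    by_cases hZ : Z ∈ irreducibleComponents ↥X
    · have hZirr : IsIrreducible Z := hZ.1
      have hZcl : IsClosed Z := isClosed_of_mem_irreducibleComponents Z hZ
      obtain ⟨ξ, hξ⟩ := QuasiSober.sober hZirr hZcl
      by_cases h : f ξ ∈ U
      · obtain ⟨Q, hQ1, hQ2, hQ3⟩ := exists_compact_cover f hf hU ξ h
        exact ⟨Q, hQ1, hQ2, fun _ x hx => hQ3 ⟨hξ.specializes hx.1, hx.2⟩⟩
      · refine ⟨∅, isCompact_empty, Set.empty_subset _, fun _ => ?_⟩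
        rintro x ⟨hxZ, hxU⟩
        exact (h ((hξ.specializes hxZ).mem_open (f ⁻¹ᵁ U).isOpen hxU)).elim
    · exact ⟨∅, isCompact_empty, Set.empty_subset _, fun h => (hZ h).elim⟩
  choose Q hQ1 hQ2 hQ3 using key
  have heq : (f ⁻¹ᵁ U : Set X) = ⋃ Z ∈ irreducibleComponents ↥X, Q Z := by
    apply Set.Subset.antisymm
    · intro x hx
      have hZ := irreducibleComponent_mem_irreducibleComponents x
      exact Set.mem_iUnion₂.mpr ⟨irreducibleComponent x, hZ,
        hQ3 _ hZ ⟨mem_irreducibleComponent, hx⟩⟩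
    · exact Set.iUnion₂_subset fun Z _ => hQ2 Z
  rw [heq]
  exact hX.isCompact_biUnion fun Z _ => hQ1 Z

end

end Groth.Agent.Lib.ValQC45
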