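import Groth.Agent.Lib.ValFP76B
import Groth.Agent.Lib.ValFP76E

/-!
# Reducedness of flat finite type algebras over a valuation ring along the closed fibre (helper76)

`R` a valuation ring, `B` a torsion-free `R`-algebra of finite type, `𝔫` a prime of `B` containing
`𝔪_R B` such that `B_𝔫 / 𝔪_R B_𝔫` is reduced. Then for every prime `p` of `R`, `B_𝔫 / p B_𝔫` is
reduced (elementwise formulations).
-/

set_option autoImplicit false
set_option linter.style.haveILetI false

namespace Groth.Agent.Lib.ValRed76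

open IsLocalRing

universe u

/-- The quotient of a valuation ring by a prime ideal is a valuation ring. -/
instance valuationRing_quotient {R : Type*} [CommRing R] [IsDomain R] [ValuationRing R]
    (p : Ideal R) [p.IsPrime] : ValuationRing (R ⧸ p) := by
  rw [ValuationRing.iff_dvd_total]
  refine ⟨fun a b => ?_⟩
  obtain ⟨a, rfl⟩ := Ideal.Quotient.mk_surjective a
  obtain ⟨b, rfl⟩ := Ideal.Quotient.mk_surjective b
  rcases ValuationRing.dvd_total a b with h | h
  · exact Or.inl (map_dvd _ h)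
  · exact Or.inr (map_dvd _ h)

section Zero

variable {R : Type u} [CommRing R] [IsDomain R] [ValuationRing R]
  {B : Type u} [CommRing B] [Algebra R B] [Algebra.FiniteType R B] [Module.IsTorsionFree R B]

omit [ValuationRing R] [Algebra.FiniteType R B] in
/-- `B / nil(B)` is torsion-free. -/
lemma isTorsionFree_quotient_nilradical : Module.IsTorsionFree R (B ⧸ nilradical B) := by
  refine ⟨fun r hr => ?_⟩
  have hr0 : r ≠ 0 := hr.ne_zero
  suffices h : ∀ x : B ⧸ nilradical B, r • x = 0 → x = 0 by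
    intro x y hxy
    have hxy' : r • x = r • y := hxy
    exact sub_eq_zero.mp (h (x - y) (by rw [smul_sub, hxy', sub_self]))
  intro x hx
  obtain ⟨x, rfl⟩ := Ideal.Quotient.mk_surjective x
  have h1 : (Ideal.Quotient.mk (nilradical B)) (r • x) = 0 := hx
  rw [Ideal.Quotient.eq_zero_iff_mem] at h1 ⊢
  obtain ⟨N, hN⟩ := h1
  refine ⟨N, ?_⟩
  rw [smul_pow] at hN
  exact (smul_eq_zero.mp hN).resolve_left (pow_ne_zero N hr0)

/-- The nilradical of a torsion-free finite type algebra over a valuation ring is finitely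
generated. -/
lemma nilradical_fg (R : Type u) [CommRing R] [IsDomain R] [ValuationRing R]
    {B : Type u} [CommRing B] [Algebra R B] [Algebra.FiniteType R B] [Module.IsTorsionFree R B] :
    (nilradical B).FG := by
  haveI : Module.IsTorsionFree R (B ⧸ nilradical B) := isTorsionFree_quotient_nilradical
  haveI : Module.FinitePresentation B (B ⧸ nilradical B) :=
    Groth.Agent.Lib.ValFP76.finitePresentation_of_finiteType R B (B ⧸ nilradical B)
  have := Module.FinitePresentation.fg_ker (Submodule.mkQ (nilradical B))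
    (Submodule.mkQ_surjective _)
  rwa [Submodule.ker_mkQ] at this

omit [Algebra.FiniteType R B] in
/-- `nil(B) ∩ I B ⊆ I • nil(B)` for every ideal `I` of the valuation ring. -/
lemma mem_smul_nilradical (I : Ideal R) {x : B} (hx : x ∈ nilradical B)
    (hxI : x ∈ I.map (algebraMap R B)) :
    x ∈ I.map (algebraMap R B) * nilradical B := by
  have h1 : x ∈ (I • ⊤ : Submodule R B) := by
    rw [Ideal.smul_top_eq_map]
    exact hxI
  obtain ⟨a, ha, b, -, rfl⟩ := Groth.Agent.Lib.ValFP76.exists_smul_eq_of_mem_smul _ _ h1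
  by_cases ha0 : a = 0
  · rw [ha0, zero_smul]
    exact Ideal.zero_mem _
  · have hb : b ∈ nilradical B := by
      obtain ⟨N, hN⟩ := hx
      refine ⟨N, ?_⟩
      rw [smul_pow] at hN
      exact (smul_eq_zero.mp hN).resolve_left (pow_ne_zero N ha0)
    rw [Algebra.smul_def]
    exact Ideal.mul_mem_mul (Ideal.mem_map_of_mem _ ha) hb

set_option maxHeartbeats 400000 in
/-- **Reducedness along the closed fibre, `p = 0`.** If `B_𝔫 / I₀ B_𝔫` is reduced (`I₀ B ⊆ 𝔫`) then the
nilradical of `B` dies in `B_𝔫`, uniformly. -/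
theorem exists_notMem_mul_eq_zero (I₀ : Ideal R) (𝔫 : Ideal B) [𝔫.IsPrime]
    (h𝔫 : I₀.map (algebraMap R B) ≤ 𝔫)
    (hred : ∀ b : B, b * b ∈ I₀.map (algebraMap R B) →
      ∃ s, s ∉ 𝔫 ∧ s * b ∈ I₀.map (algebraMap R B)) :
    ∃ d, d ∉ 𝔫 ∧ ∀ b ∈ nilradical B, d * b = 0 := by
  classical
  set I : Ideal B := I₀.map (algebraMap R B) with hI
  set I' : Ideal (Localization.AtPrime 𝔫) := I.map (algebraMap B (Localization.AtPrime 𝔫)) with hI'
  set N : Ideal (Localization.AtPrime 𝔫) :=
    (nilradical B).map (algebraMap B (Localization.AtPrime 𝔫)) with hN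
  -- `I'` is radical
  have hrad : I'.IsRadical := by
    rw [Ideal.isRadical_iff_pow_one_lt 2 (by norm_num)]
    intro r hr
    obtain ⟨b, t, rfl⟩ := IsLocalization.exists_mk'_eq 𝔫.primeCompl r
    rw [← IsLocalization.mk'_pow, IsLocalization.mk'_mem_map_algebraMap_iff] at hr
    obtain ⟨s, hs, hsb⟩ := hr
    rw [IsLocalization.mk'_mem_map_algebraMap_iff]
    have h1 : (s * b) * (s * b) ∈ I := by
      have : (s * b) * (s * b) = s * (s * b ^ 2) := by ring
      rw [this]
      exact I.mul_mem_left _ hsb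
    obtain ⟨s', hs', h2⟩ := hred _ h1
    refine ⟨s' * s, 𝔫.primeCompl.mul_mem hs' hs, ?_⟩
    rw [mul_assoc]
    exact h2
  have hjac : I' ≤ Ideal.jacobson (⊥ : Ideal (Localization.AtPrime 𝔫)) := by
    rw [IsLocalRing.jacobson_eq_maximalIdeal _ bot_ne_top,
      ← Localization.AtPrime.map_eq_maximalIdeal]
    exact Ideal.map_mono h𝔫
  have hNfg : N.FG := (nilradical_fg R).map _
  have hle : N ≤ I' • N := by
    rw [hN, Ideal.map_le_iff_le_comap]
    intro x hx
    rw [Ideal.mem_comap]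
    have h1 : algebraMap B (Localization.AtPrime 𝔫) x ∈ I' := by
      apply hrad
      obtain ⟨k, hk⟩ := hx
      refine ⟨k, ?_⟩
      rw [← map_pow, hk, map_zero]
      exact Ideal.zero_mem _
    obtain ⟨s, hs, hsx⟩ := (IsLocalization.algebraMap_mem_map_algebraMap_iff 𝔫.primeCompl
      (Localization.AtPrime 𝔫) I x).mp h1
    have h2 : s * x ∈ I * nilradical B :=
      mem_smul_nilradical I₀ ((nilradical B).mul_mem_left s hx) hsx
    have h3 : algebraMap B (Localization.AtPrime 𝔫) (s * x) ∈ I' * N := by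
      rw [hI', hN, ← Ideal.map_mul]
      exact Ideal.mem_map_of_mem _ h2
    rw [map_mul] at h3
    have hu : IsUnit (algebraMap B (Localization.AtPrime 𝔫) s) :=
      IsLocalization.map_units (Localization.AtPrime 𝔫) (⟨s, hs⟩ : 𝔫.primeCompl)
    rw [smul_eq_mul]
    exact (Ideal.unit_mul_mem_iff_mem _ hu).mp h3
  have hbot : N = ⊥ := Submodule.eq_bot_of_le_smul_of_le_jacobson_bot I' N hNfg hle hjac
  -- descend
  obtain ⟨t, ht⟩ := nilradical_fg R (B := B)
  have hd : ∀ x ∈ t, ∃ d, d ∉ 𝔫 ∧ d * x = 0 := by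
    intro x hx
    have hx' : x ∈ nilradical B := by
      rw [← ht]
      exact Submodule.subset_span hx
    have h1 : algebraMap B (Localization.AtPrime 𝔫) x ∈ N := Ideal.mem_map_of_mem _ hx'
    rw [hbot, Ideal.mem_bot, IsLocalization.map_eq_zero_iff 𝔫.primeCompl] at h1
    obtain ⟨m, hm⟩ := h1
    exact ⟨m, m.2, hm⟩
  choose! d hd1 hd2 using hd
  refine ⟨∏ x ∈ t, d x, ?_, ?_⟩
  · intro h
    obtain ⟨x, hx, hdx⟩ := (Ideal.IsPrime.prod_mem_iff.mp h)
    exact hd1 x hx hdx
  · intro b hb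
    rw [← ht] at hb
    induction hb using Submodule.span_induction with
    | mem x hx =>
      rw [← Finset.mul_prod_erase t d hx, mul_comm (d x), mul_assoc, hd2 x hx, mul_zero]
    | zero => rw [mul_zero]
    | add x y _ _ hx hy => rw [mul_add, hx, hy, add_zero]
    | smul a x _ hx => rw [smul_eq_mul, mul_left_comm, hx, mul_zero]

end Zero

section General

variable {R : Type u} [CommRing R] [IsDomain R] [ValuationRing R]
  {B : Type u} [CommRing B] [Algebra R B] [Algebra.FiniteType R B] [Module.IsTorsionFree R B]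

omit [Algebra.FiniteType R B] in
/-- `B / pB` is torsion-free over `R / p`. -/
lemma isTorsionFree_quotient (p : Ideal R) [p.IsPrime] :
    Module.IsTorsionFree (R ⧸ p) (B ⧸ p.map (algebraMap R B)) := by
  refine ⟨fun r hr => ?_⟩
  have hr0 : r ≠ 0 := hr.ne_zero
  suffices h : ∀ x : B ⧸ p.map (algebraMap R B), r • x = 0 → x = 0 by
    intro x y hxy
    have hxy' : r • x = r • y := hxy
    exact sub_eq_zero.mp (h (x - y) (by rw [smul_sub, hxy', sub_self]))
  intro x hx
  obtain ⟨x, rfl⟩ := Ideal.Quotient.mk_surjective x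
  obtain ⟨a, rfl⟩ := Ideal.Quotient.mk_surjective r
  have hap : a ∉ p := fun h => hr0 (Ideal.Quotient.eq_zero_iff_mem.mpr h)
  rw [Algebra.smul_def, Ideal.Quotient.algebraMap_quotient_map_quotient, ← map_mul,
    Ideal.Quotient.eq_zero_iff_mem] at hx
  rw [Ideal.Quotient.eq_zero_iff_mem]
  have h1 : algebraMap R B a * x ∈ (p • ⊤ : Submodule R B) := by
    rw [Ideal.smul_top_eq_map]
    exact hx
  obtain ⟨a', ha', b', -, hb'⟩ := Groth.Agent.Lib.ValFP76.exists_smul_eq_of_mem_smul _ _ h1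
  rcases ValuationRing.dvd_total a a' with ⟨c, rfl⟩ | ⟨c, rfl⟩
  · have hc : c ∈ p := (Ideal.IsPrime.mem_or_mem inferInstance ha').resolve_left hap
    have ha0 : a ≠ 0 := fun h => hap (h ▸ p.zero_mem)
    have h2 : a • (x - c • b') = 0 := by
      rw [smul_sub, smul_smul, ← hb', Algebra.smul_def, sub_self]
    have h3 : x = c • b' := sub_eq_zero.mp ((smul_eq_zero.mp h2).resolve_left ha0)
    rw [h3, Algebra.smul_def]
    exact Ideal.mul_mem_right _ _ (Ideal.mem_map_of_mem _ hc)
  · exact absurd (p.mul_mem_right c ha') hap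

set_option maxHeartbeats 400000 in
/-- **Reducedness along the closed fibre.** If `B_𝔫 / 𝔪_R B_𝔫` is reduced (`𝔪_R B ⊆ 𝔫`), then for
every prime `p` of `R` the ring `B_𝔫 / p B_𝔫` is reduced, uniformly: there is `d ∉ 𝔫` with
`d b ∈ pB` for every `b` nilpotent modulo `pB`. -/
theorem exists_notMem_mul_mem (p : Ideal R) [p.IsPrime] (𝔫 : Ideal B) [𝔫.IsPrime]
    (h𝔫 : (maximalIdeal R).map (algebraMap R B) ≤ 𝔫)
    (hred : ∀ b : B, b * b ∈ (maximalIdeal R).map (algebraMap R B) →
      ∃ s, s ∉ 𝔫 ∧ s * b ∈ (maximalIdeal R).map (algebraMap R B)) :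
    ∃ d, d ∉ 𝔫 ∧ ∀ b : B, (∃ k : ℕ, b ^ k ∈ p.map (algebraMap R B)) →
      d * b ∈ p.map (algebraMap R B) := by
  classical
  set P : Ideal B := p.map (algebraMap R B) with hP
  have hpm : p ≤ maximalIdeal R := le_maximalIdeal (Ideal.IsPrime.ne_top inferInstance)
  have hPI : P ≤ (maximalIdeal R).map (algebraMap R B) := Ideal.map_mono hpm
  have hP𝔫 : P ≤ 𝔫 := hPI.trans h𝔫
  haveI : Module.IsTorsionFree (R ⧸ p) (B ⧸ P) := isTorsionFree_quotient p
  haveI : Algebra.FiniteType (R ⧸ p) (B ⧸ P) :=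
    Algebra.FiniteType.of_restrictScalars_finiteType R (R ⧸ p) (B ⧸ P)
  have hsurj : Function.Surjective (Ideal.Quotient.mk P) := Ideal.Quotient.mk_surjective
  have hker : RingHom.ker (Ideal.Quotient.mk P) = P := Ideal.mk_ker
  haveI : (𝔫.map (Ideal.Quotient.mk P)).IsPrime :=
    Ideal.map_isPrime_of_surjective hsurj (by rw [hker]; exact hP𝔫)
  -- the ideal of the closed fibre downstairs
  have hmap : ((maximalIdeal R).map (Ideal.Quotient.mk p)).map (algebraMap (R ⧸ p) (B ⧸ P)) =
      ((maximalIdeal R).map (algebraMap R B)).map (Ideal.Quotient.mk P) := by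
    rw [Ideal.map_map, Ideal.map_map]
    congr 1
  have hcomap : ∀ J : Ideal B, P ≤ J → ∀ x : B, Ideal.Quotient.mk P x ∈ J.map (Ideal.Quotient.mk P)
      → x ∈ J := by
    intro J hJ x hx
    have : x ∈ (J.map (Ideal.Quotient.mk P)).comap (Ideal.Quotient.mk P) := hx
    rw [Ideal.comap_map_of_surjective _ hsurj, ← RingHom.ker_eq_comap_bot, hker,
      sup_eq_left.mpr hJ] at this
    exact this
  obtain ⟨d', hd', hd⟩ := exists_notMem_mul_eq_zero (R := R ⧸ p) (B := B ⧸ P)
    ((maximalIdeal R).map (Ideal.Quotient.mk p)) (𝔫.map (Ideal.Quotient.mk P))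
    (by rw [hmap]; exact Ideal.map_mono h𝔫)
    (by
      intro b hb
      obtain ⟨b, rfl⟩ := hsurj b
      rw [hmap, ← map_mul] at hb
      obtain ⟨s, hs, hsb⟩ := hred b (hcomap _ hPI _ hb)
      refine ⟨Ideal.Quotient.mk P s, fun h => hs (hcomap _ hP𝔫 _ h), ?_⟩
      rw [hmap, ← map_mul]
      exact Ideal.mem_map_of_mem _ hsb)
  obtain ⟨d, rfl⟩ := hsurj d'
  refine ⟨d, fun h => hd' (Ideal.mem_map_of_mem _ h), ?_⟩
  rintro b ⟨k, hk⟩
  have h1 : Ideal.Quotient.mk P b ∈ nilradical (B ⧸ P) := by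
    refine ⟨k, ?_⟩
    rw [← map_pow]
    exact Ideal.Quotient.eq_zero_iff_mem.mpr hk
  have h2 := hd _ h1
  rw [← map_mul] at h2
  exact Ideal.Quotient.eq_zero_iff_mem.mp h2

end General

end Groth.Agent.Lib.ValRed76
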