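import Mathlib

/-!
# Valuation ring test maps

For a prime `𝔭` of a ring `A` and a nonzerodivisor `f`, we construct a valuation ring `V` with a
map `ψ : A → V` such that `ψ⁻¹(units) = A \ 𝔭`, `ψ f ≠ 0`, and every nonzero prime of `V` contains
`ψ f`.
-/

set_option autoImplicit false
universe u

namespace Groth.Agent.Lib.ValTest

theorem exists_valuationRing_test (A : Type u) [CommRing A] (𝔭 : Ideal A) [𝔭.IsPrime] (f : A)
    (hf : f ∈ nonZeroDivisors A) :
    ∃ (K : Type u) (_ : Field K) (V : ValuationSubring K) (ψ : A →+* V),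
      (∀ a, a ∈ 𝔭 ↔ ¬ IsUnit (ψ a)) ∧ ψ f ≠ 0 ∧
        ∀ (P : Ideal V), P.IsPrime → P ≠ ⊥ → ψ f ∈ P := by
  let Ap := Localization.AtPrime 𝔭
  let f' : Ap := algebraMap A Ap f
  have hf' : f' ∈ nonZeroDivisors Ap :=
    IsLocalization.map_nonZeroDivisors_le 𝔭.primeCompl Ap (Submonoid.mem_map_of_mem _ hf)
  let C := Localization.Away f'
  have hC : Nontrivial C := by
    by_contra hC
    rw [not_nontrivial_iff_subsingleton] at hC
    have h0 : (0 : Ap) ∈ Submonoid.powers f' :=
      (IsLocalization.subsingleton_iff (M := Submonoid.powers f') (S := C)).mp hC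
    obtain ⟨n, hn⟩ := h0
    have : f' ^ n ∈ nonZeroDivisors Ap := pow_mem hf' n
    change f' ^ n = 0 at hn
    rw [hn] at this
    exact zero_notMem_nonZeroDivisors this
  obtain ⟨M, hM⟩ := Ideal.exists_maximal C
  let _ : Field (C ⧸ M) := Ideal.Quotient.field M
  let g : Ap →+* (C ⧸ M) := (Ideal.Quotient.mk M).comp (algebraMap Ap C)
  obtain ⟨V, hV, hloc⟩ := IsLocalRing.exists_factor_valuationRing g
  let φ : Ap →+* V := g.codRestrict V.toSubring hV
  refine ⟨C ⧸ M, inferInstance, V, φ.comp (algebraMap A Ap), ?_, ?_, ?_⟩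
  · intro a
    constructor
    · intro ha hu
      have h1 : algebraMap A Ap a ∈ IsLocalRing.maximalIdeal Ap :=
        (IsLocalization.AtPrime.to_map_mem_maximal_iff Ap 𝔭 a).mpr ha
      have h2 : IsUnit (algebraMap A Ap a) := hloc.map_nonunit _ hu
      exact h1 h2
    · intro hu
      by_contra ha
      apply hu
      have : IsUnit (algebraMap A Ap a) :=
        IsLocalization.map_units Ap (⟨a, ha⟩ : 𝔭.primeCompl)
      exact this.map φ
  · intro h0
    have h1 : (g f' : C ⧸ M) = 0 := by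
      have := congrArg (fun v : V => (v : C ⧸ M)) h0
      exact this
    have hu : IsUnit (algebraMap Ap C f') := IsLocalization.Away.algebraMap_isUnit f'
    have hu' : IsUnit (g f') := hu.map (Ideal.Quotient.mk M)
    rw [h1] at hu'
    exact not_isUnit_zero hu'
  · intro P hP hP0
    obtain ⟨v, hvP, hv0⟩ := Submodule.exists_mem_ne_zero_of_ne_bot hP0
    have hvK : (v : C ⧸ M) ≠ 0 := fun h => hv0 (Subtype.ext h)
    obtain ⟨c, hc⟩ := Ideal.Quotient.mk_surjective (I := M) ((v : C ⧸ M)⁻¹)
    obtain ⟨⟨b, s⟩, hbs⟩ := IsLocalization.surj (Submonoid.powers f') c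
    obtain ⟨n, hn⟩ := s.2
    simp only at hbs
    have h1 : (v : C ⧸ M)⁻¹ * (g f') ^ n = g b := by
      have hn' : f' ^ n = s := hn
      rw [← hc, ← map_pow, hn']
      change Ideal.Quotient.mk M c * Ideal.Quotient.mk M (algebraMap Ap C s) = _
      rw [← map_mul, hbs]
      rfl
    have h2 : (g f') ^ n = (v : C ⧸ M) * g b := by
      rw [← h1, ← mul_assoc, mul_inv_cancel₀ hvK, one_mul]
    have h3 : (φ f') ^ n = v * φ b := by
      apply Subtype.ext
      have e1 : ∀ t : Ap, ((φ t : V) : C ⧸ M) = g t := fun t => rfl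
      push_cast
      rw [e1, e1]
      exact h2
    have h4 : (φ f') ^ n ∈ P := by
      rw [h3]; exact Ideal.mul_mem_right _ _ hvP
    exact hP.mem_of_pow_mem n h4

end Groth.Agent.Lib.ValTest
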