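import Groth.Prelude.Def_W4c6modpairsegaMP
import Groth.Agent.Lib.IdealComap
import Groth.Agent.Lib.ClosedImmStalk

/-!
# Test morphisms `Spec R ⟶ X` through an affine open

For an affine open `U` of `X` and a ring map `ψ : Γ(X, U) → R`, the morphism
`testHom U ψ = Spec.map ψ ≫ U.fromSpec : Spec R ⟶ X`, and the pullback of ideal sheaves along it.
-/

set_option autoImplicit false
universe u
open CategoryTheory AlgebraicGeometry TopologicalSpace

namespace Groth.Agent.Lib.ValTestGeom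

variable {X : Scheme.{u}} (U : X.affineOpens) {R : Type u} [CommRing R] (ψ : Γ(X, U.1) →+* R)

/-- The test morphism. -/
noncomputable def testHom : Spec (CommRingCat.of R) ⟶ X :=
  Spec.map (CommRingCat.ofHom ψ) ≫ U.2.fromSpec

theorem top_le_preimage : (⊤ : (Spec (CommRingCat.of R)).Opens) ≤ testHom U ψ ⁻¹ᵁ U.1 := by
  intro z _
  change (testHom U ψ) z ∈ U.1
  rw [testHom, Scheme.Hom.comp_apply]
  have := U.2.range_fromSpec
  have h2 : U.2.fromSpec ((Spec.map (CommRingCat.ofHom ψ)) z) ∈ Set.range U.2.fromSpec :=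
    ⟨_, rfl⟩
  rw [this] at h2
  exact h2

theorem testHom_appLE :
    (testHom U ψ).appLE U.1 ⊤ (top_le_preimage U ψ) =
      CommRingCat.ofHom ψ ≫ (Scheme.ΓSpecIso (CommRingCat.of R)).inv := by
  have h := IsAffineOpen.SpecMap_appLE_fromSpec (testHom U ψ) U.2
    (isAffineOpen_top (Spec (CommRingCat.of R))) (top_le_preimage U ψ)
  rw [IsAffineOpen.fromSpec_top, Scheme.isoSpec_Spec_inv] at h
  have h2 : Spec.map ((testHom U ψ).appLE U.1 ⊤ (top_le_preimage U ψ)) =
      Spec.map (Scheme.ΓSpecIso (CommRingCat.of R)).inv ≫ Spec.map (CommRingCat.ofHom ψ) := by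
    rw [← cancel_mono U.2.fromSpec, h, Category.assoc]
    rfl
  rw [← Spec.map_comp] at h2
  exact Spec.map_injective h2

theorem ideal_comap_testHom (𝓘 : X.IdealSheafData) :
    (𝓘.comap (testHom U ψ)).ideal ⟨⊤, isAffineOpen_top _⟩ =
      ((𝓘.ideal U).map ψ).map (Scheme.ΓSpecIso (CommRingCat.of R)).inv.hom := by
  have h := Groth.Agent.Lib.IdealComap.ideal_comap 𝓘 (testHom U ψ) U.1 U.2 ⊤ (isAffineOpen_top _)
    (top_le_preimage U ψ)
  rw [h, testHom_appLE, Ideal.map_map]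
  rfl

theorem map_eq_of_comap_eq (𝓘 𝓙 : X.IdealSheafData)
    (h : 𝓘.comap (testHom U ψ) = 𝓙.comap (testHom U ψ)) :
    (𝓘.ideal U).map ψ = (𝓙.ideal U).map ψ := by
  have h1 := ideal_comap_testHom U ψ 𝓘
  have h2 := ideal_comap_testHom U ψ 𝓙
  rw [h, h2] at h1
  have hb : Function.Bijective (Scheme.ΓSpecIso (CommRingCat.of R)).inv.hom :=
    ConcreteCategory.bijective_of_isIso (Scheme.ΓSpecIso (CommRingCat.of R)).inv
  have := congrArg (Ideal.comap (Scheme.ΓSpecIso (CommRingCat.of R)).inv.hom) h1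
  rw [Ideal.comap_map_of_bijective _ hb, Ideal.comap_map_of_bijective _ hb] at this
  exact this.symm

theorem map_eq_top_of_comap_eq_top (𝓘 : X.IdealSheafData)
    (h : 𝓘.comap (testHom U ψ) = ⊤) : (𝓘.ideal U).map ψ = ⊤ := by
  have h1 := ideal_comap_testHom U ψ 𝓘
  rw [h] at h1
  have hb : Function.Bijective (Scheme.ΓSpecIso (CommRingCat.of R)).inv.hom :=
    ConcreteCategory.bijective_of_isIso (Scheme.ΓSpecIso (CommRingCat.of R)).inv
  have := congrArg (Ideal.comap (Scheme.ΓSpecIso (CommRingCat.of R)).inv.hom) h1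
  rw [Ideal.comap_map_of_bijective _ hb] at this
  rw [← this]
  simp

theorem isEffCartier_comap_testHom [IsDomain R] (𝓘 : X.IdealSheafData) (f : Γ(X, U.1))
    (hIf : 𝓘.ideal U = Ideal.span {f}) (hψf : ψ f ≠ 0) :
    BlowUp.IsEffCartierIdeal (𝓘.comap (testHom U ψ)) := by
  intro z
  refine ⟨⟨⊤, isAffineOpen_top _⟩, trivial,
    (Scheme.ΓSpecIso (CommRingCat.of R)).inv.hom (ψ f), ?_, ?_⟩
  · have hb : Function.Bijective (Scheme.ΓSpecIso (CommRingCat.of R)).inv.hom :=
      ConcreteCategory.bijective_of_isIso (Scheme.ΓSpecIso (CommRingCat.of R)).inv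
    let e : R ≃+* Γ(Spec (CommRingCat.of R), ⊤) :=
      RingEquiv.ofBijective (Scheme.ΓSpecIso (CommRingCat.of R)).inv.hom hb
    have h1 : ψ f ∈ nonZeroDivisors R := mem_nonZeroDivisors_of_ne_zero hψf
    have := map_mem_nonZeroDivisors (e : R →+* Γ(Spec (CommRingCat.of R), ⊤)) e.injective h1
    exact this
  · rw [ideal_comap_testHom, hIf, Ideal.map_span, Set.image_singleton, Ideal.map_span,
      Set.image_singleton]

theorem testHom_mem_basicOpen_iff (f : Γ(X, U.1)) (z : Spec (CommRingCat.of R)) :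
    (testHom U ψ) z ∈ X.basicOpen f ↔ ψ f ∉ z.asIdeal := by
  rw [testHom, Scheme.Hom.comp_apply]
  change (Spec.map (CommRingCat.ofHom ψ)) z ∈ U.2.fromSpec ⁻¹ᵁ X.basicOpen f ↔ _
  rw [U.2.fromSpec_preimage_basicOpen]
  rfl

theorem mem_interior_comap_testHom_iff (𝓘 : X.IdealSheafData) (f : Γ(X, U.1))
    (hIf : 𝓘.ideal U = Ideal.span {f}) (z : Spec (CommRingCat.of R)) :
    z ∈ (ModPair.interior (𝓘.comap (testHom U ψ)) : Set (Spec (CommRingCat.of R))) ↔
      ψ f ∉ z.asIdeal := by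
  rw [← testHom_mem_basicOpen_iff]
  have hzU : (testHom U ψ) z ∈ U.1 := top_le_preimage U ψ (Set.mem_univ z)
  change z ∉ ((𝓘.comap (testHom U ψ)).support : Set _) ↔ _
  rw [Scheme.IdealSheafData.support_comap]
  change ¬ ((testHom U ψ) z ∈ 𝓘.support) ↔ _
  rw [Scheme.IdealSheafData.mem_support_iff_of_mem hzU, hIf, Scheme.mem_zeroLocus_iff]
  constructor
  · intro h
    by_contra h'
    apply h
    intro g hg
    obtain ⟨c, rfl⟩ := Ideal.mem_span_singleton'.mp hg
    rw [Scheme.basicOpen_mul]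
    exact fun hh => h' hh.2
  · intro h h'
    exact h' f (Ideal.mem_span_singleton_self f) h

end Groth.Agent.Lib.ValTestGeom
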