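import Mathlib

/-!
# Value sets of subspaces of `k[[t]]`

For a `k`-subspace `W ⊆ k[[t]]` containing `t^d k[[t]]`, the codimension of `W` is the number of
gaps of its value set (generalising the argument of `Groth.Agent.S15015`).
-/

set_option autoImplicit false
set_option maxHeartbeats 400000

open PowerSeries

namespace Groth.Agent.Lib.ValueSet97

variable {k : Type*} [Field k]

/-- The linear map sending a family of coefficients on a finite set of exponents to the polynomial. -/
noncomputable def ψ (G : Finset ℕ) : (G → k) →ₗ[k] PowerSeries k where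
  toFun c := ∑ g : G, c g • (X : PowerSeries k) ^ (g : ℕ)
  map_add' c c' := by simp [add_smul, Finset.sum_add_distrib]
  map_smul' r c := by simp [mul_smul, Finset.smul_sum]

theorem coeff_ψ (G : Finset ℕ) (c : G → k) (n : ℕ) :
    coeff n (ψ G c) = if h : n ∈ G then c ⟨n, h⟩ else 0 := by
  classical
  change coeff n (∑ g : G, c g • (X : PowerSeries k) ^ (g : ℕ)) = _
  rw [map_sum]
  simp only [map_smul, coeff_X_pow, smul_eq_mul, mul_ite, mul_one, mul_zero]
  split_ifs with h
  · rw [Finset.sum_eq_single ⟨n, h⟩]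
    · simp
    · intro g _ hg
      rw [if_neg]
      intro hn
      exact hg (Subtype.ext hn.symm)
    · intro h'; exact absurd (Finset.mem_univ _) h'
  · apply Finset.sum_eq_zero
    intro g _
    rw [if_neg]
    intro hn
    exact h (hn ▸ g.2)

/-- the value set of a subspace -/
def vset (W : Submodule k (PowerSeries k)) : Set ℕ := {n | ∃ f ∈ W, PowerSeries.order f = n}

theorem mem_vset (W : Submodule k (PowerSeries k)) (n : ℕ) :
    n ∈ vset W ↔ ∃ f ∈ W, PowerSeries.order f = n := Iff.rfl

theorem coeff_ne_zero_of_order {f : PowerSeries k} {n : ℕ} (h : PowerSeries.order f = n) :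
    coeff n f ≠ 0 := by
  have h0 : f ≠ 0 := by
    rintro rfl
    rw [order_zero] at h
    exact ENat.top_ne_natCast n h
  have := coeff_order h0
  rwa [h, ENat.toNat_natCast] at this

theorem coeff_eq_zero_of_order {f : PowerSeries k} {n : ℕ} (h : PowerSeries.order f = n) (i : ℕ)
    (hi : i < n) : coeff i f = 0 :=
  coeff_of_lt_order i (by rw [h]; exact_mod_cast hi)

theorem vset_compl_finite (W : Submodule k (PowerSeries k)) (d : ℕ)
    (hd : ∀ f : PowerSeries k, (∀ i < d, coeff i f = 0) → f ∈ W) : (vset W)ᶜ.Finite := by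
  apply (Set.finite_lt_nat d).subset
  intro n hn
  by_contra h
  apply hn
  refine ⟨X ^ n, hd _ ?_, order_X_pow n⟩
  intro i hi
  rw [coeff_X_pow, if_neg]
  simp only [Set.mem_setOf_eq, not_lt] at h
  omega

theorem finrank_quot (W : Submodule k (PowerSeries k)) (d : ℕ)
    (hd : ∀ f : PowerSeries k, (∀ i < d, coeff i f = 0) → f ∈ W) :
    Module.finrank k (PowerSeries k ⧸ W) = (vset W)ᶜ.ncard := by
  classical
  have hfin := vset_compl_finite W d hd
  set G : Finset ℕ := hfin.toFinset with hG
  have hGmem : ∀ n, n ∈ G ↔ n ∉ vset W := fun n => by rw [hG, Set.Finite.mem_toFinset]; rfl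
  let φ : (G → k) →ₗ[k] (PowerSeries k ⧸ W) := (Submodule.mkQ _).comp (ψ G)
  have hinj : Function.Injective φ := by
    rw [← LinearMap.ker_eq_bot, LinearMap.ker_eq_bot']
    intro c hc
    have hcA : ψ G c ∈ W := by
      have : Submodule.Quotient.mk (ψ G c) = (0 : PowerSeries k ⧸ W) := hc
      rwa [Submodule.Quotient.mk_eq_zero] at this
    by_contra hne
    have hex : ∃ n, ∃ h : n ∈ G, c ⟨n, h⟩ ≠ 0 := by
      by_contra hno
      apply hne
      funext g
      by_contra hg
      exact hno ⟨g.1, g.2, hg⟩
    obtain ⟨hn₀, hcn₀⟩ := Nat.find_spec hex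
    have hord : (ψ G c).order = (Nat.find hex : ℕ) := by
      rw [order_eq_nat]
      constructor
      · rw [coeff_ψ, dif_pos hn₀]; exact hcn₀
      · intro i hi
        rw [coeff_ψ]
        split_ifs with h
        · by_contra hci
          exact Nat.find_min hex hi ⟨h, hci⟩
        · rfl
    exact (hGmem _).1 hn₀ ⟨_, hcA, hord⟩
  have hsurj : Function.Surjective φ := by
    intro q
    obtain ⟨f, rfl⟩ := Submodule.Quotient.mk_surjective _ q
    have key : ∀ n, ∃ c : G → k, ∃ b ∈ W, ∀ i < n, coeff i (f - ψ G c - b) = 0 := by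
      intro n
      induction n with
      | zero => exact ⟨0, 0, W.zero_mem, fun i hi => absurd hi (Nat.not_lt_zero i)⟩
      | succ n ih =>
        obtain ⟨c, b, hbA, hcb⟩ := ih
        by_cases hn : n ∈ vset W
        · obtain ⟨an, hanA, han⟩ := hn
          have han_lt : ∀ i < n, coeff i an = 0 := coeff_eq_zero_of_order han
          have han_n : coeff n an ≠ 0 := coeff_ne_zero_of_order han
          refine ⟨c, b + (coeff n (f - ψ G c - b) / coeff n an) • an,
            W.add_mem hbA (W.smul_mem _ hanA), ?_⟩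
          intro i hi
          rcases Nat.lt_succ_iff_lt_or_eq.1 hi with hlt | rfl
          · rw [← sub_sub, map_sub, hcb i hlt, map_smul, han_lt i hlt, smul_zero, sub_zero]
          · rw [← sub_sub, map_sub, map_smul, smul_eq_mul, div_mul_cancel₀ _ han_n, sub_self]
        · have hnG : n ∈ G := (hGmem n).2 hn
          refine ⟨c + Pi.single ⟨n, hnG⟩ (coeff n (f - ψ G c - b)), b, hbA, ?_⟩
          intro i hi
          have hsplit : f - ψ G (c + Pi.single ⟨n, hnG⟩ (coeff n (f - ψ G c - b))) - b =
              (f - ψ G c - b) - ψ G (Pi.single ⟨n, hnG⟩ (coeff n (f - ψ G c - b))) := by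
            rw [map_add]; ring
          rw [hsplit, map_sub, coeff_ψ]
          rcases Nat.lt_succ_iff_lt_or_eq.1 hi with hlt | rfl
          · rw [hcb i hlt]
            split_ifs with h
            · rw [Pi.single_eq_of_ne, sub_zero]
              intro heq
              have : i = n := congrArg Subtype.val heq
              omega
            · rw [sub_zero]
          · rw [dif_pos hnG, Pi.single_eq_same, sub_self]
    obtain ⟨c, b, hbA, hcb⟩ := key d
    refine ⟨c, ?_⟩
    change Submodule.Quotient.mk (ψ G c) = Submodule.Quotient.mk f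
    rw [Submodule.Quotient.eq]
    have h1 : f - ψ G c - b ∈ W := hd _ hcb
    have h2 : ψ G c - f = -((f - ψ G c - b) + b) := by ring
    rw [h2]
    exact W.neg_mem (W.add_mem h1 hbA)
  have e : (G → k) ≃ₗ[k] (PowerSeries k ⧸ W) :=
    LinearEquiv.ofBijective φ ⟨hinj, hsurj⟩
  rw [← LinearEquiv.finrank_eq e, Module.finrank_fintype_fun_eq_card, Fintype.card_coe,
    Set.ncard_eq_toFinset_card _ hfin]

/-- descending induction: if all orders in `[N, d)` are attained, `W ⊇ t^N k[[t]]` -/
theorem mem_of_coeff_eq_zero (W : Submodule k (PowerSeries k)) (d : ℕ)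
    (hd : ∀ f : PowerSeries k, (∀ i < d, coeff i f = 0) → f ∈ W) (N : ℕ)
    (hN : ∀ n, N ≤ n → n ∈ vset W) (f : PowerSeries k) (hf : ∀ i < N, coeff i f = 0) : f ∈ W := by
  have key : ∀ j : ℕ, ∃ b ∈ W, ∀ i < N + j, coeff i (f - b) = 0 := by
    intro j
    induction j with
    | zero => exact ⟨0, W.zero_mem, fun i hi => by rw [sub_zero]; exact hf i hi⟩
    | succ j ih =>
      obtain ⟨b, hb, hbj⟩ := ih
      obtain ⟨an, hanW, han⟩ := hN (N + j) (Nat.le_add_right N j)
      have han_lt := coeff_eq_zero_of_order han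
      have han_n := coeff_ne_zero_of_order han
      refine ⟨b + (coeff (N + j) (f - b) / coeff (N + j) an) • an,
        W.add_mem hb (W.smul_mem _ hanW), ?_⟩
      intro i hi
      rcases Nat.lt_succ_iff_lt_or_eq.1 (by omega : i < (N + j) + 1) with hlt | rfl
      · rw [← sub_sub, map_sub, hbj i hlt, map_smul, han_lt i hlt, smul_zero, sub_zero]
      · rw [← sub_sub, map_sub, map_smul, smul_eq_mul, div_mul_cancel₀ _ han_n, sub_self]
  obtain ⟨b, hb, hbd⟩ := key d
  have : f = (f - b) + b := by ring
  rw [this]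
  exact W.add_mem (hd _ (fun i hi => hbd i (by omega))) hb

end Groth.Agent.Lib.ValueSet97
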