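import Mathlib
import Groth.Agent.Lib.ValueSet97

/-!
# Rank-one torsion-free modules inside `k[[t]]`

* `exists_embed_rank`: a f.g. torsion-free module of rank `n` over a domain embeds into `O^n`
  (after `Groth.Agent.S15013.exists_embed`, with the rank read off the tensor product).
* `mem_of_le_of_gaps`: semigroup counting.
* `dvd_of_coeff_eq_zero`, `exists_normalized`: an `A`-submodule of `k[[t]]` is isomorphic to one
  containing `1`.
-/

set_option autoImplicit false
set_option maxHeartbeats 400000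

universe u

open TensorProduct

namespace Groth.Agent.Lib.ValueSet97

/-- A finitely generated torsion-free module of rank `n` over a domain embeds in `O^n`. -/
theorem exists_embed_rank (O : Type u) [CommRing O] [IsDomain O] (M : Type u) [AddCommGroup M]
    [Module O M] [Module.Finite O M] [NoZeroSMulDivisors O M] (n : ℕ)
    (hn : Module.finrank (FractionRing O) (FractionRing O ⊗[O] M) = n) :
    ∃ (ψ : M →ₗ[O] (Fin n → O)), Function.Injective ψ := by
  classical
  let S := nonZeroDivisors O
  let K' := FractionRing O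
  let V := K' ⊗[O] M
  let ι : M →ₗ[O] V := TensorProduct.mk O K' M 1
  have hι : Function.Injective ι := by
    rw [← LinearMap.ker_eq_bot, LinearMap.ker_eq_bot']
    intro m hm
    obtain ⟨c, hc⟩ := (IsLocalizedModule.eq_zero_iff S ι).1 hm
    have hc0 : (c : O) ≠ 0 := nonZeroDivisors.ne_zero c.2
    rcases smul_eq_zero.1 hc with h | h
    · exact absurd h hc0
    · exact h
  let b : Module.Basis (Fin n) K' V := Module.finBasisOfFinrankEq K' V hn
  let c : M →ₗ[O] (Fin n → K') := (b.equivFun.toLinearMap.restrictScalars O) ∘ₗ ι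
  have hc : Function.Injective c := by
    intro x y hxy
    apply hι
    exact b.equivFun.injective hxy
  let j : (Fin n → O) →ₗ[O] (Fin n → K') := (Algebra.linearMap O K').compLeft (Fin n)
  have hj : Function.Injective j := by
    intro x y hxy
    funext i
    have := congrFun hxy i
    exact IsFractionRing.injective O K' this
  obtain ⟨G, hG⟩ := (Module.Finite.fg_top : (⊤ : Submodule O M).FG)
  let T : Finset K' := G.biUnion fun g => Finset.univ.image fun i => c g i
  obtain ⟨d, hd⟩ := IsLocalization.exist_integer_multiples_of_finset S T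
  have hd0 : (d : O) ≠ 0 := nonZeroDivisors.ne_zero d.2
  let P : Submodule O M := (LinearMap.range j).comap ((d : O) • c)
  have hP : P = ⊤ := by
    rw [eq_top_iff, ← hG, Submodule.span_le]
    intro g hg
    change ((d : O) • c) g ∈ LinearMap.range j
    have : ∀ i, ∃ a : O, algebraMap O K' a = (d : O) • c g i := by
      intro i
      have hmem : c g i ∈ T := by
        refine Finset.mem_biUnion.2 ⟨g, hg, Finset.mem_image.2 ⟨i, Finset.mem_univ _, rfl⟩⟩
      exact hd _ hmem
    choose a ha using this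
    refine ⟨a, ?_⟩
    funext i
    simp only [j, LinearMap.compLeft_apply, Function.comp, Algebra.linearMap_apply,
      LinearMap.smul_apply, Pi.smul_apply]
    exact ha i
  have hmem : ∀ m, ((d : O) • c) m ∈ LinearMap.range j := by
    intro m
    have : m ∈ P := hP ▸ Submodule.mem_top
    exact this
  let ψ : M →ₗ[O] (Fin n → O) :=
    (LinearEquiv.ofInjective j hj).symm.toLinearMap ∘ₗ
      (((d : O) • c).codRestrict (LinearMap.range j) hmem)
  refine ⟨ψ, ?_⟩
  intro x y hxy
  have h1 : (((d : O) • c).codRestrict (LinearMap.range j) hmem) x =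
      (((d : O) • c).codRestrict (LinearMap.range j) hmem) y :=
    (LinearEquiv.ofInjective j hj).symm.injective hxy
  have h2 : ((d : O) • c) x = ((d : O) • c) y := congrArg Subtype.val h1
  have h3 : c ((d : O) • x) = c ((d : O) • y) := by
    simpa [LinearMap.smul_apply, map_smul] using h2
  have h4 := hc h3
  have h5 : (d : O) • (x - y) = 0 := by rw [smul_sub, h4, sub_self]
  rcases smul_eq_zero.1 h5 with h | h
  · exact absurd h hd0
  · exact sub_eq_zero.1 h

/-- semigroup counting: a `Γ`-stable set `Γ''` with `d` gaps contains every `n ≥ δ + d` -/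
theorem mem_of_le_of_gaps (Γ Γ'' : Set ℕ) (hΓ : Γᶜ.Finite) (hΓ'' : Γ''ᶜ.Finite)
    (hadd : ∀ γ ∈ Γ, ∀ m ∈ Γ'', γ + m ∈ Γ'') (n : ℕ) (hn : Γᶜ.ncard + Γ''ᶜ.ncard ≤ n) :
    n ∈ Γ'' := by
  classical
  by_contra hnot
  let S := (Finset.range (n + 1)).filter (· ∈ Γ)
  let S' := (Finset.range (n + 1)).filter (· ∉ Γ)
  have h1 : S.card + S'.card = n + 1 := by
    have := Finset.card_filter_add_card_filter_not (s := Finset.range (n + 1)) (· ∈ Γ)
    rw [Finset.card_range] at this
    exact this
  have h2 : S'.card ≤ Γᶜ.ncard := by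
    rw [Set.ncard_eq_toFinset_card _ hΓ]
    apply Finset.card_le_card
    intro x hx
    rw [Set.Finite.mem_toFinset]
    exact (Finset.mem_filter.mp hx).2
  have h3 : S.card ≤ Γ''ᶜ.ncard := by
    rw [Set.ncard_eq_toFinset_card _ hΓ'']
    apply Finset.card_le_card_of_injOn (fun γ => n - γ)
    · intro γ hγ
      have hγ' := Finset.mem_filter.mp hγ
      have hle : γ ≤ n := Nat.lt_succ_iff.mp (Finset.mem_range.mp hγ'.1)
      rw [Finset.mem_coe, Set.Finite.mem_toFinset]
      intro hmem
      apply hnot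
      have := hadd γ hγ'.2 (n - γ) hmem
      rwa [Nat.add_sub_cancel' hle] at this
    · intro γ₁ h₁ γ₂ h₂ heq
      have hle₁ : γ₁ ≤ n := Nat.lt_succ_iff.mp (Finset.mem_range.mp (Finset.mem_filter.mp h₁).1)
      have hle₂ : γ₂ ≤ n := Nat.lt_succ_iff.mp (Finset.mem_range.mp (Finset.mem_filter.mp h₂).1)
      simp only at heq
      omega
  omega

open PowerSeries in
theorem dvd_of_coeff_eq_zero {k : Type*} [Field k] {w f : PowerSeries k} (hw : w ≠ 0)
    (h : ∀ i < w.order.toNat, PowerSeries.coeff i f = 0) : w ∣ f := by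
  obtain ⟨g, rfl⟩ := (PowerSeries.X_pow_dvd_iff).mpr h
  obtain ⟨u, hu⟩ := PowerSeries.isUnit_divided_by_X_pow_order hw
  have hw' : w = X ^ w.order.toNat * (u : PowerSeries k) := by
    rw [hu]; exact PowerSeries.X_pow_order_mul_divXPowOrder.symm
  refine ⟨(↑u⁻¹ : PowerSeries k) * g, ?_⟩
  conv_rhs => rw [hw']
  rw [mul_assoc, ← mul_assoc (u : PowerSeries k), Units.mul_inv, one_mul]

open PowerSeries in
/-- a nonzero `A`-submodule of `k[[t]]` is isomorphic to one containing `1` -/
theorem exists_normalized {k : Type*} [Field k] (A : Subalgebra k (PowerSeries k))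
    (M₀ : Submodule ↥A (PowerSeries k)) (hM₀ : M₀ ≠ ⊥) :
    ∃ M'' : Submodule ↥A (PowerSeries k), (1 : PowerSeries k) ∈ M'' ∧
      Nonempty (↥M'' ≃ₗ[↥A] ↥M₀) := by
  classical
  obtain ⟨f₀, hf₀, hf₀0⟩ := (Submodule.ne_bot_iff M₀).mp hM₀
  have hex : ∃ n : ℕ, ∃ f ∈ M₀, PowerSeries.order f = n :=
    ⟨f₀.order.toNat, f₀, hf₀, (PowerSeries.coe_toNat_order hf₀0).symm⟩
  obtain ⟨w, hw, hwv⟩ := Nat.find_spec hex
  have hw0 : w ≠ 0 := by
    rintro rfl
    rw [order_zero] at hwv
    exact ENat.top_ne_natCast _ hwv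
  have hwt : w.order.toNat = Nat.find hex := by rw [hwv, ENat.toNat_natCast]
  have hdvd : ∀ f ∈ M₀, w ∣ f := by
    intro f hf
    by_cases hf0 : f = 0
    · rw [hf0]; exact dvd_zero w
    apply dvd_of_coeff_eq_zero hw0
    intro i hi
    apply PowerSeries.coeff_of_lt_order
    have hmin : Nat.find hex ≤ f.order.toNat :=
      Nat.find_min' hex ⟨f, hf, (PowerSeries.coe_toNat_order hf0).symm⟩
    rw [← PowerSeries.coe_toNat_order hf0]
    exact_mod_cast lt_of_lt_of_le hi (hwt ▸ hmin)
  let μ : PowerSeries k →ₗ[↥A] PowerSeries k := LinearMap.mulLeft ↥A w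
  have hμ : ∀ x, μ x = w * x := fun x => rfl
  refine ⟨M₀.comap μ, ?_, ⟨?_⟩⟩
  · rw [Submodule.mem_comap, hμ, mul_one]; exact hw
  · refine LinearEquiv.ofBijective (μ.restrict (p := M₀.comap μ) (q := M₀) (fun x hx => hx)) ⟨?_, ?_⟩
    · intro x y hxy
      have h1 : w * (x : PowerSeries k) = w * (y : PowerSeries k) := congrArg Subtype.val hxy
      exact Subtype.ext (mul_left_cancel₀ hw0 h1)
    · intro y
      obtain ⟨h, hh⟩ := hdvd y.1 y.2
      refine ⟨⟨h, ?_⟩, Subtype.ext hh.symm⟩
      rw [Submodule.mem_comap, hμ, ← hh]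
      exact y.2

end Groth.Agent.Lib.ValueSet97
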