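import Mathlib.Topology.Algebra.OpenSubgroup
import Mathlib.Topology.Separation.Profinite
import Mathlib.Topology.Algebra.Group.Basic
import Mathlib.Tactic

/-!
Van Dantzig: in a locally compact Hausdorff totally disconnected topological additive group,
every neighbourhood of `0` contains an open subgroup.
-/

set_option autoImplicit false

namespace Groth.Agent.Lib.VanDantzig97

open Set Filter Topology
open scoped Pointwise

variable {B : Type*} [AddCommGroup B] [TopologicalSpace B] [IsTopologicalAddGroup B]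

/-- For a compact open set `W` there is a neighbourhood `T` of `0` with `W + T ⊆ W`. -/
lemma exists_nhds_add_subset {W : Set B} (hWc : IsCompact W) (hWo : IsOpen W) :
    ∃ T ∈ 𝓝 (0 : B), W + T ⊆ W := by
  apply hWc.induction_on (p := fun S ↦ ∃ T ∈ 𝓝 (0 : B), S + T ⊆ W)
    ⟨Set.univ, by simp only [univ_mem, empty_add, empty_subset, and_self]⟩
    (fun _ _ huv ⟨T, hT, mem⟩ ↦ ⟨T, hT, (add_subset_add_right huv).trans mem⟩)
    fun U V ⟨T₁, hT₁, mem1⟩ ⟨T₂, hT₂, mem2⟩ ↦ ⟨T₁ ∩ T₂, inter_mem hT₁ hT₂, by
      rw [union_add]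
      exact union_subset (add_subset_add_left inter_subset_left |>.trans mem1)
        (add_subset_add_left inter_subset_right |>.trans mem2) ⟩
  intro x memW
  have : (x, 0) ∈ (fun p : B × B ↦ p.1 + p.2) ⁻¹' W := by simp [memW]
  rcases isOpen_prod_iff.mp (continuous_add.isOpen_preimage W hWo) x 0 this with
    ⟨U, V, Uopen, Vopen, xmemU, zeromemV, prodsub⟩
  have h6 : U + V ⊆ W := add_subset_iff.mpr (fun _ hx _ hy ↦ prodsub (mk_mem_prod hx hy))
  exact ⟨U ∩ W, ⟨U, Uopen.mem_nhds xmemU, W, fun _ a ↦ a, rfl⟩,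
    V, IsOpen.mem_nhds Vopen zeromemV, fun _ a ↦ h6 ((add_subset_add_right inter_subset_left) a)⟩

/-- A compact open neighbourhood of `0` contains an open subgroup. -/
lemma exists_open_addSubgroup_subset_of_isCompact_isOpen {W : Set B} (hWc : IsCompact W)
    (hWo : IsOpen W) (h0 : (0 : B) ∈ W) :
    ∃ H : AddSubgroup B, IsOpen (H : Set B) ∧ (H : Set B) ⊆ W := by
  obtain ⟨T, hT, hWT⟩ := exists_nhds_add_subset hWc hWo
  refine ⟨AddSubgroup.closure (T ∩ -T), ?_, ?_⟩
  · apply AddSubgroup.isOpen_of_mem_nhds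
    apply Filter.mem_of_superset (Filter.inter_mem hT (neg_mem_nhds_zero B hT))
    exact AddSubgroup.subset_closure
  · have key : ∀ x ∈ AddSubgroup.closure (T ∩ -T),
        (∀ w ∈ W, w + x ∈ W) ∧ (∀ w ∈ W, w - x ∈ W) := by
      intro x hx
      induction hx using AddSubgroup.closure_induction with
      | mem y hy =>
        refine ⟨fun w hw => hWT (Set.add_mem_add hw hy.1), fun w hw => ?_⟩
        rw [sub_eq_add_neg]
        exact hWT (Set.add_mem_add hw (by simpa using hy.2))
      | zero => simp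
      | add y z _ _ hy hz =>
        refine ⟨fun w hw => ?_, fun w hw => ?_⟩
        · rw [← add_assoc]; exact hz.1 _ (hy.1 w hw)
        · rw [← sub_sub]; exact hz.2 _ (hy.2 w hw)
      | neg y _ hy =>
        refine ⟨fun w hw => ?_, fun w hw => ?_⟩
        · rw [← sub_eq_add_neg]; exact hy.2 w hw
        · rw [sub_neg_eq_add]; exact hy.1 w hw
    intro x hx
    have := (key x hx).1 0 h0
    rwa [zero_add] at this

/-- **van Dantzig**: in a locally compact Hausdorff totally disconnected topological additive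
group, every neighbourhood of `0` contains an open subgroup. -/
theorem exists_open_addSubgroup_subset [T2Space B] [LocallyCompactSpace B]
    [TotallyDisconnectedSpace B] {O : Set B} (hO : O ∈ 𝓝 (0 : B)) :
    ∃ H : AddSubgroup B, IsOpen (H : Set B) ∧ (H : Set B) ⊆ O := by
  obtain ⟨O', hO'O, hO'open, h0O'⟩ := mem_nhds_iff.mp hO
  obtain ⟨K, hKc, h0K, hKO'⟩ := exists_compact_subset hO'open h0O'
  obtain ⟨W, hWclopen, h0W, hWK⟩ :=
    (loc_compact_Haus_tot_disc_of_zero_dim (H := B)).exists_subset_of_mem_open h0K isOpen_interior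
  have hWc : IsCompact W := hKc.of_isClosed_subset hWclopen.1 (hWK.trans interior_subset)
  obtain ⟨H, hHo, hHW⟩ := exists_open_addSubgroup_subset_of_isCompact_isOpen hWc hWclopen.2 h0W
  exact ⟨H, hHo, hHW.trans ((hWK.trans interior_subset).trans (hKO'.trans hO'O))⟩

end Groth.Agent.Lib.VanDantzig97
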