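import Mathlib

/-!
# Determinants of roots of unity (for the VerlindeComb cluster)

`E ζ e w = det (ζ ^ (w j * e i))_{i j}` and its basic symmetries.
-/

set_option autoImplicit false
open Finset Matrix Equiv

namespace Groth.Agent.Lib.Verlinde23

variable {r : ℕ}

/-- `E ζ e w = det (ζ ^ (w j * e i))_{i j}` -/
noncomputable def E (ζ : ℂ) (e w : Fin r → ℕ) : ℂ :=
  (Matrix.of fun i j : Fin r => ζ ^ (w j * e i)).det

theorem E_expand (ζ : ℂ) (e w : Fin r → ℕ) :
    E ζ e w = ∑ σ : Perm (Fin r), ((Perm.sign σ : ℤ) : ℂ) * ∏ j, ζ ^ (w j * e (σ j)) := by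
  unfold E
  rw [Matrix.det_apply']
  rfl

theorem E_comp_right (ζ : ℂ) (e w : Fin r → ℕ) (π : Perm (Fin r)) :
    E ζ e (w ∘ π) = ((Perm.sign π : ℤ) : ℂ) * E ζ e w := by
  unfold E
  rw [← Matrix.det_permute' π]
  rfl

theorem E_comp_left (ζ : ℂ) (e w : Fin r → ℕ) (π : Perm (Fin r)) :
    E ζ (e ∘ π) w = ((Perm.sign π : ℤ) : ℂ) * E ζ e w := by
  unfold E
  rw [← Matrix.det_permute π]
  rfl

theorem E_transpose (ζ : ℂ) (e w : Fin r → ℕ) : E ζ e w = E ζ w e := by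
  unfold E
  rw [← Matrix.det_transpose]
  congr 1
  ext i j
  simp [mul_comm]

theorem sign_mul_sign (π : Perm (Fin r)) :
    (((Perm.sign π : ℤ) : ℂ)) * ((Perm.sign π : ℤ) : ℂ) = 1 := by
  rcases Int.units_eq_one_or (Perm.sign π) with h | h <;> simp [h]

/-- `E` only depends on the values `ζ ^ w j`. -/
theorem E_congr (ζ : ℂ) (e w w' : Fin r → ℕ) (h : ∀ j, ζ ^ w j = ζ ^ w' j) :
    E ζ e w = E ζ e w' := by
  unfold E
  congr 1
  ext i j
  simp only [Matrix.of_apply, pow_mul, h j]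

theorem E_eq_zero (ζ : ℂ) (e w : Fin r → ℕ) {i j : Fin r} (hij : i ≠ j)
    (h : ζ ^ w i = ζ ^ w j) : E ζ e w = 0 := by
  unfold E
  apply Matrix.det_zero_of_column_eq hij
  intro k
  simp only [Matrix.of_apply, pow_mul, h]

theorem E_add_const (ζ : ℂ) (e w : Fin r → ℕ) (c : ℕ) :
    E ζ e (fun j => w j + c) = ζ ^ (c * ∑ i, e i) * E ζ e w := by
  unfold E
  rw [Finset.mul_sum, ← Finset.prod_pow_eq_pow_sum, ← Matrix.det_mul_column]
  congr 1
  ext i j
  simp only [Matrix.of_apply]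
  rw [← pow_add]
  congr 1
  ring

/-- duality: reversing and complementing the exponents. -/
theorem E_dual (ζ : ℂ) (hζ : ζ ≠ 0) (e w : Fin r → ℕ) (c : ℕ) (he : ∀ i, e i ≤ c) :
    (∏ j, ζ ^ w j) ^ c * E ζ⁻¹ (fun i => c - e (Fin.rev i)) w =
      ((Perm.sign (Fin.revPerm : Perm (Fin r)) : ℤ) : ℂ) * E ζ e w := by
  rw [← E_comp_left ζ e w Fin.revPerm]
  unfold E
  rw [← Finset.prod_pow, ← Matrix.det_mul_row]
  congr 1
  ext i j
  simp only [Matrix.of_apply, Function.comp_apply, Fin.revPerm_apply]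
  have h1 : w j * e (Fin.rev i) + w j * (c - e (Fin.rev i)) = w j * c := by
    rw [← Nat.mul_add, Nat.add_sub_cancel' (he _)]
  rw [← pow_mul, ← h1, pow_add, inv_pow, mul_assoc, mul_inv_cancel₀ (pow_ne_zero _ hζ), mul_one]

/-- the staircase exponent `δ i = r - 1 - i` -/
def delta (r : ℕ) : Fin r → ℕ := fun i => r - 1 - (i : ℕ)

theorem E_conj (ζ : ℂ) (e w : Fin r → ℕ) :
    (starRingEnd ℂ) (E ζ e w) = E ((starRingEnd ℂ) ζ) e w := by
  unfold E
  rw [RingHom.map_det]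
  congr 1
  ext i j
  simp

theorem E_conj_of_norm_one (ζ : ℂ) (hζ : ‖ζ‖ = 1) (e w : Fin r → ℕ) :
    (starRingEnd ℂ) (E ζ e w) = E ζ⁻¹ e w := by
  rw [E_conj, Complex.inv_eq_conj hζ]

theorem E_delta_eq_vandermonde (ζ : ℂ) (w : Fin r → ℕ) :
    E ζ (delta r) w = ((Perm.sign (Fin.revPerm : Perm (Fin r)) : ℤ) : ℂ) *
      (Matrix.vandermonde (fun j => ζ ^ w j)).det := by
  rw [← Matrix.det_transpose (Matrix.vandermonde _), ← Matrix.det_permute]
  unfold E
  congr 1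
  ext i j
  simp only [Matrix.of_apply, Matrix.submatrix_apply, Matrix.transpose_apply,
    Matrix.vandermonde_apply, Fin.revPerm_apply, Fin.val_rev, id, delta, ← pow_mul]
  congr 2
  omega

theorem E_delta_ne_zero (ζ : ℂ) (w : Fin r → ℕ)
    (hw : Function.Injective (fun j => ζ ^ w j)) : E ζ (delta r) w ≠ 0 := by
  rw [E_delta_eq_vandermonde]
  apply mul_ne_zero
  · rcases Int.units_eq_one_or (Perm.sign (Fin.revPerm : Perm (Fin r))) with h | h <;> simp [h]
  · exact Matrix.det_vandermonde_ne_zero_iff.mpr hw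

theorem prod_filter_lt {M : Type*} [CommMonoid M] (F : Fin r → Fin r → M) :
    ∏ p ∈ (Finset.univ : Finset (Fin r × Fin r)).filter (fun p => p.1 < p.2), F p.1 p.2 =
      ∏ i : Fin r, ∏ j ∈ Finset.Ioi i, F i j := by
  rw [Finset.prod_filter, ← Finset.univ_product_univ, Finset.prod_product]
  refine Finset.prod_congr rfl fun i _ => ?_
  rw [← Finset.prod_filter]
  congr 1
  ext j
  simp

theorem normSq_E_delta (ζ : ℂ) (w : Fin r → ℕ) :
    Complex.normSq (E ζ (delta r) w) =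
      ∏ i : Fin r, ∏ j ∈ Finset.Ioi i, Complex.normSq (ζ ^ w j - ζ ^ w i) := by
  rw [E_delta_eq_vandermonde, map_mul, Matrix.det_vandermonde, map_prod]
  have : Complex.normSq ((Perm.sign (Fin.revPerm : Perm (Fin r)) : ℤ) : ℂ) = 1 := by
    rcases Int.units_eq_one_or (Perm.sign (Fin.revPerm : Perm (Fin r))) with h | h <;> simp [h]
  rw [this, one_mul]
  refine Finset.prod_congr rfl fun i _ => ?_
  rw [map_prod]

theorem normSq_exp_sub_exp (θ₁ θ₂ : ℝ) :
    Complex.normSq (Complex.exp (θ₁ * Complex.I) - Complex.exp (θ₂ * Complex.I)) =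
      (2 * Real.sin ((θ₁ - θ₂) / 2)) ^ 2 := by
  rw [Complex.exp_mul_I, Complex.exp_mul_I, Complex.normSq_apply]
  simp only [Complex.sub_re, Complex.add_re, Complex.mul_re, Complex.I_re, Complex.I_im,
    Complex.sub_im, Complex.add_im, Complex.mul_im, ← Complex.ofReal_cos, ← Complex.ofReal_sin,
    Complex.ofReal_re, Complex.ofReal_im]
  have h := Real.sin_sq_eq_half_sub ((θ₁ - θ₂) / 2)
  have h2 : 2 * ((θ₁ - θ₂) / 2) = θ₁ - θ₂ := by ring
  rw [h2, Real.cos_sub] at h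
  have h3 := Real.sin_sq_add_cos_sq θ₁
  have h4 := Real.sin_sq_add_cos_sq θ₂
  rw [mul_pow, h]
  nlinarith

end Groth.Agent.Lib.Verlinde23
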