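import Groth.Agent.Lib.Verlinde23a

/-!
# Symmetrization of sums over tuples; the index set `DSet` of the Verlinde sums
-/

set_option autoImplicit false
open Finset Matrix Equiv

namespace Groth.Agent.Lib.Verlinde23


/-- the permutation sorting a tuple in decreasing order -/
noncomputable def sortA {s : ℕ} {X : Type*} [LinearOrder X] (u : Fin s → X) : Perm (Fin s) :=
  Tuple.sort u * Fin.revPerm

theorem antitone_sortA {s : ℕ} {X : Type*} [LinearOrder X] (u : Fin s → X) :
    Antitone (u ∘ sortA u) := by
  have h : u ∘ sortA u = (u ∘ Tuple.sort u) ∘ Fin.rev := by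
    ext x; simp [sortA]
  rw [h]
  exact (Tuple.monotone_sort u).comp_antitone Fin.rev_anti

theorem sum_eq_factorial_mul_sum_strictAnti {s : ℕ} {X : Type*} [LinearOrder X] [Fintype X]
    (F : (Fin s → X) → ℂ)
    (hperm : ∀ (u : Fin s → X) (σ : Perm (Fin s)), F (u ∘ σ) = F u)
    (hinj : ∀ u : Fin s → X, ¬ Function.Injective u → F u = 0) :
    ∑ u : Fin s → X, F u =
      (s.factorial : ℂ) * ∑ u ∈ (univ.filter fun u : Fin s → X => StrictAnti u), F u := by
  classical
  have h1 : ∑ u : Fin s → X, F u =
      ∑ u ∈ (univ.filter fun u : Fin s → X => Function.Injective u), F u := by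
    symm
    apply Finset.sum_subset (Finset.filter_subset _ _)
    intro u _ hu
    apply hinj
    simpa using hu
  have h2 : ∑ u ∈ (univ.filter fun u : Fin s → X => Function.Injective u), F u =
      ∑ p ∈ (univ : Finset (Perm (Fin s))) ×ˢ (univ.filter fun u : Fin s → X => StrictAnti u),
        F (p.2 ∘ p.1) := by
    symm
    refine Finset.sum_nbij' (fun p => p.2 ∘ p.1) (fun u => ((sortA u)⁻¹, u ∘ sortA u))
      ?_ ?_ ?_ ?_ ?_
    · intro p hp
      rw [Finset.mem_product, Finset.mem_filter] at hp
      rw [Finset.mem_filter]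
      exact ⟨Finset.mem_univ _, hp.2.2.injective.comp p.1.injective⟩
    · intro u hu
      rw [Finset.mem_filter] at hu
      rw [Finset.mem_product, Finset.mem_filter]
      refine ⟨Finset.mem_univ _, Finset.mem_univ _, ?_⟩
      exact (antitone_sortA u).strictAnti_of_injective (hu.2.comp (sortA u).injective)
    · intro p hp
      rw [Finset.mem_product, Finset.mem_filter] at hp
      obtain ⟨σ, w⟩ := p
      have hw : StrictAnti w := hp.2.2
      simp only
      have e1 : (w ∘ σ) ∘ sortA (w ∘ σ) = (w ∘ σ) ∘ (σ⁻¹ : Perm (Fin s)) := by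
        apply Tuple.unique_antitone (antitone_sortA (w ∘ σ))
        have : (w ∘ σ) ∘ (σ⁻¹ : Perm (Fin s)) = w := by
          ext x; simp
        rw [this]
        exact hw.antitone
      have e2 : sortA (w ∘ σ) = σ⁻¹ := by
        ext x
        have := congrFun e1 x
        simp only [Function.comp_apply] at this
        have := hw.injective this
        exact congrArg Fin.val (σ.injective this)
      rw [e2, inv_inv]
      congr 1
      ext x; simp
    · intro u _
      ext x
      simp
    · intro p _
      rfl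
  have h3 : ∑ p ∈ (univ : Finset (Perm (Fin s))) ×ˢ (univ.filter fun u : Fin s → X => StrictAnti u),
        F (p.2 ∘ p.1) =
      (s.factorial : ℂ) * ∑ u ∈ (univ.filter fun u : Fin s → X => StrictAnti u), F u := by
    rw [Finset.sum_product]
    simp only [hperm]
    rw [Finset.sum_const, Finset.card_univ, Fintype.card_perm, Fintype.card_fin, nsmul_eq_mul]
  rw [h1, h2, h3]



/-- the index set of the Verlinde sums: strictly decreasing tuples ending in `0`. -/
def DSet (s N : ℕ) : Finset (Fin (s + 1) → Fin N) :=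
  univ.filter fun v => StrictAnti v ∧ ∀ i : Fin (s + 1), (i : ℕ) = s + 1 - 1 → (v i : ℕ) = 0

theorem mem_DSet {s N : ℕ} [NeZero N] (v : Fin (s + 1) → Fin N) :
    v ∈ DSet s N ↔ StrictAnti v ∧ v (Fin.last s) = 0 := by
  unfold DSet
  rw [Finset.mem_filter]
  simp only [Finset.mem_univ, true_and]
  constructor
  · rintro ⟨h1, h2⟩
    refine ⟨h1, ?_⟩
    apply Fin.ext
    rw [h2 (Fin.last s) (by simp)]
    simp
  · rintro ⟨h1, h2⟩
    refine ⟨h1, fun i hi => ?_⟩
    have : i = Fin.last s := by
      apply Fin.ext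
      rw [hi]; simp
    rw [this, h2]
    simp

theorem strictAnti_snoc {s N : ℕ} [NeZero N] (u : Fin s → Fin N) (hu : StrictAnti u)
    (h0 : ∀ j, u j ≠ 0) : StrictAnti (Fin.snoc u (0 : Fin N) : Fin (s + 1) → Fin N) := by
  intro a b hab
  induction b using Fin.lastCases with
  | last =>
    induction a using Fin.lastCases with
    | last => exact absurd hab (lt_irrefl _)
    | cast a' =>
      rw [Fin.snoc_last, Fin.snoc_castSucc]
      exact Fin.pos_iff_ne_zero.mpr (h0 a')
  | cast b' =>
    induction a using Fin.lastCases with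
    | last =>
      exact absurd hab (not_lt.mpr (Fin.le_last _))
    | cast a' =>
      rw [Fin.snoc_castSucc, Fin.snoc_castSucc]
      exact hu (by simpa using hab)

theorem sum_DSet {s N : ℕ} [NeZero N] (F : (Fin (s + 1) → ℕ) → ℂ)
    (hF0 : ∀ w : Fin (s + 1) → ℕ, (∃ i j, i ≠ j ∧ w i = w j) → F w = 0) :
    ∑ v ∈ DSet s N, F (fun j => (v j : ℕ)) =
      ∑ u ∈ (univ.filter fun u : Fin s → Fin N => StrictAnti u),
        F (Fin.snoc (fun j => (u j : ℕ)) 0) := by
  classical
  have hsn : ∀ u : Fin s → Fin N, (fun j => ((Fin.snoc u (0 : Fin N) : Fin (s + 1) → Fin N) j : ℕ)) =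
      Fin.snoc (fun j => (u j : ℕ)) 0 := by
    intro u
    have := Fin.comp_snoc (α := Fin N) (β := ℕ) (fun x : Fin N => (x : ℕ)) u (0 : Fin N)
    simpa [Function.comp_def] using this
  have h1 : ∑ v ∈ DSet s N, F (fun j => (v j : ℕ)) =
      ∑ u ∈ (univ.filter fun u : Fin s → Fin N => StrictAnti u ∧ ∀ j, u j ≠ 0),
        F (Fin.snoc (fun j => (u j : ℕ)) 0) := by
    refine Finset.sum_nbij' (fun v => Fin.init v) (fun u => Fin.snoc u 0) ?_ ?_ ?_ ?_ ?_
    · intro v hv
      rw [mem_DSet] at hv
      rw [Finset.mem_filter]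
      refine ⟨Finset.mem_univ _, ?_, ?_⟩
      · intro a b hab
        exact hv.1 (by simpa using hab)
      · intro j hj
        have : v (Fin.last s) < v j.castSucc := hv.1 (Fin.castSucc_lt_last j)
        rw [hv.2] at this
        exact absurd hj (Fin.pos_iff_ne_zero.mp this)
    · intro u hu
      rw [Finset.mem_filter] at hu
      rw [mem_DSet]
      exact ⟨strictAnti_snoc u hu.2.1 hu.2.2, by simp⟩
    · intro v hv
      rw [mem_DSet] at hv
      have := Fin.snoc_init_self v
      rw [hv.2] at this
      exact this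
    · intro u _
      exact Fin.init_snoc _ _
    · intro v hv
      rw [mem_DSet] at hv
      congr 1
      rw [← hsn]
      have := Fin.snoc_init_self v
      rw [hv.2] at this
      rw [this]
  rw [h1]
  apply Finset.sum_subset
  · intro u hu
    rw [Finset.mem_filter] at hu ⊢
    exact ⟨hu.1, hu.2.1⟩
  · intro u hu hu'
    rw [Finset.mem_filter] at hu hu'
    have : ∃ j, u j = 0 := by
      by_contra hcon
      push Not at hcon
      exact hu' ⟨hu.1, hu.2, hcon⟩
    obtain ⟨j, hj⟩ := this
    apply hF0
    refine ⟨j.castSucc, Fin.last s, (Fin.castSucc_lt_last j).ne, ?_⟩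
    rw [Fin.snoc_castSucc, Fin.snoc_last, hj]
    simp



/-- extend a permutation of `Fin s` to `Fin (s+1)` fixing the last element -/
def snocPerm {s : ℕ} (σ : Perm (Fin s)) : Perm (Fin (s + 1)) :=
  finSuccEquivLast.trans ((Equiv.optionCongr σ).trans finSuccEquivLast.symm)

theorem snocPerm_last {s : ℕ} (σ : Perm (Fin s)) : snocPerm σ (Fin.last s) = Fin.last s := by
  simp [snocPerm]

theorem snocPerm_castSucc {s : ℕ} (σ : Perm (Fin s)) (i : Fin s) :
    snocPerm σ i.castSucc = (σ i).castSucc := by
  simp [snocPerm]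

theorem snoc_comp_perm {s : ℕ} {α : Type*} (w : Fin s → α) (c : α) (σ : Perm (Fin s)) :
    (Fin.snoc (w ∘ σ) c : Fin (s + 1) → α) = (Fin.snoc w c : Fin (s + 1) → α) ∘ snocPerm σ := by
  ext x
  induction x using Fin.lastCases with
  | last => simp [snocPerm_last]
  | cast i => simp [snocPerm_castSucc]


end Groth.Agent.Lib.Verlinde23
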