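import Groth.Agent.Lib.Verlinde23b

set_option autoImplicit false
open Finset Matrix Equiv

namespace Groth.Agent.Lib.Verlinde23

theorem factorial_mul_sum_DSet {s N : ℕ} [NeZero N] (F : (Fin (s + 1) → ℕ) → ℂ)
    (hperm : ∀ (w : Fin (s + 1) → ℕ) (π : Perm (Fin (s + 1))), F (w ∘ π) = F w)
    (hF0 : ∀ w : Fin (s + 1) → ℕ, (∃ i j, i ≠ j ∧ w i = w j) → F w = 0) :
    (s.factorial : ℂ) * ∑ v ∈ DSet s N, F (fun j => (v j : ℕ)) =
      ∑ u : Fin s → Fin N, F (Fin.snoc (fun j => (u j : ℕ)) 0) := by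
  rw [sum_DSet F hF0]
  symm
  apply sum_eq_factorial_mul_sum_strictAnti (fun u : Fin s → Fin N => F (Fin.snoc (fun j => (u j : ℕ)) 0))
  · intro u σ
    have : (fun j => ((u ∘ σ) j : ℕ)) = (fun j => (u j : ℕ)) ∘ σ := rfl
    simp only [this]
    rw [snoc_comp_perm, hperm]
  · intro u hu
    apply hF0
    unfold Function.Injective at hu
    push Not at hu
    obtain ⟨i, j, hij, hne⟩ := hu
    refine ⟨i.castSucc, j.castSucc, fun h => hne (Fin.castSucc_injective _ h), ?_⟩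
    rw [Fin.snoc_castSucc, Fin.snoc_castSucc, hij]

theorem E_snoc_expand {s : ℕ} (ζ : ℂ) (e : Fin (s + 1) → ℕ) (u : Fin s → ℕ) :
    E ζ e (Fin.snoc u 0) =
      ∑ σ : Perm (Fin (s + 1)), ((Perm.sign σ : ℤ) : ℂ) * ∏ j : Fin s, ζ ^ (u j * e (σ j.castSucc)) := by
  rw [E_expand]
  refine Finset.sum_congr rfl fun σ _ => ?_
  rw [Fin.prod_univ_castSucc]
  simp

theorem sum_snoc_expand {s N : ℕ} (ζ ξ : ℂ) (e e' : Fin (s + 1) → ℕ) (χ : Fin N → ℂ) :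
    ∑ u : Fin s → Fin N, (∏ j, χ (u j)) * E ζ e (Fin.snoc (fun j => (u j : ℕ)) 0) *
        E ξ e' (Fin.snoc (fun j => (u j : ℕ)) 0) =
      ∑ σ : Perm (Fin (s + 1)), ∑ τ : Perm (Fin (s + 1)),
        ((Perm.sign σ : ℤ) : ℂ) * ((Perm.sign τ : ℤ) : ℂ) *
          ∏ j : Fin s, ∑ x : Fin N, χ x * ζ ^ ((x : ℕ) * e (σ j.castSucc)) *
            ξ ^ ((x : ℕ) * e' (τ j.castSucc)) := by
  have h : ∀ (σ τ : Perm (Fin (s + 1))),
      ∏ j : Fin s, ∑ x : Fin N, χ x * ζ ^ ((x : ℕ) * e (σ j.castSucc)) *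
            ξ ^ ((x : ℕ) * e' (τ j.castSucc)) =
      ∑ u : Fin s → Fin N, ∏ j : Fin s, (χ (u j) * ζ ^ ((u j : ℕ) * e (σ j.castSucc)) *
            ξ ^ ((u j : ℕ) * e' (τ j.castSucc))) := by
    intro σ τ
    rw [Finset.prod_univ_sum, Fintype.piFinset_univ]
  calc ∑ u : Fin s → Fin N, (∏ j, χ (u j)) * E ζ e (Fin.snoc (fun j => (u j : ℕ)) 0) *
        E ξ e' (Fin.snoc (fun j => (u j : ℕ)) 0)
      = ∑ u : Fin s → Fin N, ∑ σ : Perm (Fin (s + 1)), ∑ τ : Perm (Fin (s + 1)),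
          ((Perm.sign σ : ℤ) : ℂ) * ((Perm.sign τ : ℤ) : ℂ) *
          ∏ j : Fin s, (χ (u j) * ζ ^ ((u j : ℕ) * e (σ j.castSucc)) *
            ξ ^ ((u j : ℕ) * e' (τ j.castSucc))) := by
        refine Finset.sum_congr rfl fun u _ => ?_
        rw [E_snoc_expand, E_snoc_expand, mul_assoc, Finset.sum_mul_sum, Finset.mul_sum]
        refine Finset.sum_congr rfl fun σ _ => ?_
        rw [Finset.mul_sum]
        refine Finset.sum_congr rfl fun τ _ => ?_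
        simp only [Finset.prod_mul_distrib]
        ring
    _ = ∑ σ : Perm (Fin (s + 1)), ∑ τ : Perm (Fin (s + 1)), ∑ u : Fin s → Fin N,
          ((Perm.sign σ : ℤ) : ℂ) * ((Perm.sign τ : ℤ) : ℂ) *
          ∏ j : Fin s, (χ (u j) * ζ ^ ((u j : ℕ) * e (σ j.castSucc)) *
            ξ ^ ((u j : ℕ) * e' (τ j.castSucc))) := by
        rw [Finset.sum_comm]
        refine Finset.sum_congr rfl fun σ _ => ?_
        rw [Finset.sum_comm]
    _ = _ := by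
        refine Finset.sum_congr rfl fun σ _ => Finset.sum_congr rfl fun τ _ => ?_
        rw [h σ τ, Finset.mul_sum]

theorem sum_zpow_eq_zero {N : ℕ} [NeZero N] (ζ : ℂ) (hζ : IsPrimitiveRoot ζ N) (c : ℤ)
    (hc : ¬ (N : ℤ) ∣ c) : ∑ x : Fin N, ζ ^ ((x : ℤ) * c) = 0 := by
  have h1 : ζ ^ c ≠ 1 := by
    intro h
    exact hc ((hζ.zpow_eq_one_iff_dvd c).mp h)
  have h2 : ∑ x : Fin N, ζ ^ ((x : ℤ) * c) = ∑ x ∈ Finset.range N, (ζ ^ c) ^ x := by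
    rw [Finset.sum_range]
    refine Finset.sum_congr rfl fun x _ => ?_
    rw [← zpow_natCast, ← _root_.zpow_mul, mul_comm]
  rw [h2]
  have h3 := geom_sum_mul (ζ ^ c) N
  have h4 : (ζ ^ c) ^ N = 1 := by
    rw [← zpow_natCast, ← _root_.zpow_mul, mul_comm, _root_.zpow_mul, zpow_natCast, hζ.pow_eq_one, _root_.one_zpow]
  rw [h4, sub_self] at h3
  rcases mul_eq_zero.mp h3 with h | h
  · exact h
  · exact absurd (sub_eq_zero.mp h) h1

theorem sum_zpow_eq_card {N : ℕ} (ζ : ℂ) (hζ : IsPrimitiveRoot ζ N) (c : ℤ)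
    (hc : (N : ℤ) ∣ c) : ∑ x : Fin N, ζ ^ ((x : ℤ) * c) = N := by
  have h1 : ζ ^ c = 1 := (hζ.zpow_eq_one_iff_dvd c).mpr hc
  have : ∀ x : Fin N, ζ ^ ((x : ℤ) * c) = 1 := by
    intro x
    rw [mul_comm, _root_.zpow_mul, h1, _root_.one_zpow]
  simp [this]

end Groth.Agent.Lib.Verlinde23
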