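import Groth.Agent.Lib.Verlinde23c

set_option autoImplicit false
open Finset Matrix Equiv

namespace Groth.Agent.Lib.Verlinde23

theorem zpow_combine (ζ : ℂ) (hζ : ζ ≠ 0) (m : ℤ) (x a b : ℕ) :
    ζ ^ (-(m * (x : ℤ))) * ζ ^ (x * a) * ζ⁻¹ ^ (x * b) = ζ ^ ((x : ℤ) * ((a : ℤ) - b - m)) := by
  rw [inv_pow, ← zpow_natCast ζ (x * a), ← zpow_natCast ζ (x * b), ← _root_.zpow_neg, ← zpow_add₀ hζ,
    ← zpow_add₀ hζ]
  congr 1
  push_cast
  ring

theorem perm_eq_of_castSucc {s : ℕ} (σ τ : Perm (Fin (s + 1)))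
    (h : ∀ j : Fin s, σ j.castSucc = τ j.castSucc) : σ = τ := by
  have hlast : σ (Fin.last s) = τ (Fin.last s) := by
    obtain ⟨y, hy⟩ : ∃ y, τ y = σ (Fin.last s) := τ.surjective _
    induction y using Fin.lastCases with
    | last => exact hy.symm
    | cast j =>
      rw [← h j] at hy
      exact absurd (σ.injective hy) (Fin.castSucc_lt_last j).ne
  ext x
  induction x using Fin.lastCases with
  | last => rw [hlast]
  | cast j => rw [h j]

theorem sum_DSet_norm {s N : ℕ} [NeZero N] (ζ : ℂ) (hζ : IsPrimitiveRoot ζ N)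
    (a : Fin (s + 1) → ℕ) (ha : StrictAnti a) (haN : ∀ i, a i < N) :
    ∑ v ∈ DSet s N, E ζ a (fun j => (v j : ℕ)) * E ζ⁻¹ a (fun j => (v j : ℕ)) =
      ((s + 1 : ℕ) : ℂ) * (N : ℂ) ^ s := by
  have hζ0 : ζ ≠ 0 := hζ.ne_zero (NeZero.ne N)
  have key := factorial_mul_sum_DSet (s := s) (N := N)
    (fun w => E ζ a w * E ζ⁻¹ a w) ?_ ?_
  · have h2 : ∑ u : Fin s → Fin N, E ζ a (Fin.snoc (fun j => (u j : ℕ)) 0) *
        E ζ⁻¹ a (Fin.snoc (fun j => (u j : ℕ)) 0) = ((s + 1).factorial : ℂ) * (N : ℂ) ^ s := by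
      have := sum_snoc_expand (s := s) (N := N) ζ ζ⁻¹ a a (fun _ => 1)
      simp only [Finset.prod_const_one, one_mul] at this
      rw [this]
      have hin : ∀ (σ τ : Perm (Fin (s + 1))),
          ((Perm.sign σ : ℤ) : ℂ) * ((Perm.sign τ : ℤ) : ℂ) *
            ∏ j : Fin s, ∑ x : Fin N, ζ ^ ((x : ℕ) * a (σ j.castSucc)) *
              ζ⁻¹ ^ ((x : ℕ) * a (τ j.castSucc)) = if σ = τ then (N : ℂ) ^ s else 0 := by
        intro σ τ
        have hx : ∀ j : Fin s, ∑ x : Fin N, ζ ^ ((x : ℕ) * a (σ j.castSucc)) *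
              ζ⁻¹ ^ ((x : ℕ) * a (τ j.castSucc)) =
            ∑ x : Fin N, ζ ^ (((x : ℕ) : ℤ) * ((a (σ j.castSucc) : ℤ) - a (τ j.castSucc))) := by
          intro j
          refine Finset.sum_congr rfl fun x _ => ?_
          have := zpow_combine ζ hζ0 0 x (a (σ j.castSucc)) (a (τ j.castSucc))
          simpa using this
        by_cases hστ : σ = τ
        · subst hστ
          rw [if_pos rfl, sign_mul_sign, one_mul]
          have : ∀ j : Fin s, ∑ x : Fin N, ζ ^ ((x : ℕ) * a (σ j.castSucc)) *
              ζ⁻¹ ^ ((x : ℕ) * a (σ j.castSucc)) = (N : ℂ) := by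
            intro j
            rw [hx j]
            simp
          rw [Finset.prod_congr rfl (fun j _ => this j)]
          simp
        · rw [if_neg hστ]
          have : ∃ j : Fin s, σ j.castSucc ≠ τ j.castSucc := by
            by_contra hcon
            push Not at hcon
            exact hστ (perm_eq_of_castSucc σ τ hcon)
          obtain ⟨j, hj⟩ := this
          rw [Finset.prod_eq_zero (Finset.mem_univ j), mul_zero]
          rw [hx j]
          apply sum_zpow_eq_zero ζ hζ
          intro hdvd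
          have h1 : (a (σ j.castSucc) : ℤ) = a (τ j.castSucc) := by
            have hlt1 := haN (σ j.castSucc)
            have hlt2 := haN (τ j.castSucc)
            obtain ⟨q, hq⟩ := hdvd
            have : q = 0 := by
              by_contra hq0
              have : (1 : ℤ) ≤ |q| := Int.one_le_abs hq0
              have h3 : |(a (σ j.castSucc) : ℤ) - a (τ j.castSucc)| = (N : ℤ) * |q| := by
                rw [hq, abs_mul, Nat.abs_cast]
              have h4 : |(a (σ j.castSucc) : ℤ) - a (τ j.castSucc)| < N := by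
                rw [abs_lt]; constructor <;> omega
              nlinarith
            rw [this, mul_zero] at hq
            linarith
          exact hj (ha.injective (by exact_mod_cast h1))
      simp only [hin]
      simp [Finset.sum_ite_eq, Fintype.card_perm]
    rw [h2] at key
    have hs : ((s.factorial : ℕ) : ℂ) ≠ 0 := by exact_mod_cast (Nat.factorial_pos s).ne'
    apply mul_left_cancel₀ hs
    rw [key, Nat.factorial_succ]
    push_cast
    ring
  · intro w π
    rw [E_comp_right, E_comp_right]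
    have := sign_mul_sign π
    linear_combination (E ζ a w * E ζ⁻¹ a w) * this
  · rintro w ⟨i, j, hij, hw⟩
    rw [E_eq_zero ζ a w hij (by rw [hw]), zero_mul]

end Groth.Agent.Lib.Verlinde23
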