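import Groth.Agent.Lib.Verlinde23d

set_option autoImplicit false
open Finset Matrix Equiv

namespace Groth.Agent.Lib.Verlinde23

theorem comb_lemma {s N : ℕ} [NeZero N] (a b : Fin (s + 1) → ℕ) (ha : StrictAnti a)
    (hb : StrictAnti b) (haN : ∀ i, a i < N) (hbN : ∀ i, b i < N) (σ τ : Perm (Fin (s + 1)))
    (m : ℤ) (hm : ((∑ i, a i : ℕ) : ℤ) - ((∑ i, b i : ℕ) : ℤ) = ((s : ℤ) + 1) * m)
    (hdvd : ∀ j : Fin s, (N : ℤ) ∣ (a (σ j.castSucc) : ℤ) - b (τ j.castSucc) - m) :
    ∃ c : ℤ, ∀ i, (a i : ℤ) - b i = c := by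
  have hN : (0 : ℤ) < N := by exact_mod_cast Nat.pos_of_ne_zero (NeZero.ne N)
  -- Step 1: divisibility for all j
  have hsum0 : ∑ j : Fin (s + 1), ((a (σ j) : ℤ) - b (τ j) - m) = 0 := by
    rw [Finset.sum_sub_distrib, Finset.sum_sub_distrib,
      Equiv.sum_comp σ (fun i => (a i : ℤ)), Equiv.sum_comp τ (fun i => (b i : ℤ))]
    simp only [Finset.sum_const, Finset.card_univ, Fintype.card_fin, nsmul_eq_mul]
    push_cast at hm ⊢
    linarith
  have hall : ∀ j : Fin (s + 1), (N : ℤ) ∣ (a (σ j) : ℤ) - b (τ j) - m := by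
    intro j
    induction j using Fin.lastCases with
    | cast j => exact hdvd j
    | last =>
      rw [Fin.sum_univ_castSucc] at hsum0
      have : (a (σ (Fin.last s)) : ℤ) - b (τ (Fin.last s)) - m =
          - ∑ j : Fin s, ((a (σ j.castSucc) : ℤ) - b (τ j.castSucc) - m) := by linarith
      rw [this]
      exact (Finset.dvd_sum fun j _ => hdvd j).neg_right
  -- Step 2: π
  set π : Perm (Fin (s + 1)) := τ * σ⁻¹ with hπ
  have hπ' : ∀ i, π i = τ (σ⁻¹ i) := by
    intro i; simp [hπ, Perm.mul_apply]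
  have hall' : ∀ i : Fin (s + 1), (N : ℤ) ∣ (a i : ℤ) - b (π i) - m := by
    intro i
    have := hall (σ⁻¹ i)
    rw [hπ']
    simpa using this
  -- Step 3
  set m₀ : ℤ := m % N with hm₀
  have hm₀0 : 0 ≤ m₀ := Int.emod_nonneg _ hN.ne'
  have hm₀N : m₀ < N := Int.emod_lt_of_pos _ hN
  have hmm : (N : ℤ) ∣ m - m₀ := Int.dvd_self_sub_emod
  set d : Fin (s + 1) → ℤ := fun i => (a i : ℤ) - b (π i) - m₀ with hd
  have hd_dvd : ∀ i, (N : ℤ) ∣ d i := by
    intro i
    have : d i = ((a i : ℤ) - b (π i) - m) + (m - m₀) := by simp only [hd]; ring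
    rw [this]
    exact dvd_add (hall' i) hmm
  have hd_cases : ∀ i, d i = 0 ∨ d i = -N := by
    intro i
    obtain ⟨q, hq⟩ := hd_dvd i
    have h1 := haN i
    have h2 := hbN (π i)
    have hlo : -(2 * (N : ℤ)) < d i := by simp only [hd]; omega
    have hhi : d i < N := by simp only [hd]; omega
    rw [hq] at hlo hhi
    have hq1 : q < 1 := by
      by_contra hcon
      push Not at hcon
      nlinarith
    have hq2 : -2 < q := by
      by_contra hcon
      push Not at hcon
      nlinarith
    have : q = 0 ∨ q = -1 := by omega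
    rcases this with h | h
    · left; rw [hq, h, mul_zero]
    · right; rw [hq, h]; ring
  -- Step 4
  have hsumd : ∑ i, d i = ((s : ℤ) + 1) * (m - m₀) := by
    simp only [hd]
    rw [Finset.sum_sub_distrib, Finset.sum_sub_distrib,
      Equiv.sum_comp π (fun i => (b i : ℤ))]
    simp only [Finset.sum_const, Finset.card_univ, Fintype.card_fin, nsmul_eq_mul]
    push_cast at hm ⊢
    linarith
  obtain ⟨q, hq⟩ := hmm
  have hconst : (∀ i, d i = 0) ∨ (∀ i, d i = -N) := by
    by_contra hcon
    push Not at hcon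
    obtain ⟨⟨i₁, h₁⟩, ⟨i₂, h₂⟩⟩ := hcon
    have h₁' : d i₁ = -N := (hd_cases i₁).resolve_left h₁
    have h₂' : d i₂ = 0 := (hd_cases i₂).resolve_right h₂
    have hle : ∀ i, d i ≤ 0 := by
      intro i; rcases hd_cases i with h | h <;> rw [h] <;> linarith
    have hge : ∀ i, -(N : ℤ) ≤ d i := by
      intro i; rcases hd_cases i with h | h <;> rw [h] <;> linarith
    have hup : ∑ i, d i ≤ -N := by
      rw [← Finset.add_sum_erase _ _ (Finset.mem_univ i₁), h₁']
      have : ∑ i ∈ Finset.univ.erase i₁, d i ≤ 0 := Finset.sum_nonpos fun i _ => hle i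
      linarith
    have hlow : -((s : ℤ) * N) ≤ ∑ i, d i := by
      rw [← Finset.add_sum_erase _ _ (Finset.mem_univ i₂), h₂', zero_add]
      have : ∑ i ∈ Finset.univ.erase i₂, (-(N : ℤ)) ≤ ∑ i ∈ Finset.univ.erase i₂, d i :=
        Finset.sum_le_sum fun i _ => hge i
      rw [Finset.sum_const, Finset.card_erase_of_mem (Finset.mem_univ _), Finset.card_univ,
        Fintype.card_fin] at this
      simp only [Nat.add_sub_cancel, nsmul_eq_mul] at this
      linarith
    rw [hsumd, hq] at hup hlow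
    have hs0 : (0 : ℤ) ≤ s := Int.natCast_nonneg s
    have hq1 : q < 0 := by
      by_contra hcon
      push Not at hcon
      have : 0 ≤ ((s : ℤ) + 1) * ((N : ℤ) * q) := by positivity
      linarith
    have hq2 : -1 < q := by
      by_contra hcon
      push Not at hcon
      have : ((s : ℤ) + 1) * ((N : ℤ) * q) ≤ -(((s : ℤ) + 1) * N) := by nlinarith
      nlinarith
    omega
  have hconst' : ∃ c' : ℤ, ∀ i, (a i : ℤ) - b (π i) = c' := by
    rcases hconst with h | h
    · exact ⟨m₀, fun i => by have := h i; simp only [hd] at this; linarith⟩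
    · exact ⟨m₀ - N, fun i => by have := h i; simp only [hd] at this; linarith⟩
  obtain ⟨c', hc'⟩ := hconst'
  -- Step 5
  have hπ1 : π = 1 := by
    rw [← Equiv.Perm.monotone_iff]
    apply StrictMono.monotone
    intro i j hij
    have h1 : a j < a i := ha hij
    have h2 : (b (π j) : ℤ) < b (π i) := by
      have := hc' i
      have := hc' j
      have : (a j : ℤ) < a i := by exact_mod_cast h1
      linarith
    exact (StrictAnti.lt_iff_gt hb).mp (by exact_mod_cast h2)
  refine ⟨c', fun i => ?_⟩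
  have := hc' i
  rw [hπ1] at this
  simpa using this

end Groth.Agent.Lib.Verlinde23
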