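import Groth.Agent.Lib.Verlinde23e

set_option autoImplicit false
open Finset Matrix Equiv

namespace Groth.Agent.Lib.Verlinde23

/-- the twisted summand -/
noncomputable def G {s : ℕ} (ω : ℂ) (a b : Fin (s + 1) → ℕ) (w : Fin (s + 1) → ℕ) : ℂ :=
  ω ^ (-((((∑ i, a i : ℕ) : ℤ) - ((∑ i, b i : ℕ) : ℤ)) * ((∑ j, w j : ℕ) : ℤ))) *
    E (ω ^ (s + 1)) a w * E (ω ^ (s + 1))⁻¹ b w

theorem G_perm {s : ℕ} (ω : ℂ) (a b : Fin (s + 1) → ℕ) (w : Fin (s + 1) → ℕ)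
    (π : Perm (Fin (s + 1))) : G ω a b (w ∘ π) = G ω a b w := by
  unfold G
  rw [E_comp_right, E_comp_right]
  have h1 : ∑ j, (w ∘ π) j = ∑ j, w j := Equiv.sum_comp π w
  rw [h1]
  have := sign_mul_sign π
  linear_combination (ω ^ (-((((∑ i, a i : ℕ) : ℤ) - ((∑ i, b i : ℕ) : ℤ)) * ((∑ j, w j : ℕ) : ℤ))) *
    E (ω ^ (s + 1)) a w * E (ω ^ (s + 1))⁻¹ b w) * this

theorem G_zero {s : ℕ} (ω : ℂ) (a b : Fin (s + 1) → ℕ) (w : Fin (s + 1) → ℕ)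
    (h : ∃ i j, i ≠ j ∧ w i = w j) : G ω a b w = 0 := by
  obtain ⟨i, j, hij, hw⟩ := h
  unfold G
  rw [E_eq_zero _ a w hij (by rw [hw]), mul_zero, zero_mul]

theorem G_add_const {s : ℕ} (ω : ℂ) (hω : ω ≠ 0) (a b : Fin (s + 1) → ℕ) (w : Fin (s + 1) → ℕ)
    (c : ℕ) : G ω a b (fun j => w j + c) = G ω a b w := by
  unfold G
  rw [E_add_const, E_add_const]
  have h1 : ∑ j, (w j + c) = ∑ j, w j + (s + 1) * c := by
    rw [Finset.sum_add_distrib]; simp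
  rw [h1]
  set A : ℤ := ((∑ i, a i : ℕ) : ℤ) with hA
  set B : ℤ := ((∑ i, b i : ℕ) : ℤ) with hB
  set S : ℤ := ((∑ j, w j : ℕ) : ℤ) with hS
  have e1 : (ω ^ (s + 1)) ^ (c * ∑ i, a i) = ω ^ (((s : ℤ) + 1) * c * A) := by
    rw [← pow_mul, ← zpow_natCast]; congr 1; rw [hA]; push_cast; ring
  have e2 : (ω ^ (s + 1))⁻¹ ^ (c * ∑ i, b i) = ω ^ (-(((s : ℤ) + 1) * c * B)) := by
    rw [inv_pow, ← pow_mul, ← zpow_natCast, ← _root_.zpow_neg]; congr 2; rw [hB]; push_cast; ring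
  have e3 : ω ^ (-((A - B) * ((∑ j, w j + (s + 1) * c : ℕ) : ℤ))) =
      ω ^ (-((A - B) * S)) * ω ^ (-((A - B) * (((s : ℤ) + 1) * c))) := by
    rw [← zpow_add₀ hω]; congr 1; rw [hS]; push_cast; ring
  rw [e1, e2, e3]
  have e4 : ω ^ (-((A - B) * (((s : ℤ) + 1) * c))) * ω ^ (((s : ℤ) + 1) * c * A) *
      ω ^ (-(((s : ℤ) + 1) * c * B)) = 1 := by
    rw [← zpow_add₀ hω, ← zpow_add₀ hω]
    have : -((A - B) * (((s : ℤ) + 1) * c)) + ((s : ℤ) + 1) * c * A + -(((s : ℤ) + 1) * c * B) = 0 := by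
      ring
    rw [this, zpow_zero]
  linear_combination (ω ^ (-((A - B) * S)) * E (ω ^ (s + 1)) a w * E (ω ^ (s + 1))⁻¹ b w) * e4

theorem G_add_single {s N : ℕ} (ω : ℂ) (hω : ω ≠ 0) (hωN : (ω ^ (s + 1)) ^ N = 1)
    (a b : Fin (s + 1) → ℕ) (w : Fin (s + 1) → ℕ) (j₀ : Fin (s + 1)) :
    G ω a b (fun j => w j + if j = j₀ then N else 0) =
      ω ^ (-((((∑ i, a i : ℕ) : ℤ) - ((∑ i, b i : ℕ) : ℤ)) * (N : ℤ))) * G ω a b w := by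
  unfold G
  have h1 : ∑ j, (w j + if j = j₀ then N else 0) = ∑ j, w j + N := by
    rw [Finset.sum_add_distrib]; simp
  have hinv : ((ω ^ (s + 1))⁻¹) ^ N = 1 := by rw [inv_pow, hωN, inv_one]
  have h2 : E (ω ^ (s + 1)) a (fun j => w j + if j = j₀ then N else 0) = E (ω ^ (s + 1)) a w := by
    apply E_congr
    intro j
    split_ifs
    · rw [pow_add, hωN, mul_one]
    · rw [add_zero]
  have h3 : E (ω ^ (s + 1))⁻¹ b (fun j => w j + if j = j₀ then N else 0) =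
      E (ω ^ (s + 1))⁻¹ b w := by
    apply E_congr
    intro j
    split_ifs
    · rw [pow_add, hinv, mul_one]
    · rw [add_zero]
  rw [h1, h2, h3]
  have e3 : ω ^ (-((((∑ i, a i : ℕ) : ℤ) - ((∑ i, b i : ℕ) : ℤ)) * ((∑ j, w j + N : ℕ) : ℤ))) =
      ω ^ (-((((∑ i, a i : ℕ) : ℤ) - ((∑ i, b i : ℕ) : ℤ)) * (N : ℤ))) *
      ω ^ (-((((∑ i, a i : ℕ) : ℤ) - ((∑ i, b i : ℕ) : ℤ)) * ((∑ j, w j : ℕ) : ℤ))) := by
    rw [← zpow_add₀ hω]; congr 1; push_cast; ring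
  rw [e3]
  ring

end Groth.Agent.Lib.Verlinde23
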