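import Groth.Agent.Lib.Verlinde23f

set_option autoImplicit false
open Finset Matrix Equiv

namespace Groth.Agent.Lib.Verlinde23

theorem sum_snoc_nat {s : ℕ} (u : Fin s → ℕ) :
    ∑ j, (Fin.snoc u 0 : Fin (s + 1) → ℕ) j = ∑ j, u j := by
  rw [Fin.sum_univ_castSucc]
  simp

theorem sum_DSet_G_of_dvd {s N : ℕ} [NeZero N] (ω : ℂ) (hω : IsPrimitiveRoot ω ((s + 1) * N))
    (a b : Fin (s + 1) → ℕ) (ha : StrictAnti a) (hb : StrictAnti b)
    (haN : ∀ i, a i < N) (hbN : ∀ i, b i < N)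
    (hab : ¬ ∃ c : ℤ, ∀ i, (a i : ℤ) - b i = c)
    (m : ℤ) (hm : ((∑ i, a i : ℕ) : ℤ) - ((∑ i, b i : ℕ) : ℤ) = ((s : ℤ) + 1) * m) :
    ∑ v ∈ DSet s N, G ω a b (fun j => (v j : ℕ)) = 0 := by
  have hpos : 0 < (s + 1) * N := Nat.mul_pos (Nat.succ_pos s) (Nat.pos_of_ne_zero (NeZero.ne N))
  have hω0 : ω ≠ 0 := hω.ne_zero hpos.ne'
  set ζ : ℂ := ω ^ (s + 1) with hζdef
  have hζ : IsPrimitiveRoot ζ N := hω.pow hpos rfl
  have hζ0 : ζ ≠ 0 := pow_ne_zero _ hω0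
  have key := factorial_mul_sum_DSet (s := s) (N := N) (G ω a b) (G_perm ω a b) (G_zero ω a b)
  set c : ℂ := ζ ^ (-m) with hc
  have hG : ∀ u : Fin s → Fin N, G ω a b (Fin.snoc (fun j => (u j : ℕ)) 0) =
      (∏ j, (fun x : Fin N => c ^ (x : ℕ)) (u j)) * E ζ a (Fin.snoc (fun j => (u j : ℕ)) 0) *
        E ζ⁻¹ b (Fin.snoc (fun j => (u j : ℕ)) 0) := by
    intro u
    unfold G
    rw [sum_snoc_nat, hm]
    congr 2
    rw [Finset.prod_pow_eq_pow_sum, hc, ← zpow_natCast (ζ ^ (-m)), ← _root_.zpow_mul, hζdef,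
      ← zpow_natCast ω (s + 1), ← _root_.zpow_mul]
    congr 1
    push_cast
    ring
  have hsum : ∑ u : Fin s → Fin N, G ω a b (Fin.snoc (fun j => (u j : ℕ)) 0) = 0 := by
    simp only [hG]
    refine (sum_snoc_expand ζ ζ⁻¹ a b (fun x : Fin N => c ^ (x : ℕ))).trans ?_
    apply Finset.sum_eq_zero
    intro σ _
    apply Finset.sum_eq_zero
    intro τ _
    have hex : ∃ j : Fin s, ¬ (N : ℤ) ∣ (a (σ j.castSucc) : ℤ) - b (τ j.castSucc) - m := by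
      by_contra hcon
      push Not at hcon
      exact hab (comb_lemma a b ha hb haN hbN σ τ m hm hcon)
    obtain ⟨j, hj⟩ := hex
    rw [Finset.prod_eq_zero (Finset.mem_univ j), mul_zero]
    have : ∀ x : Fin N, c ^ (x : ℕ) * ζ ^ ((x : ℕ) * a (σ j.castSucc)) *
        ζ⁻¹ ^ ((x : ℕ) * b (τ j.castSucc)) =
        ζ ^ (((x : ℕ) : ℤ) * ((a (σ j.castSucc) : ℤ) - b (τ j.castSucc) - m)) := by
      intro x
      rw [← zpow_combine ζ hζ0 m x]
      congr 2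
      rw [hc, ← zpow_natCast (ζ ^ (-m)), ← _root_.zpow_mul]
      congr 1
      ring
    rw [Finset.sum_congr rfl (fun x _ => this x)]
    exact sum_zpow_eq_zero ζ hζ _ hj
  rw [hsum] at key
  have hs : ((s.factorial : ℕ) : ℂ) ≠ 0 := by exact_mod_cast (Nat.factorial_pos s).ne'
  exact (mul_eq_zero.mp key).resolve_left hs

end Groth.Agent.Lib.Verlinde23
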