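import Groth.Agent.Lib.Verlinde23g

set_option autoImplicit false
open Finset Matrix Equiv

namespace Groth.Agent.Lib.Verlinde23

/-- rotation on the index set -/
def rot {s' N : ℕ} (v : Fin (s' + 2) → Fin N) : Fin (s' + 2) → Fin N :=
  Fin.cons (v (Fin.last (s' + 1)) - v (Fin.last s').castSucc)
    (fun j : Fin (s' + 1) => v j.castSucc - v (Fin.last s').castSucc)

theorem rot_comp_finRotate {s' N : ℕ} (v : Fin (s' + 2) → Fin N) (i : Fin (s' + 2)) :
    rot v (finRotate (s' + 2) i) = v i - v (Fin.last s').castSucc := by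
  induction i using Fin.lastCases with
  | last => rw [finRotate_last]; rfl
  | cast j =>
    have : finRotate (s' + 2) j.castSucc = j.succ := by
      rw [finRotate_apply, Fin.coeSucc_eq_succ]
    rw [this]
    simp [rot]

theorem DSet_ge {s' N : ℕ} [NeZero N] (v : Fin (s' + 2) → Fin N) (hv : v ∈ DSet (s' + 1) N)
    (j : Fin (s' + 1)) : v (Fin.last s').castSucc ≤ v j.castSucc := by
  rw [mem_DSet] at hv
  exact hv.1.antitone (by
    rw [Fin.le_def]
    simp only [Fin.val_castSucc, Fin.val_last]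
    exact Nat.lt_succ_iff.mp j.2)

theorem DSet_pos {s' N : ℕ} [NeZero N] (v : Fin (s' + 2) → Fin N) (hv : v ∈ DSet (s' + 1) N) :
    v (Fin.last (s' + 1)) < v (Fin.last s').castSucc := by
  rw [mem_DSet] at hv
  exact hv.1 (Fin.castSucc_lt_last _)

theorem rot_mem {s' N : ℕ} [NeZero N] (v : Fin (s' + 2) → Fin N) (hv : v ∈ DSet (s' + 1) N) :
    rot v ∈ DSet (s' + 1) N := by
  have hv' := (mem_DSet v).mp hv
  rw [mem_DSet]
  constructor
  · rw [Fin.strictAnti_iff_succ_lt]
    intro i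
    have hc := DSet_pos v hv
    induction i using Fin.cases with
    | zero =>
      simp only [rot, Fin.cons_succ, Fin.castSucc_zero, Fin.cons_zero]
      have h0 : v (Fin.last s').castSucc ≤ v 0 := by simpa using DSet_ge v hv 0
      rw [Fin.lt_def, Fin.sub_val_of_le h0, Fin.coe_sub_iff_lt.mpr hc]
      have := (v 0).2
      have h2 : (v (Fin.last s').castSucc : ℕ) ≤ v 0 := h0
      omega
    | succ i' =>
      have e : (i'.succ).castSucc = (i'.castSucc).succ := rfl
      rw [e]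
      simp only [rot, Fin.cons_succ]
      rw [Fin.lt_def, Fin.sub_val_of_le (DSet_ge v hv _), Fin.sub_val_of_le (DSet_ge v hv _)]
      have h1 : v i'.succ.castSucc < v i'.castSucc.castSucc := hv'.1 (by
        rw [Fin.lt_def]; simp)
      have h2 : (v (Fin.last s').castSucc : ℕ) ≤ v i'.succ.castSucc := DSet_ge v hv _
      rw [Fin.lt_def] at h1
      omega
  · have : Fin.last (s' + 1) = (Fin.last s').succ := rfl
    rw [this]
    simp [rot]

theorem rot_injective {s' N : ℕ} [NeZero N] (v v' : Fin (s' + 2) → Fin N)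
    (hv : v ∈ DSet (s' + 1) N) (hv' : v' ∈ DSet (s' + 1) N) (h : rot v = rot v') : v = v' := by
  have h0 := congrFun h 0
  simp only [rot, Fin.cons_zero] at h0
  rw [((mem_DSet v).mp hv).2, ((mem_DSet v').mp hv').2, zero_sub, zero_sub, neg_inj] at h0
  ext i
  congr 1
  have := congrFun h (finRotate (s' + 2) i)
  rw [rot_comp_finRotate, rot_comp_finRotate, h0] at this
  exact sub_left_injective this

theorem rot_nat {s' N : ℕ} [NeZero N] (v : Fin (s' + 2) → Fin N) (hv : v ∈ DSet (s' + 1) N) :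
    (fun i => ((fun j => ((rot v) j : ℕ)) ∘ finRotate (s' + 2)) i + (v (Fin.last s').castSucc : ℕ)) =
      fun i => (v i : ℕ) + if i = Fin.last (s' + 1) then N else 0 := by
  ext i
  simp only [Function.comp_apply]
  rw [rot_comp_finRotate]
  have hc := DSet_pos v hv
  induction i using Fin.lastCases with
  | last =>
    rw [if_pos rfl, Fin.coe_sub_iff_lt.mpr hc]
    have h0 : (v (Fin.last (s' + 1)) : ℕ) = 0 := by
      rw [((mem_DSet v).mp hv).2]; simp
    have := (v (Fin.last s').castSucc).2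
    omega
  | cast j =>
    rw [if_neg (Fin.castSucc_lt_last j).ne, Fin.sub_val_of_le (DSet_ge v hv j)]
    have h2 : (v (Fin.last s').castSucc : ℕ) ≤ v j.castSucc := DSet_ge v hv j
    omega

theorem G_rot {s' N : ℕ} [NeZero N] (ω : ℂ) (hω : ω ≠ 0) (hωN : (ω ^ (s' + 1 + 1)) ^ N = 1)
    (a b : Fin (s' + 2) → ℕ) (v : Fin (s' + 2) → Fin N) (hv : v ∈ DSet (s' + 1) N) :
    G ω a b (fun j => ((rot v) j : ℕ)) =
      ω ^ (-((((∑ i, a i : ℕ) : ℤ) - ((∑ i, b i : ℕ) : ℤ)) * (N : ℤ))) *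
        G ω a b (fun j => (v j : ℕ)) := by
  rw [← G_perm ω a b (fun j => ((rot v) j : ℕ)) (finRotate (s' + 2)),
    ← G_add_const ω hω a b _ (v (Fin.last s').castSucc : ℕ), rot_nat v hv,
    G_add_single ω hω hωN]

theorem sum_DSet_G_of_not_dvd {s N : ℕ} [NeZero N] (ω : ℂ) (hω : IsPrimitiveRoot ω ((s + 1) * N))
    (a b : Fin (s + 1) → ℕ)
    (hnd : ¬ ((s : ℤ) + 1) ∣ ((∑ i, a i : ℕ) : ℤ) - ((∑ i, b i : ℕ) : ℤ)) :
    ∑ v ∈ DSet s N, G ω a b (fun j => (v j : ℕ)) = 0 := by
  have hpos : 0 < (s + 1) * N := Nat.mul_pos (Nat.succ_pos s) (Nat.pos_of_ne_zero (NeZero.ne N))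
  have hω0 : ω ≠ 0 := hω.ne_zero hpos.ne'
  have hωN : (ω ^ (s + 1)) ^ N = 1 := by rw [← pow_mul]; exact hω.pow_eq_one
  rcases s with _ | s'
  · exfalso
    apply hnd
    simp
  · set θ : ℂ := ω ^ (-((((∑ i, a i : ℕ) : ℤ) - ((∑ i, b i : ℕ) : ℤ)) * (N : ℤ))) with hθ
    have hθ1 : θ ≠ 1 := by
      intro h
      rw [hθ, hω.zpow_eq_one_iff_dvd] at h
      apply hnd
      rw [dvd_neg] at h
      have hN0 : (N : ℤ) ≠ 0 := by exact_mod_cast NeZero.ne N
      push_cast at h ⊢
      rw [mul_comm _ (N : ℤ), mul_comm _ (N : ℤ)] at h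
      exact (mul_dvd_mul_iff_left hN0).mp h
    have hsum : ∑ v ∈ DSet (s' + 1) N, G ω a b (fun j => ((rot v) j : ℕ)) =
        ∑ v ∈ DSet (s' + 1) N, G ω a b (fun j => (v j : ℕ)) := by
      apply Finset.sum_nbij rot
      · intro v hv; exact rot_mem v hv
      · intro v hv v' hv' h; exact rot_injective v v' hv hv' h
      · apply Finset.surjOn_of_injOn_of_card_le rot
        · intro v hv; exact rot_mem v hv
        · intro v hv v' hv' h; exact rot_injective v v' hv hv' h
        · exact le_rfl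
      · intro v _; rfl
    have hsum2 : ∑ v ∈ DSet (s' + 1) N, G ω a b (fun j => ((rot v) j : ℕ)) =
        θ * ∑ v ∈ DSet (s' + 1) N, G ω a b (fun j => (v j : ℕ)) := by
      rw [Finset.mul_sum]
      exact Finset.sum_congr rfl fun v hv => G_rot ω hω0 hωN a b v hv
    rw [hsum] at hsum2
    have : (1 - θ) * ∑ v ∈ DSet (s' + 1) N, G ω a b (fun j => (v j : ℕ)) = 0 := by
      rw [sub_mul, one_mul, ← hsum2, sub_self]
    exact (mul_eq_zero.mp this).resolve_left (sub_ne_zero.mpr (Ne.symm hθ1))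

end Groth.Agent.Lib.Verlinde23
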