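import Groth.Agent.Lib.Verlinde23h

set_option autoImplicit false
open Finset Matrix Equiv

namespace Groth.Agent.Lib.Verlinde23

theorem sum_DSet_G_eq_zero {s N : ℕ} [NeZero N] (ω : ℂ) (hω : IsPrimitiveRoot ω ((s + 1) * N))
    (a b : Fin (s + 1) → ℕ) (ha : StrictAnti a) (hb : StrictAnti b)
    (haN : ∀ i, a i < N) (hbN : ∀ i, b i < N)
    (hab : ¬ ∃ c : ℤ, ∀ i, (a i : ℤ) - b i = c) :
    ∑ v ∈ DSet s N, G ω a b (fun j => (v j : ℕ)) = 0 := by
  by_cases hd : ((s : ℤ) + 1) ∣ ((∑ i, a i : ℕ) : ℤ) - ((∑ i, b i : ℕ) : ℤ)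
  · obtain ⟨m, hm⟩ := hd
    exact sum_DSet_G_of_dvd ω hω a b ha hb haN hbN hab m hm
  · exact sum_DSet_G_of_not_dvd ω hω a b hd

/-- the standard primitive root -/
noncomputable def zeta (N : ℕ) : ℂ := Complex.exp (2 * Real.pi * Complex.I / N)

theorem zeta_isPrimitiveRoot (N : ℕ) (hN : N ≠ 0) : IsPrimitiveRoot (zeta N) N :=
  Complex.isPrimitiveRoot_exp N hN

theorem zeta_pow (N : ℕ) (n : ℕ) :
    zeta N ^ n = Complex.exp (2 * Real.pi * Complex.I * (n : ℂ) / N) := by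
  unfold zeta
  rw [← Complex.exp_nat_mul]
  congr 1
  ring

theorem zeta_mul_pow (r N : ℕ) (hr : r ≠ 0) : zeta (r * N) ^ r = zeta N := by
  rw [zeta_pow]
  unfold zeta
  congr 1
  push_cast
  have : (r : ℂ) ≠ 0 := by exact_mod_cast hr
  field_simp

theorem norm_zeta (N : ℕ) : ‖zeta N‖ = 1 := by
  unfold zeta
  have : (2 * Real.pi * Complex.I / N : ℂ) = ((2 * Real.pi / N : ℝ) : ℂ) * Complex.I := by
    push_cast; ring
  rw [this, Complex.norm_exp_ofReal_mul_I]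

theorem zeta_pow_eq_exp_real (N : ℕ) (n : ℕ) :
    zeta N ^ n = Complex.exp (((2 * Real.pi * n / N : ℝ) : ℂ) * Complex.I) := by
  rw [zeta_pow]
  congr 1
  push_cast
  ring

theorem det_pow_eq_E {r : ℕ} (ζ : ℂ) (z : Fin r → ℂ) (w e : Fin r → ℕ) (hz : ∀ j, z j = ζ ^ w j) :
    (Matrix.of fun i j : Fin r => z j ^ (e i)).det = E ζ e w := by
  unfold E
  congr 1
  ext i j
  simp only [Matrix.of_apply, hz, pow_mul]

theorem P_eq {r : ℕ} (N : ℕ) (x : ℝ) (hx : x = N) (w : Fin r → ℕ) :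
    ((∏ p ∈ (Finset.univ : Finset (Fin r × Fin r)).filter (fun p => p.1 < p.2),
        ((2 : ℝ) * Real.sin (Real.pi * ((w p.1 : ℝ) - (w p.2 : ℝ)) / x)) ^ 2 : ℝ) : ℂ) =
      E (zeta N) (delta r) w * E (zeta N)⁻¹ (delta r) w := by
  rw [← E_conj_of_norm_one (zeta N) (norm_zeta N), Complex.mul_conj, normSq_E_delta,
    prod_filter_lt (fun i j => ((2 : ℝ) * Real.sin (Real.pi * ((w i : ℝ) - (w j : ℝ)) / x)) ^ 2)]
  congr 1
  refine Finset.prod_congr rfl fun i _ => Finset.prod_congr rfl fun j _ => ?_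
  rw [zeta_pow_eq_exp_real, zeta_pow_eq_exp_real, normSq_exp_sub_exp, hx]
  have : (2 * Real.pi * (w j : ℝ) / N - 2 * Real.pi * (w i : ℝ) / N) / 2 =
      -(Real.pi * ((w i : ℝ) - (w j : ℝ)) / N) := by ring
  rw [this, Real.sin_neg, mul_neg, neg_sq]

end Groth.Agent.Lib.Verlinde23
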