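import Groth.Agent.Lib.Verlinde23i

set_option autoImplicit false
open Finset Matrix Equiv

namespace Groth.Agent.Lib.Verlinde23

theorem strictAnti_gap {n : ℕ} (t : Fin n → ℕ) (ht : StrictAnti t) (i j : Fin n) (hij : i ≤ j) :
    t j + ((j : ℕ) - (i : ℕ)) ≤ t i := by
  have key : ∀ d : ℕ, ∀ h : (i : ℕ) + d < n, t ⟨(i : ℕ) + d, h⟩ + d ≤ t i := by
    intro d
    induction d with
    | zero => intro h; simp
    | succ d ih =>
      intro h
      have h' : (i : ℕ) + d < n := by omega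
      have h1 := ih h'
      have h2 : t ⟨(i : ℕ) + (d + 1), h⟩ < t ⟨(i : ℕ) + d, h'⟩ := ht (by rw [Fin.lt_def]; simp)
      omega
  have hj : (i : ℕ) + ((j : ℕ) - (i : ℕ)) = j := by
    have : (i : ℕ) ≤ j := hij
    omega
  have := key ((j : ℕ) - (i : ℕ)) (by rw [hj]; exact j.2)
  simpa [hj] using this

theorem delta_last (s : ℕ) : delta (s + 1) (Fin.last s) = 0 := by
  simp [delta]

theorem delta_val (s : ℕ) (i : Fin (s + 1)) : delta (s + 1) i = s - (i : ℕ) := by
  simp [delta]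

/-- reindexing antitone tuples by strictly antitone ones: `t = μ + δ`. -/
theorem sum_antitone_eq_sum_strictAnti {s K M : ℕ} (hK : 0 < K) (hM : M = K + s)
    (f : (Fin (s + 1) → ℕ) → ℂ) :
    ∑ μ ∈ (univ.filter fun μ : Fin (s + 1) → Fin K => Antitone μ), f (fun i => (μ i : ℕ)) =
      ∑ t ∈ (univ.filter fun t : Fin (s + 1) → Fin M => StrictAnti t),
        f (fun i => (t i : ℕ) - delta (s + 1) i) := by
  subst hM
  have hgap : ∀ t : Fin (s + 1) → Fin (K + s), StrictAnti t → ∀ i j : Fin (s + 1), i ≤ j →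
      (t j : ℕ) + ((j : ℕ) - (i : ℕ)) ≤ t i := by
    intro t ht i j hij
    exact strictAnti_gap (fun i => (t i : ℕ)) (fun a b hab => ht hab) i j hij
  have hlow : ∀ t : Fin (s + 1) → Fin (K + s), StrictAnti t → ∀ i, delta (s + 1) i ≤ (t i : ℕ) := by
    intro t ht i
    have := hgap t ht i (Fin.last s) (Fin.le_last i)
    rw [delta_val]
    simp only [Fin.val_last] at this
    omega
  have hhigh : ∀ t : Fin (s + 1) → Fin (K + s), StrictAnti t → ∀ i,
      (t i : ℕ) - delta (s + 1) i < K := by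
    intro t ht i
    have := hgap t ht 0 i (Fin.zero_le i)
    have h0 := (t 0).2
    have hi := i.2
    rw [delta_val]
    simp only [Fin.val_zero, Nat.sub_zero] at this
    omega
  refine Finset.sum_nbij'
    (fun μ => fun i => ⟨(μ i : ℕ) + delta (s + 1) i, by
      have := (μ i).2; have := i.2; rw [delta_val]; omega⟩)
    (fun t => fun i => ⟨((t i : ℕ) - delta (s + 1) i) % K, Nat.mod_lt _ hK⟩) ?_ ?_ ?_ ?_ ?_
  · intro μ hμ
    rw [Finset.mem_filter] at hμ ⊢
    refine ⟨Finset.mem_univ _, ?_⟩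
    intro i j hij
    have h1 : μ j ≤ μ i := hμ.2 hij.le
    rw [Fin.lt_def]
    simp only [delta_val]
    have := j.2
    rw [Fin.le_def] at h1
    rw [Fin.lt_def] at hij
    omega
  · intro t ht
    rw [Finset.mem_filter] at ht ⊢
    refine ⟨Finset.mem_univ _, ?_⟩
    intro i j hij
    rw [Fin.le_def]
    simp only
    rw [Nat.mod_eq_of_lt (hhigh t ht.2 i), Nat.mod_eq_of_lt (hhigh t ht.2 j)]
    have := hgap t ht.2 i j hij
    have h1 := hlow t ht.2 i
    have h2 := hlow t ht.2 j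
    simp only [delta_val] at h1 h2 ⊢
    have : (i : ℕ) ≤ j := hij
    omega
  · intro μ hμ
    funext i
    apply Fin.ext
    simp only
    rw [Nat.add_sub_cancel, Nat.mod_eq_of_lt (μ i).2]
  · intro t ht
    rw [Finset.mem_filter] at ht
    funext i
    apply Fin.ext
    simp only
    rw [Nat.mod_eq_of_lt (hhigh t ht.2 i), Nat.sub_add_cancel (hlow t ht.2 i)]
  · intro μ hμ
    congr 1
    funext i
    simp

theorem sum_antitone_last_eq_sum_DSet {s K M : ℕ} (hK : 0 < K) (hM : M = K + s)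
    (f : (Fin (s + 1) → ℕ) → ℂ) :
    ∑ μ ∈ (univ.filter fun μ : Fin (s + 1) → Fin K =>
        Antitone μ ∧ ∀ i : Fin (s + 1), (i : ℕ) = s + 1 - 1 → (μ i : ℕ) = 0), f (fun i => (μ i : ℕ)) =
      ∑ t ∈ DSet s M, f (fun i => (t i : ℕ) - delta (s + 1) i) := by
  classical
  have h1 : ∀ μ : Fin (s + 1) → Fin K,
      (∀ i : Fin (s + 1), (i : ℕ) = s + 1 - 1 → (μ i : ℕ) = 0) ↔ (μ (Fin.last s) : ℕ) = 0 := by
    intro μ
    constructor
    · intro h; exact h (Fin.last s) (by simp)
    · intro h i hi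
      have : i = Fin.last s := by apply Fin.ext; rw [hi]; simp
      rw [this, h]
  have h2 : ∀ t : Fin (s + 1) → Fin M,
      (∀ i : Fin (s + 1), (i : ℕ) = s + 1 - 1 → (t i : ℕ) = 0) ↔ (t (Fin.last s) : ℕ) = 0 := by
    intro μ
    constructor
    · intro h; exact h (Fin.last s) (by simp)
    · intro h i hi
      have : i = Fin.last s := by apply Fin.ext; rw [hi]; simp
      rw [this, h]
  set f' : (Fin (s + 1) → ℕ) → ℂ := fun w => if w (Fin.last s) = 0 then f w else 0 with hf'
  have e1 : ∑ μ ∈ (univ.filter fun μ : Fin (s + 1) → Fin K =>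
        Antitone μ ∧ ∀ i : Fin (s + 1), (i : ℕ) = s + 1 - 1 → (μ i : ℕ) = 0), f (fun i => (μ i : ℕ)) =
      ∑ μ ∈ (univ.filter fun μ : Fin (s + 1) → Fin K => Antitone μ), f' (fun i => (μ i : ℕ)) := by
    simp only [hf']
    rw [← Finset.sum_filter, Finset.filter_filter]
    apply Finset.sum_congr _ (fun _ _ => rfl)
    ext μ
    simp only [Finset.mem_filter, Finset.mem_univ, true_and, h1]
  have e2 : ∑ t ∈ DSet s M, f (fun i => (t i : ℕ) - delta (s + 1) i) =
      ∑ t ∈ (univ.filter fun t : Fin (s + 1) → Fin M => StrictAnti t),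
        f' (fun i => (t i : ℕ) - delta (s + 1) i) := by
    simp only [hf']
    rw [← Finset.sum_filter, Finset.filter_filter]
    apply Finset.sum_congr _ (fun _ _ => rfl)
    ext t
    unfold DSet
    simp only [Finset.mem_filter, Finset.mem_univ, true_and, h2, delta_last, Nat.sub_zero]
  rw [e1, e2]
  exact sum_antitone_eq_sum_strictAnti hK hM f'

theorem DSet_low {s M : ℕ} [NeZero M] (t : Fin (s + 1) → Fin M) (ht : StrictAnti t) (i : Fin (s + 1)) :
    delta (s + 1) i ≤ (t i : ℕ) := by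
  have := strictAnti_gap (fun i => (t i : ℕ)) (fun a b hab => ht hab) i (Fin.last s) (Fin.le_last i)
  rw [delta_val]
  simp only [Fin.val_last] at this
  omega

theorem strictAnti_high {s K M : ℕ} (hK : 0 < K) (hM : M = K + s) (t : Fin (s + 1) → Fin M) (ht : StrictAnti t)
    (i : Fin (s + 1)) : (t i : ℕ) - delta (s + 1) i < K := by
  subst hM
  have := strictAnti_gap (fun i => (t i : ℕ)) (fun a b hab => ht hab) 0 i (Fin.zero_le i)
  have h0 := (t 0).2
  have hi := i.2
  rw [delta_val]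
  simp only [Fin.val_zero, Nat.sub_zero] at this
  omega

theorem cexp_eq (s k n m : ℕ) :
    Complex.exp (-(2 * Real.pi * Complex.I * (n : ℂ) * (m : ℂ) /
      (((s + 1 : ℕ) : ℂ) * (((s + 1 : ℕ) : ℂ) + k)))) =
      zeta ((s + 1) * (s + 1 + k)) ^ (-((n : ℤ) * (m : ℤ))) := by
  unfold zeta
  rw [← Complex.exp_int_mul]
  congr 1
  push_cast
  ring

theorem delta_rev (s : ℕ) (i : Fin (s + 1)) : delta (s + 1) (Fin.rev i) = i := by
  rw [delta_val, Fin.val_rev]
  have := i.2
  omega

end Groth.Agent.Lib.Verlinde23
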