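import Groth.Agent.Lib.Verlinde23j

set_option autoImplicit false
open Finset Matrix Equiv

namespace Groth.Agent.Lib.Verlinde23

theorem sum_all_expand {n M : ℕ} (ζ ξ : ℂ) (e e' : Fin n → ℕ) :
    ∑ t : Fin n → Fin M, E ζ e (fun j => (t j : ℕ)) * E ξ e' (fun j => (t j : ℕ)) =
      ∑ σ : Perm (Fin n), ∑ τ : Perm (Fin n),
        ((Perm.sign σ : ℤ) : ℂ) * ((Perm.sign τ : ℤ) : ℂ) *
          ∏ j : Fin n, ∑ x : Fin M, ζ ^ ((x : ℕ) * e (σ j)) * ξ ^ ((x : ℕ) * e' (τ j)) := by
  have h : ∀ (σ τ : Perm (Fin n)),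
      ∏ j : Fin n, ∑ x : Fin M, ζ ^ ((x : ℕ) * e (σ j)) * ξ ^ ((x : ℕ) * e' (τ j)) =
      ∑ t : Fin n → Fin M, ∏ j : Fin n, (ζ ^ ((t j : ℕ) * e (σ j)) * ξ ^ ((t j : ℕ) * e' (τ j))) := by
    intro σ τ
    rw [Finset.prod_univ_sum, Fintype.piFinset_univ]
  calc ∑ t : Fin n → Fin M, E ζ e (fun j => (t j : ℕ)) * E ξ e' (fun j => (t j : ℕ))
      = ∑ t : Fin n → Fin M, ∑ σ : Perm (Fin n), ∑ τ : Perm (Fin n),
          ((Perm.sign σ : ℤ) : ℂ) * ((Perm.sign τ : ℤ) : ℂ) *
          ∏ j : Fin n, (ζ ^ ((t j : ℕ) * e (σ j)) * ξ ^ ((t j : ℕ) * e' (τ j))) := by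
        refine Finset.sum_congr rfl fun t _ => ?_
        rw [E_expand, E_expand, Finset.sum_mul_sum]
        refine Finset.sum_congr rfl fun σ _ => ?_
        refine Finset.sum_congr rfl fun τ _ => ?_
        simp only [Finset.prod_mul_distrib]
        ring
    _ = ∑ σ : Perm (Fin n), ∑ τ : Perm (Fin n), ∑ t : Fin n → Fin M,
          ((Perm.sign σ : ℤ) : ℂ) * ((Perm.sign τ : ℤ) : ℂ) *
          ∏ j : Fin n, (ζ ^ ((t j : ℕ) * e (σ j)) * ξ ^ ((t j : ℕ) * e' (τ j))) := by
        rw [Finset.sum_comm]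
        refine Finset.sum_congr rfl fun σ _ => ?_
        rw [Finset.sum_comm]
    _ = _ := by
        refine Finset.sum_congr rfl fun σ _ => Finset.sum_congr rfl fun τ _ => ?_
        rw [h σ τ, Finset.mul_sum]

theorem sum_sign_prod_eq {n : ℕ} (g : Matrix (Fin n) (Fin n) ℂ) :
    ∑ σ : Perm (Fin n), ∑ τ : Perm (Fin n),
        ((Perm.sign σ : ℤ) : ℂ) * ((Perm.sign τ : ℤ) : ℂ) * ∏ j : Fin n, g (σ j) (τ j) =
      (n.factorial : ℂ) * g.det := by
  have h : ∀ σ : Perm (Fin n), ∑ τ : Perm (Fin n),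
        ((Perm.sign σ : ℤ) : ℂ) * ((Perm.sign τ : ℤ) : ℂ) * ∏ j : Fin n, g (σ j) (τ j) = g.det := by
    intro σ
    rw [← Matrix.det_transpose, Matrix.det_apply']
    rw [← Equiv.sum_comp (Equiv.mulRight σ)]
    refine Finset.sum_congr rfl fun τ _ => ?_
    simp only [Equiv.coe_mulRight, Perm.sign_mul, Matrix.transpose_apply, Perm.mul_apply]
    rw [Equiv.prod_comp σ (fun i => g i (τ i))]
    have := sign_mul_sign σ
    push_cast
    linear_combination (((Perm.sign τ : ℤ) : ℂ) * ∏ i, g i (τ i)) * this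
  rw [Finset.sum_congr rfl (fun σ _ => h σ), Finset.sum_const, Finset.card_univ, Fintype.card_perm,
    Fintype.card_fin, nsmul_eq_mul]

theorem det_rank_one {n : ℕ} (c : ℂ) (hc : c ≠ 0) (u r : Fin n → ℂ) :
    (Matrix.of fun a b : Fin n => (if a = b then c else 0) - u a * r b).det =
      c ^ n - c ^ (n - 1) * ∑ a, r a * u a := by
  have h1 : (Matrix.of fun a b : Fin n => (if a = b then c else 0) - u a * r b) =
      c • (1 + Matrix.replicateCol (Fin 1) (fun a => -(u a / c)) * Matrix.replicateRow (Fin 1) r) := by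
    ext a b
    simp only [Matrix.of_apply, Matrix.smul_apply, Matrix.add_apply, Matrix.one_apply,
      Matrix.mul_apply, Matrix.replicateCol_apply, Matrix.replicateRow_apply, smul_eq_mul]
    simp only [Finset.univ_unique, Finset.sum_singleton]
    split_ifs <;> field_simp <;> ring
  rw [h1, Matrix.det_smul, Matrix.det_one_add_mul_comm, Matrix.det_unique, Fintype.card_fin]
  simp only [Matrix.add_apply, Matrix.one_apply_eq, Matrix.mul_apply, Matrix.replicateRow_apply,
    Matrix.replicateCol_apply]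
  rcases n with _ | n
  · simp
  · simp only [Nat.add_sub_cancel, pow_succ]
    have : ∑ i, r i * -(u i / c) = -(∑ i, r i * u i) / c := by
      rw [neg_div, Finset.sum_div, ← Finset.sum_neg_distrib]
      refine Finset.sum_congr rfl fun i _ => ?_
      ring
    rw [this]
    field_simp
    ring

theorem sum_strictAnti_norm {s M : ℕ} (ζ : ℂ) (hζ : IsPrimitiveRoot ζ (M + 1))
    (v : Fin (s + 1) → ℕ) (hv : Function.Injective v) (hvN : ∀ i, v i < M + 1) :
    ∑ t ∈ (univ.filter fun t : Fin (s + 1) → Fin M => StrictAnti t),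
        E ζ (fun j => (t j : ℕ)) v * E ζ⁻¹ (fun j => (t j : ℕ)) v =
      (((M + 1 : ℕ) : ℂ) - ((s + 1 : ℕ) : ℂ)) * ((M + 1 : ℕ) : ℂ) ^ s := by
  have hζ0 : ζ ≠ 0 := hζ.ne_zero (Nat.succ_ne_zero M)
  have hN0 : ((M + 1 : ℕ) : ℂ) ≠ 0 := by exact_mod_cast Nat.succ_ne_zero M
  have key := sum_eq_factorial_mul_sum_strictAnti (s := s + 1) (X := Fin M)
    (fun t => E ζ (fun j => (t j : ℕ)) v * E ζ⁻¹ (fun j => (t j : ℕ)) v) ?_ ?_
  · -- compute the full sum
    have hfull : ∑ t : Fin (s + 1) → Fin M,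
        E ζ (fun j => (t j : ℕ)) v * E ζ⁻¹ (fun j => (t j : ℕ)) v =
        ((s + 1).factorial : ℂ) * ((((M + 1 : ℕ) : ℂ) - ((s + 1 : ℕ) : ℂ)) * ((M + 1 : ℕ) : ℂ) ^ s) := by
      have h0 : ∀ t : Fin (s + 1) → Fin M,
          E ζ (fun j => (t j : ℕ)) v * E ζ⁻¹ (fun j => (t j : ℕ)) v =
          E ζ v (fun j => (t j : ℕ)) * E ζ⁻¹ v (fun j => (t j : ℕ)) := by
        intro t
        rw [E_transpose ζ _ v, E_transpose ζ⁻¹ _ v]
      simp only [h0]
      rw [sum_all_expand]
      set g : Matrix (Fin (s + 1)) (Fin (s + 1)) ℂ := Matrix.of fun a b =>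
        (if a = b then ((M + 1 : ℕ) : ℂ) else 0) - ζ⁻¹ ^ v a * ζ ^ v b with hg
      have hgab : ∀ a b : Fin (s + 1),
          ∑ x : Fin M, ζ ^ ((x : ℕ) * v a) * ζ⁻¹ ^ ((x : ℕ) * v b) = g a b := by
        intro a b
        have hsum : ∑ x : Fin (M + 1), ζ ^ ((x : ℕ) * v a) * ζ⁻¹ ^ ((x : ℕ) * v b) =
            if a = b then ((M + 1 : ℕ) : ℂ) else 0 := by
          have hx : ∀ x : Fin (M + 1), ζ ^ ((x : ℕ) * v a) * ζ⁻¹ ^ ((x : ℕ) * v b) =
              ζ ^ (((x : ℕ) : ℤ) * ((v a : ℤ) - v b)) := by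
            intro x
            have := zpow_combine ζ hζ0 0 x (v a) (v b)
            simpa using this
          rw [Finset.sum_congr rfl (fun x _ => hx x)]
          by_cases hab : a = b
          · subst hab
            rw [if_pos rfl, sum_zpow_eq_card ζ hζ _ (by simp)]
          · rw [if_neg hab]
            have : NeZero (M + 1) := ⟨Nat.succ_ne_zero M⟩
            apply sum_zpow_eq_zero ζ hζ
            intro hdvd
            have h1 := hvN a
            have h2 := hvN b
            have hne : v a ≠ v b := fun h => hab (hv h)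
            obtain ⟨q, hq⟩ := hdvd
            have : q = 0 := by
              by_contra hq0
              have : (1 : ℤ) ≤ |q| := Int.one_le_abs hq0
              have h3 : |(v a : ℤ) - v b| = ((M + 1 : ℕ) : ℤ) * |q| := by
                rw [hq, abs_mul, Nat.abs_cast]
              have h4 : |(v a : ℤ) - v b| < ((M + 1 : ℕ) : ℤ) := by
                rw [abs_lt]; constructor <;> push_cast <;> omega
              nlinarith
            rw [this, mul_zero] at hq
            apply hne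
            have : (v a : ℤ) = v b := by linarith
            exact_mod_cast this
        rw [Fin.sum_univ_castSucc] at hsum
        simp only [Fin.val_castSucc, Fin.val_last] at hsum
        have hM1 : ζ ^ M = ζ⁻¹ := by
          have := hζ.pow_eq_one
          rw [pow_succ] at this
          exact eq_inv_of_mul_eq_one_left this
        have hlast : ζ ^ (M * v a) * ζ⁻¹ ^ (M * v b) = ζ⁻¹ ^ v a * ζ ^ v b := by
          rw [pow_mul, hM1, pow_mul ζ⁻¹ M, inv_pow ζ M, hM1, inv_inv]
        rw [hlast] at hsum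
        simp only [hg, Matrix.of_apply]
        rw [← hsum]
        ring
      simp only [hgab]
      rw [sum_sign_prod_eq, hg, det_rank_one _ hN0]
      have : ∑ a : Fin (s + 1), ζ ^ v a * ζ⁻¹ ^ v a = ((s + 1 : ℕ) : ℂ) := by
        have : ∀ a : Fin (s + 1), ζ ^ v a * ζ⁻¹ ^ v a = 1 := by
          intro a
          rw [inv_pow, mul_inv_cancel₀ (pow_ne_zero _ hζ0)]
        rw [Finset.sum_congr rfl (fun a _ => this a)]
        simp
      rw [this]
      simp only [Nat.add_sub_cancel, pow_succ]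
      ring
    rw [hfull] at key
    have hs : (((s + 1).factorial : ℕ) : ℂ) ≠ 0 := by exact_mod_cast (Nat.factorial_pos (s + 1)).ne'
    exact (mul_left_cancel₀ hs key).symm
  · intro t σ
    have : (fun j => ((t ∘ σ) j : ℕ)) = (fun j => (t j : ℕ)) ∘ σ := rfl
    simp only [this]
    rw [E_comp_left, E_comp_left]
    have := sign_mul_sign σ
    linear_combination (E ζ (fun j => (t j : ℕ)) v * E ζ⁻¹ (fun j => (t j : ℕ)) v) * this
  · intro t ht
    unfold Function.Injective at ht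
    push Not at ht
    obtain ⟨i, j, hij, hne⟩ := ht
    rw [E_transpose ζ _ v, E_eq_zero ζ v _ hne (by rw [hij]), zero_mul]

end Groth.Agent.Lib.Verlinde23
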