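import Mathlib.AlgebraicGeometry.ProjectiveSpectrum.Basic
import Mathlib.AlgebraicGeometry.ProjectiveSpectrum.Functor
import Mathlib.RingTheory.Localization.Away.Basic
import Groth.Agent.Lib.ImmersionGlue
import Groth.Agent.Lib.ProjQMap
import Groth.Agent.Lib.H60AwayDegOne

/-!
# The Veronese isomorphism `Proj S ≅ Proj S^(d)` (helper3)

`φ : B →ₐ[R] A` injective with `φ(ℬ n) = 𝒜 (n * d)`, `d > 0`.
* `theta g : Away ℬ g →+* Away 𝒜 (φ g)`, `b/g^k ↦ φ b/φ g^k`, bijective for homogeneous `g`.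
* `veronese : Proj 𝒜 ⟶ Proj ℬ` glued from `Spec (theta g)`; it is an isomorphism.
-/

set_option autoImplicit false

universe u

open CategoryTheory CategoryTheory.Limits AlgebraicGeometry TopologicalSpace HomogeneousLocalization

namespace Groth.Agent.Lib.VeroneseH3

section lift

variable {S T U : Type*} [CommRing S] [CommRing T] [CommRing U]

/-- Lift a ring hom through an injective ring hom whose range contains its image. -/
noncomputable def liftInj (ι : T →+* U) (hι : Function.Injective ι) (ψ : S →+* U)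
    (h : ∀ s, ∃ t, ι t = ψ s) : S →+* T where
  toFun s := (h s).choose
  map_one' := hι (by rw [(h 1).choose_spec, map_one, map_one])
  map_mul' a b := hι (by
    rw [(h (a * b)).choose_spec, map_mul, map_mul, (h a).choose_spec, (h b).choose_spec])
  map_zero' := hι (by rw [(h 0).choose_spec, map_zero, map_zero])
  map_add' a b := hι (by
    rw [(h (a + b)).choose_spec, map_add, map_add, (h a).choose_spec, (h b).choose_spec])

theorem liftInj_spec (ι : T →+* U) (hι : Function.Injective ι) (ψ : S →+* U)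
    (h : ∀ s, ∃ t, ι t = ψ s) (s : S) : ι (liftInj ι hι ψ h s) = ψ s := (h s).choose_spec

end lift

variable {R A B : Type u} [CommRing R] [CommRing A] [Algebra R A] (𝒜 : ℕ → Submodule R A)
  [GradedAlgebra 𝒜] [CommRing B] [Algebra R B] (ℬ : ℕ → Submodule R B) [GradedAlgebra ℬ]
  (d : ℕ) (hd : 0 < d) (φ : B →ₐ[R] A) (hφ : Function.Injective φ)
  (hdeg : ∀ n : ℕ, Submodule.map φ.toLinearMap (ℬ n) = 𝒜 (n * d))

omit [GradedAlgebra 𝒜] [GradedAlgebra ℬ] in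
include hdeg in
theorem map_mem {n : ℕ} {b : B} (hb : b ∈ ℬ n) : φ b ∈ 𝒜 (n * d) :=
  (hdeg n).le (Submodule.mem_map_of_mem hb)

omit [GradedAlgebra 𝒜] [GradedAlgebra ℬ] in
include hdeg in
theorem exists_of_mem {n : ℕ} {a : A} (ha : a ∈ 𝒜 (n * d)) : ∃ b ∈ ℬ n, φ b = a := by
  rw [← hdeg n] at ha
  obtain ⟨b, hb, rfl⟩ := ha
  exact ⟨b, hb, rfl⟩

/-- The map of localizations `B_g → A_{φ g}`. -/
noncomputable abbrev locMap (g : B) : Localization.Away g →+* Localization.Away (φ g) :=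
  Localization.awayMap φ.toRingHom g

theorem locMap_mk (g : B) (a : B) (k : ℕ) :
    locMap φ g (Localization.mk a (⟨g ^ k, ⟨k, rfl⟩⟩ : Submonoid.powers g)) =
      Localization.mk (φ a) (⟨φ g ^ k, ⟨k, rfl⟩⟩ : Submonoid.powers (φ g)) := by
  rw [Localization.mk_eq_mk', Localization.mk_eq_mk']
  erw [IsLocalization.map_mk']
  congr 1
  ext
  simp

include hdeg in
theorem exists_val_eq (g : B) (x : Away ℬ g) :
    ∃ y : Away 𝒜 (φ g), algebraMap (Away 𝒜 (φ g)) (Localization.Away (φ g)) y =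
      ((locMap φ g).comp (algebraMap (Away ℬ g) (Localization.Away g))) x := by
  obtain ⟨⟨N, ⟨s, hs⟩, ⟨b, hb⟩, ⟨k, (rfl : _ = b)⟩⟩, rfl⟩ := mk_surjective x
  refine ⟨HomogeneousLocalization.mk ⟨N * d, ⟨φ s, map_mem 𝒜 ℬ d φ hdeg hs⟩,
    ⟨φ g ^ k, by rw [← map_pow]; exact map_mem 𝒜 ℬ d φ hdeg hb⟩, ⟨k, rfl⟩⟩, ?_⟩
  rw [RingHom.comp_apply, HomogeneousLocalization.algebraMap_apply,
    HomogeneousLocalization.algebraMap_apply, val_mk, val_mk]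
  exact (locMap_mk φ g s k).symm

/-- `theta g : B_(g) → A_(φ g)`, `b/g^k ↦ φ b/(φ g)^k`. -/
noncomputable def theta (g : B) : Away ℬ g →+* Away 𝒜 (φ g) :=
  liftInj (algebraMap (Away 𝒜 (φ g)) (Localization.Away (φ g))) (val_injective _)
    ((locMap φ g).comp (algebraMap (Away ℬ g) (Localization.Away g)))
    (exists_val_eq 𝒜 ℬ d φ hdeg g)

theorem val_theta (g : B) (x : Away ℬ g) :
    (theta 𝒜 ℬ d φ hdeg g x).val = locMap φ g x.val :=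
  liftInj_spec (algebraMap (Away 𝒜 (φ g)) (Localization.Away (φ g))) (val_injective _)
    ((locMap φ g).comp (algebraMap (Away ℬ g) (Localization.Away g)))
    (exists_val_eq 𝒜 ℬ d φ hdeg g) x

include hφ in
theorem theta_injective (g : B) : Function.Injective (theta 𝒜 ℬ d φ hdeg g) := by
  intro x y hxy
  apply val_injective
  have hinj : Function.Injective (locMap φ g) := by
    rw [Localization.awayMap_injective_iff]
    intro a ha
    refine ⟨0, ?_⟩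
    have : a = 0 := hφ (by rw [map_zero]; exact ha)
    rw [this, mul_zero]
  apply hinj
  rw [← val_theta 𝒜 ℬ d φ hdeg g x, ← val_theta 𝒜 ℬ d φ hdeg g y, hxy]

theorem theta_mk (g : B) {n : ℕ} (hg : g ∈ ℬ n) (k : ℕ) (b : B) (hb : b ∈ ℬ (k • n)) :
    theta 𝒜 ℬ d φ hdeg g (Away.mk ℬ hg k b hb) =
      Away.mk 𝒜 (map_mem 𝒜 ℬ d φ hdeg hg) k (φ b) (by
        have := map_mem 𝒜 ℬ d φ hdeg hb
        rwa [smul_eq_mul, mul_assoc] at this) := by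
  apply val_injective
  rw [val_theta, Away.val_mk, Away.val_mk, locMap_mk]

include hdeg in
theorem theta_surjective (g : B) {n : ℕ} (hg : g ∈ ℬ n) :
    Function.Surjective (theta 𝒜 ℬ d φ hdeg g) := by
  intro y
  obtain ⟨k, a, ha, rfl⟩ := Away.mk_surjective 𝒜 (map_mem 𝒜 ℬ d φ hdeg hg) y
  have ha' : a ∈ 𝒜 ((k • n) * d) := by
    rwa [smul_eq_mul, mul_assoc]
  obtain ⟨b, hb, rfl⟩ := exists_of_mem 𝒜 ℬ d φ hdeg ha'
  exact ⟨Away.mk ℬ hg k b hb, theta_mk 𝒜 ℬ d φ hdeg g hg k b hb⟩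

include hφ in
theorem theta_bijective (g : B) {n : ℕ} (hg : g ∈ ℬ n) :
    Function.Bijective (theta 𝒜 ℬ d φ hdeg g) :=
  ⟨theta_injective 𝒜 ℬ d φ hφ hdeg g, theta_surjective 𝒜 ℬ d φ hdeg g hg⟩

omit [GradedAlgebra 𝒜] [GradedAlgebra ℬ] in
theorem locMap_awayLift {g₁ x : B} (hu : IsUnit (algebraMap B (Localization.Away x) g₁))
    (hu' : IsUnit (algebraMap A (Localization.Away (φ x)) (φ g₁))) (z : Localization.Away g₁) :
    locMap φ x (Localization.awayLift (algebraMap B (Localization.Away x)) g₁ hu z) =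
      Localization.awayLift (algebraMap A (Localization.Away (φ x))) (φ g₁) hu'
        (locMap φ g₁ z) := by
  have key : (locMap φ x).comp (Localization.awayLift (algebraMap B (Localization.Away x)) g₁ hu) =
      (Localization.awayLift (algebraMap A (Localization.Away (φ x))) (φ g₁) hu').comp
        (locMap φ g₁) := by
    refine IsLocalization.ringHom_ext (Submonoid.powers g₁) (RingHom.ext fun b => ?_)
    simp only [RingHom.comp_apply]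
    erw [IsLocalization.Away.lift_eq, IsLocalization.map_eq, IsLocalization.map_eq,
      IsLocalization.Away.lift_eq]
    rfl
  exact congrArg (fun ψ => ψ z) key

theorem theta_awayMap {g₁ g₂ x : B} {n₂ : ℕ} (hg₂ : g₂ ∈ ℬ n₂) (hx : x = g₁ * g₂)
    (hx' : φ x = φ g₁ * φ g₂) (y : Away ℬ g₁) :
    theta 𝒜 ℬ d φ hdeg x (awayMap ℬ hg₂ hx y) =
      awayMap 𝒜 (map_mem 𝒜 ℬ d φ hdeg hg₂) hx' (theta 𝒜 ℬ d φ hdeg g₁ y) := by
  apply val_injective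
  rw [val_theta, val_awayMap, val_awayMap, val_theta]
  exact locMap_awayLift φ _ _ _

section cover

omit [GradedAlgebra ℬ] in
include hd hdeg in
theorem exists_idx (p : Proj 𝒜) : ∃ i : Σ n : ℕ+, ℬ n, p ∈ Proj.basicOpen 𝒜 (φ i.2.1) := by
  obtain ⟨j, h2⟩ : ∃ j : Σ i : ℕ+, 𝒜 i, p ∈ Proj.basicOpen 𝒜 (j.2 : A) := by
    refine ⟨(Proj.affineOpenCover 𝒜).idx p, ?_⟩
    have h1 := (Proj.affineOpenCover 𝒜).covers p
    rw [← Proj.opensRange_awayι 𝒜 _ ((Proj.affineOpenCover 𝒜).idx p).2.2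
      ((Proj.affineOpenCover 𝒜).idx p).1.2]
    exact h1
  have h3 : (j.2 : A) ^ d ∈ 𝒜 ((j.1 : ℕ) * d) := by
    have := SetLike.pow_mem_graded d j.2.2
    rwa [smul_eq_mul, mul_comm] at this
  obtain ⟨b, hb, hb'⟩ := exists_of_mem 𝒜 ℬ d φ hdeg h3
  refine ⟨⟨j.1, ⟨b, hb⟩⟩, ?_⟩
  show p ∈ Proj.basicOpen 𝒜 (φ b)
  rw [hb', Proj.basicOpen_pow 𝒜 _ d hd]
  exact h2

/-- The affine open cover of `Proj 𝒜` by the `D₊(φ g)`. -/
noncomputable def cover : (Proj 𝒜).AffineOpenCover where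
  I₀ := Σ n : ℕ+, ℬ n
  X i := .of (Away 𝒜 (φ i.2.1))
  f i := Proj.awayι 𝒜 (φ i.2.1) (map_mem 𝒜 ℬ d φ hdeg i.2.2) (Nat.mul_pos i.1.pos hd)
  idx p := (exists_idx 𝒜 ℬ d hd φ hdeg p).choose
  covers p := by
    change p ∈ (Proj.awayι 𝒜 _ _ _).opensRange
    rw [Proj.opensRange_awayι]
    exact (exists_idx 𝒜 ℬ d hd φ hdeg p).choose_spec

/-- The local pieces of the Veronese morphism. -/
noncomputable def piece (i : Σ n : ℕ+, ℬ n) : Spec (.of (Away 𝒜 (φ i.2.1))) ⟶ Proj ℬ :=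
  Spec.map (CommRingCat.ofHom (theta 𝒜 ℬ d φ hdeg i.2.1)) ≫ Proj.awayι ℬ i.2.1 i.2.2 i.1.pos

omit [Algebra R A] in
theorem awayι_congr {σ : Type u} [SetLike σ A] [AddSubgroupClass σ A] (𝒞 : ℕ → σ) [GradedRing 𝒞]
    {f : A} {m m' : ℕ} (h1 : f ∈ 𝒞 m) (h2 : 0 < m) (h1' : f ∈ 𝒞 m') (h2' : 0 < m') :
    Proj.awayι 𝒞 f h1 h2 = Proj.awayι 𝒞 f h1' h2' := by
  rw [Proj.awayι, Proj.awayι]
  congr 1

theorem specTheta_awayι {g₁ g₂ : B} {n₁ n₂ : ℕ} (hg₁ : g₁ ∈ ℬ n₁) (hn₁ : 0 < n₁) (hg₂ : g₂ ∈ ℬ n₂)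
    (hx' : φ (g₁ * g₂) = φ g₁ * φ g₂) :
    Spec.map (CommRingCat.ofHom (awayMap 𝒜 (map_mem 𝒜 ℬ d φ hdeg hg₂) hx')) ≫
      Spec.map (CommRingCat.ofHom (theta 𝒜 ℬ d φ hdeg g₁)) ≫ Proj.awayι ℬ g₁ hg₁ hn₁ =
    Spec.map (CommRingCat.ofHom (theta 𝒜 ℬ d φ hdeg (g₁ * g₂))) ≫
      Proj.awayι ℬ (g₁ * g₂) (SetLike.mul_mem_graded hg₁ hg₂) (hn₁.trans_le (n₁.le_add_right n₂)) := by
  rw [← Proj.SpecMap_awayMap_awayι ℬ hg₁ hn₁ hg₂ rfl, ← Spec.map_comp_assoc, ← Spec.map_comp_assoc]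
  congr 2
  ext y
  exact congrArg val (theta_awayMap 𝒜 ℬ d φ hdeg hg₂ rfl hx' y).symm

theorem piece_compat (i j : Σ n : ℕ+, ℬ n) :
    pullback.fst ((cover 𝒜 ℬ d hd φ hdeg).openCover.f i) ((cover 𝒜 ℬ d hd φ hdeg).openCover.f j) ≫
        piece 𝒜 ℬ d φ hdeg i =
      pullback.snd ((cover 𝒜 ℬ d hd φ hdeg).openCover.f i)
        ((cover 𝒜 ℬ d hd φ hdeg).openCover.f j) ≫ piece 𝒜 ℬ d φ hdeg j := by
  have hx : φ (i.2.1 * j.2.1) = φ i.2.1 * φ j.2.1 := map_mul φ _ _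
  have hx' : φ (j.2.1 * i.2.1) = φ j.2.1 * φ i.2.1 := map_mul φ _ _
  change pullback.fst (Proj.awayι 𝒜 (φ i.2.1) (map_mem 𝒜 ℬ d φ hdeg i.2.2) (Nat.mul_pos i.1.pos hd))
      (Proj.awayι 𝒜 (φ j.2.1) (map_mem 𝒜 ℬ d φ hdeg j.2.2) (Nat.mul_pos j.1.pos hd)) ≫ _ =
    pullback.snd (Proj.awayι 𝒜 (φ i.2.1) (map_mem 𝒜 ℬ d φ hdeg i.2.2) (Nat.mul_pos i.1.pos hd))
      (Proj.awayι 𝒜 (φ j.2.1) (map_mem 𝒜 ℬ d φ hdeg j.2.2) (Nat.mul_pos j.1.pos hd)) ≫ _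
  rw [← cancel_epi (Proj.pullbackAwayιIso 𝒜 (map_mem 𝒜 ℬ d φ hdeg i.2.2) (Nat.mul_pos i.1.pos hd)
    (map_mem 𝒜 ℬ d φ hdeg j.2.2) (Nat.mul_pos j.1.pos hd) hx).inv,
    Proj.pullbackAwayιIso_inv_fst_assoc, Proj.pullbackAwayιIso_inv_snd_assoc]
  unfold piece
  rw [specTheta_awayι 𝒜 ℬ d φ hdeg i.2.2 i.1.pos j.2.2 hx]
  have h2 := specTheta_awayι 𝒜 ℬ d φ hdeg j.2.2 j.1.pos i.2.2 hx'
  have e : j.2.1 * i.2.1 = i.2.1 * j.2.1 := mul_comm _ _
  rw! (castMode := .all) [e] at h2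
  refine Eq.trans ?_ h2.symm
  congr 1

/-- The Veronese morphism `Proj 𝒜 ⟶ Proj ℬ`. -/
noncomputable def veronese : Proj 𝒜 ⟶ Proj ℬ :=
  (cover 𝒜 ℬ d hd φ hdeg).openCover.glueMorphisms (piece 𝒜 ℬ d φ hdeg)
    (piece_compat 𝒜 ℬ d hd φ hdeg)

theorem awayι_veronese {n : ℕ} (hn : 0 < n) {g : B} (hg : g ∈ ℬ n) :
    Proj.awayι 𝒜 (φ g) (map_mem 𝒜 ℬ d φ hdeg hg) (Nat.mul_pos hn hd) ≫ veronese 𝒜 ℬ d hd φ hdeg =
      Spec.map (CommRingCat.ofHom (theta 𝒜 ℬ d φ hdeg g)) ≫ Proj.awayι ℬ g hg hn :=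
  (cover 𝒜 ℬ d hd φ hdeg).openCover.ι_glueMorphisms (piece 𝒜 ℬ d φ hdeg)
    (piece_compat 𝒜 ℬ d hd φ hdeg) ⟨⟨n, hn⟩, ⟨g, hg⟩⟩

end cover

section points

open Groth.Agent.Lib.H60AwayDegOne

include hd hdeg in
/-- `φ` commutes with taking homogeneous components. -/
theorem map_decompose (b : B) (i : ℕ) :
    φ (DirectSum.decompose ℬ b i : B) = (DirectSum.decompose 𝒜 (φ b) (i * d) : A) := by
  induction b using DirectSum.Decomposition.inductionOn ℬ with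
  | zero => simp
  | @homogeneous j m =>
    have hm : φ (m : B) ∈ 𝒜 (j * d) := map_mem 𝒜 ℬ d φ hdeg m.2
    by_cases hij : i = j
    · subst hij
      rw [DirectSum.decompose_of_mem_same ℬ m.2, DirectSum.decompose_of_mem_same 𝒜 hm]
    · have hij' : j * d ≠ i * d := fun h => hij (Nat.eq_of_mul_eq_mul_right hd h).symm
      rw [DirectSum.decompose_of_mem_ne ℬ m.2 (Ne.symm hij),
        DirectSum.decompose_of_mem_ne 𝒜 hm hij', map_zero]
  | add m m' h h' =>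
    rw [DirectSum.decompose_add, DirectSum.add_apply, map_add, DirectSum.decompose_add,
      DirectSum.add_apply, Submodule.coe_add, map_add, h, h', Submodule.coe_add]

include hd hdeg in
theorem comap_isHomogeneous (P : HomogeneousIdeal 𝒜) :
    (Ideal.comap φ P.toIdeal).IsHomogeneous ℬ := by
  intro i b hb
  rw [Ideal.mem_comap] at hb ⊢
  rw [map_decompose 𝒜 ℬ d hd φ hdeg]
  exact P.isHomogeneous (i * d) hb

/-- pointwise description on a chart, for homogeneous elements. -/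
theorem mem_veronese_awayι_iff {n : ℕ} (hn : 0 < n) {g : B} (hg : g ∈ ℬ n)
    (q : Spec (.of (Away 𝒜 (φ g)))) {k : ℕ} {b : B} (hb : b ∈ ℬ k) :
    b ∈ ((veronese 𝒜 ℬ d hd φ hdeg).base
        ((Proj.awayι 𝒜 (φ g) (map_mem 𝒜 ℬ d φ hdeg hg) (Nat.mul_pos hn hd)).base q)).asHomogeneousIdeal ↔
      φ b ∈ ((Proj.awayι 𝒜 (φ g) (map_mem 𝒜 ℬ d φ hdeg hg)
        (Nat.mul_pos hn hd)).base q).asHomogeneousIdeal := by
  have hbn : b ^ n ∈ ℬ (k • n) := by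
    have := SetLike.pow_mem_graded n hb
    rwa [smul_eq_mul, mul_comm] at this
  have hφb : φ b ∈ 𝒜 (k * d) := map_mem 𝒜 ℬ d φ hdeg hb
  have hφbn : (φ b) ^ (n * d) ∈ 𝒜 ((k * d) • (n * d)) := by
    have := SetLike.pow_mem_graded (n * d) hφb
    rwa [smul_eq_mul, mul_comm] at this
  rw [← Scheme.Hom.comp_apply, awayι_veronese 𝒜 ℬ d hd φ hdeg hn hg, Scheme.Hom.comp_apply,
    mem_awayι_iff hg hn _ hbn, mem_awayι_iff (map_mem 𝒜 ℬ d φ hdeg hg) (Nat.mul_pos hn hd) q hφbn]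
  change theta 𝒜 ℬ d φ hdeg g (Away.mk ℬ hg k (b ^ n) hbn) ∈ q.asIdeal ↔ _
  rw [theta_mk]
  have hpow : Away.mk 𝒜 (map_mem 𝒜 ℬ d φ hdeg hg) (k * d) (φ b ^ (n * d)) hφbn =
      (Away.mk 𝒜 (map_mem 𝒜 ℬ d φ hdeg hg) k (φ (b ^ n)) (by
        have := map_mem 𝒜 ℬ d φ hdeg hbn
        rwa [smul_eq_mul, mul_assoc] at this)) ^ d := by
    apply val_injective
    rw [val_pow, Away.val_mk, Away.val_mk, Localization.mk_pow]
    congr 1
    · rw [map_pow, ← pow_mul]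
    · ext
      simp [pow_mul]
  rw [hpow]
  exact (q.isPrime.pow_mem_iff_mem d hd).symm

/-- The Veronese morphism sends `p` to `φ⁻¹ p`. -/
theorem veronese_apply (p : Proj 𝒜) :
    ((veronese 𝒜 ℬ d hd φ hdeg).base p).asHomogeneousIdeal.toIdeal =
      Ideal.comap φ p.asHomogeneousIdeal.toIdeal := by
  obtain ⟨i, hi⟩ := exists_idx 𝒜 ℬ d hd φ hdeg p
  rw [← Proj.opensRange_awayι 𝒜 (φ i.2.1) (map_mem 𝒜 ℬ d φ hdeg i.2.2) (Nat.mul_pos i.1.pos hd)] at hi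
  obtain ⟨q, rfl⟩ := hi
  ext b
  rw [((veronese 𝒜 ℬ d hd φ hdeg).base _).asHomogeneousIdeal.isHomogeneous.mem_iff,
    (comap_isHomogeneous 𝒜 ℬ d hd φ hdeg _).mem_iff]
  refine forall_congr' fun k => ?_
  exact mem_veronese_awayι_iff 𝒜 ℬ d hd φ hdeg i.1.pos i.2.2 q (SetLike.coe_mem _)

theorem veronese_preimage_basicOpen (g : B) :
    (veronese 𝒜 ℬ d hd φ hdeg) ⁻¹ᵁ (Proj.basicOpen ℬ g) = Proj.basicOpen 𝒜 (φ g) := by
  ext p
  change (veronese 𝒜 ℬ d hd φ hdeg).base p ∈ Proj.basicOpen ℬ g ↔ p ∈ Proj.basicOpen 𝒜 (φ g)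
  rw [Proj.mem_basicOpen, Proj.mem_basicOpen]
  have := veronese_apply 𝒜 ℬ d hd φ hdeg p
  have h : g ∈ ((veronese 𝒜 ℬ d hd φ hdeg).base p).asHomogeneousIdeal.toIdeal ↔
      g ∈ Ideal.comap φ p.asHomogeneousIdeal.toIdeal := by rw [this]
  exact not_congr h

include hφ in
theorem isIso_veronese : IsIso (veronese 𝒜 ℬ d hd φ hdeg) := by
  have : ∀ i : Σ n : ℕ+, ℬ n, IsOpenImmersion (Proj.awayι ℬ i.2.1 i.2.2 i.1.pos) :=
    fun i => Proj.instIsOpenImmersionAwayι ℬ _ i.2.2 i.1.pos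
  refine Groth.Agent.Lib.ProjQMap.of_charts (MorphismProperty.isomorphisms Scheme.{u})
    (veronese 𝒜 ℬ d hd φ hdeg)
    (fun i : Σ n : ℕ+, ℬ n => Spec (.of (Away 𝒜 (φ i.2.1))))
    (fun i : Σ n : ℕ+, ℬ n => Spec (.of (Away ℬ i.2.1)))
    (fun i => Spec.map (CommRingCat.ofHom (theta 𝒜 ℬ d φ hdeg i.2.1)))
    (fun i => Proj.awayι 𝒜 (φ i.2.1) (map_mem 𝒜 ℬ d φ hdeg i.2.2) (Nat.mul_pos i.1.pos hd))
    (fun i => Proj.awayι ℬ i.2.1 i.2.2 i.1.pos)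
    (fun i => awayι_veronese 𝒜 ℬ d hd φ hdeg i.1.pos i.2.2) ?_ ?_ ?_
  · intro i
    rw [Proj.opensRange_awayι, Proj.opensRange_awayι, veronese_preimage_basicOpen]
  · exact (Proj.affineOpenCover ℬ).openCover.iSup_opensRange
  · intro i
    have hbij := theta_bijective 𝒜 ℬ d φ hφ hdeg i.2.1 i.2.2
    have : IsIso (CommRingCat.ofHom (theta 𝒜 ℬ d φ hdeg i.2.1)) :=
      (ConcreteCategory.isIso_iff_bijective _).mpr hbij
    exact inferInstanceAs (IsIso (Spec.map (CommRingCat.ofHom (theta 𝒜 ℬ d φ hdeg i.2.1))))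

end points

end Groth.Agent.Lib.VeroneseH3
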