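/-
# Invertible modules on affine schemes of finite type over an affine base are very ample (helper3, keystone VeryAmple)

* `U_smul_eq`: `X_{g σ} = D(g)` when `σ` generates `L` on `D(g)`;
* `closure_eq_top`: generation criterion for `Γ(X, D(g))`;
* `isRelVeryAmplePn_of_isAffine`: `X`, `S` affine, `q : X ⟶ S` locally of finite type, `L` invertible ⇒
  `RelAmple.IsRelVeryAmplePn q L`.
-/
import Groth.Agent.Lib.VeryAmpleH3
import Groth.Agent.Lib.H4GenBy

set_option autoImplicit false
set_option linter.style.haveILetI false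
universe u
open CategoryTheory CategoryTheory.Limits AlgebraicGeometry TopologicalSpace Opposite Twist
open AlgebraicGeometry.Scheme.Modules
open Groth.Agent.Lib.H90Invertible Groth.Agent.Lib
open Groth.Agent.Lib.PullSecH3 Groth.Agent.Lib.QCohStalk
open Groth.Agent.Lib.H78TensorGen Groth.Agent.Lib.H78SecCoord Groth.Agent.Lib.H78Atlas
open Groth.Agent.Lib.GenCoverH3 Groth.Agent.Lib.VeryAmpleH3

namespace Groth.Agent.Lib.VeryAmpleAffH3

variable {X : Scheme.{u}} {L : X.Modules}

theorem rf_mul' {V W : X.Opens} (h : W ≤ V) (a b : Γ(X, V)) : rf h (a * b) = rf h a * rf h b :=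
  map_mul (X.presheaf.map (homOfLE h).op).hom a b

theorem rf_pow' {V W : X.Opens} (h : W ≤ V) (a : Γ(X, V)) (n : ℕ) : rf h (a ^ n) = rf h a ^ n :=
  map_pow (X.presheaf.map (homOfLE h).op).hom a n

/-- `X_{g σ} = D(g)` when `σ` generates `L` on `D(g)` -/
theorem U_smul_eq {ι : Type*} (s : ι → Γ(L, ⊤)) (j : ι) (g : Γ(X, ⊤)) (σ : Γ(L, ⊤)) (hj : s j = g • σ)
    (hσ : IsGen L (X.basicOpen g) (rs L le_top σ)) : U s j = X.basicOpen g := by
  apply le_antisymm
  · -- on `U s j`, `g • σ` generates, so `g` is a unit there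
    have h1 := isGen_U s j
    have h2 : rs L (le_top : U s j ≤ ⊤) (s j) = rf (le_top : U s j ≤ ⊤) g • rs L le_top σ := by
      rw [hj, rs_smul]
    have hu := Groth.Agent.Lib.ProjSpaceUniqH3.isUnit_of_isGen_smul h1 _ h2
    exact (isUnit_map_iff (le_top : U s j ≤ ⊤) g).1 hu
  · apply le_U
    rw [hj, rs_smul]
    exact (isGen_smul_iff hσ _).2 (RingedSpace.isUnit_res_basicOpen _ g)

/-- generation criterion for the coordinate ring of `D(g)` -/
theorem closure_eq_top (hX : IsAffineOpen (⊤ : X.Opens)) (g : Γ(X, ⊤)) (W : X.Opens) (hW : W = X.basicOpen g)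
    (A : Set Γ(X, W)) (hinv : ∃ a ∈ Subring.closure A, a * rf le_top g = 1)
    (B₀ : Set Γ(X, ⊤)) (hB₀ : Subring.closure B₀ = ⊤)
    (hA : ∀ b ∈ B₀, rf (le_top : W ≤ ⊤) b ∈ Subring.closure A) : Subring.closure A = ⊤ := by
  subst hW
  have hloc := hX.isLocalization_basicOpen g
  have hall : ∀ b : Γ(X, ⊤), rf (le_top : X.basicOpen g ≤ ⊤) b ∈ Subring.closure A := by
    intro b
    have hle : Subring.closure B₀ ≤
        (Subring.closure A).comap (X.presheaf.map (homOfLE (le_top : X.basicOpen g ≤ ⊤)).op).hom :=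
      Subring.closure_le.2 (fun b hb => hA b hb)
    have hb : b ∈ Subring.closure B₀ := by rw [hB₀]; trivial
    exact hle hb
  rw [eq_top_iff]
  intro z _
  obtain ⟨k, b, hb⟩ := IsLocalization.Away.surj g z
  have hb' : z * (rf (le_top : X.basicOpen g ≤ ⊤) g) ^ k = rf le_top b := hb
  obtain ⟨a, ha, hag⟩ := hinv
  have hz : z = rf le_top b * a ^ k := by
    rw [← hb', mul_assoc, ← mul_pow, mul_comm _ a, hag, one_pow, mul_one]
  rw [hz]
  exact Subring.mul_mem _ (hall b) (Subring.pow_mem _ ha k)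

section Main

variable {S : Scheme.{u}} [IsAffine X] [IsAffine S] (q : X ⟶ S) [LocallyOfFiniteType q]

/-- the sections used for the embedding -/
noncomputable def sec {T M : Type*} (g : T → Γ(X, ⊤)) (σ : T → Γ(L, ⊤)) (b : M → Γ(X, ⊤)) :
    Option (T ⊕ T ⊕ (M × T)) → Γ(L, ⊤)
  | none => 0
  | some (Sum.inl l) => σ l
  | some (Sum.inr (Sum.inl l)) => g l • σ l
  | some (Sum.inr (Sum.inr (m, l))) => b m • (g l • σ l)

/-- **Every invertible module on an affine scheme of finite type over an affine base is very ample.** -/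
theorem isRelVeryAmplePn_of_isAffine (hL : PicF.IsInvertible L) : RelAmple.IsRelVeryAmplePn q L := by
  have hX : IsAffineOpen (⊤ : X.Opens) := isAffineOpen_top X
  haveI : L.IsQuasicoherent := isQCoh_of_isInvertible hL
  -- local generators on basic opens, extended to global sections
  have hloc : ∀ x : X, ∃ (g : Γ(X, ⊤)) (σ : Γ(L, ⊤)), x ∈ X.basicOpen g ∧
      IsGen L (X.basicOpen g) (rs L le_top σ) := by
    intro x
    obtain ⟨V, hxV, e, he⟩ := (isInvertible_iff_exists_isGen L).1 hL x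
    obtain ⟨g, hg, hxg⟩ := hX.exists_basicOpen_le (⟨x, hxV⟩ : V) trivial
    obtain ⟨N, σ, hσ⟩ := exists_pow_smul_eq_res L hX g (rs L hg e)
    refine ⟨g, σ, hxg, ?_⟩
    have h1 : rs L (le_top : X.basicOpen g ≤ ⊤) σ = (rf (X.basicOpen_le g) g) ^ N • rs L hg e := hσ.symm
    rw [h1]
    exact (isGen_smul_iff (he.mono hg) _).2 ((RingedSpace.isUnit_res_basicOpen _ g).pow N)
  choose g σ hxg hgen using hloc
  obtain ⟨t, ht⟩ := isCompact_univ.elim_finite_subcover (fun x => (X.basicOpen (g x) : Set X))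
    (fun x => (X.basicOpen (g x)).2) (fun x _ => Set.mem_iUnion.2 ⟨x, hxg x⟩)
  -- algebra generators
  have hft : RingHom.FiniteType q.appTop.hom :=
    (HasRingHomProperty.iff_of_isAffine (P := @LocallyOfFiniteType)).mp inferInstance
  obtain ⟨bs, hbs⟩ : ∃ bs : Finset Γ(X, ⊤),
      Subring.closure (Set.range q.appTop.hom ∪ (bs : Set Γ(X, ⊤))) = ⊤ := by
    letI := q.appTop.hom.toAlgebra
    obtain ⟨bs, hbs⟩ := (hft : Algebra.FiniteType Γ(S, ⊤) Γ(X, ⊤)).out
    refine ⟨bs, ?_⟩
    have := Algebra.adjoin_eq_ring_closure (R := Γ(S, ⊤)) (bs : Set Γ(X, ⊤))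
    rw [hbs] at this
    exact this.symm.trans Algebra.top_toSubring
  -- the index type and the sections
  let T := {x // x ∈ t}
  let M := {b // b ∈ bs}
  let I := Option (T ⊕ T ⊕ (M × T))
  let sc : I → Γ(L, ⊤) := sec (fun l : T => g l.1) (fun l : T => σ l.1) (fun m : M => m.1)
  have hcard : 0 < Fintype.card I := Fintype.card_pos_iff.2 ⟨none⟩
  obtain ⟨n, hn⟩ : ∃ n, Fintype.card I = n + 1 := ⟨Fintype.card I - 1, by omega⟩
  let e : Fin (n + 1) ≃ I := (Fintype.equivFinOfCardEq hn).symm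
  let s : Fin (n + 1) → Γ(L, ⊤) := fun k => sc (e k)
  have hU : ∀ l : T, U sc (some (Sum.inr (Sum.inl l))) = X.basicOpen (g l.1) := fun l =>
    U_smul_eq sc _ (g l.1) (σ l.1) rfl (hgen l.1)
  have hs : ProjUP.GeneratedBy L s := by
    apply Groth.Agent.Lib.H4Twist.generatedBy_of_isGen
    intro x
    obtain ⟨y, hy, hxy⟩ : ∃ y ∈ t, x ∈ X.basicOpen (g y) := by
      have := ht (Set.mem_univ x)
      simpa using this
    refine ⟨e.symm (some (Sum.inr (Sum.inl ⟨y, hy⟩))), X.basicOpen (g y), hxy, ?_⟩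
    have h1 : s (e.symm (some (Sum.inr (Sum.inl ⟨y, hy⟩)))) = g y • σ y := by
      change sc (e (e.symm _)) = _
      rw [e.apply_symm_apply]
      rfl
    rw [h1]
    have h2 : rs L (le_top : X.basicOpen (g y) ≤ ⊤) (g y • σ y) =
        rf le_top (g y) • rs L le_top (σ y) := rs_smul L _ _ _
    have h3 : IsGen L (X.basicOpen (g y)) (rs L (le_top : X.basicOpen (g y) ≤ ⊤) (g y • σ y)) := by
      rw [h2]
      exact (isGen_smul_iff (hgen y) _).2 (RingedSpace.isUnit_res_basicOpen _ (g y))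
    exact h3
  obtain ⟨r, i, hr, hpre, hfst, hsnd, hiso⟩ := exists_lift q n s hL hs
  refine ⟨n, i, ?_, hsnd, hiso⟩
  refine isImmersion_of_closure q n s r i hr hpre hfst hsnd
    {k | ∃ l : T, e k = some (Sum.inr (Sum.inl l))} ?_ ?_ ?_
  · intro x
    obtain ⟨y, hy, hxy⟩ : ∃ y ∈ t, x ∈ X.basicOpen (g y) := by
      have := ht (Set.mem_univ x)
      simpa using this
    refine ⟨e.symm (some (Sum.inr (Sum.inl ⟨y, hy⟩))), ⟨⟨y, hy⟩, e.apply_symm_apply _⟩, ?_⟩
    change x ∈ U sc (e (e.symm _))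
    rw [e.apply_symm_apply, hU]
    exact hxy
  · rintro j ⟨l, hl⟩
    change IsAffineOpen (U sc (e j))
    rw [hl, hU]
    exact hX.basicOpen _
  · rintro j ⟨l, hl⟩
    have hW : U s j = X.basicOpen (g l.1) := by
      change U sc (e j) = _
      rw [hl, hU]
    refine closure_eq_top hX (g l.1) (U s j) hW _ ?_
      (Set.range q.appTop.hom ∪ (bs : Set Γ(X, ⊤))) hbs ?_
    · -- the inverse of `g` is the ratio `σ_l / (g σ_l)`
      refine ⟨ratio s j (e.symm (some (Sum.inl l))), Subring.subset_closure (Or.inl ⟨_, rfl⟩), ?_⟩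
      have h1 := ratio_spec s j (e.symm (some (Sum.inl l)))
      have h2 : s (e.symm (some (Sum.inl l))) = σ l.1 := by
        change sc (e (e.symm _)) = _
        rw [e.apply_symm_apply]
        rfl
      have h3 : s j = g l.1 • σ l.1 := by
        change sc (e j) = _
        rw [hl]
        rfl
      have hgenj : IsGen L (U s j) (rs L le_top (σ l.1)) := by
        have := hgen l.1
        rw [← hW] at this
        exact this
      rw [h2, h3, rs_smul, ← mul_smul] at h1
      have h4 : (1 : Γ(X, U s j)) • rs L (le_top : U s j ≤ ⊤) (σ l.1) =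
          (ratio s j (e.symm (some (Sum.inl l))) * rf le_top (g l.1)) • rs L le_top (σ l.1) := by
        rw [one_smul]
        exact h1
      exact ((Groth.Agent.Lib.ProjSpaceUniqH3.IsGen.bijective_self hgenj).1 h4).symm
    · rintro b (⟨c, rfl⟩ | hb)
      · refine Subring.subset_closure (Or.inr ⟨c, ?_⟩)
        rfl
      · refine Subring.subset_closure (Or.inl ⟨e.symm (some (Sum.inr (Sum.inr (⟨b, hb⟩, l)))), ?_⟩)
        symm
        apply ratio_unique
        have h2 : s (e.symm (some (Sum.inr (Sum.inr (⟨b, hb⟩, l))))) = b • (g l.1 • σ l.1) := by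
          change sc (e (e.symm _)) = _
          rw [e.apply_symm_apply]
          rfl
        have h3 : s j = g l.1 • σ l.1 := by
          change sc (e j) = _
          rw [hl]
          rfl
        rw [h2, h3, rs_smul]

end Main

end Groth.Agent.Lib.VeryAmpleAffH3
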