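/-
# L ample, L' invertible ⇒ L^n ⊗ L' very ample for n large (helper3, keystone VeryAmple; EGA II 4.5.10-type)

* `exists_generatedBy_twist hL hF`: `F ⊗ L^n` generated by finitely many global sections, `n` large (`F` invertible);
* `exists_forall_isRelVeryAmplePn_twist q hL hL'` (S affine, q lft).
-/
import Groth.Agent.Lib.VeryAmplePowH3
import Groth.Agent.Lib.H90InvertibleFP

set_option autoImplicit false
set_option linter.style.haveILetI false
universe u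
open CategoryTheory CategoryTheory.Limits AlgebraicGeometry TopologicalSpace Opposite Twist
open AlgebraicGeometry.Scheme.Modules
open Groth.Agent.Lib.H90Invertible Groth.Agent.Lib.H4Twist Groth.Agent.Lib
open Groth.Agent.Lib.H78TensorGen Groth.Agent.Lib.H78SecCoord Groth.Agent.Lib.H78Atlas
open Groth.Agent.Lib.H78AtlasOps Groth.Agent.Lib.H78KeyLemma Groth.Agent.Lib.H78KeyLemma2
open Groth.Agent.Lib.GenCoverH3 Groth.Agent.Lib.VeryAmpleH3 Groth.Agent.Lib.StructureModule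

namespace Groth.Agent.Lib.VeryAmpleTwistH3

variable {X : Scheme.{u}}

/-- **finite global generation of twists**: for `L` ample on a quasi-compact scheme and `F` invertible, `F ⊗ L^n` is
generated by finitely many global sections for all large `n`. -/
theorem exists_generatedBy_twist [CompactSpace X] {L F : X.Modules} (hL : CohB1.IsAmple L)
    (hF : PicF.IsInvertible F) :
    ∃ n₁ : ℕ, ∀ n, n₁ ≤ n → ∃ (m : ℕ)
      (s : Fin m → Γ(CohB1.tensorMod F (CohB1.tensorPow L n), ⊤)),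
      ProjUP.GeneratedBy _ s := by
  haveI := Groth.Agent.Lib.H78AmpleBasis.quasiSeparatedSpace_of_isAmple hL
  haveI : F.IsQuasicoherent := Groth.Agent.Lib.H90Invertible.isQCoh_of_isInvertible hF
  have hQ : QcLike F := qcLike_of_isQuasicoherent F
  have h1 : ∀ x : X, ∃ (V₀ : X.Opens) (e : Γ(L, V₀)) (e' : Γ(F, V₀)) (n : ℕ)
      (s : Coh.structureModule X ⟶ CohB1.tensorPow L (n + 1)), IsGen L V₀ e ∧ IsGen F V₀ e' ∧
        x ∈ CohB1.genLocus _ s ∧ CohB1.genLocus _ s ≤ V₀ ∧ IsAffineOpen (CohB1.genLocus _ s) := by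
    intro x
    obtain ⟨V₀, hxV₀, e, he⟩ := (isInvertible_iff_exists_isGen L).1 hL.1 x
    obtain ⟨V₀', hxV₀', e', he'⟩ := (isInvertible_iff_exists_isGen F).1 hF x
    obtain ⟨n, s, hx, hsV, haff⟩ := Groth.Agent.Lib.H78SecAdd.exists_sec_nbhd_affine hL x (V₀ ⊓ V₀')
      ⟨hxV₀, hxV₀'⟩
    exact ⟨V₀ ⊓ V₀', rs L inf_le_left e, rs F inf_le_right e', n, s, he.mono inf_le_left,
      he'.mono inf_le_right, hx, hsV, haff⟩
  choose V₀ e e' n s he he' hx hsV haff using h1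
  obtain ⟨t, ht⟩ := isCompact_univ.elim_finite_subcover (fun y => (CohB1.genLocus _ (s y) : Set X))
    (fun y => (CohB1.genLocus _ (s y)).2) (fun x _ => Set.mem_iUnion.2 ⟨x, hx x⟩)
  obtain ⟨V, hVdef⟩ : ∃ V : t → X.Opens, ∀ i, V i = CohB1.genLocus _ (s i.1) := ⟨_, fun _ => rfl⟩
  have hV : ⨆ i, V i = ⊤ := by
    refine top_le_iff.1 (fun x _ => ?_)
    obtain ⟨y, hy, hxy⟩ := Set.mem_iUnion₂.1 (ht (Set.mem_univ x))
    exact Opens.mem_iSup.2 ⟨⟨y, hy⟩, by rw [hVdef]; exact hxy⟩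
  have hVaff : ∀ i, IsAffineOpen (V i) := fun i => by rw [hVdef]; exact haff i.1
  have hVle : ∀ i : t, V i ≤ V₀ i.1 := fun i => by rw [hVdef]; exact hsV i.1
  let A : Atlas L V := ⟨fun i => rs L (hVle i) (e i.1), fun i => (he i.1).mono (hVle i)⟩
  have h3 : ∀ j : t, ∃ n₀ : ℕ, ∀ n, n₀ ≤ n → ∀ _ : Unit,
      ∃ (ξ : Γ(CohB1.tensorMod F (CohB1.tensorPow L n), ⊤)) (u : Γ(X, V j)),
        IsUnit u ∧ rs _ (le_top : V j ≤ ⊤) ξ =
          tmul (u • rs F (hVle j) (e' j.1)) (epow (A.E j) n) := by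
    intro j
    refine Groth.Agent.Lib.H78GlobGen2.exists_sections_twist hQ hV hVaff A j (n j.1 + 1) (Nat.succ_pos _)
      (sec (s j.1)) ?_ (fun _ : Unit => rs F (hVle j) (e' j.1))
    rw [ofSection_sec, hVdef]
  choose n₀ hn₀ using h3
  refine ⟨Finset.univ.sup n₀, fun N hN => ?_⟩
  have h4 : ∀ j : t, ∃ (ξ : Γ(CohB1.tensorMod F (CohB1.tensorPow L N), ⊤)) (u : Γ(X, V j)),
      IsUnit u ∧ rs _ (le_top : V j ≤ ⊤) ξ =
        tmul (u • rs F (hVle j) (e' j.1)) (epow (A.E j) N) := fun j =>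
    hn₀ j N ((Finset.le_sup (Finset.mem_univ j)).trans hN) ()
  choose ξ u hu hξ using h4
  obtain ⟨m, ⟨em⟩⟩ := Finite.exists_equiv_fin t
  refine ⟨m, fun k => ξ (em.symm k), ?_⟩
  apply Groth.Agent.Lib.H4Twist.generatedBy_of_isGen
  intro x
  have hx' : x ∈ ⨆ i, V i := by rw [hV]; trivial
  obtain ⟨j, hj⟩ := Opens.mem_iSup.1 hx'
  refine ⟨em j, V j, hj, ?_⟩
  rw [em.symm_apply_apply]
  change IsGen _ (V j) (rs _ (le_top : V j ≤ ⊤) (ξ j))
  rw [hξ j]
  exact isGen_tmul ((isGen_smul_iff ((he' j.1).mono (hVle j)) _).2 (hu j)) (isGen_epow (A.gen j) N)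

section Final

variable {S : Scheme.{u}} [IsAffine S] (q : X ⟶ S) [LocallyOfFiniteType q]

/-- **EGA II 4.5.10-type**: `L` ample, `L'` invertible ⇒ `L^n ⊗ L'` very ample for all large `n` (relative to `q : X ⟶ S`
locally of finite type, `S` affine). -/
theorem exists_forall_isRelVeryAmplePn_twist {L L' : X.Modules} (hL : CohB1.IsAmple L)
    (hL' : PicF.IsInvertible L') :
    ∃ n₀ : ℕ, ∀ n, n₀ ≤ n →
      RelAmple.IsRelVeryAmplePn q (CohB1.tensorMod (CohB1.tensorPow L n) L') := by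
  haveI : CompactSpace X := hL.2.1
  obtain ⟨n₀, hn₀⟩ := Groth.Agent.Lib.VeryAmplePowH3.exists_forall_isRelVeryAmplePn_tensorPow q hL
  obtain ⟨n₁, hn₁⟩ := exists_generatedBy_twist hL hL'
  refine ⟨n₀ + n₁, fun n hn => ?_⟩
  obtain ⟨k, rfl⟩ := Nat.exists_eq_add_of_le hn
  obtain ⟨m, s, hs⟩ := hn₁ (n₁ + k) (Nat.le_add_right _ _)
  have h1 := Groth.Agent.Lib.VeryAmpleTensorH3.isRelVeryAmplePn_tensor q (hn₀ n₀ le_rfl)
    (isInvertible_tensorMod hL' (isInvertible_tensorPow hL.1 _)) s hs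
  refine Groth.Agent.Lib.VeryAmpleCritH3.isRelVeryAmplePn_of_iso q ?_ h1
  exact Groth.Agent.Lib.OXModTensor.tensorModIso (Iso.refl _) (Groth.Agent.Lib.OXModTensor.braiding _ _) ≪≫
    (Groth.Agent.Lib.OXModTensor.associator _ _ _).symm ≪≫
    Groth.Agent.Lib.OXModTensor.tensorModIso
      ((Groth.Agent.Lib.OXModTensor.tensorPowAdd L n₀ (n₁ + k)).symm ≪≫ eqToIso (by rw [add_assoc]))
      (Iso.refl _)

end Final

end Groth.Agent.Lib.VeryAmpleTwistH3
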