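import Mathlib

/-!
# A Vinberg-type positivity lemma for Cartan matrices of finite root pairings, and an application
(`Groth.Agent.Lib.Vinberg38`, helper38)

* `vinberg`: for a finite crystallographic root pairing with base `b` and a nonzero `f : ι → ℕ` supported on
  `b.support` there is `j ∈ b.support` with `f j > 0` and `0 < ∑ i, f i * ⟨α_i, α_j^∨⟩`.
* `vinberg_flip`: the same for the transposed Cartan matrix.
* `exists_solution`: abstract leaf-removal induction solving `a j i * c j - a i j * c i = e i j`.
-/

set_option autoImplicit false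
set_option linter.unusedSectionVars false

namespace Groth.Agent.Lib.Vinberg38

open RootPairing

section vinberg

variable {ι R M N : Type*} [CommRing R] [IsDomain R] [CharZero R]
  [AddCommGroup M] [Module R M] [AddCommGroup N] [Module R N]
  (P : RootPairing ι R M N) [Finite ι] [P.IsCrystallographic] (b : P.Base)

theorem two_mul_posForm (B : P.RootPositiveForm ℤ) (i j : ι) :
    2 * B.posForm (P.rootSpanMem ℤ i) (P.rootSpanMem ℤ j) =
      P.pairingIn ℤ i j * B.posForm (P.rootSpanMem ℤ j) (P.rootSpanMem ℤ j) := by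
  apply FaithfulSMul.algebraMap_injective ℤ R
  have h := B.toInvariantForm.two_mul_apply_root_root i j
  have e1 : algebraMap ℤ R (B.posForm (P.rootSpanMem ℤ i) (P.rootSpanMem ℤ j)) =
      B.form (P.root i) (P.root j) := B.algebraMap_posForm
  have e2 : algebraMap ℤ R (B.posForm (P.rootSpanMem ℤ j) (P.rootSpanMem ℤ j)) =
      B.form (P.root j) (P.root j) := B.algebraMap_posForm
  have e3 : algebraMap ℤ R (P.pairingIn ℤ i j) = P.pairing i j := P.algebraMap_pairingIn ℤ i j
  rw [map_mul, map_mul, e1, e2, e3, map_ofNat]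
  exact h

theorem posForm_symm (B : P.RootPositiveForm ℤ) (x y : P.rootSpan ℤ) :
    B.posForm x y = B.posForm y x := by
  have := B.isSymm_posForm.eq x y
  simpa using this

theorem vinberg (f : ι → ℕ) (hf : ∀ i, i ∉ b.support → f i = 0) (hf0 : f ≠ 0) :
    ∃ j ∈ b.support, 0 < f j ∧ 0 < ∑ i ∈ b.support, (f i : ℤ) * P.pairingIn ℤ i j := by
  classical
  have := Fintype.ofFinite ι
  by_contra hcon
  push Not at hcon
  set B := (P.posRootForm ℤ).posForm with hB
  set v : P.rootSpan ℤ := ∑ i ∈ b.support, (f i : ℤ) • P.rootSpanMem ℤ i with hv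
  have hv0 : v ≠ 0 := by
    intro h0
    apply hf0
    have h1 : ∑ i ∈ b.support, ((f i : ℤ) : R) • P.root i = 0 := by
      have := congrArg (fun x : P.rootSpan ℤ => (x : M)) h0
      simp only [hv, Submodule.coe_sum, Submodule.coe_smul, ZeroMemClass.coe_zero] at this
      rw [← this]
      refine Finset.sum_congr rfl fun i _ => ?_
      rw [Int.cast_smul_eq_zsmul]
    have h2 := (linearIndepOn_finset_iff.mp b.linearIndepOn_root) (fun i => ((f i : ℤ) : R)) h1
    funext i
    by_cases hi : i ∈ b.support
    · have := h2 i hi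
      simpa using this
    · exact hf i hi
  have hpos : 0 < B v v := P.posRootForm_posForm_pos_of_ne_zero ℤ hv0
  have hexp : 2 * B v v = ∑ j ∈ b.support, (f j : ℤ) *
      (B (P.rootSpanMem ℤ j) (P.rootSpanMem ℤ j) *
        ∑ i ∈ b.support, (f i : ℤ) * P.pairingIn ℤ i j) := by
    rw [hv]
    simp only [map_sum, LinearMap.sum_apply, map_smul, LinearMap.smul_apply, smul_eq_mul,
      Finset.mul_sum]
    rw [Finset.sum_comm]
    refine Finset.sum_congr rfl fun j _ => Finset.sum_congr rfl fun i _ => ?_
    have := two_mul_posForm P (P.posRootForm ℤ) i j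
    have hs := posForm_symm P (P.posRootForm ℤ) (P.rootSpanMem ℤ j) (P.rootSpanMem ℤ i)
    rw [← hB] at this hs
    linear_combination (f i : ℤ) * (f j : ℤ) * this + 2 * (f i : ℤ) * (f j : ℤ) * hs
  have hle : 2 * B v v ≤ 0 := by
    rw [hexp]
    refine Finset.sum_nonpos fun j hj => ?_
    rcases Nat.eq_zero_or_pos (f j) with h0 | hp
    · simp [h0]
    · have h1 := hcon j hj hp
      have h2 : 0 < B (P.rootSpanMem ℤ j) (P.rootSpanMem ℤ j) :=
        (P.posRootForm ℤ).zero_lt_posForm_apply_root j
      have h3 : (0 : ℤ) < f j := by exact_mod_cast hp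
      exact mul_nonpos_of_nonneg_of_nonpos h3.le (mul_nonpos_of_nonneg_of_nonpos h2.le h1)
  omega

theorem vinberg_flip (f : ι → ℕ) (hf : ∀ i, i ∉ b.support → f i = 0) (hf0 : f ≠ 0) :
    ∃ j ∈ b.support, 0 < f j ∧ 0 < ∑ i ∈ b.support, (f i : ℤ) * P.pairingIn ℤ j i := by
  have h := vinberg P.flip b.flip f hf hf0
  have hp : ∀ i j, P.flip.pairingIn ℤ i j = P.pairingIn ℤ j i := by
    intro i j
    apply FaithfulSMul.algebraMap_injective ℤ R
    rw [algebraMap_pairingIn, algebraMap_pairingIn, pairing_flip]
  simpa [hp] using h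

end vinberg

section solve

variable {ι : Type*} [DecidableEq ι]

/-- leaf-removal induction -/
theorem exists_solution (n : ℕ) : ∀ (s : Finset ι), s.card = n → ∀ (a : ι → ι → ℤ),
    (∀ i ∈ s, a i i = 2) → (∀ i ∈ s, ∀ j ∈ s, i ≠ j → a i j ≤ 0) →
    (∀ i ∈ s, ∀ j ∈ s, a i j = 0 → a j i = 0) →
    (∀ f : ι → ℕ, (∀ i, i ∉ s → f i = 0) → f ≠ 0 →
      ∃ j ∈ s, 0 < f j ∧ 0 < ∑ i ∈ s, (f i : ℤ) * a j i) →
    ∀ (e : ι → ι → ℤ), (∀ i j, e i j = - e j i) → (∀ i ∈ s, ∀ j ∈ s, a i j = 0 → e i j = 0) →
    ∃ c : ι → ℤ, ∀ i ∈ s, ∀ j ∈ s, i ≠ j → a j i * c j - a i j * c i = e i j := by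
  induction n with
  | zero =>
    intro s hs a _ _ _ _ e _ _
    rw [Finset.card_eq_zero] at hs
    subst hs
    exact ⟨fun _ => 0, fun i hi => absurd hi (Finset.notMem_empty i)⟩
  | succ n ih =>
    intro s hs a h0 h1 h2 h4 e he1 he2
    -- the indicator of `s` as test vector
    have hne : s.Nonempty := by
      rw [← Finset.card_pos, hs]
      exact Nat.succ_pos n
    obtain ⟨l, hl, -, hlpos⟩ := h4 (fun i => if i ∈ s then 1 else 0)
      (fun i hi => if_neg hi)
      (by
        obtain ⟨x, hx⟩ := hne
        intro h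
        have := congrFun h x
        simp [hx] at this)
    have hsum : ∑ i ∈ s, ((if i ∈ s then 1 else 0 : ℕ) : ℤ) * a l i = ∑ i ∈ s, a l i := by
      refine Finset.sum_congr rfl fun i hi => ?_
      rw [if_pos hi]
      simp
    rw [hsum, ← Finset.add_sum_erase s _ hl, h0 l hl] at hlpos
    -- all `a l i`, `i ≠ l`, are `≤ 0` and their sum is `> -2`
    have hnonpos : ∀ i ∈ s.erase l, a l i ≤ 0 := fun i hi =>
      h1 l hl i (Finset.mem_of_mem_erase hi) (Finset.ne_of_mem_erase hi).symm
    -- IH on `s.erase l`
    have hcard : (s.erase l).card = n := by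
      rw [Finset.card_erase_of_mem hl, hs]
      rfl
    obtain ⟨c', hc'⟩ := ih (s.erase l) hcard a
      (fun i hi => h0 i (Finset.mem_of_mem_erase hi))
      (fun i hi j hj hij => h1 i (Finset.mem_of_mem_erase hi) j (Finset.mem_of_mem_erase hj) hij)
      (fun i hi j hj => h2 i (Finset.mem_of_mem_erase hi) j (Finset.mem_of_mem_erase hj))
      (fun f hf hf0 => by
        obtain ⟨j, hj, hfj, hjpos⟩ := h4 f
          (fun i hi => hf i (fun h => hi (Finset.mem_of_mem_erase h))) hf0
        have hjl : j ≠ l := by
          intro h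
          subst h
          have := hf j (Finset.notMem_erase j s)
          omega
        refine ⟨j, Finset.mem_erase.mpr ⟨hjl, hj⟩, hfj, ?_⟩
        rw [← Finset.add_sum_erase s _ hl, hf l (Finset.notMem_erase l s)] at hjpos
        simpa using hjpos)
      e he1
      (fun i hi j hj => he2 i (Finset.mem_of_mem_erase hi) j (Finset.mem_of_mem_erase hj))
    -- define `c l`
    by_cases hm : ∃ m ∈ s.erase l, a l m ≠ 0
    · obtain ⟨m, hm, hlm⟩ := hm
      have hms : m ∈ s := Finset.mem_of_mem_erase hm
      have hml : m ≠ l := Finset.ne_of_mem_erase hm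
      -- `a l m = -1` and the others vanish
      have hsplit : ∑ i ∈ s.erase l, a l i = a l m + ∑ i ∈ (s.erase l).erase m, a l i :=
        (Finset.add_sum_erase _ _ hm).symm
      have hrest : ∑ i ∈ (s.erase l).erase m, a l i ≤ 0 :=
        Finset.sum_nonpos fun i hi => hnonpos i (Finset.mem_of_mem_erase hi)
      have hlm' : a l m ≤ 0 := hnonpos m hm
      have halm : a l m = -1 := by omega
      have hrest0 : ∑ i ∈ (s.erase l).erase m, a l i = 0 := by omega
      have hother : ∀ i ∈ s, i ≠ l → i ≠ m → a l i = 0 := by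
        intro i hi hil him
        have hi' : i ∈ (s.erase l).erase m :=
          Finset.mem_erase.mpr ⟨him, Finset.mem_erase.mpr ⟨hil, hi⟩⟩
        exact (Finset.sum_eq_zero_iff_of_nonpos
          (fun i hi => hnonpos i (Finset.mem_of_mem_erase hi))).mp hrest0 i hi'
      refine ⟨Function.update c' l (-(e m l + a m l * c' m)), ?_⟩
      -- key: equations `(j, l)` for `j ≠ l`
      have key : ∀ j ∈ s, j ≠ l →
          a l j * (-(e m l + a m l * c' m)) - a j l * c' j = e j l := by
        intro j hj hjl
        by_cases hjm : j = m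
        · subst hjm
          rw [halm]
          ring
        · have h1' := hother j hj hjl hjm
          have h2' := h2 l hl j hj h1'
          have h3' := he2 l hl j hj h1'
          rw [h1', h2', he1 j l, h3']
          ring
      intro i hi j hj hij
      by_cases hil : i = l
      · subst hil
        have hjl : j ≠ i := fun h => hij h.symm
        rw [Function.update_of_ne hjl, Function.update_self]
        have := key j hj hjl
        rw [he1 i j]
        linarith
      · by_cases hjl : j = l
        · subst hjl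
          rw [Function.update_self, Function.update_of_ne hil]
          exact key i hi hil
        · rw [Function.update_of_ne hil, Function.update_of_ne hjl]
          exact hc' i (Finset.mem_erase.mpr ⟨hil, hi⟩) j (Finset.mem_erase.mpr ⟨hjl, hj⟩) hij
    · push Not at hm
      refine ⟨Function.update c' l 0, ?_⟩
      have key : ∀ j ∈ s, j ≠ l → a l j * 0 - a j l * c' j = e j l := by
        intro j hj hjl
        have h1' := hm j (Finset.mem_erase.mpr ⟨hjl, hj⟩)
        have h2' := h2 l hl j hj h1'
        have h3' := he2 l hl j hj h1'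
        rw [h2', he1 j l, h3']
        ring
      intro i hi j hj hij
      by_cases hil : i = l
      · subst hil
        have hjl : j ≠ i := fun h => hij h.symm
        rw [Function.update_of_ne hjl, Function.update_self]
        have := key j hj hjl
        rw [he1 i j]
        linarith
      · by_cases hjl : j = l
        · subst hjl
          rw [Function.update_self, Function.update_of_ne hil]
          exact key i hi hil
        · rw [Function.update_of_ne hil, Function.update_of_ne hjl]
          exact hc' i (Finset.mem_erase.mpr ⟨hil, hi⟩) j (Finset.mem_erase.mpr ⟨hjl, hj⟩) hij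

end solve

end Groth.Agent.Lib.Vinberg38
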