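import Mathlib.Algebra.Homology.DerivedCategory.HomologySequence
import Mathlib.Algebra.Homology.DerivedCategory.TStructure
import Mathlib.Algebra.Homology.DerivedCategory.SingleTriangle
import Mathlib.CategoryTheory.Abelian.DiagramLemmas.Four

/-!
# Way-out right functors: a morphism of triangulated functors which is an isomorphism on a
cogenerating class of objects is an isomorphism on all objects of the heart (helper31)

Dimension shifting: no infinite resolution is needed.
-/

set_option autoImplicit false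

open CategoryTheory Limits Pretriangulated DerivedCategory

namespace Groth.Agent.WayOut31

section Four

variable {C : Type*} [Category* C] [Abelian C]
  {A₁ B₁ C₁ D₁ A₂ B₂ C₂ D₂ : C}
  (f₁ : A₁ ⟶ B₁) (g₁ : B₁ ⟶ C₁) (h₁ : C₁ ⟶ D₁) (f₂ : A₂ ⟶ B₂) (g₂ : B₂ ⟶ C₂) (h₂ : C₂ ⟶ D₂)
  (a : A₁ ⟶ A₂) (b : B₁ ⟶ B₂) (c : C₁ ⟶ C₂) (d : D₁ ⟶ D₂)
  (c₁ : f₁ ≫ b = a ≫ f₂) (c₂ : g₁ ≫ c = b ≫ g₂) (c₃ : h₁ ≫ d = c ≫ h₂)
  (w₁ : f₁ ≫ g₁ = 0) (w₁' : g₁ ≫ h₁ = 0)
  (e₁ : (ShortComplex.mk _ _ w₁).Exact) (e₁' : (ShortComplex.mk _ _ w₁').Exact)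
  (w₂ : f₂ ≫ g₂ = 0) (w₂' : g₂ ≫ h₂ = 0)
  (e₂ : (ShortComplex.mk _ _ w₂).Exact) (e₂' : (ShortComplex.mk _ _ w₂').Exact)

include c₁ c₂ c₃ e₁ e₁' e₂ e₂'

lemma mono_four (_ : Epi a) (_ : Mono b) (_ : Mono d) : Mono c := by
  let R₁ := ComposableArrows.mk₃ f₁ g₁ h₁
  let R₂ := ComposableArrows.mk₃ f₂ g₂ h₂
  let φ : R₁ ⟶ R₂ := ComposableArrows.homMk₃ a b c d c₁ c₂ c₃
  have hR₁ : R₁.Exact :=
    ComposableArrows.exact_of_δ₀ e₁.exact_toComposableArrows e₁'.exact_toComposableArrows
  have hR₂ : R₂.Exact :=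
    ComposableArrows.exact_of_δ₀ e₂.exact_toComposableArrows e₂'.exact_toComposableArrows
  exact Abelian.mono_of_epi_of_mono_of_mono φ hR₁ hR₂ ‹Epi a› ‹Mono b› ‹Mono d›

lemma epi_four (_ : Epi a) (_ : Epi c) (_ : Mono d) : Epi b := by
  let R₁ := ComposableArrows.mk₃ f₁ g₁ h₁
  let R₂ := ComposableArrows.mk₃ f₂ g₂ h₂
  let φ : R₁ ⟶ R₂ := ComposableArrows.homMk₃ a b c d c₁ c₂ c₃
  have hR₁ : R₁.Exact :=
    ComposableArrows.exact_of_δ₀ e₁.exact_toComposableArrows e₁'.exact_toComposableArrows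
  have hR₂ : R₂.Exact :=
    ComposableArrows.exact_of_δ₀ e₂.exact_toComposableArrows e₂'.exact_toComposableArrows
  exact Abelian.epi_of_epi_of_epi_of_mono φ hR₁ hR₂ ‹Epi a› ‹Epi c› ‹Mono d›

end Four

section Main

universe w w' v v' u u'

variable {A : Type u} [Category.{v} A] [Abelian A] [HasDerivedCategory.{w} A]
  {B : Type u'} [Category.{v'} B] [Abelian B] [HasDerivedCategory.{w'} B]
  (F G : DerivedCategory A ⥤ DerivedCategory B) [F.CommShift ℤ] [G.CommShift ℤ]
  (η : F ⟶ G) [NatTrans.CommShift η ℤ]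

/-- The morphism of triangles `F T ⟶ G T` induced by a morphism of functors commuting with the
shift. -/
noncomputable def triangleMap (T : Triangle (DerivedCategory A)) :
    F.mapTriangle.obj T ⟶ G.mapTriangle.obj T :=
  Triangle.homMk _ _ (η.app _) (η.app _) (η.app _) (η.naturality _) (η.naturality _) (by
    change (F.map T.mor₃ ≫ (F.commShiftIso (1 : ℤ)).hom.app T.obj₁) ≫ (η.app T.obj₁)⟦(1 : ℤ)⟧' =
      η.app T.obj₃ ≫ G.map T.mor₃ ≫ (G.commShiftIso (1 : ℤ)).hom.app T.obj₁
    rw [Category.assoc, NatTrans.shift_app_comm η (1 : ℤ) T.obj₁, ← Category.assoc,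
      η.naturality, Category.assoc])

omit [G.CommShift ℤ] in
lemma exists_bound
    (hF : ∀ n₁ : ℤ, ∃ n₂ : ℤ, ∀ Y : DerivedCategory A, Y.IsGE n₂ → (F.obj Y).IsGE n₁) :
    ∃ N : ℤ, ∀ X : A, (F.obj ((singleFunctor A 0).obj X)).IsGE N := by
  obtain ⟨n₂, h⟩ := hF 0
  refine ⟨-n₂, fun X => ?_⟩
  have h1 : (((singleFunctor A 0).obj X)⟦-n₂⟧).IsGE n₂ :=
    TStructure.t.isGE_shift _ 0 (-n₂) n₂ (by omega)
  have h2 : TStructure.t.IsGE ((shiftFunctor _ (-n₂) ⋙ F).obj ((singleFunctor A 0).obj X)) 0 :=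
    h _ h1
  have h3 : ((F.obj ((singleFunctor A 0).obj X))⟦-n₂⟧).IsGE 0 :=
    TStructure.t.isGE_of_iso ((F.commShiftIso (-n₂)).app _) 0
  exact TStructure.t.isGE_of_shift _ (-n₂) (-n₂) 0 (by omega)

variable [F.IsTriangulated] [G.IsTriangulated]

variable (P : ObjectProperty A) (hP : ∀ X : A, ∃ (Y : A) (i : X ⟶ Y), P Y ∧ Mono i)
  (hη : ∀ X : A, P X → IsIso (η.app ((singleFunctor A 0).obj X)))

include hP hη

lemma step (n₀ n₁ : ℤ) (h : n₀ + 1 = n₁)
    (ih : ∀ X : A, IsIso ((homologyFunctor B n₀).map (η.app ((singleFunctor A 0).obj X)))) :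
    ∀ X : A, IsIso ((homologyFunctor B n₁).map (η.app ((singleFunctor A 0).obj X))) := by
  have key : ∀ X : A, ∃ (I : A) (i : X ⟶ I) (_ : P I) (_ : Mono i),
      (Mono ((homologyFunctor B n₁).map (η.app ((singleFunctor A 0).obj X)))) ∧
      (Mono ((homologyFunctor B n₁).map (η.app ((singleFunctor A 0).obj (cokernel i)))) →
        Epi ((homologyFunctor B n₁).map (η.app ((singleFunctor A 0).obj X)))) := by
    intro X
    obtain ⟨I, i, hI, hi⟩ := hP X
    refine ⟨I, i, hI, hi, ?_⟩
    let S := ShortComplex.mk i (cokernel.π i) (cokernel.condition i)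
    have hS : S.ShortExact :=
      { exact := ShortComplex.exact_cokernel i, mono_f := hi, epi_g := inferInstance }
    let T := hS.singleTriangle
    have hT : T ∈ distTriang _ := hS.singleTriangle_distinguished
    have hTF := F.map_distinguished T hT
    have hTG := G.map_distinguished T hT
    let φ := triangleMap F G η T
    have i1 : IsIso (η.app ((singleFunctor A 0).obj I)) := hη I hI
    have i2 := ih (cokernel i)
    have nat := (homologyFunctor B 0).homologySequenceδ_naturality _ _ φ n₀ n₁ h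
    have i3 : IsIso ((homologyFunctor B n₀).map (η.app ((singleFunctor A 0).obj I))) :=
      inferInstance
    have i4 : IsIso ((homologyFunctor B n₁).map (η.app ((singleFunctor A 0).obj I))) :=
      inferInstance
    have e3 : Epi ((homologyFunctor B n₀).map (η.app ((singleFunctor A 0).obj I))) :=
      inferInstance
    have e4 : Epi ((homologyFunctor B n₁).map (η.app ((singleFunctor A 0).obj I))) :=
      inferInstance
    have e2 : Epi ((homologyFunctor B n₀).map (η.app ((singleFunctor A 0).obj (cokernel i)))) :=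
      inferInstance
    have m2 : Mono ((homologyFunctor B n₀).map (η.app ((singleFunctor A 0).obj (cokernel i)))) :=
      inferInstance
    have m4 : Mono ((homologyFunctor B n₁).map (η.app ((singleFunctor A 0).obj I))) :=
      inferInstance
    constructor
    · exact mono_four
        (f₁ := (homologyFunctor B n₀).map (F.mapTriangle.obj T).mor₂)
        (g₁ := HomologySequence.δ (F.mapTriangle.obj T) n₀ n₁ h)
        (h₁ := (homologyFunctor B n₁).map (F.mapTriangle.obj T).mor₁)
        (f₂ := (homologyFunctor B n₀).map (G.mapTriangle.obj T).mor₂)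
        (g₂ := HomologySequence.δ (G.mapTriangle.obj T) n₀ n₁ h)
        (h₂ := (homologyFunctor B n₁).map (G.mapTriangle.obj T).mor₁)
        (a := (homologyFunctor B n₀).map (η.app ((singleFunctor A 0).obj I)))
        (b := (homologyFunctor B n₀).map (η.app ((singleFunctor A 0).obj (cokernel i))))
        (c := (homologyFunctor B n₁).map (η.app ((singleFunctor A 0).obj X)))
        (d := (homologyFunctor B n₁).map (η.app ((singleFunctor A 0).obj I)))
        (by rw [← Functor.map_comp, ← Functor.map_comp]; congr 1; exact φ.comm₂)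
        nat.symm
        (by rw [← Functor.map_comp, ← Functor.map_comp]; congr 1; exact φ.comm₁)
        (HomologySequence.comp_δ _ hTF n₀ n₁ h) (HomologySequence.δ_comp _ hTF n₀ n₁ h)
        (HomologySequence.exact₃ _ hTF n₀ n₁ h) (HomologySequence.exact₁ _ hTF n₀ n₁ h)
        (HomologySequence.comp_δ _ hTG n₀ n₁ h) (HomologySequence.δ_comp _ hTG n₀ n₁ h)
        (HomologySequence.exact₃ _ hTG n₀ n₁ h) (HomologySequence.exact₁ _ hTG n₀ n₁ h)
        e3 m2 m4
    · intro hmono
      exact epi_four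
        (f₁ := HomologySequence.δ (F.mapTriangle.obj T) n₀ n₁ h)
        (g₁ := (homologyFunctor B n₁).map (F.mapTriangle.obj T).mor₁)
        (h₁ := (homologyFunctor B n₁).map (F.mapTriangle.obj T).mor₂)
        (f₂ := HomologySequence.δ (G.mapTriangle.obj T) n₀ n₁ h)
        (g₂ := (homologyFunctor B n₁).map (G.mapTriangle.obj T).mor₁)
        (h₂ := (homologyFunctor B n₁).map (G.mapTriangle.obj T).mor₂)
        (a := (homologyFunctor B n₀).map (η.app ((singleFunctor A 0).obj (cokernel i))))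
        (b := (homologyFunctor B n₁).map (η.app ((singleFunctor A 0).obj X)))
        (c := (homologyFunctor B n₁).map (η.app ((singleFunctor A 0).obj I)))
        (d := (homologyFunctor B n₁).map (η.app ((singleFunctor A 0).obj (cokernel i))))
        nat.symm
        (by rw [← Functor.map_comp, ← Functor.map_comp]; congr 1; exact φ.comm₁)
        (by rw [← Functor.map_comp, ← Functor.map_comp]; congr 1; exact φ.comm₂)
        (HomologySequence.δ_comp _ hTF n₀ n₁ h)
        (by rw [← Functor.map_comp, comp_distTriang_mor_zero₁₂ _ hTF, Functor.map_zero])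
        (HomologySequence.exact₁ _ hTF n₀ n₁ h) (HomologySequence.exact₂ _ hTF n₁)
        (HomologySequence.δ_comp _ hTG n₀ n₁ h)
        (by rw [← Functor.map_comp, comp_distTriang_mor_zero₁₂ _ hTG, Functor.map_zero])
        (HomologySequence.exact₁ _ hTG n₀ n₁ h) (HomologySequence.exact₂ _ hTG n₁)
        e2 e4 hmono
  have hmono : ∀ X : A, Mono ((homologyFunctor B n₁).map (η.app ((singleFunctor A 0).obj X))) := by
    intro X
    obtain ⟨I, i, _, _, h1, _⟩ := key X
    exact h1
  intro X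
  obtain ⟨I, i, _, _, h1, h2⟩ := key X
  have := h2 (hmono _)
  exact isIso_of_mono_of_epi _

theorem isIso_app_single
    (hF : ∀ n₁ : ℤ, ∃ n₂ : ℤ, ∀ Y : DerivedCategory A, Y.IsGE n₂ → (F.obj Y).IsGE n₁)
    (hG : ∀ n₁ : ℤ, ∃ n₂ : ℤ, ∀ Y : DerivedCategory A, Y.IsGE n₂ → (G.obj Y).IsGE n₁)
    (X : A) : IsIso (η.app ((singleFunctor A 0).obj X)) := by
  rw [DerivedCategory.isIso_iff]
  obtain ⟨NF, hNF⟩ := exists_bound F hF
  obtain ⟨NG, hNG⟩ := exists_bound G hG
  have key : ∀ (k : ℕ) (m : ℤ), m < min NF NG + k → ∀ X : A,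
      IsIso ((homologyFunctor B m).map (η.app ((singleFunctor A 0).obj X))) := by
    intro k
    induction k with
    | zero =>
      intro m hm X
      have := hNF X
      have := hNG X
      have hm1 : m < NF := by
        have := min_le_left NF NG
        omega
      have hm2 : m < NG := by
        have := min_le_right NF NG
        omega
      have z1 : IsZero ((homologyFunctor B m).obj (F.obj ((singleFunctor A 0).obj X))) :=
        DerivedCategory.isZero_of_isGE _ NF m hm1
      have z2 : IsZero ((homologyFunctor B m).obj (G.obj ((singleFunctor A 0).obj X))) :=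
        DerivedCategory.isZero_of_isGE _ NG m hm2
      exact ⟨0, z1.eq_of_src _ _, z2.eq_of_src _ _⟩
    | succ k ih =>
      intro m hm
      by_cases h : m < min NF NG + k
      · exact ih m h
      · exact step F G η P hP hη (m - 1) m (by omega) (ih (m - 1) (by push_cast at hm; omega))
  intro n
  obtain ⟨k, hk⟩ : ∃ k : ℕ, n < min NF NG + k :=
    ⟨(n - min NF NG + 1).toNat, by
      have := Int.self_le_toNat (n - min NF NG + 1)
      omega⟩
  exact key k n hk X

end Main

end Groth.Agent.WayOut31
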