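import Groth.Agent.Lib.WeakAssFinite88
import Mathlib.RingTheory.Unramified.LocalStructure
import Mathlib.RingTheory.Etale.Locus

/-!
# Weakly associated primes under étale base change (helper88)

* `mem_weakAss_baseChange_localization_iff` : for `A → C → D` with `D` a localization of `C`,
  `Q ∈ WeakAss_D (D ⊗_A M) ↔ Q ∩ C ∈ WeakAss_C (C ⊗_A M)`.
* `mem_weakAss_baseChange_iff_of_etale` : the statement of S1233, via the local structure of
  étale algebras (standard étale = localization of a finite free algebra).
-/

set_option autoImplicit false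
set_option linter.unusedSectionVars false
universe u v v' w

namespace Groth.Agent.Lib.WeakAssEtale88

open FlatCA Groth.Agent.Lib.WeakAss Groth.Agent.Lib.WeakAssFinite88
open scoped TensorProduct

section Loc

variable {A : Type u} [CommRing A] {C : Type v} [CommRing C] [Algebra A C] (S : Submonoid C)
  (D : Type v') [CommRing D] [Algebra C D] [Algebra A D] [IsScalarTower A C D]
  [IsLocalization S D] (M : Type w) [AddCommGroup M] [Module A M]

include S in
theorem mem_weakAss_baseChange_localization_iff (Q : Ideal D) :
    Q ∈ weakAss D (D ⊗[A] M) ↔ Q.comap (algebraMap C D) ∈ weakAss C (C ⊗[A] M) := by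
  rw [← weakAss_eq_of_linearEquiv
    (TensorProduct.AlgebraTensorModule.cancelBaseChange A C D D M)]
  exact mem_weakAss_localization_iff S D (TensorProduct.mk C D (C ⊗[A] M) 1) Q

end Loc

section Etale

open Polynomial

theorem mem_weakAss_baseChange_iff_of_etale {A B : Type u} [CommRing A] [CommRing B]
    [Algebra A B] [Algebra.Etale A B] (M : Type u) [AddCommGroup M] [Module A M]
    (p : Ideal A) [p.IsPrime] (q : Ideal B) [q.IsPrime] [q.LiesOver p] :
    q ∈ weakAss B (B ⊗[A] M) ↔ p ∈ weakAss A M := by
  have hover : q.comap (algebraMap A B) = p := ((Ideal.liesOver_iff q p).mp inferInstance).symm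
  have hEt : Algebra.IsEtaleAt A q := by
    have h1 : Algebra.etaleLocus A B = Set.univ := Algebra.etaleLocus_eq_univ_iff.mpr inferInstance
    have : (⟨q, inferInstance⟩ : PrimeSpectrum B) ∈ Algebra.etaleLocus A B := h1 ▸ Set.mem_univ _
    exact this
  obtain ⟨f, hfq, hstd⟩ := Algebra.IsEtaleAt.exists_isStandardEtale (R := A) q
  let P : StandardEtalePresentation A (Localization.Away f) :=
    hstd.nonempty_standardEtalePresentation.some
  let e : Localization.Away f ≃ₐ[A] Localization.Away (AdjoinRoot.mk P.f P.g) :=
    P.equivRing.trans P.P.equivAwayAdjoinRoot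
  letI algC : Algebra (AdjoinRoot P.f) (Localization.Away f) :=
    (e.symm.toRingEquiv.toRingHom.comp
      (algebraMap (AdjoinRoot P.f) (Localization.Away (AdjoinRoot.mk P.f P.g)))).toAlgebra
  have htower : IsScalarTower A (AdjoinRoot P.f) (Localization.Away f) := by
    refine IsScalarTower.of_algebraMap_eq (fun a => ?_)
    change _ = e.symm (algebraMap (AdjoinRoot P.f) _ (algebraMap A (AdjoinRoot P.f) a))
    rw [← IsScalarTower.algebraMap_apply A (AdjoinRoot P.f)
      (Localization.Away (AdjoinRoot.mk P.f P.g)), AlgEquiv.commutes]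
  let e' : Localization.Away (AdjoinRoot.mk P.f P.g) ≃ₐ[AdjoinRoot P.f] Localization.Away f :=
    AlgEquiv.ofRingEquiv (f := e.symm.toRingEquiv) (fun c => rfl)
  have hloc : IsLocalization.Away (AdjoinRoot.mk P.f P.g) (Localization.Away f) :=
    IsLocalization.isLocalization_of_algEquiv _ e'
  have hfin : Module.Finite A (AdjoinRoot P.f) := P.monic_f.finite_adjoinRoot
  have hfree : Module.Free A (AdjoinRoot P.f) := P.monic_f.free_adjoinRoot
  -- the prime of the localization
  have hdisj : Disjoint (Submonoid.powers f : Set B) (q : Set B) :=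
    (Ideal.disjoint_powers_iff_notMem_of_isPrime _).mpr hfq
  let qf : Ideal (Localization.Away f) := q.map (algebraMap B (Localization.Away f))
  have hqf_prime : qf.IsPrime :=
    IsLocalization.isPrime_of_isPrime_disjoint (Submonoid.powers f) _ _ inferInstance hdisj
  have hqf_comap : qf.comap (algebraMap B (Localization.Away f)) = q :=
    IsLocalization.under_map_of_isPrime_disjoint (Submonoid.powers f) _ inferInstance hdisj
  have h1 := mem_weakAss_baseChange_localization_iff (A := A) (Submonoid.powers f)
    (Localization.Away f) M qf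
  rw [hqf_comap] at h1
  rw [← h1]
  rw [mem_weakAss_baseChange_localization_iff (A := A)
    (Submonoid.powers (AdjoinRoot.mk P.f P.g)) (Localization.Away f) M qf]
  have hlies : (qf.comap (algebraMap (AdjoinRoot P.f) (Localization.Away f))).LiesOver p := by
    rw [Ideal.liesOver_iff, Ideal.under_def, Ideal.comap_comap,
      ← IsScalarTower.algebraMap_eq A (AdjoinRoot P.f) (Localization.Away f),
      IsScalarTower.algebraMap_eq A B (Localization.Away f), ← Ideal.comap_comap, hqf_comap, hover]
  exact mem_weakAss_baseChange_iff_of_finite_flat M p _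

end Etale

end Groth.Agent.Lib.WeakAssEtale88
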