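import Mathlib.RingTheory.Ideal.MinimalPrime.Localization
import Mathlib.RingTheory.Ideal.GoingUp
import Mathlib.RingTheory.QuasiFinite.Basic
import Mathlib.RingTheory.Ideal.Colon

/-!
# Weakly associated primes along a finite ring map (Stacks 05C3/05E1, ideal form)

Mathlib-only.  Main statements:

* `mem_minimalPrimes_iff_forall_exists_pow` : a prime `p ⊇ I` is minimal over `I` iff every
  `x ∈ p` satisfies `s * x ^ n ∈ I` for some `s ∉ p`.
* `exists_comap_mem_minimalPrimes_of_finite` : if `φ : A →+* B` is finite and `q` is minimal over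
  an ideal `J` of `B`, then for some `y ∉ q`, the prime `φ⁻¹ q` is minimal over `φ⁻¹ (J : y)`.
-/

set_option autoImplicit false

namespace Groth.Agent.Lib.WeakAssFinite

variable {A B : Type*} [CommRing A] [CommRing B]

theorem exists_mul_pow_mem_of_mem_minimalPrimes {I p : Ideal A} (hp : p ∈ I.minimalPrimes)
    {x : A} (hx : x ∈ p) : ∃ s ∉ p, ∃ n : ℕ, s * x ^ n ∈ I := by
  haveI : p.IsPrime := hp.1.1
  have hrad := IsLocalization.AtPrime.radical_map_of_mem_minimalPrimes
    (A := Localization.AtPrime p) p I hp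
  have hx' : algebraMap A (Localization.AtPrime p) x ∈
      (I.map (algebraMap A (Localization.AtPrime p))).radical := by
    rw [hrad]
    exact Ideal.mem_map_of_mem _ hx
  obtain ⟨n, hn⟩ := hx'
  rw [IsLocalization.mem_map_algebraMap_iff (M := p.primeCompl)] at hn
  obtain ⟨⟨a, b⟩, hn⟩ := hn
  rw [← map_pow, ← map_mul, IsLocalization.eq_iff_exists p.primeCompl] at hn
  obtain ⟨t, ht⟩ := hn
  refine ⟨t.1 * b.1, (t * b).2, n, ?_⟩
  simp only at ht
  have : t.1 * b.1 * x ^ n = t.1 * a.1 := by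
    rw [← ht]
    ring
  rw [this]
  exact I.mul_mem_left _ a.2

theorem mem_minimalPrimes_iff_forall_exists_pow {I p : Ideal A} [p.IsPrime] :
    p ∈ I.minimalPrimes ↔ I ≤ p ∧ ∀ x ∈ p, ∃ s ∉ p, ∃ n : ℕ, s * x ^ n ∈ I := by
  constructor
  · intro hp
    exact ⟨hp.1.2, fun x hx => exists_mul_pow_mem_of_mem_minimalPrimes hp hx⟩
  · rintro ⟨hle, h⟩
    refine ⟨⟨inferInstance, hle⟩, ?_⟩
    rintro q ⟨hq, hIq⟩ hqp x hx
    obtain ⟨s, hs, n, hsn⟩ := h x hx
    have h1 : s * x ^ n ∈ q := hIq hsn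
    rcases hq.mem_or_mem h1 with h2 | h2
    · exact absurd (hqp h2) hs
    · exact hq.mem_of_pow_mem n h2

/-- The ideal of `b` such that `b * g ^ n * y ∈ J` for some `n`. -/
def powColon (J : Ideal B) (g y : B) : Ideal B where
  carrier := {b | ∃ n : ℕ, b * g ^ n * y ∈ J}
  add_mem' := by
    rintro a b ⟨n, hn⟩ ⟨k, hk⟩
    refine ⟨n + k, ?_⟩
    have : (a + b) * g ^ (n + k) * y = g ^ k * (a * g ^ n * y) + g ^ n * (b * g ^ k * y) := by
      ring
    rw [this]
    exact J.add_mem (J.mul_mem_left _ hn) (J.mul_mem_left _ hk)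
  zero_mem' := ⟨0, by simp⟩
  smul_mem' := by
    rintro c a ⟨n, hn⟩
    refine ⟨n, ?_⟩
    have : c • a * g ^ n * y = c * (a * g ^ n * y) := by
      rw [smul_eq_mul]; ring
    rw [this]
    exact J.mul_mem_left _ hn

theorem mem_powColon {J : Ideal B} {g y b : B} :
    b ∈ powColon J g y ↔ ∃ n : ℕ, b * g ^ n * y ∈ J := Iff.rfl

/-- **Stacks 05E1 (key step)**: along a finite ring map, the contraction of a prime minimal over
`J` is minimal over the contraction of a colon ideal `(J : y)`. -/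
theorem exists_comap_mem_minimalPrimes_of_finite (φ : A →+* B) (hφ : φ.Finite)
    (J q : Ideal B) (hq : q ∈ J.minimalPrimes) :
    ∃ y : B, q.comap φ ∈ ((J.colon {y}).comap φ).minimalPrimes := by
  classical
  letI : Algebra A B := φ.toAlgebra
  haveI : Module.Finite A B := hφ
  haveI : q.IsPrime := hq.1.1
  have hφ' : algebraMap A B = φ := rfl
  set p : Ideal A := q.comap φ with hp
  haveI : p.IsPrime := Ideal.comap_isPrime φ q
  -- the finitely many other primes over `p`
  have hfin : (p.primesOver B \ {q}).Finite :=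
    (Algebra.QuasiFinite.finite_primesOver p).subset Set.sdiff_subset
  have havoid : ¬ ((q : Set B) ⊆ ⋃ Q ∈ (p.primesOver B \ {q}), (id Q : Ideal B)) := by
    intro hsub
    obtain ⟨Q, hQ, hqQ⟩ := (Ideal.subset_union_prime_finite hfin (f := id) q q
      (fun Q hQ _ _ => hQ.1.1)).mp hsub
    apply hQ.2
    rw [Set.mem_singleton_iff]
    by_contra hne
    have hlt : q < Q := lt_of_le_of_ne hqQ (Ne.symm hne)
    have := Ideal.IsIntegral.comap_lt_comap (R := A) hlt
    rw [hφ'] at this
    have hQp : Q.comap φ = p := by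
      have := hQ.1.2.over
      rw [Ideal.under_def, hφ'] at this
      exact this.symm
    rw [hQp] at this
    exact lt_irrefl _ this
  obtain ⟨x, hxq, hxQ⟩ := Set.not_subset.mp havoid
  replace hxQ : ∀ Q ∈ p.primesOver B, Q ≠ q → x ∉ Q := by
    intro Q hQ hne hx
    apply hxQ
    simp only [Set.mem_iUnion]
    exact ⟨Q, ⟨hQ, hne⟩, hx⟩
  obtain ⟨y, hyq, t, hyt⟩ := exists_mul_pow_mem_of_mem_minimalPrimes hq hxq
  refine ⟨y, ?_⟩
  rw [mem_minimalPrimes_iff_forall_exists_pow]
  constructor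
  · intro a ha
    rw [Ideal.mem_comap, Submodule.mem_colon_singleton, smul_eq_mul] at ha
    have h1 : φ a * y ∈ q := hq.1.2 ha
    rcases (inferInstance : q.IsPrime).mem_or_mem h1 with h2 | h2
    · exact h2
    · exact absurd h2 hyq
  · intro f hf
    have hfq : φ f ∈ q := hf
    by_contra hcon
    push Not at hcon
    -- `hcon : ∀ s ∉ p, ∀ n, s * f ^ n ∉ comap φ (J.colon {y})`
    have hK : (powColon J (φ f) y).comap (algebraMap A B) ≤ p := by
      intro s hs
      by_contra hsp
      rw [Ideal.mem_comap, mem_powColon] at hs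
      obtain ⟨n, hn⟩ := hs
      apply hcon s hsp n
      rw [Ideal.mem_comap, Submodule.mem_colon_singleton, smul_eq_mul, map_mul, map_pow]
      exact hn
    obtain ⟨Q, hKQ, hQprime, hQp⟩ := Ideal.exists_ideal_over_prime_of_isIntegral p _ hK
    have hQmem : Q ∈ p.primesOver B := ⟨hQprime, ⟨hQp.symm⟩⟩
    by_cases hQq : Q = q
    · obtain ⟨z, hzq, n, hzn⟩ := exists_mul_pow_mem_of_mem_minimalPrimes hq hfq
      have : z ∈ powColon J (φ f) y := ⟨n, J.mul_mem_right _ hzn⟩
      exact hzq (hQq ▸ hKQ this)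
    · have : x ^ t ∈ powColon J (φ f) y := by
        refine ⟨0, ?_⟩
        rw [pow_zero, mul_one, mul_comm]
        exact hyt
      exact hxQ Q hQmem hQq (hQprime.mem_of_pow_mem t (hKQ this))

end Groth.Agent.Lib.WeakAssFinite
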