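import Mathlib.CategoryTheory.Sites.LocallyBijective
import Mathlib.CategoryTheory.Sites.EpiMono
import Mathlib.CategoryTheory.Sites.Sheafification
import Mathlib.CategoryTheory.Limits.Types.Coproducts
import Mathlib.CategoryTheory.Yoneda

/-!
# Weakly contractible objects of a site: two characterizations (helper22)
-/

set_option autoImplicit false
universe u

open CategoryTheory CategoryTheory.Limits Opposite

namespace Groth.Agent.Lib.WeaklyContractibleSite22

variable {C : Type u} [SmallCategory C] (J : GrothendieckTopology C) (U : C)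

/-- The index type of the coproduct attached to a sieve. -/
abbrev Idx (S : Sieve U) : Type u := Σ V : C, {f : V ⟶ U // S f}

/-- The coproduct of the representable presheaves of the arrows of a sieve. -/
noncomputable abbrev Q (S : Sieve U) : Cᵒᵖ ⥤ Type u := ∐ fun i : Idx U S => yoneda.obj i.1

/-- The canonical map to the representable presheaf. -/
noncomputable abbrev π (S : Sieve U) : Q U S ⟶ yoneda.obj U :=
  Sigma.desc (fun i : Idx U S => yoneda.map i.2.1)

theorem forward
    (h : ∀ S : Sieve U, S ∈ J U → IsSplitEpi ((presheafToSheaf J (Type u)).map (π U S)))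
    (F G : Sheaf J (Type u)) (φ : F ⟶ G) (hφ : Epi φ) :
    Function.Surjective (φ.hom.app (op U)) := by
  intro s
  haveI : Sheaf.IsLocallySurjective φ := (Sheaf.isLocallySurjective_iff_epi φ).2 hφ
  have hS : Presheaf.imageSieve φ.hom s ∈ J U := Presheaf.imageSieve_mem J φ.hom s
  obtain ⟨⟨σ, hσ⟩⟩ := h _ hS
  have hex : ∀ i : Idx U (Presheaf.imageSieve φ.hom s),
      ∃ t : F.obj.obj (op i.1), φ.hom.app _ t = G.obj.map i.2.1.op s := fun i => i.2.2
  choose t ht using hex
  let τ : Q U (Presheaf.imageSieve φ.hom s) ⟶ F.obj :=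
    Sigma.desc (fun i => yonedaEquiv.symm (t i))
  have hτ : τ ≫ φ.hom = π U (Presheaf.imageSieve φ.hom s) ≫ yonedaEquiv.symm s := by
    refine Sigma.hom_ext _ _ (fun i => ?_)
    rw [Sigma.ι_desc_assoc, Sigma.ι_desc_assoc, yonedaEquiv_symm_naturality_right, ht i,
      yonedaEquiv_symm_naturality_left]
  let m : yoneda.obj U ⟶ F.obj :=
    toSheafify J (yoneda.obj U) ≫ σ.hom ≫ sheafifyLift J τ F.property
  have hm : m ≫ φ.hom = yonedaEquiv.symm s := by
    have h1 : sheafifyLift J τ F.property ≫ φ.hom =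
        sheafifyMap J (π U (Presheaf.imageSieve φ.hom s)) ≫
          sheafifyLift J (yonedaEquiv.symm s) G.property := by
      rw [← sheafifyLift_comp J τ F.property φ.hom G.property, hτ, sheafifyMap_sheafifyLift]
    have h2 : σ.hom ≫ sheafifyMap J (π U (Presheaf.imageSieve φ.hom s)) = 𝟙 _ :=
      congrArg (fun f => f.hom) hσ
    calc m ≫ φ.hom = toSheafify J (yoneda.obj U) ≫ σ.hom ≫
          (sheafifyLift J τ F.property ≫ φ.hom) := by simp only [m, Category.assoc]
      _ = toSheafify J (yoneda.obj U) ≫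
          (σ.hom ≫ sheafifyMap J (π U (Presheaf.imageSieve φ.hom s))) ≫
          sheafifyLift J (yonedaEquiv.symm s) G.property := by
            rw [h1]; simp only [Category.assoc]
      _ = yonedaEquiv.symm s := by
            rw [h2, Category.id_comp, toSheafify_sheafifyLift]
  refine ⟨yonedaEquiv m, ?_⟩
  have := congrArg yonedaEquiv hm
  rw [yonedaEquiv_comp, Equiv.apply_symm_apply] at this
  exact this

theorem backward
    (h : ∀ (F G : Sheaf J (Type u)) (φ : F ⟶ G), Epi φ →
      Function.Surjective (φ.hom.app (op U)))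
    (S : Sieve U) (hS : S ∈ J U) :
    IsSplitEpi ((presheafToSheaf J (Type u)).map (π U S)) := by
  have hls : Presheaf.IsLocallySurjective J (π U S) := by
    refine ⟨fun {V} g => ?_⟩
    refine J.superset_covering ?_ (J.pullback_stable g hS)
    intro V' k hk
    refine ⟨(Sigma.ι (fun i : Idx U S => yoneda.obj i.1) ⟨V', k ≫ g, hk⟩).app (op V') (𝟙 V'), ?_⟩
    have h0 : Sigma.ι (fun i : Idx U S => yoneda.obj i.1) ⟨V', k ≫ g, hk⟩ ≫ π U S =
        yoneda.map (k ≫ g) := Sigma.ι_desc (fun i : Idx U S => yoneda.map i.2.1) ⟨V', k ≫ g, hk⟩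
    have h1 := ConcreteCategory.congr_hom (NatTrans.congr_app h0 (op V')) (𝟙 V')
    refine h1.trans ?_
    simp
  haveI : Sheaf.IsLocallySurjective ((presheafToSheaf J (Type u)).map (π U S)) :=
    (Presheaf.isLocallySurjective_presheafToSheaf_map_iff J (π U S)).2 hls
  have hepi : Epi ((presheafToSheaf J (Type u)).map (π U S)) := inferInstance
  obtain ⟨q, hq⟩ := h _ _ _ hepi ((toSheafify J (yoneda.obj U)).app (op U) (𝟙 U))
  let σ0 : yoneda.obj U ⟶ sheafify J (Q U S) := yonedaEquiv.symm q
  refine ⟨⟨⟨sheafifyLift J σ0 ((presheafToSheaf J (Type u)).obj (Q U S)).property⟩, ?_⟩⟩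
  apply Sheaf.hom_ext
  apply sheafify_hom_ext J _ _ ((presheafToSheaf J (Type u)).obj (yoneda.obj U)).property
  change toSheafify J (yoneda.obj U) ≫ sheafifyLift J σ0 _ ≫ sheafifyMap J (π U S) =
    toSheafify J (yoneda.obj U) ≫ 𝟙 _
  rw [toSheafify_sheafifyLift_assoc, Category.comp_id]
  apply yonedaEquiv.injective
  rw [yonedaEquiv_comp, Equiv.apply_symm_apply]
  exact hq

end Groth.Agent.Lib.WeaklyContractibleSite22
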