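import Mathlib
import Groth.Agent.Lib.InsepDivAlg
import Groth.Agent.Lib.CyclicDivAlg
import Groth.Agent.Lib.ArtinSchreierDiv

/-!
# Division algebras of degree 2 and 3 in characteristic 2 and 3 (Wedderburn)

A central division algebra of dimension `p²` over a field of characteristic `p ∈ {2, 3}` contains
an element which is not separable over the centre (equivalently, it is cyclic).
The proof follows Wedderburn's factorisation argument: for `x ∉ K` with cubic relation
`x³ + a₂ x² + a₁ x + a₀ = 0` and `w = z x - x z ≠ 0`, the conjugate `x₂ = w x w⁻¹` satisfies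
`x₂² + x x₂ + x² + a₂ (x + x₂) + a₁ = 0`, and then `y = x x₂ - x₂ x` permutes `x, x₂, x₃`
cyclically, so that `y³` is central.
-/

set_option autoImplicit false

namespace Groth.Agent.Lib.WedderburnCubic

open Polynomial Groth.Agent.Lib.CSA Groth.Agent.Lib.KummerDiv Groth.Agent.Lib.InsepDivAlg
  Groth.Agent.Lib.CyclicDivAlg Groth.Agent.Lib.ArtinSchreierDiv

universe u v

variable {K : Type u} [Field K] {A : Type v} [DivisionRing A] [Algebra K A]
  [Algebra.IsCentral K A] [FiniteDimensional K A]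

/-- Two non-commuting elements generate a central division algebra of prime degree. -/
theorem adjoin_pair_eq_top_of_not_commute (p : ℕ) [Fact p.Prime]
    (hA : Module.finrank K A = p ^ 2) (v u : A) (hvu : v * u ≠ u * v) :
    Algebra.adjoin K {v, u} = ⊤ := by
  have hp : p.Prime := Fact.out
  set B : Subalgebra K A := Algebra.adjoin K {v, u} with hB
  have hvB : v ∈ B := Algebra.subset_adjoin (by simp)
  have huB : u ∈ B := Algebra.subset_adjoin (by simp)
  have hvK : v ∉ (algebraMap K A).range := by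
    rintro ⟨c, rfl⟩
    exact hvu (Algebra.commutes c u)
  set L : Subalgebra K A := Algebra.adjoin K {v} with hL
  have hvL : v ∈ L := Algebra.subset_adjoin (Set.mem_singleton v)
  have hLcomm := adjoin_singleton_comm (K := K) v
  have hLB : L ≤ B := Algebra.adjoin_mono (by simp)
  have hLrank : Module.finrank K L = p := by
    rcases (Nat.dvd_prime hp).mp (finrank_dvd_of_comm p hA L hLcomm) with h1 | h1
    · exfalso
      have hbot : L = ⊥ := Subalgebra.finrank_eq_one_iff.mp h1
      rw [hbot] at hvL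
      exact hvK (Algebra.mem_bot.mp hvL)
    · exact h1
  have hLcent := centralizer_eq_self p hp.pos hA L hLcomm hLrank
  set C : Subalgebra K A := Subalgebra.centralizer K (B : Set A) with hC
  have hCL : C ≤ L := by
    rw [← hLcent]
    exact Subalgebra.centralizer_le K _ _ hLB
  have hCcomm : ∀ a ∈ C, ∀ b ∈ C, a * b = b * a :=
    fun a ha b hb => hLcomm a (hCL ha) b (hCL hb)
  haveI : IsSimpleRing B := isSimpleRing_subalgebra _
  have hBC := finrank_centralizer B
  rcases (Nat.dvd_prime hp).mp (finrank_dvd_of_comm p hA C hCcomm) with h1 | h1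
  · rw [← hC, h1, mul_one] at hBC
    apply Subalgebra.toSubmodule_injective
    rw [Algebra.top_toSubmodule]
    apply Submodule.eq_top_of_finrank_eq
    rw [Subalgebra.finrank_toSubmodule, hBC]
  · exfalso
    have hCeq : C = L := by
      apply Subalgebra.toSubmodule_injective
      exact Submodule.eq_of_le_of_finrank_eq hCL (by rw [Subalgebra.finrank_toSubmodule,
        Subalgebra.finrank_toSubmodule, hLrank, h1])
    have hvC : v ∈ C := hCeq ▸ hvL
    rw [hC, Subalgebra.mem_centralizer_iff] at hvC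
    exact hvu (hvC u huB).symm

/-- An element commuting with two non-commuting elements is central. -/
theorem mem_range_of_commute_pair (p : ℕ) [Fact p.Prime]
    (hA : Module.finrank K A = p ^ 2) (v u a : A) (hvu : v * u ≠ u * v)
    (hav : v * a = a * v) (hau : u * a = a * u) : a ∈ (algebraMap K A).range := by
  have hgen := adjoin_pair_eq_top_of_not_commute p hA v u hvu
  have hcen : a ∈ Subalgebra.center K A := by
    rw [Subalgebra.mem_center_iff]
    intro b
    have hb : b ∈ Algebra.adjoin K {v, u} := by rw [hgen]; exact Algebra.mem_top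
    induction hb using Algebra.adjoin_induction with
    | mem x hx =>
      rcases hx with rfl | hx
      · exact hav
      · rw [Set.mem_singleton_iff] at hx
        subst hx
        exact hau
    | algebraMap r => exact Algebra.commutes r _
    | add x y _ _ hx hy => rw [add_mul, mul_add, hx, hy]
    | mul x y _ _ hx hy => rw [mul_assoc, hy, ← mul_assoc, hx, mul_assoc]
  rw [Algebra.IsCentral.center_eq_bot] at hcen
  exact Algebra.mem_bot.mp hcen

/-- If a conjugate `w x w⁻¹ ≠ x` of `x` commutes with `x`, then `K[x]` is Galois of degree `p` over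
`K`, and hence `A` has an inseparable element. -/
theorem exists_not_isSeparable_of_conj_commute (p : ℕ) [Fact p.Prime] [CharP K p]
    (hA : Module.finrank K A = p ^ 2) (x w : A) (hw : w ≠ 0)
    (h1 : w * x * w⁻¹ ≠ x) (h2 : (w * x * w⁻¹) * x = x * (w * x * w⁻¹)) :
    ∃ v : A, ¬ IsSeparable K v := by
  classical
  have hp : p.Prime := Fact.out
  have hxK : x ∉ (algebraMap K A).range := by
    rintro ⟨c, rfl⟩
    apply h1
    rw [← Algebra.commutes, mul_assoc, mul_inv_cancel₀ hw, mul_one]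
  set L : Subalgebra K A := Algebra.adjoin K {x} with hL
  have hxL : x ∈ L := Algebra.subset_adjoin (Set.mem_singleton x)
  have hLcomm := adjoin_singleton_comm (K := K) x
  have hLrank : Module.finrank K L = p := by
    rcases (Nat.dvd_prime hp).mp (finrank_dvd_of_comm p hA L hLcomm) with h | h
    · exfalso
      have hbot : L = ⊥ := Subalgebra.finrank_eq_one_iff.mp h
      rw [hbot] at hxL
      exact hxK (Algebra.mem_bot.mp hxL)
    · exact h
  have hLcent := centralizer_eq_self p hp.pos hA L hLcomm hLrank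
  have hx2L : w * x * w⁻¹ ∈ L := by
    rw [← hLcent, Subalgebra.mem_centralizer_iff]
    intro b hb
    induction hb using Algebra.adjoin_induction with
    | mem y hy =>
      rw [Set.mem_singleton_iff] at hy
      subst hy
      exact h2.symm
    | algebraMap r => exact Algebra.commutes r _
    | add a b _ _ ha hb => rw [add_mul, mul_add, ha, hb]
    | mul a b _ _ ha hb => rw [mul_assoc, hb, ← mul_assoc, ha, mul_assoc]
  have hconjL : ∀ y ∈ L, conj (K := K) w hw y ∈ L := by
    intro y hy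
    induction hy using Algebra.adjoin_induction with
    | mem y hy =>
      rw [Set.mem_singleton_iff] at hy
      subst hy
      rw [conj_apply]
      exact hx2L
    | algebraMap r => rw [AlgEquiv.commutes]; exact L.algebraMap_mem r
    | add a b _ _ ha hb => rw [map_add]; exact L.add_mem ha hb
    | mul a b _ _ ha hb => rw [map_mul]; exact L.mul_mem ha hb
  letI : CommRing L :=
    { (inferInstance : Ring L) with
      mul_comm := fun a b => Subtype.ext (hLcomm a a.2 b b.2) }
  letI : Field L := fieldOfFiniteDimensional K L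
  let τ₀ : L →ₐ[K] L :=
    AlgHom.codRestrict (((conj (K := K) w hw : A ≃ₐ[K] A) : A →ₐ[K] A).comp L.val) L
      (fun y => hconjL y y.2)
  have hτ₀inj : Function.Injective τ₀ := τ₀.toRingHom.injective
  have hτ₀surj : Function.Surjective τ₀ :=
    LinearMap.surjective_of_injective (f := τ₀.toLinearMap) hτ₀inj
  let τ : L ≃ₐ[K] L := AlgEquiv.ofBijective τ₀ ⟨hτ₀inj, hτ₀surj⟩
  let xL : L := ⟨x, hxL⟩
  have hτx : τ xL ≠ xL := by
    intro h
    apply h1
    have := congrArg Subtype.val h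
    exact this
  haveI : IsSimpleOrder (IntermediateField K L) :=
    IntermediateField.isSimpleOrder_of_finrank_prime K L (by rw [hLrank]; exact hp)
  have hgal : IsGalois K L := by
    apply IsGalois.of_fixedField_eq_bot
    rcases eq_bot_or_eq_top (IntermediateField.fixedField (⊤ : Subgroup (L ≃ₐ[K] L))) with h | h
    · exact h
    · exfalso
      have hmem : xL ∈ IntermediateField.fixedField (⊤ : Subgroup (L ≃ₐ[K] L)) := by
        rw [h]; exact IntermediateField.mem_top
      rw [IntermediateField.mem_fixedField_iff] at hmem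
      exact hτx (hmem τ (Subgroup.mem_top τ))
  exact exists_not_isSeparable p hA hLrank L.val

/-- If `w = z x - x z ≠ 0` and `w x w⁻¹` commutes with `x`, then `A` has an inseparable
element. -/
theorem exists_not_isSeparable_of_commutator_conj (p : ℕ) [Fact p.Prime] [CharP K p]
    (hA : Module.finrank K A = p ^ 2) (x z : A) (hw : z * x - x * z ≠ 0)
    (h2 : ((z * x - x * z) * x * (z * x - x * z)⁻¹) * x
      = x * ((z * x - x * z) * x * (z * x - x * z)⁻¹)) :
    ∃ v : A, ¬ IsSeparable K v := by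
  set w : A := z * x - x * z with hwdef
  by_cases h1 : w * x * w⁻¹ = x
  · -- `w` commutes with `x`, so `u = w⁻¹ z` satisfies `u x - x u = 1`
    have hwx : w * x = x * w := by
      have := congrArg (· * w) h1
      simpa [mul_assoc, inv_mul_cancel₀ hw] using this
    have hwx' : w⁻¹ * x = x * w⁻¹ := ((Commute.inv_left₀ (show Commute w x from hwx))).eq
    set u : A := w⁻¹ * z with hu
    have hux : u * x - x * u = 1 := by
      calc u * x - x * u = w⁻¹ * (z * x - x * z) := by
            rw [hu, ← mul_assoc x, ← hwx']; noncomm_ring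
        _ = 1 := by rw [← hwdef, inv_mul_cancel₀ hw]
    have hgen := adjoin_pair_eq_top p hA u x hux
    obtain ⟨a, ha⟩ := pow_char_mem_range_of_commutator p u x hux hgen
    have hxK : x ∉ (algebraMap K A).range := by
      rintro ⟨c, rfl⟩
      apply hw
      rw [hwdef, Algebra.commutes, sub_self]
    exact ⟨x, not_isSeparable_of_pow_char p x a ha.symm hxK⟩
  · exact exists_not_isSeparable_of_conj_commute p hA x w hw h1 h2

/-- Every element is killed by a monic polynomial of degree `p`. -/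
theorem exists_monic_natDegree_eq (p : ℕ) [Fact p.Prime]
    (hA : Module.finrank K A = p ^ 2) (x : A) :
    ∃ f : K[X], f.Monic ∧ f.natDegree = p ∧ aeval x f = 0 := by
  have hp : p.Prime := Fact.out
  have hint : IsIntegral K x := IsIntegral.of_finite K x
  set L : Subalgebra K A := Algebra.adjoin K {x} with hL
  have hxL : x ∈ L := Algebra.subset_adjoin (Set.mem_singleton x)
  have hdvd := finrank_dvd_of_comm p hA L (adjoin_singleton_comm x)
  have hle : Module.finrank K L ≤ p := Nat.le_of_dvd hp.pos hdvd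
  have hmin : minpoly K (⟨x, hxL⟩ : L) = minpoly K x :=
    (minpoly.algHom_eq L.val Subtype.val_injective ⟨x, hxL⟩).symm
  have hdeg : (minpoly K x).natDegree ≤ p := by
    rw [← hmin]
    exact (minpoly.natDegree_le (A := K) (⟨x, hxL⟩ : L)).trans hle
  refine ⟨minpoly K x * X ^ (p - (minpoly K x).natDegree),
    (minpoly.monic hint).mul (monic_X_pow _), ?_, ?_⟩
  · rw [(minpoly.monic hint).natDegree_mul (monic_X_pow _), natDegree_X_pow]
    omega
  · rw [map_mul, minpoly.aeval, zero_mul]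

/-- There is a non-central element. -/
theorem exists_not_mem_range (p : ℕ) [Fact p.Prime]
    (hA : Module.finrank K A = p ^ 2) : ∃ x : A, x ∉ (algebraMap K A).range := by
  have hp : p.Prime := Fact.out
  by_contra! hcon
  have htop : (⊥ : Subalgebra K A) = ⊤ := by
    rw [eq_top_iff]
    intro x _
    exact Algebra.mem_bot.mpr (hcon x)
  have h1 : Module.finrank K (⊥ : Subalgebra K A) = 1 := Subalgebra.finrank_bot
  rw [htop, subalgebra_top_finrank_eq_submodule_top_finrank, finrank_top, hA] at h1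
  have := hp.one_lt
  nlinarith

/-- A non-central element fails to commute with something. -/
theorem exists_not_commute (x : A) (hx : x ∉ (algebraMap K A).range) :
    ∃ z : A, z * x - x * z ≠ 0 := by
  by_contra! hcon
  apply hx
  have hcen : x ∈ Subalgebra.center K A := by
    rw [Subalgebra.mem_center_iff]
    intro b
    have := hcon b
    rwa [sub_eq_zero] at this
  rw [Algebra.IsCentral.center_eq_bot] at hcen
  exact Algebra.mem_bot.mp hcen

/-- **p = 2**. -/
theorem exists_not_isSeparable_two [CharP K 2]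
    (hA : Module.finrank K A = 2 ^ 2) : ∃ v : A, ¬ IsSeparable K v := by
  haveI : Fact (Nat.Prime 2) := ⟨Nat.prime_two⟩
  obtain ⟨x, hxK⟩ := exists_not_mem_range 2 hA
  obtain ⟨z, hw⟩ := exists_not_commute x hxK
  obtain ⟨f, hmonic, hdeg, hroot⟩ := exists_monic_natDegree_eq 2 hA x
  have hf := hmonic.as_sum
  rw [hdeg, Finset.sum_range_succ, Finset.sum_range_one] at hf
  rw [hf] at hroot
  simp only [map_add, map_mul, aeval_C, aeval_X, map_pow, pow_zero, mul_one, pow_one] at hroot
  set a₀ : A := algebraMap K A (f.coeff 0) with ha₀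
  set a₁ : A := algebraMap K A (f.coeff 1) with ha₁
  have hc₀ : ∀ b : A, a₀ * b = b * a₀ := fun b => Algebra.commutes _ b
  have hc₁ : ∀ b : A, a₁ * b = b * a₁ := fun b => Algebra.commutes _ b
  apply exists_not_isSeparable_of_commutator_conj 2 hA x z hw
  set w : A := z * x - x * z with hwdef
  -- `(x₂ + x + a₁) w = 0`
  have hx2 : x ^ 2 = -(a₀ + a₁ * x) := eq_neg_of_add_eq_zero_left hroot
  have hrel : (w * x * w⁻¹ + x + a₁) * w = 0 := by
    have e1 : w * x * w⁻¹ * w = w * x := by rw [mul_assoc, inv_mul_cancel₀ hw, mul_one]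
    rw [add_mul, add_mul, e1, hwdef]
    have : (z * x - x * z) * x + x * (z * x - x * z) + a₁ * (z * x - x * z)
        = z * (x ^ 2 + a₁ * x) - (x ^ 2 + a₁ * x) * z := by
      rw [sub_mul, mul_sub, mul_sub, mul_add, add_mul, ← mul_assoc z a₁ x, ← hc₁ z]
      noncomm_ring
    rw [this, hx2]
    have : -(a₀ + a₁ * x) + a₁ * x = -a₀ := by abel
    rw [this, mul_neg, neg_mul, hc₀ z, sub_self]
  have hx₂ : w * x * w⁻¹ = -x - a₁ := by
    have := (mul_eq_zero.mp hrel).resolve_right hw
    rw [← sub_eq_zero]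
    rw [← this]
    abel
  rw [hx₂]
  rw [sub_mul, mul_sub, hc₁ x]
  noncomm_ring


theorem cubic_rel {R : Type*} [Ring R] (x z a₀ a₁ a₂ w x₂ : R)
    (hc₀ : ∀ b : R, a₀ * b = b * a₀) (hc₁ : ∀ b : R, a₁ * b = b * a₁)
    (hc₂ : ∀ b : R, a₂ * b = b * a₂)
    (hroot : x ^ 3 + a₂ * x ^ 2 + a₁ * x + a₀ = 0)
    (hw : w = z * x - x * z) (hx₂w : x₂ * w = w * x) :
    (x₂ ^ 2 + x * x₂ + x ^ 2 + a₂ * (x + x₂) + a₁) * w = 0 := by
  have hx3 : x ^ 3 = -(a₂ * x ^ 2 + a₁ * x + a₀) := by
    rw [eq_neg_iff_add_eq_zero, ← hroot]; abel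
  have e1 : x₂ ^ 2 * w = w * x ^ 2 := by
    rw [pow_two, mul_assoc, hx₂w, ← mul_assoc, hx₂w, mul_assoc, ← pow_two]
  have e2 : x * x₂ * w = x * w * x := by rw [mul_assoc, hx₂w, mul_assoc]
  have e3 : a₂ * (x + x₂) * w = a₂ * (x * w + w * x) := by
    rw [mul_assoc, add_mul, hx₂w]
  have h3 : w * x ^ 2 + x * w * x + x ^ 2 * w = z * x ^ 3 - x ^ 3 * z := by
    rw [hw]; noncomm_ring
  have h2 : x * w + w * x = z * x ^ 2 - x ^ 2 * z := by
    rw [hw]; noncomm_ring
  have f0 : z * a₀ = a₀ * z := (hc₀ z).symm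
  have f1 : z * (a₁ * x) = a₁ * (z * x) := by rw [← mul_assoc, ← hc₁ z, mul_assoc]
  have f2 : z * (a₂ * x ^ 2) = a₂ * (z * x ^ 2) := by rw [← mul_assoc, ← hc₂ z, mul_assoc]
  have h4 : z * x ^ 3 - x ^ 3 * z = -(a₂ * (z * x ^ 2 - x ^ 2 * z)) - a₁ * w := by
    rw [hx3, mul_neg, mul_add, mul_add, f0, f1, f2, hw]
    noncomm_ring
  calc (x₂ ^ 2 + x * x₂ + x ^ 2 + a₂ * (x + x₂) + a₁) * w
      = (w * x ^ 2 + x * w * x + x ^ 2 * w) + a₂ * (x * w + w * x) + a₁ * w := by
        rw [add_mul, add_mul, add_mul, add_mul, e1, e2, e3]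
    _ = 0 := by rw [h3, h4, h2]; abel

theorem cubic_key {R : Type*} [Ring R] (x x₂ a₁ a₂ : R)
    (hc₁ : ∀ b : R, a₁ * b = b * a₁) (hc₂ : ∀ b : R, a₂ * b = b * a₂)
    (hE : x₂ ^ 2 + x * x₂ + x ^ 2 + a₂ * (x + x₂) + a₁ = 0) :
    (x * x₂ - x₂ * x) * x = x₂ * (x * x₂ - x₂ * x) ∧
    (x * x₂ - x₂ * x) * x₂ = (-a₂ - x - x₂) * (x * x₂ - x₂ * x) ∧
    (x * x₂ - x₂ * x) * (-a₂ - x - x₂) = x * (x * x₂ - x₂ * x) := by
  have g1 : x * (a₂ * (x + x₂)) = a₂ * (x * (x + x₂)) := by
    rw [← mul_assoc, ← hc₂ x, mul_assoc]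
  have g2 : x₂ * (a₂ * (x + x₂)) = a₂ * (x₂ * (x + x₂)) := by
    rw [← mul_assoc, ← hc₂ x₂, mul_assoc]
  have k2 : (x * x₂ - x₂ * x) * x₂ - (-a₂ - x - x₂) * (x * x₂ - x₂ * x)
      = x * (x₂ ^ 2 + x * x₂ + x ^ 2 + a₂ * (x + x₂) + a₁)
        - (x₂ ^ 2 + x * x₂ + x ^ 2 + a₂ * (x + x₂) + a₁) * x := by
    rw [mul_add x, mul_add x, mul_add x, g1, ← hc₁ x]
    noncomm_ring
  have hy2 : (x * x₂ - x₂ * x) * x₂ = (-a₂ - x - x₂) * (x * x₂ - x₂ * x) := by
    rw [← sub_eq_zero, k2, hE, mul_zero, zero_mul, sub_zero]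
  have k1 : (x * x₂ - x₂ * x) * x + (x * x₂ - x₂ * x) * x₂ + x * (x * x₂ - x₂ * x)
        + a₂ * (x * x₂ - x₂ * x)
      = (x₂ ^ 2 + x * x₂ + x ^ 2 + a₂ * (x + x₂) + a₁) * x₂
        - x₂ * (x₂ ^ 2 + x * x₂ + x ^ 2 + a₂ * (x + x₂) + a₁) := by
    rw [mul_add x₂, mul_add x₂, mul_add x₂, g2, ← hc₁ x₂]
    noncomm_ring
  have hy1 : (x * x₂ - x₂ * x) * x = x₂ * (x * x₂ - x₂ * x) := by
    rw [hE, zero_mul, mul_zero, sub_zero, hy2] at k1
    rw [← sub_eq_zero, ← k1]
    noncomm_ring
  refine ⟨hy1, hy2, ?_⟩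
  have g3 : (x * x₂ - x₂ * x) * a₂ = a₂ * (x * x₂ - x₂ * x) := (hc₂ _).symm
  rw [mul_sub, mul_sub, mul_neg, g3, hy1, hy2]
  noncomm_ring

/-- **p = 3** (Wedderburn). -/
theorem exists_not_isSeparable_three [CharP K 3]
    (hA : Module.finrank K A = 3 ^ 2) : ∃ v : A, ¬ IsSeparable K v := by
  haveI : Fact (Nat.Prime 3) := ⟨Nat.prime_three⟩
  obtain ⟨x, hxK⟩ := exists_not_mem_range 3 hA
  obtain ⟨z, hw⟩ := exists_not_commute x hxK
  obtain ⟨f, hmonic, hdeg, hroot⟩ := exists_monic_natDegree_eq 3 hA x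
  have hf := hmonic.as_sum
  rw [hdeg, Finset.sum_range_succ, Finset.sum_range_succ, Finset.sum_range_one] at hf
  rw [hf] at hroot
  simp only [map_add, map_mul, aeval_C, aeval_X, map_pow, pow_zero, mul_one, pow_one] at hroot
  by_cases h2 : ((z * x - x * z) * x * (z * x - x * z)⁻¹) * x
      = x * ((z * x - x * z) * x * (z * x - x * z)⁻¹)
  · exact exists_not_isSeparable_of_commutator_conj 3 hA x z hw h2
  obtain ⟨a₀, ha₀⟩ : ∃ a₀ : A, a₀ = algebraMap K A (f.coeff 0) := ⟨_, rfl⟩
  obtain ⟨a₁, ha₁⟩ : ∃ a₁ : A, a₁ = algebraMap K A (f.coeff 1) := ⟨_, rfl⟩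
  obtain ⟨a₂, ha₂⟩ : ∃ a₂ : A, a₂ = algebraMap K A (f.coeff 2) := ⟨_, rfl⟩
  have hc₀ : ∀ b : A, a₀ * b = b * a₀ := fun b => by rw [ha₀]; exact Algebra.commutes _ b
  have hc₁ : ∀ b : A, a₁ * b = b * a₁ := fun b => by rw [ha₁]; exact Algebra.commutes _ b
  have hc₂ : ∀ b : A, a₂ * b = b * a₂ := fun b => by rw [ha₂]; exact Algebra.commutes _ b
  rw [← ha₀, ← ha₁, ← ha₂] at hroot
  have hroot' : x ^ 3 + a₂ * x ^ 2 + a₁ * x + a₀ = 0 := by rw [← hroot]; abel
  obtain ⟨w, hwdef⟩ : ∃ w : A, w = z * x - x * z := ⟨_, rfl⟩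
  rw [← hwdef] at hw h2
  obtain ⟨x₂, hx₂⟩ : ∃ x₂ : A, x₂ = w * x * w⁻¹ := ⟨_, rfl⟩
  rw [← hx₂] at h2
  have hx₂w : x₂ * w = w * x := by rw [hx₂, mul_assoc, inv_mul_cancel₀ hw, mul_one]
  have hrel := cubic_rel x z a₀ a₁ a₂ w x₂ hc₀ hc₁ hc₂ hroot' hwdef hx₂w
  have hE := (mul_eq_zero.mp hrel).resolve_right hw
  obtain ⟨hy1, hy2, hy3⟩ := cubic_key x x₂ a₁ a₂ hc₁ hc₂ hE
  obtain ⟨y, hy⟩ : ∃ y : A, y = x * x₂ - x₂ * x := ⟨_, rfl⟩
  obtain ⟨x₃, hx₃⟩ : ∃ x₃ : A, x₃ = -a₂ - x - x₂ := ⟨_, rfl⟩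
  rw [← hy, ← hx₃] at hy2 hy3
  rw [← hy] at hy1
  have hy0 : y ≠ 0 := by
    rw [hy]
    exact sub_ne_zero.mpr (fun h => h2 h.symm)
  have hyx : x * y ^ 3 = y ^ 3 * x := by
    have : y ^ 3 = y * (y * y) := by rw [pow_succ, pow_two, mul_assoc]
    rw [this, mul_assoc y (y * y) x, mul_assoc y y x, hy1, ← mul_assoc y x₂ y, hy2,
      mul_assoc x₃ y y, ← mul_assoc y x₃, hy3, mul_assoc]
  have hyx₂ : x₂ * y ^ 3 = y ^ 3 * x₂ := by
    have : y ^ 3 = y * (y * y) := by rw [pow_succ, pow_two, mul_assoc]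
    rw [this, mul_assoc y (y * y) x₂, mul_assoc y y x₂, hy2, ← mul_assoc y x₃ y, hy3,
      mul_assoc x y y, ← mul_assoc y x, hy1, mul_assoc]
  obtain ⟨c, hc⟩ := mem_range_of_commute_pair 3 hA x x₂ (y ^ 3) (fun h => h2 h.symm) hyx hyx₂
  have hyK : y ∉ (algebraMap K A).range := by
    rintro ⟨c', hc'⟩
    have h3 : y * x = x * y := by rw [← hc']; exact Algebra.commutes _ _
    rw [hy1] at h3
    have h4 : x₂ = x := mul_right_cancel₀ hy0 h3
    exact h2 (by rw [h4])
  exact ⟨y, not_isSeparable_of_pow_char 3 y c hc.symm hyK⟩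

/-- A central division algebra of dimension `p²` in characteristic `p ∈ {2, 3}` has an element
which is not separable over the centre. -/
theorem exists_not_isSeparable_of_two_or_three (p : ℕ) [Fact p.Prime] [CharP K p]
    (hA : Module.finrank K A = p ^ 2) (hp : p = 2 ∨ p = 3) : ∃ v : A, ¬ IsSeparable K v := by
  rcases hp with rfl | rfl
  · exact exists_not_isSeparable_two hA
  · exact exists_not_isSeparable_three hA

end Groth.Agent.Lib.WedderburnCubic
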