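import Mathlib

/-!
# Regularity of an integral Weierstrass model at the origin of the special fibre (helper99)

`regular_at_origin`: for a DVR `R` and a Weierstrass equation with `a₃, a₄, a₆ ∈ m`, `a₆ ∉ m²`,
the localization of the coordinate ring at the maximal ideal `(π, x, y)` is a regular local ring
(of dimension 2).
-/

set_option autoImplicit false
universe u

namespace Groth.Agent.Lib.WeierReg99

open Polynomial IsLocalRing WeierstrassCurve.Affine
open scoped Polynomial.Bivariate

variable {R : Type u} [CommRing R]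

/-- Every `f ∈ R[X][Y]` is `f(0,0)` modulo `(X, Y)`. -/
lemma sub_const_mem (f : R[X][Y]) :
    f - C (C ((f.coeff 0).coeff 0)) ∈ Ideal.span ({C X, Y} : Set R[X][Y]) := by
  have h1 : divX f * Y + C (f.coeff 0) = f := divX_mul_X_add f
  have h2 : divX (f.coeff 0) * X + C ((f.coeff 0).coeff 0) = f.coeff 0 :=
    divX_mul_X_add (f.coeff 0)
  have e : f = divX f * Y + C (divX (f.coeff 0)) * C X + C (C ((f.coeff 0).coeff 0)) := by
    rw [add_assoc, ← C_mul, ← C_add, h2, h1]
  have : f - C (C ((f.coeff 0).coeff 0)) = divX f * Y + C (divX (f.coeff 0)) * C X :=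
    sub_eq_of_eq_add e
  rw [this]
  refine Ideal.add_mem _ (Ideal.mul_mem_left _ _ (Ideal.subset_span (by simp)))
    (Ideal.mul_mem_left _ _ (Ideal.subset_span (by simp)))

variable (W : WeierstrassCurve.Affine R)

/-- The relation `a₆ = y² + a₁xy + a₃y - x³ - a₂x² - a₄x` in the coordinate ring. -/
lemma a6_eq :
    algebraMap R W.CoordinateRing W.a₆ =
      CoordinateRing.mk W X * (CoordinateRing.mk W X +
        CoordinateRing.mk W (C (C W.a₁)) * CoordinateRing.mk W (C X) +
        CoordinateRing.mk W (C (C W.a₃))) -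
      CoordinateRing.mk W (C X) * (CoordinateRing.mk W (C X) ^ 2 +
        CoordinateRing.mk W (C (C W.a₂)) * CoordinateRing.mk W (C X) +
        CoordinateRing.mk W (C (C W.a₄))) := by
  have h0 : CoordinateRing.mk W W.polynomial = 0 := AdjoinRoot.mk_self
  have h1 : algebraMap R W.CoordinateRing W.a₆ = CoordinateRing.mk W (C (C W.a₆)) := rfl
  rw [h1]
  simp only [← map_mul, ← map_add, ← map_sub, ← map_pow]
  rw [← sub_eq_zero, ← map_sub, ← neg_eq_zero, ← map_neg]
  convert h0 using 2
  rw [WeierstrassCurve.Affine.polynomial]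
  simp only [C_add, C_mul, C_pow]
  ring


lemma algebraMap_eq_mk (r : R) :
    algebraMap R W.CoordinateRing r = CoordinateRing.mk W (C (C r)) := rfl

lemma map_algebraMap {S : Type u} [CommRing S] (f : R →+* S) (r : R) :
    CoordinateRing.map W f (algebraMap R W.CoordinateRing r) =
      algebraMap S (W.map f).toAffine.CoordinateRing (f r) := by
  rw [algebraMap_eq_mk, CoordinateRing.map_mk]
  simp only [Polynomial.map_C, coe_mapRingHom]
  rfl

section
variable [IsLocalRing R]

/-- The kernel of the reduction map `R[W] → k[W̄]` is `m·R[W]`. -/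
lemma ker_map_residue_le (a : W.CoordinateRing)
    (ha : CoordinateRing.map W (residue R) a = 0) :
    a ∈ Ideal.map (algebraMap R W.CoordinateRing) (maximalIdeal R) := by
  obtain ⟨p, q, rfl⟩ := CoordinateRing.exists_smul_basis_eq a
  simp_rw [map_add, CoordinateRing.map_smul, map_one, CoordinateRing.map_mk, map_X] at ha
  obtain ⟨hp, hq⟩ := CoordinateRing.smul_basis_eq_zero ha
  have key : ∀ (p : R[X]), p.map (residue R) = 0 → ∀ y : W.CoordinateRing,
      p • y ∈ Ideal.map (algebraMap R W.CoordinateRing) (maximalIdeal R) := by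
    intro p hp y
    have hp' : p ∈ Ideal.map (C : R →+* R[X]) (maximalIdeal R) := by
      rw [Ideal.mem_map_C_iff]
      intro n
      have := congrArg (fun r => r.coeff n) hp
      simp only [coeff_map, coeff_zero] at this
      exact (residue_eq_zero_iff _).mp this
    have h1 : algebraMap R[X] W.CoordinateRing p ∈
        Ideal.map (algebraMap R W.CoordinateRing) (maximalIdeal R) := by
      have := Ideal.mem_map_of_mem (algebraMap R[X] W.CoordinateRing) hp'
      rwa [Ideal.map_map, ← Polynomial.algebraMap_eq,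
        ← IsScalarTower.algebraMap_eq R R[X] W.CoordinateRing] at this
    rw [Algebra.smul_def]
    exact Ideal.mul_mem_right _ _ h1
  exact Ideal.add_mem _ (key p hp _) (key q hq _)

end


omit W in
lemma two_le_height {A : Type*} [CommRing A] [IsDomain A]
    (K P : Ideal A) [K.IsPrime] [P.IsPrime] (hK0 : K ≠ ⊥) (hKP : K < P) :
    (2 : ℕ∞) ≤ P.height := by
  have h0 : (⊥ : Ideal A) < K := bot_lt_iff_ne_bot.mpr hK0
  have h1 := Ideal.height_add_one_le_of_lt_of_isPrime h0
  have h2 := Ideal.height_add_one_le_of_lt_of_isPrime hKP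
  calc (2 : ℕ∞) = 0 + 1 + 1 := by norm_num
    _ ≤ (⊥ : Ideal A).height + 1 + 1 := by gcongr; exact _root_.zero_le
    _ ≤ K.height + 1 := by gcongr
    _ ≤ P.height := h2

theorem regular_at_origin [IsDomain R] [IsDiscreteValuationRing R]
    (h6 : W.a₆ ∈ maximalIdeal R) (h6' : W.a₆ ∉ maximalIdeal R ^ 2)
    (P : Ideal W.CoordinateRing) [hPm : P.IsMaximal]
    (hP : ∀ r ∈ maximalIdeal R, algebraMap R W.CoordinateRing r ∈ P)
    (hx : CoordinateRing.mk W (C X) ∈ P) (hy : CoordinateRing.mk W Y ∈ P) :
    IsRegularLocalRing (Localization.AtPrime P) := by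
  classical
  obtain ⟨ϖ, hϖ⟩ := IsDiscreteValuationRing.exists_irreducible R
  have hmax : maximalIdeal R = Ideal.span {ϖ} := hϖ.maximalIdeal_eq
  have hϖm : ϖ ∈ maximalIdeal R := by rw [hmax]; exact Ideal.mem_span_singleton_self ϖ
  -- a₆ = ϖ * u with u a unit
  obtain ⟨u, hu⟩ : ∃ u, W.a₆ = ϖ * u := by
    rw [hmax, Ideal.mem_span_singleton] at h6
    exact h6
  have hu_unit : IsUnit u := by
    by_contra hnu
    have hum : u ∈ maximalIdeal R := (mem_maximalIdeal u).mpr hnu
    apply h6'
    rw [hu, pow_two]
    exact Ideal.mul_mem_mul hϖm hum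
  obtain ⟨v, hv⟩ := hu_unit.exists_left_inv
  set A := W.CoordinateRing
  set x : A := CoordinateRing.mk W (C X) with hxdef
  set y : A := CoordinateRing.mk W Y with hydef
  -- the reduction map
  let φ := CoordinateRing.map W (residue R)
  let K : Ideal A := RingHom.ker φ
  have hKprime : K.IsPrime := RingHom.ker_isPrime φ
  have hKQ : K ≤ Ideal.map (algebraMap R A) (maximalIdeal R) :=
    fun a ha => ker_map_residue_le W a ha
  have hQP : Ideal.map (algebraMap R A) (maximalIdeal R) ≤ P := by
    rw [Ideal.map_le_iff_le_comap]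
    exact fun r hr => hP r hr
  have hKP : K ≤ P := hKQ.trans hQP
  have hϖK : algebraMap R A ϖ ∈ K := by
    change φ (algebraMap R A ϖ) = 0
    rw [map_algebraMap, (residue_eq_zero_iff ϖ).mpr hϖm, map_zero]
  have hϖ0 : algebraMap R A ϖ ≠ 0 := by
    intro h
    exact hϖ.ne_zero ((FaithfulSMul.algebraMap_injective R A) (h.trans (map_zero _).symm))
  have hK0 : K ≠ ⊥ := by
    intro h
    rw [h] at hϖK
    exact hϖ0 hϖK
  have hxK : x ∉ K := by
    intro h
    change φ x = 0 at h
    have hne := CoordinateRing.XClass_ne_zero (W' := (W.map (residue R)).toAffine) (0 : ResidueField R)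
    apply hne
    rw [← h, hxdef, CoordinateRing.map_mk]
    simp [CoordinateRing.XClass]
  have hKltP : K < P := lt_of_le_of_ne hKP (fun h => hxK (h ▸ hx))
  have hht : (2 : ℕ∞) ≤ P.height := two_le_height K P hK0 hKltP
  have hdim : ringKrullDim (Localization.AtPrime P) = P.height :=
    IsLocalization.AtPrime.ringKrullDim_eq_height P _
  have hnoeth : IsNoetherianRing (Localization.AtPrime P) :=
    IsLocalization.isNoetherianRing P.primeCompl _ inferInstance
  -- generators of the maximal ideal
  let ι := algebraMap A (Localization.AtPrime P)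
  have hJ : maximalIdeal (Localization.AtPrime P) ≤ Ideal.span {ι x, ι y} := by
    rw [← IsLocalization.AtPrime.map_eq_maximalIdeal P (Localization.AtPrime P),
      Ideal.map_le_iff_le_comap]
    intro a ha
    rw [Ideal.mem_comap]
    have hxJ : ι x ∈ Ideal.span {ι x, ι y} := Ideal.subset_span (by simp)
    have hyJ : ι y ∈ Ideal.span {ι x, ι y} := Ideal.subset_span (by simp)
    obtain ⟨f, rfl⟩ := AdjoinRoot.mk_surjective a
    set c := (f.coeff 0).coeff 0 with hc
    have hmem := sub_const_mem f
    have hmem' : CoordinateRing.mk W (f - C (C c)) ∈ Ideal.span {x, y} := by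
      have := Ideal.mem_map_of_mem (CoordinateRing.mk W) hmem
      rwa [Ideal.map_span, Set.image_pair] at this
    have hxyP : Ideal.span {x, y} ≤ P := by
      rw [Ideal.span_le]
      intro z hz
      rcases hz with rfl | rfl
      · exact hx
      · exact hy
    have hcP : algebraMap R A c ∈ P := by
      have h1 : algebraMap R A c = CoordinateRing.mk W f - CoordinateRing.mk W (f - C (C c)) := by
        rw [algebraMap_eq_mk, map_sub]; ring
      rw [h1]
      exact Ideal.sub_mem _ ha (hxyP hmem')
    have hcm : c ∈ maximalIdeal R := by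
      by_contra hcn
      have hcu : IsUnit c := by
        by_contra h; exact hcn ((mem_maximalIdeal c).mpr h)
      exact hPm.ne_top (Ideal.eq_top_of_isUnit_mem _ hcP (hcu.map _))
    obtain ⟨c', hc'⟩ : ∃ c', c = ϖ * c' := by
      rw [hmax, Ideal.mem_span_singleton] at hcm
      exact hcm
    -- ϖ ∈ (x, y)
    have ha6 : algebraMap R A W.a₆ ∈ Ideal.span {x, y} := by
      rw [a6_eq]
      refine Ideal.sub_mem _ (Ideal.mul_mem_right _ _ (Ideal.subset_span (Or.inr rfl)))
        (Ideal.mul_mem_right _ _ (Ideal.subset_span (Or.inl rfl)))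
    have hϖxy : algebraMap R A ϖ ∈ Ideal.span {x, y} := by
      have : algebraMap R A ϖ = algebraMap R A v * algebraMap R A W.a₆ := by
        rw [← map_mul, hu]
        congr 1
        calc ϖ = ϖ * (v * u) := by rw [hv, mul_one]
          _ = v * (ϖ * u) := by ring
      rw [this]
      exact Ideal.mul_mem_left _ _ ha6
    have hmk : CoordinateRing.mk W f ∈ Ideal.span {x, y} := by
      have h1 : CoordinateRing.mk W f =
          CoordinateRing.mk W (f - C (C c)) + algebraMap R A c' * algebraMap R A ϖ := by
        rw [← map_mul, mul_comm c' ϖ, ← hc', algebraMap_eq_mk, map_sub]; ring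
      rw [h1]
      exact Ideal.add_mem _ hmem' (Ideal.mul_mem_left _ _ hϖxy)
    have := Ideal.mem_map_of_mem ι hmk
    rwa [Ideal.map_span, Set.image_pair] at this
  have hle : (maximalIdeal (Localization.AtPrime P)).spanFinrank ≤ 2 := by
    have hJ' : Ideal.span {ι x, ι y} ≤ maximalIdeal (Localization.AtPrime P) := by
      rw [Ideal.span_le, ← IsLocalization.AtPrime.map_eq_maximalIdeal P (Localization.AtPrime P)]
      intro z hz
      rcases hz with rfl | rfl
      · exact Ideal.mem_map_of_mem _ hx
      · exact Ideal.mem_map_of_mem _ hy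
    have heq : maximalIdeal (Localization.AtPrime P) = Ideal.span {ι x, ι y} :=
      le_antisymm hJ hJ'
    rw [heq]
    refine (Submodule.spanFinrank_span_le_ncard_of_finite (Set.toFinite _)).trans ?_
    exact (Set.ncard_insert_le _ _).trans (by rw [Set.ncard_singleton])
  apply IsRegularLocalRing.of_spanFinrank_maximalIdeal_le
  rw [hdim]
  calc ((maximalIdeal (Localization.AtPrime P)).spanFinrank : WithBot ℕ∞)
      ≤ ((2 : ℕ) : WithBot ℕ∞) := by exact_mod_cast hle
    _ = ((2 : ℕ∞) : WithBot ℕ∞) := rfl
    _ ≤ P.height := by exact_mod_cast hht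

end Groth.Agent.Lib.WeierReg99
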