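import Mathlib
import Groth.Agent.Lib.RegularLocal
import Groth.Agent.Lib.H14CMQuot
import Groth.Agent.Lib.WeierReg99

/-!
# Regularity of integral Weierstrass models (helper89)

* `isRegularLocalRing_quotient_of_leibniz`: a hypersurface `T₀/(F)` in a regular ring is regular at a
  prime `q` as soon as some "derivative" `D F` (additive map with the Leibniz rule) is not in `q`.
* `regular`: the affine Weierstrass scheme over a DVR with `Δ ≠ 0`, `a₃, a₄, a₆ ∈ m`, `a₆ ∉ m²` is
  regular.
-/

set_option autoImplicit false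
set_option linter.style.haveILetI false
universe u

namespace Groth.Agent.Lib.WeierRegular89

open IsLocalRing

section leibniz

variable {T₀ : Type u} [CommRing T₀]

/-- an additive map with the Leibniz rule sends `P²` into `P`. -/
theorem leibniz_mem (D : T₀ →+ T₀) (hD : ∀ f g, D (f * g) = D f * g + f * D g) (P : Ideal T₀)
    (z : T₀) (hz : z ∈ P ^ 2) : D z ∈ P := by
  rw [pow_two] at hz
  induction hz using Submodule.mul_induction_on' with
  | mem_mul_mem a ha b hb =>
    rw [hD]
    exact P.add_mem (P.mul_mem_left _ hb) (P.mul_mem_right _ ha)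
  | add x _ y _ hx hy =>
    rw [map_add]
    exact P.add_mem hx hy

/-- Jacobian criterion (hypersurface case, one derivative). -/
theorem isRegularLocalRing_quotient_of_leibniz [IsRegularRing T₀] (F : T₀)
    (q : Ideal (T₀ ⧸ Ideal.span {F})) [q.IsPrime]
    (D : T₀ →+ T₀) (hD : ∀ f g, D (f * g) = D f * g + f * D g)
    (hDF : Ideal.Quotient.mk (Ideal.span {F}) (D F) ∉ q) :
    IsRegularLocalRing (Localization.AtPrime q) := by
  set P : Ideal T₀ := q.comap (Ideal.Quotient.mk (Ideal.span {F})) with hP
  have hFP : F ∈ P := by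
    rw [hP, Ideal.mem_comap, Ideal.Quotient.eq_zero_iff_mem.mpr (Ideal.mem_span_singleton_self F)]
    exact zero_mem _
  have hDFP : D F ∉ P := hDF
  set T := Localization.AtPrime P with hT
  have hreg : IsRegularLocalRing T := inferInstance
  set x : T := algebraMap T₀ T F with hx
  have hxm : x ∈ maximalIdeal T := by
    rw [← Localization.AtPrime.map_eq_maximalIdeal]
    exact Ideal.mem_map_of_mem _ hFP
  have hx2 : x ∉ maximalIdeal T ^ 2 := by
    intro hmem
    rw [← Localization.AtPrime.map_eq_maximalIdeal, ← Ideal.map_pow] at hmem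
    obtain ⟨⟨a, s⟩, h1⟩ := (IsLocalization.mem_map_algebraMap_iff P.primeCompl T).mp hmem
    -- `x * s = a` with `a ∈ P²`, `s ∉ P`
    have h2 : algebraMap T₀ T (F * (s : T₀)) = algebraMap T₀ T (a : T₀) := by
      rw [map_mul]; exact h1
    obtain ⟨c, hc⟩ := (IsLocalization.eq_iff_exists P.primeCompl T).mp h2
    have h3 : (c : T₀) * (s : T₀) * F ∈ P ^ 2 := by
      have : (c : T₀) * (s : T₀) * F = (c : T₀) * (F * (s : T₀)) := by ring
      rw [this, hc]
      exact Ideal.mul_mem_left _ _ a.2
    have h4 := leibniz_mem D hD P _ h3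
    rw [hD] at h4
    have h5 : (c : T₀) * (s : T₀) * D F ∈ P := by
      have h6 : D ((c : T₀) * (s : T₀)) * F ∈ P := P.mul_mem_left _ hFP
      have := P.sub_mem h4 h6
      rwa [add_sub_cancel_left] at this
    have hPp : P.IsPrime := Ideal.comap_isPrime _ _
    rcases hPp.mem_or_mem h5 with h7 | h7
    · rcases hPp.mem_or_mem h7 with h8 | h8
      · exact c.2 h8
      · exact s.2 h8
    · exact hDFP h7
  obtain ⟨hregq, -⟩ := Groth.Agent.Lib.RegularLocal.isRegularLocalRing_quotient_of_spanFinrank hxm
    (Groth.Agent.Lib.RegularLocal.spanFinrank_map_mk_add_one_le hxm hx2)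
  have e := Groth.Agent.Lib.H14CMQuot.localizationQuotientEquiv (Ideal.span {F}) q
  have hmap : (Ideal.span {F}).map (algebraMap T₀ T) = Ideal.span {x} := by
    rw [Ideal.map_span, Set.image_singleton]
  have e2 : Localization.AtPrime q ≃+* (T ⧸ Ideal.span {x}) :=
    e.trans (Ideal.quotEquivOfEq hmap)
  exact IsRegularLocalRing.of_ringEquiv e2.symm

end leibniz

section weier

open Polynomial WeierstrassCurve.Affine
open scoped Polynomial.Bivariate

variable {R : Type u} [CommRing R] (W : WeierstrassCurve.Affine R)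

set_option linter.unusedSimpArgs false

/-- the partial derivative with respect to `X` on `R[X][Y]`, as an additive map. -/
noncomputable def DX : R[X][Y] →+ R[X][Y] :=
  (Bivariate.swap (R := R)).toAddEquiv.toAddMonoidHom.comp
    ((derivative (R := R[X])).toAddMonoidHom.comp
      (Bivariate.swap (R := R)).toAddEquiv.toAddMonoidHom)

theorem DX_apply (f : R[X][Y]) : DX f = Bivariate.swap (derivative (Bivariate.swap f)) := rfl

theorem DX_mul (f g : R[X][Y]) : DX (f * g) = DX f * g + f * DX g := by
  simp only [DX_apply, map_mul, derivative_mul, map_add, Bivariate.swap_swap_apply]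

theorem DX_polynomial : DX W.polynomial = W.polynomialX := by
  rw [DX_apply, WeierstrassCurve.Affine.polynomial, WeierstrassCurve.Affine.polynomialX]
  simp only [map_add, map_sub, map_mul, map_pow, C_add, C_mul, C_pow, Bivariate.swap_X,
    Bivariate.swap_Y, Bivariate.swap_C_C, derivative_add, derivative_sub, derivative_mul,
    derivative_pow, derivative_C, derivative_X, map_zero, map_one, map_natCast, map_ofNat,
    Nat.cast_ofNat]
  ring

theorem DY_polynomial : derivative W.polynomial = W.polynomialY := by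
  rw [WeierstrassCurve.Affine.polynomial, WeierstrassCurve.Affine.polynomialY]
  simp only [map_add, map_sub, map_mul, map_pow, C_add, C_mul, C_pow, derivative_add,
    derivative_sub, derivative_mul, derivative_pow, derivative_C, derivative_X, map_zero, map_one,
    map_natCast, map_ofNat, Nat.cast_ofNat]
  ring

theorem mk_polynomial_eq :
    CoordinateRing.mk W Y ^ 2 + algebraMap R W.CoordinateRing W.a₁ * CoordinateRing.mk W (C X) *
        CoordinateRing.mk W Y + algebraMap R W.CoordinateRing W.a₃ * CoordinateRing.mk W Y =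
      CoordinateRing.mk W (C X) ^ 3 + algebraMap R W.CoordinateRing W.a₂ *
        CoordinateRing.mk W (C X) ^ 2 + algebraMap R W.CoordinateRing W.a₄ *
        CoordinateRing.mk W (C X) + algebraMap R W.CoordinateRing W.a₆ := by
  have h0 : CoordinateRing.mk W W.polynomial = 0 := AdjoinRoot.mk_self
  simp only [Groth.Agent.Lib.WeierReg99.algebraMap_eq_mk]
  simp only [← map_mul, ← map_add, ← map_pow]
  rw [← sub_eq_zero, ← map_sub]
  convert h0 using 2
  rw [WeierstrassCurve.Affine.polynomial]
  simp only [C_add, C_mul, C_pow]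
  ring

theorem mk_polynomialX_eq :
    CoordinateRing.mk W W.polynomialX =
      algebraMap R W.CoordinateRing W.a₁ * CoordinateRing.mk W Y -
        (3 * CoordinateRing.mk W (C X) ^ 2 + 2 * algebraMap R W.CoordinateRing W.a₂ *
          CoordinateRing.mk W (C X) + algebraMap R W.CoordinateRing W.a₄) := by
  simp only [Groth.Agent.Lib.WeierReg99.algebraMap_eq_mk]
  rw [WeierstrassCurve.Affine.polynomialX]
  simp only [map_add, map_sub, map_mul, map_pow, C_add, C_mul, C_pow, map_ofNat]

theorem mk_polynomialY_eq :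
    CoordinateRing.mk W W.polynomialY =
      2 * CoordinateRing.mk W Y + algebraMap R W.CoordinateRing W.a₁ * CoordinateRing.mk W (C X) +
        algebraMap R W.CoordinateRing W.a₃ := by
  simp only [Groth.Agent.Lib.WeierReg99.algebraMap_eq_mk]
  rw [WeierstrassCurve.Affine.polynomialY]
  simp only [map_add, map_sub, map_mul, map_pow, C_add, C_mul, C_pow, map_ofNat]
  ring

omit W in
/-- the only singular point of `y² + a₁xy = x³ + a₂x²` is the origin (all characteristics). -/
theorem singular_point_eq_zero {D : Type*} [CommRing D] [IsDomain D] (α₁ α₂ ξ η : D)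
    (hE : η ^ 2 + α₁ * ξ * η = ξ ^ 3 + α₂ * ξ ^ 2)
    (hY : 2 * η + α₁ * ξ = 0)
    (hX : α₁ * η - (3 * ξ ^ 2 + 2 * α₂ * ξ) = 0) : ξ = 0 ∧ η = 0 := by
  have h1 : ξ ^ 2 * (4 * ξ + (α₁ ^ 2 + 4 * α₂)) = 0 := by
    linear_combination (2 * η + α₁ * ξ) * hY - 4 * hE
  have h2 : ξ * (6 * ξ + (α₁ ^ 2 + 4 * α₂)) = 0 := by linear_combination α₁ * hY - 2 * hX
  have hξ : ξ = 0 := by
    by_contra hne
    have h3 : 4 * ξ + (α₁ ^ 2 + 4 * α₂) = 0 := by
      rcases mul_eq_zero.mp h1 with h | h
      · exact absurd ((pow_eq_zero_iff two_ne_zero).mp h) hne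
      · exact h
    have h4 : 6 * ξ + (α₁ ^ 2 + 4 * α₂) = 0 := (mul_eq_zero.mp h2).resolve_left hne
    have h5 : (2 : D) = 0 := by
      have : 2 * ξ = 0 := by linear_combination h4 - h3
      exact (mul_eq_zero.mp this).resolve_right hne
    have h6 : α₁ ^ 2 = 0 := by linear_combination h3 - (2 * ξ + 2 * α₂) * h5
    have h7 : α₁ = 0 := (pow_eq_zero_iff two_ne_zero).mp h6
    have h8 : ξ ^ 2 = 0 := by
      linear_combination (-1 : D) * hX + η * h7 - (ξ ^ 2 + α₂ * ξ) * h5
    exact hne ((pow_eq_zero_iff two_ne_zero).mp h8)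
  refine ⟨hξ, ?_⟩
  rw [hξ] at hE
  have : η ^ 2 = 0 := by linear_combination hE
  exact (pow_eq_zero_iff two_ne_zero).mp this

/-- **Regularity of the affine Weierstrass scheme** over a DVR with `Δ ≠ 0`, `a₃, a₄, a₆ ∈ m`,
`a₆ ∉ m²`. -/
theorem regular [IsDomain R] [IsDiscreteValuationRing R] (hΔ : W.Δ ≠ 0)
    (h3 : W.a₃ ∈ maximalIdeal R) (h4 : W.a₄ ∈ maximalIdeal R)
    (h6 : W.a₆ ∈ maximalIdeal R) (h6' : W.a₆ ∉ maximalIdeal R ^ 2)
    (P : Ideal W.CoordinateRing) [hPp : P.IsPrime] :
    IsRegularLocalRing (Localization.AtPrime P) := by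
  by_cases hY : CoordinateRing.mk W W.polynomialY ∈ P
  swap
  · exact @isRegularLocalRing_quotient_of_leibniz R[X][Y] _ _ W.polynomial P hPp
      (derivative (R := R[X])).toAddMonoidHom (fun f g => derivative_mul)
      (by
        show CoordinateRing.mk W (derivative W.polynomial) ∉ P
        rwa [DY_polynomial])
  by_cases hX : CoordinateRing.mk W W.polynomialX ∈ P
  swap
  · exact @isRegularLocalRing_quotient_of_leibniz R[X][Y] _ _ W.polynomial P hPp
      DX DX_mul
      (by
        show CoordinateRing.mk W (DX W.polynomial) ∉ P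
        rwa [DX_polynomial])
  -- the singular case
  set x : W.CoordinateRing := CoordinateRing.mk W (C X) with hx
  set y : W.CoordinateRing := CoordinateRing.mk W Y with hy
  set mkP : W.CoordinateRing →+* W.CoordinateRing ⧸ P := Ideal.Quotient.mk P with hmkP
  set φ : R →+* W.CoordinateRing ⧸ P := mkP.comp (algebraMap R W.CoordinateRing) with hφdef
  have hrel := congrArg mkP (mk_polynomial_eq W)
  have hrelX : mkP (CoordinateRing.mk W W.polynomialX) = 0 := Ideal.Quotient.eq_zero_iff_mem.mpr hX
  have hrelY : mkP (CoordinateRing.mk W W.polynomialY) = 0 := Ideal.Quotient.eq_zero_iff_mem.mpr hY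
  rw [mk_polynomialX_eq] at hrelX
  rw [mk_polynomialY_eq] at hrelY
  simp only [map_add, map_sub, map_mul, map_pow, map_ofNat] at hrel hrelX hrelY
  have hφ : ∀ r : R, mkP (algebraMap R W.CoordinateRing r) = φ r := fun r => rfl
  simp only [hφ] at hrel hrelX hrelY
  -- `Δ ∈ P`
  have hΔP : φ W.Δ = 0 := by
    by_contra hne
    have hne' : (W.map φ).toAffine.Δ ≠ 0 := by
      rw [WeierstrassCurve.map_Δ]
      exact hne
    have heq : (W.map φ).toAffine.Equation (mkP x) (mkP y) := by
      rw [WeierstrassCurve.Affine.equation_iff]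
      simp only [WeierstrassCurve.map_a₁, WeierstrassCurve.map_a₂, WeierstrassCurve.map_a₃,
        WeierstrassCurve.map_a₄, WeierstrassCurve.map_a₆]
      linear_combination hrel
    have hns := (WeierstrassCurve.Affine.equation_iff_nonsingular_of_Δ_ne_zero hne').mp heq
    rw [WeierstrassCurve.Affine.nonsingular_iff'] at hns
    simp only [WeierstrassCurve.map_a₁, WeierstrassCurve.map_a₂, WeierstrassCurve.map_a₃,
      WeierstrassCurve.map_a₄, WeierstrassCurve.map_a₆] at hns
    rcases hns.2 with h | h
    · exact h hrelX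
    · exact h hrelY
  -- `m ⊆ P`
  have hcomap : P.comap (algebraMap R W.CoordinateRing) = maximalIdeal R := by
    have hp : (P.comap (algebraMap R W.CoordinateRing)).IsPrime := Ideal.comap_isPrime _ _
    have hne : P.comap (algebraMap R W.CoordinateRing) ≠ ⊥ := by
      intro hbot
      have : W.Δ ∈ P.comap (algebraMap R W.CoordinateRing) := by
        rw [Ideal.mem_comap]
        exact Ideal.Quotient.eq_zero_iff_mem.mp hΔP
      rw [hbot, Ideal.mem_bot] at this
      exact hΔ this
    have hmax : (P.comap (algebraMap R W.CoordinateRing)).IsMaximal := hp.isMaximal hne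
    exact IsLocalRing.eq_maximalIdeal hmax
  have hP : ∀ r ∈ maximalIdeal R, algebraMap R W.CoordinateRing r ∈ P := by
    intro r hr
    rw [← hcomap] at hr
    exact hr
  have hφ0 : ∀ r ∈ maximalIdeal R, φ r = 0 := fun r hr =>
    Ideal.Quotient.eq_zero_iff_mem.mpr (hP r hr)
  rw [hφ0 _ h3, hφ0 _ h4, hφ0 _ h6] at hrel
  rw [hφ0 _ h4] at hrelX
  rw [hφ0 _ h3] at hrelY
  obtain ⟨hξ, hη⟩ := singular_point_eq_zero (φ W.a₁) (φ W.a₂) (mkP x) (mkP y)
    (by linear_combination hrel) (by linear_combination hrelY) (by linear_combination hrelX)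
  have hxP : x ∈ P := Ideal.Quotient.eq_zero_iff_mem.mp hξ
  have hyP : y ∈ P := Ideal.Quotient.eq_zero_iff_mem.mp hη
  -- `P` is maximal
  have hPmax : P.IsMaximal := by
    rw [Ideal.isMaximal_iff]
    refine ⟨fun h1 => hPp.ne_top ((Ideal.eq_top_iff_one _).mpr h1), ?_⟩
    intro J a hPJ haP haJ
    obtain ⟨f, rfl⟩ := AdjoinRoot.mk_surjective a
    have h1 := Groth.Agent.Lib.WeierReg99.sub_const_mem f
    set r := (f.coeff 0).coeff 0 with hr
    have h2 : CoordinateRing.mk W f - algebraMap R W.CoordinateRing r ∈ P := by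
      have h3 : CoordinateRing.mk W (f - C (C r)) ∈
          Ideal.map (CoordinateRing.mk W) (Ideal.span ({C X, Y} : Set R[X][Y])) :=
        Ideal.mem_map_of_mem _ h1
      rw [Ideal.map_span] at h3
      rw [map_sub] at h3
      refine (Ideal.span_le.mpr ?_) h3
      rintro _ ⟨z, hz, rfl⟩
      rcases hz with rfl | hz
      · exact hxP
      · rw [Set.mem_singleton_iff.mp hz]
        exact hyP
    have hru : IsUnit r := by
      by_contra hnu
      have hrm : r ∈ maximalIdeal R := (mem_maximalIdeal r).mpr hnu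
      apply haP
      have := P.sub_mem (P.add_mem h2 (hP r hrm)) (zero_mem P)
      simpa using this
    obtain ⟨r', hr'⟩ := hru.exists_right_inv
    have h4 : (1 : W.CoordinateRing) = CoordinateRing.mk W f * algebraMap R W.CoordinateRing r' -
        (CoordinateRing.mk W f - algebraMap R W.CoordinateRing r) * algebraMap R W.CoordinateRing r' := by
      rw [sub_mul, sub_sub_cancel, ← map_mul, hr', map_one]
    rw [h4]
    exact J.sub_mem (J.mul_mem_right _ haJ) (J.mul_mem_right _ (hPJ h2))
  exact Groth.Agent.Lib.WeierReg99.regular_at_origin W h6 h6' P hP hxP hyP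

end weier

end Groth.Agent.Lib.WeierRegular89
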