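import Mathlib

/-!
# Weierstrass division: `A⟦X⟧` is finite free over itself along `X ↦ φ` (helper76)

`A` a complete local ring, `φ ∈ A⟦X⟧` with zero constant term.  If `φ` is nonzero modulo the maximal
ideal, of order `h` there, then every power series is uniquely `∑_{i<h} c_i(φ) X^i`.  Conversely if
`φ ≡ 0` mod `m`, no finite family `b` can have this property.
-/

set_option autoImplicit false

open PowerSeries

namespace Groth.Agent.Lib.WeierstrassFree76

section general

variable {A : Type*} [CommRing A]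

/-- key truncation lemma: `c(φ) ≡ ∑_{d<N} c_d φ^d` mod `X^N` when `φ(0) = 0`. -/
theorem X_pow_dvd_subst_sub {φ : A⟦X⟧} (hφ0 : constantCoeff φ = 0) (c : A⟦X⟧) (N : ℕ) :
    (X : A⟦X⟧) ^ N ∣ c.subst φ - ∑ d ∈ Finset.range N, C (coeff d c) * φ ^ d := by
  have hs : HasSubst φ := HasSubst.of_constantCoeff_zero' hφ0
  obtain ⟨φ₁, hφ₁⟩ := X_dvd_iff.mpr hφ0
  have h1 := eq_X_pow_mul_shift_add_trunc N c
  have h2 : c.subst φ = φ ^ N * (mk fun i => coeff (i + N) c).subst φ +
      (Polynomial.aeval φ (c.trunc N)) := by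
    conv_lhs => rw [h1]
    rw [subst_add hs, subst_mul hs, subst_pow hs, subst_X hs, subst_coe hs]
  have h3 : Polynomial.aeval φ (c.trunc N) = ∑ d ∈ Finset.range N, C (coeff d c) * φ ^ d := by
    have hdeg : (c.trunc N).natDegree < N ∨ N = 0 := by
      rcases N with _ | N
      · exact Or.inr rfl
      · exact Or.inl (natDegree_trunc_lt c N)
    rcases hdeg with hdeg | rfl
    · rw [Polynomial.aeval_eq_sum_range' hdeg]
      apply Finset.sum_congr rfl
      intro d hd
      rw [coeff_trunc, if_pos (Finset.mem_range.mp hd), smul_eq_C_mul]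
    · simp
  rw [h2, h3, add_sub_cancel_right, hφ₁, mul_pow, mul_assoc]
  exact dvd_mul_right _ _

/-- a power series divisible by all powers of `X` vanishes -/
theorem eq_zero_of_forall_X_pow_dvd {f : A⟦X⟧} (h : ∀ N, (X : A⟦X⟧) ^ N ∣ f) : f = 0 := by
  ext n
  exact (X_pow_dvd_iff.mp (h (n + 1))) n (Nat.lt_succ_self n)

/-- a polynomial of degree `< h`, as a power series, is `∑_{i<h} C(r_i) X^i` -/
theorem coe_eq_sum_fin {r : Polynomial A} {h : ℕ} (hr : r.degree < h) :
    (r : A⟦X⟧) = ∑ i : Fin h, C (r.coeff i) * (X : A⟦X⟧) ^ (i : ℕ) := by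
  ext m
  rw [Polynomial.coeff_coe, map_sum]
  simp only [coeff_C_mul_X_pow]
  rw [Fin.sum_univ_eq_sum_range (fun i => if m = i then r.coeff i else 0) h]
  by_cases hm : m < h
  · rw [Finset.sum_eq_single m]
    · simp
    · intro b _ hb
      rw [if_neg (Ne.symm hb)]
    · intro hm'
      exact absurd (Finset.mem_range.mpr hm) hm'
  · rw [Finset.sum_eq_zero]
    · exact (Polynomial.degree_lt_iff_coeff_zero r h).mp hr m (not_lt.mp hm)
    · intro b hb
      rw [if_neg]
      intro hmb
      exact hm (hmb ▸ Finset.mem_range.mp hb)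

end general

section complete

variable {A : Type*} [CommRing A] [IsLocalRing A]
  [IsAdicComplete (IsLocalRing.maximalIdeal A) A]
  {φ : A⟦X⟧} (hφ : φ.map (IsLocalRing.residue A) ≠ 0) (hφ0 : constantCoeff φ = 0)

/-- iterated Weierstrass quotients -/
noncomputable def Q (φ g : A⟦X⟧) (n : ℕ) : A⟦X⟧ := (fun q => q /ʷ φ)^[n] g

/-- iterated Weierstrass remainders -/
noncomputable def R (φ g : A⟦X⟧) (n : ℕ) : Polynomial A := Q φ g n %ʷ φ

include hφ in
theorem Q_eq (g : A⟦X⟧) (n : ℕ) : Q φ g n = φ * Q φ g (n + 1) + (R φ g n : A⟦X⟧) := by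
  have := eq_mul_weierstrassDiv_add_weierstrassMod (Q φ g n) hφ
  have hs : Q φ g (n + 1) = Q φ g n /ʷ φ := Function.iterate_succ_apply' _ _ _
  rw [hs]
  exact this

include hφ in
theorem g_eq (g : A⟦X⟧) (N : ℕ) :
    g = ∑ n ∈ Finset.range N, φ ^ n * (R φ g n : A⟦X⟧) + φ ^ N * Q φ g N := by
  induction N with
  | zero => simp [Q]
  | succ N ih =>
    rw [Finset.sum_range_succ, pow_succ, add_assoc, mul_assoc, ← mul_add, add_comm _ (φ * _),
      ← Q_eq hφ g N]
    exact ih

/-- the coefficient series -/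
noncomputable def coef (φ g : A⟦X⟧) (i : ℕ) : A⟦X⟧ := mk fun n => (R φ g n).coeff i

include hφ hφ0 in
theorem exists_rep (g : A⟦X⟧) :
    g = ∑ i : Fin (φ.map (IsLocalRing.residue A)).order.toNat,
      (coef φ g i).subst φ * (X : A⟦X⟧) ^ (i : ℕ) := by
  set h := (φ.map (IsLocalRing.residue A)).order.toNat with hh
  rw [← sub_eq_zero]
  apply eq_zero_of_forall_X_pow_dvd
  intro N
  obtain ⟨φ₁, hφ₁⟩ := X_dvd_iff.mpr hφ0
  -- first bracket
  have b1 : (X : A⟦X⟧) ^ N ∣ g - ∑ n ∈ Finset.range N, φ ^ n * (R φ g n : A⟦X⟧) := by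
    have := g_eq hφ g N
    rw [sub_eq_iff_eq_add'.mpr this, hφ₁, mul_pow, mul_assoc]
    exact dvd_mul_right _ _
  -- second bracket
  have b2 : (X : A⟦X⟧) ^ N ∣ ∑ i : Fin h, ((coef φ g i).subst φ -
      ∑ d ∈ Finset.range N, C (coeff d (coef φ g i)) * φ ^ d) * (X : A⟦X⟧) ^ (i : ℕ) := by
    apply Finset.dvd_sum
    intro i _
    exact Dvd.dvd.mul_right (X_pow_dvd_subst_sub hφ0 _ N) _
  -- third bracket
  have b3 : ∑ n ∈ Finset.range N, φ ^ n * (R φ g n : A⟦X⟧) =
      ∑ i : Fin h, (∑ d ∈ Finset.range N, C (coeff d (coef φ g i)) * φ ^ d) *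
        (X : A⟦X⟧) ^ (i : ℕ) := by
    have hdeg : ∀ n, (R φ g n).degree < h := fun n => degree_weierstrassMod_lt _ _
    simp_rw [Finset.sum_mul]
    rw [Finset.sum_comm]
    apply Finset.sum_congr rfl
    intro n _
    rw [coe_eq_sum_fin (hdeg n), Finset.mul_sum]
    apply Finset.sum_congr rfl
    intro i _
    simp only [coef, coeff_mk]
    ring
  have : g - ∑ i : Fin h, (coef φ g i).subst φ * (X : A⟦X⟧) ^ (i : ℕ) =
      (g - ∑ n ∈ Finset.range N, φ ^ n * (R φ g n : A⟦X⟧)) -
      ∑ i : Fin h, ((coef φ g i).subst φ -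
        ∑ d ∈ Finset.range N, C (coeff d (coef φ g i)) * φ ^ d) * (X : A⟦X⟧) ^ (i : ℕ) := by
    rw [b3]
    simp_rw [sub_mul]
    rw [Finset.sum_sub_distrib]
    ring
  rw [this]
  exact dvd_sub b1 b2


include hφ hφ0 in
theorem coeff_eq_zero_of_rep_eq_zero (n : ℕ) :
    ∀ e : Fin (φ.map (IsLocalRing.residue A)).order.toNat → A⟦X⟧,
      ∑ i, (e i).subst φ * (X : A⟦X⟧) ^ (i : ℕ) = 0 → ∀ i, coeff n (e i) = 0 := by
  have hs : HasSubst φ := HasSubst.of_constantCoeff_zero' hφ0
  -- common step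
  have step : ∀ e : Fin (φ.map (IsLocalRing.residue A)).order.toNat → A⟦X⟧,
      ∑ i, (e i).subst φ * (X : A⟦X⟧) ^ (i : ℕ) = 0 →
      (∀ i, constantCoeff (e i) = 0) ∧
        ∑ i, (mk fun p => coeff (p + 1) (e i)).subst φ * (X : A⟦X⟧) ^ (i : ℕ) = 0 := by
    intro e he
    let r : Polynomial A := ∑ i : Fin (φ.map (IsLocalRing.residue A)).order.toNat,
      Polynomial.C (constantCoeff (e i)) * Polynomial.X ^ (i : ℕ)
    let q : A⟦X⟧ := ∑ i : Fin (φ.map (IsLocalRing.residue A)).order.toNat,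
      (mk fun p => coeff (p + 1) (e i)).subst φ * (X : A⟦X⟧) ^ (i : ℕ)
    have hsub : ∀ i, (e i).subst φ =
        φ * (mk fun p => coeff (p + 1) (e i)).subst φ + C (constantCoeff (e i)) := by
      intro i
      conv_lhs => rw [eq_X_mul_shift_add_const (e i)]
      rw [subst_add hs, subst_mul hs, subst_X hs]
      congr 1
      exact subst_C _
    have hr : (r : A⟦X⟧) = ∑ i : Fin (φ.map (IsLocalRing.residue A)).order.toNat,
        C (constantCoeff (e i)) * (X : A⟦X⟧) ^ (i : ℕ) := by
      have h0 : (r : A⟦X⟧) = Polynomial.coeToPowerSeries.ringHom r := rfl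
      rw [h0, map_sum]
      apply Finset.sum_congr rfl
      intro i _
      simp
    have hdiv : (0 : A⟦X⟧).IsWeierstrassDivision φ q r := by
      refine ⟨Polynomial.degree_sum_fin_lt _, ?_⟩
      rw [hr, ← he]
      simp only [q, Finset.mul_sum, ← Finset.sum_add_distrib]
      apply Finset.sum_congr rfl
      intro i _
      rw [hsub i]
      ring
    obtain ⟨hq, hr0⟩ := hdiv.eq_zero hφ
    refine ⟨fun i => ?_, hq⟩
    have := congrArg (fun t : Polynomial A => t.coeff (i : ℕ)) hr0
    simp only [r, Polynomial.finsetSum_coeff, Polynomial.coeff_C_mul_X_pow,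
      Polynomial.coeff_zero] at this
    rw [Finset.sum_eq_single i] at this
    · simpa using this
    · intro b _ hb
      rw [if_neg]
      intro hib
      exact hb (Fin.ext hib.symm)
    · intro hi
      exact absurd (Finset.mem_univ i) hi
  induction n with
  | zero =>
    intro e he i
    rw [coeff_zero_eq_constantCoeff_apply]
    exact (step e he).1 i
  | succ n ih =>
    intro e he i
    have := ih _ (step e he).2 i
    rwa [coeff_mk] at this

include hφ hφ0 in
/-- existence and uniqueness: `A⟦X⟧` is free over itself along `X ↦ φ` with basis `X^i`, `i<h`. -/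
theorem existsUnique_rep (g : A⟦X⟧) :
    ∃! c : Fin (φ.map (IsLocalRing.residue A)).order.toNat → A⟦X⟧,
      g = ∑ i, (c i).subst φ * (X : A⟦X⟧) ^ (i : ℕ) := by
  have hs : HasSubst φ := HasSubst.of_constantCoeff_zero' hφ0
  refine ⟨fun i => coef φ g i, exists_rep hφ hφ0 g, ?_⟩
  intro c' hc'
  funext i
  ext n
  have h1 := exists_rep hφ hφ0 g
  have h2 : ∑ j, (c' j - coef φ g j).subst φ * (X : A⟦X⟧) ^ (j : ℕ) = 0 := by
    simp_rw [subst_sub hs, sub_mul]
    rw [Finset.sum_sub_distrib, ← hc', ← h1, sub_self]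
  have := coeff_eq_zero_of_rep_eq_zero hφ hφ0 n _ h2 i
  rwa [map_sub, sub_eq_zero] at this

end complete


section converse

variable {A : Type*} [CommRing A] [IsLocalRing A]

/-- if `φ ≡ 0` modulo the maximal ideal, no finite family generates `A⟦X⟧` along `X ↦ φ`. -/
theorem false_of_map_eq_zero {φ : A⟦X⟧} (hs : HasSubst φ)
    (hφ : φ.map (IsLocalRing.residue A) = 0) (n : ℕ) (b : Fin n → A⟦X⟧)
    (H : ∀ g : A⟦X⟧, ∃ c : Fin n → A⟦X⟧, g = ∑ i, (c i).subst φ * b i) : False := by
  classical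
  have hspan : ∀ y : (IsLocalRing.ResidueField A)⟦X⟧, y ∈ Submodule.span (IsLocalRing.ResidueField A)
      (Set.range fun i => (b i).map (IsLocalRing.residue A)) := by
    intro y
    obtain ⟨g, rfl⟩ := PowerSeries.map_surjective (IsLocalRing.residue A)
      IsLocalRing.residue_surjective y
    obtain ⟨c, hc⟩ := H g
    rw [hc, map_sum]
    refine Submodule.sum_mem _ fun i _ => ?_
    rw [map_mul]
    have h1 : PowerSeries.map (IsLocalRing.residue A) ((c i).subst φ) =
        C (constantCoeff ((c i).map (IsLocalRing.residue A))) := by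
      have h2 : PowerSeries.map (IsLocalRing.residue A) ((c i).subst φ) =
          ((c i).map (IsLocalRing.residue A)).subst (φ.map (IsLocalRing.residue A)) :=
        map_subst hs (c i)
      rw [h2, hφ, subst_zero_eq_C_constantCoeff]
      simp only [MvPowerSeries.map_C, Algebra.algebraMap_self, RingHom.id_apply]
      rfl
    rw [h1, ← smul_eq_C_mul]
    exact Submodule.smul_mem _ _ (Submodule.subset_span ⟨i, rfl⟩)
  have hfin : Module.Finite (IsLocalRing.ResidueField A) (IsLocalRing.ResidueField A)⟦X⟧ := by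
    refine ⟨⟨Finset.univ.image (fun i => (b i).map (IsLocalRing.residue A)), ?_⟩⟩
    rw [eq_top_iff]
    intro y _
    have := hspan y
    rwa [Finset.coe_image, Finset.coe_univ, Set.image_univ]
  have : Module.Finite (IsLocalRing.ResidueField A) (Polynomial (IsLocalRing.ResidueField A)) :=
    Module.Finite.of_injective
      (Polynomial.coeToPowerSeries.algHom (IsLocalRing.ResidueField A)).toLinearMap
      (fun p q hpq => Polynomial.coe_injective _ (by simpa using hpq))
  exact Polynomial.not_finite this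

end converse

/-- **Main criterion.** -/
theorem free_iff {A : Type*} [CommRing A] [IsDomain A] [IsLocalRing A]
    [IsAdicComplete (IsLocalRing.maximalIdeal A) A] (φ : A⟦X⟧) (hs : HasSubst φ) :
    (∃ n, coeff n φ ∉ IsLocalRing.maximalIdeal A) ↔
      ∃ (n : ℕ) (b : Fin n → A⟦X⟧), ∀ g : A⟦X⟧, ∃! c : Fin n → A⟦X⟧,
        g = ∑ i, (c i).subst φ * b i := by
  constructor
  · rintro ⟨n, hn⟩
    have hφ : φ.map (IsLocalRing.residue A) ≠ 0 := by
      intro h0
      have := congrArg (coeff n) h0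
      rw [coeff_map, map_zero, IsLocalRing.residue_eq_zero_iff] at this
      exact hn this
    have hφ0 : constantCoeff φ = 0 := IsNilpotent.eq_zero hs
    exact ⟨_, fun i => (X : A⟦X⟧) ^ (i : ℕ), existsUnique_rep hφ hφ0⟩
  · rintro ⟨n, b, H⟩
    by_contra hcon
    have hφ : φ.map (IsLocalRing.residue A) = 0 := by
      ext m
      rw [coeff_map, map_zero, IsLocalRing.residue_eq_zero_iff]
      by_contra hm
      exact hcon ⟨m, hm⟩
    exact false_of_map_eq_zero hs hφ n b (fun g => (H g).exists)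

end Groth.Agent.Lib.WeierstrassFree76
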