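import Groth.Prelude.Def_MoreMor
import Groth.Agent.Lib.H59GeomPoints

/-!
# Fibre integrals over open subschemes (helper34)

`MoreMor.fibreIntegral` rewritten as a `finsum` over a subset of the ambient scheme; locality,
additivity over disjoint opens, vanishing, positivity, single point fibres.
(Geometric-point description and base change: helper59's `Lib/H59GeomPoints`, `S1418`.)
-/

set_option autoImplicit false
universe u
open AlgebraicGeometry CategoryTheory Limits

namespace Groth.Agent.Lib.Weight34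

variable {U V P T : Scheme.{u}}

/-- separable degree of the residue field extension at a point -/
noncomputable def sepDeg (π : U ⟶ V) (u : U) : ℕ :=
  letI := (π.residueFieldMap u).hom.toAlgebra
  Field.finSepDegree (V.residueField (π u)) (U.residueField u)

theorem fibreIntegral_eq_finsum_mem (π : U ⟶ V) (W : U → ℤ) (v : V) :
    MoreMor.fibreIntegral π W v = ∑ᶠ u ∈ π ⁻¹' {v}, W u * (sepDeg π u : ℤ) := by
  unfold MoreMor.fibreIntegral
  exact finsum_set_coe_eq_finsum_mem (π ⁻¹' {v}) (f := fun u => W u * (sepDeg π u : ℤ))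

theorem sepDeg_comp_of_isIso (j : U ⟶ P) (p : P ⟶ T) (a : U) [IsIso (j.residueFieldMap a)] :
    sepDeg (j ≫ p) a = sepDeg p (j a) := by
  unfold sepDeg
  letI := (p.residueFieldMap (j a)).hom.toAlgebra
  letI : Algebra (T.residueField (p (j a))) (U.residueField a) :=
    ((j ≫ p).residueFieldMap a).hom.toAlgebra
  let e : P.residueField (j a) ≃+* U.residueField a :=
    (asIso (j.residueFieldMap a)).commRingCatIsoToRingEquiv
  let e' : P.residueField (j a) ≃ₐ[T.residueField (p (j a))] U.residueField a :=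
    { e with
      commutes' := fun r => by
        change (j.residueFieldMap a).hom ((p.residueFieldMap (j a)).hom r) =
          ((j ≫ p).residueFieldMap a).hom r
        rw [Scheme.residueFieldMap_comp]
        rfl }
  exact (Field.finSepDegree_eq_of_equiv _ _ _ e').symm

theorem sepDeg_pos (π : U ⟶ V) (u : U) (h : (π.residueFieldMap u).hom.Finite) :
    0 < sepDeg π u := by
  unfold sepDeg
  letI := (π.residueFieldMap u).hom.toAlgebra
  have : FiniteDimensional (V.residueField (π u)) (U.residueField u) := h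
  exact Nat.pos_of_ne_zero (NeZero.ne _)

theorem sepDeg_eq_one (π : U ⟶ V) (u : U) (h : (π.residueFieldMap u).hom.IsPurelyInseparable) :
    sepDeg π u = 1 := by
  unfold sepDeg
  letI := (π.residueFieldMap u).hom.toAlgebra
  have : IsPurelyInseparable (V.residueField (π u)) (U.residueField u) := h
  exact IsPurelyInseparable.finSepDegree_eq_one _ _

/-- the fibre integral of the restriction to an open, as a sum over points of the ambient scheme -/
theorem fibreIntegral_ι_comp (A : P.Opens) (p : P ⟶ T) (W : P → ℤ) (t : T) :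
    MoreMor.fibreIntegral (A.ι ≫ p) (fun a => W (A.ι a)) t =
      ∑ᶠ z ∈ {z : P | z ∈ A ∧ p z = t}, W z * (sepDeg p z : ℤ) := by
  rw [fibreIntegral_eq_finsum_mem]
  have himg : {z : P | z ∈ A ∧ p z = t} = A.ι '' ((A.ι ≫ p) ⁻¹' {t}) := by
    ext z
    constructor
    · rintro ⟨hzA, hz⟩
      exact ⟨⟨z, hzA⟩, hz, rfl⟩
    · rintro ⟨a, ha, rfl⟩
      exact ⟨a.2, ha⟩
  rw [himg, finsum_mem_image (A.ι.injective.injOn)]
  apply finsum_mem_congr rfl
  intro a _
  rw [sepDeg_comp_of_isIso]

/-- locality: the fibre integral at `t` only depends on the points of the open over `t` -/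
theorem fibreIntegral_ι_comp_congr (A B : P.Opens) (p : P ⟶ T) (W : P → ℤ) (t : T)
    (h : ∀ z, p z = t → (z ∈ A ↔ z ∈ B)) :
    MoreMor.fibreIntegral (A.ι ≫ p) (fun a => W (A.ι a)) t =
      MoreMor.fibreIntegral (B.ι ≫ p) (fun a => W (B.ι a)) t := by
  rw [fibreIntegral_ι_comp, fibreIntegral_ι_comp]
  have : {z : P | z ∈ A ∧ p z = t} = {z : P | z ∈ B ∧ p z = t} := by
    ext z
    constructor
    · rintro ⟨h1, h2⟩; exact ⟨(h z h2).mp h1, h2⟩
    · rintro ⟨h1, h2⟩; exact ⟨(h z h2).mpr h1, h2⟩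
  rw [this]

/-- vanishing when the fibre is empty -/
theorem fibreIntegral_ι_comp_eq_zero (A : P.Opens) (p : P ⟶ T) (W : P → ℤ) (t : T)
    (h : ∀ z, z ∈ A → p z ≠ t) :
    MoreMor.fibreIntegral (A.ι ≫ p) (fun a => W (A.ι a)) t = 0 := by
  rw [fibreIntegral_ι_comp]
  have : {z : P | z ∈ A ∧ p z = t} = ∅ := by
    ext z
    simp only [Set.mem_ofPred_eq, Set.mem_empty_iff_false, iff_false, not_and]
    exact h z
  rw [this, finsum_mem_empty]

/-- additivity over a finite family of pairwise disjoint opens -/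
theorem fibreIntegral_ι_comp_iSup {ι : Type*} [Finite ι] (A : ι → P.Opens) (p : P ⟶ T)
    (W : P → ℤ) (t : T)
    (hdisj : ∀ i j, i ≠ j → Disjoint (A i : Set P) (A j))
    (hfin : ∀ i, {z : P | z ∈ A i ∧ p z = t}.Finite) :
    MoreMor.fibreIntegral ((⨆ i, A i).ι ≫ p) (fun a => W ((⨆ i, A i).ι a)) t =
      ∑ᶠ i, MoreMor.fibreIntegral ((A i).ι ≫ p) (fun a => W ((A i).ι a)) t := by
  rw [fibreIntegral_ι_comp]
  simp_rw [fibreIntegral_ι_comp]
  have : {z : P | z ∈ ⨆ i, A i ∧ p z = t} = ⋃ i, {z : P | z ∈ A i ∧ p z = t} := by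
    ext z
    simp only [TopologicalSpace.Opens.mem_iSup, Set.mem_ofPred_eq, Set.mem_iUnion, exists_and_right]
  rw [this]
  apply finsum_mem_iUnion _ hfin
  intro i j hij
  exact (hdisj i j hij).mono (fun z hz => hz.1) (fun z hz => hz.1)

/-- single point fibre -/
theorem fibreIntegral_ι_comp_of_unique (A : P.Opens) (p : P ⟶ T) (W : P → ℤ) (t : T) (z₀ : P)
    (h0 : z₀ ∈ A) (h1 : p z₀ = t) (huniq : ∀ z, z ∈ A → p z = t → z = z₀) :
    MoreMor.fibreIntegral (A.ι ≫ p) (fun a => W (A.ι a)) t = W z₀ * (sepDeg p z₀ : ℤ) := by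
  rw [fibreIntegral_ι_comp]
  have : {z : P | z ∈ A ∧ p z = t} = {z₀} := by
    ext z
    simp only [Set.mem_ofPred_eq, Set.mem_singleton_iff]
    constructor
    · rintro ⟨h2, h3⟩; exact huniq z h2 h3
    · rintro rfl; exact ⟨h0, h1⟩
  rw [this, finsum_mem_singleton]

/-- each term is bounded by the integral, for nonnegative integrands and finite fibres -/
theorem le_fibreIntegral_ι_comp (A : P.Opens) (p : P ⟶ T) (W : P → ℤ) (t : T) (z₀ : P)
    (h0 : z₀ ∈ A) (h1 : p z₀ = t) (hfin : {z : P | z ∈ A ∧ p z = t}.Finite)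
    (hW : ∀ z, z ∈ A → p z = t → 0 ≤ W z) :
    W z₀ * (sepDeg p z₀ : ℤ) ≤ MoreMor.fibreIntegral (A.ι ≫ p) (fun a => W (A.ι a)) t := by
  rw [fibreIntegral_ι_comp, finsum_mem_eq_finite_toFinset_sum _ hfin]
  apply Finset.single_le_sum (f := fun z => W z * (sepDeg p z : ℤ))
  · intro z hz
    rw [Set.Finite.mem_toFinset] at hz
    exact mul_nonneg (hW z hz.1 hz.2) (Int.natCast_nonneg _)
  · rw [Set.Finite.mem_toFinset]; exact ⟨h0, h1⟩

end Groth.Agent.Lib.Weight34
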