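import Groth.Agent.Lib.Weight34C

/-!
# Positive weightings give open maps (Stacks 0F3A, universally open part)
-/

set_option autoImplicit false
universe u
open AlgebraicGeometry CategoryTheory Limits Topology

namespace Groth.Agent.Lib.Weight34

set_option maxHeartbeats 800000 in
/-- a locally quasi-finite morphism with a positive weighting is an open map -/
theorem isOpenMap_of_isWeighting_pos {X Y : Scheme.{u}} (f : X ⟶ Y) [LocallyQuasiFinite f]
    [LocallyOfFiniteType f] (w : X → ℤ) (hw : MoreMor.IsWeighting f w) (hpos : ∀ x, 0 < w x) :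
    IsOpenMap f := by
  intro O hO
  rw [isOpen_iff_mem_nhds]
  rintro _ ⟨x, hxO, rfl⟩
  obtain ⟨X₀, hX₀⟩ : ∃ X₀ : X.Opens, (X₀ : Set X) = O := ⟨⟨O, hO⟩, rfl⟩
  have hxX₀ : x ∈ X₀ := by rw [← SetLike.mem_coe, hX₀]; exact hxO
  obtain ⟨V, g, v, hg, hgv, n, B, b, HB, -, hcov⟩ :=
    Groth.Agent.Lib.EtLocQF.exists_etaleNbhd_purelyInseparable (X₀.ι ≫ f) (f x)
      (fun _ : Unit => (⟨x, hxX₀⟩ : X₀)) (fun _ => rfl) (fun _ => (X₀.ι ≫ f).quasiFiniteAt _)
  obtain ⟨z, hz1, hz2⟩ := Scheme.Pullback.exists_preimage_pullback (f := X₀.ι ≫ f) (g := g)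
    ⟨x, hxX₀⟩ v hgv.symm
  obtain ⟨m, hm⟩ := hcov z hz2 ⟨(), hz1⟩
  obtain ⟨hB1, hB2, hB3, hB4, hB5, hB6, -⟩ := HB m
  obtain ⟨ψ, hψ⟩ : ∃ ψ, ψ = pullback.map (X₀.ι ≫ f) g f g X₀.ι (𝟙 _) (𝟙 _)
      (by rw [Category.comp_id]) (by rw [Category.comp_id, Category.id_comp]) := ⟨_, rfl⟩
  have hψo : IsOpenImmersion ψ := by rw [hψ]; infer_instance
  have hψ1 : ψ ≫ pullback.fst f g = pullback.fst (X₀.ι ≫ f) g ≫ X₀.ι := by
    rw [hψ]; exact pullback.lift_fst _ _ _
  have hψ2 : ψ ≫ pullback.snd f g = pullback.snd (X₀.ι ≫ f) g := by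
    rw [hψ]; exact (pullback.lift_snd _ _ _).trans (Category.comp_id _)
  have hDfin : IsFinite ((ψ ''ᵁ B m).ι ≫ pullback.snd f g) :=
    isFinite_image_ι_comp ψ _ (B m) (by rw [hψ2]; exact hB2)
  have hG := hw V g (ψ ''ᵁ B m) hDfin
  obtain ⟨F, hF⟩ : ∃ F, F = MoreMor.fibreIntegral ((ψ ''ᵁ B m).ι ≫ pullback.snd f g)
      (fun u => w (pullback.fst f g ((ψ ''ᵁ B m).ι u))) := ⟨_, rfl⟩
  rw [← hF] at hG
  have hFv : 0 < F v := by
    have h1 := le_fibreIntegral_ι_comp (ψ ''ᵁ B m) (pullback.snd f g)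
      (fun z => w (pullback.fst f g z)) v (ψ (b m)) ⟨b m, hB1, rfl⟩
      (by rw [← Scheme.Hom.comp_apply, hψ2, hB3])
      (finite_setOf_mem_of_isFinite _ _ hDfin _) (fun z _ _ => (hpos _).le)
    have h2 : 0 < sepDeg (pullback.snd f g) (ψ (b m)) :=
      sepDeg_pos _ _ (Groth.Agent.Lib.EtLocQF.finite_residueFieldMap_of_quasiFiniteAt _ _
        ((pullback.snd f g).quasiFiniteAt _))
    have h4 := hpos (pullback.fst f g (ψ (b m)))
    rw [← hF] at h1
    have h5 : 0 < w (pullback.fst f g (ψ (b m))) * (sepDeg (pullback.snd f g) (ψ (b m)) : ℤ) :=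
      mul_pos h4 (by exact_mod_cast h2)
    linarith
  have hNopen : IsOpen (F ⁻¹' {F v}) := hG.isOpen_fiber _
  have hgopen : IsOpenMap g := g.isOpenMap
  have hmem : g '' (F ⁻¹' {F v}) ∈ 𝓝 (g v) := (hgopen _ hNopen).mem_nhds ⟨v, rfl, rfl⟩
  rw [← hgv]
  refine Filter.mem_of_superset hmem ?_
  rintro _ ⟨t, ht, rfl⟩
  have ht' : F t = F v := ht
  by_contra hcon
  have h0 : F t = 0 := by
    rw [hF]
    apply fibreIntegral_ι_comp_eq_zero (ψ ''ᵁ B m) (pullback.snd f g)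
      (fun z => w (pullback.fst f g z)) t
    rintro _ ⟨y, hy, rfl⟩ hyt
    change pullback.snd f g (ψ y) = t at hyt
    apply hcon
    refine ⟨X₀.ι (pullback.fst (X₀.ι ≫ f) g y), ?_, ?_⟩
    · rw [← hX₀]; exact (pullback.fst (X₀.ι ≫ f) g y).2
    · have h1 := congr($(pullback.condition (f := X₀.ι ≫ f) (g := g)) y)
      rw [Scheme.Hom.comp_apply, Scheme.Hom.comp_apply, Scheme.Hom.comp_apply] at h1
      rw [h1, ← hyt, ← Scheme.Hom.comp_apply (f := ψ), hψ2]
  omega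

/-- a locally quasi-finite morphism with a positive weighting is universally open -/
theorem universallyOpen_of_isWeighting_pos {X Y : Scheme.{u}} (f : X ⟶ Y) [LocallyQuasiFinite f]
    [LocallyOfFiniteType f] (w : X → ℤ) (hw : MoreMor.IsWeighting f w) (hpos : ∀ x, 0 < w x) :
    UniversallyOpen f := by
  refine ⟨fun X' Y' i₁ i₂ f' hsq => ?_⟩
  have hsq' : IsPullback i₁ f' f i₂ := hsq.flip
  have : LocallyQuasiFinite f' := MorphismProperty.of_isPullback hsq' inferInstance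
  have : LocallyOfFiniteType f' := MorphismProperty.of_isPullback hsq' inferInstance
  have hw' : MoreMor.IsWeighting f' (w ∘ ⇑i₁) := by
    intro V g' _ U' hU'
    rw [IsLocallyConstant.iff_eventually_eq]
    intro t₀
    have hP : IsPullback (pullback.fst f' g' ≫ i₁) (pullback.snd f' g') f (g' ≫ i₂) :=
      (IsPullback.of_hasPullback f' g').paste_horiz hsq'
    exact eventually_FI f w hw (g' ≫ i₂) (pullback.fst f' g' ≫ i₁) (pullback.snd f' g') hP U' hU' t₀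
  exact isOpenMap_of_isWeighting_pos f' (w ∘ ⇑i₁) hw' (fun x => hpos _)

end Groth.Agent.Lib.Weight34
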