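import Groth.Agent.Lib.Weight34G
import Groth.Agent.S1440

/-!
# Weightings: constructibility of the fibre integral (helper34)

* `isConstructible_setOf_eq_of_patchLocallyConst`: a function to `ℤ` on a qcqs spectral-type space which
  is constant on a constructible set around every point has constructible level sets.
* `exists_isConstructible_const`: for a separated, quasi-compact, locally quasi-finite morphism
  `g : C ⟶ S` locally of finite presentation with `S` qcqs, and a weighting `v` of `g`, every point
  of `S` lies in a constructible set on which `∫_g v` is constant (étale local structure +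
  Chevalley).
-/

set_option autoImplicit false
set_option linter.style.haveILetI false
universe u
open AlgebraicGeometry CategoryTheory Limits Topology

namespace Groth.Agent.Lib.Weight34

/-- `F` is constant on a constructible set around every point -/
def PatchLocConst {X : Type*} [TopologicalSpace X] (F : X → ℤ) : Prop :=
  ∀ x, ∃ K : Set X, IsConstructible K ∧ x ∈ K ∧ ∀ y ∈ K, F y = F x

theorem PatchLocConst.add {X : Type*} [TopologicalSpace X] {F G : X → ℤ}
    (hF : PatchLocConst F) (hG : PatchLocConst G) : PatchLocConst (fun x => F x + G x) := by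
  intro x
  obtain ⟨K, hK, hxK, hKc⟩ := hF x
  obtain ⟨L, hL, hxL, hLc⟩ := hG x
  exact ⟨K ∩ L, hK.inter hL, ⟨hxK, hxL⟩, fun y hy => by
    show F y + G y = F x + G x
    rw [hKc y hy.1, hLc y hy.2]⟩

theorem PatchLocConst.sub {X : Type*} [TopologicalSpace X] {F G : X → ℤ}
    (hF : PatchLocConst F) (hG : PatchLocConst G) : PatchLocConst (fun x => F x - G x) := by
  intro x
  obtain ⟨K, hK, hxK, hKc⟩ := hF x
  obtain ⟨L, hL, hxL, hLc⟩ := hG x
  exact ⟨K ∩ L, hK.inter hL, ⟨hxK, hxL⟩, fun y hy => by
    show F y - G y = F x - G x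
    rw [hKc y hy.1, hLc y hy.2]⟩

theorem PatchLocConst.congr {X : Type*} [TopologicalSpace X] {F G : X → ℤ}
    (hF : PatchLocConst F) (h : ∀ x, F x = G x) : PatchLocConst G := by
  have : F = G := funext h
  rwa [← this]

theorem patchLocConst_const {X : Type*} [TopologicalSpace X] (c : ℤ) :
    PatchLocConst (fun _ : X => c) :=
  fun _ => ⟨Set.univ, IsConstructible.univ, Set.mem_univ _, fun _ _ => rfl⟩

/-- patch-locally constant functions on a qcqs spectral-type space have constructible level sets -/
theorem PatchLocConst.isConstructible_setOf_eq {X : Type*} [TopologicalSpace X]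
    [CompactSpace X] [QuasiSober X] [PrespectralSpace X] [QuasiSeparatedSpace X]
    {F : X → ℤ} (hF : PatchLocConst F) (n : ℤ) : IsConstructible {x | F x = n} := by
  classical
  choose K hK hxK hKc using hF
  obtain ⟨s, hs⟩ := Groth.Agent.S1440.exists_finite_subcover_of_isConstructible K hK
    (fun x => ⟨x, hxK x⟩)
  have : {x | F x = n} = ⋃ i ∈ (s.filter fun i => F i = n : Finset X), K i := by
    ext x
    simp only [Set.mem_setOf_eq, Finset.mem_filter, Set.mem_iUnion, exists_prop]
    constructor
    · intro hx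
      obtain ⟨i, his, hi⟩ := hs x
      exact ⟨i, ⟨his, by rw [← hKc i x hi, hx]⟩, hi⟩
    · rintro ⟨i, ⟨-, hin⟩, hi⟩
      rw [hKc i x hi, hin]
  rw [this]
  exact IsConstructible.biUnion (Finset.finite_toSet _) fun i _ => hK i

/-- a locally constant function on a compact space is patch-locally constant -/
theorem patchLocConst_of_isLocallyConstant {X : Type*} [TopologicalSpace X] [CompactSpace X]
    [QuasiSeparatedSpace X] {F : X → ℤ} (hF : IsLocallyConstant F) : PatchLocConst F := by
  intro x
  refine ⟨F ⁻¹' {F x}, ?_, rfl, fun y hy => hy⟩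
  have hclopen : IsClopen (F ⁻¹' {F x}) := hF.isClopen_fiber _
  exact hclopen.1.isCompact.isConstructible hclopen.2

/-- pulling back a patch-locally constant function along a morphism of schemes -/
theorem PatchLocConst.comp_hom {X Y : Scheme.{u}} (f : X ⟶ Y) {F : Y → ℤ}
    (hF : PatchLocConst F) : PatchLocConst (fun x => F (f x)) := by
  intro x
  obtain ⟨K, hK, hxK, hKc⟩ := hF (f x)
  exact ⟨f ⁻¹' K, f.isConstructible_preimage hK, hxK, fun y hy => hKc _ hy⟩

set_option maxHeartbeats 800000 in
/-- **Patch-local constancy of the fibre integral of a weighting** (separated case). -/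
theorem patchLocConst_fibreIntegral {C S : Scheme.{u}} (g : C ⟶ S) [LocallyQuasiFinite g]
    [LocallyOfFinitePresentation g] [IsSeparated g] [QuasiCompact g]
    [CompactSpace S] [QuasiSeparatedSpace S]
    (v : C → ℤ) (hv : MoreMor.IsWeighting g v) :
    PatchLocConst (MoreMor.fibreIntegral g v) := by
  intro s₀
  have hfin : ∀ s : S, (g ⁻¹' {s}).Finite := fun s => g.finite_preimage_singleton s
  obtain ⟨E, e, ε, he, heε, U, hU, hfib⟩ :=
    Groth.Agent.Lib.H59Weight.exists_etale_finite_open g s₀ (hfin s₀)
  -- the partial integral over `U` is locally constant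
  have hlc := hv E e U hU
  have hfun : (MoreMor.fibreIntegral (U.ι ≫ pullback.snd g e)
      (fun u => v (pullback.fst g e (U.ι u)))) =
      Groth.Agent.Lib.H59FibInt.J (pullback.snd g e) (U : Set ↑(pullback g e))
        (fun z => v (pullback.fst g e z)) := by
    funext t
    exact Groth.Agent.Lib.H59FibInt.fibreIntegral_ι_comp U (pullback.snd g e)
      (fun z => v (pullback.fst g e z)) t
  rw [hfun] at hlc
  -- `U` is clopen
  have hUc : IsClosed (U : Set ↑(pullback g e)) :=
    Groth.Agent.Lib.EtLocQF.isClosed_of_isFinite_of_isSeparated g e U hU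
  let W : (pullback g e).Opens := ⟨(U : Set ↑(pullback g e))ᶜ, hUc.isOpen_compl⟩
  have hWc : IsClosed (W : Set ↑(pullback g e)) := U.isOpen.isClosed_compl
  haveI : IsClosedImmersion W.ι := by
    apply IsClosedImmersion.of_isPreimmersion
    rw [Scheme.Opens.range_ι]
    exact hWc
  -- image of the complement is locally constructible
  have hR : IsLocallyConstructible (Set.range (W.ι ≫ pullback.snd g e)) := by
    rw [← Set.image_univ]
    exact (W.ι ≫ pullback.snd g e).isLocallyConstructible_image IsLocallyConstructible.univ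
  have hRmem : ∀ t : E, t ∈ Set.range (W.ι ≫ pullback.snd g e) ↔
      ∃ z : ↑(pullback g e), z ∉ U ∧ pullback.snd g e z = t := by
    intro t
    constructor
    · rintro ⟨z, rfl⟩
      exact ⟨W.ι z, z.2, rfl⟩
    · rintro ⟨z, hz, rfl⟩
      exact ⟨⟨z, hz⟩, rfl⟩
  -- the open set where the partial integral is constant
  let N : Set E := (Groth.Agent.Lib.H59FibInt.J (pullback.snd g e) (U : Set ↑(pullback g e))
        (fun z => v (pullback.fst g e z))) ⁻¹' {Groth.Agent.Lib.H59FibInt.J (pullback.snd g e)
          (U : Set ↑(pullback g e)) (fun z => v (pullback.fst g e z)) ε}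
  have hN : IsOpen N := hlc.isOpen_fiber _
  have hεN : ε ∈ N := rfl
  -- affine open neighbourhood inside `N`
  obtain ⟨_, ⟨(N' : E.Opens), (hN'aff : IsAffineOpen N'), rfl⟩, hεN', hN'N⟩ :=
    E.isBasis_affineOpens.exists_subset_of_mem_open hεN hN
  haveI : IsAffine (N' : Scheme.{u}) := hN'aff
  -- the constructible set
  have hcons : IsConstructible (N'.ι ⁻¹' (Set.range (W.ι ≫ pullback.snd g e))ᶜ) := by
    rw [Set.preimage_compl, isConstructible_compl]
    exact (hR.preimage_of_isOpenEmbedding N'.ι.isOpenEmbedding).isConstructible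
  have hvalue : ∀ t : E, t ∈ N → t ∉ Set.range (W.ι ≫ pullback.snd g e) →
      MoreMor.fibreIntegral g v (e t) = Groth.Agent.Lib.H59FibInt.J (pullback.snd g e)
          (U : Set ↑(pullback g e)) (fun z => v (pullback.fst g e z)) ε := by
    intro t htN htR
    rw [Groth.Agent.Lib.H59Weight.fibreIntegral_eq_J_pullback g hfin v e t]
    rw [← (show Groth.Agent.Lib.H59FibInt.J (pullback.snd g e)
          (U : Set ↑(pullback g e)) (fun z => v (pullback.fst g e z)) t = _ from htN)]
    refine Groth.Agent.Lib.H59FibInt.J_congr_set _ _ _ fun z hz => ⟨fun _ => ?_, fun _ => Set.mem_univ _⟩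
    by_contra hzU
    exact htR ((hRmem t).mpr ⟨z, hzU, hz⟩)
  have hεR : ε ∉ Set.range (W.ι ≫ pullback.snd g e) := by
    rw [hRmem]
    rintro ⟨z, hzU, hz⟩
    exact hzU (hfib z hz)
  refine ⟨(N'.ι ≫ e) '' (N'.ι ⁻¹' (Set.range (W.ι ≫ pullback.snd g e))ᶜ),
    (N'.ι ≫ e).isConstructible_image hcons, ⟨⟨ε, hεN'⟩, hεR, heε⟩, ?_⟩
  rintro _ ⟨t, htR, rfl⟩
  rw [← heε]
  have h1 := hvalue (N'.ι t) (hN'N t.2) htR
  have h2 := hvalue ε hεN hεR
  rw [Scheme.Hom.comp_apply, h1, h2]

end Groth.Agent.Lib.Weight34
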