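import Groth.Agent.Lib.WeightCons34A

/-!
# Weightings: constructibility of the fibre integral, quasi-separated case (helper34)

`patchLocConst_fibreIntegral_of_qcqs`: for `f : X ⟶ Y` locally quasi-finite, locally of finite
presentation, quasi-compact and quasi-separated over an affine `Y`, the fibre integral of a weighting
is patch-locally constant (inclusion–exclusion over a finite affine cover of `X`).
-/

set_option autoImplicit false
set_option linter.style.haveILetI false
universe u
open AlgebraicGeometry CategoryTheory Limits Topology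

namespace Groth.Agent.Lib.Weight34

theorem FI_top {P T : Scheme.{u}} (p : P ⟶ T) (W : P → ℤ) (t : T) :
    FI p ⊤ W t = MoreMor.fibreIntegral p W t := by
  unfold FI
  rw [fibreIntegral_ι_comp, fibreIntegral_eq_finsum_mem]
  congr 1
  funext z
  have : {z : P | z ∈ (⊤ : P.Opens) ∧ p z = t} = p ⁻¹' {t} := by
    ext z; simp
  rw [this]

theorem FI_bot {P T : Scheme.{u}} (p : P ⟶ T) (W : P → ℤ) (t : T) :
    FI p ⊥ W t = 0 :=
  fibreIntegral_ι_comp_eq_zero ⊥ p W t (fun _ hz => (hz : _ ∈ (∅ : Set P)).elim)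

theorem FI_sup_add_inf {P T : Scheme.{u}} (p : P ⟶ T) (A B : P.Opens) (W : P → ℤ) (t : T)
    (hfin : (p ⁻¹' {t}).Finite) :
    FI p (A ⊔ B) W t + FI p (A ⊓ B) W t = FI p A W t + FI p B W t := by
  unfold FI
  simp only [fibreIntegral_ι_comp]
  have h1 : {z : P | z ∈ A ⊔ B ∧ p z = t} =
      {z : P | z ∈ A ∧ p z = t} ∪ {z : P | z ∈ B ∧ p z = t} := by
    ext z
    simp only [Set.mem_setOf_eq, Set.mem_union]
    constructor
    · rintro ⟨h | h, h2⟩
      · exact Or.inl ⟨h, h2⟩
      · exact Or.inr ⟨h, h2⟩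
    · rintro (⟨h, h2⟩ | ⟨h, h2⟩)
      · exact ⟨Or.inl h, h2⟩
      · exact ⟨Or.inr h, h2⟩
  have h2 : {z : P | z ∈ A ⊓ B ∧ p z = t} =
      {z : P | z ∈ A ∧ p z = t} ∩ {z : P | z ∈ B ∧ p z = t} := by
    ext z
    simp only [Set.mem_setOf_eq, Set.mem_inter_iff]
    constructor
    · rintro ⟨⟨h, h'⟩, h2⟩
      exact ⟨⟨h, h2⟩, ⟨h', h2⟩⟩
    · rintro ⟨⟨h, h2⟩, ⟨h', -⟩⟩
      exact ⟨⟨h, h'⟩, h2⟩
  rw [h1, h2]
  exact finsum_mem_union_inter (hfin.subset fun z hz => hz.2) (hfin.subset fun z hz => hz.2)

set_option maxHeartbeats 800000 in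
theorem patchLocConst_FI_of_isCompact {X Y : Scheme.{u}} (f : X ⟶ Y) [LocallyQuasiFinite f]
    [LocallyOfFinitePresentation f] [QuasiSeparatedSpace X] [IsAffine Y]
    (hfin : ∀ y : Y, (f ⁻¹' {y}).Finite)
    (w : X → ℤ) (hw : MoreMor.IsWeighting f w) (O : X.Opens) (hO : IsCompact (O : Set X)) :
    PatchLocConst (FI f O w) := by
  -- the separated case
  have key : ∀ (A : X.Opens), IsCompact (A : Set X) → IsSeparated (A.ι ≫ f) →
      PatchLocConst (FI f A w) := by
    intro A hA hsep
    haveI : CompactSpace ↥A := isCompact_iff_compactSpace.mp hA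
    haveI : QuasiCompact (A.ι ≫ f) :=
      HasAffineProperty.iff_of_isAffine.mpr (inferInstanceAs (CompactSpace ↥A))
    exact patchLocConst_fibreIntegral (A.ι ≫ f) (fun a => w (A.ι a))
      (isWeighting_comp_openImmersion A.ι f w hw)
  refine compact_open_induction_on (P := fun O => PatchLocConst (FI f O w)) O hO ?_ ?_
  · exact (patchLocConst_const 0).congr fun t => (FI_bot f w t).symm
  · intro S hS U hSP
    have hU : IsCompact ((U : X.Opens) : Set X) := U.2.isCompact
    haveI : IsAffine (U : X.Opens).toScheme := U.2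
    have hUP : PatchLocConst (FI f U w) := key U hU inferInstance
    have hSU : IsCompact ((S ⊓ U : X.Opens) : Set X) :=
      QuasiSeparatedSpace.inter_isCompact _ _ S.2 hS U.1.2 hU
    have hSUP : PatchLocConst (FI f (S ⊓ U) w) := by
      apply key _ hSU
      rw [← X.homOfLE_ι (inf_le_right : S ⊓ (U : X.Opens) ≤ U), Category.assoc]
      infer_instance
    refine ((hSP.add hUP).sub hSUP).congr fun t => ?_
    have := FI_sup_add_inf f S U w t (hfin t)
    omega

/-- the fibre integral of a weighting of a qcqs, locally quasi-finite morphism locally of finite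
presentation over an affine base is patch-locally constant -/
theorem patchLocConst_fibreIntegral_of_qcqs {X Y : Scheme.{u}} (f : X ⟶ Y) [LocallyQuasiFinite f]
    [LocallyOfFinitePresentation f] [QuasiCompact f] [QuasiSeparated f] [IsAffine Y]
    (w : X → ℤ) (hw : MoreMor.IsWeighting f w) :
    PatchLocConst (MoreMor.fibreIntegral f w) := by
  haveI : CompactSpace X := HasAffineProperty.iff_of_isAffine.mp ‹QuasiCompact f›
  haveI : QuasiSeparatedSpace X := HasAffineProperty.iff_of_isAffine.mp ‹QuasiSeparated f›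
  have hfin : ∀ y : Y, (f ⁻¹' {y}).Finite := fun y => f.finite_preimage_singleton y
  exact (patchLocConst_FI_of_isCompact f hfin w hw ⊤ isCompact_univ).congr fun t => FI_top f w t

end Groth.Agent.Lib.Weight34
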