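import Groth.Agent.Lib.WeightCons34B

/-!
# Weightings of finite, finitely presented morphisms: constructible level sets (helper34)

`patchLocConst_of_isFinite_of_lfp`: for `π : U ⟶ E` finite and locally of finite presentation over
an affine `E`, a weighting `ω` of `π` is patch-locally constant on `U` (diagonal trick:
`ω = (∫_π ω) ∘ π − ∫ over the complement of the diagonal`).
-/

set_option autoImplicit false
set_option linter.style.haveILetI false
universe u
open AlgebraicGeometry CategoryTheory Limits Topology

namespace Groth.Agent.Lib.Weight34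

/-- the fibre integral of a weighting of a finite morphism is locally constant -/
theorem isLocallyConstant_fibreIntegral_of_isFinite {U E : Scheme.{u}} (π : U ⟶ E) [IsFinite π]
    (ω : U → ℤ) (hω : MoreMor.IsWeighting π ω) :
    IsLocallyConstant (MoreMor.fibreIntegral π ω) := by
  rw [IsLocallyConstant.iff_eventually_eq]
  intro t₀
  have hP : IsPullback (𝟙 U) π π (𝟙 E) := IsPullback.of_horiz_isIso ⟨by simp⟩
  haveI : IsIso (⊤ : U.Opens).ι := ⟨⟨U.topIso.inv, U.ι_toIso_inv, U.toIso_inv_ι⟩⟩
  have hA : IsFinite ((⊤ : U.Opens).ι ≫ π) := inferInstance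
  have h := eventually_FI π ω hω (𝟙 E) (𝟙 U) π hP ⊤ hA t₀
  refine h.mono fun t ht => ?_
  rw [← FI_top, ← FI_top]
  exact ht

set_option maxHeartbeats 800000 in
theorem patchLocConst_of_isFinite_of_lfp {U E : Scheme.{u}} [IsAffine E] (π : U ⟶ E) [IsFinite π]
    [LocallyOfFinitePresentation π] (ω : U → ℤ) (hω : MoreMor.IsWeighting π ω) :
    PatchLocConst ω := by
  haveI : IsAffine U := isAffine_of_isAffineHom π
  obtain ⟨D, hDc, hD⟩ := exists_compact_compl_diagonal π
  have hfinπ : ∀ t : E, (π ⁻¹' {t}).Finite := fun t => finite_preimage_of_isFinite π t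
  have hfinq : ∀ u : U, (pullback.snd π π ⁻¹' {u}).Finite :=
    fun u => finite_preimage_of_isFinite (pullback.snd π π) u
  -- the weighting on the complement of the diagonal
  have hv0 : MoreMor.IsWeighting (pullback.snd π π) (fun z => ω (pullback.fst π π z)) :=
    isWeighting_of_isPullback π ω hω (pullback.snd π π) (pullback.fst π π) π
      (IsPullback.of_hasPullback π π)
  have hv : MoreMor.IsWeighting (D.ι ≫ pullback.snd π π)
      (fun d => ω (pullback.fst π π (D.ι d))) :=
    isWeighting_comp_openImmersion D.ι (pullback.snd π π) _ hv0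
  haveI : CompactSpace ↥D := isCompact_iff_compactSpace.mp hDc
  haveI : QuasiCompact (D.ι ≫ pullback.snd π π) :=
    HasAffineProperty.iff_of_isAffine.mpr (inferInstanceAs (CompactSpace ↥D))
  have hJ : PatchLocConst (MoreMor.fibreIntegral (D.ι ≫ pullback.snd π π)
      (fun d => ω (pullback.fst π π (D.ι d)))) :=
    patchLocConst_fibreIntegral (D.ι ≫ pullback.snd π π) _ hv
  have hI : PatchLocConst (fun u => MoreMor.fibreIntegral π ω (π u)) :=
    (patchLocConst_of_isLocallyConstant
      (isLocallyConstant_fibreIntegral_of_isFinite π ω hω)).comp_hom π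
  refine (hI.sub hJ).congr fun u => ?_
  have h1 := fibreIntegral_eq_add_of_section (pullback.snd π π) (pullback.diagonal π)
    (pullback.diagonal_snd π) D hD (fun z => ω (pullback.fst π π z)) u (hfinq u)
  have h2 := Groth.Agent.S1418.result π hfinπ (pullback.snd π π) (pullback.fst π π) π
    (IsPullback.of_hasPullback π π) ω u
  have h3 : pullback.fst π π (pullback.diagonal π u) = u := by
    rw [← Scheme.Hom.comp_apply, pullback.diagonal_fst]; rfl
  rw [h3] at h1
  have h4 : MoreMor.fibreIntegral (pullback.snd π π) (ω ∘ ⇑(pullback.fst π π)) u =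
      MoreMor.fibreIntegral (pullback.snd π π) (fun z => ω (pullback.fst π π z)) u := rfl
  rw [h4] at h2
  show MoreMor.fibreIntegral π ω (π u) - _ = ω u
  rw [← h2, h1]
  ring

end Groth.Agent.Lib.Weight34
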