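import Groth.Agent.Lib.WeightCons34C

/-!
# Weightings of finite morphisms: constructible level sets (helper34)

* `exists_finite_fp_cover`: a finite algebra is a quotient of a finite, finitely presented algebra.
* `exists_closedImmersion_finite_lfp`: a finite morphism to an affine scheme factors through a closed
  immersion into a finite scheme of finite presentation.
* `isWeighting_extend_zero`: extension by zero of a weighting along a closed immersion is a weighting.
* `patchLocConst_of_isFinite`: a weighting of a finite morphism to an affine scheme is patch-locally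
  constant (hence has constructible level sets).
-/

set_option autoImplicit false
set_option linter.style.haveILetI false
universe u
open AlgebraicGeometry CategoryTheory Limits Topology

namespace Groth.Agent.Lib.Weight34

open Polynomial in
/-- a finite algebra is a quotient of a finite, finitely presented algebra -/
theorem exists_finite_fp_cover (A B : Type u) [CommRing A] [CommRing B] [Algebra A B]
    [Module.Finite A B] :
    ∃ (B' : Type u) (_ : CommRing B') (_ : Algebra A B'), Module.Finite A B' ∧
      Algebra.FinitePresentation A B' ∧ ∃ ψ : B' →ₐ[A] B, Function.Surjective ψ := by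
  classical
  haveI : Algebra.FiniteType A B := inferInstance
  obtain ⟨n, f, hf⟩ := Algebra.FiniteType.iff_quotient_mvPolynomial''.mp
    (inferInstance : Algebra.FiniteType A B)
  have hint : ∀ i : Fin n, IsIntegral A (f (MvPolynomial.X i)) :=
    fun i => Algebra.IsIntegral.isIntegral _
  choose P hPm hP0 using hint
  let g : Fin n → MvPolynomial (Fin n) A := fun i => Polynomial.aeval (MvPolynomial.X i) (P i)
  let I : Ideal (MvPolynomial (Fin n) A) := Ideal.span (Set.range g)
  have hIf : ∀ a ∈ I, f a = 0 := by
    intro a ha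
    have : I ≤ RingHom.ker f.toRingHom := by
      rw [Ideal.span_le]
      rintro _ ⟨i, rfl⟩
      show f (g i) = 0
      have : f (g i) = Polynomial.aeval (f (MvPolynomial.X i)) (P i) := by
        simp only [g]
        exact (Polynomial.aeval_algHom_apply f (MvPolynomial.X i) (P i)).symm
      rw [this]
      exact hP0 i
    exact this ha
  refine ⟨MvPolynomial (Fin n) A ⧸ I, inferInstance, inferInstance, ?_, ?_,
    Ideal.Quotient.liftₐ I f hIf, ?_⟩
  · -- finite
    have hgen : Algebra.adjoin A (Set.range fun i : Fin n =>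
        (Ideal.Quotient.mkₐ A I (MvPolynomial.X i))) = ⊤ := by
      have h1 : (Set.range fun i : Fin n => (Ideal.Quotient.mkₐ A I (MvPolynomial.X i))) =
          (Ideal.Quotient.mkₐ A I) '' (Set.range (MvPolynomial.X : Fin n → MvPolynomial (Fin n) A)) := by
        rw [← Set.range_comp]; rfl
      rw [h1, ← AlgHom.map_adjoin, MvPolynomial.adjoin_range_X, Algebra.map_top,
        AlgHom.range_eq_top]
      exact Ideal.Quotient.mkₐ_surjective A I
    have hfg := fg_adjoin_of_finite (R := A) (Set.finite_range fun i : Fin n =>
        (Ideal.Quotient.mkₐ A I (MvPolynomial.X i))) (by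
      rintro _ ⟨i, rfl⟩
      refine ⟨P i, hPm i, ?_⟩
      have : Polynomial.eval₂ (algebraMap A _) (Ideal.Quotient.mkₐ A I (MvPolynomial.X i)) (P i) =
          Ideal.Quotient.mkₐ A I (g i) := by
        simp only [g]
        exact (Polynomial.aeval_algHom_apply (Ideal.Quotient.mkₐ A I) (MvPolynomial.X i) (P i))
      rw [this]
      exact Ideal.Quotient.eq_zero_iff_mem.mpr (Ideal.subset_span ⟨i, rfl⟩))
    rw [hgen] at hfg
    exact Module.finite_def.mpr hfg
  · exact Algebra.FinitePresentation.quotient (Submodule.fg_span (Set.finite_range g))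
  · intro b
    obtain ⟨a, rfl⟩ := hf b
    exact ⟨Ideal.Quotient.mk I a, by simp⟩

/-- a finite morphism to an affine scheme factors as a closed immersion into a finite, finitely
presented scheme -/
theorem exists_closedImmersion_finite_lfp {U E : Scheme.{u}} [IsAffine E] (π : U ⟶ E) [IsFinite π] :
    ∃ (U' : Scheme.{u}) (i : U ⟶ U') (π' : U' ⟶ E), IsClosedImmersion i ∧ IsFinite π' ∧
      LocallyOfFinitePresentation π' ∧ i ≫ π' = π := by
  haveI : IsAffine U := isAffine_of_isAffineHom π
  have hfin : π.appTop.hom.Finite := π.finite_appTop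
  algebraize [π.appTop.hom]
  obtain ⟨B', _, _, hB'fin, hB'fp, ψ, hψ⟩ := exists_finite_fp_cover Γ(E, ⊤) Γ(U, ⊤)
  let a : Γ(E, ⊤) ⟶ CommRingCat.of B' := CommRingCat.ofHom (algebraMap Γ(E, ⊤) B')
  let b : CommRingCat.of B' ⟶ Γ(U, ⊤) := CommRingCat.ofHom ψ.toRingHom
  have hab : a ≫ b = π.appTop := by
    ext x
    exact ψ.commutes x
  refine ⟨Spec (CommRingCat.of B'), U.isoSpec.hom ≫ Spec.map b, Spec.map a ≫ E.isoSpec.inv,
    ?_, ?_, ?_, ?_⟩
  · haveI : IsClosedImmersion (Spec.map b) := IsClosedImmersion.spec_of_surjective b hψ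
    infer_instance
  · haveI : IsFinite (Spec.map a) := by
      rw [IsFinite.SpecMap_iff]
      exact RingHom.finite_algebraMap.mpr hB'fin
    infer_instance
  · haveI : LocallyOfFinitePresentation (Spec.map a) := by
      rw [HasRingHomProperty.Spec_iff (P := @LocallyOfFinitePresentation)]
      exact RingHom.finitePresentation_algebraMap.mpr hB'fp
    infer_instance
  · rw [Category.assoc, ← Category.assoc (Spec.map b), ← Spec.map_comp, hab,
      Scheme.isoSpec_inv_naturality, Iso.hom_inv_id_assoc]

theorem isIso_residueFieldMap_of_isPreimmersion {X Y : Scheme.{u}} (g : X ⟶ Y) [IsPreimmersion g]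
    (x : X) : IsIso (g.residueFieldMap x) := by
  rw [ConcreteCategory.isIso_iff_bijective]
  refine ⟨(g.residueFieldMap x).hom.injective, ?_⟩
  intro b
  obtain ⟨b', rfl⟩ := IsLocalRing.residue_surjective b
  obtain ⟨a, rfl⟩ := g.stalkMap_surjective x b'
  refine ⟨(Y.residue (g x)).hom a, ?_⟩
  have := congrArg (fun φ => φ.hom a) (Scheme.residue_residueFieldMap g x)
  simp only [CommRingCat.hom_comp, RingHom.comp_apply] at this
  exact this

set_option maxHeartbeats 1600000 in
/-- extension by zero of a weighting along a closed immersion -/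
theorem isWeighting_extend_zero {U U' E : Scheme.{u}} (i : U ⟶ U') [IsClosedImmersion i]
    (π' : U' ⟶ E) (ω : U → ℤ) (hω : MoreMor.IsWeighting (i ≫ π') ω) :
    MoreMor.IsWeighting π' (Function.extend i ω 0) := by
  intro V g _ O' hO'
  have hinj : Function.Injective i := i.isClosedEmbedding.injective
  -- the comparison map of pullbacks
  let m : pullback (i ≫ π') g ⟶ pullback π' g :=
    pullback.map (i ≫ π') g π' g i (𝟙 V) (𝟙 E) (by simp) (by simp)
  have hm1 : m ≫ pullback.fst π' g = pullback.fst (i ≫ π') g ≫ i := pullback.lift_fst _ _ _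
  have hm2 : m ≫ pullback.snd π' g = pullback.snd (i ≫ π') g := by
    have : m ≫ pullback.snd π' g = pullback.snd (i ≫ π') g ≫ 𝟙 V := pullback.lift_snd _ _ _
    rw [this, Category.comp_id]
  have hleft : IsPullback m (pullback.fst (i ≫ π') g) (pullback.fst π' g) i := by
    refine IsPullback.of_right ?_ hm1 (IsPullback.of_hasPullback π' g).flip
    rw [hm2]
    exact (IsPullback.of_hasPullback (i ≫ π') g).flip
  haveI : IsClosedImmersion m :=
    MorphismProperty.of_isPullback (P := @IsClosedImmersion) hleft.flip ‹_›
  have hminj : Function.Injective m := m.isClosedEmbedding.injective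
  let O : (pullback (i ≫ π') g).Opens := m ⁻¹ᵁ O'
  have hO : IsFinite (O.ι ≫ pullback.snd (i ≫ π') g) := by
    have : O.ι ≫ pullback.snd (i ≫ π') g = (m ∣_ O') ≫ O'.ι ≫ pullback.snd π' g := by
      rw [← hm2, ← Category.assoc, ← Category.assoc, morphismRestrict_ι]
    rw [this]
    infer_instance
  have hlc := hω V g O hO
  convert hlc using 1
  funext t
  rw [fibreIntegral_ι_comp O' (pullback.snd π' g)
      (fun z => Function.extend i ω 0 (pullback.fst π' g z)) t,
    fibreIntegral_ι_comp O (pullback.snd (i ≫ π') g)
      (fun z => ω (pullback.fst (i ≫ π') g z)) t]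
  -- points in the support come from the closed subscheme
  have hsupp : {z : ↑(pullback π' g) | z ∈ O' ∧ pullback.snd π' g z = t} ∩
      Function.support (fun z => Function.extend i ω 0 (pullback.fst π' g z) *
        (sepDeg (pullback.snd π' g) z : ℤ)) =
      (m '' {z : ↑(pullback (i ≫ π') g) | z ∈ O ∧ pullback.snd (i ≫ π') g z = t}) ∩
      Function.support (fun z => Function.extend i ω 0 (pullback.fst π' g z) *
        (sepDeg (pullback.snd π' g) z : ℤ)) := by
    ext z'
    simp only [Set.mem_inter_iff, Set.mem_ofPred_eq, Function.mem_support, Set.mem_image]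
    constructor
    · rintro ⟨⟨hz'O, hz't⟩, hne⟩
      refine ⟨?_, hne⟩
      have hex : ∃ u, i u = pullback.fst π' g z' := by
        by_contra hcon
        apply hne
        rw [Function.extend_apply' _ _ _ hcon]
        simp
      obtain ⟨u, hu⟩ := hex
      obtain ⟨w, hw1, hw2⟩ := Scheme.Pullback.exists_preimage_pullback
        (f := pullback.fst π' g) (g := i) z' u hu.symm
      refine ⟨hleft.isoPullback.inv w, ⟨?_, ?_⟩, ?_⟩
      · show m (hleft.isoPullback.inv w) ∈ O'
        rw [← Scheme.Hom.comp_apply, hleft.isoPullback_inv_fst, hw1]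
        exact hz'O
      · rw [← hm2, Scheme.Hom.comp_apply, ← Scheme.Hom.comp_apply (hleft.isoPullback.inv),
          hleft.isoPullback_inv_fst, hw1]
        exact hz't
      · rw [← Scheme.Hom.comp_apply, hleft.isoPullback_inv_fst, hw1]
    · rintro ⟨⟨z, ⟨hzO, hzt⟩, rfl⟩, hne⟩
      refine ⟨⟨hzO, ?_⟩, hne⟩
      rw [← Scheme.Hom.comp_apply, hm2]
      exact hzt
  rw [finsum_mem_inter_support_eq _ _ _ hsupp, finsum_mem_image hminj.injOn]
  apply finsum_mem_congr rfl
  intro z _
  have h1 : pullback.fst π' g (m z) = i (pullback.fst (i ≫ π') g z) := by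
    rw [← Scheme.Hom.comp_apply, hm1, Scheme.Hom.comp_apply]
  rw [h1, hinj.extend_apply]
  congr 2
  haveI := isIso_residueFieldMap_of_isPreimmersion m z
  rw [← sepDeg_comp_of_isIso m (pullback.snd π' g) z]
  congr 1


/-- a weighting of a finite morphism to an affine scheme is patch-locally constant -/
theorem patchLocConst_of_isFinite {U E : Scheme.{u}} [IsAffine E] (π : U ⟶ E) [IsFinite π]
    (ω : U → ℤ) (hω : MoreMor.IsWeighting π ω) : PatchLocConst ω := by
  obtain ⟨U', i, π', hi, hπ', hlfp, rfl⟩ := exists_closedImmersion_finite_lfp π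
  have h := patchLocConst_of_isFinite_of_lfp π' _ (isWeighting_extend_zero i π' ω hω)
  exact (h.comp_hom i).congr fun u => i.isClosedEmbedding.injective.extend_apply ω 0 u

end Groth.Agent.Lib.Weight34
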