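/-
helper6: for `f` flat, locally quasi-finite and locally of finite presentation, the function
`x ↦ length (𝒪_{X,x} ⧸ 𝔪_{f x} 𝒪_{X,x}) · [κ(x) : κ(f x)]_i` is a positive weighting of `f` (S1421).

* algebra: `toNat_length_fibre_pos` (closed fibre of a quasi-finite local homomorphism has finite
  positive length), `length_tower_top`/`length_tower_bot` (étale invariance of the length of the
  closed fibre), `map_maximalIdeal_of_unramified`, `isSeparable_residue_of_unramified`.
* schemes: `insepDeg`, `insepDeg_comp`, `insepDeg_of_unramified`, `mult_comp_top`, `mult_comp_bot`.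
* `fibreIntegral_eq_finrank`: for `π` finite flat, the fibre integral of `mult · insepDeg` is the rank
  (helper63's degree formula `Lib/FiniteFlatDegree`), `wt`, `wt_pos`, `isWeighting_wt`.
-/
import Mathlib
import Groth.Agent.Lib.FiniteFlatDegree
import Groth.Agent.Lib.CycFlatPull
import Groth.Agent.Lib.H59FibInt
import Groth.Agent.Lib.H59GeomPoints

set_option autoImplicit false
set_option linter.style.haveILetI false
universe u

namespace Groth.Agent.Lib.WeightLengthInsep6

section Part0
open AlgebraicGeometry CategoryTheory Limits IsLocalRing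

section Alg

variable {A B C : Type u} [CommRing A] [CommRing B] [CommRing C] [IsLocalRing A]
  [IsLocalRing B] [IsLocalRing C]

/-- the closed fibre of a quasi-finite local homomorphism has finite positive length -/
theorem toNat_length_fibre_pos (φ : A →+* B) [IsLocalHom φ] (hqf : φ.QuasiFinite) :
    0 < (Module.length B (B ⧸ Ideal.map φ (maximalIdeal A))).toNat := by
  algebraize [φ]
  have hφ : φ = algebraMap A B := (RingHom.algebraMap_toAlgebra φ).symm
  rw [hφ]
  haveI : IsLocalHom (algebraMap A B) := hφ ▸ ‹IsLocalHom φ›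
  have hIle : Ideal.map (algebraMap A B) (maximalIdeal A) ≤ maximalIdeal B :=
    ((local_hom_TFAE (algebraMap A B)).out 0 2 rfl rfl).mp inferInstance
  haveI : Nontrivial (B ⧸ Ideal.map (algebraMap A B) (maximalIdeal A)) :=
    Ideal.Quotient.nontrivial_iff.mpr
      (ne_top_of_le_ne_top (maximalIdeal.isMaximal B).ne_top hIle)
  letI : Algebra (ResidueField A) (B ⧸ Ideal.map (algebraMap A B) (maximalIdeal A)) :=
    (inferInstanceAs <| Algebra (A ⧸ _) _)
  haveI : IsScalarTower A (ResidueField A) (B ⧸ Ideal.map (algebraMap A B) (maximalIdeal A)) :=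
    (inferInstanceAs <| IsScalarTower A (A ⧸ _) _)
  haveI : Algebra.QuasiFinite A (B ⧸ Ideal.map (algebraMap A B) (maximalIdeal A)) := inferInstance
  haveI : Algebra.QuasiFinite (ResidueField A)
      (B ⧸ Ideal.map (algebraMap A B) (maximalIdeal A)) :=
    Algebra.QuasiFinite.of_restrictScalars A _ _
  haveI : Module.Finite (ResidueField A) (B ⧸ Ideal.map (algebraMap A B) (maximalIdeal A)) :=
    Module.Finite.of_quasiFinite
  haveI : IsArtinianRing (B ⧸ Ideal.map (algebraMap A B) (maximalIdeal A)) :=
    IsArtinianRing.of_finite (ResidueField A) _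
  have h1 : Module.length B (B ⧸ Ideal.map (algebraMap A B) (maximalIdeal A)) =
      Module.length (B ⧸ Ideal.map (algebraMap A B) (maximalIdeal A))
        (B ⧸ Ideal.map (algebraMap A B) (maximalIdeal A)) :=
    Module.length_eq_of_surjective (S := B)
      (R := B ⧸ Ideal.map (algebraMap A B) (maximalIdeal A))
      (M := B ⧸ Ideal.map (algebraMap A B) (maximalIdeal A)) Ideal.Quotient.mk_surjective
  have h2 : Module.length (B ⧸ Ideal.map (algebraMap A B) (maximalIdeal A))
      (B ⧸ Ideal.map (algebraMap A B) (maximalIdeal A)) ≠ ⊤ := Module.length_ne_top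
  have h3 : 0 < Module.length B (B ⧸ Ideal.map (algebraMap A B) (maximalIdeal A)) :=
    Module.length_pos
  rw [← h1] at h2
  obtain ⟨n, hn⟩ := ENat.ne_top_iff_exists.mp h2
  rw [← hn] at h3 ⊢
  rw [ENat.toNat_natCast]
  exact_mod_cast h3

theorem length_residue_eq_one : Module.length C (C ⧸ maximalIdeal C) = 1 := by
  haveI : IsSimpleModule C (C ⧸ maximalIdeal C) := by
    rw [isSimpleModule_iff_isCoatom]
    exact Ideal.isMaximal_def.mp (maximalIdeal.isMaximal C)
  exact Module.length_eq_one C (C ⧸ maximalIdeal C)

theorem length_tower_top (φ : A →+* B) (ψ : B →+* C) [IsLocalHom ψ] (hflat : ψ.Flat)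
    (hm : Ideal.map ψ (maximalIdeal B) = maximalIdeal C) :
    Module.length C (C ⧸ (maximalIdeal A).map (ψ.comp φ)) =
      Module.length B (B ⧸ (maximalIdeal A).map φ) := by
  rw [Groth.Agent.Lib.CycFlatPull.length_quot_tower φ ψ hflat, hm, length_residue_eq_one, mul_one]

theorem length_tower_bot (φ : A →+* B) (ψ : B →+* C)
    (hm : Ideal.map φ (maximalIdeal A) = maximalIdeal B) :
    Module.length C (C ⧸ (maximalIdeal A).map (ψ.comp φ)) =
      Module.length C (C ⧸ (maximalIdeal B).map ψ) := by
  have : (maximalIdeal A).map (ψ.comp φ) = (maximalIdeal B).map ψ := by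
    rw [← hm, Ideal.map_map]
  rw [this]

theorem map_maximalIdeal_of_unramified (φ : A →+* B) [IsLocalHom φ]
    (h1 : φ.FormallyUnramified) (h2 : φ.EssFiniteType) :
    Ideal.map φ (maximalIdeal A) = maximalIdeal B := by
  algebraize [φ]
  have hφ : φ = algebraMap A B := (RingHom.algebraMap_toAlgebra φ).symm
  haveI : IsLocalHom (algebraMap A B) := hφ ▸ ‹IsLocalHom φ›
  rw [hφ]
  exact Algebra.FormallyUnramified.map_maximalIdeal

theorem isSeparable_residue_of_unramified (φ : A →+* B) [IsLocalHom φ]
    (h1 : φ.FormallyUnramified) (h2 : φ.EssFiniteType) :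
    letI := (ResidueField.map φ).toAlgebra
    Algebra.IsSeparable (ResidueField A) (ResidueField B) := by
  algebraize [φ]
  have hφ : φ = algebraMap A B := (RingHom.algebraMap_toAlgebra φ).symm
  haveI : IsLocalHom (algebraMap A B) := hφ ▸ ‹IsLocalHom φ›
  have key : Algebra.IsSeparable (ResidueField A) (ResidueField B) := inferInstance
  have heq : (inferInstance : Algebra (ResidueField A) (ResidueField B)) =
      (ResidueField.map φ).toAlgebra := by
    apply Algebra.algebra_ext
    intro r
    obtain ⟨a, rfl⟩ := residue_surjective r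
    rfl
  rw [← heq]
  exact key

end Alg

end Part0

section Part1
open AlgebraicGeometry CategoryTheory Limits IsLocalRing
open Groth.Agent.Lib.FiniteFlatDegree (mult)

variable {P Q R : Scheme.{u}}

/-- inseparable degree of the residue field extension at a point -/
noncomputable def insepDeg (f : P ⟶ Q) (x : P) : ℕ :=
  letI := (f.residueFieldMap x).hom.toAlgebra
  Field.finInsepDegree (Q.residueField (f x)) (P.residueField x)

theorem insepDeg_comp (a : P ⟶ Q) (b : Q ⟶ R) (z : P)
    (halg : letI := (b.residueFieldMap (a z)).hom.toAlgebra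
      Algebra.IsAlgebraic (R.residueField (b (a z))) (Q.residueField (a z))) :
    insepDeg (a ≫ b) z = insepDeg b (a z) * insepDeg a z := by
  unfold insepDeg
  letI a1 : Algebra (R.residueField (b (a z))) (Q.residueField (a z)) :=
    (b.residueFieldMap (a z)).hom.toAlgebra
  letI a2 : Algebra (Q.residueField (a z)) (P.residueField z) :=
    (a.residueFieldMap z).hom.toAlgebra
  letI a3 : Algebra (R.residueField (b (a z))) (P.residueField z) :=
    ((a ≫ b).residueFieldMap z).hom.toAlgebra
  haveI : IsScalarTower (R.residueField (b (a z))) (Q.residueField (a z)) (P.residueField z) :=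
    IsScalarTower.of_algebraMap_eq' (by
      change ((a ≫ b).residueFieldMap z).hom =
        (a.residueFieldMap z).hom.comp (b.residueFieldMap (a z)).hom
      rw [Scheme.residueFieldMap_comp]
      rfl)
  haveI : Algebra.IsAlgebraic (R.residueField (b (a z))) (Q.residueField (a z)) := halg
  exact (Field.finInsepDegree_mul_finInsepDegree_of_isAlgebraic
    (R.residueField (b (a z))) (Q.residueField (a z)) (P.residueField z)).symm

theorem isSeparable_of_unramified (g : P ⟶ Q) [FormallyUnramified g] [LocallyOfFiniteType g]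
    (z : P) :
    letI := (g.residueFieldMap z).hom.toAlgebra
    Algebra.IsSeparable (Q.residueField (g z)) (P.residueField z) :=
  isSeparable_residue_of_unramified (g.stalkMap z).hom (FormallyUnramified.stalkMap g z)
    (LocallyOfFiniteType.stalkMap g z)

theorem insepDeg_of_unramified (g : P ⟶ Q) [FormallyUnramified g] [LocallyOfFiniteType g]
    (z : P) : insepDeg g z = 1 := by
  unfold insepDeg
  letI := (g.residueFieldMap z).hom.toAlgebra
  haveI := isSeparable_of_unramified g z
  exact Algebra.IsSeparable.finInsepDegree_eq _ _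

theorem mult_comp_top (a : P ⟶ Q) (b : Q ⟶ R) (z : P) [Flat a] [FormallyUnramified a]
    [LocallyOfFiniteType a] : mult (a ≫ b) z = mult b (a z) := by
  unfold mult
  congr 1
  have hcomp : ((a ≫ b).stalkMap z).hom =
      (a.stalkMap z).hom.comp (b.stalkMap (a z)).hom := by
    rw [Scheme.Hom.stalkMap_comp]
    rfl
  rw [hcomp]
  exact length_tower_top _ _ (Flat.stalkMap a z)
    (map_maximalIdeal_of_unramified _ (FormallyUnramified.stalkMap a z)
      (LocallyOfFiniteType.stalkMap a z))

theorem mult_comp_bot (a : P ⟶ Q) (b : Q ⟶ R) (z : P) [FormallyUnramified b]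
    [LocallyOfFiniteType b] : mult (a ≫ b) z = mult a z := by
  unfold mult
  congr 1
  have hcomp : ((a ≫ b).stalkMap z).hom =
      (a.stalkMap z).hom.comp (b.stalkMap (a z)).hom := by
    rw [Scheme.Hom.stalkMap_comp]
    rfl
  rw [hcomp]
  exact length_tower_bot _ _
    (map_maximalIdeal_of_unramified (b.stalkMap (a z)).hom (FormallyUnramified.stalkMap b (a z))
      (LocallyOfFiniteType.stalkMap b (a z)))

end Part1

section Part2
open AlgebraicGeometry CategoryTheory Limits IsLocalRing
open Groth.Agent.Lib.FiniteFlatDegree (mult finsum_mult_mul_residueDegree)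

/-- the weight function `length (𝒪_{X,x} ⧸ 𝔪_y 𝒪_{X,x}) · [κ(x) : κ(y)]_i` -/
noncomputable def wt {X Y : Scheme.{u}} (f : X ⟶ Y) (x : X) : ℤ :=
  (mult f x : ℤ) * (insepDeg f x : ℤ)

theorem wt_pos {X Y : Scheme.{u}} (f : X ⟶ Y) [LocallyQuasiFinite f] (x : X) : 0 < wt f x := by
  have h1 : 0 < mult f x := toNat_length_fibre_pos (f.stalkMap x).hom (f.quasiFiniteAt x)
  have h2 : 0 < insepDeg f x := by
    unfold insepDeg
    letI := (f.residueFieldMap x).hom.toAlgebra
    haveI : Module.Finite (Y.residueField (f x)) (X.residueField x) :=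
      Groth.Agent.Lib.H59GeomPoints.finite_residueFieldMap f x
    rw [Field.finInsepDegree]
    exact Module.finrank_pos
  unfold wt
  positivity

theorem fibreIntegral_eq_finrank {U V : Scheme.{u}} (π : U ⟶ V) [IsFinite π] [Flat π]
    (W : U → ℤ) (hW : ∀ u, W u = (mult π u : ℤ) * (insepDeg π u : ℤ)) (v : V) :
    MoreMor.fibreIntegral π W v = (π.finrank v : ℤ) := by
  have hpt : ∀ u : U, W u * (letI := (π.residueFieldMap u).hom.toAlgebra
      (Field.finSepDegree (V.residueField (π u)) (U.residueField u) : ℤ)) =
      ((mult π u * π.residueDegree u : ℕ) : ℤ) := by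
    intro u
    letI := (π.residueFieldMap u).hom.toAlgebra
    have h := Field.finSepDegree_mul_finInsepDegree (V.residueField (π u)) (U.residueField u)
    rw [hW]
    unfold insepDeg Scheme.Hom.residueDegree
    rw [← h]
    push_cast
    ring
  have hfin : (π ⁻¹' {v}).Finite := π.finite_preimage_singleton v
  have h1 : ((∑ᶠ x ∈ π ⁻¹' {v}, mult π x * π.residueDegree x : ℕ) : ℤ) =
      ∑ᶠ x ∈ π ⁻¹' {v}, ((mult π x * π.residueDegree x : ℕ) : ℤ) :=
    Nat.cast_finsum_mem hfin _
  rw [← finsum_mult_mul_residueDegree π v, h1, ← finsum_set_coe_eq_finsum_mem]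
  unfold MoreMor.fibreIntegral
  exact finsum_congr fun u => hpt u.1

theorem isWeighting_wt {X Y : Scheme.{u}} (f : X ⟶ Y) [LocallyQuasiFinite f] [Flat f]
    [LocallyOfFinitePresentation f] : MoreMor.IsWeighting f (wt f) := by
  intro V g _ U hU
  obtain ⟨π, hπ⟩ : ∃ π, π = U.ι ≫ pullback.snd f g := ⟨_, rfl⟩
  obtain ⟨e, he⟩ : ∃ e, e = U.ι ≫ pullback.fst f g := ⟨_, rfl⟩
  rw [← hπ] at hU ⊢
  haveI : IsFinite π := hU
  haveI : Flat π := by rw [hπ]; infer_instance
  haveI : LocallyOfFinitePresentation π := by rw [hπ]; infer_instance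
  haveI : Etale e := by rw [he]; infer_instance
  have hsq : e ≫ f = π ≫ g := by
    rw [he, hπ, Category.assoc, Category.assoc, pullback.condition]
  have hW : ∀ u : (U : Scheme.{u}), wt f (e u) = (mult π u : ℤ) * (insepDeg π u : ℤ) := by
    intro u
    unfold wt
    have hm : mult f (e u) = mult π u := by
      rw [← mult_comp_top e f u, hsq, mult_comp_bot π g u]
    have hi : insepDeg f (e u) = insepDeg π u := by
      have h1 := insepDeg_comp e f u (by
        letI := (f.residueFieldMap (e u)).hom.toAlgebra
        haveI : Module.Finite (Y.residueField (f (e u))) (X.residueField (e u)) :=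
          Groth.Agent.Lib.H59GeomPoints.finite_residueFieldMap f (e u)
        exact Algebra.IsAlgebraic.of_finite _ _)
      have h2 := insepDeg_comp π g u (by
        letI := (g.residueFieldMap (π u)).hom.toAlgebra
        haveI := isSeparable_of_unramified g (π u)
        exact Algebra.IsSeparable.isAlgebraic _ _)
      rw [insepDeg_of_unramified e u, mul_one] at h1
      rw [insepDeg_of_unramified g (π u), one_mul] at h2
      rw [← h1, hsq, h2]
    rw [hm, hi]
  have key : ∀ v, MoreMor.fibreIntegral π (fun u => wt f (pullback.fst f g (U.ι u))) v =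
      (π.finrank v : ℤ) :=
    fun v => fibreIntegral_eq_finrank π _ (fun u => by
      have := hW u
      rw [he] at this
      exact this) v
  have hloc : IsLocallyConstant (fun v => (π.finrank v : ℤ)) :=
    (Scheme.Hom.isLocallyConstant_finrank π).comp _
  have hfun : MoreMor.fibreIntegral π (fun u => wt f (pullback.fst f g (U.ι u))) =
      fun v => (π.finrank v : ℤ) := funext key
  rw [hfun]
  exact hloc

end Part2

end Groth.Agent.Lib.WeightLengthInsep6
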