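/-
helper6: a weighting of the limit of a quasi-finite, finitely presented family descends to a finite
stage (S7192).

* `main_Q'`: the universal finite open of `UnivFinOpen6` with affine universal base.
* `chartMap`, `chartOpen`, `J_chart_two`: the open cut out by the universal open in any base change,
  and compatibility of the partial fibre integrals.
* `Fint`: the integral over the universal open at a stage; `isLocallyConstant_Fint` (weighting ⟹
  locally constant), `Fint_comp` (naturality), `isWeighting_of_isLocallyConstant_Fint` (converse).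
* `patchLocConst_J_affine`: partial fibre integrals of patch-locally constant functions along finite
  finitely presented maps are patch-locally constant (via constructibility of the number of
  geometric points, S1339).
* `exists_patchLocConst_descent`, `exists_isOpen_preimage_finset`: descent along cofiltered limits.
* `main`: the statement of S7192.
-/
import Groth.Agent.Lib.UnivFinOpen6
import Groth.Agent.Lib.H59Weight4
import Groth.Agent.Lib.WeightCons34D
import Groth.Agent.Lib.H59NGeom3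
import Groth.Agent.Lib.LimConstructible
import Groth.Agent.Lib.LimBaseChange
import Groth.Agent.S1419
import Groth.Agent.S1339
import Groth.Agent.S1423

set_option autoImplicit false
set_option linter.style.haveILetI false
universe u

namespace Groth.Agent.Lib.WeightLimit6

section Part0
open AlgebraicGeometry CategoryTheory Limits TensorProduct
open Groth.Agent.Lib.UnivFinOpen6

variable {X Y : Scheme.{u}} (f : X ⟶ Y) [IsAffine X] [IsAffine Y]

/-- `main_Q` of `UnivFinOpen6` with the additional information that the universal base is affine -/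
theorem main_Q' [LocallyQuasiFinite f] [LocallyOfFinitePresentation f] :
    ∃ (Yu : Scheme.{u}) (a : Yu ⟶ Y) (P : Scheme.{u}) (fstP : P ⟶ X) (sndP : P ⟶ Yu)
      (H : IsPullback fstP sndP f a) (Uu : P.Opens),
      IsAffine Yu ∧ LocallyOfFinitePresentation a ∧ QuasiCompact a ∧ QuasiSeparated a ∧
      IsFinite (Uu.ι ≫ sndP) ∧
      ∀ (Y' : Scheme.{u}) (b : Y' ⟶ Y) (P' : Scheme.{u}) (fst' : P' ⟶ X) (snd' : P' ⟶ Y')
        (H' : IsPullback fst' snd' f b) (U' : P'.Opens), IsAffine Y' → IsFinite (U'.ι ≫ snd') →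
        ∃ (c : Y' ⟶ Yu) (hc : c ≫ a = b),
          (H.lift fst' (snd' ≫ c) (by rw [Category.assoc, hc]; exact H'.w)) ⁻¹ᵁ Uu = U' := by
  letI algAB : Algebra (GA Y) (GA X) := f.appTop.hom.toAlgebra
  have hfp : Algebra.FinitePresentation (GA Y) (GA X) := by
    have h := (HasRingHomProperty.iff_of_isAffine (P := @LocallyOfFinitePresentation)).mp
      (inferInstance : LocallyOfFinitePresentation f)
    exact RingHom.finitePresentation_algebraMap.mp h
  have hqf : Algebra.QuasiFinite (GA Y) (GA X) := by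
    have h := (HasRingHomProperty.iff_of_isAffine (P := @LocallyQuasiFinite)).mp
      (inferInstance : LocallyQuasiFinite f)
    exact RingHom.quasiFinite_algebraMap.mp h
  have hnat : f ≫ Y.isoSpec.hom = X.isoSpec.hom ≫ sm (GA Y) (GA X) :=
    (Scheme.isoSpec_hom_naturality f).symm
  obtain ⟨Au, _, _, _, εu, hfin, huniv⟩ := core (GA Y) (GA X)
  have H : IsPullback
      (Spec.map (CommRingCat.ofHom
        (Algebra.TensorProduct.includeRight : GA X →ₐ[GA Y] Au ⊗[GA Y] GA X).toRingHom) ≫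
        X.isoSpec.inv)
      (sm Au (Au ⊗[GA Y] GA X)) f (sm (GA Y) Au ≫ Y.isoSpec.inv) :=
    isPullback_of_iso_cospan (isPullback_sm (GA Y) (GA X) Au) X.isoSpec Y.isoSpec f hnat
  refine ⟨Spec (CommRingCat.of Au), sm (GA Y) Au ≫ Y.isoSpec.inv,
    Spec (CommRingCat.of (Au ⊗[GA Y] GA X)), _, _, H, D εu, inferInstance, inferInstance,
    inferInstance, inferInstance, hfin, ?_⟩
  intro Y' b P' fst' snd' H' U' hY' hU'
  letI algAR : Algebra (GA Y) (GA Y') := b.appTop.hom.toAlgebra
  have hnatb : b ≫ Y.isoSpec.hom = Y'.isoSpec.hom ≫ sm (GA Y) (GA Y') :=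
    (Scheme.isoSpec_hom_naturality b).symm
  have H'' : IsPullback (fst' ≫ X.isoSpec.hom) (snd' ≫ Y'.isoSpec.hom) (sm (GA Y) (GA X))
      (sm (GA Y) (GA Y')) :=
    H'.of_iso (Iso.refl _) X.isoSpec Y'.isoSpec Y.isoSpec (by simp) (by simp) hnat hnatb
  let e : P' ≅ Spec (CommRingCat.of (GA Y' ⊗[GA Y] GA X)) :=
    H''.isoIsPullback _ _ (isPullback_sm (GA Y) (GA X) (GA Y'))
  have he_fst : e.hom ≫ Spec.map (CommRingCat.ofHom
      (Algebra.TensorProduct.includeRight : GA X →ₐ[GA Y] GA Y' ⊗[GA Y] GA X).toRingHom) =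
      fst' ≫ X.isoSpec.hom := H''.isoIsPullback_hom_fst _ _ _
  have he_snd : e.hom ≫ sm (GA Y') (GA Y' ⊗[GA Y] GA X) = snd' ≫ Y'.isoSpec.hom :=
    H''.isoIsPullback_hom_snd _ _ _
  have he_inv_snd : e.inv ≫ snd' ≫ Y'.isoSpec.hom = sm (GA Y') (GA Y' ⊗[GA Y] GA X) :=
    H''.isoIsPullback_inv_snd _ _ _
  have hfin'' : IsFinite ((e.inv ⁻¹ᵁ U').ι ≫ sm (GA Y') (GA Y' ⊗[GA Y] GA X)) := by
    rw [← he_inv_snd]
    have h1 : IsFinite (U'.ι ≫ (snd' ≫ Y'.isoSpec.hom)) := by
      rw [← Category.assoc]; infer_instance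
    exact isFinite_preimage_iso e.inv U' _ h1
  obtain ⟨χ, hχ⟩ := huniv (GA Y') (e.inv ⁻¹ᵁ U') hfin''
  have hc : (Y'.isoSpec.hom ≫ Spec.map (CommRingCat.ofHom χ.toRingHom)) ≫
      (sm (GA Y) Au ≫ Y.isoSpec.inv) = b := by
    rw [Category.assoc, ← Category.assoc (Spec.map _), comp_sm χ, ← Category.assoc, ← hnatb,
      Category.assoc, Iso.hom_inv_id, Category.comp_id]
  refine ⟨Y'.isoSpec.hom ≫ Spec.map (CommRingCat.ofHom χ.toRingHom), hc, ?_⟩
  have hlift : H.lift fst' (snd' ≫ Y'.isoSpec.hom ≫ Spec.map (CommRingCat.ofHom χ.toRingHom))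
      (by rw [Category.assoc, hc]; exact H'.w) =
      e.hom ≫ Spec.map (CommRingCat.ofHom
        (Algebra.TensorProduct.map χ (AlgHom.id (GA Y) (GA X))).toRingHom) := by
    apply H.hom_ext
    · rw [H.lift_fst, Category.assoc, ← Category.assoc (Spec.map _), ← Spec.map_comp,
        ← CommRingCat.ofHom_comp]
      have : (Algebra.TensorProduct.map χ (AlgHom.id (GA Y) (GA X))).toRingHom.comp
          (Algebra.TensorProduct.includeRight : GA X →ₐ[GA Y] Au ⊗[GA Y] GA X).toRingHom =
          (Algebra.TensorProduct.includeRight :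
            GA X →ₐ[GA Y] GA Y' ⊗[GA Y] GA X).toRingHom := by
        ext x
        simp
      rw [this, ← Category.assoc, he_fst, Category.assoc, Iso.hom_inv_id, Category.comp_id]
    · rw [H.lift_snd, Category.assoc]
      have : Spec.map (CommRingCat.ofHom
          (Algebra.TensorProduct.map χ (AlgHom.id (GA Y) (GA X))).toRingHom) ≫
          sm Au (Au ⊗[GA Y] GA X) =
          sm (GA Y') (GA Y' ⊗[GA Y] GA X) ≫ Spec.map (CommRingCat.ofHom χ.toRingHom) := by
        have hring : (Algebra.TensorProduct.map χ (AlgHom.id (GA Y) (GA X))).toRingHom.comp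
            (algebraMap Au (Au ⊗[GA Y] GA X)) =
            (algebraMap (GA Y') (GA Y' ⊗[GA Y] GA X)).comp χ.toRingHom := by
          ext x
          simp [Algebra.TensorProduct.algebraMap_apply]
        unfold sm
        rw [← Spec.map_comp, ← Spec.map_comp, ← CommRingCat.ofHom_comp, ← CommRingCat.ofHom_comp,
          hring]
      rw [this, ← Category.assoc e.hom, he_snd, Category.assoc]
  have hpre : (Spec.map (CommRingCat.ofHom
      (Algebra.TensorProduct.map χ (AlgHom.id (GA Y) (GA X))).toRingHom)) ⁻¹ᵁ D εu =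
      D (Algebra.TensorProduct.map χ (AlgHom.id (GA Y) (GA X)) εu) := preimage_D _ _
  rw [hlift, Scheme.Hom.comp_preimage, hpre, ← hχ, ← Scheme.Hom.comp_preimage,
    e.hom_inv_id, Scheme.Hom.id_preimage]

end Part0

section Part1
open AlgebraicGeometry CategoryTheory Limits
open Groth.Agent.Lib.H59FibInt Groth.Agent.Lib.H59Weight

section Chart

variable {X0 Y0 Yu P : Scheme.{u}} {f0 : X0 ⟶ Y0} {a : Yu ⟶ Y0} {fstP : P ⟶ X0} {sndP : P ⟶ Yu}
  (H : IsPullback fstP sndP f0 a) (Uu : P.Opens)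

/-- the classifying map of a chart to the universal fibre product -/
noncomputable def chartMap {E Q : Scheme.{u}} (c : E ⟶ Yu) {e : E ⟶ Y0} (hce : c ≫ a = e)
    {fstQ : Q ⟶ X0} {sndQ : Q ⟶ E} (HQ : IsPullback fstQ sndQ f0 e) : Q ⟶ P :=
  H.lift fstQ (sndQ ≫ c) (by rw [Category.assoc, hce]; exact HQ.w)

@[reassoc]
theorem chartMap_fst {E Q : Scheme.{u}} (c : E ⟶ Yu) {e : E ⟶ Y0} (hce : c ≫ a = e)
    {fstQ : Q ⟶ X0} {sndQ : Q ⟶ E} (HQ : IsPullback fstQ sndQ f0 e) :
    chartMap H c hce HQ ≫ fstP = fstQ := H.lift_fst _ _ _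

@[reassoc]
theorem chartMap_snd {E Q : Scheme.{u}} (c : E ⟶ Yu) {e : E ⟶ Y0} (hce : c ≫ a = e)
    {fstQ : Q ⟶ X0} {sndQ : Q ⟶ E} (HQ : IsPullback fstQ sndQ f0 e) :
    chartMap H c hce HQ ≫ sndP = sndQ ≫ c := H.lift_snd _ _ _

theorem isPullback_chartMap {E Q : Scheme.{u}} (c : E ⟶ Yu) {e : E ⟶ Y0} (hce : c ≫ a = e)
    {fstQ : Q ⟶ X0} {sndQ : Q ⟶ E} (HQ : IsPullback fstQ sndQ f0 e) :
    IsPullback (chartMap H c hce HQ) sndQ sndP c := by
  refine IsPullback.of_right ?_ (chartMap_snd H c hce HQ) H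
  rw [chartMap_fst, hce]
  exact HQ

/-- the open of a chart cut out by the universal open -/
noncomputable def chartOpen {E Q : Scheme.{u}} (c : E ⟶ Yu) {e : E ⟶ Y0} (hce : c ≫ a = e)
    {fstQ : Q ⟶ X0} {sndQ : Q ⟶ E} (HQ : IsPullback fstQ sndQ f0 e) : Q.Opens :=
  (chartMap H c hce HQ) ⁻¹ᵁ Uu

theorem isFinite_chartOpen (hfin : IsFinite (Uu.ι ≫ sndP))
    {E Q : Scheme.{u}} (c : E ⟶ Yu) {e : E ⟶ Y0} (hce : c ≫ a = e)
    {fstQ : Q ⟶ X0} {sndQ : Q ⟶ E} (HQ : IsPullback fstQ sndQ f0 e) :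
    IsFinite ((chartOpen H Uu c hce HQ).ι ≫ sndQ) :=
  isFinite_preimage_of_isPullback (isPullback_chartMap H c hce HQ) Uu hfin

section Two

variable {E Q : Scheme.{u}} (c : E ⟶ Yu) {e : E ⟶ Y0} (hce : c ≫ a = e)
    {fstQ : Q ⟶ X0} {sndQ : Q ⟶ E} (HQ : IsPullback fstQ sndQ f0 e)
    {E' Q' : Scheme.{u}} (c' : E' ⟶ Yu) {e' : E' ⟶ Y0} (hce' : c' ≫ a = e')
    {fstQ' : Q' ⟶ X0} {sndQ' : Q' ⟶ E'} (HQ' : IsPullback fstQ' sndQ' f0 e')
    (t : E' ⟶ E) (T : Q' ⟶ Q) (htc : t ≫ c = c') (hT1 : T ≫ fstQ = fstQ')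
    (hT2 : T ≫ sndQ = sndQ' ≫ t)

include htc hT1 hT2 in
theorem chartMap_comp : T ≫ chartMap H c hce HQ = chartMap H c' hce' HQ' := by
  apply H.hom_ext
  · rw [Category.assoc, chartMap_fst, chartMap_fst, hT1]
  · rw [Category.assoc, chartMap_snd, chartMap_snd, reassoc_of% hT2, htc]

include htc hT1 hT2 in
theorem chartOpen_preimage :
    T ⁻¹ᵁ (chartOpen H Uu c hce HQ) = chartOpen H Uu c' hce' HQ' := by
  unfold chartOpen
  rw [← Scheme.Hom.comp_preimage, chartMap_comp H c hce HQ c' hce' HQ' t T htc hT1 hT2]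

include H hce HQ hce' HQ' htc hT1 hT2 in
theorem isPullback_chart_two : IsPullback T sndQ' sndQ t := by
  refine IsPullback.of_right ?_ hT2 (isPullback_chartMap H c hce HQ)
  rw [chartMap_comp H c hce HQ c' hce' HQ' t T htc hT1 hT2, htc]
  exact isPullback_chartMap H c' hce' HQ'

include htc hT1 hT2 in
theorem J_chart_two (hfin : IsFinite (Uu.ι ≫ sndP)) (W : Q → ℤ) (ε' : E') :
    J sndQ' (chartOpen H Uu c' hce' HQ' : Set Q') (fun z => W (T z)) ε' =
      J sndQ (chartOpen H Uu c hce HQ : Set Q) W (t ε') := by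
  rw [← chartOpen_preimage H Uu c hce HQ c' hce' HQ' t T htc hT1 hT2]
  exact J_of_isPullback (isPullback_chart_two H c hce HQ c' hce' HQ' t T htc hT1 hT2)
    (chartOpen H Uu c hce HQ) (isFinite_chartOpen H Uu hfin c hce HQ) W ε'

end Two

end Chart

end Part1

section Part2
open AlgebraicGeometry CategoryTheory Limits
open Groth.Agent.Lib.H59FibInt Groth.Agent.Lib.H59Weight

section Stage

variable {X0 Y0 Yu P : Scheme.{u}} (f0 : X0 ⟶ Y0) (a : Yu ⟶ Y0) {fstP : P ⟶ X0} {sndP : P ⟶ Yu}
  (H : IsPullback fstP sndP f0 a) (Uu : P.Opens)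
variable {Y1 : Scheme.{u}} (b : Y1 ⟶ Y0)

theorem stage_isPullback :
    IsPullback (pullback.fst (pullback.fst b f0) (pullback.fst b a) ≫ pullback.snd b f0)
      (pullback.snd (pullback.fst b f0) (pullback.fst b a)) f0 (pullback.fst b a ≫ b) :=
  (IsPullback.of_hasPullback _ _).paste_horiz (IsPullback.of_hasPullback b f0).flip

/-- the open of `X₁ ×_{Y₁} Yu₁` cut out by the universal open -/
noncomputable def sOpen : (pullback (pullback.fst b f0) (pullback.fst b a)).Opens :=
  chartOpen H Uu (pullback.snd b a) pullback.condition.symm (stage_isPullback f0 a b)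

/-- the integral of `w1` over the universal open at the stage `b` -/
noncomputable def Fint (w1 : ↥(pullback b f0) → ℤ) : ↥(pullback b a) → ℤ :=
  J (pullback.snd (pullback.fst b f0) (pullback.fst b a)) (sOpen f0 a H Uu b : Set _)
    (fun z => w1 (pullback.fst (pullback.fst b f0) (pullback.fst b a) z))

theorem isFinite_sOpen (hfin : IsFinite (Uu.ι ≫ sndP)) :
    IsFinite ((sOpen f0 a H Uu b).ι ≫ pullback.snd (pullback.fst b f0) (pullback.fst b a)) :=
  isFinite_chartOpen H Uu hfin _ _ _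

/-- (W) the stage integral of a weighting is locally constant -/
theorem isLocallyConstant_Fint [LocallyQuasiFinite f0] [LocallyOfFiniteType f0]
    (hfin : IsFinite (Uu.ι ≫ sndP)) (w1 : ↥(pullback b f0) → ℤ)
    (hw : MoreMor.IsWeighting (pullback.fst b f0) w1) :
    IsLocallyConstant (Fint f0 a H Uu b w1) := by
  set f1 := pullback.fst b f0 with hf1
  set q1 := pullback.fst b a with hq1
  have hw' : MoreMor.IsWeighting (pullback.snd f1 q1) (w1 ∘ ⇑(pullback.fst f1 q1)) :=
    Groth.Agent.S1419.result f1 w1 hw (pullback.snd f1 q1) (pullback.fst f1 q1) q1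
      (IsPullback.of_hasPullback f1 q1)
  set S := sOpen f0 a H Uu b with hS
  have hcomm : S.ι ≫ pullback.snd f1 q1 = (S.ι ≫ pullback.snd f1 q1) ≫ 𝟙 _ := by
    rw [Category.comp_id]
  haveI : IsOpenImmersion (pullback.lift S.ι (S.ι ≫ pullback.snd f1 q1) hcomm) := by
    haveI : IsOpenImmersion (pullback.lift S.ι (S.ι ≫ pullback.snd f1 q1) hcomm ≫
        pullback.fst (pullback.snd f1 q1) (𝟙 _)) := by
      rw [pullback.lift_fst]; infer_instance
    exact IsOpenImmersion.of_comp _ (pullback.fst (pullback.snd f1 q1) (𝟙 _))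
  have h := isLocallyConstant_of_square hw' S.ι (S.ι ≫ pullback.snd f1 q1) (𝟙 _) hcomm
    (isFinite_sOpen f0 a H Uu b hfin)
  have hfun : Fint f0 a H Uu b w1 = MoreMor.fibreIntegral (S.ι ≫ pullback.snd f1 q1)
      (fun t => (w1 ∘ ⇑(pullback.fst f1 q1)) (S.ι t)) := by
    funext y
    exact (fibreIntegral_ι_comp S (pullback.snd f1 q1) (w1 ∘ ⇑(pullback.fst f1 q1)) y).symm
  rw [hfun]
  exact h

/-- (N) naturality of the stage integral -/
theorem Fint_comp (hfin : IsFinite (Uu.ι ≫ sndP)) {Y2 : Scheme.{u}} (b2 : Y2 ⟶ Y0) (h : Y2 ⟶ Y1)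
    (hb : h ≫ b = b2) (w1 : ↥(pullback b f0) → ℤ) (y : ↥(pullback b2 a)) :
    Fint f0 a H Uu b2 (fun x => w1 (pullback.map b2 f0 b f0 h (𝟙 X0) (𝟙 Y0)
        (by rw [Category.comp_id, hb]) (by rw [Category.comp_id, Category.id_comp]) x)) y =
      Fint f0 a H Uu b w1 (pullback.map b2 a b a h (𝟙 Yu) (𝟙 Y0)
        (by rw [Category.comp_id, hb]) (by rw [Category.comp_id, Category.id_comp]) y) := by
  set ψ := pullback.map b2 f0 b f0 h (𝟙 X0) (𝟙 Y0)
        (by rw [Category.comp_id, hb]) (by rw [Category.comp_id, Category.id_comp]) with hψ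
  set θ := pullback.map b2 a b a h (𝟙 Yu) (𝟙 Y0)
        (by rw [Category.comp_id, hb]) (by rw [Category.comp_id, Category.id_comp]) with hθ
  have hψ1 : ψ ≫ pullback.fst b f0 = pullback.fst b2 f0 ≫ h := pullback.lift_fst _ _ _
  have hψ2 : ψ ≫ pullback.snd b f0 = pullback.snd b2 f0 :=
    (pullback.lift_snd _ _ _).trans (Category.comp_id _)
  have hθ1 : θ ≫ pullback.fst b a = pullback.fst b2 a ≫ h := pullback.lift_fst _ _ _
  have hθ2 : θ ≫ pullback.snd b a = pullback.snd b2 a :=
    (pullback.lift_snd _ _ _).trans (Category.comp_id _)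
  let T : pullback (pullback.fst b2 f0) (pullback.fst b2 a) ⟶
      pullback (pullback.fst b f0) (pullback.fst b a) :=
    pullback.map _ _ _ _ ψ θ h hψ1.symm hθ1.symm
  have hT1 : T ≫ pullback.fst (pullback.fst b f0) (pullback.fst b a) =
      pullback.fst (pullback.fst b2 f0) (pullback.fst b2 a) ≫ ψ := pullback.lift_fst _ _ _
  have hT2 : T ≫ pullback.snd (pullback.fst b f0) (pullback.fst b a) =
      pullback.snd (pullback.fst b2 f0) (pullback.fst b2 a) ≫ θ := pullback.lift_snd _ _ _
  have key := J_chart_two H Uu (pullback.snd b a) pullback.condition.symm (stage_isPullback f0 a b)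
    (pullback.snd b2 a) pullback.condition.symm (stage_isPullback f0 a b2) θ T hθ2
    (by rw [reassoc_of% hT1, hψ2]) hT2 hfin
    (fun z => w1 (pullback.fst (pullback.fst b f0) (pullback.fst b a) z)) y
  unfold Fint sOpen
  rw [← key]
  refine congrArg (fun F => J _ _ F y) ?_
  funext z
  show w1 (ψ (pullback.fst (pullback.fst b2 f0) (pullback.fst b2 a) z)) =
    w1 (pullback.fst (pullback.fst b f0) (pullback.fst b a) (T z))
  rw [← Scheme.Hom.comp_apply, ← Scheme.Hom.comp_apply, hT1]

end Stage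

end Part2

section Part3
open AlgebraicGeometry CategoryTheory Limits
open Groth.Agent.Lib.H59FibInt Groth.Agent.Lib.H59Weight

section Stage

variable {X0 Y0 Yu P : Scheme.{u}} (f0 : X0 ⟶ Y0) (a : Yu ⟶ Y0) {fstP : P ⟶ X0} {sndP : P ⟶ Yu}
  (H : IsPullback fstP sndP f0 a) (Uu : P.Opens)
variable {Y1 : Scheme.{u}} (b : Y1 ⟶ Y0)

/-- (K) if the stage integral is locally constant then `w1` is a weighting -/
theorem isWeighting_of_isLocallyConstant_Fint (hfin : IsFinite (Uu.ι ≫ sndP))
    (huniv : ∀ (Y' : Scheme.{u}) (b' : Y' ⟶ Y0) (P' : Scheme.{u}) (fst' : P' ⟶ X0)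
        (snd' : P' ⟶ Y') (H' : IsPullback fst' snd' f0 b') (U' : P'.Opens), IsAffine Y' →
        IsFinite (U'.ι ≫ snd') →
        ∃ (c : Y' ⟶ Yu) (hc : c ≫ a = b'),
          (H.lift fst' (snd' ≫ c) (by rw [Category.assoc, hc]; exact H'.w)) ⁻¹ᵁ Uu = U')
    (w1 : ↥(pullback b f0) → ℤ) (hF : IsLocallyConstant (Fint f0 a H Uu b w1)) :
    MoreMor.IsWeighting (pullback.fst b f0) w1 := by
  set f1 := pullback.fst b f0 with hf1
  set q1 := pullback.fst b a with hq1
  intro V g _ U hU
  have hG : MoreMor.fibreIntegral (U.ι ≫ pullback.snd f1 g)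
      (fun u => w1 (pullback.fst f1 g (U.ι u))) =
      J (pullback.snd f1 g) (U : Set _) (fun z => w1 (pullback.fst f1 g z)) := by
    funext v
    exact fibreIntegral_ι_comp U (pullback.snd f1 g) (fun z => w1 (pullback.fst f1 g z)) v
  rw [hG, IsLocallyConstant.iff_exists_open]
  intro v
  obtain ⟨_, ⟨(V' : V.Opens), (hV'aff : IsAffineOpen V'), rfl⟩, hvV', -⟩ :=
    V.isBasis_affineOpens.exists_subset_of_mem_open (Set.mem_univ v) isOpen_univ
  haveI : IsAffine (V' : Scheme.{u}) := hV'aff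
  set g' := V'.ι ≫ g with hg'
  let M : pullback f1 g' ⟶ pullback f1 g :=
    pullback.map f1 g' f1 g (𝟙 _) V'.ι (𝟙 _) (by rw [Category.comp_id, Category.id_comp])
      (by rw [Category.comp_id])
  have hM1 : M ≫ pullback.fst f1 g = pullback.fst f1 g' :=
    (pullback.lift_fst _ _ _).trans (Category.comp_id _)
  have hM2 : M ≫ pullback.snd f1 g = pullback.snd f1 g' ≫ V'.ι := pullback.lift_snd _ _ _
  have hM : IsPullback M (pullback.snd f1 g') (pullback.snd f1 g) V'.ι := by
    refine IsPullback.of_right ?_ hM2 (IsPullback.of_hasPullback f1 g)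
    rw [hM1]
    exact IsPullback.of_hasPullback f1 g'
  have hU' : IsFinite ((M ⁻¹ᵁ U).ι ≫ pullback.snd f1 g') :=
    isFinite_preimage_of_isPullback hM U hU
  have H' : IsPullback (pullback.fst f1 g' ≫ pullback.snd b f0) (pullback.snd f1 g') f0
      (g' ≫ b) :=
    (IsPullback.of_hasPullback f1 g').paste_horiz (IsPullback.of_hasPullback b f0).flip
  obtain ⟨c, hc, hpre⟩ := huniv V' (g' ≫ b) _ _ _ H' (M ⁻¹ᵁ U) inferInstance hU'
  let γ : (V' : Scheme.{u}) ⟶ pullback b a := pullback.lift g' c hc.symm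
  have hγ1 : γ ≫ q1 = g' := pullback.lift_fst _ _ _
  have hγ2 : γ ≫ pullback.snd b a = c := pullback.lift_snd _ _ _
  let T : pullback f1 g' ⟶ pullback f1 q1 :=
    pullback.map f1 g' f1 q1 (𝟙 _) γ (𝟙 _) (by rw [Category.comp_id, Category.id_comp])
      (by rw [Category.comp_id, hγ1])
  have hT1 : T ≫ pullback.fst f1 q1 = pullback.fst f1 g' :=
    (pullback.lift_fst _ _ _).trans (Category.comp_id _)
  have hT2 : T ≫ pullback.snd f1 q1 = pullback.snd f1 g' ≫ γ := pullback.lift_snd _ _ _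
  have key : ∀ ε' : (V' : Scheme.{u}),
      J (pullback.snd f1 g) (U : Set _) (fun z => w1 (pullback.fst f1 g z)) (V'.ι ε') =
        Fint f0 a H Uu b w1 (γ ε') := by
    intro ε'
    have k1 := J_chart_two H Uu (pullback.snd b a) pullback.condition.symm
      (stage_isPullback f0 a b) c hc H' γ T hγ2 (by rw [reassoc_of% hT1]) hT2 hfin
      (fun z => w1 (pullback.fst f1 q1 z)) ε'
    have k2 := J_of_isPullback hM U hU (fun z => w1 (pullback.fst f1 g z)) ε'
    rw [← k2]
    unfold Fint sOpen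
    rw [← k1]
    have hopen : chartOpen H Uu c hc H' = M ⁻¹ᵁ U := hpre
    rw [hopen]
    refine congrArg (fun F => J _ _ F ε') ?_
    funext z
    show w1 (pullback.fst f1 g (M z)) = w1 (pullback.fst f1 q1 (T z))
    rw [← Scheme.Hom.comp_apply, ← Scheme.Hom.comp_apply, hM1, hT1]
  have hlc : IsLocallyConstant (fun ε' : (V' : Scheme.{u}) => Fint f0 a H Uu b w1 (γ ε')) :=
    hF.comp_continuous γ.continuous
  obtain ⟨N', hN'o, hvN', hN'c⟩ := (IsLocallyConstant.iff_exists_open _).1 hlc ⟨v, hvV'⟩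
  refine ⟨V'.ι '' N', V'.ι.isOpenEmbedding.isOpenMap _ hN'o, ⟨⟨v, hvV'⟩, hvN', rfl⟩, ?_⟩
  rintro _ ⟨ε', hε', rfl⟩
  rw [key ε']
  have := hN'c ε' hε'
  rw [this]
  exact (key ⟨v, hvV'⟩).symm

end Stage

end Part3

section Part4
open AlgebraicGeometry CategoryTheory Limits Topology
open Groth.Agent.Lib.H59FibInt Groth.Agent.Lib.H59Weight Groth.Agent.Lib.Weight34

/-- The fibre integral along a preimmersion followed by `p` is the partial fibre integral over
the range. -/
theorem fibreIntegral_preimmersion_comp {Z P V : Scheme.{u}} (j : Z ⟶ P) [IsPreimmersion j]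
    (p : P ⟶ V) (W : P → ℤ) (v : V) :
    MoreMor.fibreIntegral (j ≫ p) (fun u => W (j u)) v = J p (Set.range j) W v := by
  unfold MoreMor.fibreIntegral J
  rw [← finsum_set_coe_eq_finsum_mem]
  have hinj : Function.Injective j := j.isEmbedding.injective
  let E : {u : Z // (j ≫ p) u = v} ≃ ↥{z : P | p z = v ∧ z ∈ Set.range j} :=
    Equiv.ofBijective (fun u => ⟨j u.1, u.2, u.1, rfl⟩) ⟨by
      intro u u' h
      exact Subtype.ext (hinj (congrArg Subtype.val h)), by
      rintro ⟨z, hz, u, rfl⟩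
      exact ⟨⟨u, hz⟩, rfl⟩⟩
  rw [← finsum_comp_equiv E]
  refine finsum_congr fun u => ?_
  change W (j u.1) * _ = W (j u.1) * _
  congr 2
  haveI := isIso_residueFieldMap_of_isPreimmersion j u.1
  exact Groth.Agent.Lib.H59FibInt.sepDeg_comp_of_isIso j p u.1

theorem J_union_add_inter {P V : Scheme.{u}} (p : P ⟶ V) (A B : Set P) (W : P → ℤ) (v : V)
    (hfin : (p ⁻¹' {v}).Finite) :
    J p (A ∪ B) W v + J p (A ∩ B) W v = J p A W v + J p B W v := by
  unfold J
  have hA : {z : P | p z = v ∧ z ∈ A}.Finite := hfin.subset fun z hz => hz.1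
  have hB : {z : P | p z = v ∧ z ∈ B}.Finite := hfin.subset fun z hz => hz.1
  have h1 : {z : P | p z = v ∧ z ∈ A ∪ B} =
      {z : P | p z = v ∧ z ∈ A} ∪ {z : P | p z = v ∧ z ∈ B} := by
    ext z
    simp only [Set.mem_ofPred_eq, Set.mem_union]
    tauto
  have h2 : {z : P | p z = v ∧ z ∈ A ∩ B} =
      {z : P | p z = v ∧ z ∈ A} ∩ {z : P | p z = v ∧ z ∈ B} := by
    ext z
    simp only [Set.mem_ofPred_eq, Set.mem_inter_iff]
    tauto
  rw [h1, h2]
  exact finsum_mem_union_inter hA hB

/-- A function depending only on finitely many patch-locally constant functions is patch-locally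
constant. -/
theorem patchLocConst_of_forall {X : Type*} [TopologicalSpace X] {ι : Type*} [Finite ι]
    (G : ι → X → ℤ) (hG : ∀ i, PatchLocConst (G i)) (F : X → ℤ)
    (hF : ∀ x y, (∀ i, G i y = G i x) → F y = F x) : PatchLocConst F := by
  intro x
  choose K hK hxK hKc using fun i => hG i x
  exact ⟨⋂ i, K i, IsConstructible.iInter hK, Set.mem_iInter.mpr hxK,
    fun y hy => hF x y fun i => hKc i y (Set.mem_iInter.mp hy i)⟩

theorem patchLocConst_of_setOf_eq {X : Type*} [TopologicalSpace X] (F : X → ℤ)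
    (h : ∀ n, IsConstructible {x | F x = n}) : PatchLocConst F :=
  fun x => ⟨{y | F y = F x}, h _, rfl, fun _ hy => hy⟩

theorem exists_finset_range {X : Type*} [TopologicalSpace X]
    [CompactSpace X] [QuasiSober X] [PrespectralSpace X] [QuasiSeparatedSpace X]
    {F : X → ℤ} (hF : PatchLocConst F) : ∃ K : Finset ℤ, ∀ x, F x ∈ K := by
  obtain ⟨s, hs⟩ := Groth.Agent.S1440.exists_finite_subcover_of_isConstructible
    (fun n : ℤ => {x | F x = n}) (fun n => hF.isConstructible_setOf_eq n) (fun x => ⟨F x, rfl⟩)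
  refine ⟨s, fun x => ?_⟩
  obtain ⟨i, his, hi⟩ := hs x
  rw [show F x = i from hi]
  exact his

end Part4

section Part5
open AlgebraicGeometry CategoryTheory Limits Topology
open Groth.Agent.Lib.H59FibInt Groth.Agent.Lib.H59Weight Groth.Agent.Lib.Weight34
open Groth.Agent.Lib.UnivFinOpen6 (D mem_D)

section Base

variable {R : Type u} [CommRing R]

/-- the basic locally closed subsets of `Spec R` -/
def Zs (g : R) (s : Set R) : Set ↥(Spec (CommRingCat.of R)) :=
  ((D g : (Spec (CommRingCat.of R)).Opens) : Set ↥(Spec (CommRingCat.of R))) \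
    ⋃ h ∈ s, ((D h : (Spec (CommRingCat.of R)).Opens) : Set ↥(Spec (CommRingCat.of R)))

theorem mem_Zs (g : R) (s : Set R) (x : ↥(Spec (CommRingCat.of R))) :
    x ∈ Zs g s ↔ g ∉ x.asIdeal ∧ ∀ h ∈ s, h ∈ x.asIdeal := by
  unfold Zs
  simp only [Set.mem_sdiff, Set.mem_iUnion, SetLike.mem_coe, mem_D, not_exists, not_not,
    exists_prop, not_and]

theorem Zs_inter (g g' : R) (s s' : Set R) : Zs g s ∩ Zs g' s' = Zs (g * g') (s ∪ s') := by
  ext x
  simp only [Set.mem_inter_iff, mem_Zs, Set.mem_union]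
  constructor
  · rintro ⟨⟨h1, h2⟩, h3, h4⟩
    refine ⟨fun h => ?_, ?_⟩
    · rcases x.isPrime.mem_or_mem h with h | h
      · exact h1 h
      · exact h3 h
    · rintro h (hh | hh)
      · exact h2 h hh
      · exact h4 h hh
  · rintro ⟨h1, h2⟩
    exact ⟨⟨fun h => h1 (x.asIdeal.mul_mem_right _ h), fun h hh => h2 h (Or.inl hh)⟩,
      fun h => h1 (x.asIdeal.mul_mem_left _ h), fun h hh => h2 h (Or.inr hh)⟩

theorem Zs_one_empty : Zs (1 : R) ∅ = Set.univ := by
  ext x
  simp only [mem_Zs, Set.mem_empty_iff_false, false_imp_iff, implies_true, and_true, Set.mem_univ,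
    iff_true]
  exact fun h => x.isPrime.ne_top ((Ideal.eq_top_iff_one _).mpr h)

variable {V : Scheme.{u}} [IsAffine V] (π : Spec (CommRingCat.of R) ⟶ V) [IsFinite π]
  [LocallyOfFinitePresentation π]

set_option maxHeartbeats 800000 in
theorem patchLocConst_J_Zs (g : R) (s : Set R) (hs : s.Finite) :
    PatchLocConst (J π (Zs g s) (fun _ => 1)) := by
  let I : Ideal R := Ideal.span s
  let ic : Spec (CommRingCat.of (R ⧸ I)) ⟶ Spec (CommRingCat.of R) :=
    Spec.map (CommRingCat.ofHom (Ideal.Quotient.mk I))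
  haveI : IsClosedImmersion ic :=
    IsClosedImmersion.spec_of_surjective _ Ideal.Quotient.mk_surjective
  haveI : LocallyOfFinitePresentation ic := by
    rw [HasRingHomProperty.Spec_iff (P := @LocallyOfFinitePresentation)]
    refine RingHom.FinitePresentation.of_surjective _ Ideal.Quotient.mk_surjective ?_
    rw [CommRingCat.hom_ofHom, Ideal.mk_ker]
    exact ⟨hs.toFinset, by simp [I]⟩
  let Uo : (Spec (CommRingCat.of (R ⧸ I))).Opens := ic ⁻¹ᵁ D g
  let j : (Uo : Scheme.{u}) ⟶ Spec (CommRingCat.of R) := Uo.ι ≫ ic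
  have hrange : Set.range j = Zs g s := by
    ext x
    rw [mem_Zs]
    constructor
    · rintro ⟨u, rfl⟩
      refine ⟨u.2, fun h hh => ?_⟩
      show Ideal.Quotient.mk I h ∈ (Uo.ι u).asIdeal
      rw [Ideal.Quotient.eq_zero_iff_mem.mpr (Ideal.subset_span hh)]
      exact Ideal.zero_mem _
    · rintro ⟨h1, h2⟩
      have hker : RingHom.ker (Ideal.Quotient.mk I) ≤ x.asIdeal := by
        rw [Ideal.mk_ker, Ideal.span_le]
        exact h2
      have hx : x ∈ Set.range (PrimeSpectrum.comap (Ideal.Quotient.mk I)) := by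
        rw [range_comap_of_surjective _ _ Ideal.Quotient.mk_surjective]
        exact hker
      obtain ⟨y, rfl⟩ := hx
      exact ⟨⟨y, h1⟩, rfl⟩
  haveI : IsAffine (Uo : Scheme.{u}) :=
    ((IsAffineOpen.Spec_basicOpen (R := CommRingCat.of R) g).preimage ic : IsAffineOpen Uo)
  have hJ : J π (Zs g s) (fun _ => 1) = MoreMor.fibreIntegral (j ≫ π) (fun _ => 1) := by
    funext v
    rw [← hrange]
    exact (fibreIntegral_preimmersion_comp j π (fun _ => 1) v).symm
  rw [hJ]
  apply patchLocConst_of_setOf_eq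
  intro n
  have hnn : ∀ v, 0 ≤ MoreMor.fibreIntegral (j ≫ π) (fun _ => 1) v :=
    fun v => Groth.Agent.Lib.H59NGeom.fibreIntegral_one_nonneg (j ≫ π) v
  by_cases hn : n < 0
  · have : {v | MoreMor.fibreIntegral (j ≫ π) (fun _ => 1) v = n} = ∅ := by
      ext v
      simp only [Set.mem_ofPred_eq, Set.mem_empty_iff_false, iff_false]
      have := hnn v
      omega
    rw [this]
    exact IsConstructible.empty
  · push Not at hn
    have : {v | MoreMor.fibreIntegral (j ≫ π) (fun _ => 1) v = n} =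
        {v | MoreMor.nGeomConnComp (j ≫ π) v = ((n.toNat : ℕ) : ℕ∞)} := by
      ext v
      simp only [Set.mem_ofPred_eq]
      rw [Groth.Agent.Lib.H59NGeom.nGeomConnComp_eq (j ≫ π) v, Nat.cast_inj]
      have := hnn v
      omega
    rw [this]
    exact (Groth.Agent.S1339.result (j ≫ π) _).isConstructible

end Base

end Part5

section Part6
open AlgebraicGeometry CategoryTheory Limits Topology
open Groth.Agent.Lib.H59FibInt Groth.Agent.Lib.H59Weight Groth.Agent.Lib.Weight34
open Groth.Agent.Lib.UnivFinOpen6 (D mem_D)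

section Ind

variable {R : Type u} [CommRing R]
variable {V : Scheme.{u}} [IsAffine V] (π : Spec (CommRingCat.of R) ⟶ V) [IsFinite π]
  [LocallyOfFinitePresentation π]

/-- the class of subsets all of whose basic locally closed pieces have patch-locally constant
counting function -/
def Cls (F : Set ↥(Spec (CommRingCat.of R))) : Prop :=
  ∀ (g : R) (s : Set R), s.Finite → PatchLocConst (J π (F ∩ Zs g s) (fun _ => 1))

theorem cls_inter_of_isConstructible (E : Set ↥(Spec (CommRingCat.of R)))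
    (hE : IsConstructible E) : ∀ F, Cls π F → Cls π (F ∩ E) := by
  have hfin : ∀ v : V, (π ⁻¹' {v}).Finite := fun v => π.finite_preimage_singleton v
  haveI : CompactSpace ↥(Spec (CommRingCat.of R)) := Scheme.compactSpace_of_isAffine _
  have hbasis : TopologicalSpace.IsTopologicalBasis (Set.range fun r : R =>
      ((D r : (Spec (CommRingCat.of R)).Opens) : Set ↥(Spec (CommRingCat.of R)))) :=
    PrimeSpectrum.isTopologicalBasis_basic_opens
  have hcompact : ∀ r : R, IsCompact
      ((D r : (Spec (CommRingCat.of R)).Opens) : Set ↥(Spec (CommRingCat.of R))) :=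
    fun r => PrimeSpectrum.isCompact_basicOpen r
  refine IsConstructible.induction_of_isTopologicalBasis (X := ↥(Spec (CommRingCat.of R)))
    (P := fun E _ => ∀ F, Cls π F → Cls π (F ∩ E))
    (fun r : R => ((D r : (Spec (CommRingCat.of R)).Opens) : Set ↥(Spec (CommRingCat.of R))))
    hbasis hcompact ?_ ?_ E hE
  · intro g s hs F hF g' s' hs'
    have : (F ∩ (((D g : (Spec (CommRingCat.of R)).Opens) : Set ↥(Spec (CommRingCat.of R))) \
        ⋃ h ∈ s, ((D h : (Spec (CommRingCat.of R)).Opens) : Set ↥(Spec (CommRingCat.of R))))) ∩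
        Zs g' s' = F ∩ Zs (g * g') (s ∪ s') := by
      rw [← Zs_inter, Set.inter_assoc]
      rfl
    rw [this]
    exact hF _ _ (hs.union hs')
  · intro A _ B _ hA hB F hF g s hs
    have h1 := hA F hF g s hs
    have h2 := hB F hF g s hs
    have h12 := hB (F ∩ A) (hA F hF) g s hs
    refine ((h1.add h2).sub h12).congr fun v => ?_
    have hset1 : (F ∩ (A ∪ B)) ∩ Zs g s = ((F ∩ A) ∩ Zs g s) ∪ ((F ∩ B) ∩ Zs g s) := by
      ext x
      simp only [Set.mem_inter_iff, Set.mem_union]
      tauto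
    have hset2 : ((F ∩ A) ∩ B) ∩ Zs g s = ((F ∩ A) ∩ Zs g s) ∩ ((F ∩ B) ∩ Zs g s) := by
      ext x
      simp only [Set.mem_inter_iff]
      tauto
    have := J_union_add_inter π ((F ∩ A) ∩ Zs g s) ((F ∩ B) ∩ Zs g s) (fun _ => 1) v (hfin v)
    rw [hset1, hset2]
    omega

theorem cls_univ : Cls π Set.univ := by
  intro g s hs
  rw [Set.univ_inter]
  exact patchLocConst_J_Zs π g s hs

theorem patchLocConst_J_of_isConstructible (E : Set ↥(Spec (CommRingCat.of R)))
    (hE : IsConstructible E) : PatchLocConst (J π E (fun _ => 1)) := by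
  have := cls_inter_of_isConstructible π E hE Set.univ (cls_univ π) 1 ∅ Set.finite_empty
  rwa [Zs_one_empty, Set.inter_univ, Set.univ_inter] at this

theorem patchLocConst_fibreIntegral_spec (W : ↥(Spec (CommRingCat.of R)) → ℤ)
    (hW : PatchLocConst W) : PatchLocConst (MoreMor.fibreIntegral π W) := by
  have hfin : ∀ v : V, (π ⁻¹' {v}).Finite := fun v => π.finite_preimage_singleton v
  obtain ⟨K, hK⟩ := exists_finset_range hW
  let S : ↥K → Set ↥(Spec (CommRingCat.of R)) := fun k => {x | W x = k}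
  let G : ↥K → ↥V → ℤ := fun k => J π (S k) (fun _ => 1)
  have hG : ∀ k, PatchLocConst (G k) := fun k =>
    patchLocConst_J_of_isConstructible π (S k) (hW.isConstructible_setOf_eq k)
  have hformula : ∀ v, MoreMor.fibreIntegral π W v = ∑ᶠ k : ↥K, (k : ℤ) * G k v := by
    intro v
    rw [fibreIntegral_eq_J_univ]
    have hU : (Set.univ : Set ↥(Spec (CommRingCat.of R))) = ⋃ k, S k := by
      ext x
      simp only [Set.mem_univ, Set.mem_iUnion, true_iff]
      exact ⟨⟨W x, hK x⟩, rfl⟩
    rw [hU, J_iUnion π S W v]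
    · refine finsum_congr fun k => ?_
      rw [J_congr_weight π (S k) W (fun _ => 1 * (k : ℤ)) v (fun z _ hz => by
        rw [one_mul]; exact hz)]
      exact J_mul_const π (S k) (fun _ => 1) (k : ℤ) v
    · intro k k' hkk' z _ hz hz'
      apply hkk'
      apply Subtype.ext
      rw [← (show W z = k from hz), ← (show W z = k' from hz')]
    · intro k
      exact (hfin v).subset fun z hz => hz.1
  refine patchLocConst_of_forall G hG _ fun x y hxy => ?_
  rw [hformula, hformula]
  exact finsum_congr fun k => by rw [hxy k]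

end Ind

/-- (C) partial fibre integrals of patch-locally constant functions over opens finite over an
affine base, for a finitely presented morphism of affine schemes. -/
theorem patchLocConst_J_affine {P V : Scheme.{u}} [IsAffine V] (p : P ⟶ V)
    [LocallyOfFinitePresentation p] (U : P.Opens) (hU : IsFinite (U.ι ≫ p)) (W : P → ℤ)
    (hW : PatchLocConst W) : PatchLocConst (J p (U : Set P) W) := by
  haveI := hU
  haveI : IsAffine (U : Scheme.{u}) := isAffine_of_isAffineHom (U.ι ≫ p)
  let e := (U : Scheme.{u}).isoSpec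
  let π' : Spec (CommRingCat.of Γ((U : Scheme.{u}), ⊤)) ⟶ V := e.inv ≫ U.ι ≫ p
  haveI : IsFinite π' := by dsimp only [π']; infer_instance
  haveI : LocallyOfFinitePresentation π' := by dsimp only [π']; infer_instance
  let W' : ↥(Spec (CommRingCat.of Γ((U : Scheme.{u}), ⊤))) → ℤ := fun z => W (U.ι (e.inv z))
  have hW' : PatchLocConst W' := hW.comp_hom (e.inv ≫ U.ι)
  have h := patchLocConst_fibreIntegral_spec π' W' hW'
  refine h.congr fun v => ?_
  rw [← Groth.Agent.Lib.H59FibInt.fibreIntegral_ι_comp]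
  have h1 := fibreIntegral_iso_comp e.hom π' W' v
  rw [← h1]
  have h2 : e.hom ≫ π' = U.ι ≫ p := by dsimp only [π']; rw [Iso.hom_inv_id_assoc]
  rw [h2]
  refine congrArg (fun F => MoreMor.fibreIntegral (U.ι ≫ p) F v) ?_
  funext z
  show W (U.ι (e.inv (e.hom z))) = W (U.ι z)
  rw [← Scheme.Hom.comp_apply e.hom e.inv, Iso.hom_inv_id]
  rfl

end Part6

section Part7
open AlgebraicGeometry CategoryTheory Limits Topology
open Groth.Agent.Lib.Weight34 Groth.Agent.Lib.LimConstructible

section Descent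

variable {I : Type u} [Category.{u} I] [IsCofiltered I] (D : I ⥤ Scheme.{u}) (c : Cone D)
  (hc : IsLimit c) [∀ {i j : I} (f : i ⟶ j), IsAffineHom (D.map f)]

include hc in
/-- a patch-locally constant function on the limit descends to a stage -/
theorem exists_patchLocConst_descent (i₀ : I) [CompactSpace (D.obj i₀)]
    [QuasiSeparatedSpace (D.obj i₀)] (w : c.pt → ℤ) (hw : PatchLocConst w) :
    ∃ (j : I) (wj : D.obj j → ℤ), PatchLocConst wj ∧ ∀ x, wj (c.π.app j x) = w x := by
  classical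
  have hπaff : ∀ i, IsAffineHom (c.π.app i) := isAffineHom_π_app D c hc
  haveI hcpt : CompactSpace c.pt := QuasiCompact.compactSpace_of_compactSpace (c.π.app i₀)
  haveI hqs : QuasiSeparatedSpace c.pt := quasiSeparatedSpace_of_quasiSeparated (c.π.app i₀)
  obtain ⟨K, hK⟩ := exists_finset_range hw
  have key : ∀ K' : Finset ℤ, ∃ (j : I) (Z : ℤ → Set (D.obj j)), ∀ k ∈ K',
      IsConstructible (Z k) ∧ (c.π.app j) ⁻¹' (Z k) = {x | w x = k} := by
    intro K'
    induction K' using Finset.induction_on with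
    | empty => exact ⟨i₀, fun _ => ∅, fun k hk => absurd hk (Finset.notMem_empty k)⟩
    | insert k0 K' hk0 ih =>
      obtain ⟨j, Z, hZ⟩ := ih
      obtain ⟨j', -, Z0, hZ0, hZ0'⟩ := exists_isConstructible_preimage_eq D c hc i₀
        {x | w x = k0} (hw.isConstructible_setOf_eq k0)
      let g1 : IsCofiltered.min j j' ⟶ j := IsCofiltered.minToLeft j j'
      let g2 : IsCofiltered.min j j' ⟶ j' := IsCofiltered.minToRight j j'
      refine ⟨IsCofiltered.min j j',
        fun k => if k = k0 then (D.map g2) ⁻¹' Z0 else (D.map g1) ⁻¹' (Z k), fun k hk => ?_⟩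
      by_cases hkk : k = k0
      · subst hkk
        simp only [if_true]
        refine ⟨(D.map g2).isConstructible_preimage hZ0, ?_⟩
        rw [← hZ0']
        ext x
        simp only [Set.mem_preimage]
        rw [π_comp_apply]
      · simp only [if_neg hkk]
        have hk' : k ∈ K' := by
          rcases Finset.mem_insert.mp hk with h | h
          · exact absurd h hkk
          · exact h
        obtain ⟨h1, h2⟩ := hZ k hk'
        refine ⟨(D.map g1).isConstructible_preimage h1, ?_⟩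
        rw [← h2]
        ext x
        simp only [Set.mem_preimage]
        rw [π_comp_apply]
  obtain ⟨j, Z, hZ⟩ := key K
  let G : ↥K → D.obj j → ℤ := fun k x => if x ∈ Z k then 1 else 0
  have hG : ∀ k, PatchLocConst (G k) := by
    intro k x
    by_cases hx : x ∈ Z k
    · refine ⟨Z k, (hZ k k.2).1, hx, fun y hy => ?_⟩
      simp only [G, if_pos hx, if_pos hy]
    · refine ⟨(Z k)ᶜ, (hZ k k.2).1.compl, hx, fun y hy => ?_⟩
      simp only [G, if_neg hx, if_neg (show y ∉ Z k from hy)]
  refine ⟨j, fun x => ∑ k : ↥K, (k : ℤ) * G k x, ?_, ?_⟩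
  · refine patchLocConst_of_forall G hG _ fun x y hxy => ?_
    exact Finset.sum_congr rfl fun k _ => by rw [hxy k]
  · intro x
    have hGx : ∀ k : ↥K, G k (c.π.app j x) = if w x = k then 1 else 0 := by
      intro k
      have : (c.π.app j x ∈ Z k) ↔ w x = k := by
        exact Set.ext_iff.mp (hZ k k.2).2 x
      simp only [G, this]
    show ∑ k : ↥K, (k : ℤ) * G k (c.π.app j x) = w x
    rw [Finset.sum_eq_single (⟨w x, hK x⟩ : ↥K)]
    · rw [hGx, if_pos rfl, mul_one]
    · intro k _ hk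
      rw [hGx, if_neg, mul_zero]
      intro h
      exact hk (Subtype.ext h.symm)
    · intro h
      exact absurd (Finset.mem_univ _) h

include hc in
/-- finitely many constructible subsets of a stage with open preimage in the limit have open
preimage at a common later stage -/
theorem exists_isOpen_preimage_finset (j : I) [CompactSpace (D.obj j)] (S : ℤ → Set (D.obj j))
    (N : Finset ℤ) (hS : ∀ n ∈ N, IsConstructible (S n))
    (hopen : ∀ n ∈ N, IsOpen ((c.π.app j) ⁻¹' (S n))) :
    ∃ (j' : I) (φ : j' ⟶ j), ∀ n ∈ N, IsOpen ((D.map φ) ⁻¹' (S n)) := by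
  classical
  revert hS hopen
  induction N using Finset.induction_on with
  | empty => exact fun _ _ => ⟨j, 𝟙 j, fun n hn => absurd hn (Finset.notMem_empty n)⟩
  | insert n0 N' hn0 ih =>
    intro hS hopen
    obtain ⟨j', φ', h'⟩ := ih (fun n hn => hS n (Finset.mem_insert_of_mem hn))
      (fun n hn => hopen n (Finset.mem_insert_of_mem hn))
    obtain ⟨j'', φ'', h''⟩ := (isOpen_preimage_iff D c hc j (S n0)
      (hS n0 (Finset.mem_insert_self _ _))).mp (hopen n0 (Finset.mem_insert_self _ _))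
    obtain ⟨k, g, g', e⟩ := IsCofiltered.cospan φ' φ''
    refine ⟨k, g ≫ φ', fun n hn => ?_⟩
    by_cases hnn : n = n0
    · subst hnn
      have : (D.map (g ≫ φ')) ⁻¹' (S n) = (D.map g') ⁻¹' ((D.map φ'') ⁻¹' (S n)) := by
        ext x
        simp only [Set.mem_preimage]
        rw [e, map_comp_apply]
      rw [this]
      exact h''.preimage (D.map g').continuous
    · have hn' : n ∈ N' := by
        rcases Finset.mem_insert.mp hn with h | h
        · exact absurd h hnn
        · exact h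
      have : (D.map (g ≫ φ')) ⁻¹' (S n) = (D.map g) ⁻¹' ((D.map φ') ⁻¹' (S n)) := by
        ext x
        simp only [Set.mem_preimage]
        rw [map_comp_apply]
      rw [this]
      exact (h' n hn').preimage (D.map g).continuous

end Descent

end Part7

section Part8
open AlgebraicGeometry CategoryTheory Limits Topology
open Groth.Agent.Lib.H59FibInt Groth.Agent.Lib.H59Weight Groth.Agent.Lib.Weight34
open Groth.Agent.Lib.LimConstructible Groth.Agent.Lib.LimBaseChange

set_option maxHeartbeats 1600000 in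
theorem main {I : Type u} [SmallCategory I] [IsCofiltered I]
    (D : I ⥤ Scheme.{u}) (c : Limits.Cone D) (hc : Limits.IsLimit c) [∀ i, IsAffine (D.obj i)]
    (i0 : I) {X0 X : Scheme.{u}} [IsAffine X0] (f0 : X0 ⟶ D.obj i0) [LocallyQuasiFinite f0]
    [LocallyOfFinitePresentation f0]
    (f : X ⟶ c.pt) (pX : X ⟶ X0) (hX : IsPullback pX f f0 (c.π.app i0))
    (w : X → ℤ) (hw : MoreMor.IsWeighting f w) :
    ∃ (i : I) (a : i ⟶ i0) (Xi : Scheme.{u}) (fi : Xi ⟶ D.obj i) (pXi : Xi ⟶ X0) (g : X ⟶ Xi)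
      (wi : Xi → ℤ),
      IsPullback pXi fi f0 (D.map a) ∧ g ≫ fi = f ≫ c.π.app i ∧ g ≫ pXi = pX ∧
      MoreMor.IsWeighting fi wi ∧ ∀ x : X, wi (g x) = w x := by
  haveI hAff : ∀ {i j : I} (φ : i ⟶ j), IsAffineHom (D.map φ) := fun φ => inferInstance
  haveI hcaff : IsAffine c.pt := Scheme.isAffine_of_isLimit c hc
  haveI hcaff' : ∀ i, IsAffine (((Functor.const I).obj c.pt).obj i) := fun _ => hcaff
  obtain ⟨Yu, a, P, fstP, sndP, H, Uu, hYu, ha1, ha2, ha3, hfin, huniv⟩ := main_Q' f0
  haveI := hYu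
  -- the isomorphism with the standard fibre product
  let eX : X ≅ pullback (c.π.app i0) f0 := hX.flip.isoPullback
  have heX1 : eX.hom ≫ pullback.fst (c.π.app i0) f0 = f := hX.flip.isoPullback_hom_fst
  have heX2 : eX.hom ≫ pullback.snd (c.π.app i0) f0 = pX := hX.flip.isoPullback_hom_snd
  haveI : LocallyQuasiFinite f := MorphismProperty.of_isPullback (P := @LocallyQuasiFinite) hX
    inferInstance
  haveI : LocallyOfFiniteType f := MorphismProperty.of_isPullback (P := @LocallyOfFiniteType) hX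
    inferInstance
  let wL : ↥(pullback (c.π.app i0) f0) → ℤ := fun x => w (eX.inv x)
  have hwL : MoreMor.IsWeighting (pullback.fst (c.π.app i0) f0) wL := by
    have hsq : IsPullback eX.inv (pullback.fst (c.π.app i0) f0) f (𝟙 c.pt) :=
      @IsPullback.of_horiz_isIso _ _ _ _ _ _ _ _ _ _ inferInstance (IsIso.id c.pt)
        ⟨((Iso.inv_comp_eq _).mpr heX1.symm).trans (Category.comp_id _).symm⟩
    exact Groth.Agent.S1419.result f w hw (pullback.fst (c.π.app i0) f0) eX.inv (𝟙 c.pt) hsq
  have hwLplc : PatchLocConst wL := patchLocConst_of_setOf_eq wL fun n =>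
    (Groth.Agent.S1423.result (pullback.fst (c.π.app i0) f0) wL hwL n).isConstructible
  -- descend the weight
  haveI hXaff : ∀ j, IsAffine ((bcDiagram D i0 f0).obj j) := fun j =>
    inferInstanceAs (IsAffine (pullback (D.map j.hom) f0))
  haveI hYaff : ∀ j, IsAffine ((bcDiagram D i0 a).obj j) := fun j =>
    inferInstanceAs (IsAffine (pullback (D.map j.hom) a))
  obtain ⟨j1, w1, hw1, hw1'⟩ := exists_patchLocConst_descent (bcDiagram D i0 f0)
    (bcCone D c i0 f0) (isLimitBcCone D c hc i0 f0) (Over.mk (𝟙 i0)) wL hwLplc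
  -- the stage integral at `j1`
  have hF1 : PatchLocConst (Fint f0 a H Uu (D.map j1.hom) w1) :=
    patchLocConst_J_affine _ (sOpen f0 a H Uu (D.map j1.hom))
      (isFinite_sOpen f0 a H Uu (D.map j1.hom) hfin) _
      (hw1.comp_hom (pullback.fst (pullback.fst (D.map j1.hom) f0) (pullback.fst (D.map j1.hom) a)))
  obtain ⟨N, hN⟩ := exists_finset_range hF1
  have hFL : IsLocallyConstant (Fint f0 a H Uu (c.π.app i0) wL) :=
    isLocallyConstant_Fint f0 a H Uu (c.π.app i0) hfin wL hwL
  have hlim : ∀ y : ↥(pullback (c.π.app i0) a), Fint f0 a H Uu (c.π.app i0) wL y =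
      Fint f0 a H Uu (D.map j1.hom) w1 ((bcCone D c i0 a).π.app j1 y) := by
    intro y
    have h := Fint_comp f0 a H Uu (D.map j1.hom) hfin (c.π.app i0) (c.π.app j1.left)
      (c.w j1.hom) w1 y
    refine Eq.trans ?_ h
    refine congrArg (fun W => Fint f0 a H Uu (c.π.app i0) W y) ?_
    funext x
    exact (hw1' x).symm
  obtain ⟨j2, ψ, hj2⟩ := exists_isOpen_preimage_finset (bcDiagram D i0 a) (bcCone D c i0 a)
    (isLimitBcCone D c hc i0 a) j1 (fun n => {y | Fint f0 a H Uu (D.map j1.hom) w1 y = n}) N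
    (fun n _ => hF1.isConstructible_setOf_eq n) (fun n _ => by
      have heq : ((bcCone D c i0 a).π.app j1) ⁻¹' {y | Fint f0 a H Uu (D.map j1.hom) w1 y = n} =
          (Fint f0 a H Uu (c.π.app i0) wL) ⁻¹' {n} :=
        Set.ext fun y => ⟨fun h => (hlim y).trans h, fun h => (hlim y).symm.trans h⟩
      rw [heq]
      exact hFL.isOpen_fiber n)
  -- the stage `j2`
  let πX : ∀ j : Over i0, pullback (c.π.app i0) f0 ⟶ pullback (D.map j.hom) f0 :=
    fun j => (bcCone D c i0 f0).π.app j
  have hπX1 : ∀ j : Over i0, πX j ≫ pullback.fst (D.map j.hom) f0 =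
      pullback.fst (c.π.app i0) f0 ≫ c.π.app j.left := fun j => pullback.lift_fst _ _ _
  have hπX2 : ∀ j : Over i0, πX j ≫ pullback.snd (D.map j.hom) f0 =
      pullback.snd (c.π.app i0) f0 := fun j => (pullback.lift_snd _ _ _).trans (Category.comp_id _)
  let μX : pullback (D.map j2.hom) f0 ⟶ pullback (D.map j1.hom) f0 := (bcDiagram D i0 f0).map ψ
  have hμX : πX j2 ≫ μX = πX j1 := (bcCone D c i0 f0).w ψ
  let w2 : ↥(pullback (D.map j2.hom) f0) → ℤ := fun x => w1 (μX x)
  have hstage : ∀ y : ↥(pullback (D.map j2.hom) a), Fint f0 a H Uu (D.map j2.hom) w2 y =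
      Fint f0 a H Uu (D.map j1.hom) w1 ((bcDiagram D i0 a).map ψ y) :=
    fun y => Fint_comp f0 a H Uu (D.map j1.hom) hfin (D.map j2.hom) (D.map ψ.left)
      (by rw [← D.map_comp, Over.w]) w1 y
  have hF2 : IsLocallyConstant (Fint f0 a H Uu (D.map j2.hom) w2) := by
    rw [IsLocallyConstant.iff_isOpen_fiber]
    intro n
    by_cases hn : n ∈ N
    · have heq : (Fint f0 a H Uu (D.map j2.hom) w2) ⁻¹' {n} = ((bcDiagram D i0 a).map ψ) ⁻¹'
          {y | Fint f0 a H Uu (D.map j1.hom) w1 y = n} :=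
        Set.ext fun y => ⟨fun h => (hstage y).symm.trans h, fun h => (hstage y).trans h⟩
      rw [heq]
      exact hj2 n hn
    · have heq : (Fint f0 a H Uu (D.map j2.hom) w2) ⁻¹' {n} = ∅ :=
        Set.eq_empty_iff_forall_notMem.mpr fun y hy => hn (by
          have h3 : Fint f0 a H Uu (D.map j1.hom) w1 ((bcDiagram D i0 a).map ψ y) = n :=
            (hstage y).symm.trans hy
          exact h3 ▸ hN _)
      rw [heq]
      exact isOpen_empty
  have hw2 : MoreMor.IsWeighting (pullback.fst (D.map j2.hom) f0) w2 :=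
    isWeighting_of_isLocallyConstant_Fint f0 a H Uu (D.map j2.hom) hfin huniv w2 hF2
  refine ⟨j2.left, j2.hom, pullback (D.map j2.hom) f0, pullback.fst _ _, pullback.snd _ _,
    eX.hom ≫ πX j2, w2, (IsPullback.of_hasPullback _ _).flip, ?_, ?_, hw2, ?_⟩
  · rw [Category.assoc, hπX1, reassoc_of% heX1]
  · rw [Category.assoc, hπX2, heX2]
  · intro x
    show w1 (μX ((eX.hom ≫ πX j2) x)) = w x
    have h1 : μX ((eX.hom ≫ πX j2) x) = πX j1 (eX.hom x) := by
      rw [← hμX, Scheme.Hom.comp_apply, Scheme.Hom.comp_apply]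
    rw [h1]
    have h2 : w1 (πX j1 (eX.hom x)) = wL (eX.hom x) := hw1' (eX.hom x)
    rw [h2]
    show w (eX.inv (eX.hom x)) = w x
    rw [← Scheme.Hom.comp_apply, Iso.hom_inv_id]
    rfl

end Part8

end Groth.Agent.Lib.WeightLimit6
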