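/-
helper6: the maximum locus of the fibre integral of a positive weighting of a quasi-finite finitely
presented morphism of affine schemes is affine (S1429).

* `isAffineOpen_of_etale_local`: an open of an affine scheme which is affine étale-locally is affine
  (fpqc descent of affine morphisms).
* `Core d`, `local_step`, `core`: the Noetherian case by induction on the maximum `d` (plan of
  helper59): `f⁻¹(Y_d)` is the maximum locus of `pr₂ : X ×_Y X → X`; étale-locally on `X` the
  finite part carries a constant positive integral, so the induction hypothesis applies to the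
  complement; then `f⁻¹(Y_d) → Y_d` is finite surjective (S1428) and Chevalley (S0021) applies.
* `reduce`: reduction of a cofiltered limit of Noetherian affine schemes to a stage, using the
  descent of weightings (S7192, `WeightLimit6.main`), of finitely presented morphisms
  (`DescFP.exists_model_with_prop`) and of quasi-finiteness.
* `main`: the statement of S1429.
-/
import Groth.Agent.Lib.WeightLimit6
import Groth.Agent.Lib.FpqcDescent
import Groth.Agent.Lib.Weight34E
import Groth.Agent.Lib.H77ConsMorTools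
import Groth.Agent.Lib.DescFPSpread
import Groth.Agent.Lib.ConsPairGeomInst
import Groth.Agent.Lib.FGSubalgLimitU
import Groth.Agent.S1424
import Groth.Agent.S1428
import Groth.Agent.S0021

set_option autoImplicit false
set_option linter.style.haveILetI false
universe u

namespace Groth.Agent.Lib.WeightMaxAffine6

section Part0
open AlgebraicGeometry CategoryTheory Limits MorphismProperty

set_option backward.isDefEq.respectTransparency false in
/-- An open of an affine scheme which becomes affine on an étale covering is affine. -/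
theorem isAffineOpen_of_etale_local {X : Scheme.{u}} [IsAffine X] (V : X.Opens)
    (h : ∀ x : X, ∃ (N : Scheme.{u}) (g : N ⟶ X), IsAffine N ∧ Etale g ∧ x ∈ Set.range g ∧
      IsAffineOpen (g ⁻¹ᵁ V)) : IsAffineOpen V := by
  suffices hV : IsAffineHom V.ι from isAffine_of_isAffineHom V.ι
  choose N g hN hg hx hV using h
  let O : X → X.Opens := fun x =>
    ⟨Set.range (g x), (haveI := hg x; Groth.Agent.Lib.Weight34.isOpenMap_of_etale (g x)).isOpen_range⟩
  have hO : iSup O = ⊤ := by
    rw [eq_top_iff]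
    intro x _
    exact TopologicalSpace.Opens.mem_iSup.mpr ⟨x, hx x⟩
  refine IsZariskiLocalAtTarget.of_iSup_eq_top (P := @IsAffineHom) O hO fun x => ?_
  haveI := hN x
  haveI := hg x
  have hsub : Set.range (g x) ⊆ Set.range (O x).ι := by
    rw [Scheme.Opens.range_ι]
    exact subset_rfl
  let γ : N x ⟶ (O x : Scheme.{u}) := IsOpenImmersion.lift (O x).ι (g x) hsub
  have hγ : γ ≫ (O x).ι = g x := IsOpenImmersion.lift_fac _ _ _
  have hγflat : Flat γ := by
    have : Flat (γ ≫ (O x).ι) := by rw [hγ]; infer_instance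
    exact MorphismProperty.of_postcomp (W := @Flat) (W' := @IsOpenImmersion) γ (O x).ι
      inferInstance this
  have hγsurj : Surjective γ := by
    refine ⟨fun o => ?_⟩
    obtain ⟨n, hn⟩ := o.2
    refine ⟨n, ?_⟩
    apply (O x).ι.isOpenEmbedding.injective
    rw [← Scheme.Hom.comp_apply, hγ]
    exact hn
  haveI : QuasiSeparatedSpace ↥(O x : Scheme.{u}) :=
    (O x).ι.isOpenEmbedding.quasiSeparatedSpace
  have hγqc : QuasiCompact γ := quasiCompact_of_compactSpace γ
  have hQ : (@Surjective ⊓ @Flat ⊓ @QuasiCompact : MorphismProperty Scheme.{u}) γ :=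
    ⟨⟨hγsurj, hγflat⟩, hγqc⟩
  refine MorphismProperty.of_pullback_fst_of_descendsAlong (P := @IsAffineHom)
    (Q := (@Surjective ⊓ @Flat ⊓ @QuasiCompact : MorphismProperty Scheme.{u}))
    (f := γ) (g := V.ι ∣_ O x) hQ ?_
  -- the base change is an open immersion onto an affine open
  have hrange : (pullback.fst γ (V.ι ∣_ O x)).opensRange = g x ⁻¹ᵁ V := by
    ext n
    show n ∈ Set.range (pullback.fst γ (V.ι ∣_ O x)) ↔ g x n ∈ V
    rw [Scheme.Pullback.range_fst]
    constructor
    · rintro ⟨z, hz⟩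
      have h1 : (O x).ι ((V.ι ∣_ O x) z) = g x n := by
        rw [hz, ← Scheme.Hom.comp_apply, hγ]
      rw [← Scheme.Hom.comp_apply, morphismRestrict_ι, Scheme.Hom.comp_apply] at h1
      rw [← h1]
      exact (V.ι ⁻¹ᵁ O x).ι z |>.2
    · intro hn
      have hnO : g x n ∈ O x := ⟨n, rfl⟩
      refine ⟨⟨⟨g x n, hn⟩, hnO⟩, ?_⟩
      apply (O x).ι.isOpenEmbedding.injective
      rw [← Scheme.Hom.comp_apply, morphismRestrict_ι, ← Scheme.Hom.comp_apply, hγ]
      rfl
  have haff : IsAffineOpen (pullback.fst γ (V.ι ∣_ O x)).opensRange := hrange ▸ hV x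
  haveI : IsAffine (pullback γ (V.ι ∣_ O x)) :=
    haveI : IsAffine ((pullback.fst γ (V.ι ∣_ O x)).opensRange : Scheme.{u}) := haff
    IsAffine.of_isIso (pullback.fst γ (V.ι ∣_ O x)).isoOpensRange.hom
  infer_instance

end Part0

section Part1
open Groth.Agent.Lib.WeightLimit6 (J_union_add_inter patchLocConst_of_forall patchLocConst_of_setOf_eq)
open AlgebraicGeometry CategoryTheory Limits MorphismProperty
open Groth.Agent.Lib.H59FibInt Groth.Agent.Lib.H59Weight

/-- nonnegativity of the fibre integral of a positive function -/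
theorem fibreIntegral_nonneg {X Y : Scheme.{u}} (f : X ⟶ Y) (w : X → ℤ) (hpos : ∀ x, 0 < w x)
    (y : Y) : 0 ≤ MoreMor.fibreIntegral f w y := by
  unfold MoreMor.fibreIntegral
  exact finsum_nonneg fun u => mul_nonneg (hpos _).le (Int.natCast_nonneg _)

/-- a point of the fibre contributes at least its weight -/
theorem le_fibreIntegral {X Y : Scheme.{u}} (f : X ⟶ Y) [LocallyQuasiFinite f]
    (w : X → ℤ) (hpos : ∀ x, 0 < w x) (x : X) (hfin : (f ⁻¹' {f x}).Finite) :
    w x ≤ MoreMor.fibreIntegral f w (f x) := by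
  rw [fibreIntegral_eq_J_univ]
  have hfin' : {z : X | f z = f x ∧ z ∈ Set.univ}.Finite := hfin.subset fun z hz => hz.1
  have h1 : J f {x} w (f x) ≤ J f Set.univ w (f x) :=
    J_mono f w (f x) (fun z => (hpos z).le) (fun _ _ _ => Set.mem_univ _) hfin'
  have h2 : J f {x} w (f x) = w x * (sepDeg f x : ℤ) :=
    J_singleton f w (f x) x fun z => ⟨fun hz => hz.2, fun hz => ⟨hz ▸ rfl, hz⟩⟩
  have h3 : (1 : ℤ) ≤ (sepDeg f x : ℤ) := by exact_mod_cast sepDeg_pos f x
  have h4 : w x ≤ w x * (sepDeg f x : ℤ) := le_mul_of_one_le_right (hpos x).le h3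
  omega

/-- a point with nonzero fibre integral has nonempty fibre -/
theorem exists_of_fibreIntegral_ne_zero {X Y : Scheme.{u}} (f : X ⟶ Y) (w : X → ℤ) (y : Y)
    (h : MoreMor.fibreIntegral f w y ≠ 0) : ∃ x, f x = y := by
  by_contra hcon
  apply h
  unfold MoreMor.fibreIntegral
  haveI : IsEmpty {u : X // f u = y} := ⟨fun u => hcon ⟨u.1, u.2⟩⟩
  exact finsum_of_isEmpty _

/-- the statement proved by induction on `d` -/
def Core (d : ℕ) : Prop :=
  ∀ {X Y : Scheme.{u}} [IsAffine X] [IsAffine Y] [IsNoetherian Y] (f : X ⟶ Y)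
    [LocallyQuasiFinite f] [LocallyOfFiniteType f] (w : X → ℤ), MoreMor.IsWeighting f w →
    (∀ x, 0 < w x) → (∀ y : Y, MoreMor.fibreIntegral f w y ≤ (d : ℤ)) →
    ∃ hYd : IsOpen {y : Y | MoreMor.fibreIntegral f w y = (d : ℤ)},
      IsAffineOpen (⟨{y : Y | MoreMor.fibreIntegral f w y = (d : ℤ)}, hYd⟩ : Y.Opens)

set_option maxHeartbeats 1600000 in
theorem local_step (d : ℕ) (IH : ∀ d' < d, Core.{u} d')
    {X Y : Scheme.{u}} [IsAffine X] [IsAffine Y] [IsNoetherian Y] (f : X ⟶ Y)
    [LocallyQuasiFinite f] [LocallyOfFiniteType f] (w : X → ℤ) (hw : MoreMor.IsWeighting f w)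
    (hpos : ∀ x, 0 < w x) (hmax : ∀ y : Y, MoreMor.fibreIntegral f w y ≤ (d : ℤ))
    (V : X.Opens) (hV : ∀ x, x ∈ V ↔ MoreMor.fibreIntegral f w (f x) = (d : ℤ)) (x0 : X) :
    ∃ (N : Scheme.{u}) (g : N ⟶ X), IsAffine N ∧ Etale g ∧ x0 ∈ Set.range g ∧
      IsAffineOpen (g ⁻¹ᵁ V) := by
  have hfin : ∀ y : Y, (f ⁻¹' {y}).Finite := fun y => f.finite_preimage_singleton y
  have hXnoeth : IsLocallyNoetherian X := LocallyOfFiniteType.isLocallyNoetherian f
  obtain ⟨p, hp⟩ : ∃ p, p = pullback.snd f f := ⟨_, rfl⟩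
  obtain ⟨h, hh⟩ : ∃ h, h = pullback.fst f f := ⟨_, rfl⟩
  have hsq : IsPullback h p f f := by rw [hp, hh]; exact IsPullback.of_hasPullback f f
  haveI : LocallyQuasiFinite p := MorphismProperty.of_isPullback hsq inferInstance
  haveI : LocallyOfFiniteType p := MorphismProperty.of_isPullback hsq inferInstance
  haveI : IsAffineHom p := MorphismProperty.of_isPullback hsq inferInstance
  let w' : ↥(pullback f f) → ℤ := fun z => w (h z)
  have hw' : MoreMor.IsWeighting p w' := Groth.Agent.S1419.result f w hw p h f hsq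
  have hw'pos : ∀ z, 0 < w' z := fun z => hpos _
  have hp_int : ∀ x, MoreMor.fibreIntegral p w' x = MoreMor.fibreIntegral f w (f x) :=
    fun x => Groth.Agent.S1418.result f hfin p h f hsq w x
  have hfinp : ∀ x : X, (p ⁻¹' {x}).Finite := fun x => p.finite_preimage_singleton x
  obtain ⟨E, e, ε, N, he, heε, hN, hεN, U, hU, hconst⟩ := exists_etale_const p hfinp w' hw' x0
  obtain ⟨c, hc⟩ : ∃ c, c = MoreMor.fibreIntegral p w' x0 := ⟨_, rfl⟩
  rw [← hc] at hconst
  have hc1 : 1 ≤ c := by
    rw [hc, hp_int]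
    have := le_fibreIntegral f w hpos x0 (hfin _)
    have := hpos x0
    omega
  have hcd : c ≤ (d : ℤ) := by rw [hc, hp_int]; exact hmax _
  -- an affine neighbourhood inside `N`
  obtain ⟨_, ⟨(N' : E.Opens), (hN'aff : IsAffineOpen N'), rfl⟩, hεN', hN'N⟩ :=
    E.isBasis_affineOpens.exists_subset_of_mem_open hεN hN
  haveI : IsAffine (N' : Scheme.{u}) := hN'aff
  let g : (N' : Scheme.{u}) ⟶ X := N'.ι ≫ e
  haveI : Etale g := by dsimp only [g]; infer_instance
  haveI : IsNoetherian (N' : Scheme.{u}) := { __ := LocallyOfFiniteType.isLocallyNoetherian g }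
  -- base change to `N'`
  let M : pullback p g ⟶ pullback p e :=
    pullback.map p g p e (𝟙 _) N'.ι (𝟙 _) (by rw [Category.comp_id, Category.id_comp])
      (by rw [Category.comp_id])
  have hM1 : M ≫ pullback.fst p e = pullback.fst p g :=
    (pullback.lift_fst _ _ _).trans (Category.comp_id _)
  have hM2 : M ≫ pullback.snd p e = pullback.snd p g ≫ N'.ι := pullback.lift_snd _ _ _
  have hM : IsPullback M (pullback.snd p g) (pullback.snd p e) N'.ι := by
    refine IsPullback.of_right ?_ hM2 (IsPullback.of_hasPullback p e)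
    rw [hM1]
    exact IsPullback.of_hasPullback p g
  let U' : (pullback p g).Opens := M ⁻¹ᵁ U
  have hU' : IsFinite (U'.ι ≫ pullback.snd p g) := isFinite_preimage_of_isPullback hM U hU
  have hconst' : ∀ ε' : (N' : Scheme.{u}),
      J (pullback.snd p g) (U' : Set ↑(pullback p g)) (fun z => w' (pullback.fst p g z)) ε' = c := by
    intro ε'
    have h1 := J_of_isPullback hM U hU (fun z => w' (pullback.fst p e z)) ε'
    have h0 : J (pullback.snd p e) (U : Set ↑(pullback p e))
        (fun z => w' (pullback.fst p e z)) (N'.ι ε') = c := hconst (N'.ι ε') (hN'N ε'.2)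
    rw [h0] at h1
    rw [← h1]
    refine congrArg (fun F => J _ _ F ε') ?_
    funext z
    show w' (pullback.fst p g z) = w' (pullback.fst p e (M z))
    rw [← Scheme.Hom.comp_apply, hM1]
  -- the complement
  have hU'c : IsClosed (U' : Set ↑(pullback p g)) :=
    Groth.Agent.Lib.EtLocQF.isClosed_of_isFinite_of_isSeparated p g U' hU'
  let W : (pullback p g).Opens := ⟨(U' : Set ↑(pullback p g))ᶜ, hU'c.isOpen_compl⟩
  have hWc : IsClosed (W : Set ↑(pullback p g)) := U'.isOpen.isClosed_compl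
  haveI : IsClosedImmersion W.ι := by
    apply IsClosedImmersion.of_isPreimmersion
    rw [Scheme.Opens.range_ι]
    exact hWc
  haveI : IsAffine (W : Scheme.{u}) := isAffine_of_isAffineHom W.ι
  let π : (W : Scheme.{u}) ⟶ (N' : Scheme.{u}) := W.ι ≫ pullback.snd p g
  let ω : ↥(W : Scheme.{u}) → ℤ := fun z => w' (pullback.fst p g (W.ι z))
  have hω : MoreMor.IsWeighting π ω :=
    Groth.Agent.Lib.Weight34.isWeighting_comp_openImmersion W.ι (pullback.snd p g) _
      (Groth.Agent.S1419.result p w' hw' (pullback.snd p g) (pullback.fst p g) g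
        (IsPullback.of_hasPullback p g))
  have hωpos : ∀ z, 0 < ω z := fun z => hpos _
  have hπint : ∀ ε' : (N' : Scheme.{u}),
      MoreMor.fibreIntegral π ω ε' = MoreMor.fibreIntegral f w (f (g ε')) - c := by
    intro ε'
    have h1 : MoreMor.fibreIntegral π ω ε' =
        J (pullback.snd p g) (W : Set ↑(pullback p g)) (fun z => w' (pullback.fst p g z)) ε' :=
      fibreIntegral_ι_comp W (pullback.snd p g) (fun z => w' (pullback.fst p g z)) ε'
    have hfib : ((pullback.snd p g) ⁻¹' {ε'}).Finite :=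
      finite_fibre_of_isPullback (IsPullback.of_hasPullback p g) ε' (hfinp (g ε'))
    have h2 := J_union_add_inter (pullback.snd p g) (U' : Set ↑(pullback p g))
      (W : Set ↑(pullback p g)) (fun z => w' (pullback.fst p g z)) ε' hfib
    have h3 : (U' : Set ↑(pullback p g)) ∪ (W : Set ↑(pullback p g)) = Set.univ :=
      Set.union_compl_self _
    have h4 : J (pullback.snd p g) ((U' : Set ↑(pullback p g)) ∩ (W : Set ↑(pullback p g)))
        (fun z => w' (pullback.fst p g z)) ε' = 0 :=
      J_empty _ _ _ fun z _ hz => hz.2 hz.1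
    have h5 := fibreIntegral_eq_J_pullback p hfinp w' g ε'
    rw [h3, h4, hconst' ε', ← h5, hp_int] at h2
    rw [h1]
    omega
  -- induction hypothesis
  have hcnat : c.toNat ≤ d := by omega
  have hlt : d - c.toNat < d := by omega
  have hcast : ((d - c.toNat : ℕ) : ℤ) = (d : ℤ) - c := by omega
  obtain ⟨hopen, haff⟩ := IH (d - c.toNat) hlt π ω hω hωpos (fun ε' => by
    rw [hπint, hcast]
    have := hmax (f (g ε'))
    omega)
  refine ⟨(N' : Scheme.{u}), g, inferInstance, inferInstance, ⟨⟨ε, hεN'⟩, heε⟩, ?_⟩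
  have hopens : g ⁻¹ᵁ V = (⟨{ε' : (N' : Scheme.{u}) | MoreMor.fibreIntegral π ω ε' =
      ((d - c.toNat : ℕ) : ℤ)}, hopen⟩ : (N' : Scheme.{u}).Opens) := by
    ext ε'
    show g ε' ∈ V ↔ MoreMor.fibreIntegral π ω ε' = ((d - c.toNat : ℕ) : ℤ)
    rw [hV, hπint, hcast]
    omega
  rw [hopens]
  exact haff

end Part1

section Part2
open AlgebraicGeometry CategoryTheory Limits MorphismProperty
open Groth.Agent.Lib.H59FibInt Groth.Agent.Lib.H59Weight

set_option maxHeartbeats 800000 in
theorem core (d : ℕ) : Core.{u} d := by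
  induction d using Nat.strong_induction_on with
  | _ d IH =>
  intro X Y _ _ _ f _ _ w hw hpos hmax
  have hfin : ∀ y : Y, (f ⁻¹' {y}).Finite := fun y => f.finite_preimage_singleton y
  by_cases hatt : ∃ y : Y, MoreMor.fibreIntegral f w y = (d : ℤ)
  swap
  · have hempty : {y : Y | MoreMor.fibreIntegral f w y = (d : ℤ)} = ∅ :=
      Set.eq_empty_iff_forall_notMem.mpr fun y hy => hatt ⟨y, hy⟩
    have hopen : IsOpen {y : Y | MoreMor.fibreIntegral f w y = (d : ℤ)} := hempty ▸ isOpen_empty
    refine ⟨hopen, ?_⟩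
    have : (⟨{y : Y | MoreMor.fibreIntegral f w y = (d : ℤ)}, hopen⟩ : Y.Opens) = ⊥ :=
      TopologicalSpace.Opens.ext hempty
    rw [this]
    exact isAffineOpen_bot Y
  obtain ⟨hYd, hfinite⟩ := Groth.Agent.S1428.result f hfin w hw hpos (d : ℤ) hmax hatt
  refine ⟨hYd, ?_⟩
  rcases Nat.eq_zero_or_pos d with hd0 | hdpos
  · -- `d = 0`: the locus is everything
    have : (⟨{y : Y | MoreMor.fibreIntegral f w y = (d : ℤ)}, hYd⟩ : Y.Opens) = ⊤ := by
      ext y
      simp only [TopologicalSpace.Opens.coe_mk, Set.mem_ofPred_eq, TopologicalSpace.Opens.coe_top,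
        Set.mem_univ, iff_true]
      have h1 := hmax y
      have h2 := fibreIntegral_nonneg f w hpos y
      omega
    rw [this]
    exact isAffineOpen_top Y
  · obtain ⟨Yd, hYd'⟩ : ∃ Yd : Y.Opens,
        Yd = (⟨{y : Y | MoreMor.fibreIntegral f w y = (d : ℤ)}, hYd⟩ : Y.Opens) := ⟨_, rfl⟩
    rw [← hYd'] at hfinite ⊢
    have hmem : ∀ y, y ∈ Yd ↔ MoreMor.fibreIntegral f w y = (d : ℤ) := by
      intro y; rw [hYd']; rfl
    have hXd : IsAffineOpen (f ⁻¹ᵁ Yd) :=
      isAffineOpen_of_etale_local _ fun x0 =>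
        local_step d IH f w hw hpos hmax (f ⁻¹ᵁ Yd) (fun x => hmem (f x)) x0
    haveI : IsAffine ((f ⁻¹ᵁ Yd : X.Opens) : Scheme.{u}) := hXd
    haveI : IsFinite (f ∣_ Yd) := hfinite
    haveI : Surjective (f ∣_ Yd) := by
      refine ⟨fun y => ?_⟩
      have hy : MoreMor.fibreIntegral f w y.1 = (d : ℤ) := (hmem y.1).mp y.2
      obtain ⟨x, hx⟩ := exists_of_fibreIntegral_ne_zero f w y.1 (by rw [hy]; exact_mod_cast hdpos.ne')
      have hxmem : x ∈ f ⁻¹ᵁ Yd := by
        show f x ∈ Yd
        rw [hx]; exact y.2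
      refine ⟨⟨x, hxmem⟩, ?_⟩
      apply Yd.ι.isOpenEmbedding.injective
      have h1 := congr($(morphismRestrict_ι f Yd) ⟨x, hxmem⟩)
      exact (h1 : Yd.ι ((f ∣_ Yd) ⟨x, hxmem⟩) = f x).trans hx
    haveI : IsNoetherian (Yd : Scheme.{u}) :=
      { __ := (inferInstance : IsLocallyNoetherian (Yd : Scheme.{u}))
        isCompact_univ := by
          rw [← Set.image_univ_of_surjective (f ∣_ Yd).surjective]
          exact isCompact_univ.image (f ∣_ Yd).continuous }
    exact Groth.Agent.S0021.result (f ∣_ Yd)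

end Part2

section Part3
open Groth.Agent.Lib.WeightLimit6 (J_union_add_inter patchLocConst_of_forall patchLocConst_of_setOf_eq)
open AlgebraicGeometry CategoryTheory Limits MorphismProperty Topology
open Groth.Agent.Lib.H59FibInt Groth.Agent.Lib.H59Weight Groth.Agent.Lib.Weight34
open Groth.Agent.Lib.LimConstructible

/-- sublevel/superlevel sets of a patch-locally constant function are constructible -/
theorem isConstructible_setOf_pred {X : Type*} [TopologicalSpace X]
    [CompactSpace X] [QuasiSober X] [PrespectralSpace X] [QuasiSeparatedSpace X]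
    {F : X → ℤ} (hF : PatchLocConst F) (p : ℤ → Prop) : IsConstructible {x | p (F x)} := by
  classical
  have h : PatchLocConst (fun x => if p (F x) then (0 : ℤ) else 1) :=
    patchLocConst_of_forall (ι := Unit) (fun _ => F) (fun _ => hF) _
      fun x y hxy => by rw [hxy ()]
  have := h.isConstructible_setOf_eq 0
  convert this using 1
  ext x
  simp only [Set.mem_ofPred_eq]
  split_ifs with hp
  · simp [hp]
  · simp [hp]

set_option maxHeartbeats 1600000 in
theorem reduce {I : Type u} [SmallCategory I] [IsCofiltered I] (D : I ⥤ Scheme.{u})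
    (c : Cone D) (hc : IsLimit c) [∀ i, IsAffine (D.obj i)] [∀ i, IsNoetherian (D.obj i)]
    {X : Scheme.{u}} [IsAffine X] (f : X ⟶ c.pt) [LocallyQuasiFinite f]
    [LocallyOfFinitePresentation f] (w : X → ℤ) (hw : MoreMor.IsWeighting f w)
    (hpos : ∀ x, 0 < w x) (d : ℕ) (hmax : ∀ y : c.pt, MoreMor.fibreIntegral f w y ≤ (d : ℤ)) :
    ∃ hYd : IsOpen {y : c.pt | MoreMor.fibreIntegral f w y = (d : ℤ)},
      IsAffineOpen (⟨{y : c.pt | MoreMor.fibreIntegral f w y = (d : ℤ)}, hYd⟩ : c.pt.Opens) := by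
  haveI hAff : ∀ {i j : I} (φ : i ⟶ j), IsAffineHom (D.map φ) := fun φ => inferInstance
  haveI hcaff : IsAffine c.pt := Scheme.isAffine_of_isLimit c hc
  haveI hcaff' : ∀ i, IsAffine (((Functor.const I).obj c.pt).obj i) := fun _ => hcaff
  haveI : ∀ i, CompactSpace (D.obj i) := fun i => inferInstance
  haveI : ∀ i, QuasiSeparatedSpace (D.obj i) := fun i => inferInstance
  haveI : QuasiCompact f := inferInstance
  haveI : QuasiSeparated f := inferInstance
  -- a model over a stage
  haveI : MorphismProperty.RespectsIso @IsAffineHom.{u} :=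
    MorphismProperty.IsStableUnderBaseChange.respectsIso
  haveI : (@Min.min (MorphismProperty Scheme.{u}) _ @IsAffineHom
      Groth.Agent.Lib.ConsPairGeom.QuasiFiniteProp.{u}).RespectsIso :=
    MorphismProperty.RespectsIso.inf _ _
  obtain ⟨j, Xj, fj, g, ⟨hfjaff, hfjft, hfjqc, hfjqf⟩, hfjlfp, -, -, sq⟩ :=
    Groth.Agent.Lib.DescFP.exists_model_with_prop D c hc
      (@Min.min (MorphismProperty Scheme.{u}) _ @IsAffineHom
        Groth.Agent.Lib.ConsPairGeom.QuasiFiniteProp.{u})
      (Groth.Agent.Lib.H77ConsMorTools.descendsAlongLimit_inf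
        Groth.Agent.Lib.ConsPairGeom.descends_isAffineHom
        Groth.Agent.Lib.ConsPairGeom.descends_quasiFiniteProp) f
      ⟨inferInstance, inferInstance, inferInstance, inferInstance⟩
  haveI := hfjaff
  haveI := hfjqf
  haveI := hfjlfp
  haveI : IsAffine Xj := isAffine_of_isAffineHom fj
  -- descend the weighting
  obtain ⟨i, a, Xi, fi, pXi, g', wi, hsqi, hg1, hg2, hwi, hwi'⟩ :=
    Groth.Agent.Lib.WeightLimit6.main D c hc j fj f g sq w hw
  haveI : IsAffineHom fi := MorphismProperty.of_isPullback hsqi inferInstance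
  haveI : LocallyQuasiFinite fi := MorphismProperty.of_isPullback hsqi inferInstance
  haveI : LocallyOfFinitePresentation fi := MorphismProperty.of_isPullback hsqi inferInstance
  haveI : IsAffine Xi := isAffine_of_isAffineHom fi
  have big : IsPullback g' f fi (c.π.app i) := by
    refine IsPullback.of_right ?_ hg1 hsqi
    rw [hg2, c.w a]
    exact sq
  have hfini : ∀ y : D.obj i, (fi ⁻¹' {y}).Finite := fun y => fi.finite_preimage_singleton y
  have hint : ∀ y : c.pt, MoreMor.fibreIntegral f w y =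
      MoreMor.fibreIntegral fi wi (c.π.app i y) := by
    intro y
    rw [← Groth.Agent.S1418.result fi hfini f g' (c.π.app i) big wi y]
    refine congrArg (fun W => MoreMor.fibreIntegral f W y) ?_
    funext x
    exact (hwi' x).symm
  -- the bad loci
  have hwiplc : PatchLocConst wi := patchLocConst_of_setOf_eq wi fun n =>
    (Groth.Agent.S1423.result fi wi hwi n).isConstructible
  have hB1 : IsConstructible {x : Xi | wi x ≤ 0} := isConstructible_setOf_pred hwiplc (· ≤ 0)
  have hintplc : PatchLocConst (MoreMor.fibreIntegral fi wi) :=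
    patchLocConst_of_setOf_eq _ fun n =>
      (Groth.Agent.S1424.result fi wi hwi n).isConstructible
  have hB2 : IsConstructible {y : D.obj i | (d : ℤ) < MoreMor.fibreIntegral fi wi y} :=
    isConstructible_setOf_pred hintplc ((d : ℤ) < ·)
  have hB : IsConstructible (fi '' {x : Xi | wi x ≤ 0} ∪
      {y : D.obj i | (d : ℤ) < MoreMor.fibreIntegral fi wi y}) :=
    (fi.isConstructible_image hB1).union hB2
  have hBempty : (c.π.app i) ⁻¹' (fi '' {x : Xi | wi x ≤ 0} ∪
      {y : D.obj i | (d : ℤ) < MoreMor.fibreIntegral fi wi y}) =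
      (c.π.app i) ⁻¹' ((⊥ : (D.obj i).Opens) : Set (D.obj i)) := by
    rw [TopologicalSpace.Opens.coe_bot, Set.preimage_empty, Set.eq_empty_iff_forall_notMem]
    rintro y (⟨b, hb, hby⟩ | hy)
    · obtain ⟨z0, hz1, hz2⟩ := Scheme.Pullback.exists_preimage_pullback (f := fi)
        (g := c.π.app i) b y hby
      have hx : g' (big.isoPullback.inv z0) = b := by
        rw [← Scheme.Hom.comp_apply, big.isoPullback_inv_fst]
        exact hz1
      have h1 := hpos (big.isoPullback.inv z0)
      rw [← hwi', hx] at h1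
      exact absurd hb (not_le.mpr h1)
    · have h1 := hmax y
      rw [hint y] at h1
      exact absurd hy (not_lt.mpr h1)
  obtain ⟨l, ψ, hl⟩ := exists_map_preimage_eq_of_isConstructible D c hc _ hB ⊥
    (by rw [TopologicalSpace.Opens.coe_bot]; exact isCompact_empty) hBempty
  have hl' : ∀ y : D.obj l, D.map ψ y ∉ (fi '' {x : Xi | wi x ≤ 0} ∪
      {y : D.obj i | (d : ℤ) < MoreMor.fibreIntegral fi wi y}) := by
    intro y hy
    have : y ∈ (D.map ψ) ⁻¹' ((⊥ : (D.obj i).Opens) : Set (D.obj i)) := hl ▸ hy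
    exact this
  -- the stage `l`
  obtain ⟨fl, hfl⟩ : ∃ fl, fl = pullback.snd fi (D.map ψ) := ⟨_, rfl⟩
  obtain ⟨pl, hpl⟩ : ∃ pl, pl = pullback.fst fi (D.map ψ) := ⟨_, rfl⟩
  have hsql : IsPullback pl fl fi (D.map ψ) := by
    rw [hfl, hpl]; exact IsPullback.of_hasPullback fi (D.map ψ)
  haveI : LocallyQuasiFinite fl := MorphismProperty.of_isPullback hsql inferInstance
  haveI : LocallyOfFiniteType fl := MorphismProperty.of_isPullback hsql inferInstance
  let wl : ↥(pullback fi (D.map ψ)) → ℤ := fun x => wi (pl x)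
  have hwl : MoreMor.IsWeighting fl wl :=
    Groth.Agent.S1419.result fi wi hwi fl pl (D.map ψ) hsql
  have hintl : ∀ y : D.obj l, MoreMor.fibreIntegral fl wl y =
      MoreMor.fibreIntegral fi wi (D.map ψ y) :=
    fun y => Groth.Agent.S1418.result fi hfini fl pl (D.map ψ) hsql wi y
  have hwlpos : ∀ x, 0 < wl x := by
    intro x
    by_contra hx
    refine hl' (fl x) (Or.inl ⟨pl x, not_lt.mp hx, ?_⟩)
    rw [← Scheme.Hom.comp_apply, ← Scheme.Hom.comp_apply, hsql.w]
  have hmaxl : ∀ y : D.obj l, MoreMor.fibreIntegral fl wl y ≤ (d : ℤ) := by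
    intro y
    rw [hintl]
    by_contra hy
    exact hl' y (Or.inr (not_le.mp hy))
  obtain ⟨hopen, haff⟩ := core d fl wl hwl hwlpos hmaxl
  have hset : {y : c.pt | MoreMor.fibreIntegral f w y = (d : ℤ)} =
      (c.π.app l) ⁻¹' {y : D.obj l | MoreMor.fibreIntegral fl wl y = (d : ℤ)} := by
    ext y
    simp only [Set.mem_ofPred_eq, Set.mem_preimage]
    rw [hint y, hintl, π_comp_apply]
  have hopen' : IsOpen {y : c.pt | MoreMor.fibreIntegral f w y = (d : ℤ)} := by
    rw [hset]
    exact hopen.preimage (c.π.app l).continuous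
  refine ⟨hopen', ?_⟩
  have : (⟨{y : c.pt | MoreMor.fibreIntegral f w y = (d : ℤ)}, hopen'⟩ : c.pt.Opens) =
      (c.π.app l) ⁻¹ᵁ (⟨{y : D.obj l | MoreMor.fibreIntegral fl wl y = (d : ℤ)}, hopen⟩ :
        (D.obj l).Opens) := TopologicalSpace.Opens.ext hset
  rw [this]
  exact haff.preimage (c.π.app l)

end Part3

section Part4
open AlgebraicGeometry CategoryTheory Limits MorphismProperty Topology
open Groth.Agent.Lib.FGSubalgLimitU

theorem main {X Y : Scheme.{u}} (f : X ⟶ Y) [LocallyQuasiFinite f]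
    [LocallyOfFinitePresentation f] [IsAffine X] [IsAffine Y]
    (w : ↑X → ℤ) (hw : MoreMor.IsWeighting f w) (hpos : ∀ x, 0 < w x) (d : ℤ)
    (hmax : ∀ y : Y, MoreMor.fibreIntegral f w y ≤ d)
    (hatt : ∃ y : Y, MoreMor.fibreIntegral f w y = d) :
    ∃ hYd : IsOpen {y : ↑Y | MoreMor.fibreIntegral f w y = d},
      IsAffineOpen (⟨{y : ↑Y | MoreMor.fibreIntegral f w y = d}, hYd⟩ : Y.Opens) := by
  obtain ⟨n, rfl⟩ : ∃ n : ℕ, d = n := by
    obtain ⟨y, hy⟩ := hatt
    have := fibreIntegral_nonneg f w hpos y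
    exact ⟨d.toNat, by omega⟩
  let e : Y ≅ (cone ℤ Γ(Y, ⊤)).pt := Y.isoSpec
  let c : Cone (D ℤ Γ(Y, ⊤)) := (cone ℤ Γ(Y, ⊤)).extend e.hom
  have hc : IsLimit c := IsLimit.extendIso e.hom (isLimitCone ℤ Γ(Y, ⊤))
  haveI : ∀ i, IsAffine ((D ℤ Γ(Y, ⊤)).obj i) := fun i =>
    (inferInstance : IsAffine (Spec (CommRingCat.of i.unop.1)))
  haveI i1 : LocallyOfFinitePresentation (Y := c.pt) f := ‹LocallyOfFinitePresentation f›
  haveI i2 : LocallyQuasiFinite (Y := c.pt) f := ‹LocallyQuasiFinite f›
  exact reduce (D ℤ Γ(Y, ⊤)) c hc (f : X ⟶ c.pt) w hw hpos n hmax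

end Part4

end Groth.Agent.Lib.WeightMaxAffine6
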