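import Mathlib

/-!
# The ring `ℤ[F,V]/(FV - q)` and its quotient by a "symmetric" element `h`

Helper library for S17984 (minimal central order of a finite set of Weil `q`-numbers is the
complete intersection `ℤ[F,V]/(FV - q, h)`).

We work with an abstract commutative ring `A` receiving a surjection from `ℤ[X₀,X₁]`, with
`F V = q`, together with a ring map `ψ` to Laurent polynomials with `ψ F = T`, `ψ V = q T⁻¹`.
The elements `ee n` (`F^n` for `n ≥ 0`, `V^(-n)` for `n ≤ 0`) span `A` over `ℤ`, and `ψ` is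
injective.
-/

namespace Groth.Agent.Lib.WeilCI

open Polynomial LaurentPolynomial

noncomputable section

variable {A : Type*} [CommRing A]

/-- the candidate `ℤ`-basis of `ℤ[F,V]/(FV-q)`. -/
def ee (F V : A) (n : ℤ) : A := if 0 ≤ n then F ^ n.toNat else V ^ (-n).toNat

lemma ee_zero (F V : A) : ee F V 0 = 1 := by simp [ee]

lemma ee_of_nonneg (F V : A) {n : ℤ} (hn : 0 ≤ n) : ee F V n = F ^ n.toNat := by simp [ee, hn]

lemma ee_of_nonpos (F V : A) {n : ℤ} (hn : n ≤ 0) : ee F V n = V ^ (-n).toNat := by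
  rcases eq_or_lt_of_le hn with rfl | h
  · simp [ee]
  · simp [ee, not_le.mpr h]

lemma ee_swap (F V : A) (n : ℤ) : ee V F n = ee F V (-n) := by
  rcases le_total 0 n with hn | hn
  · rw [ee_of_nonneg _ _ hn, ee_of_nonpos _ _ (by omega : -n ≤ 0)]; simp
  · rw [ee_of_nonpos _ _ hn, ee_of_nonneg _ _ (by omega : 0 ≤ -n)]

lemma F_mul_ee {F V : A} {q : ℤ} (hFV : F * V = (q : A)) (n : ℤ) :
    F * ee F V n = if 0 ≤ n then ee F V (n + 1) else (q : A) * ee F V (n + 1) := by
  split_ifs with hn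
  · rw [ee_of_nonneg _ _ hn, ee_of_nonneg _ _ (by omega : 0 ≤ n + 1), ← pow_succ']
    congr 1; omega
  · push Not at hn
    rw [ee_of_nonpos _ _ hn.le, ee_of_nonpos _ _ (by omega : n + 1 ≤ 0)]
    obtain ⟨k, hk⟩ : ∃ k : ℕ, (-n).toNat = k + 1 := ⟨(-n).toNat - 1, by omega⟩
    have hk' : (-(n+1)).toNat = k := by omega
    rw [hk, hk', pow_succ', ← mul_assoc, hFV]

lemma V_mul_ee {F V : A} {q : ℤ} (hFV : F * V = (q : A)) (n : ℤ) :
    V * ee F V n = if n ≤ 0 then ee F V (n - 1) else (q : A) * ee F V (n - 1) := by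
  have hVF : V * F = (q : A) := by rw [mul_comm, hFV]
  have h1 := F_mul_ee hVF (-n)
  rw [ee_swap F V (-n), ee_swap F V (-n + 1), neg_neg] at h1
  rw [h1, show -(-n + 1) = n - 1 by ring]
  by_cases hn : n ≤ 0
  · rw [if_pos hn, if_pos (by omega)]
  · rw [if_neg hn, if_neg (by omega)]

lemma F_pow_mul_ee {F V : A} {q : ℤ} (hFV : F * V = (q : A)) (k : ℕ) (n : ℤ) :
    F ^ k * ee F V n = (q : A) ^ (min k (-n).toNat) * ee F V (n + k) := by
  induction k with
  | zero => simp
  | succ k ih =>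
    rw [pow_succ', mul_assoc, ih, mul_left_comm, F_mul_ee hFV]
    split_ifs with h
    · have : min (k+1) (-n).toNat = min k (-n).toNat := by omega
      rw [this]; push_cast; rw [add_assoc]
    · have : min (k+1) (-n).toNat = min k (-n).toNat + 1 := by omega
      rw [this, pow_succ, mul_assoc]; push_cast; rw [add_assoc]

/-- The abstract setup. -/
structure Setup (A : Type*) [CommRing A] where
  proj : MvPolynomial (Fin 2) ℤ →+* A
  proj_surj : Function.Surjective proj
  q : ℤ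
  q_ne : q ≠ 0
  F : A
  V : A
  hF : proj (MvPolynomial.X 0) = F
  hV : proj (MvPolynomial.X 1) = V
  hFV : F * V = (q : A)
  ψ : A →+* ℤ[T;T⁻¹]
  ψF : ψ F = T 1
  ψV : ψ V = LaurentPolynomial.C q * T (-1)

namespace Setup

variable (S : Setup A)

/-- the basis elements -/
abbrev e (n : ℤ) : A := ee S.F S.V n

lemma F_mul_mem (x : A) (hx : x ∈ Submodule.span ℤ (Set.range S.e)) :
    S.F * x ∈ Submodule.span ℤ (Set.range S.e) := by
  induction hx using Submodule.span_induction with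
  | mem x hx =>
    obtain ⟨n, rfl⟩ := hx
    show S.F * ee S.F S.V n ∈ _
    rw [F_mul_ee S.hFV]
    split_ifs
    · exact Submodule.subset_span ⟨_, rfl⟩
    · rw [← zsmul_eq_mul]; exact Submodule.smul_mem _ _ (Submodule.subset_span ⟨_, rfl⟩)
  | zero => simp
  | add x y _ _ hx hy => rw [mul_add]; exact Submodule.add_mem _ hx hy
  | smul c x _ hx => rw [mul_smul_comm]; exact Submodule.smul_mem _ _ hx

lemma V_mul_mem (x : A) (hx : x ∈ Submodule.span ℤ (Set.range S.e)) :
    S.V * x ∈ Submodule.span ℤ (Set.range S.e) := by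
  induction hx using Submodule.span_induction with
  | mem x hx =>
    obtain ⟨n, rfl⟩ := hx
    show S.V * ee S.F S.V n ∈ _
    rw [V_mul_ee S.hFV]
    split_ifs
    · exact Submodule.subset_span ⟨_, rfl⟩
    · rw [← zsmul_eq_mul]; exact Submodule.smul_mem _ _ (Submodule.subset_span ⟨_, rfl⟩)
  | zero => simp
  | add x y _ _ hx hy => rw [mul_add]; exact Submodule.add_mem _ hx hy
  | smul c x _ hx => rw [mul_smul_comm]; exact Submodule.smul_mem _ _ hx

lemma mem_span (x : A) : x ∈ Submodule.span ℤ (Set.range S.e) := by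
  obtain ⟨p, rfl⟩ := S.proj_surj x
  induction p using MvPolynomial.induction_on with
  | C a =>
    have : S.proj (MvPolynomial.C a) = a • S.e 0 := by
      show _ = a • ee S.F S.V 0
      rw [ee_zero, zsmul_eq_mul, mul_one]; exact eq_intCast (S.proj.comp MvPolynomial.C) a
    rw [this]; exact Submodule.smul_mem _ _ (Submodule.subset_span ⟨_, rfl⟩)
  | add p q hp hq => rw [map_add]; exact Submodule.add_mem _ hp hq
  | mul_X p i hp =>
    rw [map_mul, mul_comm]
    fin_cases i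
    · show S.proj (MvPolynomial.X 0) * _ ∈ _
      rw [S.hF]; exact S.F_mul_mem _ hp
    · show S.proj (MvPolynomial.X 1) * _ ∈ _
      rw [S.hV]; exact S.V_mul_mem _ hp

lemma ψ_e (n : ℤ) : S.ψ (S.e n) = LaurentPolynomial.C (S.q ^ (-n).toNat) * T n := by
  show S.ψ (ee S.F S.V n) = _
  rcases le_total 0 n with hn | hn
  · rw [ee_of_nonneg _ _ hn, map_pow, S.ψF, T_pow, mul_one]
    have : (-n).toNat = 0 := by omega
    rw [this, pow_zero, map_one, one_mul, Int.toNat_of_nonneg hn]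
  · rw [ee_of_nonpos _ _ hn, map_pow, S.ψV, mul_pow, T_pow, ← map_pow]
    congr 2; rw [Int.toNat_of_nonneg (by omega)]; ring

lemma coeff_ψ_sum (s : Finset ℤ) (z : ℤ → ℤ) (m : ℤ) :
    (S.ψ (∑ n ∈ s, z n • S.e n)).coeff m = if m ∈ s then z m * S.q ^ (-m).toNat else 0 := by
  rw [map_sum, AddMonoidAlgebra.coeff_sum, Finsupp.finsetSum_apply]
  have : ∀ n ∈ s, (S.ψ (z n • S.e n)).coeff m =
      if n = m then z n * S.q ^ (-n).toNat else 0 := by
    intro n _
    rw [map_zsmul, S.ψ_e, zsmul_eq_mul, ← map_intCast (LaurentPolynomial.C : ℤ →+* ℤ[T;T⁻¹]),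
      ← mul_assoc, ← map_mul, ← single_eq_C_mul_T, AddMonoidAlgebra.coeff_single, Finsupp.single_apply]
    simp
  rw [Finset.sum_congr rfl this, Finset.sum_ite_eq']

lemma ψ_injective : Function.Injective S.ψ := by
  rw [injective_iff_map_eq_zero]
  intro x hx
  obtain ⟨c, rfl⟩ := (Finsupp.mem_span_range_iff_exists_finsupp).mp (S.mem_span x)
  rw [Finsupp.sum] at hx ⊢
  apply Finset.sum_eq_zero
  intro n hn
  have := congrArg (fun f => f.coeff n) hx
  simp only [S.coeff_ψ_sum, if_pos hn] at this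
  have hc : c n = 0 := by
    rcases mul_eq_zero.mp this with h | h
    · exact h
    · exact absurd h (pow_ne_zero _ S.q_ne)
  rw [hc, zero_smul]

lemma ψ_aeval (c : ℤ[X]) : S.ψ (Polynomial.aeval S.F c) = toLaurent c := by
  have h1 : (S.ψ.toIntAlgHom).comp (Polynomial.aeval S.F) = toLaurentAlg :=
    Polynomial.algHom_ext (by
      show S.ψ (Polynomial.aeval S.F X) = toLaurent X
      rw [aeval_X, S.ψF, Polynomial.toLaurent_X])
  exact DFunLike.congr_fun h1 c

lemma coeff_toLaurent (c : ℤ[X]) (m : ℤ) :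
    (toLaurent c).coeff m = if 0 ≤ m then c.coeff m.toNat else 0 := by
  induction c using Polynomial.induction_on' with
  | add p q hp hq =>
    rw [map_add, AddMonoidAlgebra.coeff_add, Finsupp.add_apply, hp, hq, Polynomial.coeff_add]
    split_ifs <;> simp
  | monomial n a =>
    rw [← C_mul_X_pow_eq_monomial, Polynomial.toLaurent_C_mul_X_pow, ← single_eq_C_mul_T,
      AddMonoidAlgebra.coeff_single, Finsupp.single_apply, coeff_C_mul_X_pow]
    split_ifs <;> first | rfl | omega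

lemma coeff_T_mul (n : ℤ) (f : ℤ[T;T⁻¹]) (m : ℤ) : (T n * f).coeff m = f.coeff (m - n) := by
  unfold T
  rw [AddMonoidAlgebra.coeff_single_mul_apply]
  simp [sub_eq_neg_add]

include S in
lemma mul_eq_zero (x y : A) (h : x * y = 0) : x = 0 ∨ y = 0 := by
  have : S.ψ x * S.ψ y = 0 := by rw [← map_mul, h, map_zero]
  rcases _root_.mul_eq_zero.mp this with h | h
  · left; exact S.ψ_injective (by rw [h, map_zero])
  · right; exact S.ψ_injective (by rw [h, map_zero])

lemma F_pow_mul_eq_zero (D : ℕ) (x : A) (h : S.F ^ D * x = 0) : x = 0 := by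
  rcases S.mul_eq_zero _ _ h with h | h
  · exfalso
    have : S.ψ (S.F ^ D) = 0 := by rw [h, map_zero]
    rw [map_pow, S.ψF, T_pow] at this
    exact (isUnit_T _).ne_zero this
  · exact h

/-- the shape of `h`. -/
lemma h_expansion (D : ℕ) (Pw : ℤ[X]) (hmonic : Pw.Monic) (hdeg : Pw.natDegree = 2 * D)
    (ε : ℤ) (hc0 : Pw.coeff 0 = ε * S.q ^ D) (h : A)
    (hh : S.F ^ D * h = Polynomial.aeval S.F Pw) :
    ∃ z : ℤ → ℤ, z D = 1 ∧ z (-D) = ε ∧
      h = ∑ n ∈ Finset.Icc (-(D:ℤ)) D, z n • S.e n := by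
  obtain ⟨c, rfl⟩ := (Finsupp.mem_span_range_iff_exists_finsupp).mp (S.mem_span h)
  have hcf : ∀ m : ℤ, (S.ψ (c.sum fun i a => a • S.e i)).coeff m = c m * S.q ^ (-m).toNat := by
    intro m
    rw [Finsupp.sum, S.coeff_ψ_sum]
    split_ifs with hm
    · rfl
    · rw [Finsupp.notMem_support_iff.mp hm, zero_mul]
  have key : ∀ k : ℤ, c k * S.q ^ (-k).toNat =
      if 0 ≤ k + D then Pw.coeff (k + D).toNat else 0 := by
    intro k
    have h1 := congrArg (fun f => (S.ψ f).coeff (k + D)) hh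
    simp only [map_mul, map_pow, S.ψF, T_pow, mul_one, S.ψ_aeval, coeff_T_mul, coeff_toLaurent,
      add_sub_cancel_right, hcf] at h1
    exact h1
  have hq : ∀ j : ℕ, S.q ^ j ≠ 0 := fun j => pow_ne_zero _ S.q_ne
  have hzero : ∀ k : ℤ, k ∉ Finset.Icc (-(D:ℤ)) D → c k = 0 := by
    intro k hk
    rw [Finset.mem_Icc, not_and_or] at hk
    have h1 := key k
    have : (if 0 ≤ k + (D:ℤ) then Pw.coeff (k + D).toNat else 0) = 0 := by
      split_ifs with h0
      · apply coeff_eq_zero_of_natDegree_lt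
        rw [hdeg]; omega
      · rfl
    rw [this] at h1
    rcases _root_.mul_eq_zero.mp h1 with h | h
    · exact h
    · exact absurd h (hq _)
  refine ⟨fun n => c n, ?_, ?_, ?_⟩
  · have h1 := key D
    rw [if_pos (by omega)] at h1
    have h2 : (-(D:ℤ)).toNat = 0 := by omega
    have h3 : ((D:ℤ) + D).toNat = Pw.natDegree := by omega
    rw [h2, pow_zero, mul_one, h3, hmonic.coeff_natDegree] at h1
    exact h1
  · have h1 := key (-D)
    rw [if_pos (by omega)] at h1
    have h2 : (-(-(D:ℤ))).toNat = D := by omega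
    have h3 : (-(D:ℤ) + D).toNat = 0 := by omega
    rw [h2, h3, hc0] at h1
    exact mul_right_cancel₀ (hq D) h1
  · rw [Finsupp.sum]
    apply Finset.sum_subset
    · intro k hk
      by_contra hk'
      exact (Finsupp.mem_support_iff.mp hk) (hzero k hk')
    · intro k _ hk
      rw [Finsupp.notMem_support_iff.mp hk, zero_smul]

section kernel

variable (D : ℕ) (h : A)

/-- `x` is a multiple of `h` plus a combination of `e n`, `-D ≤ n < D`. -/
def Good (x : A) : Prop :=
  ∃ (y : A) (w : ℤ → ℤ), x = y * h + ∑ n ∈ Finset.Ico (-(D:ℤ)) D, w n • S.e n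

variable {D h}

lemma good_zero : S.Good D h 0 := ⟨0, fun _ => 0, by simp⟩

lemma good_add {x y : A} (hx : S.Good D h x) (hy : S.Good D h y) : S.Good D h (x + y) := by
  obtain ⟨y1, w1, rfl⟩ := hx
  obtain ⟨y2, w2, rfl⟩ := hy
  exact ⟨y1 + y2, fun n => w1 n + w2 n, by
    simp only [add_smul, Finset.sum_add_distrib]; ring⟩

lemma good_zsmul (c : ℤ) {x : A} (hx : S.Good D h x) : S.Good D h (c • x) := by
  obtain ⟨y, w, rfl⟩ := hx
  exact ⟨c • y, fun n => c * w n, by
    rw [smul_add, Finset.smul_sum]; simp only [mul_smul, smul_mul_assoc]⟩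

lemma good_mul_h (y : A) : S.Good D h (y * h) := ⟨y, fun _ => 0, by simp⟩

lemma good_e {n : ℤ} (hn : n ∈ Finset.Ico (-(D:ℤ)) D) : S.Good D h (S.e n) :=
  ⟨0, fun m => if m = n then 1 else 0, by simp [ite_smul, Finset.sum_ite_eq', hn]⟩

lemma good_sum {ι : Type*} (s : Finset ι) (f : ι → A) (hf : ∀ i ∈ s, S.Good D h (f i)) :
    S.Good D h (∑ i ∈ s, f i) :=
  Finset.sum_induction _ _ (fun _ _ => S.good_add) S.good_zero hf

lemma good_neg {x : A} (hx : S.Good D h x) : S.Good D h (-x) := by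
  simpa using S.good_zsmul (-1) hx

lemma good_F_mul_e_of (n : ℤ) (hn1 : S.Good D h (S.e (n + 1))) : S.Good D h (S.F * S.e n) := by
  show S.Good D h (S.F * ee S.F S.V n)
  rw [F_mul_ee S.hFV]
  split_ifs
  · exact hn1
  · rw [← zsmul_eq_mul]; exact S.good_zsmul _ hn1

lemma good_V_mul_e_of (n : ℤ) (hn1 : S.Good D h (S.e (n - 1))) : S.Good D h (S.V * S.e n) := by
  show S.Good D h (S.V * ee S.F S.V n)
  rw [V_mul_ee S.hFV]
  split_ifs
  · exact hn1
  · rw [← zsmul_eq_mul]; exact S.good_zsmul _ hn1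

lemma good_eD (z : ℤ → ℤ) (hzD : z D = 1)
    (hz : h = ∑ n ∈ Finset.Icc (-(D:ℤ)) D, z n • S.e n) : S.Good D h (S.e D) := by
  refine ⟨1, fun n => - z n, ?_⟩
  have h1 : Finset.Icc (-(D:ℤ)) D = insert (D:ℤ) (Finset.Ico (-(D:ℤ)) D) :=
    (Finset.Ico_insert_right (by omega)).symm
  rw [h1, Finset.sum_insert Finset.right_notMem_Ico, hzD, one_smul] at hz
  rw [one_mul]
  conv_lhs => rw [← add_sub_cancel_right (S.e D) (∑ n ∈ Finset.Ico (-(D:ℤ)) D, z n • S.e n)]
  rw [← hz, sub_eq_add_neg, ← Finset.sum_neg_distrib]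
  simp only [neg_smul]

lemma good_emD (z : ℤ → ℤ) (ε : ℤ) (hε : ε * ε = 1) (hzmD : z (-D) = ε)
    (hz : h = ∑ n ∈ Finset.Icc (-(D:ℤ)) D, z n • S.e n) : S.Good D h (S.e (-(D:ℤ) - 1)) := by
  have h1 : Finset.Icc (-(D:ℤ)) D = insert (-(D:ℤ)) (Finset.Ioc (-(D:ℤ)) D) :=
    (Finset.Ioc_insert_left (by omega)).symm
  have h2 : S.V * h = ε • S.e (-(D:ℤ) - 1) +
      ∑ n ∈ Finset.Ioc (-(D:ℤ)) D, z n • (S.V * S.e n) := by
    conv_lhs => rw [hz]
    rw [h1, Finset.sum_insert Finset.left_notMem_Ioc, mul_add, Finset.mul_sum, hzmD]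
    congr 1
    · rw [mul_smul_comm]
      congr 1
      show S.V * ee S.F S.V (-(D:ℤ)) = _
      rw [V_mul_ee S.hFV, if_pos (by omega)]
    · apply Finset.sum_congr rfl
      intro n _
      rw [mul_smul_comm]
  have h3 : S.Good D h (ε • S.e (-(D:ℤ) - 1)) := by
    have : ε • S.e (-(D:ℤ) - 1) = S.V * h +
        - ∑ n ∈ Finset.Ioc (-(D:ℤ)) D, z n • (S.V * S.e n) := by
      rw [h2]; ring
    rw [this]
    refine S.good_add (S.good_mul_h _) (S.good_neg (S.good_sum _ _ ?_))
    intro n hn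
    refine S.good_zsmul _ (S.good_V_mul_e_of n (S.good_e ?_))
    rw [Finset.mem_Ioc] at hn
    rw [Finset.mem_Ico]; omega
  have := S.good_zsmul ε h3
  rwa [smul_smul, hε, one_smul] at this

lemma good_F_mul (hgD : S.Good D h (S.e D)) {x : A} (hx : S.Good D h x) :
    S.Good D h (S.F * x) := by
  obtain ⟨y, w, rfl⟩ := hx
  rw [mul_add, ← mul_assoc, Finset.mul_sum]
  refine S.good_add (S.good_mul_h _) (S.good_sum _ _ ?_)
  intro n hn
  rw [mul_smul_comm]
  refine S.good_zsmul _ (S.good_F_mul_e_of n ?_)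
  rw [Finset.mem_Ico] at hn
  by_cases hn' : n + 1 = D
  · rw [hn']; exact hgD
  · exact S.good_e (by rw [Finset.mem_Ico]; omega)

lemma good_V_mul (hgm : S.Good D h (S.e (-(D:ℤ) - 1))) {x : A} (hx : S.Good D h x) :
    S.Good D h (S.V * x) := by
  obtain ⟨y, w, rfl⟩ := hx
  rw [mul_add, ← mul_assoc, Finset.mul_sum]
  refine S.good_add (S.good_mul_h _) (S.good_sum _ _ ?_)
  intro n hn
  rw [mul_smul_comm]
  refine S.good_zsmul _ (S.good_V_mul_e_of n ?_)
  rw [Finset.mem_Ico] at hn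
  by_cases hn' : n = -(D:ℤ)
  · rw [hn']; exact hgm
  · exact S.good_e (by rw [Finset.mem_Ico]; omega)

lemma all_good (hgD : S.Good D h (S.e D)) (hgm : S.Good D h (S.e (-(D:ℤ) - 1))) (x : A) :
    S.Good D h x := by
  have h1 : S.Good D h 1 := by
    have : (1 : A) = S.e 0 := (ee_zero _ _).symm
    rw [this]
    by_cases hD : D = 0
    · have : S.e 0 = S.e ((D:ℕ):ℤ) := by rw [hD]; rfl
      rw [this]; exact hgD
    · exact S.good_e (by rw [Finset.mem_Ico]; omega)
  obtain ⟨p, rfl⟩ := S.proj_surj x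
  induction p using MvPolynomial.induction_on with
  | C a =>
    have : S.proj (MvPolynomial.C a) = a • (1 : A) := by
      rw [zsmul_eq_mul, mul_one]; exact eq_intCast (S.proj.comp MvPolynomial.C) a
    rw [this]; exact S.good_zsmul _ h1
  | add p q hp hq => rw [map_add]; exact S.good_add hp hq
  | mul_X p i hp =>
    rw [map_mul, mul_comm]
    fin_cases i
    · show S.Good D h (S.proj (MvPolynomial.X 0) * _)
      rw [S.hF]; exact S.good_F_mul hgD hp
    · show S.Good D h (S.proj (MvPolynomial.X 1) * _)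
      rw [S.hV]; exact S.good_V_mul hgm hp

end kernel

/-- The kernel theorem. -/
theorem ker_eq (D : ℕ) (Pw : ℤ[X]) (hmonic : Pw.Monic) (hdeg : Pw.natDegree = 2 * D)
    (ε : ℤ) (hε : ε * ε = 1) (hc0 : Pw.coeff 0 = ε * S.q ^ D) (h : A)
    (hh : S.F ^ D * h = Polynomial.aeval S.F Pw) (K : Ideal A) (hK : h ∈ K)
    (hKc : ∀ c : ℤ[X], Polynomial.aeval S.F c ∈ K → Pw ∣ c) : K = Ideal.span {h} := by
  obtain ⟨z, hzD, hzmD, hz⟩ := S.h_expansion D Pw hmonic hdeg ε hc0 h hh
  have hgD := S.good_eD z hzD hz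
  have hgm := S.good_emD z ε hε hzmD hz
  apply le_antisymm
  · intro x hx
    obtain ⟨y, w, rfl⟩ := S.all_good hgD hgm x
    have hw : ∑ n ∈ Finset.Ico (-(D:ℤ)) D, w n • S.e n ∈ K := by
      have := K.sub_mem hx (K.mul_mem_left y hK)
      rwa [add_sub_cancel_left] at this
    set c : ℤ[X] := ∑ n ∈ Finset.Ico (-(D:ℤ)) D,
      Polynomial.C (w n * S.q ^ (-n).toNat) * X ^ (n + D).toNat with hc
    have hcF : Polynomial.aeval S.F c = S.F ^ D * ∑ n ∈ Finset.Ico (-(D:ℤ)) D, w n • S.e n := by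
      rw [hc, map_sum, Finset.mul_sum]
      apply Finset.sum_congr rfl
      intro n hn
      rw [Finset.mem_Ico] at hn
      rw [mul_smul_comm]
      show _ = w n • (S.F ^ D * ee S.F S.V n)
      rw [F_pow_mul_ee S.hFV, ee_of_nonneg _ _ (by omega : (0:ℤ) ≤ n + D),
        min_eq_right (by omega : (-n).toNat ≤ D), map_mul, aeval_C, map_pow, aeval_X,
        zsmul_eq_mul, ← mul_assoc]
      congr 1
      rw [eq_intCast (algebraMap ℤ A)]
      push_cast; rfl
    have hdvd : Pw ∣ c := hKc c (by rw [hcF]; exact K.mul_mem_left _ hw)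
    have hcdeg : c.degree < Pw.degree := by
      rw [Polynomial.degree_eq_natDegree hmonic.ne_zero, hdeg, ← Polynomial.mem_degreeLT]
      rw [hc]
      apply Submodule.sum_mem
      intro n hn
      rw [Finset.mem_Ico] at hn
      rw [Polynomial.mem_degreeLT]
      refine lt_of_le_of_lt (Polynomial.degree_C_mul_X_pow_le _ _) ?_
      exact_mod_cast (by omega : (n + D).toNat < 2 * D)
    have hc0' : c = 0 := Polynomial.eq_zero_of_dvd_of_degree_lt hdvd hcdeg
    have hw0 : ∑ n ∈ Finset.Ico (-(D:ℤ)) D, w n • S.e n = 0 := by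
      apply S.F_pow_mul_eq_zero D
      rw [← hcF, hc0', map_zero]
    rw [hw0, add_zero]
    exact Ideal.mul_mem_left _ _ (Ideal.subset_span rfl)
  · rw [Ideal.span_le]
    intro x hx
    rw [Set.mem_singleton_iff] at hx
    rw [hx]; exact hK

/-- `h ≠ 0`. -/
lemma h_ne_zero (D : ℕ) (Pw : ℤ[X]) (hmonic : Pw.Monic) (h : A)
    (hh : S.F ^ D * h = Polynomial.aeval S.F Pw) : h ≠ 0 := by
  rintro rfl
  rw [mul_zero] at hh
  have := congrArg S.ψ hh
  rw [map_zero, S.ψ_aeval] at this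
  exact hmonic.ne_zero (Polynomial.toLaurent_eq_zero.mp this.symm)

end Setup

/-! ### Weil numbers -/

/-- absolute value of the constant coefficient of a monic integer polynomial all of whose complex
roots have absolute value `r`. -/
lemma abs_coeff_zero_of_roots {P : ℤ[X]} (hP : P.Monic) (r : ℝ)
    (hroots : ∀ z ∈ P.aroots ℂ, ‖z‖ = r) :
    |((P.coeff 0 : ℤ) : ℝ)| = r ^ P.natDegree := by
  set PC : ℂ[X] := P.map (algebraMap ℤ ℂ) with hPC
  have hPCmonic : PC.Monic := hP.map _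
  have hdegPC : PC.natDegree = P.natDegree := hP.natDegree_map _
  have hsplit : PC.Splits := IsAlgClosed.splits PC
  have h1 : PC.coeff 0 = (-1) ^ PC.natDegree * PC.roots.prod :=
    hsplit.coeff_zero_eq_prod_roots_of_monic hPCmonic
  have h2 : ‖PC.roots.prod‖ = r ^ P.natDegree := by
    have := map_multiset_prod (normHom : ℂ →*₀ ℝ) PC.roots
    rw [show (normHom : ℂ →*₀ ℝ) PC.roots.prod = ‖PC.roots.prod‖ from rfl] at this
    have hrep : Multiset.map (⇑(normHom : ℂ →*₀ ℝ)) PC.roots =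
        Multiset.replicate (Multiset.card (Multiset.map (⇑(normHom : ℂ →*₀ ℝ)) PC.roots)) r := by
      rw [Multiset.eq_replicate_card]
      intro x hx
      obtain ⟨z, hz, rfl⟩ := Multiset.mem_map.mp hx
      exact hroots z hz
    rw [this, hrep, Multiset.prod_replicate, Multiset.card_map, ← hsplit.natDegree_eq_card_roots,
      hdegPC]
  have h3 : ‖PC.coeff 0‖ = r ^ P.natDegree := by
    rw [h1, norm_mul, norm_pow, norm_neg, norm_one, one_pow, one_mul, h2]
  rw [hPC, coeff_map] at h3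
  rw [← h3, show (algebraMap ℤ ℂ) (P.coeff 0) = ((P.coeff 0 : ℤ) : ℂ) from rfl,
    Complex.norm_intCast]

/-- a Weil number is nonzero. -/
lemma ne_zero_of_roots {K : Type*} [Field K] [CharZero K] {x : K} (hx : IsIntegral ℤ x)
    (r : ℝ) (hr : 0 < r) (hroots : ∀ z ∈ (minpoly ℤ x).aroots ℂ, ‖z‖ = r) : x ≠ 0 := by
  rintro rfl
  have h0 : (minpoly ℤ (0 : K)).coeff 0 = 0 := by
    have h1 := minpoly.aeval ℤ (0 : K)
    rw [← Polynomial.coeff_zero_eq_aeval_zero'] at h1
    exact (algebraMap ℤ K).injective_int (by rw [h1, map_zero])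
  have : (0 : ℂ) ∈ (minpoly ℤ (0 : K)).aroots ℂ := by
    rw [Polynomial.mem_aroots]
    refine ⟨minpoly.ne_zero hx, ?_⟩
    rw [← Polynomial.coeff_zero_eq_aeval_zero', h0, map_zero]
  have := hroots 0 this
  rw [norm_zero] at this
  exact hr.ne this

/-- the product of pairwise distinct minimal polynomials divides any common multiple. -/
lemma prod_minpoly_dvd {ι : Type*} [Fintype ι] {K : ι → Type*} [∀ i, Field (K i)]
    [∀ i, CharZero (K i)] (π : ∀ i, K i) (hint : ∀ i, IsIntegral ℤ (π i))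
    (hinj : ∀ i j, minpoly ℤ (π i) = minpoly ℤ (π j) → i = j) (c : ℤ[X])
    (hc : ∀ i, minpoly ℤ (π i) ∣ c) : ∏ i, minpoly ℤ (π i) ∣ c := by
  apply Fintype.prod_dvd_of_isRelPrime _ hc
  intro i j hij
  show IsRelPrime (minpoly ℤ (π i)) (minpoly ℤ (π j))
  rw [(minpoly.irreducible (hint i)).isRelPrime_iff_not_dvd]
  intro hdvd
  apply hij
  apply hinj
  have h2 := (minpoly.irreducible (hint i)).dvd_symm (minpoly.irreducible (hint j)) hdvd
  exact eq_of_monic_of_associated (minpoly.monic (hint i)) (minpoly.monic (hint j))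
    (associated_of_dvd_dvd hdvd h2)

/-! ### The concrete setup -/

open MvPolynomial in
/-- the generator `F V - q`. -/
abbrev gg (q : ℤ) : MvPolynomial (Fin 2) ℤ := MvPolynomial.X 0 * MvPolynomial.X 1 - MvPolynomial.C q

/-- the map to Laurent polynomials. -/
def psi0 (q : ℤ) : MvPolynomial (Fin 2) ℤ →+* ℤ[T;T⁻¹] :=
  (MvPolynomial.aeval ![T 1, LaurentPolynomial.C q * T (-1)] :
    MvPolynomial (Fin 2) ℤ →ₐ[ℤ] ℤ[T;T⁻¹]).toRingHom

lemma psi0_X0 (q : ℤ) : psi0 q (MvPolynomial.X 0) = T 1 := by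
  simp [psi0]

lemma psi0_X1 (q : ℤ) : psi0 q (MvPolynomial.X 1) = LaurentPolynomial.C q * T (-1) := by
  simp [psi0]

lemma psi0_gg (q : ℤ) : psi0 q (gg q) = 0 := by
  rw [gg, map_sub, map_mul, psi0_X0, psi0_X1]
  have : psi0 q (MvPolynomial.C q) = LaurentPolynomial.C q := by
    simp [psi0]
  rw [this, mul_left_comm, ← T_add]
  simp

lemma psi0_mem (q : ℤ) : ∀ a ∈ Ideal.span {gg q}, psi0 q a = 0 := by
  intro a ha
  have : Ideal.span {gg q} ≤ RingHom.ker (psi0 q) := by
    rw [Ideal.span_le]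
    intro x hx
    rw [Set.mem_singleton_iff] at hx
    rw [hx]; exact psi0_gg q
  exact this ha

/-- the concrete setup on `ℤ[F,V]/(FV-q)`. -/
def concrete (q : ℤ) (hq : q ≠ 0) : Setup (MvPolynomial (Fin 2) ℤ ⧸ Ideal.span {gg q}) where
  proj := Ideal.Quotient.mk _
  proj_surj := Ideal.Quotient.mk_surjective
  q := q
  q_ne := hq
  F := Ideal.Quotient.mk _ (MvPolynomial.X 0)
  V := Ideal.Quotient.mk _ (MvPolynomial.X 1)
  hF := rfl
  hV := rfl
  hFV := by
    rw [← map_mul]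
    have h1 : (Ideal.Quotient.mk (Ideal.span {gg q})) (MvPolynomial.C q) =
        ((q : ℤ) : MvPolynomial (Fin 2) ℤ ⧸ Ideal.span {gg q}) :=
      eq_intCast ((Ideal.Quotient.mk (Ideal.span {gg q})).comp MvPolynomial.C) q
    rw [← h1, Ideal.Quotient.eq]
    exact Ideal.subset_span rfl
  ψ := Ideal.Quotient.lift _ (psi0 q) (psi0_mem q)
  ψF := by rw [Ideal.Quotient.lift_mk, psi0_X0]
  ψV := by rw [Ideal.Quotient.lift_mk, psi0_X1]

end

end Groth.Agent.Lib.WeilCI
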