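import Groth.Agent.S1923
import Groth.Agent.S2876
import Groth.Agent.Lib.CycNorm85b
import Groth.Agent.Lib.C1CapIndep

/-!
# helper53: orders of rational sections at the generic point vs. Mathlib's `Scheme.ord`
(namespace `Groth.Agent.Lib.WeilCl53`)

* `ordAt_genericPoint`: `Cyc.ordAt x η h (residue φ) = Scheme.ord φ x` at a codimension one point.
* `ord_algebraMap_of_isUnit`, `ord_one`, `ord_inv`.
-/

set_option autoImplicit false
set_option maxHeartbeats 400000
set_option linter.unusedSectionVars false
set_option linter.style.haveILetI false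
universe u

open CategoryTheory CategoryTheory.Limits AlgebraicGeometry Opposite TopologicalSpace

namespace Groth.Agent.Lib.WeilCl53

variable {X : Scheme.{u}} [IsIntegral X] [IsLocallyNoetherian X]

theorem ord_one (x : X) : Scheme.ord (1 : X.functionField) x = 0 := by
  have h := Scheme.ord_mul (X := X) (x := x) (f := 1) (g := 1) one_ne_zero one_ne_zero
  rw [mul_one] at h
  omega

theorem ord_inv (x : X) (f : X.functionField) (hf : f ≠ 0) :
    Scheme.ord f⁻¹ x = - Scheme.ord f x := by
  have h := Scheme.ord_mul (X := X) (x := x) hf (inv_ne_zero hf)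
  rw [mul_inv_cancel₀ hf, ord_one] at h
  omega

theorem ord_algebraMap_of_isUnit (hX : Pi1.IsNormalScheme X) (x : X) (hx : Order.coheight x = 1)
    (u : X.presheaf.stalk x) (hu : IsUnit u) :
    Scheme.ord (algebraMap (X.presheaf.stalk x) X.functionField u) x = 0 := by
  obtain ⟨v, rfl⟩ := hu
  have hne : algebraMap (X.presheaf.stalk x) X.functionField (v : X.presheaf.stalk x) ≠ 0 := by
    intro h0
    have := (IsFractionRing.injective (X.presheaf.stalk x) X.functionField)
      (h0.trans (map_zero _).symm)
    exact v.ne_zero this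
  have hne' : algebraMap (X.presheaf.stalk x) X.functionField ((v⁻¹ : (X.presheaf.stalk x)ˣ) :
      X.presheaf.stalk x) ≠ 0 := by
    intro h0
    have := (IsFractionRing.injective (X.presheaf.stalk x) X.functionField)
      (h0.trans (map_zero _).symm)
    exact (v⁻¹).ne_zero this
  have h1 := (Groth.Agent.S2876.ord_nonneg_iff hX x hx _ hne).mpr ⟨_, rfl⟩
  have h2 := (Groth.Agent.S2876.ord_nonneg_iff hX x hx _ hne').mpr ⟨_, rfl⟩
  have h3 := Scheme.ord_mul (X := X) (x := x) hne hne'
  rw [← map_mul, Units.mul_inv, map_one, ord_one] at h3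
  omega

/-- the order of `φ ∈ κ(η) = K(X)` along `η ⤳ x` is Mathlib's order of vanishing -/
theorem ordAt_genericPoint (x : X) (hx : Order.coheight x = 1) (h : genericPoint X ⤳ x)
    (φ : X.presheaf.stalk (genericPoint X)) :
    Cyc.ordAt x (genericPoint X) h (X.residue (genericPoint X) φ) =
      Scheme.ord (X := X) (φ : X.functionField) x := by
  haveI : Ring.KrullDimLE 1 (X.presheaf.stalk x) := krullDimLE_of_coheight_le hx.le
  -- the two ring isomorphisms
  have hker : RingHom.ker (Cyc.specMap x (genericPoint X) h) = ⊥ :=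
    (RingHom.injective_iff_ker_eq_bot _).mp (Groth.Agent.S1923.specMap_injective X x h)
  let e : X.presheaf.stalk x ≃+* Cyc.LocQuot x (genericPoint X) h :=
    RingEquiv.ofBijective (Ideal.Quotient.mk _) ⟨by
      rw [injective_iff_map_eq_zero]
      intro a ha
      rw [Ideal.Quotient.eq_zero_iff_mem, hker] at ha
      exact ha, Ideal.Quotient.mk_surjective⟩
  have hresinj : Function.Injective (X.residue (genericPoint X)).hom := by
    rw [injective_iff_map_eq_zero]
    intro a ha
    have hmem : a ∈ IsLocalRing.maximalIdeal (X.presheaf.stalk (genericPoint X)) :=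
      (IsLocalRing.residue_eq_zero_iff a).mp ha
    rw [Groth.Agent.S1923.maximalIdeal_genericPoint_eq_bot] at hmem
    exact hmem
  let eK : X.functionField ≃+* X.residueField (genericPoint X) :=
    RingEquiv.ofBijective (X.residue (genericPoint X)).hom
      ⟨hresinj, IsLocalRing.residue_surjective⟩
  haveI : IsDomain (Cyc.LocQuot x (genericPoint X) h) := e.symm.injective.isDomain e.symm.toRingHom
  haveI : IsNoetherianRing (Cyc.LocQuot x (genericPoint X) h) :=
    isNoetherianRing_of_ringEquiv _ e
  haveI : Ring.KrullDimLE 1 (Cyc.LocQuot x (genericPoint X) h) := by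
    rw [Ring.krullDimLE_iff, ← ringKrullDim_eq_of_ringEquiv e]
    exact (Ring.krullDimLE_iff).mp inferInstance
  haveI := Groth.Agent.S1923.isFractionRing_locQuot X x h
  have hcompat : ∀ r : X.presheaf.stalk x,
      eK (algebraMap (X.presheaf.stalk x) X.functionField r) =
        algebraMap (Cyc.LocQuot x (genericPoint X) h) (X.residueField (genericPoint X)) (e r) :=
    fun r => rfl
  have h1 := Groth.Agent.Lib.CycNorm85.ordFrac_congr e eK hcompat (φ : X.functionField)
  unfold Cyc.ordAt
  refine h1.symm.trans ?_
  rw [Groth.Agent.Lib.CycNorm85.ordFrac_key, Scheme.ord_eq_ordHom_of_coheight_eq_one hx]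
  by_cases hφ : (φ : X.functionField) = 0
  · rw [hφ, map_zero, map_zero]
    rfl
  · have hne : Ring.ordFrac (X.presheaf.stalk x) (φ : X.functionField) ≠ 0 := by
      rw [map_ne_zero]; exact hφ
    obtain ⟨z, hz⟩ := WithZero.ne_zero_iff_exists.mp hne
    change _ = Multiplicative.toAdd
      (WithZero.unzeroD 1 (Ring.ordFrac (X.presheaf.stalk x) (φ : X.functionField)))
    rw [← hz]
    rfl

end Groth.Agent.Lib.WeilCl53
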