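import Groth.Agent.Lib.WeilCl53a
import Groth.Agent.Lib.RatSec53d
import Groth.Agent.Lib.ReflRankOne82
import Groth.Agent.S16491

/-!
# helper53: the order of a rational section of a rank one reflexive module at a codimension one point
(namespace `Groth.Agent.Lib.WeilCl53`)

* `bijective_smul_of_ne_zero`: over a field, a nonzero vector of a free rank one module is a basis.
* `exists_unit_smul_eq`: two generators of a free rank one module differ by a unit.
* `exists_bijective_smul_of_isRef1`: stalks of rank one reflexive modules at points with PID local ring are free of rank one.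
* `bijective_smul_stalkSpecializes`: the image of a generator of `F_x` is a basis of `F_η`.
* `secOrdAt_mk_smul`: `ord_{x,F}(a • e_η) = ord_x(a)` for a generator `e` of `F_x`.
-/

set_option autoImplicit false
set_option maxHeartbeats 400000
set_option linter.unusedSectionVars false
set_option linter.style.haveILetI false
universe u

open CategoryTheory CategoryTheory.Limits AlgebraicGeometry Opposite TopologicalSpace
open Groth.Agent.Lib.GenericFree Groth.Agent.Lib.RefSec53

namespace Groth.Agent.Lib.WeilCl53

section Alg

theorem bijective_smul_of_ne_zero {K V : Type*} [Field K] [AddCommGroup V] [Module K V] {m : V}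
    (hm : Function.Bijective (fun a : K => a • m)) {v : V} (hv : v ≠ 0) :
    Function.Bijective (fun a : K => a • v) := by
  obtain ⟨c, rfl⟩ := hm.2 v
  have hc : c ≠ 0 := by
    rintro rfl
    exact hv (zero_smul _ _)
  have h : (fun a : K => a • ((fun a : K => a • m) c)) = (fun a : K => a • m) ∘ (fun a => a * c) := by
    funext a
    simp [mul_smul]
  rw [h]
  exact hm.comp (mulRight_bijective₀ c hc)

theorem exists_unit_smul_eq {R M : Type*} [CommRing R] [AddCommGroup M] [Module R M] {e t : M}
    (he : Function.Bijective (fun a : R => a • e)) (ht : Submodule.span R {t} = ⊤) :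
    ∃ u : Rˣ, e = (u : R) • t := by
  have hmem : e ∈ Submodule.span R {t} := by rw [ht]; trivial
  obtain ⟨u, hu⟩ := Submodule.mem_span_singleton.mp hmem
  obtain ⟨v, hv⟩ := he.2 t
  have h1 : (u * v) • e = (1 : R) • e := by
    rw [mul_smul, one_smul]
    change u • (v • e) = e
    rw [show v • e = t from hv, hu]
  have h2 : u * v = 1 := he.1 h1
  exact ⟨Units.mkOfMulEqOne u v h2, hu.symm⟩

theorem ne_zero_of_bijective_smul {R M : Type*} [CommRing R] [Nontrivial R] [AddCommGroup M]
    [Module R M] {e : M} (he : Function.Bijective (fun a : R => a • e)) : e ≠ 0 := by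
  rintro rfl
  have := he.1 (show (fun a : R => a • (0 : M)) 1 = (fun a : R => a • (0 : M)) 0 by simp)
  exact one_ne_zero this

theorem span_eq_top_of_bijective_smul {R M : Type*} [CommRing R] [AddCommGroup M]
    [Module R M] {e : M} (he : Function.Bijective (fun a : R => a • e)) :
    Submodule.span R {e} = ⊤ := by
  rw [eq_top_iff]
  intro y _
  obtain ⟨a, ha⟩ := he.2 y
  exact Submodule.mem_span_singleton.mpr ⟨a, ha⟩

theorem isTorsionFree_of_bijective_smul {R M : Type*} [CommRing R] [IsDomain R] [AddCommGroup M]
    [Module R M] {e : M} (he : Function.Bijective (fun a : R => a • e)) :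
    Module.IsTorsionFree R M := by
  apply Module.IsTorsionFree.of_smul_eq_zero
  intro r m hrm
  obtain ⟨a, rfl⟩ := he.2 m
  change r • (a • e) = 0 at hrm
  rw [← mul_smul] at hrm
  have h0 : r * a = 0 := he.1 (show (fun a : R => a • e) (r * a) = (fun a : R => a • e) 0 by
    simp only [zero_smul]; exact hrm)
  rcases mul_eq_zero.mp h0 with h | h
  · exact Or.inl h
  · right
    change a • e = 0
    rw [h, zero_smul]

end Alg

variable {X : Scheme.{u}} [IsIntegral X] [IsLocallyNoetherian X]

/-- stalks of a rank one coherent reflexive module at points whose local ring is factorial are free of rank one -/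
theorem exists_bijective_smul_of_isRef1 (F : X.Modules) (hF : RefHull.IsRef1 F) (x : X)
    [UniqueFactorizationMonoid (X.presheaf.stalk x)] :
    ∃ e : F.presheaf.stalk x, Function.Bijective (fun a : X.presheaf.stalk x => a • e) := by
  obtain ⟨hcoh, hrefl, hrk⟩ := hF
  haveI : F.IsQuasicoherent := hcoh.1
  have hFP : CohB1.IsFP F := Groth.Agent.Lib.HomSh53.isFP_of_isCoh hcoh
  have hη := Groth.Agent.Lib.ReflRankOne82.exists_bijective_smul_genericPoint F hrk
  have hreflAt := (Groth.Agent.Lib.HomSh53.isReflexive_iff_forall_isReflexiveAt hcoh).mp hrefl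
  haveI : Module.Finite (X.presheaf.stalk x) (F.presheaf.stalk x) :=
    Groth.Agent.Lib.CohFinite.finite_stalk_of_isCoh F hcoh x
  haveI : Module.IsReflexive (X.presheaf.stalk x) (F.presheaf.stalk x) := hreflAt x
  haveI := Groth.Agent.Lib.ReflRankOne82.nontrivial_stalk F hη x
  exact Groth.Agent.Lib.ReflRankOne82.exists_bijective_smul_of_reflexive_rank_one
    (Groth.Agent.Lib.ReflRankOne82.exists_smul_eq_smul_stalk F hη x)

/-- the same at a codimension `≤ 1` point of a normal scheme -/
theorem exists_bijective_smul_of_dim_le_one (hX : Pi1.IsNormalScheme X) (F : X.Modules)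
    (hF : RefHull.IsRef1 F) (x : X) (hx : ¬ (2 : WithBot ℕ∞) ≤ ringKrullDim (X.presheaf.stalk x)) :
    ∃ e : F.presheaf.stalk x, Function.Bijective (fun a : X.presheaf.stalk x => a • e) := by
  haveI := (hX x).2
  haveI := Groth.Agent.Lib.Refl53.isPrincipalIdealRing_of_normal (X.presheaf.stalk x) hx
  exact exists_bijective_smul_of_isRef1 F hF x

theorem not_two_le_of_coheight_eq_one (x : X) (hx : Order.coheight x = 1) :
    ¬ (2 : WithBot ℕ∞) ≤ ringKrullDim (X.presheaf.stalk x) := by
  rw [ringKrullDim_stalk_eq_coheight, hx]
  decide

theorem ringKrullDim_eq_one_iff (x : X) :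
    ringKrullDim (X.presheaf.stalk x) = 1 ↔ Order.coheight x = 1 := by
  rw [ringKrullDim_stalk_eq_coheight]
  constructor
  · intro h
    exact_mod_cast h
  · intro h
    rw [h]
    rfl

/-- the image in `F_η` of a free generator of `F_x` is a basis of the one-dimensional `F_η` -/
theorem bijective_smul_stalkSpecializes (F : X.Modules) [F.IsQuasicoherent]
    (hη : ∃ m : F.presheaf.stalk (genericPoint X),
      Function.Bijective (fun a : X.presheaf.stalk (genericPoint X) => a • m))
    {x : X} (h : genericPoint X ⤳ x) (e : F.presheaf.stalk x)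
    (he : Function.Bijective (fun a : X.presheaf.stalk x => a • e)) :
    Function.Bijective (fun a : X.presheaf.stalk (genericPoint X) =>
      a • F.presheaf.stalkSpecializes h e) := by
  obtain ⟨m, hm⟩ := hη
  haveI := isTorsionFree_of_bijective_smul he
  letI : Field (X.presheaf.stalk (genericPoint X)) := inferInstanceAs (Field X.functionField)
  refine bijective_smul_of_ne_zero (K := X.presheaf.stalk (genericPoint X)) hm ?_
  intro h0
  exact ne_zero_of_bijective_smul he ((stalkSpecializes_eq_zero_iff_of_torsionFree F h e).mp h0)

theorem mk_genericPoint_injective (F : X.Modules) :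
    Function.Injective (Submodule.Quotient.mk :
      F.presheaf.stalk (genericPoint X) → Cyc.secFibre F (genericPoint X)) := by
  intro a b hab
  rw [Submodule.Quotient.eq, Groth.Agent.S1923.maximalIdeal_genericPoint_eq_bot,
    Submodule.bot_smul, Submodule.mem_bot] at hab
  exact sub_eq_zero.mp hab

/-- `ord_{x,F}(a • e_η) = ord_x(a)` for a free generator `e` of `F_x` at a codimension one point -/
theorem secOrdAt_mk_smul (hX : Pi1.IsNormalScheme X) (F : X.Modules) (x : X)
    (hx : Order.coheight x = 1) (h : genericPoint X ⤳ x) (e : F.presheaf.stalk x)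
    (he : Function.Bijective (fun a : X.presheaf.stalk x => a • e))
    (heη : Function.Bijective (fun a : X.presheaf.stalk (genericPoint X) =>
      a • F.presheaf.stalkSpecializes h e))
    (a : X.presheaf.stalk (genericPoint X)) :
    Cyc.secOrdAt F (genericPoint X) x h
        (Submodule.Quotient.mk (a • F.presheaf.stalkSpecializes h e)) =
      Scheme.ord (X := X) (a : X.functionField) x := by
  have ht : ∃ t : F.presheaf.stalk x, Submodule.span (X.presheaf.stalk x) {t} = ⊤ :=
    ⟨e, span_eq_top_of_bijective_smul he⟩
  have ht₀ := Classical.choose_spec ht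
  obtain ⟨u, hu⟩ := exists_unit_smul_eq he ht₀
  have hspec : F.presheaf.stalkSpecializes h e =
      (X.presheaf.stalkSpecializes h (u : X.presheaf.stalk x)) •
        F.presheaf.stalkSpecializes h (Classical.choose ht) := by
    conv_lhs => rw [hu]
    exact stalkSpecializes_smul F h _ _
  have hφ : ∃ φ : X.presheaf.stalk (genericPoint X),
      (Submodule.Quotient.mk (a • F.presheaf.stalkSpecializes h e) :
        Cyc.secFibre F (genericPoint X)) =
      φ • (Submodule.Quotient.mk ((F.presheaf.stalkSpecializes h) (Classical.choose ht)) :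
          Cyc.secFibre F (genericPoint X)) := by
    refine ⟨a * X.presheaf.stalkSpecializes h (u : X.presheaf.stalk x), ?_⟩
    rw [← Submodule.Quotient.mk_smul, mul_smul, ← hspec]
  obtain ⟨φ, hφ1, hφ2⟩ := Groth.Agent.S1923.secOrdAt_eq F (genericPoint X) x h _ ht hφ
  -- identify φ
  have hφeq : φ = a * X.presheaf.stalkSpecializes h (u : X.presheaf.stalk x) := by
    rw [← Submodule.Quotient.mk_smul] at hφ1
    have h1 := mk_genericPoint_injective F hφ1
    rw [hspec, ← mul_smul] at h1
    -- spec t₀ is a basis
    have hne : F.presheaf.stalkSpecializes h (Classical.choose ht) ≠ 0 := by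
      intro h0
      apply ne_zero_of_bijective_smul heη
      rw [hspec, h0, smul_zero]
    letI : Field (X.presheaf.stalk (genericPoint X)) := inferInstanceAs (Field X.functionField)
    have hb := bijective_smul_of_ne_zero (K := X.presheaf.stalk (genericPoint X)) heη hne
    exact (hb.1 h1).symm
  rw [hφ2, ordAt_genericPoint x hx h φ, hφeq]
  by_cases ha : (a : X.functionField) = 0
  · have : a * X.presheaf.stalkSpecializes h (u : X.presheaf.stalk x) = 0 := by
      rw [show a = 0 from ha, zero_mul]
    rw [this, show a = 0 from ha]
  · have hune : (X.presheaf.stalkSpecializes h (u : X.presheaf.stalk x) : X.functionField) ≠ 0 := by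
      intro h0
      have h1 : algebraMap (X.presheaf.stalk x) X.functionField (u : X.presheaf.stalk x) = 0 := h0
      have := (IsFractionRing.injective (X.presheaf.stalk x) X.functionField)
        (h1.trans (map_zero _).symm)
      exact u.ne_zero this
    have h2 := Scheme.ord_mul (X := X) (x := x) ha hune
    have h3 : Scheme.ord (X := X)
        (X.presheaf.stalkSpecializes h (u : X.presheaf.stalk x) : X.functionField) x = 0 :=
      ord_algebraMap_of_isUnit hX x hx (u : X.presheaf.stalk x) u.isUnit
    rw [h3, add_zero] at h2
    exact h2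

end Groth.Agent.Lib.WeilCl53
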