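import Groth.Agent.Lib.WeilCl53b
import Groth.Prelude.Def_RefFun

/-!
# helper53: isomorphism criterion for coherent reflexive modules on a normal scheme
(namespace `Groth.Agent.Lib.WeilCl53`)

* `hom_ext_of_stalkMapₗ`: morphisms of modules with the same stalk maps are equal.
* `hom_ext_of_stalkMapₗ_genericPoint`: into a torsion-free quasi-coherent module on an integral scheme, the stalk map at the generic
  point determines the morphism.
* `exists_iso_of_generic`: mutually inverse linear maps of generic stalks preserving the codimension one lattices come from an isomorphism.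
-/

set_option autoImplicit false
set_option maxHeartbeats 400000
set_option linter.unusedSectionVars false
set_option linter.style.haveILetI false
universe u

open CategoryTheory CategoryTheory.Limits AlgebraicGeometry Opposite TopologicalSpace
open Groth.Agent.Lib.GenericFree Groth.Agent.Lib.RefSec53 Groth.Agent.Lib.RatSec53

namespace Groth.Agent.Lib.WeilCl53

section general

variable {X : Scheme.{u}}

theorem hom_ext_of_stalkMapₗ {F G : X.Modules} (φ ψ : F ⟶ G)
    (h : ∀ x : X, RefHull.stalkMapₗ φ x = RefHull.stalkMapₗ ψ x) : φ = ψ := by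
  refine Scheme.Modules.hom_ext _ _ fun U => ?_
  ext s
  refine Groth.Agent.Lib.H78Dual.germ_ext G _ _ fun x hx => ?_
  have h1 := RefHull.stalkMapₗ_germ φ x hx s
  have h2 := RefHull.stalkMapₗ_germ ψ x hx s
  rw [h x] at h1
  exact h1.symm.trans h2

theorem hom_ext_of_stalkMapₗ_genericPoint [IsIntegral X] {F G : X.Modules} [G.IsQuasicoherent]
    (hG : ∀ x : X, Module.IsTorsionFree (X.presheaf.stalk x) (G.presheaf.stalk x))
    (φ ψ : F ⟶ G)
    (h : RefHull.stalkMapₗ φ (genericPoint X) = RefHull.stalkMapₗ ψ (genericPoint X)) : φ = ψ := by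
  refine hom_ext_of_stalkMapₗ φ ψ fun x => ?_
  refine LinearMap.ext fun v => ?_
  have hsp : genericPoint X ⤳ x := _root_.genericPoint_specializes x
  haveI := hG x
  rw [← sub_eq_zero, ← stalkSpecializes_eq_zero_iff_of_torsionFree G hsp, map_sub,
    ← stalkMapₗ_stalkSpecializes, ← stalkMapₗ_stalkSpecializes, h, sub_self]

theorem stalkMapₗ_inv_comp {F G : X.Modules} (φ : F ⟶ G) [IsIso φ] (x : X) :
    (RefHull.stalkMapₗ (inv φ) x).comp (RefHull.stalkMapₗ φ x) = LinearMap.id := by
  rw [← RefFun.stalkMapₗ_comp, IsIso.hom_inv_id, RefFun.stalkMapₗ_id]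

theorem stalkMapₗ_comp_inv {F G : X.Modules} (φ : F ⟶ G) [IsIso φ] (x : X) :
    (RefHull.stalkMapₗ φ x).comp (RefHull.stalkMapₗ (inv φ) x) = LinearMap.id := by
  rw [← RefFun.stalkMapₗ_comp, IsIso.inv_hom_id, RefFun.stalkMapₗ_id]

end general

variable {X : Scheme.{u}} [IsIntegral X] [IsLocallyNoetherian X]

theorem isTorsionFree_stalk_of_isReflexive {F : X.Modules} (hF : Coh.IsCoh F)
    (hFr : RefHull.IsReflexive F) (x : X) :
    Module.IsTorsionFree (X.presheaf.stalk x) (F.presheaf.stalk x) := by
  haveI : Module.IsReflexive (X.presheaf.stalk x) (F.presheaf.stalk x) :=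
    (Groth.Agent.Lib.HomSh53.isReflexive_iff_forall_isReflexiveAt hF).mp hFr x
  infer_instance

/-- a linear map of generic stalks preserving the codimension one lattices extends to a morphism
(between coherent modules with reflexive target) -/
theorem exists_hom_of_generic (hX : Pi1.IsNormalScheme X) (F G : X.Modules)
    (hF : Coh.IsCoh F) (hG : Coh.IsCoh G) (hGr : RefHull.IsReflexive G)
    (T : F.presheaf.stalk (genericPoint X) →ₗ[X.presheaf.stalk (genericPoint X)]
      G.presheaf.stalk (genericPoint X))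
    (hT : ∀ x : X, ringKrullDim (X.presheaf.stalk x) = 1 →
      Set.MapsTo ⇑T
        (Set.range ⇑(F.presheaf.stalkSpecializes
          ((genericPoint_spec ↥X).specializes (Set.mem_univ x))).hom)
        (Set.range ⇑(G.presheaf.stalkSpecializes
          ((genericPoint_spec ↥X).specializes (Set.mem_univ x))).hom)) :
    ∃ ψ : F ⟶ G, RefHull.stalkMapₗ ψ (genericPoint X) = T := by
  obtain ⟨ψ, hψ⟩ := (exists_hom_iff X hX G F hG hF T).mpr hT
  haveI : IsIso (RefHull.bidualMap G) := hGr
  refine ⟨ψ ≫ inv (RefHull.bidualMap G), ?_⟩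
  rw [RefFun.stalkMapₗ_comp, hψ, ← LinearMap.comp_assoc, stalkMapₗ_inv_comp, LinearMap.id_comp]

/-- mutually inverse linear maps of generic stalks preserving the codimension one lattices come from an isomorphism -/
theorem exists_iso_of_generic (hX : Pi1.IsNormalScheme X) (F G : X.Modules)
    (hF : Coh.IsCoh F) (hG : Coh.IsCoh G) (hFr : RefHull.IsReflexive F)
    (hGr : RefHull.IsReflexive G)
    (T : F.presheaf.stalk (genericPoint X) →ₗ[X.presheaf.stalk (genericPoint X)]
      G.presheaf.stalk (genericPoint X))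
    (T' : G.presheaf.stalk (genericPoint X) →ₗ[X.presheaf.stalk (genericPoint X)]
      F.presheaf.stalk (genericPoint X))
    (h1 : T'.comp T = LinearMap.id) (h2 : T.comp T' = LinearMap.id)
    (hT : ∀ x : X, ringKrullDim (X.presheaf.stalk x) = 1 →
      Set.MapsTo ⇑T
        (Set.range ⇑(F.presheaf.stalkSpecializes
          ((genericPoint_spec ↥X).specializes (Set.mem_univ x))).hom)
        (Set.range ⇑(G.presheaf.stalkSpecializes
          ((genericPoint_spec ↥X).specializes (Set.mem_univ x))).hom))
    (hT' : ∀ x : X, ringKrullDim (X.presheaf.stalk x) = 1 →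
      Set.MapsTo ⇑T'
        (Set.range ⇑(G.presheaf.stalkSpecializes
          ((genericPoint_spec ↥X).specializes (Set.mem_univ x))).hom)
        (Set.range ⇑(F.presheaf.stalkSpecializes
          ((genericPoint_spec ↥X).specializes (Set.mem_univ x))).hom)) :
    ∃ e : F ≅ G, RefHull.stalkMapₗ e.hom (genericPoint X) = T := by
  obtain ⟨ψ, hψ⟩ := exists_hom_of_generic hX F G hF hG hGr T hT
  obtain ⟨ψ', hψ'⟩ := exists_hom_of_generic hX G F hG hF hFr T' hT'
  haveI := hF.1
  haveI := hG.1
  refine ⟨⟨ψ, ψ', ?_, ?_⟩, hψ⟩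
  · apply hom_ext_of_stalkMapₗ_genericPoint (isTorsionFree_stalk_of_isReflexive hF hFr)
    rw [RefFun.stalkMapₗ_comp, hψ, hψ', h1, RefFun.stalkMapₗ_id]
  · apply hom_ext_of_stalkMapₗ_genericPoint (isTorsionFree_stalk_of_isReflexive hG hGr)
    rw [RefFun.stalkMapₗ_comp, hψ, hψ', h2, RefFun.stalkMapₗ_id]

end Groth.Agent.Lib.WeilCl53
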