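import Groth.Agent.Lib.WeilCl53c

/-!
# helper53: rank one reflexive modules are isomorphic iff their divisors are linearly equivalent (S16086)
(namespace `Groth.Agent.Lib.WeilCl53`)
-/

set_option autoImplicit false
set_option maxHeartbeats 800000
set_option linter.unusedSectionVars false
set_option linter.style.haveILetI false
universe u

open CategoryTheory CategoryTheory.Limits AlgebraicGeometry Opposite TopologicalSpace
open Groth.Agent.Lib.GenericFree Groth.Agent.Lib.RefSec53 Groth.Agent.Lib.RatSec53

namespace Groth.Agent.Lib.WeilCl53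

variable {X : Scheme.{u}} [IsIntegral X] [IsLocallyNoetherian X]

/-- a linear map of generic stalks sending the generator of the lattice `F_x` to an integral multiple of the generator of `G_x`
preserves the lattices -/
theorem mapsTo_of_ord (hX : Pi1.IsNormalScheme X) (F G : X.Modules) (x : X)
    (hx : Order.coheight x = 1) (h : genericPoint X ⤳ x)
    (ex : F.presheaf.stalk x) (hex : Function.Bijective (fun a : X.presheaf.stalk x => a • ex))
    (gx : G.presheaf.stalk x)
    (T : F.presheaf.stalk (genericPoint X) →ₗ[X.presheaf.stalk (genericPoint X)]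
      G.presheaf.stalk (genericPoint X))
    (w : X.presheaf.stalk (genericPoint X)) (hw : (w : X.functionField) ≠ 0)
    (hT : T (F.presheaf.stalkSpecializes h ex) = w • G.presheaf.stalkSpecializes h gx)
    (hord : 0 ≤ Scheme.ord (X := X) (w : X.functionField) x) :
    Set.MapsTo ⇑T (Set.range ⇑(F.presheaf.stalkSpecializes h).hom)
      (Set.range ⇑(G.presheaf.stalkSpecializes h).hom) := by
  obtain ⟨w₀, hw₀⟩ := (Groth.Agent.S2876.ord_nonneg_iff hX x hx _ hw).mp hord
  have hw₀' : X.presheaf.stalkSpecializes h w₀ = w := hw₀
  rintro _ ⟨g, rfl⟩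
  obtain ⟨r, rfl⟩ := hex.2 g
  refine ⟨(r * w₀) • gx, ?_⟩
  change G.presheaf.stalkSpecializes h ((r * w₀) • gx) =
    T (F.presheaf.stalkSpecializes h (r • ex))
  rw [stalkSpecializes_smul, stalkSpecializes_smul, map_smul, hT, ← hw₀', smul_smul]
  congr 1
  exact map_mul _ _ _

/-- the order of a nonzero rational section in terms of a chosen local generator -/
theorem exists_ord_data (hX : Pi1.IsNormalScheme X) (F : X.Modules) [F.IsQuasicoherent]
    (hηF : ∃ m : F.presheaf.stalk (genericPoint X),
      Function.Bijective (fun a : X.presheaf.stalk (genericPoint X) => a • m))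
    (s' : F.presheaf.stalk (genericPoint X)) (hs' : s' ≠ 0) (x : X) (hx : Order.coheight x = 1)
    (h : genericPoint X ⤳ x) (ex : F.presheaf.stalk x)
    (hex : Function.Bijective (fun r : X.presheaf.stalk x => r • ex)) :
    ∃ a : X.presheaf.stalk (genericPoint X), a ≠ 0 ∧
      a • F.presheaf.stalkSpecializes h ex = s' ∧
      Function.Bijective (fun r : X.presheaf.stalk (genericPoint X) =>
        r • F.presheaf.stalkSpecializes h ex) ∧
      Cyc.secOrdAt F (genericPoint X) x h (Submodule.Quotient.mk s') =
        Scheme.ord (X := X) (a : X.functionField) x := by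
  have hexη := bijective_smul_stalkSpecializes F hηF h ex hex
  obtain ⟨a, ha⟩ := hexη.2 s'
  have ha0 : a ≠ 0 := by
    rintro rfl
    exact hs' (by rw [← ha]; exact zero_smul _ _)
  refine ⟨a, ha0, ha, hexη, ?_⟩
  have := secOrdAt_mk_smul hX F x hx h ex hex hexη a
  rw [show a • F.presheaf.stalkSpecializes h ex = s' from ha] at this
  exact this

theorem stalkMapₗ_iso_bijective {X : Scheme.{u}} {F G : X.Modules} (e : F ≅ G) (x : X) :
    Function.Bijective (RefHull.stalkMapₗ e.hom x) := by
  have hli : (RefHull.stalkMapₗ e.inv x).comp (RefHull.stalkMapₗ e.hom x) = LinearMap.id := by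
    rw [← RefFun.stalkMapₗ_comp, e.hom_inv_id, RefFun.stalkMapₗ_id]
  have hri : (RefHull.stalkMapₗ e.hom x).comp (RefHull.stalkMapₗ e.inv x) = LinearMap.id := by
    rw [← RefFun.stalkMapₗ_comp, e.inv_hom_id, RefFun.stalkMapₗ_id]
  refine ⟨fun v v' hvv' => ?_, fun v => ⟨RefHull.stalkMapₗ e.inv x v, ?_⟩⟩
  · have := congrArg (RefHull.stalkMapₗ e.inv x) hvv'
    rw [← LinearMap.comp_apply, ← LinearMap.comp_apply, hli] at this
    exact this
  · rw [← LinearMap.comp_apply, hri]
    rfl

theorem iso_iff_linearEquiv (X : Scheme.{u}) [IsIntegral X] [IsLocallyNoetherian X]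
    (hX : Pi1.IsNormalScheme X) (F G : X.Modules) (hF : RefHull.IsRef1 F) (hG : RefHull.IsRef1 G)
    (s : Cyc.secFibre F (genericPoint ↥X)) (hs : s ≠ 0) (t : Cyc.secFibre G (genericPoint ↥X))
    (ht : t ≠ 0) :
    Nonempty (F ≅ G) ↔
      ∃ f : ↑X.functionField, f ≠ 0 ∧
        ∀ (x : ↥X), Order.coheight x = 1 →
          Cyc.secOrdAt F (genericPoint ↥X) x
              ((genericPoint_spec ↥X).specializes (Set.mem_univ x)) s =
            Cyc.secOrdAt G (genericPoint ↥X) x
                ((genericPoint_spec ↥X).specializes (Set.mem_univ x)) t +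
              Scheme.ord f x := by
  haveI : F.IsQuasicoherent := hF.1.1
  haveI : G.IsQuasicoherent := hG.1.1
  have hηF := Groth.Agent.Lib.ReflRankOne82.exists_bijective_smul_genericPoint F hF.2.2
  have hηG := Groth.Agent.Lib.ReflRankOne82.exists_bijective_smul_genericPoint G hG.2.2
  obtain ⟨mF, hmF⟩ := hηF
  obtain ⟨mG, hmG⟩ := hηG
  obtain ⟨s', rfl⟩ := Submodule.Quotient.mk_surjective _ s
  obtain ⟨t', rfl⟩ := Submodule.Quotient.mk_surjective _ t
  have hs' : s' ≠ 0 := by
    rintro rfl
    exact hs rfl
  have ht' : t' ≠ 0 := by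
    rintro rfl
    exact ht rfl
  letI : Field (X.presheaf.stalk (genericPoint X)) := inferInstanceAs (Field X.functionField)
  have bs := bijective_smul_of_ne_zero (K := X.presheaf.stalk (genericPoint X)) hmF hs'
  have bt := bijective_smul_of_ne_zero (K := X.presheaf.stalk (genericPoint X)) hmG ht'
  constructor
  · rintro ⟨e⟩
    have hinj := (stalkMapₗ_iso_bijective e (genericPoint X)).1
    obtain ⟨f, hf⟩ := bt.2 (RefHull.stalkMapₗ e.hom (genericPoint X) s')
    have hf' : f • t' = RefHull.stalkMapₗ e.hom (genericPoint X) s' := hf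
    have hf0 : f ≠ 0 := by
      rintro rfl
      rw [zero_smul] at hf'
      exact hs' (hinj (hf'.symm.trans (map_zero _).symm))
    refine ⟨f, hf0, fun x hx => ?_⟩
    generalize (genericPoint_spec ↥X).specializes (Set.mem_univ x) = h
    have hdim := not_two_le_of_coheight_eq_one x hx
    obtain ⟨ex, hex⟩ := exists_bijective_smul_of_dim_le_one hX F hF x hdim
    have hgx : Function.Bijective
        (fun r : X.presheaf.stalk x => r • RefHull.stalkMapₗ e.hom x ex) := by
      have : (fun r : X.presheaf.stalk x => r • RefHull.stalkMapₗ e.hom x ex) =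
          (RefHull.stalkMapₗ e.hom x) ∘ (fun r : X.presheaf.stalk x => r • ex) := by
        funext r
        exact (map_smul _ _ _).symm
      rw [this]
      exact (stalkMapₗ_iso_bijective e x).comp hex
    obtain ⟨a, ha0, ha, hexη, e1⟩ := exists_ord_data hX F ⟨mF, hmF⟩ s' hs' x hx h ex hex
    obtain ⟨c, hc0, hc, hgxη, e2⟩ :=
      exists_ord_data hX G ⟨mG, hmG⟩ t' ht' x hx h (RefHull.stalkMapₗ e.hom x ex) hgx
    rw [e1, e2]
    have hrel : a = f * c := by
      apply hgxη.1
      change a • G.presheaf.stalkSpecializes h (RefHull.stalkMapₗ e.hom x ex) =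
        (f * c) • G.presheaf.stalkSpecializes h (RefHull.stalkMapₗ e.hom x ex)
      rw [mul_smul, hc, hf', ← ha, map_smul, stalkMapₗ_stalkSpecializes]
    rw [hrel, Scheme.ord_mul (X := X) (x := x) (show (f : X.functionField) ≠ 0 from hf0)
      (show (c : X.functionField) ≠ 0 from hc0)]
    ring
  · rintro ⟨f, hf0, hord⟩
    let εF : X.presheaf.stalk (genericPoint X) ≃ₗ[X.presheaf.stalk (genericPoint X)]
        F.presheaf.stalk (genericPoint X) :=
      LinearEquiv.ofBijective (LinearMap.toSpanSingleton _ _ s') bs
    let εG : X.presheaf.stalk (genericPoint X) ≃ₗ[X.presheaf.stalk (genericPoint X)]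
        G.presheaf.stalk (genericPoint X) :=
      LinearEquiv.ofBijective (LinearMap.toSpanSingleton _ _ t') bt
    let f' : X.presheaf.stalk (genericPoint X) := f
    let T : F.presheaf.stalk (genericPoint X) →ₗ[X.presheaf.stalk (genericPoint X)]
        G.presheaf.stalk (genericPoint X) :=
      (LinearMap.toSpanSingleton _ _ (f' • t')).comp εF.symm.toLinearMap
    let T' : G.presheaf.stalk (genericPoint X) →ₗ[X.presheaf.stalk (genericPoint X)]
        F.presheaf.stalk (genericPoint X) :=
      (LinearMap.toSpanSingleton _ _ (f'⁻¹ • s')).comp εG.symm.toLinearMap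
    have hf'0 : f' ≠ 0 := hf0
    have hTs : ∀ a : X.presheaf.stalk (genericPoint X), T (a • s') = (a * f') • t' := by
      intro a
      have h1 : εF.symm (a • s') = a := by
        rw [LinearEquiv.symm_apply_eq]
        rfl
      change (εF.symm (a • s')) • (f' • t') = _
      rw [h1, smul_smul]
    have hT's : ∀ a : X.presheaf.stalk (genericPoint X), T' (a • t') = (a * f'⁻¹) • s' := by
      intro a
      have h1 : εG.symm (a • t') = a := by
        rw [LinearEquiv.symm_apply_eq]
        rfl
      change (εG.symm (a • t')) • (f'⁻¹ • s') = _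
      rw [h1, smul_smul]
    have h1 : T'.comp T = LinearMap.id := by
      refine LinearMap.ext fun v => ?_
      obtain ⟨a, rfl⟩ := bs.2 v
      change T' (T (a • s')) = a • s'
      rw [hTs, hT's, mul_assoc, mul_inv_cancel₀ hf'0, mul_one]
    have h2 : T.comp T' = LinearMap.id := by
      refine LinearMap.ext fun v => ?_
      obtain ⟨a, rfl⟩ := bt.2 v
      change T (T' (a • t')) = a • t'
      rw [hT's, hTs, mul_assoc, inv_mul_cancel₀ hf'0, mul_one]
    have key : ∀ x : X, ringKrullDim (X.presheaf.stalk x) = 1 →
        Set.MapsTo ⇑T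
          (Set.range ⇑(F.presheaf.stalkSpecializes
            ((genericPoint_spec ↥X).specializes (Set.mem_univ x))).hom)
          (Set.range ⇑(G.presheaf.stalkSpecializes
            ((genericPoint_spec ↥X).specializes (Set.mem_univ x))).hom) ∧
        Set.MapsTo ⇑T'
          (Set.range ⇑(G.presheaf.stalkSpecializes
            ((genericPoint_spec ↥X).specializes (Set.mem_univ x))).hom)
          (Set.range ⇑(F.presheaf.stalkSpecializes
            ((genericPoint_spec ↥X).specializes (Set.mem_univ x))).hom) := by
      intro x hxdim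
      have hx : Order.coheight x = 1 := (ringKrullDim_eq_one_iff x).mp hxdim
      have hordx := hord x hx
      generalize (genericPoint_spec ↥X).specializes (Set.mem_univ x) = h at hordx ⊢
      have hdim := not_two_le_of_coheight_eq_one x hx
      obtain ⟨ex, hex⟩ := exists_bijective_smul_of_dim_le_one hX F hF x hdim
      obtain ⟨gx, hgx⟩ := exists_bijective_smul_of_dim_le_one hX G hG x hdim
      obtain ⟨a, ha0, ha, hexη, e1⟩ := exists_ord_data hX F ⟨mF, hmF⟩ s' hs' x hx h ex hex
      obtain ⟨c, hc0, hc, hgxη, e2⟩ := exists_ord_data hX G ⟨mG, hmG⟩ t' ht' x hx h gx hgx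
      rw [e1, e2] at hordx
      have hoa : Scheme.ord (X := X) ((a⁻¹ : X.presheaf.stalk (genericPoint X)) : X.functionField) x =
          - Scheme.ord (X := X) (a : X.functionField) x := ord_inv x (a : X.functionField) ha0
      have hoc : Scheme.ord (X := X) ((c⁻¹ : X.presheaf.stalk (genericPoint X)) : X.functionField) x =
          - Scheme.ord (X := X) (c : X.functionField) x := ord_inv x (c : X.functionField) hc0
      have hof : Scheme.ord (X := X) ((f'⁻¹ : X.presheaf.stalk (genericPoint X)) : X.functionField) x =
          - Scheme.ord (X := X) (f : X.functionField) x := ord_inv x (f : X.functionField) hf0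
      constructor
      · refine mapsTo_of_ord hX F G x hx h ex hex gx T (a⁻¹ * f' * c) ?_ ?_ ?_
        · exact mul_ne_zero (mul_ne_zero (inv_ne_zero ha0) hf'0) hc0
        · have : F.presheaf.stalkSpecializes h ex = a⁻¹ • s' := by
            rw [← ha, smul_smul, inv_mul_cancel₀ ha0, one_smul]
          rw [this, hTs, ← hc, smul_smul]
        · have h3 := Scheme.ord_mul (X := X) (x := x)
            (show ((a⁻¹ * f' : X.presheaf.stalk (genericPoint X)) : X.functionField) ≠ 0 from
              mul_ne_zero (inv_ne_zero ha0) hf'0)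
            (show (c : X.functionField) ≠ 0 from hc0)
          have h4 := Scheme.ord_mul (X := X) (x := x)
            (show ((a⁻¹ : X.presheaf.stalk (genericPoint X)) : X.functionField) ≠ 0 from
              inv_ne_zero ha0)
            (show (f : X.functionField) ≠ 0 from hf0)
          have h3' : Scheme.ord (X := X)
              ((a⁻¹ * f' * c : X.presheaf.stalk (genericPoint X)) : X.functionField) x =
              Scheme.ord (X := X)
                ((a⁻¹ * f' : X.presheaf.stalk (genericPoint X)) : X.functionField) x +
              Scheme.ord (X := X) (c : X.functionField) x := h3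
          have h4' : Scheme.ord (X := X)
              ((a⁻¹ * f' : X.presheaf.stalk (genericPoint X)) : X.functionField) x =
              Scheme.ord (X := X)
                ((a⁻¹ : X.presheaf.stalk (genericPoint X)) : X.functionField) x +
              Scheme.ord (X := X) (f : X.functionField) x := h4
          rw [h3', h4', hoa]
          omega
      · refine mapsTo_of_ord hX G F x hx h gx hgx ex T' (c⁻¹ * f'⁻¹ * a) ?_ ?_ ?_
        · exact mul_ne_zero (mul_ne_zero (inv_ne_zero hc0) (inv_ne_zero hf'0)) ha0
        · have : G.presheaf.stalkSpecializes h gx = c⁻¹ • t' := by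
            rw [← hc, smul_smul, inv_mul_cancel₀ hc0, one_smul]
          rw [this, hT's, ← ha, smul_smul]
        · have h3 := Scheme.ord_mul (X := X) (x := x)
            (show ((c⁻¹ * f'⁻¹ : X.presheaf.stalk (genericPoint X)) : X.functionField) ≠ 0 from
              mul_ne_zero (inv_ne_zero hc0) (inv_ne_zero hf'0))
            (show (a : X.functionField) ≠ 0 from ha0)
          have h4 := Scheme.ord_mul (X := X) (x := x)
            (show ((c⁻¹ : X.presheaf.stalk (genericPoint X)) : X.functionField) ≠ 0 from
              inv_ne_zero hc0)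
            (show ((f'⁻¹ : X.presheaf.stalk (genericPoint X)) : X.functionField) ≠ 0 from
              inv_ne_zero hf'0)
          have h3' : Scheme.ord (X := X)
              ((c⁻¹ * f'⁻¹ * a : X.presheaf.stalk (genericPoint X)) : X.functionField) x =
              Scheme.ord (X := X)
                ((c⁻¹ * f'⁻¹ : X.presheaf.stalk (genericPoint X)) : X.functionField) x +
              Scheme.ord (X := X) (a : X.functionField) x := h3
          have h4' : Scheme.ord (X := X)
              ((c⁻¹ * f'⁻¹ : X.presheaf.stalk (genericPoint X)) : X.functionField) x =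
              Scheme.ord (X := X)
                ((c⁻¹ : X.presheaf.stalk (genericPoint X)) : X.functionField) x +
              Scheme.ord (X := X)
                ((f'⁻¹ : X.presheaf.stalk (genericPoint X)) : X.functionField) x := h4
          rw [h3', h4', hoc, hof]
          omega
    obtain ⟨e, -⟩ := exists_iso_of_generic hX F G hF.1 hG.1 hF.2.1 hG.2.1 T T' h1 h2
      (fun x hx => (key x hx).1) (fun x hx => (key x hx).2)
    exact ⟨e⟩

end Groth.Agent.Lib.WeilCl53
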