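import Mathlib
import Groth.Agent.Lib.WeilCI

/-!
# Symmetry of Weil polynomials (helper61)

* `aeval_div_eq_zero`: for a Weil `q`-number `π` in any field of characteristic zero, `q / π` is
  again a root of the minimal polynomial of `π` over `ℤ`.
* `coeff_symm`: functional equation `a_{n-j} q^{n-j} = a_0 a_j` for a product of pairwise
  distinct minimal polynomials of Weil numbers.
-/

set_option autoImplicit false

namespace Groth.Agent.Lib.WeilSym61

open Groth.Agent.Lib.WeilCI

section Sym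

open Polynomial

/-- The polynomial `X^n P(q/X)`. -/
noncomputable def flip (q : ℤ) (P : ℤ[X]) : ℤ[X] := (P.reverse).scaleRoots q

lemma flip_ne_zero (q : ℤ) {P : ℤ[X]} (hP : P ≠ 0) : flip q P ≠ 0 :=
  scaleRoots_ne_zero (mt reverse_eq_zero.mp hP) q

lemma natDegree_flip_le (q : ℤ) (P : ℤ[X]) : (flip q P).natDegree ≤ P.natDegree := by
  rw [flip, natDegree_scaleRoots]; exact reverse_natDegree_le P

/-- if `x ≠ 0` is a root of `P` then `q / x` is a root of `flip q P`. -/
lemma aeval_flip {L : Type*} [Field L] (q : ℤ) (P : ℤ[X]) (x : L) (hx : x ≠ 0)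
    (h : aeval x P = 0) : aeval ((q : L) / x) (flip q P) = 0 := by
  have h1 : aeval (x⁻¹) P.reverse = 0 := by
    let _ : Invertible x := invertibleOfNonzero hx
    rw [aeval_def, ← invOf_eq_inv x, eval₂_reverse_eq_zero_iff, ← aeval_def]
    exact h
  have h2 := scaleRoots_aeval_eq_zero (r := q) h1
  rw [flip, div_eq_mul_inv]
  rw [eq_intCast (algebraMap ℤ L)] at h2
  exact h2

/-- For a Weil `q`-number `π`, the element `q / π` is a root of the minimal polynomial of `π`. -/
theorem aeval_div_eq_zero {K : Type*} [Field K] [CharZero K] (q : ℤ) (hq : 0 < q) (π : K)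
    (hint : IsIntegral ℤ π)
    (hweil : ∀ z ∈ (minpoly ℤ π).aroots ℂ, ‖z‖ = Real.sqrt (q : ℝ)) :
    aeval ((q : K) / π) (minpoly ℤ π) = 0 := by
  have hqR : (0 : ℝ) < (q : ℝ) := by exact_mod_cast hq
  have hr0 : 0 < Real.sqrt (q : ℝ) := Real.sqrt_pos.mpr hqR
  have hπ0 : π ≠ 0 := ne_zero_of_roots hint _ hr0 hweil
  set P := minpoly ℤ π with hP
  have hmonic : P.Monic := minpoly.monic hint
  have hirr : Irreducible P := minpoly.irreducible hint
  have hnpos : 0 < P.natDegree := minpoly.natDegree_pos hint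
  -- a complex root
  obtain ⟨z, hz⟩ : ∃ z : ℂ, aeval z P = 0 := by
    have : (P.map (algebraMap ℤ ℂ)).degree ≠ 0 := by
      rw [hmonic.degree_map, degree_eq_natDegree hmonic.ne_zero]
      exact_mod_cast hnpos.ne'
    obtain ⟨z, hz⟩ := IsAlgClosed.exists_root _ this
    exact ⟨z, by rwa [IsRoot.def, eval_map_algebraMap] at hz⟩
  have hzmem : z ∈ P.aroots ℂ := by
    rw [mem_aroots]; exact ⟨hmonic.ne_zero, hz⟩
  have hznorm := hweil z hzmem
  have hz0 : z ≠ 0 := by
    intro h0; rw [h0, norm_zero] at hznorm; exact hr0.ne hznorm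
  have hzz : z * (starRingEnd ℂ z) = (q : ℂ) := by
    rw [Complex.mul_conj, Complex.normSq_eq_norm_sq, hznorm, Real.sq_sqrt hqR.le]
    push_cast; rfl
  have hconj : aeval (starRingEnd ℂ z) P = 0 := by
    have := Polynomial.hom_eval₂ P (algebraMap ℤ ℂ) (starRingEnd ℂ) z
    rw [← aeval_def, hz, map_zero] at this
    rw [aeval_def]
    rw [show (starRingEnd ℂ).comp (algebraMap ℤ ℂ) = algebraMap ℤ ℂ from Subsingleton.elim _ _]
      at this
    exact this.symm
  have hc0 : starRingEnd ℂ z ≠ 0 := by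
    intro h0; rw [h0, mul_zero] at hzz
    exact hqR.ne' (by exact_mod_cast hzz.symm)
  have hQz : aeval z (flip q P) = 0 := by
    have := aeval_flip q P (starRingEnd ℂ z) hc0 hconj
    rwa [show (q : ℂ) / (starRingEnd ℂ z) = z by rw [← hzz]; field_simp] at this
  have hzint : IsIntegral ℤ z := ⟨P, hmonic, hz⟩
  have hPz : minpoly ℤ z = P := by
    have h1 : minpoly ℤ z ∣ P := minpoly.isIntegrallyClosed_dvd hzint hz
    have h2 := (minpoly.irreducible hzint).dvd_symm hirr h1
    exact eq_of_monic_of_associated (minpoly.monic hzint) hmonic (associated_of_dvd_dvd h1 h2)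
  have hdvd : P ∣ flip q P := by
    have h1 := minpoly.isIntegrallyClosed_dvd hzint hQz
    rwa [hPz] at h1
  obtain ⟨R, hR⟩ := hdvd
  have hQ0 : flip q P ≠ 0 := flip_ne_zero q hmonic.ne_zero
  have hR0 : R ≠ 0 := by
    rintro rfl; exact hQ0 (by rw [hR, mul_zero])
  have hRdeg : R.natDegree = 0 := by
    have h1 := natDegree_mul hmonic.ne_zero hR0
    rw [← hR] at h1
    have h2 := natDegree_flip_le q P
    omega
  obtain ⟨c, rfl⟩ : ∃ c, R = C c := ⟨R.coeff 0, eq_C_of_natDegree_eq_zero hRdeg⟩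
  have hc : c ≠ 0 := by
    rintro rfl; exact hR0 (by simp)
  have h3 := aeval_flip q P π hπ0 (minpoly.aeval ℤ π)
  rw [hR, map_mul, aeval_C] at h3
  rcases mul_eq_zero.mp h3 with h4 | h4
  · exact h4
  · exfalso
    rw [eq_intCast (algebraMap ℤ K)] at h4
    exact hc (by exact_mod_cast h4)


/-- Functional equation for the product of the minimal polynomials of pairwise nonconjugate
Weil `q`-numbers: `a_{n-j} q^{n-j} = a_0 a_j`. -/
theorem coeff_symm (q : ℤ) (hq : 0 < q) {ι : Type*} [Fintype ι] {K : ι → Type*}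
    [∀ i, Field (K i)] [∀ i, CharZero (K i)] (π : ∀ i, K i) (hint : ∀ i, IsIntegral ℤ (π i))
    (hweil : ∀ i, ∀ z ∈ (minpoly ℤ (π i)).aroots ℂ, ‖z‖ = Real.sqrt (q : ℝ))
    (hinj : ∀ i j, minpoly ℤ (π i) = minpoly ℤ (π j) → i = j) (j : ℕ)
    (hj : j ≤ (∏ i, minpoly ℤ (π i)).natDegree) :
    (∏ i, minpoly ℤ (π i)).coeff ((∏ i, minpoly ℤ (π i)).natDegree - j) *
        q ^ ((∏ i, minpoly ℤ (π i)).natDegree - j) =
      (∏ i, minpoly ℤ (π i)).coeff 0 * (∏ i, minpoly ℤ (π i)).coeff j := by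
  classical
  have hqR : (0 : ℝ) < (q : ℝ) := by exact_mod_cast hq
  have hr0 : 0 < Real.sqrt (q : ℝ) := Real.sqrt_pos.mpr hqR
  have hqne : q ≠ 0 := hq.ne'
  have hπ0 : ∀ i, π i ≠ 0 := fun i => ne_zero_of_roots (hint i) _ hr0 (hweil i)
  set Pw : ℤ[X] := ∏ i, minpoly ℤ (π i) with hPw
  have hmonic : Pw.Monic := monic_prod_of_monic _ _ (fun i _ => minpoly.monic (hint i))
  set n := Pw.natDegree with hn
  -- constant coefficient is nonzero
  have hc0 : Pw.coeff 0 ≠ 0 := by
    rw [hPw, coeff_zero_prod]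
    apply Finset.prod_ne_zero_iff.mpr
    intro i _ h0
    have h1 := abs_coeff_zero_of_roots (minpoly.monic (hint i)) _ (hweil i)
    rw [h0] at h1
    simp only [Int.cast_zero, abs_zero] at h1
    exact (pow_pos hr0 _).ne h1
  have hPwdiv : ∀ i, aeval ((q : K i) / π i) Pw = 0 := by
    intro i
    rw [hPw, map_prod]
    exact Finset.prod_eq_zero (Finset.mem_univ i) (aeval_div_eq_zero q hq (π i) (hint i) (hweil i))
  have hQπ : ∀ i, aeval (π i) (flip q Pw) = 0 := by
    intro i
    have hqK : (q : K i) ≠ 0 := by exact_mod_cast hqne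
    have h1 := aeval_flip q Pw ((q : K i) / π i) (div_ne_zero hqK (hπ0 i)) (hPwdiv i)
    rwa [div_div_cancel₀ hqK] at h1
  have hdvd : Pw ∣ flip q Pw := by
    apply prod_minpoly_dvd π hint hinj
    intro i
    exact minpoly.isIntegrallyClosed_dvd (hint i) (hQπ i)
  obtain ⟨R, hR⟩ := hdvd
  have hQ0 : flip q Pw ≠ 0 := flip_ne_zero q hmonic.ne_zero
  have hR0 : R ≠ 0 := by
    rintro rfl; exact hQ0 (by rw [hR, mul_zero])
  have hRdeg : R.natDegree = 0 := by
    have h1 := natDegree_mul hmonic.ne_zero hR0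
    rw [← hR] at h1
    have h2 := natDegree_flip_le q Pw
    omega
  obtain ⟨c, rfl⟩ : ∃ c, R = C c := ⟨R.coeff 0, eq_C_of_natDegree_eq_zero hRdeg⟩
  -- the degree of the reverse
  have hrevdeg : Pw.reverse.natDegree = n := by
    rw [reverse_natDegree]
    have : Pw.natTrailingDegree = 0 := by
      apply Nat.eq_zero_of_le_zero
      exact natTrailingDegree_le_of_ne_zero hc0
    rw [this, Nat.sub_zero]
  have hcoeff : ∀ k ≤ n, (flip q Pw).coeff k = Pw.coeff (n - k) * q ^ (n - k) := by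
    intro k hk
    rw [flip, coeff_scaleRoots, coeff_reverse, hrevdeg, revAt_le hk]
  have hc : c = Pw.coeff 0 := by
    have h1 := hcoeff n le_rfl
    rw [hR, mul_comm, coeff_C_mul, hn, hmonic.coeff_natDegree, mul_one, Nat.sub_self,
      pow_zero, mul_one] at h1
    exact h1
  have h2 := hcoeff j hj
  rw [hR, mul_comm Pw, coeff_C_mul, hc] at h2
  exact h2.symm

end Sym

open MvPolynomial in
/-- Existence of the "symmetric" element `h` with `F^D h ≡ P(F)` modulo `FV - q`. -/
theorem exists_h (q : ℤ) (D : ℕ) (Pw : Polynomial ℤ) (hdeg : Pw.natDegree = 2 * D) (ε : ℤ)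
    (hsym : ∀ r ≤ D, Pw.coeff (D - r) = ε * q ^ r * Pw.coeff (D + r)) :
    ∃ h : MvPolynomial (Fin 2) ℤ,
      X 0 ^ D * h - Polynomial.aeval (X 0 : MvPolynomial (Fin 2) ℤ) Pw ∈
        Ideal.span ({X 0 * X 1 - C q} : Set (MvPolynomial (Fin 2) ℤ)) := by
  classical
  set T1 : MvPolynomial (Fin 2) ℤ :=
    ∑ r ∈ Finset.range (D + 1), C (Pw.coeff (D + r)) * X 0 ^ (D + r) with hT1
  refine ⟨∑ r ∈ Finset.range (D + 1), C (Pw.coeff (D + r)) * X 0 ^ r +
    ∑ j ∈ Finset.range D, C (ε * Pw.coeff (2 * D - j)) * X 1 ^ (D - j), ?_⟩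
  have h1 : X 0 ^ D * (∑ r ∈ Finset.range (D + 1), C (Pw.coeff (D + r)) * X 0 ^ r +
      ∑ j ∈ Finset.range D, C (ε * Pw.coeff (2 * D - j)) * X 1 ^ (D - j)) =
      T1 + ∑ j ∈ Finset.range D,
        C (ε * Pw.coeff (2 * D - j)) * X 0 ^ D * X 1 ^ (D - j) := by
    rw [mul_add, Finset.mul_sum, Finset.mul_sum, hT1]
    congr 1
    · apply Finset.sum_congr rfl
      intro r _
      rw [pow_add]; ring
    · apply Finset.sum_congr rfl
      intro r _
      ring
  have h2 : Polynomial.aeval (X 0 : MvPolynomial (Fin 2) ℤ) Pw =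
      ∑ j ∈ Finset.range D, C (Pw.coeff j) * X 0 ^ j + T1 := by
    rw [Polynomial.aeval_eq_sum_range, hdeg, show 2 * D + 1 = D + (D + 1) by ring,
      Finset.sum_range_add, hT1]
    congr 1
    · apply Finset.sum_congr rfl
      intro r _
      rw [Algebra.smul_def]; rfl
    · apply Finset.sum_congr rfl
      intro r _
      rw [Algebra.smul_def]; rfl
  rw [h1, h2, add_comm T1, add_sub_add_right_eq_sub, ← Finset.sum_sub_distrib]
  apply Ideal.sum_mem
  intro j hj
  rw [Finset.mem_range] at hj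
  have h3 := hsym (D - j) (Nat.sub_le _ _)
  rw [show D - (D - j) = j by omega, show D + (D - j) = 2 * D - j by omega] at h3
  have h4 : C (ε * Pw.coeff (2 * D - j)) * X 0 ^ D * X 1 ^ (D - j) - C (Pw.coeff j) * X 0 ^ j =
      C (ε * Pw.coeff (2 * D - j)) * X 0 ^ j *
        ((X 0 * X 1) ^ (D - j) - (C q : MvPolynomial (Fin 2) ℤ) ^ (D - j)) := by
    rw [h3]
    have h5 : (X 0 : MvPolynomial (Fin 2) ℤ) ^ D = X 0 ^ j * X 0 ^ (D - j) := by
      rw [← pow_add]; congr 1; omega
    rw [h5]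
    simp only [map_mul, map_pow]
    ring
  rw [h4]
  apply Ideal.mul_mem_left
  obtain ⟨u, hu⟩ := sub_dvd_pow_sub_pow (X 0 * X 1 : MvPolynomial (Fin 2) ℤ) (C q) (D - j)
  rw [hu]
  exact Ideal.mul_mem_right _ _ (Ideal.subset_span rfl)

/-- Height of an ideal `(g, h)` in a Noetherian domain, where `(g)` is a nonzero prime not
containing `h`. -/
theorem height_pair {R : Type*} [CommRing R] [IsDomain R] [IsNoetherianRing R] (g h : R)
    (hg : g ≠ 0) (hgp : (Ideal.span {g}).IsPrime) (hh : h ∉ Ideal.span {g})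
    (hI : Ideal.span {g, h} ≠ ⊤) : (Ideal.span {g, h}).height = 2 := by
  apply le_antisymm
  · refine (Ideal.height_le_spanFinrank _ hI).trans ?_
    have h1 : ((Ideal.span {g, h} : Ideal R).spanFinrank : ℕ∞) ≤ ({g, h} : Set R).encard :=
      Submodule.spanFinrank_span_le_encard _
    refine h1.trans ?_
    exact Set.encard_insert_le _ _ |>.trans (by rw [Set.encard_singleton]; norm_num)
  · rw [Ideal.height_eq_inf_minimalPrimes]
    refine le_iInf₂ fun J hJ => ?_
    have hJp : J.IsPrime := hJ.1.1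
    have hIJ : Ideal.span {g, h} ≤ J := hJ.1.2
    have hgJ : Ideal.span {g} < J := by
      refine lt_of_le_of_ne ?_ ?_
      · rw [Ideal.span_le, Set.singleton_subset_iff]
        exact hIJ (Ideal.subset_span (Set.mem_insert _ _))
      · rintro rfl
        exact hh (hIJ (Ideal.subset_span (Set.mem_insert_of_mem _ rfl)))
    have hbot : (⊥ : Ideal R) < Ideal.span {g} := by
      rw [bot_lt_iff_ne_bot]
      intro h0
      exact hg (Ideal.span_singleton_eq_bot.mp h0)
    have hbp : (⊥ : Ideal R).IsPrime := Ideal.isPrime_bot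
    have h1 := Ideal.height_add_one_le_of_lt_of_isPrime hbot
    have h2 := Ideal.height_add_one_le_of_lt_of_isPrime hgJ
    have h3 : (1 : ℕ∞) ≤ (Ideal.span {g}).height := le_trans (by simp) h1
    calc (2 : ℕ∞) = 1 + 1 := by norm_num
      _ ≤ (Ideal.span {g}).height + 1 := by gcongr
      _ ≤ J.height := h2

end Groth.Agent.Lib.WeilSym61
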