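import Mathlib
import Groth.Agent.Lib.WeilCI
import Groth.Agent.Lib.WeilSym61
import Groth.Agent.Lib.H26CIGor
import Groth.Agent.S17984

/-!
# The minimal central order of Weil numbers of even total degree is Gorenstein (helper61)
-/

set_option autoImplicit false
universe u

namespace Groth.Agent.Lib.WeilGor61

open Groth.Agent.Lib.WeilCI Groth.Agent.Lib.WeilSym61

section Abstract

open Polynomial

variable {A : Type*} [CommRing A] (S : Setup A)

/-- The images of `e n`, `-D ≤ n < D`, form a `ℤ`-basis of the image of any ring map out of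
`ℤ[F,V]/(FV-q)` killing `h` and whose kernel meets `ℤ[F]` in `(P_w)`. -/
theorem basis_data (D : ℕ) (Pw : ℤ[X]) (hmonic : Pw.Monic) (hdeg : Pw.natDegree = 2 * D)
    (ε : ℤ) (hε : ε * ε = 1) (hc0 : Pw.coeff 0 = ε * S.q ^ D) (h : A)
    (hh : S.F ^ D * h = Polynomial.aeval S.F Pw)
    {B : Type*} [CommRing B] (f : A →+* B) (hfh : f h = 0)
    (hKc : ∀ c : ℤ[X], f (Polynomial.aeval S.F c) = 0 → Pw ∣ c) :
    (∀ x : A, ∃ w : ℤ → ℤ, f x = ∑ n ∈ Finset.Ico (-(D:ℤ)) D, w n • f (S.e n)) ∧
    (∀ w : ℤ → ℤ, ∑ n ∈ Finset.Ico (-(D:ℤ)) D, w n • f (S.e n) = 0 →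
      ∀ n ∈ Finset.Ico (-(D:ℤ)) D, w n = 0) := by
  obtain ⟨z, hzD, hzmD, hz⟩ := S.h_expansion D Pw hmonic hdeg ε hc0 h hh
  have hgD := S.good_eD z hzD hz
  have hgm := S.good_emD z ε hε hzmD hz
  constructor
  · intro x
    obtain ⟨y, w, rfl⟩ := S.all_good hgD hgm x
    refine ⟨w, ?_⟩
    rw [map_add, map_mul, hfh, mul_zero, zero_add, map_sum]
    apply Finset.sum_congr rfl
    intro n _
    rw [map_zsmul]
  · intro w hw m hm
    set x₀ : A := ∑ n ∈ Finset.Ico (-(D:ℤ)) D, w n • S.e n with hx₀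
    have hfx : f x₀ = 0 := by
      rw [hx₀, map_sum, ← hw]
      apply Finset.sum_congr rfl
      intro n _
      rw [map_zsmul]
    set c : ℤ[X] := ∑ n ∈ Finset.Ico (-(D:ℤ)) D,
      Polynomial.C (w n * S.q ^ (-n).toNat) * X ^ (n + D).toNat with hc
    have hcF : Polynomial.aeval S.F c = S.F ^ D * x₀ := by
      rw [hc, map_sum, hx₀, Finset.mul_sum]
      apply Finset.sum_congr rfl
      intro n hn
      rw [Finset.mem_Ico] at hn
      rw [mul_smul_comm]
      show _ = w n • (S.F ^ D * ee S.F S.V n)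
      rw [F_pow_mul_ee S.hFV, ee_of_nonneg _ _ (by omega : (0:ℤ) ≤ n + D),
        min_eq_right (by omega : (-n).toNat ≤ D), map_mul, aeval_C, map_pow, aeval_X,
        zsmul_eq_mul, ← mul_assoc]
      congr 1
      rw [eq_intCast (algebraMap ℤ A)]
      push_cast; rfl
    have hdvd : Pw ∣ c := hKc c (by rw [hcF, map_mul, hfx, mul_zero])
    have hcdeg : c.degree < Pw.degree := by
      rw [Polynomial.degree_eq_natDegree hmonic.ne_zero, hdeg, ← Polynomial.mem_degreeLT]
      rw [hc]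
      apply Submodule.sum_mem
      intro n hn
      rw [Finset.mem_Ico] at hn
      rw [Polynomial.mem_degreeLT]
      refine lt_of_le_of_lt (Polynomial.degree_C_mul_X_pow_le _ _) ?_
      exact_mod_cast (by omega : (n + D).toNat < 2 * D)
    have hc0' : c = 0 := Polynomial.eq_zero_of_dvd_of_degree_lt hdvd hcdeg
    have hx0 : x₀ = 0 := by
      apply S.F_pow_mul_eq_zero D
      rw [← hcF, hc0', map_zero]
    have h1 := congrArg (fun y => (S.ψ y).coeff m) hx0
    simp only [hx₀, S.coeff_ψ_sum, if_pos hm, map_zero] at h1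
    rcases _root_.mul_eq_zero.mp h1 with h2 | h2
    · exact h2
    · exact absurd h2 (pow_ne_zero _ S.q_ne)

end Abstract

/-- A subalgebra of a `ℤ`-algebra with a finite `ℤ`-basis indexed by a finset of integers. -/
theorem addEquiv_of_basis_data {B : Type*} [CommRing B] (R : Subalgebra ℤ B) (s : Finset ℤ)
    (v : ℤ → B) (hv : ∀ n ∈ s, v n ∈ R)
    (hspan : ∀ x ∈ R, ∃ w : ℤ → ℤ, x = ∑ n ∈ s, w n • v n)
    (hli : ∀ w : ℤ → ℤ, ∑ n ∈ s, w n • v n = 0 → ∀ n ∈ s, w n = 0) :
    Nonempty ((↥s → ℤ) ≃+ ↥R) := by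
  classical
  set L : (↥s → ℤ) →ₗ[ℤ] B := Fintype.linearCombination ℤ (fun n : ↥s => v n) with hL
  have hLapp : ∀ g : ↥s → ℤ, L g = ∑ i : ↥s, g i • v i := fun g => by
    rw [hL, Fintype.linearCombination_apply]
  have hext : ∀ g : ↥s → ℤ, L g =
      ∑ n ∈ s, (fun n => if hn : n ∈ s then g ⟨n, hn⟩ else 0) n • v n := by
    intro g
    rw [hLapp, ← Finset.sum_coe_sort s]
    apply Finset.sum_congr rfl
    intro i _
    show g i • v ↑i = (if hn : (i : ℤ) ∈ s then g ⟨i, hn⟩ else 0) • v ↑i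
    rw [dif_pos i.2]
  have hLinj : Function.Injective L := by
    rw [← LinearMap.ker_eq_bot, LinearMap.ker_eq_bot']
    intro g hg
    rw [hext] at hg
    have h1 := hli _ hg
    funext i
    have h2 : (if hn : (i : ℤ) ∈ s then g ⟨i, hn⟩ else 0) = 0 := h1 i.1 i.2
    rw [dif_pos i.2] at h2
    exact h2
  have hLrange : LinearMap.range L = Subalgebra.toSubmodule R := by
    apply le_antisymm
    · rintro _ ⟨g, rfl⟩
      rw [hLapp]
      apply Submodule.sum_mem
      intro i _
      exact Submodule.smul_mem _ _ (hv i.1 i.2)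
    · intro x hx
      obtain ⟨w, rfl⟩ := hspan x hx
      refine ⟨fun i => w i.1, ?_⟩
      rw [hLapp]
      exact Finset.sum_coe_sort s (fun n => w n • v n)
  exact ⟨((LinearEquiv.ofInjective L hLinj).trans
    ((LinearEquiv.ofEq _ _ hLrange).trans R.toSubmoduleEquiv)).toAddEquiv⟩

section Dim

variable {R S : Type*} [CommRing R] [CommRing S] [Algebra R S]

/-- An injective integral extension preserves the Krull dimension. -/
theorem ringKrullDim_eq_of_isIntegral_of_injective [Algebra.IsIntegral R S]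
    (hinj : Function.Injective (algebraMap R S)) : ringKrullDim R = ringKrullDim S := by
  apply le_antisymm
  · rw [ringKrullDim, Order.krullDim]
    refine iSup_le fun l ↦ ?_
    obtain ⟨Q, -, hQ, hQc⟩ := Ideal.exists_ideal_over_prime_of_isIntegral
      (S := S) l.head.asIdeal ⊥ (by
        rw [← RingHom.ker_eq_comap_bot, (RingHom.injective_iff_ker_eq_bot _).mp hinj]
        exact bot_le)
    have : Q.LiesOver l.head.asIdeal := ⟨hQc.symm⟩
    obtain ⟨L, hL, -, -⟩ := Ideal.exists_ltSeries_of_hasGoingUp l Q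
    rw [← hL]
    exact Order.LTSeries.length_le_krullDim L
  · exact Order.krullDim_le_of_strictMono
      (fun I ↦ ⟨Ideal.comap (algebraMap R S) I.asIdeal, inferInstance⟩)
      (fun I J hIJ ↦ by
        have : I.asIdeal < J.asIdeal := hIJ
        exact Ideal.IsIntegral.comap_lt_comap (R := R) this)

end Dim


section Main

open MvPolynomial

lemma map_ee {A B : Type*} [CommRing A] [CommRing B] (f : A →+* B) (F V : A) (n : ℤ) :
    f (ee F V n) = ee (f F) (f V) n := by
  unfold ee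
  split_ifs <;> rw [map_pow]

/-- The minimal central order of a family of pairwise nonconjugate Weil `q`-numbers of even
total degree `2D` is free of rank `2D`, of Krull dimension one, and Gorenstein. -/
theorem main (p e : ℕ) [Fact p.Prime] (he : 0 < e)
    (ι : Type) [Fintype ι] (K : ι → Type u) [∀ i, Field (K i)] [∀ i, CharZero (K i)] (π : ∀ i, K i)
    (hint : ∀ i, IsIntegral ℤ (π i))
    (hweil : ∀ i, ∀ z ∈ (minpoly ℤ (π i)).aroots ℂ, ‖z‖ = Real.sqrt ((p : ℝ) ^ e))
    (hinj : ∀ i j, minpoly ℤ (π i) = minpoly ℤ (π j) → i = j)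
    [Nonempty ι] (D : ℕ) (hD : ∑ i, (minpoly ℤ (π i)).natDegree = 2 * D) :
    Module.Free ℤ (MvPolynomial.aeval ![fun i => π i, fun i => ((p : K i) ^ e) / π i] :
        MvPolynomial (Fin 2) ℤ →ₐ[ℤ] ((i : ι) → K i)).range ∧
      Module.finrank ℤ (MvPolynomial.aeval ![fun i => π i, fun i => ((p : K i) ^ e) / π i] :
        MvPolynomial (Fin 2) ℤ →ₐ[ℤ] ((i : ι) → K i)).range = 2 * D ∧
      ringKrullDim (MvPolynomial.aeval ![fun i => π i, fun i => ((p : K i) ^ e) / π i] :
        MvPolynomial (Fin 2) ℤ →ₐ[ℤ] ((i : ι) → K i)).range = 1 ∧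
      LocCoh.IsGorensteinRing (MvPolynomial.aeval ![fun i => π i, fun i => ((p : K i) ^ e) / π i] :
        MvPolynomial (Fin 2) ℤ →ₐ[ℤ] ((i : ι) → K i)).range := by
  classical
  have hp0 : 0 < p := (Fact.out : p.Prime).pos
  set q : ℤ := (p:ℤ)^e with hq
  have hqpos : 0 < q := pow_pos (by exact_mod_cast hp0) _
  have hqne : q ≠ 0 := hqpos.ne'
  set r : ℝ := Real.sqrt ((p:ℝ)^e) with hr
  have hpe : (0:ℝ) < (p:ℝ)^e := by positivity
  have hr0 : 0 < r := Real.sqrt_pos.mpr hpe
  have hqR : ((q : ℤ) : ℝ) = (p:ℝ)^e := by rw [hq]; push_cast; rfl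
  have hr2 : r^2 = (q:ℝ) := by
    rw [hr, Real.sq_sqrt hpe.le, hqR]
  have hweil' : ∀ i, ∀ z ∈ (minpoly ℤ (π i)).aroots ℂ, ‖z‖ = Real.sqrt (q : ℝ) := by
    intro i z hz
    rw [hqR]; exact hweil i z hz
  have hπ0 : ∀ i, π i ≠ 0 := fun i => ne_zero_of_roots (hint i) r hr0 (hweil i)
  set Pw : Polynomial ℤ := ∏ i, minpoly ℤ (π i) with hPw
  have hPwmonic : Pw.Monic :=
    Polynomial.monic_prod_of_monic _ _ (fun i _ => minpoly.monic (hint i))
  have hPwdeg : Pw.natDegree = 2 * D := by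
    rw [hPw, Polynomial.natDegree_prod_of_monic _ _ (fun i _ => minpoly.monic (hint i)), hD]
  have habs : |((Pw.coeff 0 : ℤ) : ℝ)| = (q:ℝ)^D := by
    rw [hPw, Polynomial.coeff_zero_prod]
    push_cast
    rw [Finset.abs_prod]
    have : ∀ i ∈ Finset.univ, |(((minpoly ℤ (π i)).coeff 0 : ℤ) : ℝ)| =
        r ^ (minpoly ℤ (π i)).natDegree :=
      fun i _ => abs_coeff_zero_of_roots (minpoly.monic (hint i)) r (hweil i)
    rw [Finset.prod_congr rfl this, Finset.prod_pow_eq_pow_sum, hD, pow_mul, hr2]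
  obtain ⟨ε, hε, hc0⟩ : ∃ ε : ℤ, ε * ε = 1 ∧ Pw.coeff 0 = ε * q^D := by
    have h1 : |Pw.coeff 0| = q^D := by exact_mod_cast habs
    rcases (abs_eq (pow_pos hqpos D).le).mp h1 with h | h
    · exact ⟨1, by norm_num, by rw [h]; ring⟩
    · exact ⟨-1, by norm_num, by rw [h]; ring⟩
  -- the symmetric element `h`
  have hsym : ∀ r ≤ D, Pw.coeff (D - r) = ε * q ^ r * Pw.coeff (D + r) := by
    intro r hr
    have h1 := coeff_symm q hqpos π hint hweil' hinj (D + r) (by rw [← hPw, hPwdeg]; omega)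
    rw [← hPw, hPwdeg, show 2 * D - (D + r) = D - r by omega, hc0] at h1
    have h2 : q ^ D = q ^ (D - r) * q ^ r := by rw [← pow_add]; congr 1; omega
    rw [h2] at h1
    have h3 : q ^ (D - r) ≠ 0 := pow_ne_zero _ hqne
    apply mul_right_cancel₀ h3
    rw [h1]; ring
  obtain ⟨h, hh⟩ := exists_h q D Pw hPwdeg ε hsym
  obtain ⟨hker, hreg⟩ := Groth.Agent.S17984.result p e he ι K π hint hweil hinj D hD h hh
  set I0 : Ideal (MvPolynomial (Fin 2) ℤ) := Ideal.span {gg q} with hI0
  set φ := (MvPolynomial.aeval ![fun i => π i, fun i => ((p : K i) ^ e) / π i] :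
    MvPolynomial (Fin 2) ℤ →ₐ[ℤ] ((i : ι) → K i)) with hφ
  have hgg : (X 0 * X 1 - C ((p : ℤ) ^ e) : MvPolynomial (Fin 2) ℤ) = gg q := rfl
  rw [hgg] at hker
  have hφ0 : φ (X 0) = fun i => π i := by simp [hφ]
  have hφg : φ (gg q) = 0 := by
    have : gg q ∈ RingHom.ker φ := by
      rw [hker]; exact Ideal.subset_span (Set.mem_insert _ _)
    exact this
  have hφh : φ h = 0 := by
    have : h ∈ RingHom.ker φ := by
      rw [hker]; exact Ideal.subset_span (Set.mem_insert_of_mem _ rfl)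
    exact this
  have hI0ker : I0 ≤ RingHom.ker φ := by
    rw [hI0, Ideal.span_le]
    intro x hx
    rw [Set.mem_singleton_iff] at hx
    rw [hx]; exact hφg
  have hφc : ∀ (c : Polynomial ℤ) (i : ι),
      φ (Polynomial.aeval (X 0 : MvPolynomial (Fin 2) ℤ) c) i = Polynomial.aeval (π i) c := by
    intro c i
    rw [← Polynomial.aeval_algHom_apply φ (X 0) c, hφ0]
    exact (Polynomial.aeval_algHom_apply (Pi.evalAlgHom ℤ K i) (fun i => π i) c).symm
  let S := concrete q hqne
  set mk := Ideal.Quotient.mk I0 with hmk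
  have hSF : S.F = mk (X 0) := rfl
  have haev : ∀ c : Polynomial ℤ, Polynomial.aeval S.F c =
      mk (Polynomial.aeval (X 0 : MvPolynomial (Fin 2) ℤ) c) := by
    intro c
    rw [hSF, Polynomial.aeval_def, Polynomial.aeval_def, Polynomial.hom_eval₂]
    congr 1
  have hhS : S.F ^ D * mk h = Polynomial.aeval S.F Pw := by
    rw [haev, hSF, ← map_pow, ← map_mul]
    exact Ideal.Quotient.eq.mpr hh
  have hmkh : mk h ≠ 0 := S.h_ne_zero D Pw hPwmonic (mk h) hhS
  -- the induced map on the quotient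
  set f : (MvPolynomial (Fin 2) ℤ ⧸ I0) →+* ((i : ι) → K i) :=
    Ideal.Quotient.lift I0 φ.toRingHom hI0ker with hf
  have hfmk : ∀ x, f (mk x) = φ x := fun x => Ideal.Quotient.lift_mk I0 _ _
  have hKc : ∀ c : Polynomial ℤ, f (Polynomial.aeval S.F c) = 0 → Pw ∣ c := by
    intro c hc
    rw [haev, hfmk] at hc
    apply prod_minpoly_dvd π hint hinj
    intro i
    apply minpoly.isIntegrallyClosed_dvd (hint i)
    rw [← hφc, hc]; rfl
  obtain ⟨hsp, hli⟩ := basis_data S D Pw hPwmonic hPwdeg ε hε hc0 (mk h) hhS f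
    (by rw [hfmk]; exact hφh) hKc
  -- the additive equivalence with `ℤ^{2D}`
  have hfrange : ∀ x, f x ∈ φ.range := by
    intro x
    obtain ⟨y, rfl⟩ := Ideal.Quotient.mk_surjective x
    rw [hfmk]; exact ⟨y, rfl⟩
  obtain ⟨eq1⟩ := addEquiv_of_basis_data φ.range (Finset.Ico (-(D:ℤ)) D) (fun n => f (S.e n))
    (fun n _ => hfrange _)
    (by
      rintro _ ⟨y, rfl⟩
      obtain ⟨w, hw⟩ := hsp (mk y)
      exact ⟨w, by rw [← hw, hfmk]; rfl⟩)
    hli
  have hcard : Fintype.card ↥(Finset.Ico (-(D:ℤ)) D) = 2 * D := by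
    rw [Fintype.card_coe, Int.card_Ico]; omega
  let eq2 : (↥(Finset.Ico (-(D:ℤ)) D) → ℤ) ≃ₗ[ℤ] ↥φ.range := eq1.toIntLinearEquiv
  have hfree : Module.Free ℤ φ.range := Module.Free.of_equiv eq2
  have hfinrank : Module.finrank ℤ φ.range = 2 * D := by
    rw [← eq2.finrank_eq, Module.finrank_fintype_fun_eq_card, hcard]
  have hfin : Module.Finite ℤ φ.range := Module.Finite.equiv eq2
  refine ⟨hfree, hfinrank, ?_, ?_⟩
  · -- Krull dimension
    have hint' : Algebra.IsIntegral ℤ φ.range := inferInstance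
    have hinj' : Function.Injective (algebraMap ℤ φ.range) := by
      intro a b hab
      have h1 := congrArg (fun x : φ.range => (x : (i : ι) → K i)) hab
      obtain ⟨i₀⟩ := ‹Nonempty ι›
      have h2 := congrFun h1 i₀
      simp only [SubalgebraClass.coe_algebraMap, Pi.algebraMap_apply] at h2
      exact (algebraMap ℤ (K i₀)).injective_int h2
    rw [← ringKrullDim_eq_of_isIntegral_of_injective hinj']
    exact IsPrincipalIdealRing.ringKrullDim_eq_one ℤ Int.not_isField
  · -- Gorenstein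
    have hI0prime : I0.IsPrime := by
      rw [← Ideal.Quotient.isDomain_iff_prime]
      have : Nontrivial (MvPolynomial (Fin 2) ℤ ⧸ I0) := ⟨⟨mk h, 0, hmkh⟩⟩
      have : NoZeroDivisors (MvPolynomial (Fin 2) ℤ ⧸ I0) :=
        ⟨fun {a b} hab => S.mul_eq_zero a b hab⟩
      exact NoZeroDivisors.to_isDomain _
    have hg0 : gg q ≠ 0 := by
      intro h0
      have := congrArg (MvPolynomial.eval (fun _ => (0:ℤ))) h0
      simp [gg] at this
      exact hqne this
    have hhnot : h ∉ I0 := fun hc => hmkh (Ideal.Quotient.eq_zero_iff_mem.mpr hc)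
    have hne : Ideal.span {gg q, h} ≠ ⊤ := by
      rw [← hker]; exact RingHom.ker_ne_top _
    have hht : (Ideal.span {gg q, h}).height = 2 :=
      height_pair (gg q) h hg0 hI0prime hhnot hne
    -- lift to the universe of the `K i`
    let eP : MvPolynomial (ULift.{u} (Fin 2)) ℤ ≃ₐ[ℤ] MvPolynomial (Fin 2) ℤ :=
      MvPolynomial.renameEquiv ℤ Equiv.ulift
    set g' : MvPolynomial (ULift.{u} (Fin 2)) ℤ := eP.symm (gg q) with hg'
    set h' : MvPolynomial (ULift.{u} (Fin 2)) ℤ := eP.symm h with hh'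
    have hrange : Set.range ![g', h'] = {g', h'} := by
      ext x
      simp only [Matrix.range_cons, Matrix.range_empty, Set.union_empty, Set.mem_union,
        Set.mem_singleton_iff, Set.mem_insert_iff]
    have hcomap : Ideal.comap eP.toRingEquiv (Ideal.span {gg q, h}) =
        Ideal.span (Set.range ![g', h']) := by
      rw [hrange, ← Ideal.map_symm, Ideal.map_span, Set.image_pair]
      rfl
    have hht' : (Ideal.span (Set.range ![g', h'])).height = (2 : ℕ) := by
      rw [← hcomap, RingEquiv.height_comap]; exact_mod_cast hht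
    have hG := Groth.Agent.Lib.H26CIGor.isGorensteinRing_quotient_span_range
      (MvPolynomial (ULift.{u} (Fin 2)) ℤ) 2 ![g', h'] hht'
    let f' : MvPolynomial (ULift.{u} (Fin 2)) ℤ →+* φ.range :=
      (φ.rangeRestrict.toRingHom).comp eP.toRingEquiv.toRingHom
    have hf'surj : Function.Surjective f' :=
      φ.rangeRestrict_surjective.comp eP.surjective
    have hf'ker : RingHom.ker f' = Ideal.span (Set.range ![g', h']) := by
      rw [← hcomap, ← hker]
      ext x
      rw [RingHom.mem_ker, Ideal.mem_comap, RingHom.mem_ker]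
      constructor
      · intro hx
        have := congrArg (fun y : φ.range => (y : (i : ι) → K i)) hx
        exact this
      · intro hx
        apply Subtype.ext
        exact hx
    exact Groth.Agent.Lib.H26CIGor.isGorensteinRing_of_ringEquiv
      ((Ideal.quotEquivOfEq hf'ker.symm).trans (RingHom.quotientKerEquivOfSurjective hf'surj))

end Main

end Groth.Agent.Lib.WeilGor61
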