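import Mathlib
import Groth.Prelude.Def_Flatn
import Groth.Prelude.Def_Flat
import Groth.Prelude.Def_WeilRes
import Groth.Agent.Lib.WeilGlue37
import Groth.Agent.Lib.WeilGlueMain37
import Groth.Agent.Lib.AbsRepLocus37
import Groth.Agent.Lib.MorLocus37
import Groth.Agent.Lib.MorOpenSub37

/-!
# Weil restriction along a finite locally free, universally injective morphism (helper37)

* `rep_of_subfunctor`: abstract: a subfunctor `G ⊆ F` cut out by `α b = pt` with `F`, `F0`
  representable is representable (by an equalizer).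
* `main_univInj`: `Mor_S(Z, X)` is representable for `Z ⟶ S` finite locally free and universally
  injective, and ANY `X ⟶ S` (the fibres of `T ×_S Z ⟶ T` have at most one point, so the loci of the
  affine opens of `X` cover).
* `main`: the Weil restriction functor of an arbitrary `X'` over `S'` along a finite locally free
  universal homeomorphism `S' ⟶ S` is representable.
-/

set_option autoImplicit false
universe u v w
open CategoryTheory CategoryTheory.Limits AlgebraicGeometry Opposite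

namespace Groth.Agent.Lib.WeilResUH37

open Groth.Agent.Lib
open Groth.Agent.Lib.WeilGlue37 Groth.Agent.Lib.MorLocus37 Groth.Agent.Lib.MorOpenSub37

section Abstract

theorem rep_of_subfunctor {C : Type w} [Category.{v} C] [HasEqualizers C]
    (G F F0 : Cᵒᵖ ⥤ Type v)
    (i : ∀ T : C, G.obj (op T) → F.obj (op T))
    (hi_nat : ∀ (T' T : C) (h : T' ⟶ T) (c : G.obj (op T)),
      i T' (G.map h.op c) = F.map h.op (i T c))
    (α : ∀ T : C, F.obj (op T) → F0.obj (op T))
    (hα_nat : ∀ (T' T : C) (h : T' ⟶ T) (b : F.obj (op T)),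
      α T' (F.map h.op b) = F0.map h.op (α T b))
    (pt : ∀ T : C, F0.obj (op T))
    (hpt : ∀ (T' T : C) (h : T' ⟶ T), F0.map h.op (pt T) = pt T')
    (hi_inj : ∀ T, Function.Injective (i T))
    (hi_range : ∀ T (b : F.obj (op T)), α T b = pt T ↔ ∃ c, i T c = b)
    (M N : C) (eM : F.RepresentableBy M) (eN : F0.RepresentableBy N) :
    ∃ E : C, Nonempty (G.RepresentableBy E) := by
  obtain ⟨a₁, ha₁e⟩ : ∃ a₁ : M ⟶ N, eN.homEquiv a₁ = α M (eM.homEquiv (𝟙 M)) :=
    ⟨eN.homEquiv.symm _, Equiv.apply_symm_apply _ _⟩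
  obtain ⟨a₂, ha₂e⟩ : ∃ a₂ : M ⟶ N, eN.homEquiv a₂ = pt M :=
    ⟨eN.homEquiv.symm _, Equiv.apply_symm_apply _ _⟩
  have ha₁ : ∀ (T : C) (t : T ⟶ M), eN.homEquiv (t ≫ a₁) = α T (eM.homEquiv t) := by
    intro T t
    rw [eN.homEquiv_comp, ha₁e, ← hα_nat, ← eM.homEquiv_comp, Category.comp_id]
  have ha₂ : ∀ (T : C) (t : T ⟶ M), eN.homEquiv (t ≫ a₂) = pt T := by
    intro T t
    rw [eN.homEquiv_comp, ha₂e, hpt]
  have hiff : ∀ (T : C) (t : T ⟶ M), t ≫ a₁ = t ≫ a₂ ↔ α T (eM.homEquiv t) = pt T := by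
    intro T t
    rw [← ha₁, ← ha₂]
    exact eN.homEquiv.injective.eq_iff.symm
  have h1 : ∀ (T : C) (t : T ⟶ equalizer a₁ a₂),
      ∃! c : G.obj (op T), i T c = eM.homEquiv (t ≫ equalizer.ι a₁ a₂) := by
    intro T t
    have h1 : (t ≫ equalizer.ι a₁ a₂) ≫ a₁ = (t ≫ equalizer.ι a₁ a₂) ≫ a₂ := by
      rw [Category.assoc, Category.assoc, equalizer.condition]
    obtain ⟨c, hc⟩ := (hi_range T _).mp ((hiff T _).mp h1)
    exact ⟨c, hc, fun c' hc' => hi_inj T (hc'.trans hc.symm)⟩
  have h2 : ∀ (T : C) (c : G.obj (op T)),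
      ∃! t : T ⟶ equalizer a₁ a₂, i T c = eM.homEquiv (t ≫ equalizer.ι a₁ a₂) := by
    intro T c
    have h1 : eM.homEquiv.symm (i T c) ≫ a₁ = eM.homEquiv.symm (i T c) ≫ a₂ := by
      rw [hiff, Equiv.apply_symm_apply]
      exact (hi_range T _).mpr ⟨c, rfl⟩
    refine ⟨equalizer.lift _ h1, ?_, ?_⟩
    · change i T c = eM.homEquiv (equalizer.lift _ h1 ≫ equalizer.ι a₁ a₂)
      rw [equalizer.lift_ι, Equiv.apply_symm_apply]
    · intro t' ht'
      change i T c = eM.homEquiv (t' ≫ equalizer.ι a₁ a₂) at ht'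
      apply equalizer.hom_ext
      rw [equalizer.lift_ι, ht', Equiv.symm_apply_apply]
  have h3 : ∀ (T' T : C) (h : T' ⟶ T) (t : T ⟶ equalizer a₁ a₂) (c : G.obj (op T)),
      i T c = eM.homEquiv (t ≫ equalizer.ι a₁ a₂) →
      i T' (G.map h.op c) = eM.homEquiv ((h ≫ t) ≫ equalizer.ι a₁ a₂) := by
    intro T' T h t c hc
    rw [hi_nat, hc, ← eM.homEquiv_comp, Category.assoc]
  obtain ⟨R, -⟩ := exists_representableBy_of_rel G (equalizer a₁ a₂)
    (fun T t c => i T c = eM.homEquiv (t ≫ equalizer.ι a₁ a₂)) h1 h2 h3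
  exact ⟨_, ⟨R⟩⟩

end Abstract

section Mor

variable {S Z X : Scheme.{u}} (g : Z ⟶ S) (f : X ⟶ S)

/-- **Affine base**, with the covering hypothesis stated directly. -/
theorem rep_of_isAffine_base' [IsAffine S] [IsFinite g] (hflat : Flat g)
    (hfp : LocallyOfFinitePresentation g)
    (hcov : ∀ ⦃T : Scheme.{u}⦄ (ξ : (tot (Flatn.morS g f)).obj (op T)) (t : T),
      ∃ a : X.affineOpens, t ∈ loc g f (a : X.Opens) ξ) :
    ∃ W : Over S, Nonempty ((Flatn.morS g f).RepresentableBy W) := by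
  have hfin : IsFinite g := inferInstance
  have hloc : ∀ a : X.affineOpens, ∃ W' : Over S,
      Nonempty ((Flatn.morS g ((a : X.Opens).ι ≫ f)).RepresentableBy W') := by
    intro a
    haveI : IsAffine (a : X.Opens).toScheme := a.2
    obtain ⟨W', -, hW'⟩ := WeilGlueMain37.local_rep g ((a : X.Opens).ι ≫ f) hfin hflat hfp
    exact ⟨W', hW'⟩
  choose W' hW' using hloc
  let R : ∀ a : X.affineOpens, (Flatn.morS g ((a : X.Opens).ι ≫ f)).RepresentableBy (W' a) :=
    fun a => (hW' a).some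
  let F : Scheme.{u}ᵒᵖ ⥤ Type u := tot (Flatn.morS g f)
  let LF : X.affineOpens → ∀ ⦃T : Scheme.{u}⦄, F.obj (op T) → T.Opens :=
    fun a T ξ => loc g f (a : X.Opens) ξ
  have hL : ∀ a ⦃T T' : Scheme.{u}⦄ (r : T' ⟶ T) (ξ : F.obj (op T)),
      LF a (F.map r.op ξ) = r ⁻¹ᵁ LF a ξ := fun a T T' r ξ => loc_map g f _ r ξ
  let ζ : ∀ a : X.affineOpens, F.obj (op (W' a).left) :=
    fun a => zetaU g f (a : X.Opens) (W' a) (R a)
  have hζ : ∀ a, LF a (ζ a) = ⊤ := fun a => loc_zetaU g f _ (W' a) (R a)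
  have huniv : ∀ a ⦃T : Scheme.{u}⦄ (ξ : F.obj (op T)), LF a ξ = ⊤ →
      ∃! gT : T ⟶ (W' a).left, F.map gT.op (ζ a) = ξ :=
    fun a T ξ hξ => zetaU_universal g f _ (W' a) (R a) ξ hξ
  have hcov' : ∀ ⦃T : Scheme.{u}⦄ (ξ : F.obj (op T)) (t : T), ∃ a, t ∈ LF a ξ :=
    fun T ξ t => hcov ξ t
  obtain ⟨V, ε, hε⟩ := AbsRepLocus37.exists_universal F LF hL ζ hζ huniv
    (isSheaf_tot_morS g f) hcov'
  exact ⟨Over.mk ε.1, representableBy_of_universal _ ε hε⟩

/-- if the fibres of `T ×_S Z ⟶ T` have at most one point, the loci of the affine opens cover -/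
theorem exists_affine_loc_of_inj [IsFinite g]
    (hinj : ∀ (T : Scheme.{u}) (q : T ⟶ S), Function.Injective (pullback.fst q g))
    {T : Scheme.{u}} (ξ : (tot (Flatn.morS g f)).obj (op T)) (t : T) :
    ∃ U : X.affineOpens, t ∈ loc g f (U : X.Opens) ξ := by
  by_cases h : ∃ y : ↥(pullback ξ.1 g), (pullback.fst ξ.1 g) y = t
  · obtain ⟨y₀, hy₀⟩ := h
    obtain ⟨U, hU, hxU⟩ : ∃ U : X.Opens, IsAffineOpen U ∧ (secL g f ξ.1 ξ.2) y₀ ∈ U := by
      obtain ⟨_, ⟨U, hU, rfl⟩, hx, -⟩ := (X.isBasis_affineOpens).exists_subset_of_mem_open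
        (Set.mem_univ ((secL g f ξ.1 ξ.2) y₀)) isOpen_univ
      exact ⟨U, hU, hx⟩
    refine ⟨⟨U, hU⟩, ?_⟩
    intro y hy
    have h1 : y = y₀ := hinj T ξ.1 (hy.trans hy₀.symm)
    rw [h1]
    exact hxU
  · refine ⟨⟨⊥, isAffineOpen_bot X⟩, ?_⟩
    intro y hy
    exact (h ⟨y, hy⟩).elim

/-- universal injectivity is stable under base change -/
theorem inj_baseChange
    (hinj : ∀ (T : Scheme.{u}) (q : T ⟶ S), Function.Injective (pullback.fst q g))
    {S₀ : Scheme.{u}} (j : S₀ ⟶ S) (T : Scheme.{u}) (q : T ⟶ S₀) :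
    Function.Injective (pullback.fst q (pullback.snd g j)) := by
  have h1 : IsPullback (pullback.snd q (pullback.snd g j)) (pullback.fst q (pullback.snd g j))
      (pullback.snd g j) q := (IsPullback.of_hasPullback q (pullback.snd g j)).flip
  have h2 : IsPullback (pullback.fst g j) (pullback.snd g j) g j := IsPullback.of_hasPullback g j
  have h3 := (h1.paste_horiz h2).flip
  have h4 : h3.isoPullback.hom ≫ pullback.fst (q ≫ j) g = pullback.fst q (pullback.snd g j) :=
    h3.isoPullback_hom_fst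
  have hinv : ∀ y, h3.isoPullback.inv (h3.isoPullback.hom y) = y := by
    intro y
    rw [← Scheme.Hom.comp_apply, Iso.hom_inv_id]
    rfl
  intro y₁ y₂ hy
  have h5 : h3.isoPullback.hom y₁ = h3.isoPullback.hom y₂ := by
    apply hinj _ (q ≫ j)
    rw [← Scheme.Hom.comp_apply, ← Scheme.Hom.comp_apply, h4]
    exact hy
  rw [← hinv y₁, ← hinv y₂, h5]

/-- **Representability of `Mor_S(Z, X)`** for `Z` finite locally free and universally injective
over `S`, and `X` arbitrary. -/
theorem main_univInj (hfin : IsFinite g) (hflat : Flat g) (hfp : LocallyOfFinitePresentation g)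
    (hinj : ∀ (T : Scheme.{u}) (q : T ⟶ S), Function.Injective (pullback.fst q g)) :
    ∃ W : Over S, Nonempty ((Flatn.morS g f).RepresentableBy W) := by
  refine rep_of_local g f (fun a => ?_)
  haveI : IsAffine (a : S.Opens).toScheme := a.2
  haveI : IsFinite (pullback.snd g (a : S.Opens).ι) :=
    MorphismProperty.pullback_snd (P := @IsFinite) _ _ hfin
  exact rep_of_isAffine_base' (pullback.snd g (a : S.Opens).ι) (pullback.snd f (a : S.Opens).ι)
    (MorphismProperty.pullback_snd (P := @Flat) _ _ hflat)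
    (MorphismProperty.pullback_snd (P := @LocallyOfFinitePresentation) _ _ hfp)
    (fun T ξ t => exists_affine_loc_of_inj _ _
      (fun T' q => inj_baseChange g hinj (a : S.Opens).ι T' q) ξ t)

end Mor

section Weil

variable {S S' : Scheme.{u}} (p : S' ⟶ S) (X' : Over S')

/-- the tautological section `T ×_S S' ⟶ S'` -/
noncomputable def iotaT (T : Over S) : (Flatn.morS p p).obj (op T) :=
  (Over.homMk (pullback.snd T.hom p) rfl :
    (Over.map p).obj ((Over.pullback p).obj T) ⟶ Over.mk p)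

lemma iotaT_map {T' T : Over S} (φ : T' ⟶ T) :
    (Flatn.morS p p).map φ.op (iotaT p T) = iotaT p T' := by
  apply Over.OverMorphism.ext
  change ((Over.pullback p).map φ).left ≫ pullback.snd T.hom p = pullback.snd T'.hom p
  exact Over.w ((Over.pullback p).map φ)

/-- an `S'`-morphism `T ×_S S' ⟶ X'` as an `S`-morphism -/
noncomputable def toMor (T : Over S) (c : (WeilRes.functor p X').obj (op T)) :
    (Flatn.morS p (X'.hom ≫ p)).obj (op T) :=
  (Over.homMk ((c : (Over.pullback p).obj T ⟶ X').left) (by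
      change (c : (Over.pullback p).obj T ⟶ X').left ≫ X'.hom ≫ p =
        pullback.snd T.hom p ≫ p
      rw [← Category.assoc]
      exact congrArg (· ≫ p) (Over.w (c : (Over.pullback p).obj T ⟶ X'))) :
    (Over.map p).obj ((Over.pullback p).obj T) ⟶ Over.mk (X'.hom ≫ p))

lemma toMor_injective (T : Over S) : Function.Injective (toMor p X' T) := by
  intro c c' h
  have h1 := congrArg (fun φ => CommaMorphism.left φ) h
  change (c : (Over.pullback p).obj T ⟶ X').left =
    (c' : (Over.pullback p).obj T ⟶ X').left at h1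
  change (c : (Over.pullback p).obj T ⟶ X') = c'
  exact Over.OverMorphism.ext h1

lemma toMor_map {T' T : Over S} (φ : T' ⟶ T) (c : (WeilRes.functor p X').obj (op T)) :
    toMor p X' T' ((WeilRes.functor p X').map φ.op c) =
      (Flatn.morS p (X'.hom ≫ p)).map φ.op (toMor p X' T c) := by
  apply Over.OverMorphism.ext
  rfl

lemma inclJ_toMor (T : Over S) (c : (WeilRes.functor p X').obj (op T)) :
    inclJ p p X'.hom T (toMor p X' T c) = iotaT p T := by
  apply Over.OverMorphism.ext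
  change (c : (Over.pullback p).obj T ⟶ X').left ≫ X'.hom = pullback.snd T.hom p
  exact Over.w (c : (Over.pullback p).obj T ⟶ X')

lemma exists_of_inclJ_eq (T : Over S) (b : (Flatn.morS p (X'.hom ≫ p)).obj (op T))
    (hb : inclJ p p X'.hom T b = iotaT p T) : ∃ c, toMor p X' T c = b := by
  have h1 := congrArg (fun φ => CommaMorphism.left φ) hb
  change (b : (Over.map p).obj ((Over.pullback p).obj T) ⟶ Over.mk (X'.hom ≫ p)).left ≫ X'.hom =
      pullback.snd T.hom p at h1
  refine ⟨(Over.homMk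
    ((b : (Over.map p).obj ((Over.pullback p).obj T) ⟶ Over.mk (X'.hom ≫ p)).left) h1 :
      (Over.pullback p).obj T ⟶ X'), ?_⟩
  apply Over.OverMorphism.ext
  rfl

/-- **Weil restriction along a finite locally free universal homeomorphism**, of an arbitrary
scheme. -/
theorem main [IsFinite p] [Flat p] [LocallyOfFinitePresentation p]
    (hp : FlatMor.IsUnivHomeo p) :
    ∃ E : Over S, Nonempty ((WeilRes.functor p X').RepresentableBy E) := by
  have hinj : ∀ (T : Scheme.{u}) (q : T ⟶ S), Function.Injective (pullback.fst q p) := by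
    intro T q
    have h1 := hp (pullback.snd q p) q (pullback.fst q p) (IsPullback.of_hasPullback q p)
    exact (h1 : IsHomeomorph _).injective
  obtain ⟨M, ⟨eM⟩⟩ := main_univInj p (X'.hom ≫ p) inferInstance inferInstance inferInstance hinj
  obtain ⟨N, ⟨eN⟩⟩ := main_univInj p p inferInstance inferInstance inferInstance hinj
  exact rep_of_subfunctor (WeilRes.functor p X') (Flatn.morS p (X'.hom ≫ p)) (Flatn.morS p p)
    (toMor p X') (fun T' T h c => toMor_map p X' h c)
    (inclJ p p X'.hom) (fun T' T h b => inclJ_map p p X'.hom h b)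
    (iotaT p) (fun T' T h => iotaT_map p h)
    (toMor_injective p X')
    (fun T b => ⟨exists_of_inclJ_eq p X' T b, fun ⟨c, hc⟩ => hc ▸ inclJ_toMor p X' T c⟩)
    M N eM eN

end Weil

end Groth.Agent.Lib.WeilResUH37
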