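import Groth.Agent.Lib.Weitz38f
import Groth.Agent.Lib.SLnInt38
import Mathlib.Algebra.Module.PID
import Mathlib.Algebra.Polynomial.Module.AEval
import Mathlib.RingTheory.AdjoinRoot
import Mathlib.LinearAlgebra.Matrix.ToLin
import Mathlib.LinearAlgebra.Finsupp.VectorSpace

/-!
# The Jordan normal form of a nilpotent matrix and Weitzenböck's theorem (helper38)
-/

set_option autoImplicit false
set_option linter.unusedSectionVars false
universe u
open Polynomial DirectSum Submodule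

noncomputable section

namespace Groth.Agent.Lib.Weitz38g


theorem dfinsupp_basis_apply {ι : Type*} [DecidableEq ι] {R : Type*} [Semiring R] {η : ι → Type*} {M : ι → Type*}
    [∀ i, AddCommMonoid (M i)] [∀ i, Module R (M i)] (b : ∀ i, Module.Basis (η i) R (M i)) (i : ι) (j : η i) :
    DFinsupp.basis b ⟨i, j⟩ = DFinsupp.single i (b i j) := by
  apply (DFinsupp.basis b).repr.injective
  rw [Module.Basis.repr_self]
  simp only [DFinsupp.basis, LinearEquiv.trans_apply, DFinsupp.mapRange.linearEquiv_apply,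
    DFinsupp.mapRange_single, Module.Basis.repr_self]
  symm
  rw [LinearEquiv.symm_apply_eq]
  exact (sigmaFinsuppEquivDFinsupp_single (⟨i, j⟩ : Σ i, η i) (1 : R)).symm

variable {k : Type u} [Field k]

/-- The identity, as a linear equivalence. -/
def toQ (k : Type u) [Field k] (e : ℕ) : AdjoinRoot ((X : k[X]) ^ e) ≃ₗ[k] (k[X] ⧸ (k[X] ∙ (X : k[X]) ^ e)) where
  toFun x := x
  invFun x := x
  map_add' _ _ := rfl
  map_smul' c x := by
    obtain ⟨p, rfl⟩ := AdjoinRoot.mk_surjective x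
    rfl
  left_inv _ := rfl
  right_inv _ := rfl

/-- The basis `1, X, …, X^(e-1)` of `k[X]/(X^e)`. -/
def qb (k : Type u) [Field k] (e : ℕ) : Module.Basis (Fin e) k (k[X] ⧸ (k[X] ∙ (X : k[X]) ^ e)) :=
  (((AdjoinRoot.powerBasis' (monic_X_pow (R := k) e)).basis).reindex
    (finCongr ((AdjoinRoot.powerBasis'_dim _).trans (natDegree_X_pow e)))).map (toQ k e)

theorem qb_apply (e : ℕ) (j : Fin e) : qb k e j = Submodule.Quotient.mk ((X : k[X]) ^ (j : ℕ)) := by
  rw [qb, Module.Basis.map_apply, Module.Basis.reindex_apply, PowerBasis.basis_eq_pow, AdjoinRoot.powerBasis'_gen]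
  rw [AdjoinRoot.root, ← map_pow]
  rfl

theorem B0_apply {d : ℕ} (e : Fin d → ℕ) (b : Fin d) (j : Fin (e b)) :
    (DFinsupp.basis (fun i => qb k (e i))) ⟨b, j⟩ =
      DFinsupp.single b (Submodule.Quotient.mk ((X : k[X]) ^ (j : ℕ))) := by
  rw [dfinsupp_basis_apply, qb_apply]

theorem exists_jordan_basis {n : ℕ} (M : Matrix (Fin n) (Fin n) k) (hM : IsNilpotent M) :
    ∃ (d : ℕ) (e : Fin d → ℕ) (B : Module.Basis (Σ b : Fin d, Fin (e b)) k (Fin n → k)),
      ∀ (b : Fin d) (j : Fin (e b)),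
        M.mulVec (B ⟨b, j⟩) = if h : (j : ℕ) + 1 < e b then B ⟨b, ⟨j + 1, h⟩⟩ else 0 := by
  classical
  let φ : (Fin n → k) →ₗ[k] (Fin n → k) := Matrix.toLin' M
  obtain ⟨m, hm⟩ := hM
  have hφ : φ ^ m = 0 := by
    rw [← Matrix.toLin'_pow, hm, map_zero]
  have htors : Module.IsTorsion' (Module.AEval' φ) (Submonoid.powers (X : k[X])) := by
    rw [Submodule.isTorsion'_powers_iff]
    intro x
    refine ⟨m, ?_⟩
    obtain ⟨v, rfl⟩ := (Module.AEval'.of φ).surjective x
    rw [Module.AEval'.X_pow_smul_of, hφ]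
    simp
  obtain ⟨d, e, ⟨Φ⟩⟩ := Module.torsion_by_prime_power_decomposition irreducible_X htors
  let Φk : Module.AEval' φ ≃ₗ[k] ⨁ i : Fin d, k[X] ⧸ (k[X] ∙ (X : k[X]) ^ e i) := Φ.restrictScalars k
  let B0 := DFinsupp.basis (fun i => qb k (e i))
  let B := B0.map (Φk.symm.trans (Module.AEval'.of φ).symm)
  have h1 : ∀ (b : Fin d) (j : Fin (e b)), B ⟨b, j⟩ = (Module.AEval'.of φ).symm
      (Φ.symm (DFinsupp.single b (Submodule.Quotient.mk ((X : k[X]) ^ (j : ℕ))))) := by
    intro b j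
    have hB0 : B0 ⟨b, j⟩ = DFinsupp.single b (Submodule.Quotient.mk ((X : k[X]) ^ (j : ℕ))) := B0_apply e b j
    change (Module.AEval'.of φ).symm (Φ.symm (B0 ⟨b, j⟩)) = _
    rw [hB0]
  have h2 : ∀ (b : Fin d) (j : ℕ), M.mulVec ((Module.AEval'.of φ).symm
      (Φ.symm (DFinsupp.single b (Submodule.Quotient.mk ((X : k[X]) ^ j))))) = (Module.AEval'.of φ).symm
      (Φ.symm (DFinsupp.single b (Submodule.Quotient.mk ((X : k[X]) ^ (j + 1))))) := by
    intro b j
    rw [← Matrix.toLin'_apply]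
    change φ _ = _
    rw [← Module.AEval'.of_symm_X_smul, ← map_smul, ← DFinsupp.single_smul, ← Submodule.Quotient.mk_smul,
      smul_eq_mul, ← pow_succ']
  refine ⟨d, e, B, ?_⟩
  intro b j
  rw [h1, h2]
  split_ifs with h
  · rw [h1]
  · have : (j : ℕ) + 1 = e b := by
      have := j.2
      omega
    rw [this]
    have h0 : (Submodule.Quotient.mk ((X : k[X]) ^ e b) : k[X] ⧸ (k[X] ∙ (X : k[X]) ^ e b)) = 0 :=
      (Submodule.Quotient.mk_eq_zero _).2 (Submodule.mem_span_singleton_self _)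
    rw [h0, DFinsupp.single_zero, map_zero, map_zero]


end Groth.Agent.Lib.Weitz38g
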