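import Groth.Agent.Lib.Weitz38g

/-!
# Weitzenböck's theorem (helper38)

The kernel of a linear locally nilpotent derivation of a polynomial ring over an algebraically closed field of
characteristic zero is finitely generated.
-/

set_option autoImplicit false
set_option linter.unusedSectionVars false
universe u
open TensorProduct CoordGrp MvPolynomial

noncomputable section

namespace Groth.Agent.Lib.Weitz38h
open Groth.Agent.Lib.Comod Groth.Agent.Lib.Cartier38 Groth.Agent.Lib.SLnForms38
  Groth.Agent.Lib.Weitz38a Groth.Agent.Lib.Weitz38b Groth.Agent.Lib.Weitz38c Groth.Agent.Lib.Weitz38d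
  Groth.Agent.Lib.Weitz38e Groth.Agent.Lib.Weitz38f Groth.Agent.Lib.Weitz38g Groth.Agent.Lib.HilbertFin38

section Jordan
variable {k : Type u} [Field k]

/-- The Jordan normal form of a nilpotent matrix, with the set of blocks in the universe of the field. -/
theorem exists_jordan {n : ℕ} (M : Matrix (Fin n) (Fin n) k) (hM : IsNilpotent M) :
    ∃ (𝔅 : Type u) (_ : Fintype 𝔅) (_ : DecidableEq 𝔅) (sz : 𝔅 → ℕ) (B : Module.Basis (J sz) k (Fin n → k)),
      ∀ (b : 𝔅) (j : Fin (sz b)),
        M.mulVec (B ⟨b, j⟩) = if h : (j : ℕ) + 1 < sz b then B ⟨b, ⟨j + 1, h⟩⟩ else 0 := by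
  obtain ⟨d, e, B, hB⟩ := exists_jordan_basis M hM
  let eqv : (Σ b : Fin d, Fin (e b)) ≃ (Σ b : ULift.{u} (Fin d), Fin (e b.down)) :=
    { toFun := fun x => ⟨⟨x.1⟩, x.2⟩
      invFun := fun x => ⟨x.1.down, x.2⟩
      left_inv := fun _ => rfl
      right_inv := fun _ => rfl }
  refine ⟨ULift.{u} (Fin d), inferInstance, inferInstance, fun b => e b.down, B.reindex eqv, ?_⟩
  rintro ⟨b⟩ j
  simp only [Module.Basis.reindex_apply]
  exact hB b j

variable {n : ℕ}

/-- The linear form with given coefficients. -/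
def lin {ι : Type*} [Fintype ι] : (ι → k) →ₗ[k] MvPolynomial ι k :=
  Fintype.linearCombination k (fun i => (X i : MvPolynomial ι k))

theorem lin_apply {ι : Type*} [Fintype ι] (v : ι → k) : lin v = ∑ i, v i • (X i : MvPolynomial ι k) :=
  Fintype.linearCombination_apply _ _ _

theorem lin_single {ι : Type*} [Fintype ι] [DecidableEq ι] (i : ι) :
    lin (Pi.single i (1 : k)) = (X i : MvPolynomial ι k) := by
  rw [lin_apply, Finset.sum_eq_single i]
  · rw [Pi.single_eq_same, one_smul]
  · intro j _ hj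
    rw [Pi.single_eq_of_ne hj, zero_smul]
  · intro h
    exact absurd (Finset.mem_univ i) h

/-- The linear derivation with matrix `M`. -/
def dM (M : Matrix (Fin n) (Fin n) k) : Derivation k (MvPolynomial (Fin n) k) (MvPolynomial (Fin n) k) :=
  mkDerivation k (fun j : Fin n => ∑ i : Fin n, M i j • (X i : MvPolynomial (Fin n) k))

theorem dM_lin (M : Matrix (Fin n) (Fin n) k) (v : Fin n → k) : dM M (lin v) = lin (M.mulVec v) := by
  rw [lin_apply, map_sum, lin_apply]
  simp only [Derivation.map_smul, dM, mkDerivation_X, Matrix.mulVec, dotProduct, Finset.smul_sum, smul_smul,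
    Finset.sum_smul]
  rw [Finset.sum_comm]
  apply Finset.sum_congr rfl
  intro i _
  apply Finset.sum_congr rfl
  intro j _
  rw [mul_comm]

variable {𝔅 : Type u} [Fintype 𝔅] [DecidableEq 𝔅] {sz : 𝔅 → ℕ} (B : Module.Basis (J sz) k (Fin n → k))

/-- The linear change of variables given by a basis. -/
def psi : MvPolynomial (J sz) k →ₐ[k] MvPolynomial (Fin n) k := aeval (fun x => lin (B x))

/-- The inverse change of variables. -/
def psiInv : MvPolynomial (Fin n) k →ₐ[k] MvPolynomial (J sz) k :=
  aeval (fun i => lin (B.equivFun (Pi.single i 1)))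

theorem psi_lin (w : J sz → k) : psi B (lin w) = lin (B.equivFun.symm w) := by
  have h : (psi B).toLinearMap ∘ₗ lin = lin ∘ₗ B.equivFun.symm.toLinearMap := by
    apply (Pi.basisFun k (J sz)).ext
    intro x
    simp only [LinearMap.comp_apply, Pi.basisFun_apply, AlgHom.toLinearMap_apply, LinearEquiv.coe_coe]
    rw [lin_single, psi, aeval_X, Module.Basis.equivFun_symm_apply]
    congr 1
    rw [Finset.sum_eq_single x]
    · rw [Pi.single_eq_same, one_smul]
    · intro y _ hy
      rw [Pi.single_eq_of_ne hy, zero_smul]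
    · intro h
      exact absurd (Finset.mem_univ x) h
  exact LinearMap.congr_fun h w

theorem psiInv_lin (v : Fin n → k) : psiInv B (lin v) = lin (B.equivFun v) := by
  have h : (psiInv B).toLinearMap ∘ₗ lin = lin ∘ₗ B.equivFun.toLinearMap := by
    apply (Pi.basisFun k (Fin n)).ext
    intro i
    simp only [LinearMap.comp_apply, Pi.basisFun_apply, AlgHom.toLinearMap_apply, LinearEquiv.coe_coe]
    rw [lin_single, psiInv, aeval_X]
  exact LinearMap.congr_fun h v

/-- The change of variables is an isomorphism. -/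
def psiEquiv : MvPolynomial (J sz) k ≃ₐ[k] MvPolynomial (Fin n) k :=
  AlgEquiv.ofAlgHom (psi B) (psiInv B)
    (by
      apply MvPolynomial.algHom_ext
      intro i
      rw [AlgHom.comp_apply, AlgHom.id_apply, ← lin_single, psiInv_lin, psi_lin, LinearEquiv.symm_apply_apply])
    (by
      apply MvPolynomial.algHom_ext
      intro x
      rw [AlgHom.comp_apply, AlgHom.id_apply, ← lin_single, psi_lin, psiInv_lin, LinearEquiv.apply_symm_apply])

theorem psiEquiv_apply (f : MvPolynomial (J sz) k) : psiEquiv B f = psi B f := rfl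

theorem dM_psi (M : Matrix (Fin n) (Fin n) k)
    (hB : ∀ (b : 𝔅) (j : Fin (sz b)),
      M.mulVec (B ⟨b, j⟩) = if h : (j : ℕ) + 1 < sz b then B ⟨b, ⟨j + 1, h⟩⟩ else 0)
    (f : MvPolynomial (J sz) k) : dM M (psi B f) = psi B (Fd k sz f) := by
  apply comm_of_comm_X
  rintro ⟨b, j⟩
  rw [psi, aeval_X, dM_lin, hB, Fd, mkDerivation_X, Yv]
  split_ifs with h
  · rw [aeval_X]
  · rw [map_zero, map_zero]

end Jordan

section Main
variable {k : Type u} [Field k] [IsAlgClosed k] [CharZero k]

attribute [local instance] PC PCA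

/-- **Weitzenböck's theorem.** -/
theorem weitzenboeck (n : ℕ) (M : Matrix (Fin n) (Fin n) k) (hM : IsNilpotent M) :
    ∃ S : Subalgebra k (MvPolynomial (Fin n) k), S.FG ∧
      ∀ f : MvPolynomial (Fin n) k, f ∈ S ↔
        mkDerivation k (fun j : Fin n => ∑ i : Fin n, M i j • (X i : MvPolynomial (Fin n) k)) f = 0 := by
  classical
  obtain ⟨𝔅₀, _, _, sz₀, B, hB⟩ := exists_jordan M hM
  have hψ := dM_psi B M hB
  obtain ⟨T, hTinv, hTgen⟩ := exists_finset_invariants_adjoin (k := k) (A := SLn 2 k) (ι := J (szE sz₀))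
    Groth.Agent.Lib.SLnInt38.isLinearlyReductive_SLn (PLin (szE sz₀))
  let θ : MvPolynomial (J (szE sz₀)) k →ₐ[k] MvPolynomial (Fin n) k := (psi B).comp (ev k sz₀)
  refine ⟨Algebra.adjoin k ((T.image θ : Finset (MvPolynomial (Fin n) k)) : Set (MvPolynomial (Fin n) k)),
    ⟨T.image θ, rfl⟩, ?_⟩
  intro f
  change f ∈ _ ↔ dM M f = 0
  constructor
  · intro hf
    induction hf using Algebra.adjoin_induction with
    | mem x hx =>
      rw [Finset.coe_image] at hx
      obtain ⟨G, hG, rfl⟩ := hx
      have h1 : Fd k (szE sz₀) G = 0 := Fd_of_mem_invariants (szE sz₀) (hTinv G hG)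
      change dM M (psi B (ev k sz₀ G)) = 0
      rw [hψ, Fd_ev, h1, map_zero, map_zero]
    | algebraMap r => exact Derivation.map_algebraMap _ r
    | add x y _ _ hx hy => rw [map_add, hx, hy, add_zero]
    | mul x y _ _ hx hy => rw [Derivation.leibniz, hx, hy, smul_zero, smul_zero, add_zero]
  · intro hf
    obtain ⟨f₀, rfl⟩ := (psiEquiv B).surjective f
    rw [psiEquiv_apply, hψ] at hf
    have hF : Fd k sz₀ f₀ = 0 := by
      apply (psiEquiv B).injective
      rw [psiEquiv_apply, hf, map_zero]
    obtain ⟨G, hE, hF', hH, rfl⟩ := (ker_Fd_iff k sz₀ f₀).1 hF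
    have hG := hTgen G (mem_invariants_of_lie (szE sz₀) hE hF' hH)
    rw [Finset.coe_image, ← AlgHom.map_adjoin]
    exact ⟨G, hG, rfl⟩

end Main

end Groth.Agent.Lib.Weitz38h
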