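import Mathlib.RingTheory.PowerSeries.Order
import Mathlib.RingTheory.PowerSeries.Trunc
import Mathlib.RingTheory.PowerSeries.Inverse
import Mathlib.Algebra.CharP.LinearMaps
import Mathlib.Algebra.CharP.Lemmas
import Mathlib.Algebra.Ring.GeomSum
import Mathlib.Tactic

/-!
# Automorphisms of order `p` of `k[[u]]` in characteristic `p`

For a `k`-algebra automorphism `σ` of `k[[X]]` with `ord (σ X - X) = m + 1`:
* `dvd_apply_sub'`: `X^(m+1) ∣ σ w - w` for all `w`;
* `order_apply_sub`: `ord (σ g - g) = ord g + m` when `p ∤ ord g` (and `m ≥ 1`);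
* if `σ^p = 1`: `one_le_break`, `not_dvd_break` (`p ∤ m`), `D_pow_p` (`(σ - 1)^p = 0`);
* `normX`: the norm of `X`, invariant of order `p`;
* `dvd_break_add_one_iff`: `p ∣ m + 1` iff some uniformizer `s` has `σ s - s` invariant.
-/

set_option autoImplicit false
universe u
open PowerSeries

namespace Groth.Agent.Lib.WildAut

variable {k : Type u} [Field k] (σ : PowerSeries k ≃ₐ[k] PowerSeries k)

theorem constantCoeff_apply (hX : (X : PowerSeries k) ∣ σ X) (g : PowerSeries k) :
    constantCoeff (σ g) = constantCoeff g := by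
  obtain ⟨v, hv⟩ := hX
  have h1 : g = C (constantCoeff g) + X * (mk fun i => coeff (i + 1) g) := by
    ext n
    cases n with
    | zero => simp
    | succ n => simp [coeff_succ_X_mul]
  conv_lhs => rw [h1]
  rw [map_add, map_mul, hv]
  have : σ (C (constantCoeff g)) = C (constantCoeff g) := by
    have := σ.commutes (constantCoeff g)
    simpa [algebraMap_apply'] using this
  rw [this]
  simp

theorem order_X_pow_mul {a : ℕ} {h : PowerSeries k} (hh : constantCoeff h ≠ 0) :
    (X ^ a * h).order = (a : ℕ∞) := by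
  rw [order_mul, order_X_pow]
  have : h.order = 0 := by
    rw [← Nat.cast_zero, order_eq_nat]
    exact ⟨by simpa using hh, fun i hi => absurd hi (Nat.not_lt_zero i)⟩
  rw [this, add_zero]

theorem apply_C (a : k) : σ (C a) = C a := by
  have := σ.commutes a
  simpa [algebraMap_apply'] using this

/-- If `X ∣ σ X` and `X^N ∣ σ X - X` then `X^N ∣ σ w - w` for every `w`. -/
theorem dvd_apply_sub (hX : (X : PowerSeries k) ∣ σ X) (N : ℕ)
    (hN : (X : PowerSeries k) ^ N ∣ σ X - X) (w : PowerSeries k) :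
    (X : PowerSeries k) ^ N ∣ σ w - w := by
  have hpoly : ∀ P : Polynomial k, (X : PowerSeries k) ^ N ∣ σ (P : PowerSeries k) - P := by
    intro P
    induction P using Polynomial.induction_on with
    | C a => simp [apply_C]
    | add P Q hP hQ =>
      have : σ ((P + Q : Polynomial k) : PowerSeries k) - ((P + Q : Polynomial k) : PowerSeries k)
          = (σ (P : PowerSeries k) - P) + (σ (Q : PowerSeries k) - Q) := by
        rw [Polynomial.coe_add, map_add]; ring
      rw [this]; exact dvd_add hP hQ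
    | monomial n a ih =>
      have : σ ((Polynomial.C a * Polynomial.X ^ (n+1) : Polynomial k) : PowerSeries k)
          - ((Polynomial.C a * Polynomial.X ^ (n+1) : Polynomial k) : PowerSeries k)
          = (σ ((Polynomial.C a * Polynomial.X ^ n : Polynomial k) : PowerSeries k)
              - ((Polynomial.C a * Polynomial.X ^ n : Polynomial k) : PowerSeries k)) * σ X
            + ((Polynomial.C a * Polynomial.X ^ n : Polynomial k) : PowerSeries k) * (σ X - X) := by
        simp only [Polynomial.coe_mul, Polynomial.coe_pow, Polynomial.coe_X, Polynomial.coe_C,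
          map_mul, map_pow, pow_succ]
        ring
      rw [this]
      exact dvd_add (Dvd.dvd.mul_right ih _) (Dvd.dvd.mul_left hN _)
  obtain ⟨sh, P, hw⟩ : ∃ (sh : PowerSeries k) (P : Polynomial k),
      w = sh * X ^ N + (P : PowerSeries k) :=
    ⟨_, _, eq_shift_mul_X_pow_add_trunc N w⟩
  subst hw
  have hXN : (X : PowerSeries k) ^ N ∣ (σ X) ^ N := pow_dvd_pow_of_dvd hX N
  have : σ (sh * X ^ N + (P : PowerSeries k)) - (sh * X ^ N + (P : PowerSeries k))
      = σ sh * (σ X) ^ N - sh * X ^ N + (σ (P : PowerSeries k) - (P : PowerSeries k)) := by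
    rw [map_add, map_mul, map_pow]; ring
  rw [this]
  exact dvd_add (dvd_sub (Dvd.dvd.mul_left hXN _) (Dvd.dvd.mul_left dvd_rfl _)) (hpoly _)
/-- The operator `σ - 1`. -/
noncomputable def D : Module.End k (PowerSeries k) := σ.toLinearMap - 1

@[simp] theorem D_apply (g : PowerSeries k) : D σ g = σ g - g := rfl

theorem toLinearMap_pow (n : ℕ) : (σ.toLinearMap : Module.End k (PowerSeries k)) ^ n = (σ ^ n).toLinearMap := by
  induction n with
  | zero => rfl
  | succ n ih =>
    rw [pow_succ, ih, pow_succ]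
    rfl

theorem D_pow_p (p : ℕ) [Fact p.Prime] [CharP k p] (hσp : σ ^ p = 1) : D σ ^ p = 0 := by
  have : CharP (Module.End k (PowerSeries k)) p := by
    apply Module.charP_end
    refine ⟨1, ?_⟩
    ext a
    rw [Ideal.mem_torsionOf_iff, Ideal.mem_bot]
    constructor
    · intro h
      have := congrArg constantCoeff h
      simpa using this
    · rintro rfl; simp
  rw [D, sub_pow_char_of_commute _ (Commute.one_right _), one_pow, toLinearMap_pow, hσp]
  ext g
  simp


section break_

variable {σ} {m : ℕ} (hm : (σ X - X).order = ((m + 1 : ℕ) : ℕ∞))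
include hm

theorem X_pow_dvd_apply_X_sub : (X : PowerSeries k) ^ (m + 1) ∣ σ X - X := by
  have := X_pow_order_dvd (φ := σ X - X)
  rwa [hm, ENat.toNat_natCast] at this

theorem X_dvd_apply_X : (X : PowerSeries k) ∣ σ X := by
  have h1 : (X : PowerSeries k) ∣ σ X - X :=
    (dvd_pow_self X (Nat.succ_ne_zero m)).trans (X_pow_dvd_apply_X_sub hm)
  have := dvd_add h1 (dvd_refl (X : PowerSeries k))
  rwa [sub_add_cancel] at this

/-- `σ X = X (1 + X^m c)` with `c(0) ≠ 0`. -/
theorem exists_eps : ∃ c : PowerSeries k, constantCoeff c ≠ 0 ∧ σ X = X * (1 + X ^ m * c) := by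
  have hne : σ X - X ≠ 0 := by
    intro h
    rw [h, order_zero] at hm
    exact ENat.top_ne_natCast _ hm
  refine ⟨divXPowOrder (σ X - X), ?_, ?_⟩
  · rw [Ne, constantCoeff_divXPowOrder_eq_zero_iff]; exact hne
  · have := X_pow_order_mul_divXPowOrder (f := σ X - X)
    rw [hm, ENat.toNat_natCast] at this
    calc σ X = X + (σ X - X) := by ring
      _ = X + X ^ (m + 1) * divXPowOrder (σ X - X) := by rw [this]
      _ = _ := by ring

theorem dvd_apply_sub' (w : PowerSeries k) : (X : PowerSeries k) ^ (m + 1) ∣ σ w - w :=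
  dvd_apply_sub σ (X_dvd_apply_X hm) (m + 1) (X_pow_dvd_apply_X_sub hm) w

/-- The key order computation. -/
theorem order_apply_sub (hm1 : 1 ≤ m) (p : ℕ) [CharP k p] (g : PowerSeries k) (q : ℕ)
    (hg : g.order = (q : ℕ∞)) (hq : ¬ p ∣ q) : (σ g - g).order = ((q + m : ℕ) : ℕ∞) := by
  obtain ⟨c, hc, hσX⟩ := exists_eps hm
  have hg0 : g ≠ 0 := by
    intro h; rw [h, order_zero] at hg; exact ENat.top_ne_natCast _ hg
  set w := divXPowOrder g with hw
  have hgw : g = X ^ q * w := by
    have := X_pow_order_mul_divXPowOrder (f := g)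
    rw [hg, ENat.toNat_natCast] at this
    exact this.symm
  have hw0 : constantCoeff w ≠ 0 := by
    rw [Ne, constantCoeff_divXPowOrder_eq_zero_iff]; exact hg0
  obtain ⟨d, hd⟩ := dvd_apply_sub' hm w
  set ε : PowerSeries k := X ^ m * c with hε
  set G : PowerSeries k := ∑ i ∈ Finset.range q, (1 + ε) ^ i with hG
  have hgeom : (1 + ε) ^ q - 1 = ε * G := by
    have := mul_geom_sum (1 + ε) q
    rw [← this]; ring
  have hε0 : constantCoeff ε = 0 := by
    rw [hε, map_mul, map_pow, constantCoeff_X, zero_pow (by omega), zero_mul]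
  have hG0 : constantCoeff G = (q : k) := by
    rw [hG, map_sum]
    simp [hε0]
  have hq0 : (q : k) ≠ 0 := by
    rw [Ne, CharP.cast_eq_zero_iff k p]; exact hq
  have hσw0 : constantCoeff (σ w) = constantCoeff w :=
    constantCoeff_apply σ (X_dvd_apply_X hm) w
  have key : σ g - g = X ^ (q + m) * (c * G * σ w + X * d) := by
    have h1 : σ g = X ^ q * ((1 + ε) ^ q * σ w) := by
      rw [hgw, map_mul, map_pow, hσX, mul_pow]; ring
    have h2 : σ w = w + X ^ (m + 1) * d := by rw [← hd]; ring
    have h3 : (1 + ε) ^ q = 1 + ε * G := by rw [← hgeom]; ring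
    rw [h1, h3]
    conv_lhs => rw [hgw]
    conv_lhs => rw [show X ^ q * ((1 + ε * G) * σ w) - X ^ q * w
      = X ^ q * (ε * G * σ w + (σ w - w)) by ring]
    rw [hd, hε]; ring
  rw [key]
  apply order_X_pow_mul
  rw [map_add, map_mul, map_mul, map_mul, constantCoeff_X, zero_mul, add_zero, hG0, hσw0]
  exact mul_ne_zero (mul_ne_zero hc hq0) hw0

theorem coeff_one_apply (h : PowerSeries k) (hh : constantCoeff h = 0) :
    coeff 1 (σ h) = coeff 1 (σ X) * coeff 1 h := by
  obtain ⟨v, hv⟩ := X_dvd_apply_X hm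
  obtain ⟨h₁, rfl⟩ := X_dvd_iff.2 hh
  rw [map_mul, hv]
  have e1 : coeff 1 (X * v * σ h₁) = constantCoeff v * constantCoeff h₁ := by
    rw [mul_assoc, show (1 : ℕ) = 0 + 1 from rfl, coeff_succ_X_mul, coeff_zero_eq_constantCoeff_apply,
      map_mul, constantCoeff_apply σ (X_dvd_apply_X hm)]
  have e2 : coeff 1 (X * v) = constantCoeff v := by
    rw [show (1 : ℕ) = 0 + 1 from rfl, coeff_succ_X_mul, coeff_zero_eq_constantCoeff_apply]
  have e3 : coeff 1 (X * h₁) = constantCoeff h₁ := by
    rw [show (1 : ℕ) = 0 + 1 from rfl, coeff_succ_X_mul, coeff_zero_eq_constantCoeff_apply]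
  rw [e1, e2, e3]

theorem iterate_X (i : ℕ) :
    constantCoeff ((σ ^ i) X) = 0 ∧ coeff 1 ((σ ^ i) X) = (coeff 1 (σ X)) ^ i := by
  induction i with
  | zero => simp
  | succ i ih =>
    have e : (σ ^ (i + 1)) X = σ ((σ ^ i) X) := by rw [pow_succ']; rfl
    rw [e]
    refine ⟨?_, ?_⟩
    · rw [constantCoeff_apply σ (X_dvd_apply_X hm), ih.1]
    · rw [coeff_one_apply hm _ ih.1, ih.2, pow_succ']

/-- The break of an automorphism of `p`-power order... is at least one. -/
theorem one_le_break (p : ℕ) [Fact p.Prime] [CharP k p] (hσp : σ ^ p = 1) : 1 ≤ m := by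
  by_contra hlt
  have hm0 : m = 0 := by omega
  subst hm0
  have h1 := (iterate_X hm p).2
  rw [hσp] at h1
  have h2 : (coeff 1 (σ X)) ^ p = 1 := by rw [← h1]; simp
  have h3 : coeff 1 (σ X) = 1 := by
    have : (coeff 1 (σ X) - 1) ^ p = 0 := by rw [sub_pow_char, h2, one_pow, sub_self]
    exact sub_eq_zero.1 (pow_eq_zero_iff (Fact.out : p.Prime).ne_zero |>.1 this)
  have h4 := (order_eq_nat.1 hm).1
  rw [map_sub, h3, coeff_one_X, sub_self] at h4
  exact h4 rfl

/-- `σ` preserves the order (for `m ≥ 1`). -/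
theorem order_apply (hm1 : 1 ≤ m) (g : PowerSeries k) : (σ g).order = g.order := by
  by_cases hg0 : g = 0
  · rw [hg0, map_zero]
  obtain ⟨c, hc, hσX⟩ := exists_eps hm
  have hgw := X_pow_order_mul_divXPowOrder (f := g)
  have hw0 : constantCoeff (divXPowOrder g) ≠ 0 := by
    rw [Ne, constantCoeff_divXPowOrder_eq_zero_iff]; exact hg0
  have h1 : σ g = X ^ g.order.toNat * ((1 + X ^ m * c) ^ g.order.toNat * σ (divXPowOrder g)) := by
    conv_lhs => rw [← hgw]
    rw [map_mul, map_pow, hσX, mul_pow]; ring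
  rw [h1, order_X_pow_mul, coe_toNat_order hg0]
  rw [map_mul, map_pow, map_add, map_one, map_mul, map_pow, constantCoeff_X,
    zero_pow (by omega), zero_mul, add_zero, one_pow, one_mul,
    constantCoeff_apply σ (X_dvd_apply_X hm)]
  exact hw0

theorem order_iterate_X (hm1 : 1 ≤ m) (i : ℕ) : ((σ ^ i) X).order = 1 := by
  induction i with
  | zero => simp
  | succ i ih =>
    have e : (σ ^ (i + 1)) X = σ ((σ ^ i) X) := by rw [pow_succ']; rfl
    rw [e, order_apply hm hm1, ih]

theorem not_dvd_break (p : ℕ) [Fact p.Prime] [CharP k p] (hσp : σ ^ p = 1) : ¬ p ∣ m := by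
  intro hpm
  have hm1 := one_le_break hm p hσp
  have key : ∀ i : ℕ, ((D σ ^ i) X).order = ((1 + i * m : ℕ) : ℕ∞) := by
    intro i
    induction i with
    | zero => simp
    | succ i ih =>
      rw [pow_succ', Module.End.mul_apply, D_apply,
        order_apply_sub hm hm1 p _ (1 + i * m) ih ?_]
      · congr 1; ring
      · intro h
        have h2 : p ∣ i * m := Dvd.dvd.mul_left hpm i
        have h3 : p ∣ 1 := (Nat.dvd_add_left h2).1 h
        exact (Fact.out : p.Prime).one_lt.ne' (Nat.dvd_one.1 h3)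
  have h := key p
  rw [D_pow_p σ p hσp, LinearMap.zero_apply, order_zero] at h
  exact ENat.top_ne_natCast _ h

/-- Orders of the iterates `D^i (X^m)` for `i < p`. -/
theorem order_D_pow_X_pow (p : ℕ) [Fact p.Prime] [CharP k p] (hσp : σ ^ p = 1) (i : ℕ)
    (hi : i < p) : ((D σ ^ i) (X ^ m)).order = (((i + 1) * m : ℕ) : ℕ∞) := by
  have hm1 := one_le_break hm p hσp
  induction i with
  | zero => simp [order_X_pow]
  | succ i ih =>
    rw [pow_succ', Module.End.mul_apply, D_apply,
      order_apply_sub hm hm1 p _ ((i + 1) * m) (ih (by omega)) ?_]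
    · congr 1; ring
    · intro h
      rcases (Fact.out : p.Prime).dvd_mul.1 h with h1 | h1
      · exact absurd (Nat.le_of_dvd (by omega) h1) (by omega)
      · exact not_dvd_break hm p hσp h1

/-- The norm of `X`. -/
noncomputable def normX (σ : PowerSeries k ≃ₐ[k] PowerSeries k) (p : ℕ) : PowerSeries k :=
  ∏ i ∈ Finset.range p, (σ ^ i) X

omit hm in
theorem apply_normX (p : ℕ) (hσp : σ ^ p = 1) : σ (normX σ p) = normX σ p := by
  unfold normX
  rw [map_prod]
  have e : ∀ i, σ ((σ ^ i) X) = (σ ^ (i + 1)) X := fun i => by rw [pow_succ']; rfl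
  simp_rw [e]
  cases p with
  | zero => simp
  | succ p =>
    rw [Finset.prod_range_succ (fun i => (σ ^ (i + 1)) X) p,
      Finset.prod_range_succ' (fun i => (σ ^ i) X) p, hσp]
    simp

theorem order_normX (hm1 : 1 ≤ m) (p : ℕ) : (normX σ p).order = (p : ℕ∞) := by
  unfold normX
  rw [order_prod, Finset.sum_congr rfl (fun i _ => order_iterate_X hm hm1 i)]
  simp

/-- `p ∣ m + 1` iff there is a uniformizer `s` with `σ s - s` invariant. -/
theorem dvd_break_add_one_iff (p : ℕ) [Fact p.Prime] [CharP k p] (hσp : σ ^ p = 1) :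
    p ∣ m + 1 ↔ ∃ s a : PowerSeries k, s.order = 1 ∧ σ a = a ∧ σ s = s + a := by
  have hm1 := one_le_break hm p hσp
  have hp2 : 2 ≤ p := (Fact.out : p.Prime).two_le
  constructor
  · rintro ⟨j, hj⟩
    -- the element `s₀ = D^(p-2) (X^m)`
    set s₀ : PowerSeries k := (D σ ^ (p - 2)) (X ^ m) with hs₀
    have hs₀ord : s₀.order = (((p - 1) * m : ℕ) : ℕ∞) := by
      rw [hs₀, order_D_pow_X_pow hm p hσp (p - 2) (by omega)]
      congr 2; omega
    have hDD : σ (σ s₀ - s₀) = σ s₀ - s₀ := by
      have h1 : (D σ ^ p) (X ^ m) = 0 := by rw [D_pow_p σ p hσp]; rfl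
      have h2 : D σ ^ p = D σ * (D σ * D σ ^ (p - 2)) := by
        rw [← pow_succ', ← pow_succ']; congr 1; omega
      rw [h2, Module.End.mul_apply, Module.End.mul_apply, D_apply, D_apply, ← hs₀] at h1
      exact sub_eq_zero.1 h1
    -- arithmetic
    have hjm : p * (m - j) + 1 = (p - 1) * m := by
      have e1 : p * (m - j) = p * m - p * j := Nat.mul_sub p m j
      have e2 : (p - 1) * m = p * m - m := by rw [Nat.sub_mul, one_mul]
      have e3 : 2 * m ≤ p * m := Nat.mul_le_mul_right m hp2
      omega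
    set l := m - j with hl
    set x := normX σ p with hx
    have hxl : (x ^ l).order = ((p * l : ℕ) : ℕ∞) := by
      rw [order_pow, hx, order_normX hm hm1 p]
      simp [mul_comm]
    have hxl0 : x ^ l ≠ 0 := by
      intro h; rw [h, order_zero] at hxl; exact ENat.top_ne_natCast _ hxl
    have hs₀0 : s₀ ≠ 0 := by
      intro h; rw [h, order_zero] at hs₀ord; exact ENat.top_ne_natCast _ hs₀ord
    -- `x^l ∣ s₀`
    have hdvd : x ^ l ∣ s₀ := by
      have h1 : (X : PowerSeries k) ^ (p * l) ∣ s₀ := by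
        have := X_pow_order_dvd (φ := s₀)
        rw [hs₀ord, ENat.toNat_natCast] at this
        exact (pow_dvd_pow X (by omega)).trans this
      have h2 := X_pow_order_mul_divXPowOrder (f := x ^ l)
      rw [hxl, ENat.toNat_natCast] at h2
      have hu : IsUnit (divXPowOrder (x ^ l)) := by
        rw [isUnit_iff_constantCoeff, isUnit_iff_ne_zero, Ne,
          constantCoeff_divXPowOrder_eq_zero_iff]
        exact hxl0
      obtain ⟨u, hu⟩ := hu
      have h3 : x ^ l ∣ X ^ (p * l) := by
        refine ⟨((u⁻¹ : (PowerSeries k)ˣ) : PowerSeries k), ?_⟩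
        rw [← h2, ← hu, mul_assoc, Units.mul_inv, mul_one]
      exact h3.trans h1
    obtain ⟨s, hs⟩ := hdvd
    have hs0 : s ≠ 0 := by
      intro h; rw [h, mul_zero] at hs; exact hs₀0 hs
    have hsord : s.order = 1 := by
      have h1 := congrArg order hs
      rw [order_mul, hs₀ord, hxl, ← coe_toNat_order hs0, ← Nat.cast_add, Nat.cast_inj] at h1
      rw [← coe_toNat_order hs0]
      have : s.order.toNat = 1 := by omega
      rw [this]; rfl
    have hσxl : σ (x ^ l) = x ^ l := by rw [map_pow, hx, apply_normX p hσp]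
    refine ⟨s, σ s - s, hsord, ?_, by ring⟩
    apply mul_left_cancel₀ hxl0
    have e1 : x ^ l * (σ s - s) = σ s₀ - s₀ := by
      rw [hs, map_mul, hσxl]; ring
    have e2 : x ^ l * σ (σ s - s) = σ (σ s₀ - s₀) := by
      rw [← e1, map_mul, hσxl]
    rw [e2, hDD, e1]
  · rintro ⟨s, a, hs, ha, hsa⟩
    have h1 : (σ s - s).order = ((1 + m : ℕ) : ℕ∞) :=
      order_apply_sub hm hm1 p s 1 (by rw [hs]; rfl)
        (fun h => (Fact.out : p.Prime).one_lt.ne' (Nat.dvd_one.1 h))
    have h2 : σ s - s = a := by rw [hsa]; ring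
    rw [h2] at h1
    by_contra hnd
    have h3 := order_apply_sub hm hm1 p a (1 + m) h1 (by rwa [add_comm])
    rw [ha, sub_self, order_zero] at h3
    exact ENat.top_ne_natCast _ h3

end break_

end Groth.Agent.Lib.WildAut
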