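import Groth.Agent.Lib.WildAut
import Mathlib.RingTheory.Localization.FractionRing
import Mathlib.Algebra.CharP.Algebra

/-!
# Artin–Schreier generators and the ramification break

`break_eq_of_artinSchreier`: for an order-`p` automorphism `σ` of `k[[X]]` with break `m`, if
`z ∈ Frac k[[X]]` satisfies `z^p - z = f / x^μ` (`x` the norm of `X`, `f` an invariant unit,
`p ∤ μ`), then `μ = m`.
-/

set_option autoImplicit false
universe u
open PowerSeries

namespace Groth.Agent.Lib.WildAut

variable {k : Type u} [Field k] {σ : PowerSeries k ≃ₐ[k] PowerSeries k}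

/-- The norm of an element. -/
noncomputable def normOf (σ : PowerSeries k ≃ₐ[k] PowerSeries k) (p : ℕ) (h : PowerSeries k) :
    PowerSeries k :=
  ∏ i ∈ Finset.range p, (σ ^ i) h

theorem apply_normOf (p : ℕ) (hσp : σ ^ p = 1) (h : PowerSeries k) :
    σ (normOf σ p h) = normOf σ p h := by
  unfold normOf
  rw [map_prod]
  have e : ∀ i, σ ((σ ^ i) h) = (σ ^ (i + 1)) h := fun i => by rw [pow_succ']; rfl
  simp_rw [e]
  cases p with
  | zero => simp
  | succ p =>
    rw [Finset.prod_range_succ (fun i => (σ ^ (i + 1)) h) p,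
      Finset.prod_range_succ' (fun i => (σ ^ i) h) p, hσp]
    simp

theorem normOf_eq_mul (p : ℕ) (hp : 1 ≤ p) (h : PowerSeries k) :
    normOf σ p h = h * ∏ i ∈ Finset.range (p - 1), (σ ^ (i + 1)) h := by
  obtain ⟨p', rfl⟩ : ∃ p', p = p' + 1 := ⟨p - 1, by omega⟩
  unfold normOf
  rw [Finset.prod_range_succ' (fun i => (σ ^ i) h) p', Nat.add_sub_cancel, mul_comm]
  simp

section
variable {m : ℕ} (hm : (σ X - X).order = ((m + 1 : ℕ) : ℕ∞))
include hm

theorem order_iterate (hm1 : 1 ≤ m) (i : ℕ) (h : PowerSeries k) :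
    ((σ ^ i) h).order = h.order := by
  induction i with
  | zero => simp
  | succ i ih =>
    have e : (σ ^ (i + 1)) h = σ ((σ ^ i) h) := by rw [pow_succ']; rfl
    rw [e, order_apply hm hm1, ih]

theorem order_normOf (hm1 : 1 ≤ m) (p : ℕ) (h : PowerSeries k) :
    (normOf σ p h).order = p • h.order := by
  unfold normOf
  rw [order_prod, Finset.sum_congr rfl (fun i _ => order_iterate hm hm1 i h)]
  simp

end

theorem aux1 {K : Type*} [Field K] (a b c e : K) (p : ℕ) (hb : b ≠ 0) (he : e ≠ 0)
    (h : (a / b) ^ p - a / b = c / e) : a ^ p * b * e = a * b ^ p * e + c * b ^ (p + 1) := by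
  rw [div_pow] at h
  have hbp : b ^ p ≠ 0 := pow_ne_zero _ hb
  have h1 : a ^ p / b ^ p - a / b = (a ^ p * b - a * b ^ p) / (b ^ (p + 1)) := by
    rw [pow_succ]; field_simp
  rw [h1, div_eq_div_iff (pow_ne_zero _ hb) he] at h
  linear_combination h

theorem aux2 {K : Type*} [Field K] (d b : K) (p : ℕ) (hb : b ≠ 0)
    (h : (d / b) ^ p = d / b) : d ^ p * b = d * b ^ p := by
  rw [div_pow, div_eq_div_iff (pow_ne_zero _ hb) hb] at h
  linear_combination h

section artinSchreier

variable {m : ℕ} (hm : (σ X - X).order = ((m + 1 : ℕ) : ℕ∞))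
include hm

omit σ hm in
theorem order_eq_of_ne_zero {g : PowerSeries k} (hg : g ≠ 0) : g.order = (g.order.toNat : ℕ∞) :=
  (coe_toNat_order hg).symm

/-- The conductor of an Artin–Schreier generator equals the ramification break. -/
theorem break_eq_of_artinSchreier (p : ℕ) [Fact p.Prime] [CharP k p] (hσp : σ ^ p = 1)
    (f : PowerSeries k) (hfσ : σ f = f) (hf0 : constantCoeff f ≠ 0)
    (μ : ℕ) (hμ : 0 < μ) (hpμ : ¬ p ∣ μ) (z : FractionRing (PowerSeries k))
    (hz : z ^ p - z = algebraMap (PowerSeries k) (FractionRing (PowerSeries k)) f /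
      algebraMap (PowerSeries k) (FractionRing (PowerSeries k))
        (∏ i ∈ Finset.range p, (σ ^ i) X) ^ μ) : μ = m := by
  have hm1 := one_le_break hm p hσp
  have hp2 : 2 ≤ p := (Fact.out : p.Prime).two_le
  have hι : Function.Injective (algebraMap (PowerSeries k) (FractionRing (PowerSeries k))) :=
    IsFractionRing.injective _ _
  have hchar : CharP (FractionRing (PowerSeries k)) p :=
    charP_of_injective_algebraMap (algebraMap k (FractionRing (PowerSeries k))).injective p
  set τ : FractionRing (PowerSeries k) ≃+* FractionRing (PowerSeries k) :=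
    IsFractionRing.ringEquivOfRingEquiv σ.toRingEquiv with hτdef
  have hτ : ∀ a : PowerSeries k, τ (algebraMap _ _ a) = algebraMap _ _ (σ a) := fun a =>
    IsFractionRing.ringEquivOfRingEquiv_algebraMap σ.toRingEquiv a
  obtain ⟨g₀, h₀, hh₀, rfl⟩ := IsFractionRing.div_surjective (A := PowerSeries k) z
  have hh₀0 : h₀ ≠ 0 := nonZeroDivisors.ne_zero hh₀
  set h' : PowerSeries k := ∏ i ∈ Finset.range (p - 1), (σ ^ (i + 1)) h₀ with hh'
  set n : PowerSeries k := normOf σ p h₀ with hn
  have hnmul : n = h₀ * h' := normOf_eq_mul p (by omega) h₀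
  have hnord : n.order = p • h₀.order := order_normOf hm hm1 p h₀
  have hn0 : n ≠ 0 := by
    intro h
    rw [h, order_zero, order_eq_of_ne_zero hh₀0] at hnord
    rw [nsmul_eq_mul, ← Nat.cast_mul] at hnord
    exact ENat.top_ne_natCast _ hnord
  have hh'0 : h' ≠ 0 := right_ne_zero_of_mul (hnmul ▸ hn0)
  have hσn : σ n = n := apply_normOf p hσp h₀
  set g : PowerSeries k := g₀ * h' with hg
  have hzg : algebraMap (PowerSeries k) (FractionRing (PowerSeries k)) g₀ /
      algebraMap (PowerSeries k) (FractionRing (PowerSeries k)) h₀ =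
      algebraMap _ _ g / algebraMap _ _ n := by
    rw [hg, hnmul, map_mul, map_mul, mul_div_mul_right]
    exact (map_ne_zero_iff _ hι).2 hh'0
  rw [hzg] at hz
  set x : PowerSeries k := ∏ i ∈ Finset.range p, (σ ^ i) X with hx
  have hxord : x.order = (p : ℕ∞) := order_normX hm hm1 p
  have hσx : σ x = x := apply_normX p hσp
  have hx0 : x ≠ 0 := by
    intro h; rw [h, order_zero] at hxord; exact ENat.top_ne_natCast _ hxord
  have hιn0 : algebraMap (PowerSeries k) (FractionRing (PowerSeries k)) n ≠ 0 :=
    (map_ne_zero_iff _ hι).2 hn0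
  have hιx0 : algebraMap (PowerSeries k) (FractionRing (PowerSeries k)) x ≠ 0 :=
    (map_ne_zero_iff _ hι).2 hx0
  -- Equation 1 in the power series ring
  have E1 : g ^ p * n * x ^ μ = g * n ^ p * x ^ μ + f * n ^ (p + 1) := by
    apply hι
    simp only [map_add, map_mul, map_pow]
    exact aux1 _ _ _ _ p hιn0 (pow_ne_zero _ hιx0) hz
  -- Equation 2: `d = σ g - g` satisfies `d^p n = d n^p`
  set d : PowerSeries k := σ g - g with hd
  have E2 : d ^ p * n = d * n ^ p := by
    apply hι
    simp only [map_mul, map_pow]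
    apply aux2 _ _ p hιn0
    have e1 : τ (algebraMap _ _ g / algebraMap _ _ n) - algebraMap _ _ g / algebraMap _ _ n
        = algebraMap (PowerSeries k) (FractionRing (PowerSeries k)) d / algebraMap _ _ n := by
      rw [map_div₀, hτ, hτ, hσn, hd, map_sub, sub_div]
    rw [← e1]
    have hR : τ (algebraMap (PowerSeries k) (FractionRing (PowerSeries k)) f /
        algebraMap (PowerSeries k) (FractionRing (PowerSeries k)) x ^ μ) =
        algebraMap (PowerSeries k) (FractionRing (PowerSeries k)) f /
        algebraMap (PowerSeries k) (FractionRing (PowerSeries k)) x ^ μ := by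
      rw [map_div₀, map_pow, hτ, hτ, hσx, hfσ]
    have e2 := congrArg τ hz
    rw [hR, ← hz, map_sub, map_pow] at e2
    rw [sub_pow_char]
    linear_combination e2
  -- orders
  have hf0' : f ≠ 0 := by
    intro h; rw [h, map_zero] at hf0; exact hf0 rfl
  have hford : f.order = 0 := by
    rw [← Nat.cast_zero, order_eq_nat]
    exact ⟨by simpa using hf0, fun i hi => absurd hi (Nat.not_lt_zero i)⟩
  have hg0 : g ≠ 0 := by
    intro h
    rw [h, zero_pow (by omega), zero_mul, zero_mul, zero_mul, zero_mul, zero_add] at E1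
    exact mul_ne_zero hf0' (pow_ne_zero _ hn0) E1.symm
  set G := g.order.toNat with hGdef
  set N := n.order.toNat with hNdef
  have hG : g.order = (G : ℕ∞) := order_eq_of_ne_zero hg0
  have hN : n.order = (N : ℕ∞) := order_eq_of_ne_zero hn0
  have hpN : p ∣ N := by
    rw [order_eq_of_ne_zero hh₀0, nsmul_eq_mul, ← Nat.cast_mul, hN, Nat.cast_inj] at hnord
    exact ⟨_, hnord⟩
  have oa : (g ^ p * n * x ^ μ).order = ((p * G + N + p * μ : ℕ) : ℕ∞) := by
    rw [order_mul, order_mul, order_pow, order_pow, hG, hN, hxord]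
    push_cast; simp only [nsmul_eq_mul]; ring
  have ob : (g * n ^ p * x ^ μ).order = ((G + p * N + p * μ : ℕ) : ℕ∞) := by
    rw [order_mul, order_mul, order_pow, order_pow, hG, hN, hxord]
    push_cast; simp only [nsmul_eq_mul]; ring
  have oc : (f * n ^ (p + 1)).order = (((p + 1) * N : ℕ) : ℕ∞) := by
    rw [order_mul, order_pow, hford, hN]
    push_cast; simp only [nsmul_eq_mul]; push_cast; ring
  have key1 : G + μ = N := by
    rcases lt_trichotomy (G + p * N + p * μ) ((p + 1) * N) with hlt | heq | hgt
    · have h1 := order_add_of_order_ne (g * n ^ p * x ^ μ) (f * n ^ (p + 1))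
        (by rw [ob, oc]; exact_mod_cast hlt.ne)
      rw [← E1, oa, ob, oc, min_eq_left (by exact_mod_cast hlt.le)] at h1
      have h2 : p * G + N + p * μ = G + p * N + p * μ := by exact_mod_cast h1
      have h3 : G = N := by nlinarith
      exfalso
      rw [h3] at hlt
      have : (p + 1) * N = p * N + N := by ring
      omega
    · exfalso
      have h1 := min_order_le_order_add (g * n ^ p * x ^ μ) (f * n ^ (p + 1))
      rw [← E1, oa, ob, oc, heq, min_self] at h1
      have h2 : (p + 1) * N ≤ p * G + N + p * μ := by exact_mod_cast h1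
      have h3 : (p + 1) * N = p * N + N := by ring
      have h4 : G + p * μ = N := by omega
      have h5 : G + p * N + p * μ ≤ p * G + N + p * μ := by omega
      clear_value G N
      subst h4
      have h6 : 2 * (p * μ) ≤ p * (p * μ) := Nat.mul_le_mul_right _ hp2
      have h7 : 0 < p * μ := Nat.mul_pos (by omega) hμ
      have h8 : p * (G + p * μ) = p * G + p * (p * μ) := by ring
      omega
    · have h1 := order_add_of_order_ne (g * n ^ p * x ^ μ) (f * n ^ (p + 1))
        (by rw [ob, oc]; exact_mod_cast hgt.ne')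
      rw [← E1, oa, ob, oc, min_eq_right (by exact_mod_cast hgt.le)] at h1
      have h2 : p * G + N + p * μ = (p + 1) * N := by exact_mod_cast h1
      nlinarith
  have hpG : ¬ p ∣ G := by
    intro h
    apply hpμ
    have : p ∣ G + μ := key1 ▸ hpN
    exact (Nat.dvd_add_right h).1 this
  have hdord : d.order = ((G + m : ℕ) : ℕ∞) := order_apply_sub hm hm1 p g G hG hpG
  have hd0 : d ≠ 0 := by
    intro h; rw [h, order_zero] at hdord; exact ENat.top_ne_natCast _ hdord
  have h2 := congrArg order E2
  rw [order_mul, order_mul, order_pow, order_pow, hdord, hN] at h2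
  have h3 : p * (G + m) + N = (G + m) + p * N := by
    have : ((p * (G + m) + N : ℕ) : ℕ∞) = (((G + m) + p * N : ℕ) : ℕ∞) := by
      push_cast; simp only [nsmul_eq_mul] at h2; push_cast at h2; exact h2
    exact_mod_cast this
  have h4 : G + m = N := by nlinarith
  omega

end artinSchreier

end Groth.Agent.Lib.WildAut
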