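import Mathlib
import Groth.Agent.Lib.SeriesComplete58

/-!
# `W(R)` is `p`-adically and `I_R`-adically complete for `p`-adically complete `R` (helper58)

Zink, *The display of a formal p-divisible group*, Prop. 3.
-/

set_option autoImplicit false
universe u

namespace Groth.Agent.Lib.WittComplete58

open Groth.Agent.Lib.SeriesComplete58

variable (p : ℕ) [hp : Fact p.Prime] (R : Type u) [CommRing R]

/-- Witt vectors whose first `n` coefficients lie in `p ^ m R`: the kernel of
`W(R) → W_n(R / p ^ m)`. -/
noncomputable def J (n m : ℕ) : Ideal (WittVector p R) :=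
  RingHom.ker ((WittVector.truncate (p := p) n).comp
    (WittVector.map (p := p) (Ideal.Quotient.mk (Ideal.span {(p : R) ^ m}))))

variable {p R}

theorem mem_J {n m : ℕ} {x : WittVector p R} :
    x ∈ J p R n m ↔ ∀ i < n, x.coeff i ∈ Ideal.span {(p : R) ^ m} := by
  rw [J, RingHom.mem_ker, RingHom.comp_apply, ← RingHom.mem_ker, WittVector.mem_ker_truncate]
  simp only [WittVector.map_coeff, Ideal.Quotient.eq_zero_iff_mem]

theorem sub_mem_J {n m : ℕ} {x y : WittVector p R} :
    x - y ∈ J p R n m ↔ ∀ i < n, x.coeff i - y.coeff i ∈ Ideal.span {(p : R) ^ m} := by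
  rw [J, RingHom.mem_ker, map_sub, sub_eq_zero, RingHom.comp_apply, RingHom.comp_apply]
  constructor
  · intro h i hi
    have h1 := congrArg (fun t => TruncatedWittVector.coeff ⟨i, hi⟩ t) h
    simp only [WittVector.coeff_truncate, WittVector.map_coeff] at h1
    exact (Ideal.Quotient.eq).mp h1
  · intro h
    ext ⟨i, hi⟩
    simp only [WittVector.coeff_truncate, WittVector.map_coeff]
    exact (Ideal.Quotient.eq).mpr (h i hi)

/-- If `p ^ m = 0` in `S` then multiplication by `p ^ m` raises the `V`-filtration of `W(S)`. -/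
theorem pow_mul_mem_ker_truncate {S : Type u} [CommRing S] (m : ℕ) (hS : (p : S) ^ m = 0) (n : ℕ)
    (x : WittVector p S) (hx : x ∈ RingHom.ker (WittVector.truncate (p := p) (R := S) n)) :
    (p : WittVector p S) ^ m * x ∈ RingHom.ker (WittVector.truncate (p := p) (R := S) (n + 1)) := by
  rw [WittVector.mem_ker_truncate] at hx ⊢
  have hx' := WittVector.eq_iterate_verschiebung hx
  have hF : WittVector.frobenius^[n] ((p : WittVector p S) ^ m) = (p : WittVector p S) ^ m :=
    Function.iterate_fixed (by rw [map_pow, map_natCast]) n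
  have e : (p : WittVector p S) ^ m * x =
      WittVector.verschiebung^[n] (x.shift n * (p : WittVector p S) ^ m) := by
    conv_lhs => rw [hx', mul_comm, WittVector.iterate_verschiebung_mul_left, hF]
  intro i hi
  rw [e]
  rcases Nat.lt_succ_iff_lt_or_eq.mp hi with h | h
  · exact WittVector.iterate_verschiebung_coeff_eq_zero _ h
  · subst h
    have := WittVector.iterate_verschiebung_coeff (x.shift i * (p : WittVector p S) ^ m) i 0
    rw [zero_add] at this
    rw [this, WittVector.mul_coeff_zero]
    have h0 : ((p : WittVector p S) ^ m).coeff 0 = 0 := by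
      have : WittVector.constantCoeff ((p : WittVector p S) ^ m) = (p : S) ^ m := by
        rw [map_pow, map_natCast]
      rw [hS] at this
      exact this
    rw [h0, mul_zero]

theorem pow_mem_ker_truncate {S : Type u} [CommRing S] (m : ℕ) (hS : (p : S) ^ m = 0) (n : ℕ) :
    (p : WittVector p S) ^ (m * n) ∈ RingHom.ker (WittVector.truncate (p := p) (R := S) n) := by
  induction n with
  | zero =>
    rw [WittVector.mem_ker_truncate]
    intro i hi
    exact absurd hi (Nat.not_lt_zero i)
  | succ n ih =>
    have := pow_mul_mem_ker_truncate m hS n _ ih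
    rwa [← pow_add, show m + m * n = m * (n + 1) by ring] at this

theorem p_pow_mem_J (n m : ℕ) : (p : WittVector p R) ^ (m * n) ∈ J p R n m := by
  rw [J, RingHom.mem_ker, RingHom.comp_apply, map_pow, map_natCast, ← RingHom.mem_ker]
  refine pow_mem_ker_truncate m ?_ n
  rw [← map_natCast (Ideal.Quotient.mk (Ideal.span {(p : R) ^ m})), ← map_pow,
    Ideal.Quotient.eq_zero_iff_mem]
  exact Ideal.mem_span_singleton_self _

theorem J_anti : Antitone (fun k => J p R k k) := by
  intro k l hkl x hx
  rw [mem_J] at hx ⊢
  intro i hi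
  exact (Ideal.span_singleton_le_span_singleton.mpr (pow_dvd_pow (p : R) hkl)) (hx i (hi.trans_le hkl))

variable [IsAdicComplete (Ideal.span {(p : R)}) R]

theorem J_sep (x : WittVector p R) (hx : ∀ k, x ∈ J p R k k) : x = 0 := by
  ext i
  rw [WittVector.zero_coeff]
  refine IsHausdorff.haus' (I := Ideal.span {(p : R)}) _ (fun n => ?_)
  rw [SModEq.zero, smul_eq_mul, Ideal.mul_top, Ideal.span_singleton_pow]
  have h1 := mem_J.mp (hx (max n (i + 1))) i (lt_of_lt_of_le (Nat.lt_succ_self i) (le_max_right _ _))
  exact (Ideal.span_singleton_le_span_singleton.mpr (pow_dvd_pow (p : R) (le_max_left _ _))) h1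

theorem J_compl (x : ℕ → WittVector p R) (hx : ∀ k, x (k + 1) - x k ∈ J p R k k) :
    ∃ L, ∀ k, L - x k ∈ J p R k k := by
  -- coefficientwise differences
  have hmn : ∀ i m n, i < m → m ≤ n → (x n).coeff i - (x m).coeff i ∈ Ideal.span {(p : R) ^ m} := by
    intro i m n hi hle
    induction n, hle using Nat.le_induction with
    | base => simp
    | succ n hn ih =>
      have h1 : (x (n + 1)).coeff i - (x n).coeff i ∈ Ideal.span {(p : R) ^ m} :=
        (Ideal.span_singleton_le_span_singleton.mpr (pow_dvd_pow (p : R) hn))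
          (sub_mem_J.mp (hx n) i (hi.trans_le hn))
      have := Ideal.add_mem _ h1 ih
      rwa [sub_add_sub_cancel] at this
  have hL : ∀ i : ℕ, ∃ L : R, ∀ k, i < k → L - (x k).coeff i ∈ Ideal.span {(p : R) ^ k} := by
    intro i
    obtain ⟨L, hL⟩ := IsPrecomplete.prec' (I := Ideal.span {(p : R)})
      (fun k => (x (max k (i + 1))).coeff i) (by
        intro m n hle
        refine SModEq.symm ?_
        rw [SModEq.sub_mem, smul_eq_mul, Ideal.mul_top, Ideal.span_singleton_pow]
        have h1 := hmn i (max m (i + 1)) (max n (i + 1))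
          (lt_of_lt_of_le (Nat.lt_succ_self i) (le_max_right _ _))
          (max_le_max hle le_rfl)
        exact (Ideal.span_singleton_le_span_singleton.mpr
          (pow_dvd_pow (p : R) (le_max_left _ _))) h1)
    refine ⟨L, fun k hk => ?_⟩
    have h1 := (hL k).symm
    rw [SModEq.sub_mem, smul_eq_mul, Ideal.mul_top, Ideal.span_singleton_pow] at h1
    have e : max k (i + 1) = k := max_eq_left hk
    simp only [e] at h1
    exact h1
  choose L hL using hL
  refine ⟨WittVector.mk p L, fun k => ?_⟩
  rw [sub_mem_J]
  intro i hi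
  exact hL i k hi

theorem goodFil : GoodFil (p : WittVector p R) (fun k => J p R k k) (fun k => k * k) where
  anti := J_anti
  sep := J_sep
  compl := J_compl
  mono := fun _ _ h => Nat.mul_le_mul h h
  nil := fun k => p_pow_mem_J k k

/-- `W(R)` is `p`-adically complete if `R` is. -/
theorem isAdicComplete_p : IsAdicComplete (Ideal.span {(p : WittVector p R)}) (WittVector p R) :=
  goodFil.isAdicComplete

end Groth.Agent.Lib.WittComplete58
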