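import Mathlib
import Groth.Agent.Lib.WittComplete58

/-!
# `p ^ u W(R)` is closed, `R` `p`-torsion free and `p`-adically complete (helper58)

Key lemma (`mem_J_of_pow_mul_mem_J`): if the first `m` components of `p ^ u * y` lie in `p ^ s R`
then the first `m` components of `y` lie in `p ^ (s - u - m) R` (ghost components).
-/

set_option autoImplicit false
universe u

namespace Groth.Agent.Lib.WittComplete58

variable {p : ℕ} [hp : Fact p.Prime] {R : Type u} [CommRing R]

theorem ghostComponent_eq (n : ℕ) (x : WittVector p R) :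
    WittVector.ghostComponent n x =
      ∑ i ∈ Finset.range (n + 1), (p : R) ^ i * x.coeff i ^ p ^ (n - i) := by
  rw [WittVector.ghostComponent_apply, aeval_wittPolynomial]

theorem J_mono_right (m : ℕ) {s s' : ℕ} (h : s ≤ s') : J p R m s' ≤ J p R m s := by
  intro x hx
  rw [mem_J] at hx ⊢
  exact fun i hi =>
    (Ideal.span_singleton_le_span_singleton.mpr (pow_dvd_pow (p : R) h)) (hx i hi)

theorem ker_truncate_le_J (m s : ℕ) :
    RingHom.ker (WittVector.truncate (p := p) (R := R) m) ≤ J p R m s := by
  intro x hx
  rw [WittVector.mem_ker_truncate] at hx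
  rw [mem_J]
  intro i hi
  rw [hx i hi]
  exact zero_mem _

theorem ker_map_le_J (m s : ℕ) :
    RingHom.ker (WittVector.map (p := p) (Ideal.Quotient.mk (Ideal.span {(p : R) ^ s}))) ≤
      J p R m s := by
  intro x hx
  rw [RingHom.mem_ker] at hx
  rw [mem_J]
  intro i _
  have := congrArg (fun t => WittVector.coeff t i) hx
  simp only [WittVector.map_coeff, WittVector.zero_coeff] at this
  exact Ideal.Quotient.eq_zero_iff_mem.mp this

theorem ghost_mem_of_mem_J {m s n : ℕ} (hn : n < m) {x : WittVector p R} (hx : x ∈ J p R m s) :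
    WittVector.ghostComponent n x ∈ Ideal.span {(p : R) ^ s} := by
  rw [ghostComponent_eq]
  refine Ideal.sum_mem _ (fun i hi => Ideal.mul_mem_left _ _ ?_)
  have hi' : i < m := lt_of_lt_of_le (Finset.mem_range.mp hi) hn
  exact Ideal.pow_mem_of_mem _ (mem_J.mp hx i hi') _ (Nat.pos_of_ne_zero (pow_ne_zero _ hp.out.ne_zero))

section TorsionFree

variable (hR : ∀ y : R, (p : R) * y = 0 → y = 0)
include hR

theorem eq_zero_of_pow_mul_eq_zero (n : ℕ) (y : R) (h : (p : R) ^ n * y = 0) : y = 0 := by
  induction n with
  | zero => simpa using h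
  | succ n ih =>
    apply ih
    apply hR
    rw [← mul_assoc, ← pow_succ']
    exact h

theorem mem_span_of_pow_mul_mem {n t : ℕ} (hnt : n ≤ t) {y : R}
    (h : (p : R) ^ n * y ∈ Ideal.span {(p : R) ^ t}) : y ∈ Ideal.span {(p : R) ^ (t - n)} := by
  obtain ⟨c, hc⟩ := Ideal.mem_span_singleton'.mp h
  have e : (p : R) ^ n * (y - c * (p : R) ^ (t - n)) = 0 := by
    have : (p : R) ^ t = (p : R) ^ n * (p : R) ^ (t - n) := by
      rw [← pow_add]
      congr 1
      omega
    rw [mul_sub, ← hc, this]
    ring
  have := eq_zero_of_pow_mul_eq_zero hR n _ e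
  rw [sub_eq_zero] at this
  rw [this]
  exact Ideal.mul_mem_left _ _ (Ideal.mem_span_singleton_self _)

theorem coeff_mem_of_ghost_mem {m t : ℕ} {y : WittVector p R}
    (h : ∀ n < m, WittVector.ghostComponent n y ∈ Ideal.span {(p : R) ^ t}) :
    ∀ n < m, y.coeff n ∈ Ideal.span {(p : R) ^ (t - n)} := by
  intro n
  induction n using Nat.strong_induction_on with
  | _ n ih =>
    intro hn
    by_cases hnt : n ≤ t
    · apply mem_span_of_pow_mul_mem hR hnt
      have e := ghostComponent_eq n y
      rw [Finset.sum_range_succ, Nat.sub_self, pow_zero, pow_one] at e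
      have e2 : (p : R) ^ n * y.coeff n = WittVector.ghostComponent n y -
          ∑ i ∈ Finset.range n, (p : R) ^ i * y.coeff i ^ p ^ (n - i) := by
        rw [e]
        ring
      rw [e2]
      refine Ideal.sub_mem _ (h n hn) (Ideal.sum_mem _ (fun i hi => ?_))
      have hi' : i < n := Finset.mem_range.mp hi
      have hyi := ih i hi' (hi'.trans hn)
      obtain ⟨c, hc⟩ := Ideal.mem_span_singleton'.mp hyi
      rw [Ideal.mem_span_singleton]
      have e3 : (p : R) ^ t = (p : R) ^ i * (p : R) ^ (t - i) := by
        rw [← pow_add]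
        congr 1
        omega
      rw [e3, ← hc]
      refine mul_dvd_mul_left _ (dvd_pow (Dvd.intro_left c rfl) ?_)
      exact pow_ne_zero _ hp.out.ne_zero
    · have : t - n = 0 := by omega
      rw [this, pow_zero, Ideal.span_singleton_one]
      trivial

/-- Key lemma: dividing by `p ^ u` loses at most `u + m` in precision on the first `m`
components. -/
theorem mem_J_of_pow_mul_mem_J {m s u : ℕ} {y : WittVector p R}
    (h : (p : WittVector p R) ^ u * y ∈ J p R m s) : y ∈ J p R m (s - u - m) := by
  rw [mem_J]
  intro n hn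
  have hg : ∀ n < m, WittVector.ghostComponent n y ∈ Ideal.span {(p : R) ^ (s - u)} := by
    intro n hn
    have h1 := ghost_mem_of_mem_J hn h
    rw [map_mul, map_pow, map_natCast] at h1
    by_cases hus : u ≤ s
    · exact mem_span_of_pow_mul_mem hR hus h1
    · have : s - u = 0 := by omega
      rw [this, pow_zero, Ideal.span_singleton_one]
      trivial
  have := coeff_mem_of_ghost_mem hR hg n hn
  exact (Ideal.span_singleton_le_span_singleton.mpr
    (pow_dvd_pow (p : R) (by omega : s - u - m ≤ s - u - n))) this

end TorsionFree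

section Complete

variable [IsAdicComplete (Ideal.span {(p : R)}) R]

theorem exists_limit_J (m : ℕ) (x : ℕ → WittVector p R)
    (hx : ∀ k, x (k + 1) - x k ∈ J p R m k) : ∃ L, ∀ k, L - x k ∈ J p R m k := by
  have hmn : ∀ i, i < m → ∀ k l, k ≤ l →
      (x l).coeff i - (x k).coeff i ∈ Ideal.span {(p : R) ^ k} := by
    intro i hi k l hkl
    induction l, hkl using Nat.le_induction with
    | base => simp
    | succ l hl ih =>
      have h1 : (x (l + 1)).coeff i - (x l).coeff i ∈ Ideal.span {(p : R) ^ k} :=
        (Ideal.span_singleton_le_span_singleton.mpr (pow_dvd_pow (p : R) hl))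
          (sub_mem_J.mp (hx l) i hi)
      have := Ideal.add_mem _ h1 ih
      rwa [sub_add_sub_cancel] at this
  have hL : ∀ i : ℕ, ∃ L : R, i < m → ∀ k, L - (x k).coeff i ∈ Ideal.span {(p : R) ^ k} := by
    intro i
    by_cases hi : i < m
    · obtain ⟨L, hL⟩ := IsPrecomplete.prec' (I := Ideal.span {(p : R)})
        (fun k => (x k).coeff i) (by
          intro k l hkl
          refine SModEq.symm ?_
          rw [SModEq.sub_mem, smul_eq_mul, Ideal.mul_top, Ideal.span_singleton_pow]
          exact hmn i hi k l hkl)
      refine ⟨L, fun _ k => ?_⟩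
      have h1 := (hL k).symm
      rwa [SModEq.sub_mem, smul_eq_mul, Ideal.mul_top, Ideal.span_singleton_pow] at h1
    · exact ⟨0, fun h => absurd h hi⟩
  choose L hL using hL
  refine ⟨WittVector.mk p L, fun k => ?_⟩
  rw [sub_mem_J]
  intro i hi
  exact hL i hi k

theorem eq_zero_of_forall_mem_span (y : R) (h : ∀ k, y ∈ Ideal.span {(p : R) ^ k}) : y = 0 := by
  refine IsHausdorff.haus' (I := Ideal.span {(p : R)}) _ (fun n => ?_)
  rw [SModEq.zero, smul_eq_mul, Ideal.mul_top, Ideal.span_singleton_pow]
  exact h n

variable (hR : ∀ y : R, (p : R) * y = 0 → y = 0)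
include hR

/-- S14861. -/
theorem exists_solution (a : WittVector p R) (m u : ℕ)
    (h : ∀ s : ℕ, ∃ z : WittVector p R, (p : WittVector p R) ^ u * z - a ∈ J p R m s) :
    ∃ x : WittVector p R, (p : WittVector p R) ^ u * x - a ∈
      RingHom.ker (WittVector.truncate (p := p) (R := R) m) := by
  choose z hz using h
  let x : ℕ → WittVector p R := fun k => z (k + u + m)
  have hx : ∀ k, x (k + 1) - x k ∈ J p R m k := by
    intro k
    have h1 : (p : WittVector p R) ^ u * (x (k + 1) - x k) ∈ J p R m (k + u + m) := by
      have e : (p : WittVector p R) ^ u * (x (k + 1) - x k) =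
          ((p : WittVector p R) ^ u * z (k + 1 + u + m) - a) -
            ((p : WittVector p R) ^ u * z (k + u + m) - a) := by ring
      rw [e]
      exact Ideal.sub_mem _ (J_mono_right m (by omega) (hz _)) (hz _)
    have := mem_J_of_pow_mul_mem_J hR h1
    rwa [show k + u + m - u - m = k by omega] at this
  obtain ⟨L, hL⟩ := exists_limit_J m x hx
  refine ⟨L, ?_⟩
  rw [WittVector.mem_ker_truncate]
  intro i hi
  refine eq_zero_of_forall_mem_span (p := p) _ (fun k => ?_)
  have e : (p : WittVector p R) ^ u * L - a =
      (p : WittVector p R) ^ u * (L - x k) + ((p : WittVector p R) ^ u * x k - a) := by ring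
  have hmem : (p : WittVector p R) ^ u * L - a ∈ J p R m k := by
    rw [e]
    exact Ideal.add_mem _ (Ideal.mul_mem_left _ _ (hL k)) (J_mono_right m (by omega) (hz _))
  exact mem_J.mp hmem i hi

theorem mem_ker_truncate_of_pow_mul_mem {r u : ℕ} {y : WittVector p R}
    (h : (p : WittVector p R) ^ u * y ∈ RingHom.ker (WittVector.truncate (p := p) (R := R) r)) :
    y ∈ RingHom.ker (WittVector.truncate (p := p) (R := R) r) := by
  rw [WittVector.mem_ker_truncate]
  intro i hi
  refine eq_zero_of_forall_mem_span (p := p) _ (fun t => ?_)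
  have h1 := mem_J_of_pow_mul_mem_J hR (ker_truncate_le_J r (t + u + r) h)
  rw [show t + u + r - u - r = t by omega] at h1
  exact mem_J.mp h1 i hi

/-- S14862. -/
theorem iInf_sup_eq (u : ℕ) :
    (⨅ r : ℕ, ⨅ s : ℕ,
        Ideal.span {(p : WittVector p R) ^ u} ⊔ RingHom.ker (WittVector.truncate (p := p) (R := R) r) ⊔
          RingHom.ker (WittVector.map (p := p) (Ideal.Quotient.mk (Ideal.span {(p : R) ^ s})))) =
      Ideal.span {(p : WittVector p R) ^ u} := by
  apply le_antisymm
  · intro a ha
    simp only [Ideal.mem_iInf] at ha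
    have hr : ∀ r, ∃ x : WittVector p R, (p : WittVector p R) ^ u * x - a ∈
        RingHom.ker (WittVector.truncate (p := p) (R := R) r) := by
      intro r
      apply exists_solution hR a r u
      intro s
      obtain ⟨b, hb, w, hw, hbw⟩ := Submodule.mem_sup.mp (ha r s)
      obtain ⟨c, hc, i, hi, hci⟩ := Submodule.mem_sup.mp hb
      obtain ⟨z, rfl⟩ := Ideal.mem_span_singleton'.mp hc
      refine ⟨z, ?_⟩
      have e : (p : WittVector p R) ^ u * z - a = -(i + w) := by
        rw [← hbw, ← hci]
        ring
      rw [e]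
      exact (Ideal.neg_mem_iff _).mpr
        (Ideal.add_mem _ (ker_truncate_le_J r s hi) (ker_map_le_J r s hw))
    choose x hx using hr
    have hanti : ∀ {m n : ℕ}, m ≤ n → RingHom.ker (WittVector.truncate (p := p) (R := R) n) ≤
        RingHom.ker (WittVector.truncate (p := p) (R := R) m) := by
      intro m n hmn y hy
      rw [WittVector.mem_ker_truncate] at hy ⊢
      exact fun i hi => hy i (hi.trans_le hmn)
    have hcompat : ∀ r, x (r + 1) - x r ∈ RingHom.ker (WittVector.truncate (p := p) (R := R) r) := by
      intro r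
      apply mem_ker_truncate_of_pow_mul_mem hR (u := u)
      have e : (p : WittVector p R) ^ u * (x (r + 1) - x r) =
          ((p : WittVector p R) ^ u * x (r + 1) - a) - ((p : WittVector p R) ^ u * x r - a) := by
        ring
      rw [e]
      exact Ideal.sub_mem _ (hanti (Nat.le_succ r) (hx (r + 1))) (hx r)
    have hcompat' : ∀ r r', r ≤ r' →
        x r' - x r ∈ RingHom.ker (WittVector.truncate (p := p) (R := R) r) := by
      intro r r' hrr'
      induction r', hrr' using Nat.le_induction with
      | base => simp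
      | succ l hl ih =>
        have := Ideal.add_mem _ (hanti hl (hcompat l)) ih
        rwa [sub_add_sub_cancel] at this
    let X : WittVector p R := WittVector.mk p (fun i => (x (i + 1)).coeff i)
    have hX : ∀ r, X - x r ∈ RingHom.ker (WittVector.truncate (p := p) (R := R) r) := by
      intro r
      rw [WittVector.mem_ker_truncate, ← WittVector.le_coeff_eq_iff_le_sub_coeff_eq_zero]
      intro i hi
      have h1 := hcompat' (i + 1) r hi
      rw [WittVector.mem_ker_truncate, ← WittVector.le_coeff_eq_iff_le_sub_coeff_eq_zero] at h1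
      exact (h1 i (Nat.lt_succ_self i)).symm
    have hfin : (p : WittVector p R) ^ u * X - a = 0 := by
      ext i
      rw [WittVector.zero_coeff]
      have e : (p : WittVector p R) ^ u * X - a =
          (p : WittVector p R) ^ u * (X - x (i + 1)) + ((p : WittVector p R) ^ u * x (i + 1) - a) := by
        ring
      have hmem : (p : WittVector p R) ^ u * X - a ∈
          RingHom.ker (WittVector.truncate (p := p) (R := R) (i + 1)) := by
        rw [e]
        exact Ideal.add_mem _ (Ideal.mul_mem_left _ _ (hX (i + 1))) (hx (i + 1))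
      exact (WittVector.mem_ker_truncate _ _).mp hmem i (Nat.lt_succ_self i)
    rw [Ideal.mem_span_singleton']
    exact ⟨X, by rw [mul_comm]; exact sub_eq_zero.mp hfin⟩
  · exact le_iInf fun r => le_iInf fun s => le_sup_of_le_left le_sup_left

end Complete

end Groth.Agent.Lib.WittComplete58
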