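import Mathlib
import Groth.Agent.Lib.WittComplete58

/-!
# `W(R)` is `I_R`-adically complete for `p`-adically complete `R` (helper58)

`I_R = ker (W(R) → R) = V W(R)`; `I_R * I_R = p I_R`.
-/

set_option autoImplicit false
universe u

namespace Groth.Agent.Lib.WittComplete58

open Groth.Agent.Lib.SeriesComplete58

variable {p : ℕ} [hp : Fact p.Prime] {R : Type u} [CommRing R]

theorem mem_ker_constantCoeff_iff {x : WittVector p R} :
    x ∈ RingHom.ker (WittVector.constantCoeff : WittVector p R →+* R) ↔
      ∃ y, x = WittVector.verschiebung y := by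
  rw [RingHom.mem_ker]
  constructor
  · intro h
    refine ⟨x.shift 1, ?_⟩
    have := WittVector.eq_iterate_verschiebung (x := x) (n := 1) (by
      intro i hi
      obtain rfl : i = 0 := by omega
      exact h)
    simpa using this
  · rintro ⟨y, rfl⟩
    exact WittVector.verschiebung_coeff_zero y

theorem verschiebung_mem_ker (y : WittVector p R) :
    WittVector.verschiebung y ∈ RingHom.ker (WittVector.constantCoeff : WittVector p R →+* R) :=
  mem_ker_constantCoeff_iff.mpr ⟨y, rfl⟩

theorem verschiebung_mul_verschiebung (x y : WittVector p R) :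
    WittVector.verschiebung x * WittVector.verschiebung y =
      (p : WittVector p R) * WittVector.verschiebung (x * y) := by
  rw [← WittVector.verschiebung_mul_frobenius, WittVector.frobenius_verschiebung, ← mul_assoc,
    ← nsmul_eq_mul' (x * y) p, map_nsmul, nsmul_eq_mul]

theorem ker_mul_ker :
    RingHom.ker (WittVector.constantCoeff : WittVector p R →+* R) *
      RingHom.ker (WittVector.constantCoeff : WittVector p R →+* R) =
    Ideal.span {(p : WittVector p R)} *
      RingHom.ker (WittVector.constantCoeff : WittVector p R →+* R) := by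
  apply le_antisymm
  · rw [Ideal.mul_le]
    intro x hx y hy
    obtain ⟨x', rfl⟩ := mem_ker_constantCoeff_iff.mp hx
    obtain ⟨y', rfl⟩ := mem_ker_constantCoeff_iff.mp hy
    rw [verschiebung_mul_verschiebung]
    exact Ideal.mul_mem_mul (Ideal.mem_span_singleton_self _) (verschiebung_mem_ker _)
  · rw [Ideal.span_singleton_mul_le_iff]
    intro z hz
    obtain ⟨z', rfl⟩ := mem_ker_constantCoeff_iff.mp hz
    have := verschiebung_mul_verschiebung (1 : WittVector p R) z'
    rw [one_mul] at this
    rw [← this]
    exact Ideal.mul_mem_mul (verschiebung_mem_ker _) (verschiebung_mem_ker _)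

theorem ker_closed [IsAdicComplete (Ideal.span {(p : R)}) R] (x : WittVector p R)
    (hx : ∀ n, x ∈ RingHom.ker (WittVector.constantCoeff : WittVector p R →+* R) ⊔
      Ideal.span {(p : WittVector p R) ^ n}) :
    x ∈ RingHom.ker (WittVector.constantCoeff : WittVector p R →+* R) := by
  rw [RingHom.mem_ker]
  refine IsHausdorff.haus' (I := Ideal.span {(p : R)}) _ (fun n => ?_)
  rw [SModEq.zero, smul_eq_mul, Ideal.mul_top, Ideal.span_singleton_pow]
  obtain ⟨y, hy, z, hz, rfl⟩ := Submodule.mem_sup.mp (hx n)
  obtain ⟨c, rfl⟩ := Ideal.mem_span_singleton'.mp hz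
  rw [map_add, RingHom.mem_ker.mp hy, zero_add, map_mul, map_pow, map_natCast]
  exact Ideal.mul_mem_left _ _ (Ideal.mem_span_singleton_self _)

/-- `W(R)` is `I_R`-adically complete if `R` is `p`-adically complete. -/
theorem isAdicComplete_ker [IsAdicComplete (Ideal.span {(p : R)}) R] :
    IsAdicComplete (RingHom.ker (WittVector.constantCoeff : WittVector p R →+* R))
      (WittVector p R) := by
  have := isAdicComplete_p (p := p) (R := R)
  exact isAdicComplete_of_mul_eq (a := (p : WittVector p R)) _ ker_mul_ker ker_closed

/-- The ideal generated by the image of Verschiebung is the kernel of `W(R) → R`. -/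
theorem span_range_verschiebung :
    Ideal.span (Set.range (WittVector.verschiebung : WittVector p R → WittVector p R)) =
      RingHom.ker (WittVector.constantCoeff : WittVector p R →+* R) := by
  apply le_antisymm
  · rw [Ideal.span_le]
    rintro _ ⟨y, rfl⟩
    exact verschiebung_mem_ker y
  · intro x hx
    obtain ⟨y, rfl⟩ := mem_ker_constantCoeff_iff.mp hx
    exact Ideal.subset_span ⟨y, rfl⟩

end Groth.Agent.Lib.WittComplete58
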