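import Mathlib

/-!
# Witt structure polynomials are isobaric (helper27)

If `Φ ∈ ℤ[X_b, b ∈ idx]` is weighted homogeneous of degree `d : M` for weights `w : idx → M`
(`M` any additive commutative monoid), then `wittStructureInt p Φ n` is weighted homogeneous of
degree `p ^ n • d` for the weights `(b, i) ↦ p ^ i • w b`.

Consequences: `wittAdd p n`, `wittSub p n`, `wittNeg p n` are isobaric of weight `p ^ n` for the
weights `(b, i) ↦ p ^ i`, and `wittMul p n` is bi-isobaric of weight `(p ^ n, p ^ n)`.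

Application (`WittVector` level): if `G : M → AddSubgroup K` is a multiplicative family
(`1 ∈ G 0`, `G a * G b ⊆ G (a + b)`) then Witt vectors whose `i`-th coordinate lies in
`G (p ^ i • a)` are stable under `+`, `-`, negation, and products land in `G (p ^ i • (a + b))`.
-/

namespace Groth.Agent.Lib.WittIsobaric27

open MvPolynomial WittVector

section General

variable {σ τ R M : Type*} [CommSemiring R] [AddCommMonoid M]

/-- Substituting weighted homogeneous polynomials `f b` of degree `c • w b` into a polynomial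
weighted homogeneous of degree `d` for `w` gives degree `c • d`. -/
theorem isWeightedHomogeneous_bind₁ (w : σ → M) (w' : τ → M) (c : ℕ)
    (f : σ → MvPolynomial τ R) (hf : ∀ b, IsWeightedHomogeneous w' (f b) (c • w b))
    {Φ : MvPolynomial σ R} {d : M} (hΦ : IsWeightedHomogeneous w Φ d) :
    IsWeightedHomogeneous w' (bind₁ f Φ) (c • d) := by
  classical
  rw [Φ.as_sum, map_sum]
  refine IsWeightedHomogeneous.sum _ _ _ (fun m hm => ?_)
  rw [bind₁_monomial]
  have hd : Finsupp.weight w m = d := hΦ (mem_support_iff.mp hm)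
  have h1 : IsWeightedHomogeneous w' (∏ i ∈ m.support, f i ^ m i)
      (∑ i ∈ m.support, m i • (c • w i)) :=
    IsWeightedHomogeneous.prod _ _ _ (fun i _ => (hf i).pow (m i))
  have h2 : ∑ i ∈ m.support, m i • (c • w i) = c • d := by
    rw [← hd, Finsupp.weight_apply, Finsupp.sum, Finset.smul_sum]
    refine Finset.sum_congr rfl (fun i _ => ?_)
    rw [smul_comm]
  rw [h2] at h1
  exact h1.C_mul _

end General

section Witt

variable (p : ℕ) [hp : Fact p.Prime] {idx M : Type*} [AddCommMonoid M]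

/-- The weights `(b, i) ↦ p ^ i • w b`. -/
def wt (w : idx → M) : idx × ℕ → M := fun bi => p ^ bi.2 • w bi.1

omit hp in
theorem isWeightedHomogeneous_rename_wittPolynomial (w : idx → M) (b : idx) (n : ℕ) :
    IsWeightedHomogeneous (wt p w) (rename (Prod.mk b) (wittPolynomial p ℤ n)) (p ^ n • w b) := by
  rw [wittPolynomial_eq_sum_C_mul_X_pow, map_sum]
  refine IsWeightedHomogeneous.sum _ _ _ (fun i hi => ?_)
  have hi' : i ≤ n := Nat.lt_succ_iff.mp (Finset.mem_range.mp hi)
  have hren : rename (Prod.mk b) (C ((p : ℤ) ^ i) * X i ^ p ^ (n - i) : MvPolynomial ℕ ℤ) =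
      C ((p : ℤ) ^ i) * (X (b, i) : MvPolynomial (idx × ℕ) ℤ) ^ p ^ (n - i) := by
    rw [map_mul, rename_C, map_pow (rename (Prod.mk b)), rename_X]
  rw [hren]
  have h1 : IsWeightedHomogeneous (wt p w) ((X (b, i) : MvPolynomial (idx × ℕ) ℤ) ^ p ^ (n - i))
      (p ^ (n - i) • wt p w (b, i)) := (isWeightedHomogeneous_X ℤ (wt p w) (b, i)).pow _
  have h2 : p ^ (n - i) • wt p w (b, i) = p ^ n • w b := by
    simp only [wt]
    rw [smul_smul, ← pow_add, Nat.sub_add_cancel hi']
  rw [h2] at h1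
  exact h1.C_mul _

/-- **Witt structure polynomials are isobaric.** -/
theorem wittStructureInt_isWeightedHomogeneous (w : idx → M) (Φ : MvPolynomial idx ℤ) (d : M)
    (hΦ : IsWeightedHomogeneous w Φ d) (n : ℕ) :
    IsWeightedHomogeneous (wt p w) (wittStructureInt p Φ n) (p ^ n • d) := by
  induction n using Nat.strong_induction_on with
  | _ n ih =>
    have hprop := wittStructureInt_prop p Φ n
    have hR : IsWeightedHomogeneous (wt p w)
        (bind₁ (fun i => rename (Prod.mk i) (wittPolynomial p ℤ n)) Φ) (p ^ n • d) :=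
      isWeightedHomogeneous_bind₁ w (wt p w) (p ^ n) _
        (fun b => isWeightedHomogeneous_rename_wittPolynomial p w b n) hΦ
    have key : bind₁ (wittStructureInt p Φ) (wittPolynomial p ℤ n) =
        ∑ i ∈ Finset.range (n + 1), C ((p : ℤ) ^ i) * (wittStructureInt p Φ i) ^ p ^ (n - i) := by
      rw [wittPolynomial_eq_sum_C_mul_X_pow, map_sum]
      refine Finset.sum_congr rfl (fun i _ => ?_)
      rw [map_mul, bind₁_C_right, map_pow (bind₁ (wittStructureInt p Φ)), bind₁_X_right]
    rw [← hprop, key, Finset.sum_range_succ, Nat.sub_self, pow_zero, pow_one] at hR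
    have hlow : IsWeightedHomogeneous (wt p w)
        (∑ i ∈ Finset.range n, C ((p : ℤ) ^ i) * wittStructureInt p Φ i ^ p ^ (n - i))
        (p ^ n • d) := by
      refine IsWeightedHomogeneous.sum _ _ _ (fun i hi => ?_)
      have hi' : i < n := Finset.mem_range.mp hi
      have h1 := (ih i hi').pow (p ^ (n - i))
      have h2 : p ^ (n - i) • p ^ i • d = p ^ n • d := by
        rw [smul_smul, ← pow_add, Nat.sub_add_cancel hi'.le]
      rw [h2] at h1
      exact h1.C_mul _
    have htop : IsWeightedHomogeneous (wt p w)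
        (C ((p : ℤ) ^ n) * wittStructureInt p Φ n) (p ^ n • d) := by
      have := hR.sub hlow
      rwa [add_sub_cancel_left] at this
    intro m hm
    apply htop
    rw [coeff_C_mul]
    exact mul_ne_zero (pow_ne_zero _ (by exact_mod_cast hp.out.ne_zero)) hm

/-- weights `(b, i) ↦ p ^ i` on `Fin k × ℕ`. -/
def wt1 {k : ℕ} : Fin k × ℕ → ℕ := fun bi => p ^ bi.2

omit hp in
theorem wt_one_eq {k : ℕ} : wt p (fun _ : Fin k => (1 : ℕ)) = wt1 p := by
  funext bi; simp [wt, wt1]

theorem wittAdd_isWeightedHomogeneous (n : ℕ) :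
    IsWeightedHomogeneous (wt1 p (k := 2)) (wittAdd p n) (p ^ n) := by
  have h := wittStructureInt_isWeightedHomogeneous p (fun _ : Fin 2 => (1 : ℕ)) (X 0 + X 1) 1
    ((isWeightedHomogeneous_X ℤ _ 0).add (isWeightedHomogeneous_X ℤ _ 1)) n
  rwa [wt_one_eq, smul_eq_mul, mul_one] at h

theorem wittSub_isWeightedHomogeneous (n : ℕ) :
    IsWeightedHomogeneous (wt1 p (k := 2)) (wittSub p n) (p ^ n) := by
  have h := wittStructureInt_isWeightedHomogeneous p (fun _ : Fin 2 => (1 : ℕ)) (X 0 - X 1) 1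
    ((isWeightedHomogeneous_X ℤ _ 0).sub (isWeightedHomogeneous_X ℤ _ 1)) n
  rwa [wt_one_eq, smul_eq_mul, mul_one] at h

theorem wittNeg_isWeightedHomogeneous (n : ℕ) :
    IsWeightedHomogeneous (wt1 p (k := 1)) (wittNeg p n) (p ^ n) := by
  have h := wittStructureInt_isWeightedHomogeneous p (fun _ : Fin 1 => (1 : ℕ)) (-X 0) 1
    ((isWeightedHomogeneous_X ℤ _ 0).neg) n
  rwa [wt_one_eq, smul_eq_mul, mul_one] at h

/-- bi-weights for multiplication: `(0, i) ↦ p ^ i • a`, `(1, i) ↦ p ^ i • b`. -/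
theorem wittMul_isWeightedHomogeneous (a b : M) (n : ℕ) :
    IsWeightedHomogeneous (wt p (![a, b] : Fin 2 → M)) (wittMul p n) (p ^ n • (a + b)) := by
  refine wittStructureInt_isWeightedHomogeneous p (![a, b] : Fin 2 → M) (X 0 * X 1) (a + b) ?_ n
  have h0 := isWeightedHomogeneous_X ℤ (![a, b] : Fin 2 → M) 0
  have h1 := isWeightedHomogeneous_X ℤ (![a, b] : Fin 2 → M) 1
  simpa using h0.mul h1

end Witt

section Eval

variable {τ K M : Type*} [CommRing K] [AddCommMonoid M]

/-- Evaluating a weighted homogeneous integer polynomial on elements of a multiplicative family of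
additive subgroups. -/
theorem aeval_mem_of_isWeightedHomogeneous (G : M → AddSubgroup K) (h1 : (1 : K) ∈ G 0)
    (hmul : ∀ a b : M, ∀ x ∈ G a, ∀ y ∈ G b, x * y ∈ G (a + b))
    (w : τ → M) (v : τ → K) (hv : ∀ t, v t ∈ G (w t))
    {P : MvPolynomial τ ℤ} {d : M} (hP : IsWeightedHomogeneous w P d) :
    aeval v P ∈ G d := by
  classical
  have hpow : ∀ (a : M) (x : K), x ∈ G a → ∀ k : ℕ, x ^ k ∈ G (k • a) := by
    intro a x hx k
    induction k with
    | zero => simpa using h1
    | succ k ih => rw [pow_succ, succ_nsmul]; exact hmul _ _ _ ih _ hx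
  have hprod : ∀ (s : Finset τ) (m : τ →₀ ℕ), ∏ t ∈ s, v t ^ m t ∈ G (∑ t ∈ s, m t • w t) := by
    intro s m
    induction s using Finset.induction_on with
    | empty => simpa using h1
    | insert a s ha ih =>
      rw [Finset.prod_insert ha, Finset.sum_insert ha]
      exact hmul _ _ _ (hpow _ _ (hv a) _) _ ih
  rw [P.as_sum, map_sum]
  refine AddSubgroup.sum_mem _ (fun m hm => ?_)
  have hd : Finsupp.weight w m = d := hP (mem_support_iff.mp hm)
  rw [aeval_monomial, Finsupp.prod]
  have h2 := hprod m.support m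
  rw [← hd, Finsupp.weight_apply, Finsupp.sum]
  have : (algebraMap ℤ K) (coeff m P) * ∏ t ∈ m.support, v t ^ m t =
      (coeff m P) • ∏ t ∈ m.support, v t ^ m t := by
    rw [zsmul_eq_mul]; simp
  rw [this]
  exact AddSubgroup.zsmul_mem _ h2 _

end Eval

section WittVectorLevel

variable (p : ℕ) [hp : Fact p.Prime] {K M : Type*} [CommRing K] [AddCommMonoid M]

local notation "𝕎" => WittVector p

variable (G : M → AddSubgroup K) (h1 : (1 : K) ∈ G 0)
  (hmul : ∀ a b : M, ∀ x ∈ G a, ∀ y ∈ G b, x * y ∈ G (a + b))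

include h1 hmul

theorem add_coeff_mem (a : M) (x y : 𝕎 K) (hx : ∀ i, x.coeff i ∈ G (p ^ i • a))
    (hy : ∀ i, y.coeff i ∈ G (p ^ i • a)) (n : ℕ) : (x + y).coeff n ∈ G (p ^ n • a) := by
  rw [WittVector.add_coeff, WittVector.peval]
  have hP := wittStructureInt_isWeightedHomogeneous p (fun _ : Fin 2 => a) (X 0 + X 1) a
    ((isWeightedHomogeneous_X ℤ _ 0).add (isWeightedHomogeneous_X ℤ _ 1)) n
  refine aeval_mem_of_isWeightedHomogeneous G h1 hmul (wt p (fun _ : Fin 2 => a)) _ ?_ hP
  rintro ⟨b, i⟩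
  fin_cases b
  · exact hx i
  · exact hy i

theorem sub_coeff_mem (a : M) (x y : 𝕎 K) (hx : ∀ i, x.coeff i ∈ G (p ^ i • a))
    (hy : ∀ i, y.coeff i ∈ G (p ^ i • a)) (n : ℕ) : (x - y).coeff n ∈ G (p ^ n • a) := by
  rw [WittVector.sub_coeff, WittVector.peval]
  have hP := wittStructureInt_isWeightedHomogeneous p (fun _ : Fin 2 => a) (X 0 - X 1) a
    ((isWeightedHomogeneous_X ℤ _ 0).sub (isWeightedHomogeneous_X ℤ _ 1)) n
  refine aeval_mem_of_isWeightedHomogeneous G h1 hmul (wt p (fun _ : Fin 2 => a)) _ ?_ hP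
  rintro ⟨b, i⟩
  fin_cases b
  · exact hx i
  · exact hy i

theorem mul_coeff_mem (a b : M) (x y : 𝕎 K) (hx : ∀ i, x.coeff i ∈ G (p ^ i • a))
    (hy : ∀ i, y.coeff i ∈ G (p ^ i • b)) (n : ℕ) : (x * y).coeff n ∈ G (p ^ n • (a + b)) := by
  rw [WittVector.mul_coeff, WittVector.peval]
  have hP := wittMul_isWeightedHomogeneous p a b n
  refine aeval_mem_of_isWeightedHomogeneous G h1 hmul (wt p (![a, b] : Fin 2 → M)) _ ?_ hP
  rintro ⟨c, i⟩
  fin_cases c
  · exact hx i
  · exact hy i

end WittVectorLevel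

end Groth.Agent.Lib.WittIsobaric27
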