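import Mathlib
import Groth.Agent.Lib.NormalDecomp58

/-!
# Lifting finite projective modules along a surjection with kernel in the radical (helper58)

Abstract part: `Φ : A →+* B` a ring homomorphism.

* `exists_lift_semilinear`: maps out of a projective module lift along surjective semilinear maps.
* `exists_equiv_of_le_jacobson`: two finite projective lifts of the same `B`-module are isomorphic
  when `ker Φ ≤ jacobson ⊥`.
* `exists_lift_of_idempotent`: an idempotent of `A^k` lifting the idempotent `i ∘ g` of `B^k`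
  cutting out `P` gives a finite projective lift of `P`.
-/

set_option autoImplicit false
universe u v w

namespace Groth.Agent.Lib.WittLift58

open Groth.Agent.Lib.NormalDecomp58

variable {A : Type u} {B : Type v} [CommRing A] [CommRing B] (Φ : A →+* B)

/-- Maps out of a projective module lift along surjective semilinear maps. -/
theorem exists_lift_semilinear {P₁ P₂ P : Type*} [AddCommGroup P₁] [Module A P₁]
    [Module.Projective A P₁] [AddCommGroup P₂] [Module A P₂] [AddCommGroup P] [Module B P]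
    (π₁ : P₁ →ₛₗ[Φ] P) (π₂ : P₂ →ₛₗ[Φ] P) (h₂ : Function.Surjective π₂) :
    ∃ h : P₁ →ₗ[A] P₂, ∀ x, π₂ (h x) = π₁ x := by
  let _ : Module A P := Module.compHom P Φ
  let π₁' : P₁ →ₗ[A] P :=
    { toFun := π₁
      map_add' := map_add π₁
      map_smul' := fun a x => π₁.map_smulₛₗ a x }
  let π₂' : P₂ →ₗ[A] P :=
    { toFun := π₂
      map_add' := map_add π₂
      map_smul' := fun a x => π₂.map_smulₛₗ a x }
  obtain ⟨h, hh⟩ := Module.projective_lifting_property π₂' π₁' h₂
  exact ⟨h, fun x => LinearMap.congr_fun hh x⟩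

theorem smul_top_le_ker {P₁ P : Type*} [AddCommGroup P₁] [Module A P₁] [AddCommGroup P]
    [Module B P] (π₁ : P₁ →ₛₗ[Φ] P) :
    RingHom.ker Φ • (⊤ : Submodule A P₁) ≤ LinearMap.ker π₁ := by
  rw [Submodule.smul_le]
  intro a ha x _
  rw [LinearMap.mem_ker, π₁.map_smulₛₗ, RingHom.mem_ker.mp ha, zero_smul]

/-- A lift `h` of `π₁` through `π₂` is surjective when `ker π₂ = ker Φ • ⊤`, `π₁` is surjective
and `ker Φ` lies in the Jacobson radical. -/
theorem surjective_of_lift (hjac : RingHom.ker Φ ≤ Ideal.jacobson ⊥)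
    {P₁ P₂ P : Type*} [AddCommGroup P₁] [Module A P₁]
    [AddCommGroup P₂] [Module A P₂] [Module.Finite A P₂] [AddCommGroup P] [Module B P]
    (π₁ : P₁ →ₛₗ[Φ] P) (π₂ : P₂ →ₛₗ[Φ] P) (h₁ : Function.Surjective π₁)
    (hk₂ : LinearMap.ker π₂ = RingHom.ker Φ • (⊤ : Submodule A P₂))
    (h : P₁ →ₗ[A] P₂) (hh : ∀ x, π₂ (h x) = π₁ x) : Function.Surjective h := by
  rw [← LinearMap.range_eq_top, eq_top_iff]
  refine Submodule.le_of_le_smul_of_le_jacobson_bot Module.Finite.fg_top hjac ?_
  intro y _
  obtain ⟨x, hx⟩ := h₁ (π₂ y)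
  have : y - h x ∈ LinearMap.ker π₂ := by
    rw [LinearMap.mem_ker, map_sub, hh, hx, sub_self]
  rw [hk₂] at this
  have e : y = h x + (y - h x) := by abel
  rw [e]
  exact Submodule.add_mem_sup (LinearMap.mem_range_self h x) this

/-- Uniqueness of finite projective lifts. -/
theorem exists_equiv_of_le_jacobson (hjac : RingHom.ker Φ ≤ Ideal.jacobson ⊥)
    {P₁ P₂ P : Type*} [AddCommGroup P₁] [Module A P₁] [Module.Finite A P₁]
    [Module.Projective A P₁]
    [AddCommGroup P₂] [Module A P₂] [Module.Finite A P₂] [Module.Projective A P₂]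
    [AddCommGroup P] [Module B P]
    (π₁ : P₁ →ₛₗ[Φ] P) (π₂ : P₂ →ₛₗ[Φ] P) (h₁ : Function.Surjective π₁)
    (hk₁ : LinearMap.ker π₁ = RingHom.ker Φ • (⊤ : Submodule A P₁))
    (h₂ : Function.Surjective π₂)
    (hk₂ : LinearMap.ker π₂ = RingHom.ker Φ • (⊤ : Submodule A P₂)) :
    ∃ e : P₁ ≃ₗ[A] P₂, ∀ x, π₂ (e x) = π₁ x := by
  obtain ⟨h, hh⟩ := exists_lift_semilinear Φ π₁ π₂ h₂
  obtain ⟨h', hh'⟩ := exists_lift_semilinear Φ π₂ π₁ h₁
  have hs : Function.Surjective h := surjective_of_lift Φ hjac π₁ π₂ h₁ hk₂ h hh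
  have hs' : Function.Surjective h' := surjective_of_lift Φ hjac π₂ π₁ h₂ hk₁ h' hh'
  have hinj : Function.Injective (h' ∘ₗ h) :=
    OrzechProperty.injective_of_surjective_endomorphism (h' ∘ₗ h) (hs'.comp hs)
  have hinj' : Function.Injective h := by
    intro x y hxy
    apply hinj
    show h' (h x) = h' (h y)
    rw [hxy]
  exact ⟨LinearEquiv.ofBijective h ⟨hinj', hs⟩, hh⟩

/-- Existence of a finite projective lift from an idempotent lift. -/
theorem exists_lift_of_idempotent (hΦ : Function.Surjective Φ)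
    {P : Type w} [AddCommGroup P] [Module B P] (k : ℕ)
    (g : (Fin k → B) →ₗ[B] P) (i : P →ₗ[B] (Fin k → B)) (hgi : ∀ y, g (i y) = y)
    (e : Module.End A (Fin k → A)) (he : ∀ x, e (e x) = e x)
    (hcomm : ∀ x : Fin k → A, (fun j => Φ (e x j)) = i (g (fun j => Φ (x j)))) :
    ∃ (P' : Type u) (_ : AddCommGroup P') (_ : Module A P'),
      Module.Finite A P' ∧ Module.Projective A P' ∧
        ∃ π : P' →ₛₗ[Φ] P, Function.Surjective π ∧
          LinearMap.ker π = RingHom.ker Φ • (⊤ : Submodule A P') := by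
  let ι : LinearMap.range e →ₗ[A] (Fin k → A) := (LinearMap.range e).subtype
  let s : (Fin k → A) →ₗ[A] LinearMap.range e := e.rangeRestrict
  have hsι : ∀ u : LinearMap.range e, s (ι u) = u := by
    rintro ⟨_, c, rfl⟩
    apply Subtype.ext
    show e (e c) = e c
    exact he c
  have hιs : ∀ c, ι (s c) = e c := fun c => rfl
  have hP'proj : Module.Projective A (LinearMap.range e) :=
    Module.Projective.of_split ι s (LinearMap.ext hsι)
  have hP'fin : Module.Finite A (LinearMap.range e) := inferInstance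
  let Φk : (Fin k → A) →ₛₗ[Φ] (Fin k → B) :=
    { toFun := fun x j => Φ (x j)
      map_add' := fun x y => by funext j; simp
      map_smul' := fun a x => by funext j; simp }
  let π : LinearMap.range e →ₛₗ[Φ] P :=
    { toFun := fun u => g (Φk (ι u))
      map_add' := fun x y => by rw [map_add, map_add, map_add]
      map_smul' := fun a x => by rw [map_smul, Φk.map_smulₛₗ, map_smul] }
  have hπ : ∀ u, π u = g (Φk (ι u)) := fun u => rfl
  have hcomm' : ∀ x, Φk (e x) = i (g (Φk x)) := hcomm
  refine ⟨LinearMap.range e, inferInstance, inferInstance, hP'fin, hP'proj, π, ?_, ?_⟩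
  · intro y
    have hc : ∃ c : Fin k → A, Φk c = i y := by
      choose c hc using fun j => hΦ (i y j)
      exact ⟨c, funext hc⟩
    obtain ⟨c, hc⟩ := hc
    refine ⟨s c, ?_⟩
    rw [hπ, hιs, hcomm', hc, hgi, hgi]
  · refine le_antisymm ?_ (smul_top_le_ker Φ π)
    intro u hu
    rw [LinearMap.mem_ker, hπ] at hu
    have h1 : Φk (ι u) = 0 := by
      have h2 : e (ι u) = ι u := by rw [← hιs, hsι]
      rw [← h2, hcomm', hu, map_zero]
    have h3 : ι u ∈ RingHom.ker Φ • (⊤ : Submodule A (Fin k → A)) := by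
      rw [Groth.Agent.Lib.AdicPi.mem_smul_top_pi_iff]
      intro j
      rw [RingHom.mem_ker]
      exact congrFun h1 j
    have := map_mem_smul_top (RingHom.ker Φ) s h3
    rwa [hsι] at this

end Groth.Agent.Lib.WittLift58
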