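import Mathlib

/-!
# `W(𝔠)` is nilpotent modulo the `V`-filtration when `𝔠` is nilpotent (helper58)

For an ideal `𝔠` of `S` write `Wc 𝔠 = ker (W(S) → W(S/𝔠))` (Witt vectors with all coefficients in
`𝔠`).  If `𝔠 ^ M = 0` then `(Wc 𝔠) ^ (n * M + 1) ≤ ker (truncate n)`.
-/

set_option autoImplicit false
universe u

namespace Groth.Agent.Lib.WittNil58

variable {p : ℕ} [hp : Fact p.Prime] {S : Type u} [CommRing S]

/-- Witt vectors all of whose coefficients lie in `𝔠`. -/
noncomputable def Wc (p : ℕ) [Fact p.Prime] (𝔠 : Ideal S) : Ideal (WittVector p S) :=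
  RingHom.ker (WittVector.map (p := p) (Ideal.Quotient.mk 𝔠))

theorem mem_Wc {𝔠 : Ideal S} {x : WittVector p S} : x ∈ Wc p 𝔠 ↔ ∀ i, x.coeff i ∈ 𝔠 := by
  rw [Wc, RingHom.mem_ker, WittVector.ext_iff]
  simp only [WittVector.map_coeff, WittVector.zero_coeff, Ideal.Quotient.eq_zero_iff_mem]

theorem frobenius_mem_Wc {𝔠 : Ideal S} {x : WittVector p S} (hx : x ∈ Wc p 𝔠) :
    WittVector.frobenius x ∈ Wc p 𝔠 := by
  rw [Wc, RingHom.mem_ker] at hx ⊢
  rw [(WittVector.frobenius_isPoly p).map, hx, map_zero]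

theorem iterate_frobenius_mem_Wc {𝔠 : Ideal S} {x : WittVector p S} (hx : x ∈ Wc p 𝔠) (i : ℕ) :
    WittVector.frobenius^[i] x ∈ Wc p 𝔠 := by
  induction i with
  | zero => exact hx
  | succ i ih =>
    rw [Function.iterate_succ_apply']
    exact frobenius_mem_Wc ih

/-- Coefficient `i` of a product `x * y` when the first `i` coefficients of `x` vanish. -/
theorem mul_coeff_of_mem_ker {i : ℕ} {x : WittVector p S}
    (hx : ∀ l < i, x.coeff l = 0) (y : WittVector p S) :
    (x * y).coeff i = x.coeff i * (WittVector.frobenius^[i] y).coeff 0 := by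
  have e := WittVector.eq_iterate_verschiebung hx
  have e2 : x * y = WittVector.verschiebung^[i] (x.shift i * WittVector.frobenius^[i] y) := by
    conv_lhs => rw [e]
    exact WittVector.iterate_verschiebung_mul_left _ _ _
  have e3 := WittVector.iterate_verschiebung_coeff (x.shift i * WittVector.frobenius^[i] y) i 0
  rw [zero_add] at e3
  rw [e2, e3, WittVector.mul_coeff_zero, WittVector.shift_coeff, add_zero]

theorem add_coeff_of_mem_ker {i : ℕ} {x y : WittVector p S}
    (hx : ∀ l < i, x.coeff l = 0) (hy : ∀ l < i, y.coeff l = 0) :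
    (x + y).coeff i = x.coeff i + y.coeff i := by
  have ex := WittVector.eq_iterate_verschiebung hx
  have ey := WittVector.eq_iterate_verschiebung hy
  have e2 : x + y = WittVector.verschiebung^[i] (x.shift i + y.shift i) := by
    conv_lhs => rw [ex, ey]
    exact (iterate_map_add _ _ _ _).symm
  have e3 := WittVector.iterate_verschiebung_coeff (x.shift i + y.shift i) i 0
  rw [zero_add] at e3
  rw [e2, e3, WittVector.add_coeff_zero, WittVector.shift_coeff, WittVector.shift_coeff, add_zero]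

/-- The ideal of Witt vectors in `Wc 𝔠` whose first `i` coefficients vanish and whose `i`-th
coefficient lies in `𝔠 ^ e`. -/
noncomputable def T (p : ℕ) [Fact p.Prime] (𝔠 : Ideal S) (i e : ℕ) : Ideal (WittVector p S) where
  carrier := {x | x ∈ Wc p 𝔠 ∧ (∀ l < i, x.coeff l = 0) ∧ x.coeff i ∈ 𝔠 ^ e}
  zero_mem' := ⟨zero_mem _, fun _ _ => WittVector.zero_coeff _ _ _, by
    rw [WittVector.zero_coeff]; exact zero_mem _⟩
  add_mem' := by
    rintro x y ⟨hx1, hx2, hx3⟩ ⟨hy1, hy2, hy3⟩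
    refine ⟨add_mem hx1 hy1, ?_, ?_⟩
    · have hx' : x ∈ RingHom.ker (WittVector.truncate (p := p) (R := S) i) :=
        (WittVector.mem_ker_truncate _ _).mpr hx2
      have hy' : y ∈ RingHom.ker (WittVector.truncate (p := p) (R := S) i) :=
        (WittVector.mem_ker_truncate _ _).mpr hy2
      exact (WittVector.mem_ker_truncate _ _).mp (add_mem hx' hy')
    · rw [add_coeff_of_mem_ker hx2 hy2]
      exact add_mem hx3 hy3
  smul_mem' := by
    rintro a x ⟨hx1, hx2, hx3⟩
    rw [smul_eq_mul]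
    refine ⟨Ideal.mul_mem_left _ _ hx1, ?_, ?_⟩
    · have hx' : x ∈ RingHom.ker (WittVector.truncate (p := p) (R := S) i) :=
        (WittVector.mem_ker_truncate _ _).mpr hx2
      exact (WittVector.mem_ker_truncate _ _).mp (Ideal.mul_mem_left _ a hx')
    · rw [mul_comm, mul_coeff_of_mem_ker hx2]
      exact Ideal.mul_mem_right _ _ hx3

theorem mem_T {𝔠 : Ideal S} {i e : ℕ} {x : WittVector p S} :
    x ∈ T p 𝔠 i e ↔ x ∈ Wc p 𝔠 ∧ (∀ l < i, x.coeff l = 0) ∧ x.coeff i ∈ 𝔠 ^ e := Iff.rfl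

theorem T_mul_le (𝔠 : Ideal S) (i e : ℕ) : T p 𝔠 i e * Wc p 𝔠 ≤ T p 𝔠 i (e + 1) := by
  rw [Ideal.mul_le]
  rintro x ⟨hx1, hx2, hx3⟩ y hy
  refine ⟨Ideal.mul_mem_right _ _ hx1, ?_, ?_⟩
  · have hx' : x ∈ RingHom.ker (WittVector.truncate (p := p) (R := S) i) :=
      (WittVector.mem_ker_truncate _ _).mpr hx2
    exact (WittVector.mem_ker_truncate _ _).mp (Ideal.mul_mem_right _ _ hx')
  · rw [mul_coeff_of_mem_ker hx2, pow_succ]
    exact Ideal.mul_mem_mul hx3 (mem_Wc.mp (iterate_frobenius_mem_Wc hy i) 0)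

theorem T_mul_pow_le (𝔠 : Ideal S) (i e j : ℕ) :
    T p 𝔠 i e * (Wc p 𝔠) ^ j ≤ T p 𝔠 i (e + j) := by
  induction j with
  | zero => simp
  | succ j ih =>
    rw [pow_succ, ← mul_assoc, ← add_assoc]
    exact (Ideal.mul_mono_left ih).trans (T_mul_le 𝔠 i (e + j))

theorem T_le_succ (𝔠 : Ideal S) (i e : ℕ) (he : 𝔠 ^ e = ⊥) : T p 𝔠 i e ≤ T p 𝔠 (i + 1) 1 := by
  rintro x ⟨hx1, hx2, hx3⟩
  rw [he, Ideal.mem_bot] at hx3
  refine ⟨hx1, ?_, ?_⟩
  · intro l hl
    rcases Nat.lt_succ_iff_lt_or_eq.mp hl with h | h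
    · exact hx2 l h
    · rw [h]; exact hx3
  · rw [pow_one]
    exact mem_Wc.mp hx1 _

theorem Wc_pow_le_T (𝔠 : Ideal S) (M : ℕ) (hM : 𝔠 ^ M = ⊥) (i : ℕ) :
    (Wc p 𝔠) ^ (i * M + 1) ≤ T p 𝔠 i 1 := by
  induction i with
  | zero =>
    rw [zero_mul, zero_add, pow_one]
    intro x hx
    exact ⟨hx, fun l hl => absurd hl (Nat.not_lt_zero l), by rw [pow_one]; exact mem_Wc.mp hx 0⟩
  | succ i ih =>
    have e : (i + 1) * M + 1 = (i * M + 1) + M := by ring
    rw [e, pow_add]
    refine (Ideal.mul_mono_left ih).trans ((T_mul_pow_le 𝔠 i 1 M).trans (T_le_succ 𝔠 i (1 + M) ?_))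
    rw [pow_add, hM, Ideal.mul_bot]

/-- Main nilpotence statement. -/
theorem Wc_pow_le_ker_truncate (𝔠 : Ideal S) (M : ℕ) (hM : 𝔠 ^ M = ⊥) (n : ℕ) :
    (Wc p 𝔠) ^ (n * M + 1) ≤ RingHom.ker (WittVector.truncate (p := p) (R := S) n) := by
  refine (Wc_pow_le_T 𝔠 M hM n).trans ?_
  rintro x ⟨_, hx2, _⟩
  exact (WittVector.mem_ker_truncate _ _).mpr hx2

theorem sup_pow_le {A : Type*} [CommRing A] (I K : Ideal A) (c : ℕ) : (I ⊔ K) ^ c ≤ I ^ c ⊔ K := by
  induction c with
  | zero => simp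
  | succ c ih =>
    rw [pow_succ, pow_succ]
    refine (Ideal.mul_mono_left ih).trans ?_
    rw [Ideal.sup_mul, Ideal.mul_sup, Ideal.mul_sup]
    refine sup_le (sup_le le_sup_left (le_sup_of_le_right Ideal.mul_le_right)) ?_
    exact sup_le (le_sup_of_le_right Ideal.mul_le_left) (le_sup_of_le_right Ideal.mul_le_left)

/-- A finitely generated ideal of `W(S)` all of whose generators have nilpotent coefficients has
a power inside `ker (truncate n)`. -/
theorem exists_pow_le_ker_truncate_of_nil (b : Finset (WittVector p S))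
    (hb : ∀ x ∈ b, ∀ i, IsNilpotent (x.coeff i)) (n : ℕ) :
    ∃ c, (Ideal.span (b : Set (WittVector p S))) ^ c ≤
      RingHom.ker (WittVector.truncate (p := p) (R := S) n) := by
  classical
  let gens : Finset S := b.biUnion (fun x => (Finset.range n).image (fun l => x.coeff l))
  let 𝔠 : Ideal S := Ideal.span (gens : Set S)
  have h𝔠fg : 𝔠.FG := ⟨gens, rfl⟩
  have h𝔠nil : 𝔠 ≤ nilradical S := by
    rw [Ideal.span_le]
    intro y hy
    simp only [gens, Finset.coe_biUnion, Finset.coe_image, Set.mem_iUnion, Set.mem_image,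
      Finset.mem_coe, Finset.mem_range] at hy
    obtain ⟨x, hx, l, _, rfl⟩ := hy
    exact hb x hx l
  obtain ⟨M, hM⟩ := (Ideal.FG.isNilpotent_iff_le_nilradical h𝔠fg).mpr h𝔠nil
  have hM' : 𝔠 ^ M = ⊥ := hM
  refine ⟨n * M + 1, ?_⟩
  have hle : Ideal.span (b : Set (WittVector p S)) ≤
      Wc p 𝔠 ⊔ RingHom.ker (WittVector.truncate (p := p) (R := S) n) := by
    rw [Ideal.span_le]
    intro x hx
    rw [← WittVector.init_add_tail x n]
    refine Submodule.add_mem_sup ?_ ?_
    · rw [mem_Wc]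
      intro i
      simp only [WittVector.init, WittVector.select, WittVector.coeff_mk]
      split_ifs with hi
      · apply Ideal.subset_span
        simp only [gens, Finset.coe_biUnion, Finset.coe_image, Set.mem_iUnion, Set.mem_image,
          Finset.mem_coe, Finset.mem_range]
        exact ⟨x, hx, i, hi, rfl⟩
      · exact zero_mem _
    · rw [WittVector.mem_ker_truncate]
      intro i hi
      simp only [WittVector.tail, WittVector.select, WittVector.coeff_mk]
      rw [if_neg (not_le.mpr hi)]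
  refine (Ideal.pow_right_mono hle _).trans ((sup_pow_le _ _ _).trans ?_)
  exact sup_le (Wc_pow_le_ker_truncate 𝔠 M hM' n) le_rfl

end Groth.Agent.Lib.WittNil58
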