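import Mathlib
import Groth.Agent.Lib.ProjCrit58b
import Groth.Agent.Lib.WittComplete58b
import Groth.Agent.Lib.DieudonneFiber58

/-!
# Zink's criterion for finite projective `W(R)`-modules, `p` nilpotent in `R` (helper58)
-/

set_option autoImplicit false
universe u v

namespace Groth.Agent.Lib.WittProjCrit58

open Groth.Agent.Lib.ProjCrit58 Groth.Agent.Lib.WittComplete58 Groth.Agent.Lib.SeriesComplete58
open Groth.Agent.Lib.NormalDecomp58

section General

variable {A : Type u} [CommRing A]

theorem isAdicComplete_of_isNilpotent (a : A) (h : IsNilpotent a) :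
    IsAdicComplete (Ideal.span {a}) A := by
  obtain ⟨m, hm⟩ := h
  have hI : (Ideal.span {a}) ^ m = ⊥ := by
    rw [Ideal.span_singleton_pow, hm, Ideal.span_singleton_eq_bot]
  have hH : IsHausdorff (Ideal.span {a}) A := by
    refine ⟨fun x hx => ?_⟩
    have := hx m
    rw [SModEq.zero, hI, Submodule.bot_smul, Submodule.mem_bot] at this
    exact this
  have hP : IsPrecomplete (Ideal.span {a}) A := by
    refine ⟨fun f hf => ⟨f m, fun n => ?_⟩⟩
    rcases le_total n m with hnm | hmn
    · exact hf hnm
    · have := hf hmn
      rw [hI, Submodule.bot_smul, SModEq.bot] at this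
      rw [this]
  exact { toIsHausdorff := hH, toIsPrecomplete := hP }

/-- A finite projective module is separated for any filtration `I n • P` with `⋂ I n = 0`. -/
theorem eq_zero_of_forall_mem_smul_top {P : Type v} [AddCommGroup P] [Module A P]
    [Module.Finite A P] [Module.Projective A P] (I : ℕ → Ideal A)
    (hI : ∀ x : A, (∀ n, x ∈ I n) → x = 0) (x : P)
    (hx : ∀ n, x ∈ I n • (⊤ : Submodule A P)) : x = 0 := by
  obtain ⟨k, f, hf⟩ := Module.Finite.exists_fin' A P
  obtain ⟨i, hi⟩ := Module.projective_lifting_property f LinearMap.id hf
  have hi' : ∀ y, f (i y) = y := fun y => LinearMap.congr_fun hi y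
  have h1 : i x = 0 := by
    funext c
    refine hI _ (fun n => ?_)
    exact (Groth.Agent.Lib.AdicPi.mem_smul_top_pi_iff (I n) (Fin k) (i x)).1
      (map_mem_smul_top (I n) i (hx n)) c
  rw [← hi' x, h1, map_zero]

end General

section Witt

variable {p : ℕ} [hp : Fact p.Prime] {R : Type u} [CommRing R]

theorem ker_truncate_one :
    RingHom.ker (WittVector.truncate (p := p) (R := R) 1) =
      RingHom.ker (WittVector.constantCoeff : WittVector p R →+* R) := by
  ext x
  rw [WittVector.mem_ker_truncate, RingHom.mem_ker]
  constructor
  · intro h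
    exact h 0 Nat.zero_lt_one
  · intro h i hi
    obtain rfl : i = 0 := by omega
    exact h

theorem ker_truncate_anti {m n : ℕ} (h : m ≤ n) :
    RingHom.ker (WittVector.truncate (p := p) (R := R) n) ≤
      RingHom.ker (WittVector.truncate (p := p) (R := R) m) := by
  intro x hx
  rw [WittVector.mem_ker_truncate] at hx ⊢
  exact fun i hi => hx i (hi.trans_le h)

theorem eq_zero_of_forall_mem_ker_truncate (x : WittVector p R)
    (hx : ∀ n, x ∈ RingHom.ker (WittVector.truncate (p := p) (R := R) (n + 1))) : x = 0 := by
  ext i
  rw [WittVector.zero_coeff]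
  exact (WittVector.mem_ker_truncate _ _).mp (hx i) i (Nat.lt_succ_self i)

theorem ker_truncate_zero :
    RingHom.ker (WittVector.truncate (p := p) (R := R) 0) = ⊤ := by
  rw [eq_top_iff]
  intro x _
  rw [WittVector.mem_ker_truncate]
  exact fun i hi => absurd hi (Nat.not_lt_zero i)

variable (hp' : IsNilpotent (p : R))
include hp'

theorem isAdicComplete_ker_truncate_one :
    IsAdicComplete (RingHom.ker (WittVector.truncate (p := p) (R := R) 1)) (WittVector p R) := by
  have := isAdicComplete_of_isNilpotent (p : R) hp'
  rw [ker_truncate_one]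
  exact isAdicComplete_ker

theorem exists_pow_le_ker_truncate (n : ℕ) :
    ∃ j, (RingHom.ker (WittVector.truncate (p := p) (R := R) 1)) ^ j ≤
      RingHom.ker (WittVector.truncate (p := p) (R := R) n) := by
  obtain ⟨m, hm⟩ := hp'
  refine ⟨m * n + 1, ?_⟩
  rw [ker_truncate_one, pow_succ_eq_of_mul_eq _ ker_mul_ker]
  refine Ideal.mul_le_left.trans ?_
  rw [Ideal.span_singleton_le_iff_mem]
  exact pow_mem_ker_truncate m hm n

/-- Zink's criterion: over `W(R)` with `p` nilpotent in `R`, a module is finite projective iff it
is separated for the `V`-filtration and all its levels are finite projective. -/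
theorem finite_projective_iff (P : Type v) [AddCommGroup P] [Module (WittVector p R) P] :
    (Module.Finite (WittVector p R) P ∧ Module.Projective (WittVector p R) P) ↔
      ((⨅ n : ℕ, (RingHom.ker (WittVector.truncate (p := p) (R := R) n) •
          (⊤ : Submodule (WittVector p R) P))) = ⊥ ∧
        ∀ n : ℕ, Module.Finite (WittVector p R ⧸ RingHom.ker (WittVector.truncate (p := p) (R := R) n))
              (P ⧸ (RingHom.ker (WittVector.truncate (p := p) (R := R) n) •
                (⊤ : Submodule (WittVector p R) P))) ∧
            Module.Projective (WittVector p R ⧸ RingHom.ker (WittVector.truncate (p := p) (R := R) n))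
              (P ⧸ (RingHom.ker (WittVector.truncate (p := p) (R := R) n) •
                (⊤ : Submodule (WittVector p R) P)))) := by
  constructor
  · rintro ⟨hfin, hproj⟩
    refine ⟨?_, fun n => ⟨?_, ?_⟩⟩
    · rw [eq_bot_iff]
      intro x hx
      rw [Submodule.mem_iInf] at hx
      rw [Submodule.mem_bot]
      refine eq_zero_of_forall_mem_smul_top
        (fun n => RingHom.ker (WittVector.truncate (p := p) (R := R) (n + 1)))
        eq_zero_of_forall_mem_ker_truncate x (fun n => hx (n + 1))
    · exact Groth.Agent.Lib.DieudonneFiber58.finite_quotient_smul_top (W := WittVector p R)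
        (S := WittVector p R) (M := P) Function.surjective_id _
    · refine Groth.Agent.Lib.DieudonneFiber58.projective_quotient_smul_top (W := WittVector p R)
        (S := WittVector p R) (M := P) Function.surjective_id _ ?_
      intro x hx
      rw [RingHom.mem_ker] at hx
      rw [show x = 0 from hx]
      exact zero_mem _
  · rintro ⟨hsep, hlev⟩
    have hc := isAdicComplete_ker_truncate_one (p := p) (R := R) hp'
    refine finite_projective_of_levels
      (fun n => RingHom.ker (WittVector.truncate (p := p) (R := R) (n + 1)))
      (fun n => ker_truncate_anti (Nat.succ_le_succ (Nat.zero_le n)))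
      (fun n => exists_pow_le_ker_truncate hp' (n + 1))
      eq_zero_of_forall_mem_ker_truncate P ?_ (hlev 1).1 (fun n => (hlev (n + 1)).2)
    intro x hx
    have : x ∈ (⨅ n : ℕ, (RingHom.ker (WittVector.truncate (p := p) (R := R) n) •
        (⊤ : Submodule (WittVector p R) P))) := by
      rw [Submodule.mem_iInf]
      intro n
      cases n with
      | zero =>
        rw [ker_truncate_zero, Submodule.top_smul]
        exact Submodule.mem_top
      | succ n => exact hx n
    rw [hsep, Submodule.mem_bot] at this
    exact this

end Witt

end Groth.Agent.Lib.WittProjCrit58
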