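import Mathlib
import Groth.Agent.Lib.WittLift58
import Groth.Agent.Lib.WittNil58
import Groth.Agent.Lib.FiltIdem58
import Groth.Agent.Lib.WittProjCrit58

/-!
# Lifting finite projective modules along `W(S) → W(R)` for a nil-thickening `S → R` (helper58)

* `isUnit_of_isUnit_constantCoeff`, `ker_map_le_jacobson`: units and the Jacobson radical of
  `W(S)`, `p` nilpotent in `S`.
* `exists_limit_truncate`, `exists_limit_pi`: completeness for the `V`-filtration.
* `exists_idempotent_lift_witt`: idempotent endomorphisms of `W(R)^k` lift to `W(S)^k`.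
-/

set_option autoImplicit false
universe u

namespace Groth.Agent.Lib.WittLift58

open Groth.Agent.Lib.NormalDecomp58 Groth.Agent.Lib.WittProjCrit58 Groth.Agent.Lib.WittNil58
open Groth.Agent.Lib.FiltIdem58

variable {p : ℕ} [hp : Fact p.Prime] {S R : Type u} [CommRing S] [CommRing R]

theorem isUnit_of_isUnit_constantCoeff (hp' : IsNilpotent (p : S)) (z : WittVector p S)
    (hz : IsUnit (WittVector.constantCoeff z)) : IsUnit z := by
  obtain ⟨u, hu⟩ := hz
  have hc := isAdicComplete_ker_truncate_one (p := p) (R := S) hp'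
  have hjac := IsAdicComplete.le_jacobson_bot
    (RingHom.ker (WittVector.truncate (p := p) (R := S) 1))
  let t : WittVector p S := WittVector.teichmuller p ((u⁻¹ : Sˣ) : S)
  have h1 : z * t - 1 ∈ RingHom.ker (WittVector.truncate (p := p) (R := S) 1) := by
    rw [ker_truncate_one, RingHom.mem_ker, map_sub, map_mul, map_one, ← hu]
    have : WittVector.constantCoeff t = ((u⁻¹ : Sˣ) : S) := WittVector.teichmuller_coeff_zero p _
    rw [this, Units.mul_inv, sub_self]
  have h2 := Ideal.mem_jacobson_bot.mp (hjac h1) 1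
  rw [mul_one, sub_add_cancel] at h2
  exact isUnit_of_mul_isUnit_left h2

theorem ker_map_le_jacobson (φ : S →+* R) (hnil : ∀ a : S, φ a = 0 → IsNilpotent a)
    (hp' : IsNilpotent (p : S)) :
    RingHom.ker (WittVector.map (p := p) φ) ≤ Ideal.jacobson ⊥ := by
  intro x hx
  rw [Ideal.mem_jacobson_bot]
  intro y
  apply isUnit_of_isUnit_constantCoeff hp'
  rw [map_add, map_mul, map_one]
  have h0 : IsNilpotent (WittVector.constantCoeff x) := by
    apply hnil
    have := congrArg (fun t => WittVector.coeff t 0) (RingHom.mem_ker.mp hx)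
    simpa [WittVector.map_coeff] using this
  exact ((Commute.all _ _).isNilpotent_mul_right h0).isUnit_add_one

theorem exists_limit_truncate (x : ℕ → WittVector p S)
    (hx : ∀ n, x (n + 1) - x n ∈ RingHom.ker (WittVector.truncate (p := p) (R := S) n)) :
    ∃ L, ∀ n, L - x n ∈ RingHom.ker (WittVector.truncate (p := p) (R := S) n) := by
  have h1 : ∀ n i, i < n → (x (n + 1)).coeff i = (x n).coeff i := by
    intro n i hi
    have := hx n
    rw [RingHom.mem_ker, map_sub, sub_eq_zero] at this
    have h2 := congrArg (fun t => TruncatedWittVector.coeff ⟨i, hi⟩ t) this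
    simpa [WittVector.coeff_truncate] using h2
  have h2 : ∀ i n, i + 1 ≤ n → (x n).coeff i = (x (i + 1)).coeff i := by
    intro i n hn
    induction n, hn using Nat.le_induction with
    | base => rfl
    | succ n hn ih => rw [h1 n i (by omega), ih]
  refine ⟨WittVector.mk p (fun i => (x (i + 1)).coeff i), fun n => ?_⟩
  rw [RingHom.mem_ker, map_sub, sub_eq_zero]
  apply TruncatedWittVector.ext
  intro i
  rw [WittVector.coeff_truncate, WittVector.coeff_truncate, WittVector.coeff_mk]
  exact (h2 i n (by omega)).symm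

theorem exists_limit_pi (k : ℕ) (x : ℕ → (Fin k → WittVector p S))
    (hx : ∀ n, x (n + 1) - x n ∈ RingHom.ker (WittVector.truncate (p := p) (R := S) n) •
      (⊤ : Submodule (WittVector p S) (Fin k → WittVector p S))) :
    ∃ L, ∀ n, L - x n ∈ RingHom.ker (WittVector.truncate (p := p) (R := S) n) •
      (⊤ : Submodule (WittVector p S) (Fin k → WittVector p S)) := by
  have h1 : ∀ j : Fin k, ∃ L, ∀ n, L - x n j ∈
      RingHom.ker (WittVector.truncate (p := p) (R := S) n) := by
    intro j
    refine exists_limit_truncate (fun n => x n j) (fun n => ?_)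
    exact (Groth.Agent.Lib.AdicPi.mem_smul_top_pi_iff _ (Fin k) _).1 (hx n) j
  choose L hL using h1
  refine ⟨L, fun n => ?_⟩
  rw [Groth.Agent.Lib.AdicPi.mem_smul_top_pi_iff]
  intro j
  exact hL j n

theorem eq_zero_of_forall_mem_pi (k : ℕ) (x : Fin k → WittVector p S)
    (hx : ∀ n, x ∈ RingHom.ker (WittVector.truncate (p := p) (R := S) n) •
      (⊤ : Submodule (WittVector p S) (Fin k → WittVector p S))) : x = 0 := by
  funext j
  refine eq_zero_of_forall_mem_ker_truncate _ (fun n => ?_)
  exact (Groth.Agent.Lib.AdicPi.mem_smul_top_pi_iff _ (Fin k) _).1 (hx (n + 1)) j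

/-- Idempotent endomorphisms of `W(R)^k` lift to idempotent endomorphisms of `W(S)^k` along a
surjection `S → R` with nil kernel. -/
theorem exists_idempotent_lift_witt (φ : S →+* R) (hφ : Function.Surjective φ)
    (hnil : ∀ a : S, φ a = 0 → IsNilpotent a) (k : ℕ)
    (ebar : Module.End (WittVector p R) (Fin k → WittVector p R))
    (hebar : ∀ y, ebar (ebar y) = ebar y) :
    ∃ e : Module.End (WittVector p S) (Fin k → WittVector p S), (∀ x, e (e x) = e x) ∧
      ∀ x : Fin k → WittVector p S,
        (fun j => WittVector.map (p := p) φ (e x j)) =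
          ebar (fun j => WittVector.map (p := p) φ (x j)) := by
  classical
  set Φ := WittVector.map (p := p) φ with hΦdef
  have hΦ : Function.Surjective Φ := WittVector.map_surjective φ hφ
  let δ : Fin k → (Fin k → WittVector p S) := fun l j => if l = j then 1 else 0
  let δ' : Fin k → (Fin k → WittVector p R) := fun l j => if l = j then 1 else 0
  choose M hM using fun j l => hΦ (ebar (δ' l) j)
  let f₀ : Module.End (WittVector p S) (Fin k → WittVector p S) :=
    { toFun := fun x j => ∑ l, M j l * x l
      map_add' := fun x y => by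
        funext j
        simp [mul_add, Finset.sum_add_distrib]
      map_smul' := fun a x => by
        funext j
        simp [Finset.mul_sum, mul_left_comm] }
  have hf₀ : ∀ x : Fin k → WittVector p S,
      (fun j => Φ (f₀ x j)) = ebar (fun j => Φ (x j)) := by
    intro x
    funext j
    rw [LinearMap.pi_apply_eq_sum_univ ebar (fun j => Φ (x j))]
    show Φ (∑ l, M j l * x l) = _
    rw [map_sum, Finset.sum_apply]
    refine Finset.sum_congr rfl (fun l _ => ?_)
    rw [map_mul, hM, Pi.smul_apply, smul_eq_mul, mul_comm]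
  let D : Module.End (WittVector p S) (Fin k → WittVector p S) := f₀ * f₀ - f₀
  have hD : ∀ x, D x = f₀ (f₀ x) - f₀ x := fun x => rfl
  have hDΦ : ∀ x j, Φ (D x j) = 0 := by
    intro x j
    rw [hD, Pi.sub_apply, map_sub]
    have h1 : Φ (f₀ (f₀ x) j) = ebar (fun j => Φ (f₀ x j)) j := congrFun (hf₀ (f₀ x)) j
    have h2 := hf₀ x
    have h3 : Φ (f₀ x j) = ebar (fun j => Φ (x j)) j := congrFun h2 j
    rw [h1, h2, hebar, ← h3, sub_self]
  let gens : Finset (WittVector p S) :=
    (Finset.univ : Finset (Fin k × Fin k)).image (fun jl => D (δ jl.2) jl.1)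
  let J : Ideal (WittVector p S) := Ideal.span (gens : Set (WittVector p S))
  have hgens : ∀ x ∈ gens, ∀ i, IsNilpotent (x.coeff i) := by
    intro x hx i
    simp only [gens, Finset.mem_image, Finset.mem_univ, true_and] at hx
    obtain ⟨jl, rfl⟩ := hx
    apply hnil
    have := congrArg (fun t => WittVector.coeff t i) (hDΦ (δ jl.2) jl.1)
    simpa [hΦdef, WittVector.map_coeff] using this
  have hJΦ : ∀ a ∈ J, Φ a = 0 := by
    intro a ha
    have : J ≤ RingHom.ker Φ := by
      rw [Ideal.span_le]
      intro x hx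
      simp only [gens, Finset.coe_image, Finset.coe_univ, Set.image_univ, Set.mem_range] at hx
      obtain ⟨jl, rfl⟩ := hx
      exact hDΦ _ _
    exact this ha
  have h₀ : ∀ m, f₀ (f₀ m) - f₀ m ∈
      J • (⊤ : Submodule (WittVector p S) (Fin k → WittVector p S)) := by
    intro m
    rw [← hD, LinearMap.pi_apply_eq_sum_univ D m]
    refine Submodule.sum_mem _ (fun l _ => Submodule.smul_mem _ _ ?_)
    rw [Groth.Agent.Lib.AdicPi.mem_smul_top_pi_iff]
    intro j
    apply Ideal.subset_span
    simp only [gens, Finset.coe_image, Finset.coe_univ, Set.image_univ, Set.mem_range]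
    exact ⟨(j, l), rfl⟩
  let G : ℕ → Submodule (WittVector p S) (Fin k → WittVector p S) := fun n =>
    RingHom.ker (WittVector.truncate (p := p) (R := S) n) • ⊤
  have hGanti : Antitone G := fun a b hab => Submodule.smul_mono (ker_truncate_anti hab) le_rfl
  obtain ⟨e, he1, he2⟩ := exists_idempotent_lift_filtered J G hGanti
    (eq_zero_of_forall_mem_pi k) (exists_limit_pi k)
    (fun f n x hx => map_mem_smul_top _ f hx)
    (fun n => by
      obtain ⟨c, hc⟩ := exists_pow_le_ker_truncate_of_nil gens hgens n
      exact ⟨c, Submodule.smul_mono hc le_rfl⟩)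
    f₀ h₀
  refine ⟨e, he1, fun x => ?_⟩
  rw [← hf₀ x]
  funext j
  rw [← sub_eq_zero, ← map_sub]
  apply WittVector.ext
  intro i
  obtain ⟨y, hy, hr⟩ := he2 x (i + 1)
  have hyj : Φ (y j) = 0 :=
    hJΦ _ ((Groth.Agent.Lib.AdicPi.mem_smul_top_pi_iff _ (Fin k) _).1 hy j)
  have hrj := (WittVector.mem_ker_truncate _ _).mp
    ((Groth.Agent.Lib.AdicPi.mem_smul_top_pi_iff _ (Fin k) _).1 hr j) i (Nat.lt_succ_self i)
  have e1 : e x j - f₀ x j = (e x - f₀ x - y) j + y j := by
    simp only [Pi.sub_apply]
    ring
  rw [e1, map_add, hyj, add_zero, WittVector.zero_coeff, hΦdef, WittVector.map_coeff, hrj,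
    map_zero]

end Groth.Agent.Lib.WittLift58
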