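import Mathlib.RingTheory.Polynomial.Basic
import Mathlib.LinearAlgebra.Dimension.Constructions
import Mathlib.LinearAlgebra.FiniteDimensional.Basic
import Mathlib.LinearAlgebra.FiniteDimensional.Lemmas

/-!
# Helper lemmas for linear systems of polynomials (helper55)

`U g` = `g * (polynomials of degree < 2)`, a two-dimensional space; subspaces of it missing an element
have dimension at most one.
-/

set_option autoImplicit false

namespace Groth.Agent.Lib.WronskPoly

open Polynomial

variable {k : Type*} [Field k]

/-- the two-dimensional space `g * (polynomials of degree < 2)` -/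
noncomputable def U (g : k[X]) : Submodule k k[X] :=
  (degreeLT k 2).map (LinearMap.mulLeft k g)

lemma finrank_U {g : k[X]} (hg : g ≠ 0) : Module.finrank k (U g) = 2 := by
  have hinj : Function.Injective (LinearMap.mulLeft k g) := by
    intro x y h
    exact mul_left_cancel₀ hg h
  have e := Submodule.equivMapOfInjective (LinearMap.mulLeft k g) hinj (degreeLT k 2)
  rw [U, ← e.finrank_eq, (degreeLTEquiv k 2).finrank_eq]
  simp

instance {g : k[X]} : Module.Finite k (U g) := by
  unfold U
  haveI : Module.Finite k (degreeLT k 2) := Module.Finite.equiv (degreeLTEquiv k 2).symm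
  infer_instance

/-- A subspace of `U g` missing some element of `U g` has dimension at most one. -/
lemma finrank_le_one_of_le {g : k[X]} (hg : g ≠ 0) (W : Submodule k k[X]) (hW : W ≤ U g)
    (u : k[X]) (hu : u ∈ U g) (huW : u ∉ W) : Module.finrank k W ≤ 1 := by
  have hlt : W < U g := lt_of_le_of_ne hW (fun h => huW (h ▸ hu))
  have := Submodule.finrank_lt_finrank_of_lt hlt
  rw [finrank_U hg] at this
  omega

/-- An element of degree at most `n + 1` divisible by a monic `g` of degree `n` lies in `U g`. -/
lemma mem_U_of_dvd {g : k[X]} (hg : g.Monic) {G : k[X]} (hdeg : G.degree ≤ (g.natDegree + 1 : ℕ))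
    (hdvd : g ∣ G) : G ∈ U g := by
  obtain ⟨F, rfl⟩ := hdvd
  refine ⟨F, ?_, rfl⟩
  show F ∈ degreeLT k 2
  rw [mem_degreeLT]
  by_cases hF : F = 0
  · subst hF; simp; exact WithBot.bot_lt_coe _
  rw [degree_mul, degree_eq_natDegree hg.ne_zero, degree_eq_natDegree hF] at hdeg
  rw [degree_eq_natDegree hF]
  have : (g.natDegree + F.natDegree : ℕ) ≤ g.natDegree + 1 := by exact_mod_cast hdeg
  have : F.natDegree < 2 := by omega
  exact_mod_cast this

end Groth.Agent.Lib.WronskPoly
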