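import Groth.Agent.Lib.WronskPoly
import Mathlib.Algebra.Polynomial.Derivative
import Mathlib.Tactic.Ring
import Mathlib.Tactic.LinearCombination
import Mathlib.Tactic.FieldSimp

/-!
# Coefficients of `(X+1)^i (X-q)^m` (helper55)

`ode` : the first order ODE; `not_consecutive_zero` : for `q ≠ 0` in characteristic zero no two
consecutive coefficients (inside the degree range) vanish.
-/

set_option autoImplicit false

namespace Groth.Agent.Lib.WronskPoly

open Polynomial

variable {k : Type*} [Field k]

lemma mul_derivative_pow (p : k[X]) (n : ℕ) :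
    p * derivative (p ^ n) = C (n : k) * p ^ n * derivative p := by
  rcases Nat.eq_zero_or_pos n with rfl | hn
  · simp
  · rw [derivative_pow]
    have : p * p ^ (n - 1) = p ^ n := mul_pow_sub_one hn.ne' p
    calc p * (C (n : k) * p ^ (n - 1) * derivative p)
        = C (n : k) * (p * p ^ (n - 1)) * derivative p := by ring
      _ = _ := by rw [this]

lemma coeff_X_mul_derivative (p : k[X]) (n : ℕ) :
    (X * derivative p).coeff n = (n : k) * p.coeff n := by
  cases n with
  | zero => simp
  | succ n =>
    rw [coeff_X_mul, coeff_derivative]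
    push_cast
    ring

/-- The first order differential equation satisfied by `(X+1)^i (X-q)^m`. -/
lemma ode (q : k) (i m : ℕ) :
    (X + 1) * (X - C q) * derivative ((X + 1 : k[X]) ^ i * (X - C q) ^ m) =
      (C ((i : k) + m) * X + C ((m : k) - i * q)) * ((X + 1 : k[X]) ^ i * (X - C q) ^ m) := by
  have h1 := mul_derivative_pow (X + 1 : k[X]) i
  have h2 := mul_derivative_pow (X - C q : k[X]) m
  have d1 : derivative (X + 1 : k[X]) = 1 := by simp
  have d2 : derivative (X - C q : k[X]) = 1 := by simp
  rw [d1, mul_one] at h1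
  rw [d2, mul_one] at h2
  rw [derivative_mul]
  calc (X + 1) * (X - C q) * (derivative ((X + 1 : k[X]) ^ i) * (X - C q) ^ m +
        (X + 1) ^ i * derivative ((X - C q : k[X]) ^ m))
      = (X - C q) * (X - C q) ^ m * ((X + 1) * derivative ((X + 1 : k[X]) ^ i)) +
        (X + 1) * (X + 1) ^ i * ((X - C q) * derivative ((X - C q : k[X]) ^ m)) := by ring
    _ = _ := by
      rw [h1, h2]
      simp only [map_add, map_sub, map_mul, map_natCast]
      ring

/-- No two consecutive coefficients of `(X+1)^i (X-q)^m` vanish (inside the degree range). -/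
theorem not_consecutive_zero [CharZero k] (q : k) (hq : q ≠ 0) (i m n : ℕ) (hn : n + 1 ≤ i + m)
    (h0 : ((X + 1 : k[X]) ^ i * (X - C q) ^ m).coeff n = 0)
    (h1 : ((X + 1 : k[X]) ^ i * (X - C q) ^ m).coeff (n + 1) = 0) : False := by
  set H : k[X] := (X + 1 : k[X]) ^ i * (X - C q) ^ m with hH
  have step : ∀ N : ℕ, H.coeff N = 0 → H.coeff (N + 1) = 0 → H.coeff (N + 2) = 0 := by
    intro N a0 a1
    have e : ((X + 1) * (X - C q) * derivative H).coeff (N + 1) =
        ((C ((i : k) + m) * X + C ((m : k) - i * q)) * H).coeff (N + 1) := by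
      rw [hH, ode]
    have lhs : ((X + 1) * (X - C q) * derivative H).coeff (N + 1) =
        (N : k) * H.coeff N + (1 - q) * ((N + 1 : ℕ) : k) * H.coeff (N + 1) -
          q * (H.coeff (N + 2) * ((N : k) + 1 + 1)) := by
      have : (X + 1) * (X - C q) * derivative H =
          X * (X * derivative H) + C (1 - q) * (X * derivative H) - C q * derivative H := by
        simp only [map_sub, map_one]; ring
      rw [this, coeff_sub, coeff_add, coeff_X_mul, coeff_C_mul, coeff_C_mul,
        coeff_X_mul_derivative, coeff_X_mul_derivative, coeff_derivative]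
      push_cast
      ring
    have rhs : ((C ((i : k) + m) * X + C ((m : k) - i * q)) * H).coeff (N + 1) =
        ((i : k) + m) * H.coeff N + ((m : k) - i * q) * H.coeff (N + 1) := by
      rw [add_mul, coeff_add, mul_assoc, coeff_C_mul, coeff_X_mul, coeff_C_mul]
    rw [lhs, rhs, a0, a1] at e
    simp only [mul_zero, add_zero, zero_sub, neg_eq_zero, mul_eq_zero] at e
    rcases e with e | e | e
    · exact absurd e hq
    · exact e
    · exfalso
      have : ((N + 2 : ℕ) : k) = 0 := by push_cast; linear_combination e
      exact Nat.cast_ne_zero.mpr (by omega) this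
  have all : ∀ j : ℕ, H.coeff (n + j) = 0 ∧ H.coeff (n + j + 1) = 0 := by
    intro j
    induction j with
    | zero => exact ⟨h0, h1⟩
    | succ j ih => exact ⟨ih.2, step _ ih.1 ih.2⟩
  have hP : (X + 1 : k[X]).Monic := by simpa using monic_X_add_C (1 : k)
  have hmonic : H.Monic := (hP.pow i).mul ((monic_X_sub_C q).pow m)
  have hdeg : H.natDegree = i + m := by
    rw [hH, Monic.natDegree_mul (hP.pow i) ((monic_X_sub_C q).pow m),
      natDegree_pow, natDegree_pow, natDegree_X_sub_C]
    have : (X + 1 : k[X]).natDegree = 1 := by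
      have := natDegree_X_add_C (1 : k)
      simpa using this
    rw [this]; ring
  have hlead : H.coeff (i + m) = 1 := by
    rw [← hdeg]; exact hmonic.coeff_natDegree
  have := (all (i + m - (n + 1))).2
  rw [show n + (i + m - (n + 1)) + 1 = i + m by omega, hlead] at this
  exact one_ne_zero this

end Groth.Agent.Lib.WronskPoly
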