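import Groth.Agent.Lib.WronskPoly2
import Mathlib.RingTheory.Polynomial.Basic
import Mathlib.LinearAlgebra.FiniteDimensional.Lemmas
import Mathlib.LinearAlgebra.Dimension.RankNullity
import Mathlib.Tactic.LinearCombination
import Mathlib.Algebra.Polynomial.Div
import Mathlib.Algebra.Polynomial.FieldDivision
import Mathlib.Algebra.Polynomial.RingDivision

set_option autoImplicit false

namespace Groth.Agent.Lib.WronskPoly3

open Polynomial Groth.Agent.Lib.WronskPoly

variable {k : Type*} [Field k]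

/-- Local analysis of a first order linear ODE `(X-p) P₁ H' = Q H + (error)` at the point `p`:
if no integer `n` in `[n₀, m)` is an exponent and `(X-p)^n₀ ∣ H`, then `(X-p)^m ∣ error` forces
`(X-p)^m ∣ H`. -/
theorem dvd_of_dvd_ode (p : k) (P₁ Q H : k[X]) (n₀ m : ℕ) (hm : n₀ ≤ m)
    (h0 : (X - C p) ^ n₀ ∣ H)
    (hind : ∀ n, n₀ ≤ n → n < m → (n : k) * P₁.eval p ≠ Q.eval p)
    (hdvd : (X - C p) ^ m ∣ (X - C p) * P₁ * derivative H - Q * H) :
    (X - C p) ^ m ∣ H := by
  induction m, hm using Nat.le_induction with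
  | base => exact h0
  | succ m hm ih =>
    have ih' := ih (fun n h1 h2 => hind n h1 (by omega))
      (dvd_trans (pow_dvd_pow _ (Nat.le_succ m)) hdvd)
    obtain ⟨u, rfl⟩ := ih'
    have key : (X - C p) * P₁ * derivative ((X - C p) ^ m * u) - Q * ((X - C p) ^ m * u) =
        (X - C p) ^ m * ((C (m : k) * P₁ - Q) * u + (X - C p) * (P₁ * derivative u)) := by
      rw [derivative_mul]
      have h1 := mul_derivative_pow (X - C p) m
      have d1 : derivative (X - C p : k[X]) = 1 := by simp
      rw [d1, mul_one] at h1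
      calc (X - C p) * P₁ * (derivative ((X - C p) ^ m) * u + (X - C p) ^ m * derivative u) -
            Q * ((X - C p) ^ m * u)
          = P₁ * u * ((X - C p) * derivative ((X - C p) ^ m)) +
            (X - C p) ^ m * ((X - C p) * (P₁ * derivative u)) - Q * ((X - C p) ^ m * u) := by ring
        _ = _ := by rw [h1]; ring
    rw [key, pow_succ, mul_dvd_mul_iff_left (pow_ne_zero _ (X_sub_C_ne_zero p))] at hdvd
    have h2 : (X - C p) ∣ (C (m : k) * P₁ - Q) * u :=
      (dvd_add_left (Dvd.intro _ rfl)).mp hdvd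
    rw [Polynomial.dvd_iff_isRoot, IsRoot.def, eval_mul] at h2
    rcases mul_eq_zero.mp h2 with h | h
    · exfalso
      simp only [eval_sub, eval_mul, eval_C] at h
      exact hind m hm (by omega) (sub_eq_zero.mp h)
    · have : (X - C p) ∣ u := Polynomial.dvd_iff_isRoot.mpr h
      exact mul_dvd_mul_left _ this


/-- the operator `D H = X (X - 1) H' - ((a+b) X - a) H`, whose kernel is spanned by
`X^a (X-1)^b` -/
noncomputable def D (k : Type*) [Field k] (a b : ℕ) : k[X] →ₗ[k] k[X] :=
  (LinearMap.mulLeft k (X * (X - 1) : k[X])).comp derivative -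
    LinearMap.mulLeft k (C ((a : k) + b) * X - C (a : k) : k[X])

lemma D_apply (a b : ℕ) (H : k[X]) :
    D k a b H = X * (X - 1) * derivative H - (C ((a : k) + b) * X - C (a : k)) * H := rfl

/-- the generator of the kernel of `D` -/
noncomputable def H₀ (k : Type*) [Field k] (a b : ℕ) : k[X] := X ^ a * (X - 1) ^ b

lemma D_X_pow_mul (a b : ℕ) (h : k[X]) :
    D k a b (X ^ a * h) = X ^ (a + 1) * ((X - 1) * derivative h - C (b : k) * h) := by
  rw [D_apply, derivative_mul]
  have h1 := mul_derivative_pow (X : k[X]) a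
  rw [derivative_X, mul_one] at h1
  calc X * (X - 1) * (derivative (X ^ a) * h + X ^ a * derivative h) -
        (C ((a : k) + b) * X - C (a : k)) * (X ^ a * h)
      = (X - 1) * h * (X * derivative (X ^ a)) + X * (X - 1) * X ^ a * derivative h -
        (C ((a : k) + b) * X - C (a : k)) * (X ^ a * h) := by ring
    _ = _ := by rw [h1, map_add]; ring

lemma D_X_sub_one_pow_mul (a b : ℕ) (h : k[X]) :
    D k a b ((X - 1) ^ b * h) = (X - 1) ^ (b + 1) * (X * derivative h - C (a : k) * h) := by
  rw [D_apply, derivative_mul]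
  have h1 := mul_derivative_pow (X - 1 : k[X]) b
  have d1 : derivative (X - 1 : k[X]) = 1 := by simp
  rw [d1, mul_one] at h1
  calc X * (X - 1) * (derivative ((X - 1) ^ b) * h + (X - 1) ^ b * derivative h) -
        (C ((a : k) + b) * X - C (a : k)) * ((X - 1) ^ b * h)
      = X * h * ((X - 1) * derivative ((X - 1) ^ b)) + X * (X - 1) * (X - 1) ^ b * derivative h -
        (C ((a : k) + b) * X - C (a : k)) * ((X - 1) ^ b * h) := by ring
    _ = _ := by rw [h1, map_add]; ring

lemma D_H₀ (a b : ℕ) : D k a b (H₀ k a b) = 0 := by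
  rw [H₀, D_X_pow_mul]
  have h1 := mul_derivative_pow (X - 1 : k[X]) b
  have d1 : derivative (X - 1 : k[X]) = 1 := by simp
  rw [d1, mul_one] at h1
  rw [h1, sub_self, mul_zero]

lemma D_X_mul_H₀ (a b : ℕ) :
    D k a b (X ^ (a + 1) * (X - 1) ^ b) = X ^ (a + 1) * (X - 1) ^ (b + 1) := by
  have : (X : k[X]) ^ (a + 1) * (X - 1) ^ b = X ^ a * (X * (X - 1) ^ b) := by ring
  rw [this, D_X_pow_mul, derivative_mul, derivative_X]
  have h1 := mul_derivative_pow (X - 1 : k[X]) b
  have d1 : derivative (X - 1 : k[X]) = 1 := by simp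
  rw [d1, mul_one] at h1
  calc X ^ (a + 1) * ((X - 1) * (1 * (X - 1) ^ b + X * derivative ((X - 1) ^ b)) -
        C (b : k) * (X * (X - 1) ^ b))
      = X ^ (a + 1) * ((X - 1) * (X - 1) ^ b + X * ((X - 1) * derivative ((X - 1) ^ b)) -
        C (b : k) * (X * (X - 1) ^ b)) := by ring
    _ = _ := by rw [h1]; ring

lemma coeff_D_succ (a b : ℕ) (H : k[X]) (n : ℕ) :
    (D k a b H).coeff (n + 1) =
      ((n : k) - a - b) * H.coeff n + ((a : k) - n - 1) * H.coeff (n + 1) := by
  have : D k a b H = X * (X * derivative H) - X * derivative H - C ((a : k) + b) * (X * H) +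
      C (a : k) * H := by rw [D_apply]; ring
  rw [this, coeff_add, coeff_sub, coeff_sub, coeff_X_mul, coeff_X_mul_derivative,
    coeff_X_mul_derivative, coeff_C_mul, coeff_C_mul, coeff_X_mul]
  push_cast
  ring

lemma coeff_D_zero (a b : ℕ) (H : k[X]) :
    (D k a b H).coeff 0 = (a : k) * H.coeff 0 := by
  have : D k a b H = X * (X * derivative H) - X * derivative H - C ((a : k) + b) * (X * H) +
      C (a : k) * H := by rw [D_apply]; ring
  rw [this]
  simp only [coeff_add, coeff_sub, mul_coeff_zero, coeff_X_zero, coeff_C_zero]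
  ring


/-- the operator `h ↦ (X - c) h' - n h` -/
noncomputable def E (k : Type*) [Field k] (c : k) (n : ℕ) : k[X] →ₗ[k] k[X] :=
  (LinearMap.mulLeft k (X - C c : k[X])).comp derivative - LinearMap.mulLeft k (C (n : k) : k[X])

lemma E_apply (c : k) (n : ℕ) (h : k[X]) :
    E k c n h = (X - C c) * derivative h - C (n : k) * h := rfl

lemma coeff_E (c : k) (n : ℕ) (h : k[X]) (m : ℕ) :
    (E k c n h).coeff m = ((m : k) - n) * h.coeff m - c * ((m : k) + 1) * h.coeff (m + 1) := by
  have : E k c n h = X * derivative h - C c * derivative h - C (n : k) * h := by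
    rw [E_apply]; ring
  rw [this, coeff_sub, coeff_sub, coeff_X_mul_derivative, coeff_C_mul, coeff_C_mul,
    coeff_derivative]
  ring

lemma E_mem_degreeLT (c : k) (n : ℕ) (h : k[X]) (hh : h ∈ degreeLT k n) :
    E k c n h ∈ degreeLT k n := by
  rw [mem_degreeLT, degree_lt_iff_coeff_zero] at hh ⊢
  intro m hm
  rw [coeff_E, hh m hm, hh (m + 1) (by omega)]
  ring

theorem exists_ode_solution [CharZero k] (c : k) (n : ℕ) (g : k[X]) (hg : g.degree < n) :
    ∃ h : k[X], h.degree < n ∧ (X - C c) * derivative h - C (n : k) * h = g := by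
  let T : degreeLT k n →ₗ[k] degreeLT k n := (E k c n).restrict (E_mem_degreeLT c n)
  have : Module.Finite k (degreeLT k n) := Module.Finite.equiv (degreeLTEquiv k n).symm
  have hinj : Function.Injective T := by
    rw [← LinearMap.ker_eq_bot, LinearMap.ker_eq_bot']
    rintro ⟨h, hh⟩ hT
    have hT' : E k c n h = 0 := congrArg Subtype.val hT
    apply Subtype.ext
    show h = 0
    by_contra hne
    rw [mem_degreeLT] at hh
    have hd : h.natDegree < n := (natDegree_lt_iff_degree_lt hne).mpr hh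
    have e := congrArg (fun f => f.coeff h.natDegree) hT'
    simp only [coeff_E, coeff_zero] at e
    rw [coeff_eq_zero_of_natDegree_lt (Nat.lt_succ_self _), mul_zero, sub_zero] at e
    rcases mul_eq_zero.mp e with e | e
    · have : (h.natDegree : k) = n := sub_eq_zero.mp e
      have := Nat.cast_injective this
      omega
    · exact hne (leadingCoeff_eq_zero.mp e)
  have hsurj : Function.Surjective T := LinearMap.surjective_of_injective hinj
  obtain ⟨⟨h, hh⟩, hT⟩ := hsurj ⟨g, mem_degreeLT.mpr hg⟩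
  exact ⟨h, mem_degreeLT.mp hh, congrArg Subtype.val hT⟩

lemma degree_lt_of_mul_degree_le {p g : k[X]} (hp : p ≠ 0) {N e : ℕ}
    (h : (p * g).degree ≤ (N : ℕ)) (hN : N < p.natDegree + e) : g.degree < e := by
  by_cases hg : g = 0
  · subst hg; rw [degree_zero]; exact WithBot.bot_lt_coe _
  · have h1 : (p * g).natDegree ≤ N := natDegree_le_of_degree_le h
    rw [natDegree_mul hp hg] at h1
    exact (natDegree_lt_iff_degree_lt hg).mp (by omega)

lemma mul_mem_degreeLE {p h : k[X]} {d e N : ℕ} (hp : p.natDegree ≤ d) (hh : h.degree < e)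
    (hN : d + e ≤ N + 1) : p * h ∈ degreeLE k (N : ℕ) := by
  rw [mem_degreeLE]
  by_cases hz : h = 0
  · subst hz; rw [mul_zero, degree_zero]; exact bot_le
  · apply degree_le_of_natDegree_le
    have : h.natDegree < e := (natDegree_lt_iff_degree_lt hz).mpr hh
    calc (p * h).natDegree ≤ p.natDegree + h.natDegree := natDegree_mul_le
      _ ≤ N := by omega

/-- the linear system of residue-free forms is contained in the image of `D`. -/
theorem V_le [CharZero k] (a b : ℕ) :
    ((Ideal.span {(X : k[X]) ^ (a + 1)}).restrictScalars k ⊓ degreeLE k ↑(a + b)) ⊔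
      ((Ideal.span {((X : k[X]) - 1) ^ (b + 1)}).restrictScalars k ⊓ degreeLE k ↑(a + b)) ⊔
      Submodule.span k {(X : k[X]) ^ (a + 1) * (X - 1) ^ (b + 1)} ≤
    (degreeLE k ↑(a + b + 1)).map (D k a b) := by
  refine sup_le (sup_le ?_ ?_) ?_
  · rintro f ⟨hf1, hf2⟩
    rw [SetLike.mem_coe, Submodule.restrictScalars_mem, Ideal.mem_span_singleton] at hf1
    obtain ⟨g, rfl⟩ := hf1
    rw [SetLike.mem_coe, mem_degreeLE] at hf2
    have hg : g.degree < b := degree_lt_of_mul_degree_le (pow_ne_zero _ X_ne_zero) hf2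
      (by rw [natDegree_X_pow]; omega)
    obtain ⟨h, hh, he⟩ := exists_ode_solution (1 : k) b g hg
    refine ⟨X ^ a * h, mul_mem_degreeLE (d := a) (e := b) (by rw [natDegree_X_pow]) hh (by omega), ?_⟩
    rw [D_X_pow_mul, ← he, C_1]
  · rintro f ⟨hf1, hf2⟩
    rw [SetLike.mem_coe, Submodule.restrictScalars_mem, Ideal.mem_span_singleton] at hf1
    obtain ⟨g, rfl⟩ := hf1
    rw [SetLike.mem_coe, mem_degreeLE] at hf2
    have hnd : ∀ m : ℕ, ((X : k[X]) - 1) ^ m = (X - C 1) ^ m := by intro m; rw [C_1]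
    have hg : g.degree < a := degree_lt_of_mul_degree_le
      (pow_ne_zero _ (by rw [← C_1]; exact X_sub_C_ne_zero 1)) hf2
      (by rw [hnd, natDegree_pow, natDegree_X_sub_C]; omega)
    obtain ⟨h, hh, he⟩ := exists_ode_solution (0 : k) a g hg
    refine ⟨(X - 1) ^ b * h, mul_mem_degreeLE (d := b) (e := a)
      (by rw [hnd, natDegree_pow, natDegree_X_sub_C, mul_one]) hh (by omega), ?_⟩
    rw [D_X_sub_one_pow_mul, ← he, C_0, sub_zero]
  · rw [Submodule.span_le, Set.singleton_subset_iff]
    refine ⟨X ^ (a + 1) * (X - 1) ^ b, ?_, D_X_mul_H₀ a b⟩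
    rw [SetLike.mem_coe, mem_degreeLE]
    apply degree_le_of_natDegree_le
    have hnd : ((X : k[X]) - 1) ^ b = (X - C 1) ^ b := by rw [C_1]
    calc ((X : k[X]) ^ (a + 1) * (X - 1) ^ b).natDegree
        ≤ ((X : k[X]) ^ (a + 1)).natDegree + ((X - 1 : k[X]) ^ b).natDegree := natDegree_mul_le
      _ = a + b + 1 := by
        rw [natDegree_X_pow, hnd, natDegree_pow, natDegree_X_sub_C]; omega


lemma D_sub_smul_H₀ (a b : ℕ) (H : k[X]) (d : k) : D k a b (H - d • H₀ k a b) = D k a b H := by
  rw [map_sub, map_smul, D_H₀, smul_zero, sub_zero]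

lemma eval_H₀ (a b : ℕ) (p : k) : (H₀ k a b).eval p = p ^ a * (p - 1) ^ b := by
  simp [H₀]

/-- At a point `p ∉ {0, 1}` the equation `D H = f` is regular: if `(X-p)^m ∣ D H`, then `H` agrees
with a multiple of `H₀` to order `m + 1`. -/
theorem regular_point [CharZero k] (a b : ℕ) (p : k) (hp0 : p ≠ 0) (hp1 : p ≠ 1) (H : k[X]) (m : ℕ)
    (hdvd : (X - C p) ^ m ∣ D k a b H) :
    ∃ d : k, (X - C p) ^ (m + 1) ∣ H - d • H₀ k a b := by
  have hH₀ : (H₀ k a b).eval p ≠ 0 := by
    rw [eval_H₀]
    exact mul_ne_zero (pow_ne_zero _ hp0) (pow_ne_zero _ (sub_ne_zero.mpr hp1))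
  refine ⟨H.eval p / (H₀ k a b).eval p, ?_⟩
  set d := H.eval p / (H₀ k a b).eval p with hd
  set H₁ := H - d • H₀ k a b with hH₁
  have hroot : (X - C p) ^ 1 ∣ H₁ := by
    rw [pow_one, Polynomial.dvd_iff_isRoot, IsRoot.def, hH₁, eval_sub, eval_smul, smul_eq_mul, hd,
      div_mul_cancel₀ _ hH₀, sub_self]
  have hD : D k a b H₁ = D k a b H := D_sub_smul_H₀ a b H d
  apply dvd_of_dvd_ode p (X * (X - 1)) ((X - C p) * (C ((a : k) + b) * X - C (a : k))) H₁ 1 (m + 1)
    (by omega) hroot
  · intro n hn _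
    simp only [eval_mul, eval_sub, eval_X, eval_C, eval_one, sub_self, zero_mul]
    have : (n : k) ≠ 0 := by exact_mod_cast (by omega : n ≠ 0)
    exact mul_ne_zero this (mul_ne_zero hp0 (sub_ne_zero.mpr hp1))
  · have : (X - C p) * (X * (X - 1)) * derivative H₁ -
        (X - C p) * (C ((a : k) + b) * X - C (a : k)) * H₁ = (X - C p) * D k a b H₁ := by
      rw [D_apply]; ring
    rw [this, hD, pow_succ']
    exact mul_dvd_mul_left _ hdvd

/-- At `0` the exponent of `D` is `a`: below it, divisibility of `D H` passes to `H`. -/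
theorem singular_point_zero [CharZero k] (a b : ℕ) (H : k[X]) (m : ℕ) (hm : m ≤ a)
    (hdvd : X ^ m ∣ D k a b H) : X ^ m ∣ H := by
  have h := dvd_of_dvd_ode (0 : k) (X - 1) (C ((a : k) + b) * X - C (a : k)) H 0 m (Nat.zero_le _)
    (by rw [pow_zero]; exact one_dvd _)
    (by
      intro n _ hn
      simp only [eval_mul, eval_sub, eval_X, eval_C, eval_one, mul_zero, zero_sub]
      intro e
      have : (n : k) = a := by linear_combination -e
      have := Nat.cast_injective this
      omega)
    (by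
      rw [C_0, sub_zero]
      have : X * (X - 1) * derivative H - (C ((a : k) + b) * X - C (a : k)) * H = D k a b H := rfl
      rw [this]; exact hdvd)
  rwa [C_0, sub_zero] at h

/-- At `1` the exponent of `D` is `b`: below it, divisibility of `D H` passes to `H`. -/
theorem singular_point_one [CharZero k] (a b : ℕ) (H : k[X]) (m : ℕ) (hm : m ≤ b)
    (hdvd : (X - 1) ^ m ∣ D k a b H) : (X - 1) ^ m ∣ H := by
  have h := dvd_of_dvd_ode (1 : k) X (C ((a : k) + b) * X - C (a : k)) H 0 m (Nat.zero_le _)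
    (by rw [pow_zero]; exact one_dvd _)
    (by
      intro n _ hn
      simp only [eval_mul, eval_sub, eval_X, eval_C, mul_one]
      intro e
      have : (n : k) = b := by linear_combination e
      have := Nat.cast_injective this
      omega)
    (by
      rw [C_1]
      have : (X - 1) * X * derivative H - (C ((a : k) + b) * X - C (a : k)) * H = D k a b H := by
        rw [D_apply]; ring
      rw [this]; exact hdvd)
  rwa [C_1] at h

/-- The equation `X h' - a h = g` is regular at `1`, with solution `X^a`. -/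
theorem regular_point_E [CharZero k] (a : ℕ) (h : k[X]) (m : ℕ)
    (hdvd : (X - 1) ^ m ∣ X * derivative h - C (a : k) * h) :
    ∃ d : k, (X - 1) ^ (m + 1) ∣ h - d • X ^ a := by
  refine ⟨h.eval 1, ?_⟩
  set h₁ := h - (h.eval 1) • (X : k[X]) ^ a with hh₁
  have hroot : (X - C (1 : k)) ^ 1 ∣ h₁ := by
    rw [pow_one, Polynomial.dvd_iff_isRoot, IsRoot.def, hh₁, eval_sub, eval_smul, smul_eq_mul,
      eval_pow, eval_X, one_pow, mul_one, sub_self]
  have hE : X * derivative h₁ - C (a : k) * h₁ = X * derivative h - C (a : k) * h := by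
    have h1 := mul_derivative_pow (X : k[X]) a
    rw [derivative_X, mul_one] at h1
    rw [hh₁, derivative_sub, derivative_smul, mul_sub, mul_smul_comm, h1]
    simp only [smul_eq_C_mul]
    ring
  have := dvd_of_dvd_ode (1 : k) X ((X - C 1) * C (a : k)) h₁ 1 (m + 1) (by omega) hroot
    (by
      intro n hn _
      simp only [eval_mul, eval_sub, eval_X, eval_C, sub_self, zero_mul, mul_one]
      exact_mod_cast (by omega : n ≠ 0))
    (by
      have : (X - C (1 : k)) * X * derivative h₁ - (X - C 1) * C (a : k) * h₁ =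
          (X - C 1) * (X * derivative h₁ - C (a : k) * h₁) := by ring
      rw [this, hE, pow_succ', C_1]
      exact mul_dvd_mul_left _ hdvd)
  rwa [C_1] at this


/-- a subspace all of whose members are multiples of one vector has dimension at most one -/
theorem finrank_le_one_of_forall_smul {M : Type*} [AddCommGroup M] [Module k M]
    (U : Submodule k M) (g₀ : M) (h : ∀ f ∈ U, ∃ c : k, f = c • g₀) :
    Module.finrank k U ≤ 1 := by
  have hle : U ≤ Submodule.span k {g₀} := by
    intro f hf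
    obtain ⟨c, rfl⟩ := h f hf
    exact Submodule.smul_mem _ _ (Submodule.mem_span_singleton_self g₀)
  calc Module.finrank k U ≤ Module.finrank k (Submodule.span k {g₀}) := Submodule.finrank_mono hle
    _ ≤ 1 := by
      have := finrank_span_finset_le_card (R := k) ({g₀} : Finset M)
      rw [Finset.coe_singleton, Finset.card_singleton] at this
      exact this

/-- if every member of `U` is the image under `D` of an element of a set `S` contained in a line,
then `U` has dimension at most one -/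
theorem finrank_le_one_of_line {M N : Type*} [AddCommGroup M] [Module k M] [AddCommGroup N]
    [Module k N] (U : Submodule k M) (L : N →ₗ[k] M) (S : Set N)
    (hS : ∀ H₁ ∈ S, ∀ H₂ ∈ S, ∃ α β : k, (α ≠ 0 ∨ β ≠ 0) ∧ α • H₁ + β • H₂ = 0)
    (hU : ∀ f ∈ U, ∃ H ∈ S, L H = f) : Module.finrank k U ≤ 1 := by
  by_cases hz : ∀ f ∈ U, f = 0
  · exact finrank_le_one_of_forall_smul U 0 (fun f hf => ⟨0, by rw [hz f hf, smul_zero]⟩)
  · push Not at hz
    obtain ⟨f₁, hf₁, hne⟩ := hz
    obtain ⟨H₁, hH₁, e₁⟩ := hU f₁ hf₁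
    apply finrank_le_one_of_forall_smul U f₁
    intro f₂ hf₂
    obtain ⟨H₂, hH₂, e₂⟩ := hU f₂ hf₂
    obtain ⟨α, β, hαβ, e⟩ := hS H₁ hH₁ H₂ hH₂
    have e' : α • f₁ + β • f₂ = 0 := by
      rw [← e₁, ← e₂, ← map_smul, ← map_smul, ← map_add, e, map_zero]
    have hβ : β ≠ 0 := by
      intro hβ
      rw [hβ, zero_smul, add_zero] at e'
      rcases hαβ with h | h
      · exact hne ((smul_eq_zero.mp e').resolve_left h)
      · exact h hβ
    refine ⟨-(α / β), ?_⟩
    have : β • f₂ = β • (-(α / β)) • f₁ := by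
      rw [smul_smul, mul_neg, mul_div_cancel₀ _ hβ, neg_smul]
      exact eq_neg_of_add_eq_zero_right e'
    exact smul_right_injective M hβ this

/-- a multiple of a polynomial `T` of degree at most that of `T` is a scalar multiple -/
lemma eq_smul_of_dvd_of_natDegree_le {T G : k[X]} (hdvd : T ∣ G)
    (hdeg : G.natDegree ≤ T.natDegree) : ∃ c : k, G = c • T := by
  obtain ⟨u, rfl⟩ := hdvd
  by_cases hu : u = 0
  · exact ⟨0, by rw [hu, mul_zero, zero_smul]⟩
  by_cases hT : T = 0
  · exact ⟨0, by rw [hT, zero_mul, smul_zero]⟩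
  rw [natDegree_mul hT hu] at hdeg
  have : u.natDegree = 0 := by omega
  obtain ⟨c, rfl⟩ := natDegree_eq_zero.mp this
  exact ⟨c, by rw [smul_eq_C_mul, mul_comm]⟩

lemma natDegree_H₀ (a b : ℕ) : (H₀ k a b).natDegree = a + b := by
  have hnd : ((X : k[X]) - 1) ^ b = (X - C 1) ^ b := by rw [C_1]
  rw [H₀, natDegree_mul (pow_ne_zero _ X_ne_zero)
    (pow_ne_zero _ (by rw [← C_1]; exact X_sub_C_ne_zero 1)), natDegree_X_pow, hnd, natDegree_pow,
    natDegree_X_sub_C, mul_one]

lemma natDegree_sub_smul_H₀_le (a b : ℕ) {H : k[X]} {N : ℕ} (hN : a + b ≤ N)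
    (hH : H ∈ degreeLE k (N : ℕ)) (d : k) : (H - d • H₀ k a b).natDegree ≤ N := by
  rw [mem_degreeLE] at hH
  apply (natDegree_sub_le _ _).trans
  apply max_le (natDegree_le_of_degree_le hH)
  exact (natDegree_smul_le _ _).trans (by rw [natDegree_H₀]; exact hN)

end Groth.Agent.Lib.WronskPoly3
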