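import Groth.Agent.Lib.WronskPoly3
import Mathlib.Algebra.Polynomial.BigOperators
import Mathlib.Algebra.Polynomial.Roots
import Mathlib.RingTheory.Coprime.Lemmas

/-!
# Sums of polar parts on the projective line (W4c4effdivwronsk2) — helper73

`V = D·k[X]_{<b} + ∑ D_i·k[X]_{<a_i}` is the image of `k[X]_{≤ N}` under the first order operator
`Φ P = R P' - Q P`, where `R = ∏ (X - r_j)`, `E = ∏ (X - r_j)^(a_j)`, `R E' = Q E`.
-/

set_option autoImplicit false

namespace Groth.Agent.Lib.WronskV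

open Polynomial Groth.Agent.Lib.WronskPoly Groth.Agent.Lib.WronskPoly3

variable {k : Type*} [Field k] {m : ℕ} (r : Fin m → k) (a : Fin m → ℕ)

/-- `R = ∏ (X - r_j)` -/
noncomputable def Rp : k[X] := ∏ j, (X - C (r j))
/-- `E = ∏ (X - r_j)^(a_j)` -/
noncomputable def Ep : k[X] := ∏ j, (X - C (r j)) ^ (a j)
/-- `Q = ∑ a_j ∏_{l ≠ j} (X - r_l)`, so that `R E' = Q E` -/
noncomputable def Qp : k[X] := ∑ j, C (a j : k) * ∏ l ∈ Finset.univ.erase j, (X - C (r l))
/-- `D = ∏ (X - r_j)^(a_j+1)` -/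
noncomputable def Dp : k[X] := ∏ j, (X - C (r j)) ^ (a j + 1)
/-- `D_i = ∏_{j ≠ i} (X - r_j)^(a_j+1)` -/
noncomputable def Dpi (i : Fin m) : k[X] := ∏ j ∈ Finset.univ.erase i, (X - C (r j)) ^ (a j + 1)
/-- `A = ∑ a_j = deg E` -/
def Asum : ℕ := ∑ j, a j

/-- the operator `Φ P = R P' - Q P` -/
noncomputable def Phi : k[X] →ₗ[k] k[X] :=
  (LinearMap.mulLeft k (Rp r)).comp derivative - LinearMap.mulLeft k (Qp r a)

lemma Phi_apply (P : k[X]) : Phi r a P = Rp r * derivative P - Qp r a * P := rfl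

lemma Dp_eq : Dp r a = Rp r * Ep r a := by
  simp only [Dp, Rp, Ep, ← Finset.prod_mul_distrib, pow_succ']

lemma Rp_eq (i : Fin m) : Rp r = (X - C (r i)) * ∏ l ∈ Finset.univ.erase i, (X - C (r l)) := by
  exact (Finset.mul_prod_erase _ (fun l => X - C (r l)) (Finset.mem_univ i)).symm

lemma Ep_eq (i : Fin m) :
    Ep r a = (X - C (r i)) ^ (a i) * ∏ l ∈ Finset.univ.erase i, (X - C (r l)) ^ (a l) := by
  exact (Finset.mul_prod_erase _ (fun l => (X - C (r l)) ^ (a l)) (Finset.mem_univ i)).symm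

lemma Dp_eq_mul_Dpi (i : Fin m) : Dp r a = (X - C (r i)) ^ (a i + 1) * Dpi r a i := by
  exact (Finset.mul_prod_erase _ (fun l => (X - C (r l)) ^ (a l + 1)) (Finset.mem_univ i)).symm

lemma Rp_mul_derivative_Ep : Rp r * derivative (Ep r a) = Qp r a * Ep r a := by
  classical
  have hE : derivative (Ep r a) = ∑ j, (∏ b ∈ Finset.univ.erase j, (X - C (r b)) ^ a b) *
      derivative ((X - C (r j)) ^ a j) := by
    rw [Ep, derivative_prod_finset]
  rw [hE, Qp, Finset.mul_sum, Finset.sum_mul]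
  refine Finset.sum_congr rfl fun j _ => ?_
  have h1 := mul_derivative_pow (X - C (r j) : k[X]) (a j)
  have d1 : derivative (X - C (r j) : k[X]) = 1 := by simp
  rw [d1, mul_one] at h1
  rw [Rp_eq r j, Ep_eq r a j]
  set Rj := ∏ l ∈ Finset.univ.erase j, (X - C (r l)) with hRj
  set Ej := ∏ b ∈ Finset.univ.erase j, (X - C (r b)) ^ a b with hEj
  linear_combination (Rj * Ej) * h1

lemma Phi_Ep : Phi r a (Ep r a) = 0 := by
  rw [Phi_apply, Rp_mul_derivative_Ep, sub_self]

lemma Phi_sub_smul_Ep (P : k[X]) (c : k) : Phi r a (P - c • Ep r a) = Phi r a P := by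
  rw [map_sub, map_smul, Phi_Ep, smul_zero, sub_zero]

/-- `Φ (E G) = D G'` -/
lemma Phi_Ep_mul (G : k[X]) : Phi r a (Ep r a * G) = Dp r a * derivative G := by
  rw [Phi_apply, derivative_mul, Dp_eq]
  have := Rp_mul_derivative_Ep r a
  linear_combination G * this

lemma Ep_ne_zero : Ep r a ≠ 0 :=
  Finset.prod_ne_zero_iff.mpr fun _ _ => pow_ne_zero _ (X_sub_C_ne_zero _)

lemma Ep_monic : (Ep r a).Monic :=
  monic_prod_of_monic _ _ fun _ _ => (monic_X_sub_C _).pow _

lemma natDegree_Ep : (Ep r a).natDegree = Asum a := by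
  rw [Ep, natDegree_prod_of_monic _ _ fun _ _ => (monic_X_sub_C _).pow _, Asum]
  refine Finset.sum_congr rfl fun j _ => ?_
  rw [natDegree_pow, natDegree_X_sub_C, mul_one]

lemma Rp_monic : (Rp r).Monic := monic_prod_of_monic _ _ fun _ _ => monic_X_sub_C _

lemma natDegree_Rp : (Rp r).natDegree = m := by
  rw [Rp, natDegree_prod_of_monic _ _ fun _ _ => monic_X_sub_C _]
  simp

lemma eval_Rp_ne_zero (q : k) (hq : ∀ j, q ≠ r j) : (Rp r).eval q ≠ 0 := by
  rw [Rp, eval_prod]
  refine Finset.prod_ne_zero_iff.mpr fun j _ => ?_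
  rw [eval_sub, eval_X, eval_C]
  exact sub_ne_zero.mpr (hq j)

lemma eval_Ep_ne_zero (q : k) (hq : ∀ j, q ≠ r j) : (Ep r a).eval q ≠ 0 := by
  rw [Ep, eval_prod]
  refine Finset.prod_ne_zero_iff.mpr fun j _ => ?_
  rw [eval_pow, eval_sub, eval_X, eval_C]
  exact pow_ne_zero _ (sub_ne_zero.mpr (hq j))


/-! ### Local analysis at the points of the affine line -/

/-- the `k`-submodule of multiples of `(X - q)^n` -/
noncomputable abbrev Idl (q : k) (n : ℕ) : Submodule k k[X] :=
  (Ideal.span {(X - C q) ^ n}).restrictScalars k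

lemma mem_Idl {q : k} {n : ℕ} {P : k[X]} : P ∈ Idl q n ↔ (X - C q) ^ n ∣ P := by
  rw [Idl, Submodule.restrictScalars_mem, Ideal.mem_span_singleton]

variable {r a}

lemma eval_Qp (i : Fin m) :
    (Qp r a).eval (r i) =
      (a i : k) * (∏ l ∈ Finset.univ.erase i, (X - C (r l))).eval (r i) := by
  rw [Qp, eval_finsetSum, Finset.sum_eq_single i]
  · rw [eval_mul, eval_C]
  · intro j _ hji
    rw [eval_mul, eval_prod,
      Finset.prod_eq_zero (i := i) (Finset.mem_erase.mpr ⟨hji.symm, Finset.mem_univ _⟩) (by simp),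
      mul_zero]
  · intro h; exact absurd (Finset.mem_univ i) h

lemma eval_Rpi_ne_zero (hr : Function.Injective r) (i : Fin m) :
    (∏ l ∈ Finset.univ.erase i, (X - C (r l))).eval (r i) ≠ 0 := by
  rw [eval_prod]
  refine Finset.prod_ne_zero_iff.mpr fun l hl => ?_
  rw [eval_sub, eval_X, eval_C]
  exact sub_ne_zero.mpr (fun h => (Finset.ne_of_mem_erase hl) (hr h).symm)

lemma eval_Epi_ne_zero (hr : Function.Injective r) (i : Fin m) :
    (∏ l ∈ Finset.univ.erase i, (X - C (r l)) ^ (a l)).eval (r i) ≠ 0 := by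
  rw [eval_prod]
  refine Finset.prod_ne_zero_iff.mpr fun l hl => ?_
  rw [eval_pow, eval_sub, eval_X, eval_C]
  exact pow_ne_zero _ (sub_ne_zero.mpr (fun h => (Finset.ne_of_mem_erase hl) (hr h).symm))

theorem dvd_of_dvd_Phi_marked_le [CharZero k] (hr : Function.Injective r) (i : Fin m) (P : k[X])
    (n : ℕ) (hn : n ≤ a i) (h : (X - C (r i)) ^ n ∣ Phi r a P) : (X - C (r i)) ^ n ∣ P := by
  apply dvd_of_dvd_ode (r i) (∏ l ∈ Finset.univ.erase i, (X - C (r l))) (Qp r a) P 0 n
    (Nat.zero_le _) (by simp)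
  · intro n' _ hn' e
    rw [eval_Qp] at e
    have := Nat.cast_injective (mul_right_cancel₀ (eval_Rpi_ne_zero hr i) e)
    omega
  · rw [← Rp_eq]; exact h

theorem exists_dvd_sub_of_dvd_Phi_marked [CharZero k] (hr : Function.Injective r) (i : Fin m)
    (P : k[X]) (n : ℕ) (h : (X - C (r i)) ^ n ∣ Phi r a P) :
    ∃ c : k, (X - C (r i)) ^ n ∣ P - c • Ep r a := by
  rcases le_or_gt n (a i) with hn | hn
  · exact ⟨0, by simpa using dvd_of_dvd_Phi_marked_le hr i P n hn h⟩
  · have h0 : (X - C (r i)) ^ (a i) ∣ P :=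
      dvd_of_dvd_Phi_marked_le hr i P (a i) le_rfl (dvd_trans (pow_dvd_pow _ hn.le) h)
    obtain ⟨P₂, rfl⟩ := h0
    set Ei := ∏ l ∈ Finset.univ.erase i, (X - C (r l)) ^ (a l) with hEi
    have hEi0 : Ei.eval (r i) ≠ 0 := eval_Epi_ne_zero hr i
    refine ⟨P₂.eval (r i) / Ei.eval (r i), ?_⟩
    set c := P₂.eval (r i) / Ei.eval (r i) with hc
    have hH : (X - C (r i)) ^ (a i) * P₂ - c • Ep r a = (X - C (r i)) ^ (a i) * (P₂ - c • Ei) := by
      rw [Ep_eq r a i]; simp only [smul_eq_C_mul]; ring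
    have hroot : (X - C (r i)) ∣ P₂ - c • Ei := by
      rw [dvd_iff_isRoot, IsRoot.def, eval_sub, eval_smul, smul_eq_mul, hc,
        div_mul_cancel₀ _ hEi0, sub_self]
    have h1 : (X - C (r i)) ^ (a i + 1) ∣ (X - C (r i)) ^ (a i) * P₂ - c • Ep r a := by
      rw [hH, pow_succ]; exact mul_dvd_mul_left _ hroot
    apply dvd_of_dvd_ode (r i) (∏ l ∈ Finset.univ.erase i, (X - C (r l))) (Qp r a) _ (a i + 1) n hn h1
    · intro n' hn' _ e
      rw [eval_Qp] at e
      have := Nat.cast_injective (mul_right_cancel₀ (eval_Rpi_ne_zero hr i) e)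
      omega
    · rw [← Rp_eq]
      have := Phi_sub_smul_Ep r a ((X - C (r i)) ^ (a i) * P₂) c
      rw [Phi_apply] at this
      rw [this]; exact h

theorem dvd_Phi_of_dvd_marked (i : Fin m) (H : k[X]) (n : ℕ) (h : (X - C (r i)) ^ n ∣ H) :
    (X - C (r i)) ^ n ∣ Phi r a H := by
  rw [Phi_apply]
  apply dvd_sub
  · rcases n with _ | n
    · simp
    · have h1 : (X - C (r i)) ^ n ∣ derivative H := by
        simpa using pow_sub_one_dvd_derivative_of_pow_dvd h
      rw [Rp_eq r i, mul_assoc, pow_succ']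
      exact mul_dvd_mul_left _ (Dvd.dvd.mul_left h1 _)
  · exact Dvd.dvd.mul_left h _

theorem exists_dvd_sub_of_dvd_Phi_unmarked [CharZero k] (q : k) (hq : ∀ j, q ≠ r j) (P : k[X])
    (n : ℕ) (h : (X - C q) ^ n ∣ Phi r a P) :
    ∃ c : k, (X - C q) ^ (n + 1) ∣ P - c • Ep r a := by
  have hE := eval_Ep_ne_zero r a q hq
  refine ⟨P.eval q / (Ep r a).eval q, ?_⟩
  set c := P.eval q / (Ep r a).eval q with hc
  have hroot : (X - C q) ^ 1 ∣ P - c • Ep r a := by
    rw [pow_one, dvd_iff_isRoot, IsRoot.def, eval_sub, eval_smul, smul_eq_mul, hc,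
      div_mul_cancel₀ _ hE, sub_self]
  apply dvd_of_dvd_ode q (Rp r) ((X - C q) * Qp r a) _ 1 (n + 1) (by omega) hroot
  · intro n' hn' _
    simp only [eval_mul, eval_sub, eval_X, eval_C, sub_self, zero_mul]
    exact mul_ne_zero (by exact_mod_cast (by omega : n' ≠ 0)) (eval_Rp_ne_zero r q hq)
  · have : (X - C q) * Rp r * derivative (P - c • Ep r a) -
        (X - C q) * Qp r a * (P - c • Ep r a) = (X - C q) * Phi r a P := by
      rw [← Phi_sub_smul_Ep r a P c, Phi_apply]; ring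
    rw [this, pow_succ']; exact mul_dvd_mul_left _ h

theorem dvd_Phi_of_dvd_unmarked (q : k) (H : k[X]) (n : ℕ) (h : (X - C q) ^ (n + 1) ∣ H) :
    (X - C q) ^ n ∣ Phi r a H := by
  rw [Phi_apply]
  apply dvd_sub
  · have h1 : (X - C q) ^ n ∣ derivative H := by
      simpa using pow_sub_one_dvd_derivative_of_pow_dvd h
    exact Dvd.dvd.mul_left h1 _
  · exact Dvd.dvd.mul_left (dvd_trans (pow_dvd_pow _ (Nat.le_succ n)) h) _

theorem comap_Phi_Idl_marked [CharZero k] (hr : Function.Injective r) (i : Fin m) (n : ℕ) :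
    (Idl (r i) n).comap (Phi r a) = Idl (r i) n ⊔ Submodule.span k {Ep r a} := by
  ext P
  rw [Submodule.mem_comap, mem_Idl, Submodule.mem_sup]
  constructor
  · intro h
    obtain ⟨c, hc⟩ := exists_dvd_sub_of_dvd_Phi_marked hr i P n h
    exact ⟨P - c • Ep r a, mem_Idl.mpr hc, c • Ep r a,
      Submodule.smul_mem _ _ (Submodule.mem_span_singleton_self _), by abel⟩
  · rintro ⟨y, hy, z, hz, rfl⟩
    obtain ⟨c, rfl⟩ := Submodule.mem_span_singleton.mp hz
    rw [map_add, map_smul, Phi_Ep, smul_zero, add_zero]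
    exact dvd_Phi_of_dvd_marked i y n (mem_Idl.mp hy)

theorem comap_Phi_Idl_unmarked [CharZero k] (q : k) (hq : ∀ j, q ≠ r j) (n : ℕ) :
    (Idl q n).comap (Phi r a) = Idl q (n + 1) ⊔ Submodule.span k {Ep r a} := by
  ext P
  rw [Submodule.mem_comap, mem_Idl, Submodule.mem_sup]
  constructor
  · intro h
    obtain ⟨c, hc⟩ := exists_dvd_sub_of_dvd_Phi_unmarked q hq P n h
    exact ⟨P - c • Ep r a, mem_Idl.mpr hc, c • Ep r a,
      Submodule.smul_mem _ _ (Submodule.mem_span_singleton_self _), by abel⟩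
  · rintro ⟨y, hy, z, hz, rfl⟩
    obtain ⟨c, rfl⟩ := Submodule.mem_span_singleton.mp hz
    rw [map_add, map_smul, Phi_Ep, smul_zero, add_zero]
    exact dvd_Phi_of_dvd_unmarked q y n (mem_Idl.mp hy)


/-! ### Analysis at infinity -/

variable (r a)

lemma XQp_eq :
    X * Qp r a = ∑ j, C (a j : k) * (X * ∏ l ∈ Finset.univ.erase j, (X - C (r l))) := by
  rw [Qp, Finset.mul_sum]; exact Finset.sum_congr rfl fun j _ => by ring

lemma monic_X_mul_prod_erase (j : Fin m) :
    (X * ∏ l ∈ Finset.univ.erase j, (X - C (r l))).Monic :=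
  monic_X.mul (monic_prod_of_monic _ _ fun _ _ => monic_X_sub_C _)

lemma natDegree_X_mul_prod_erase (j : Fin m) :
    (X * ∏ l ∈ Finset.univ.erase j, (X - C (r l))).natDegree = m := by
  rw [Monic.natDegree_mul monic_X (monic_prod_of_monic _ _ fun _ _ => monic_X_sub_C _),
    natDegree_X, natDegree_prod_of_monic _ _ fun _ _ => monic_X_sub_C _]
  have := j.pos
  simp [Finset.card_erase_of_mem]
  omega

lemma natDegree_XQp_le : (X * Qp r a).natDegree ≤ m := by
  rw [XQp_eq]
  refine natDegree_sum_le_of_forall_le _ _ fun j _ => ?_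
  exact (natDegree_C_mul_le _ _).trans (natDegree_X_mul_prod_erase r j).le

lemma coeff_XQp : (X * Qp r a).coeff m = (Asum a : k) := by
  rw [XQp_eq, finsetSum_coeff, Asum, Nat.cast_sum]
  refine Finset.sum_congr rfl fun j _ => ?_
  rw [coeff_C_mul]
  have := (monic_X_mul_prod_erase r j).coeff_natDegree
  rw [natDegree_X_mul_prod_erase] at this
  rw [this, mul_one]

lemma X_mul_Phi (P : k[X]) :
    X * Phi r a P = Rp r * (X * derivative P) - (X * Qp r a) * P := by
  rw [Phi_apply]; ring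

lemma natDegree_X_mul_derivative_le (P : k[X]) : (X * derivative P).natDegree ≤ P.natDegree := by
  rw [natDegree_le_iff_coeff_eq_zero]
  intro N hN
  rw [coeff_X_mul_derivative, coeff_eq_zero_of_natDegree_lt hN, mul_zero]

lemma coeff_X_mul_Phi (P : k[X]) (t : ℕ) (ht : P.natDegree ≤ t) :
    (X * Phi r a P).coeff (m + t) = ((t : k) - Asum a) * P.coeff t := by
  rw [X_mul_Phi, coeff_sub,
    coeff_mul_add_eq_of_natDegree_le (natDegree_Rp r).le
      ((natDegree_X_mul_derivative_le P).trans ht),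
    coeff_mul_add_eq_of_natDegree_le (natDegree_XQp_le r a) ht, coeff_X_mul_derivative, coeff_XQp]
  have := (Rp_monic r).coeff_natDegree
  rw [natDegree_Rp] at this
  rw [this]; ring

lemma natDegree_X_mul_Phi_le (P : k[X]) : (X * Phi r a P).natDegree ≤ m + P.natDegree := by
  rw [X_mul_Phi]
  refine (natDegree_sub_le _ _).trans (max_le ?_ ?_)
  · exact natDegree_mul_le.trans
      (add_le_add (natDegree_Rp r).le (natDegree_X_mul_derivative_le P))
  · exact natDegree_mul_le.trans (add_le_add (natDegree_XQp_le r a) le_rfl)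

lemma mem_degreeLT_of_natDegree_lt {p : k[X]} {n : ℕ} (h : p.natDegree < n) : p ∈ degreeLT k n :=
  mem_degreeLT.mpr (lt_of_le_of_lt degree_le_natDegree (by exact_mod_cast h))

lemma natDegree_lt_of_mem_degreeLT {p : k[X]} {n : ℕ} (hp : p ≠ 0) (h : p ∈ degreeLT k n) :
    p.natDegree < n :=
  (natDegree_lt_iff_degree_lt hp).mpr (mem_degreeLT.mp h)

lemma mem_degreeLT_pred_iff (F : k[X]) (n : ℕ) :
    F ∈ degreeLT k (n - 1) ↔ X * F ∈ degreeLT k n := by
  by_cases hF : F = 0
  · subst hF; simp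
  · have hXF : X * F ≠ 0 := mul_ne_zero X_ne_zero hF
    rw [mem_degreeLT, mem_degreeLT, ← natDegree_lt_iff_degree_lt hF,
      ← natDegree_lt_iff_degree_lt hXF, natDegree_X_mul hF]
    omega

theorem sub_coeff_smul_mem_degreeLT [CharZero k] (P : k[X]) (j : ℕ)
    (h : X * Phi r a P ∈ degreeLT k (j + m)) :
    P - (P.coeff (Asum a)) • Ep r a ∈ degreeLT k j := by
  set c := P.coeff (Asum a) with hc
  set P₁ := P - c • Ep r a with hP₁
  by_contra hnot
  have hne : P₁ ≠ 0 := fun h0 => hnot (by rw [h0]; exact Submodule.zero_mem _)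
  have ht : j ≤ P₁.natDegree := by
    by_contra hlt
    exact hnot (mem_degreeLT_of_natDegree_lt (not_le.mp hlt))
  have hcoeff : P₁.coeff (Asum a) = 0 := by
    have := (Ep_monic r a).coeff_natDegree
    rw [natDegree_Ep] at this
    rw [hP₁, coeff_sub, coeff_smul, this, smul_eq_mul, mul_one, hc, sub_self]
  have hlc : P₁.coeff P₁.natDegree ≠ 0 := by
    rw [coeff_natDegree]; exact leadingCoeff_ne_zero.mpr hne
  have htA : P₁.natDegree ≠ Asum a := fun e => hlc (e ▸ hcoeff)
  have h1 := coeff_X_mul_Phi r a P₁ P₁.natDegree le_rfl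
  rw [hP₁, Phi_sub_smul_Ep, ← hP₁] at h1
  have h2 : (X * Phi r a P).coeff (m + P₁.natDegree) = 0 := by
    apply coeff_eq_zero_of_degree_lt
    refine lt_of_lt_of_le (mem_degreeLT.mp h) ?_
    exact_mod_cast (by omega : j + m ≤ m + P₁.natDegree)
  rw [h2] at h1
  rcases mul_eq_zero.mp h1.symm with h3 | h3
  · exact htA (Nat.cast_injective (sub_eq_zero.mp h3))
  · exact hlc h3

theorem X_mul_Phi_mem_degreeLT (y : k[X]) (j : ℕ) (hy : y ∈ degreeLT k j) :
    X * Phi r a y ∈ degreeLT k (j + m) := by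
  by_cases hy0 : y = 0
  · subst hy0; simp
  · have := natDegree_lt_of_mem_degreeLT hy0 hy
    exact mem_degreeLT_of_natDegree_lt ((natDegree_X_mul_Phi_le r a y).trans_lt (by omega))

theorem comap_Phi_degreeLT [CharZero k] (j : ℕ) :
    (degreeLT k (j + m - 1)).comap (Phi r a) = degreeLT k j ⊔ Submodule.span k {Ep r a} := by
  ext P
  rw [Submodule.mem_comap, mem_degreeLT_pred_iff, Submodule.mem_sup]
  constructor
  · intro h
    exact ⟨_, sub_coeff_smul_mem_degreeLT r a P j h, _,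
      Submodule.smul_mem _ (P.coeff (Asum a)) (Submodule.mem_span_singleton_self _), by abel⟩
  · rintro ⟨y, hy, z, hz, rfl⟩
    obtain ⟨c, rfl⟩ := Submodule.mem_span_singleton.mp hz
    rw [map_add, map_smul, Phi_Ep, smul_zero, add_zero]
    exact X_mul_Phi_mem_degreeLT r a y j hy

theorem ker_Phi [CharZero k] : LinearMap.ker (Phi r a) = Submodule.span k {Ep r a} := by
  ext P
  rw [LinearMap.mem_ker, Submodule.mem_span_singleton]
  constructor
  · intro h
    have h1 : X * Phi r a P ∈ degreeLT k (0 + m) := by rw [h, mul_zero]; exact Submodule.zero_mem _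
    have h2 := sub_coeff_smul_mem_degreeLT r a P 0 h1
    refine ⟨P.coeff (Asum a), ?_⟩
    by_contra hne
    have hne' : P - P.coeff (Asum a) • Ep r a ≠ 0 := fun h0 => hne (sub_eq_zero.mp h0).symm
    exact absurd (natDegree_lt_of_mem_degreeLT hne' h2) (Nat.not_lt_zero _)
  · rintro ⟨c, rfl⟩
    rw [map_smul, Phi_Ep, smul_zero]


/-! ### Dimension counts -/

lemma finite_degreeLT (n : ℕ) : Module.Finite k (degreeLT k n) :=
  Module.Finite.equiv (degreeLTEquiv k n).symm

lemma finrank_degreeLT (n : ℕ) : Module.finrank k (degreeLT k n) = n := by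
  rw [(degreeLTEquiv k n).finrank_eq, Module.finrank_fin_fun]

lemma finite_of_le_degreeLT {Z : Submodule k k[X]} {M : ℕ} (hZ : Z ≤ degreeLT k M) :
    Module.Finite k Z := by
  have := finite_degreeLT (k := k) M
  exact Submodule.finiteDimensional_of_le hZ

variable {r a}

theorem finrank_map_Phi_of_mem [CharZero k] {Z : Submodule k k[X]} {M : ℕ}
    (hZ : Z ≤ degreeLT k M) (hE : Ep r a ∈ Z) :
    Module.finrank k (Z.map (Phi r a)) + 1 = Module.finrank k Z := by
  have := finite_of_le_degreeLT hZ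
  have h1 := LinearMap.finrank_range_add_finrank_ker ((Phi r a).domRestrict Z)
  rw [LinearMap.range_domRestrict] at h1
  have h2 : LinearMap.ker ((Phi r a).domRestrict Z) = Submodule.span k {(⟨Ep r a, hE⟩ : Z)} := by
    ext ⟨P, hP⟩
    rw [LinearMap.mem_ker, LinearMap.domRestrict_apply, Submodule.mem_span_singleton]
    have : Phi r a P = 0 ↔ P ∈ Submodule.span k {Ep r a} := by
      rw [← ker_Phi, LinearMap.mem_ker]
    rw [this, Submodule.mem_span_singleton]
    constructor
    · rintro ⟨c, rfl⟩; exact ⟨c, rfl⟩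
    · rintro ⟨c, hc⟩; exact ⟨c, congrArg Subtype.val hc⟩
  rw [h2, finrank_span_singleton (by
    intro h0; exact Ep_ne_zero r a (congrArg Subtype.val h0))] at h1
  exact h1

theorem finrank_map_Phi_of_not_mem [CharZero k] {Z : Submodule k k[X]} {M : ℕ}
    (hZ : Z ≤ degreeLT k M) (hE : Ep r a ∉ Z) :
    Module.finrank k (Z.map (Phi r a)) = Module.finrank k Z := by
  have := finite_of_le_degreeLT hZ
  have h1 := LinearMap.finrank_range_add_finrank_ker ((Phi r a).domRestrict Z)
  rw [LinearMap.range_domRestrict] at h1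
  have h2 : LinearMap.ker ((Phi r a).domRestrict Z) = ⊥ := by
    rw [LinearMap.ker_eq_bot']
    rintro ⟨P, hP⟩ h
    rw [LinearMap.domRestrict_apply] at h
    have : P ∈ Submodule.span k {Ep r a} := by rw [← ker_Phi, LinearMap.mem_ker]; exact h
    obtain ⟨c, rfl⟩ := Submodule.mem_span_singleton.mp this
    by_cases hc : c = 0
    · subst hc; ext; simp
    · exfalso; apply hE
      have := Z.smul_mem c⁻¹ hP
      rwa [smul_smul, inv_mul_cancel₀ hc, one_smul] at this
  rw [h2, finrank_bot, add_zero] at h1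
  exact h1

/-- **Key lemma**: cutting the image of `Z ∋ E` by a condition whose pull-back is `C' + kE`. -/
theorem map_Phi_inf {Z C C' : Submodule k k[X]} (hE : Ep r a ∈ Z)
    (hC : C.comap (Phi r a) = C' ⊔ Submodule.span k {Ep r a}) :
    Z.map (Phi r a) ⊓ C = (Z ⊓ C').map (Phi r a) := by
  apply le_antisymm
  · rintro h ⟨⟨P, hP, rfl⟩, hh⟩
    have : P ∈ C.comap (Phi r a) := hh
    rw [hC, Submodule.mem_sup] at this
    obtain ⟨y, hy, z, hz, rfl⟩ := this
    obtain ⟨c, rfl⟩ := Submodule.mem_span_singleton.mp hz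
    refine ⟨y, ⟨?_, hy⟩, ?_⟩
    · have := Z.sub_mem hP (Z.smul_mem c hE)
      rwa [add_sub_cancel_right] at this
    · rw [map_add, map_smul, Phi_Ep, smul_zero, add_zero]
  · rintro h ⟨P, ⟨hP, hP'⟩, rfl⟩
    refine ⟨⟨P, hP, rfl⟩, ?_⟩
    have : P ∈ C.comap (Phi r a) := by rw [hC]; exact Submodule.mem_sup_left hP'
    exact this

lemma degreeLT_inf_Idl (M n : ℕ) (x : k) :
    degreeLT k M ⊓ Idl x n = (degreeLT k (M - n)).map (LinearMap.mulLeft k ((X - C x) ^ n)) := by
  have hpi : ((X - C x) ^ n : k[X]) ≠ 0 := pow_ne_zero _ (X_sub_C_ne_zero x)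
  have hdeg : ((X - C x) ^ n : k[X]).natDegree = n := by
    rw [natDegree_pow, natDegree_X_sub_C, mul_one]
  ext P
  rw [Submodule.mem_inf, mem_Idl, Submodule.mem_map]
  constructor
  · rintro ⟨hP, u, rfl⟩
    refine ⟨u, ?_, rfl⟩
    by_cases hu : u = 0
    · subst hu; exact Submodule.zero_mem _
    · have := natDegree_lt_of_mem_degreeLT (mul_ne_zero hpi hu) hP
      rw [natDegree_mul hpi hu, hdeg] at this
      exact mem_degreeLT_of_natDegree_lt (by omega)
  · rintro ⟨u, hu, rfl⟩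
    refine ⟨?_, Dvd.intro _ rfl⟩
    by_cases hu0 : u = 0
    · subst hu0; simp
    · have := natDegree_lt_of_mem_degreeLT hu0 hu
      rw [LinearMap.mulLeft_apply]
      apply mem_degreeLT_of_natDegree_lt
      rw [natDegree_mul hpi hu0, hdeg]
      omega

theorem finrank_degreeLT_inf_Idl (M n : ℕ) (x : k) :
    Module.finrank k ↥(degreeLT k M ⊓ Idl x n) = M - n := by
  have hpi : ((X - C x) ^ n : k[X]) ≠ 0 := pow_ne_zero _ (X_sub_C_ne_zero x)
  have hinj : Function.Injective (LinearMap.mulLeft k ((X - C x) ^ n : k[X])) := by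
    intro u v h
    exact mul_left_cancel₀ hpi h
  rw [degreeLT_inf_Idl,
    ← (Submodule.equivMapOfInjective _ hinj (degreeLT k (M - n))).finrank_eq, finrank_degreeLT]

/-- a hyperplane `H` of `S` cuts every subspace of `S` in codimension at most one -/
theorem finrank_le_finrank_inf_add_one {H S T : Submodule k k[X]} [Module.Finite k S]
    (hHS : H ≤ S) (hTS : T ≤ S) (hfin : Module.finrank k S ≤ Module.finrank k H + 1) :
    Module.finrank k T ≤ Module.finrank k ↥(H ⊓ T) + 1 := by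
  have : Module.Finite k H := Submodule.finiteDimensional_of_le hHS
  have : Module.Finite k T := Submodule.finiteDimensional_of_le hTS
  have h1 := Submodule.finrank_sup_add_finrank_inf_eq H T
  have h2 : Module.finrank k ↥(H ⊔ T) ≤ Module.finrank k S :=
    Submodule.finrank_mono (sup_le hHS hTS)
  omega


/-! ### The sum of polar parts is the image of `Φ` -/

variable (r a)

/-- the sum of the spaces of polar parts: pole order `≤ b'+1` at `∞`, `≤ a_i+1` at `r_i` -/
noncomputable def Vb (b' : ℕ) : Submodule k k[X] :=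
  (degreeLT k b').map (LinearMap.mulLeft k (Dp r a)) ⊔
    ⨆ i, (degreeLT k (a i)).map (LinearMap.mulLeft k (Dpi r a i))

lemma exists_antiderivative [CharZero k] (g : k[X]) (n : ℕ) (hg : g ∈ degreeLT k n) :
    ∃ G ∈ degreeLT k (n + 1), derivative G = g := by
  refine ⟨∑ i ∈ Finset.range n, C (g.coeff i / ((i : k) + 1)) * X ^ (i + 1), ?_, ?_⟩
  · refine Submodule.sum_mem _ fun i hi => ?_
    apply mem_degreeLT_of_natDegree_lt
    have := Finset.mem_range.mp hi
    exact (natDegree_C_mul_X_pow_le _ _).trans_lt (by omega)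
  · ext j
    rw [coeff_derivative, finsetSum_coeff]
    simp only [coeff_C_mul_X_pow]
    by_cases hj : j < n
    · rw [Finset.sum_eq_single j]
      · rw [if_pos rfl]
        have : (j : k) + 1 ≠ 0 := by exact_mod_cast Nat.succ_ne_zero j
        field_simp
      · intro i _ hij
        rw [if_neg (by omega)]
      · intro h; exact absurd (Finset.mem_range.mpr hj) h
    · rw [Finset.sum_eq_zero, zero_mul]
      · symm
        apply coeff_eq_zero_of_degree_lt
        exact lt_of_lt_of_le (mem_degreeLT.mp hg) (by exact_mod_cast not_lt.mp hj)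
      · intro i hi
        have := Finset.mem_range.mp hi
        rw [if_neg (by omega)]

lemma Dp_mul_mem [CharZero k] (b' : ℕ) (g : k[X]) (hg : g ∈ degreeLT k b') :
    Dp r a * g ∈ (degreeLT k (Asum a + b' + 1)).map (Phi r a) := by
  obtain ⟨G, hG, rfl⟩ := exists_antiderivative g b' hg
  refine ⟨Ep r a * G, ?_, Phi_Ep_mul r a G⟩
  by_cases hG0 : G = 0
  · subst hG0; simp
  · have := natDegree_lt_of_mem_degreeLT hG0 hG
    apply mem_degreeLT_of_natDegree_lt
    rw [natDegree_mul (Ep_ne_zero r a) hG0, natDegree_Ep]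
    omega

lemma natDegree_Epi (i : Fin m) :
    (∏ l ∈ Finset.univ.erase i, (X - C (r l)) ^ (a l)).natDegree + a i = Asum a := by
  have h := natDegree_Ep r a
  rw [Ep_eq r a i, natDegree_mul (pow_ne_zero _ (X_sub_C_ne_zero _))
    (Finset.prod_ne_zero_iff.mpr fun j _ => pow_ne_zero _ (X_sub_C_ne_zero _)),
    natDegree_pow, natDegree_X_sub_C, mul_one] at h
  omega

lemma Phi_mul_Epi (i : Fin m) (h g : k[X])
    (he : (X - C (r i)) * derivative h - C (a i : k) * h = g) :
    Phi r a (h * ∏ l ∈ Finset.univ.erase i, (X - C (r l)) ^ (a l)) = Dpi r a i * g := by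
  set Ei := ∏ l ∈ Finset.univ.erase i, (X - C (r l)) ^ (a l) with hEi
  have e1 : Ep r a = (X - C (r i)) ^ (a i) * Ei := Ep_eq r a i
  have e2 := Rp_mul_derivative_Ep r a
  have e3 : Rp r * Ep r a = (X - C (r i)) ^ (a i + 1) * Dpi r a i := by
    rw [← Dp_eq, Dp_eq_mul_Dpi r a i]
  have e5 := mul_derivative_pow (X - C (r i) : k[X]) (a i)
  have d1 : derivative (X - C (r i) : k[X]) = 1 := by simp
  rw [d1, mul_one] at e5
  have e6 : derivative (Ep r a) = derivative ((X - C (r i)) ^ (a i)) * Ei +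
      (X - C (r i)) ^ (a i) * derivative Ei := by rw [e1, derivative_mul]
  apply mul_left_cancel₀ (pow_ne_zero (a i + 1) (X_sub_C_ne_zero (r i)))
  rw [Phi_apply, derivative_mul]
  linear_combination g * e3 + Rp r * Ep r a * he +
    (-(X - C (r i)) * Rp r * derivative h + Rp r * h * C (a i : k) + (X - C (r i)) * Qp r a * h) * e1 +
    (X - C (r i)) * h * e2 - Rp r * h * Ei * e5 - (X - C (r i)) * Rp r * h * e6

lemma Dpi_mul_mem [CharZero k] (b' : ℕ) (i : Fin m) (g : k[X]) (hg : g ∈ degreeLT k (a i)) :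
    Dpi r a i * g ∈ (degreeLT k (Asum a + b' + 1)).map (Phi r a) := by
  obtain ⟨h, hh, he⟩ := exists_ode_solution (r i) (a i) g (mem_degreeLT.mp hg)
  refine ⟨h * ∏ l ∈ Finset.univ.erase i, (X - C (r l)) ^ (a l), ?_, Phi_mul_Epi r a i h g he⟩
  by_cases h0 : h = 0
  · subst h0; simp
  · have h1 := natDegree_lt_of_mem_degreeLT h0 (mem_degreeLT.mpr hh)
    have h2 := natDegree_Epi r a i
    apply mem_degreeLT_of_natDegree_lt
    exact natDegree_mul_le.trans_lt (by omega)

theorem Vb_le [CharZero k] (b' : ℕ) :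
    Vb r a b' ≤ (degreeLT k (Asum a + b' + 1)).map (Phi r a) := by
  refine sup_le ?_ (iSup_le fun i => ?_)
  · rintro _ ⟨g, hg, rfl⟩
    exact Dp_mul_mem r a b' g hg
  · rintro _ ⟨g, hg, rfl⟩
    exact Dpi_mul_mem r a b' i g hg


/-- the sum map from the (external) direct sum of the polar parts -/
noncomputable def sumMap (b' : ℕ) :
    (degreeLT k b' × (∀ i, degreeLT k (a i))) →ₗ[k] k[X] where
  toFun x := Dp r a * (x.1 : k[X]) + ∑ i, Dpi r a i * (x.2 i : k[X])
  map_add' x y := by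
    simp only [Prod.fst_add, Prod.snd_add, Pi.add_apply, Submodule.coe_add, mul_add,
      Finset.sum_add_distrib]
    abel
  map_smul' c x := by
    simp only [Prod.smul_fst, Prod.smul_snd, Pi.smul_apply, Submodule.coe_smul, mul_smul_comm,
      ← Finset.smul_sum, smul_add, RingHom.id_apply]

lemma sumMap_apply (b' : ℕ) (x : degreeLT k b' × (∀ i, degreeLT k (a i))) :
    sumMap r a b' x = Dp r a * (x.1 : k[X]) + ∑ i, Dpi r a i * (x.2 i : k[X]) := rfl

lemma range_sumMap_le (b' : ℕ) : LinearMap.range (sumMap r a b') ≤ Vb r a b' := by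
  rintro _ ⟨x, rfl⟩
  rw [sumMap_apply]
  refine Submodule.add_mem _ (Submodule.mem_sup_left ⟨_, x.1.2, rfl⟩)
    (Submodule.mem_sup_right (Submodule.sum_mem _ fun i _ => ?_))
  exact Submodule.mem_iSup_of_mem i ⟨_, (x.2 i).2, rfl⟩

variable {r a}

lemma isCoprime_pow_Dpi (hr : Function.Injective r) (i : Fin m) :
    IsCoprime ((X - C (r i)) ^ (a i + 1)) (Dpi r a i) := by
  rw [Dpi]
  refine IsCoprime.prod_right fun j hj => ?_
  apply IsCoprime.pow
  apply isCoprime_X_sub_C_of_isUnit_sub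
  exact (sub_ne_zero.mpr fun h => (Finset.ne_of_mem_erase hj) (hr h).symm).isUnit

lemma pow_dvd_Dpi_of_ne (i j : Fin m) (hij : i ≠ j) :
    (X - C (r i)) ^ (a i + 1) ∣ Dpi r a j := by
  rw [Dpi]
  exact Finset.dvd_prod_of_mem (fun l => (X - C (r l)) ^ (a l + 1))
    (Finset.mem_erase.mpr ⟨hij, Finset.mem_univ i⟩)

lemma sumMap_injective (hr : Function.Injective r) (b' : ℕ) :
    Function.Injective (sumMap r a b') := by
  rw [← LinearMap.ker_eq_bot, LinearMap.ker_eq_bot']
  rintro ⟨g₀, g⟩ h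
  rw [sumMap_apply] at h
  dsimp only at h
  have hg : ∀ i, g i = 0 := by
    intro i
    have h1 : (X - C (r i)) ^ (a i + 1) ∣ Dpi r a i * (g i : k[X]) := by
      have h2 : Dpi r a i * (g i : k[X]) = -(Dp r a * (g₀ : k[X])) -
          ∑ j ∈ Finset.univ.erase i, Dpi r a j * (g j : k[X]) := by
        rw [← Finset.add_sum_erase _ _ (Finset.mem_univ i)] at h
        linear_combination h
      rw [h2]
      apply dvd_sub
      · rw [Dp_eq_mul_Dpi r a i, mul_assoc]
        exact (Dvd.intro _ rfl).neg_right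
      · refine Finset.dvd_sum fun j hj => ?_
        exact Dvd.dvd.mul_right (pow_dvd_Dpi_of_ne i j (Finset.ne_of_mem_erase hj).symm) _
    have h3 : (X - C (r i)) ^ (a i + 1) ∣ (g i : k[X]) :=
      (isCoprime_pow_Dpi hr i).dvd_of_dvd_mul_left h1
    by_contra hne
    have hne' : (g i : k[X]) ≠ 0 := fun h0 => hne (Subtype.ext h0)
    have h4 := natDegree_lt_of_mem_degreeLT hne' (g i).2
    have h5 := natDegree_le_of_dvd h3 hne'
    rw [natDegree_pow, natDegree_X_sub_C, mul_one] at h5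
    omega
  have hg' : g = 0 := funext hg
  subst hg'
  simp only [Pi.zero_apply, Submodule.coe_zero, mul_zero, Finset.sum_const_zero, add_zero] at h
  have hD : Dp r a ≠ 0 := by
    rw [Dp_eq]; exact mul_ne_zero (Rp_monic r).ne_zero (Ep_ne_zero r a)
  have : (g₀ : k[X]) = 0 := (mul_eq_zero.mp h).resolve_left hD
  ext <;> simp [this]

theorem finrank_map_Phi_degreeLT [CharZero k] (b' : ℕ) :
    Module.finrank k ((degreeLT k (Asum a + b' + 1)).map (Phi r a)) = Asum a + b' := by
  have h := finrank_map_Phi_of_mem (r := r) (a := a) (le_refl (degreeLT k (Asum a + b' + 1)))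
    (mem_degreeLT_of_natDegree_lt (by rw [natDegree_Ep]; omega))
  rw [finrank_degreeLT] at h
  omega

theorem Vb_eq [CharZero k] (hr : Function.Injective r) (b' : ℕ) :
    Vb r a b' = (degreeLT k (Asum a + b' + 1)).map (Phi r a) := by
  have : Module.Finite k (degreeLT k (Asum a + b' + 1)) := finite_degreeLT _
  have : Module.Finite k (degreeLT k b') := finite_degreeLT _
  have : ∀ i, Module.Finite k (degreeLT k (a i)) := fun i => finite_degreeLT _
  apply Submodule.eq_of_le_of_finrank_le (Vb_le r a b')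
  rw [finrank_map_Phi_degreeLT]
  have h1 := LinearMap.finrank_range_of_inj (sumMap_injective (a := a) hr b')
  rw [Module.finrank_prod, Module.finrank_pi_fintype, finrank_degreeLT] at h1
  simp only [finrank_degreeLT] at h1
  have h2 : Module.finrank k (LinearMap.range (sumMap r a b')) ≤ Module.finrank k (Vb r a b') := by
    have : Module.Finite k (Vb r a b') :=
      Submodule.finiteDimensional_of_le (Vb_le r a b')
    exact Submodule.finrank_mono (range_sumMap_le r a b')
  rw [h1] at h2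
  rw [Asum]; omega


/-! ### Membership of `E` in the various conditions -/

lemma Ep_mem_Idl_marked_iff (hr : Function.Injective r) (i : Fin m) (n : ℕ) :
    Ep r a ∈ Idl (r i) n ↔ n ≤ a i := by
  rw [mem_Idl]
  constructor
  · intro h
    by_contra hlt
    have h1 : (X - C (r i)) ^ (a i + 1) ∣ Ep r a := dvd_trans (pow_dvd_pow _ (by omega)) h
    rw [Ep_eq r a i, pow_succ, mul_dvd_mul_iff_left (pow_ne_zero _ (X_sub_C_ne_zero _)),
      dvd_iff_isRoot] at h1
    exact eval_Epi_ne_zero hr i h1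
  · intro h
    rw [Ep_eq r a i]
    exact Dvd.dvd.mul_right (pow_dvd_pow _ h) _

lemma Ep_not_mem_Idl_unmarked (q : k) (hq : ∀ j, q ≠ r j) (n : ℕ) (hn : 1 ≤ n) :
    Ep r a ∉ Idl q n := by
  rw [mem_Idl]
  intro h
  have h1 : (X - C q) ∣ Ep r a := dvd_trans (dvd_pow_self _ (by omega)) h
  rw [dvd_iff_isRoot] at h1
  exact eval_Ep_ne_zero r a q hq h1

lemma Ep_mem_degreeLT_iff (j : ℕ) : Ep r a ∈ degreeLT k j ↔ Asum a < j := by
  constructor
  · intro h
    have := natDegree_lt_of_mem_degreeLT (Ep_ne_zero r a) h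
    rwa [natDegree_Ep] at this
  · intro h
    exact mem_degreeLT_of_natDegree_lt (by rwa [natDegree_Ep])

lemma degreeLT_inf_degreeLT {M j : ℕ} (h : j ≤ M) : degreeLT k M ⊓ degreeLT k j = degreeLT k j :=
  inf_of_le_right (degreeLT_mono h)

lemma Idl_anti (x : k) {n n' : ℕ} (h : n ≤ n') : Idl x n' ≤ Idl x n := by
  intro P hP
  rw [mem_Idl] at hP ⊢
  exact dvd_trans (pow_dvd_pow _ h) hP

/-! ### The complete system `V` -/

section complete

variable [CharZero k] (hr : Function.Injective r) {b N d : ℕ} (hN : N = Asum a + b)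
  (hd : d + 1 = N + m)

omit [CharZero k] in
include hN in
lemma Ep_mem_S : Ep r a ∈ degreeLT k (N + 1) :=
  (Ep_mem_degreeLT_iff _).mpr (by omega)

include hr hN in
theorem Vb_eq_map : Vb r a b = (degreeLT k (N + 1)).map (Phi r a) := by
  rw [Vb_eq hr, hN]

include hr hN in
theorem finrank_Vb : Module.finrank k (Vb r a b) = N := by
  rw [Vb_eq hr, finrank_map_Phi_degreeLT, hN]

include hr hN in
theorem finrank_Vb_inf_Idl_marked (i : Fin m) (n : ℕ) :
    Module.finrank k ↥(Vb r a b ⊓ Idl (r i) n) = if n ≤ a i then N - n else N + 1 - n := by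
  rw [Vb_eq_map hr hN, map_Phi_inf (Ep_mem_S hN) (comap_Phi_Idl_marked hr i n)]
  have hle : degreeLT k (N + 1) ⊓ Idl (r i) n ≤ degreeLT k (N + 1) := inf_le_left
  split_ifs with h
  · have h1 := finrank_map_Phi_of_mem (r := r) (a := a) hle
      ⟨Ep_mem_S hN, (Ep_mem_Idl_marked_iff hr i n).mpr h⟩
    rw [finrank_degreeLT_inf_Idl] at h1
    omega
  · have h1 := finrank_map_Phi_of_not_mem (r := r) (a := a) hle
      (fun hE => h ((Ep_mem_Idl_marked_iff hr i n).mp hE.2))
    rw [finrank_degreeLT_inf_Idl] at h1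
    exact h1

include hr hN in
theorem finrank_Vb_inf_degreeLT (j : ℕ) (hj : j ≤ N + 1) :
    Module.finrank k ↥(Vb r a b ⊓ degreeLT k (j + m - 1)) = if Asum a < j then j - 1 else j := by
  rw [Vb_eq_map hr hN, map_Phi_inf (Ep_mem_S hN) (comap_Phi_degreeLT r a j),
    degreeLT_inf_degreeLT hj]
  split_ifs with h
  · have h1 := finrank_map_Phi_of_mem (r := r) (a := a) (le_refl (degreeLT k j))
      ((Ep_mem_degreeLT_iff j).mpr h)
    rw [finrank_degreeLT] at h1
    omega
  · have h1 := finrank_map_Phi_of_not_mem (r := r) (a := a) (le_refl (degreeLT k j))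
      (fun hE => h ((Ep_mem_degreeLT_iff j).mp hE))
    rw [finrank_degreeLT] at h1
    exact h1

include hr hN hd in
theorem finrank_Vb_inf_degreeLT' (n : ℕ) :
    Module.finrank k ↥(Vb r a b ⊓ degreeLT k (d + 1 - n)) =
      if n ≤ b then N - n else N + 1 - n := by
  rcases le_or_gt n (N + 1) with hn | hn
  · have e : d + 1 - n = (N + 1 - n) + m - 1 := by omega
    rw [e, finrank_Vb_inf_degreeLT hr hN (N + 1 - n) (by omega)]
    split_ifs <;> omega
  · have h0 := finrank_Vb_inf_degreeLT hr hN 0 (by omega)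
    rw [if_neg (by omega)] at h0
    have hle : Vb r a b ⊓ degreeLT k (d + 1 - n) ≤ Vb r a b ⊓ degreeLT k (0 + m - 1) :=
      inf_le_inf_left _ (degreeLT_mono (by omega))
    have : Module.Finite k ↥(Vb r a b ⊓ degreeLT k (0 + m - 1)) :=
      finite_of_le_degreeLT (M := 0 + m - 1) inf_le_right
    have := Submodule.finrank_mono hle
    rw [if_neg (by omega)]
    omega

include hr hN in
theorem Vb_inf_Idl_unmarked (q : k) (hq : ∀ j, q ≠ r j) : Vb r a b ⊓ Idl q N = ⊥ := by
  rw [Vb_eq_map hr hN, map_Phi_inf (Ep_mem_S hN) (comap_Phi_Idl_unmarked q hq N)]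
  have h1 := finrank_degreeLT_inf_Idl (N + 1) (N + 1) q
  rw [Nat.sub_self] at h1
  have : Module.Finite k ↥(degreeLT k (N + 1) ⊓ Idl q (N + 1)) :=
    finite_of_le_degreeLT (M := N + 1) inf_le_left
  rw [Submodule.finrank_eq_zero] at h1
  rw [h1, Submodule.map_bot]

end complete

end Groth.Agent.Lib.WronskV
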