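import Groth.Agent.Lib.WronskV

/-!
# Hyperplane subsystems of the sum of polar parts (W4c4effdivwronsk2) — helper73

`V₁ = Φ(H)` for a hyperplane `H ∋ E` of `k[X]_{≤ N}`: ramification off the marked points and weights
at the marked points.
-/

set_option autoImplicit false

namespace Groth.Agent.Lib.WronskV2

open Polynomial Groth.Agent.Lib.WronskPoly Groth.Agent.Lib.WronskPoly3 Groth.Agent.Lib.WronskV

variable {k : Type*} [Field k] {m : ℕ} {r : Fin m → k} {a : Fin m → ℕ}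

/-! ### Arithmetic of the weight sums -/

lemma sum_range_eq_of_zero (F : ℕ → ℕ) (d N : ℕ) (h : ∀ n, (N ≤ n ∨ d ≤ n) → F n = 0) :
    ∑ n ∈ Finset.range d, F n = ∑ n ∈ Finset.range N, F n := by
  rcases le_total d N with hdN | hdN
  · apply Finset.sum_subset (Finset.range_subset_range.mpr hdN)
    intro x _ hx
    exact h x (Or.inr (by simpa using hx))
  · symm
    apply Finset.sum_subset (Finset.range_subset_range.mpr hdN)
    intro x _ hx
    exact h x (Or.inl (by simpa using hx))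

lemma choose_two_succ (M : ℕ) : (M + 1).choose 2 = M.choose 2 + M := by
  have := Nat.choose_succ_succ' M 1
  simp only [Nat.choose_one_right, Nat.reduceAdd] at this
  omega

lemma sum_range_sub (M : ℕ) : ∑ n ∈ Finset.range M, (M - n) = (M + 1).choose 2 := by
  induction M with
  | zero => simp
  | succ M ih =>
    rw [Finset.sum_range_succ']
    simp only [Nat.add_sub_add_right, Nat.sub_zero]
    rw [ih, choose_two_succ (M + 1)]

lemma sum_range_ite (M c : ℕ) :
    ∑ n ∈ Finset.range M, (if n < c then 1 else 0) = min c M := by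
  induction M with
  | zero => simp
  | succ M ih => rw [Finset.sum_range_succ, ih]; split_ifs <;> omega

lemma sum_range_of_add_ite (G : ℕ → ℕ) (M c : ℕ)
    (hG : ∀ n < M, G n + (if n < c then 1 else 0) = M - n) :
    ∑ n ∈ Finset.range M, G n + min c M = (M + 1).choose 2 := by
  rw [← sum_range_ite, ← Finset.sum_add_distrib, ← sum_range_sub]
  exact Finset.sum_congr rfl fun n hn => hG n (Finset.mem_range.mp hn)

/-! ### Generalities on hyperplanes -/

theorem finrank_inf_add_one_of_not_le {H S T : Submodule k k[X]} [Module.Finite k S]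
    (hHS : H ≤ S) (hTS : T ≤ S) (hfin : Module.finrank k S ≤ Module.finrank k H + 1)
    (hT : ¬ T ≤ H) : Module.finrank k ↥(H ⊓ T) + 1 = Module.finrank k T := by
  have h1 := finrank_le_finrank_inf_add_one hHS hTS hfin
  have : Module.Finite k T := Submodule.finiteDimensional_of_le hTS
  have h2 : Module.finrank k ↥(H ⊓ T) ≤ Module.finrank k T := Submodule.finrank_mono inf_le_right
  rcases h2.eq_or_lt with h3 | h3
  · exfalso; apply hT
    have := Submodule.eq_of_le_of_finrank_eq (inf_le_right : H ⊓ T ≤ T) h3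
    rw [← this]; exact inf_le_left
  · omega

lemma degreeLT_zero : degreeLT k 0 = ⊥ := by
  rw [eq_bot_iff]
  intro P hP
  by_contra hne
  exact absurd (natDegree_lt_of_mem_degreeLT hne hP) (Nat.not_lt_zero _)

lemma degreeLT_inf_Idl_eq_bot {M n : ℕ} (h : M ≤ n) (x : k) : degreeLT k M ⊓ Idl x n = ⊥ := by
  have h1 := finrank_degreeLT_inf_Idl M n x
  rw [Nat.sub_eq_zero_of_le h] at h1
  have : Module.Finite k ↥(degreeLT k M ⊓ Idl x n) :=
    finite_of_le_degreeLT (M := M) inf_le_left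
  rwa [Submodule.finrank_eq_zero] at h1

lemma mem_degreeLT_of_coeff_eq_zero {P : k[X]} {n : ℕ} (hP : P ∈ degreeLT k (n + 1))
    (hc : P.coeff n = 0) : P ∈ degreeLT k n := by
  rw [mem_degreeLT, degree_lt_iff_coeff_zero] at hP ⊢
  intro j hj
  rcases hj.eq_or_lt with rfl | hj
  · exact hc
  · exact hP j (by omega)

lemma degreeLT_succ_le_of_mem {H : Submodule k k[X]} {n : ℕ} {F : k[X]}
    (hL : degreeLT k n ≤ H) (hF : F ∈ H) (hFd : F ∈ degreeLT k (n + 1)) (hc : F.coeff n ≠ 0) :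
    degreeLT k (n + 1) ≤ H := by
  intro P hP
  have h1 : P - (P.coeff n / F.coeff n) • F ∈ degreeLT k n := by
    apply mem_degreeLT_of_coeff_eq_zero
      (Submodule.sub_mem _ hP (Submodule.smul_mem _ _ hFd))
    rw [coeff_sub, coeff_smul, smul_eq_mul, div_mul_cancel₀ _ hc, sub_self]
  have h2 := H.add_mem (hL h1) (H.smul_mem (P.coeff n / F.coeff n) hF)
  rwa [sub_add_cancel] at h2

/-- a hyperplane of `k[X]_{≤ N}` through `E` -/
structure IsHyp (r : Fin m → k) (a : Fin m → ℕ) (H : Submodule k k[X]) (N : ℕ) : Prop where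
  le : H ≤ degreeLT k (N + 1)
  mem : Ep r a ∈ H
  finrank_eq : Module.finrank k H = N

namespace IsHyp

variable {H : Submodule k k[X]} {N : ℕ} (hH : IsHyp r a H N)

include hH

lemma finrank_map [CharZero k] : Module.finrank k (H.map (Phi r a)) + 1 = N := by
  rw [finrank_map_Phi_of_mem hH.le hH.mem, hH.finrank_eq]

lemma finite_map : Module.Finite k (H.map (Phi r a)) := by
  have := finite_of_le_degreeLT hH.le
  infer_instance

lemma finrank_inf (T : Submodule k k[X]) (hTS : T ≤ degreeLT k (N + 1)) (hT : ¬ T ≤ H) :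
    Module.finrank k ↥(H ⊓ T) + 1 = Module.finrank k T := by
  have := finite_degreeLT (k := k) (N + 1)
  exact finrank_inf_add_one_of_not_le hH.le hTS (by rw [finrank_degreeLT, hH.finrank_eq]) hT

lemma not_degreeLT_le : ¬ degreeLT k (N + 1) ≤ H := by
  intro h
  have := finite_of_le_degreeLT hH.le
  have := Submodule.finrank_mono h
  rw [finrank_degreeLT, hH.finrank_eq] at this
  omega

lemma inf_Idl (x : k) (n : ℕ) : H ⊓ Idl x n = H ⊓ (degreeLT k (N + 1) ⊓ Idl x n) := by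
  rw [← inf_assoc, inf_of_le_left hH.le]

lemma finrank_inf_Idl (x : k) (hT : ¬ (degreeLT k (N + 1) ⊓ Idl x (N - 1) ≤ H)) (n : ℕ)
    (hn : n ≤ N - 1) : Module.finrank k ↥(H ⊓ Idl x n) = N - n := by
  have h1 := hH.finrank_inf (degreeLT k (N + 1) ⊓ Idl x n) inf_le_left
    (fun h => hT (le_trans (inf_le_inf_left _ (Idl_anti x hn)) h))
  rw [← hH.inf_Idl, finrank_degreeLT_inf_Idl] at h1
  omega

theorem map_inf_Idl_eq_bot [CharZero k] (q : k) (hq : ∀ j, q ≠ r j) :
    H.map (Phi r a) ⊓ Idl q N = ⊥ := by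
  rw [map_Phi_inf hH.mem (comap_Phi_Idl_unmarked q hq N), hH.inf_Idl,
    degreeLT_inf_Idl_eq_bot le_rfl, inf_bot_eq, Submodule.map_bot]

theorem finrank_map_inf_Idl_le_one [CharZero k] (q : k) (hq : ∀ j, q ≠ r j)
    (hT : 2 ≤ N → ¬ (degreeLT k (N + 1) ⊓ Idl q (N - 1) ≤ H)) :
    Module.finrank k ↥(H.map (Phi r a) ⊓ Idl q (N - 2)) ≤ 1 := by
  rcases le_or_gt N 2 with hN2 | hN2
  · have := hH.finite_map
    have h1 := Submodule.finrank_mono
      (inf_le_left : H.map (Phi r a) ⊓ Idl q (N - 2) ≤ H.map (Phi r a))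
    have h2 := hH.finrank_map
    omega
  · rw [map_Phi_inf hH.mem (comap_Phi_Idl_unmarked q hq (N - 2))]
    have e : N - 2 + 1 = N - 1 := by omega
    rw [e]
    have hle : H ⊓ Idl q (N - 1) ≤ degreeLT k (N + 1) := inf_le_left.trans hH.le
    have h1 := finrank_map_Phi_of_not_mem (r := r) (a := a) hle
      (fun hE => Ep_not_mem_Idl_unmarked q hq (N - 1) (by omega) hE.2)
    rw [h1, hH.finrank_inf_Idl q (hT (by omega)) (N - 1) le_rfl]
    omega

theorem pow_mem_of_ne_bot [CharZero k] (q : k) (hq : ∀ j, q ≠ r j) (hN1 : 1 ≤ N)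
    (h : H.map (Phi r a) ⊓ Idl q (N - 1) ≠ ⊥) : (X - C q) ^ N ∈ H := by
  rw [map_Phi_inf hH.mem (comap_Phi_Idl_unmarked q hq (N - 1))] at h
  have e : N - 1 + 1 = N := by omega
  rw [e] at h
  have h2 : H ⊓ Idl q N ≠ ⊥ := fun h0 => h (by rw [h0, Submodule.map_bot])
  obtain ⟨P, hP, hP0⟩ := Submodule.exists_mem_ne_zero_of_ne_bot h2
  obtain ⟨hPH, hPI⟩ := hP
  have hdeg : P.natDegree ≤ ((X - C q) ^ N).natDegree := by
    rw [natDegree_pow, natDegree_X_sub_C, mul_one]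
    exact Nat.lt_succ_iff.mp (natDegree_lt_of_mem_degreeLT hP0 (hH.le hPH))
  obtain ⟨c, hc⟩ := eq_smul_of_dvd_of_natDegree_le (mem_Idl.mp hPI) hdeg
  have hc0 : c ≠ 0 := by rintro rfl; exact hP0 (by rw [hc, zero_smul])
  have := H.smul_mem c⁻¹ hPH
  rwa [hc, smul_smul, inv_mul_cancel₀ hc0, one_smul] at this


theorem marked_weight [CharZero k] (hr : Function.Injective r) (i : Fin m) (hai : a i + 1 ≤ N)
    (hT : ¬ (degreeLT k (N + 1) ⊓ Idl (r i) (N - 1) ≤ H)) (d : ℕ) (hd : N ≤ d) :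
    ∃ ε : ℕ, ε ≤ 1 ∧
      (∑ n ∈ Finset.range d, Module.finrank k ↥(H.map (Phi r a) ⊓ Idl (r i) (n + 1))) + 1 =
        (N - 1).choose 2 + (N - a i) + ε := by
  set f : ℕ → ℕ := fun n' => Module.finrank k ↥(H.map (Phi r a) ⊓ Idl (r i) n') with hf
  have hf' : ∀ n', f n' = Module.finrank k ↥((H ⊓ Idl (r i) n').map (Phi r a)) := fun n' => by
    rw [hf]; dsimp only; rw [map_Phi_inf hH.mem (comap_Phi_Idl_marked hr i n')]
  have hle : ∀ n', H ⊓ Idl (r i) n' ≤ degreeLT k (N + 1) := fun n' => inf_le_left.trans hH.le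
  have h1 : ∀ n', n' ≤ N - 1 → f n' + (if n' ≤ a i then 1 else 0) = N - n' := by
    intro n' hn'
    rw [hf', ← hH.finrank_inf_Idl (r i) hT n' hn']
    split_ifs with h
    · exact finrank_map_Phi_of_mem (hle n') ⟨hH.mem, (Ep_mem_Idl_marked_iff hr i n').mpr h⟩
    · rw [add_zero]
      exact finrank_map_Phi_of_not_mem (hle n')
        (fun hE => h ((Ep_mem_Idl_marked_iff hr i n').mp hE.2))
  have h2 : f N = Module.finrank k ↥(H ⊓ Idl (r i) N) := by
    rw [hf']
    exact finrank_map_Phi_of_not_mem (hle N) (fun hE => by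
      have := (Ep_mem_Idl_marked_iff hr i N).mp hE.2
      omega)
  have h2' : Module.finrank k ↥(H ⊓ Idl (r i) N) ≤ 1 := by
    rw [hH.inf_Idl]
    have : Module.Finite k ↥(degreeLT k (N + 1) ⊓ Idl (r i) N) :=
      finite_of_le_degreeLT (M := N + 1) inf_le_left
    have := Submodule.finrank_mono
      (inf_le_right : H ⊓ (degreeLT k (N + 1) ⊓ Idl (r i) N) ≤ degreeLT k (N + 1) ⊓ Idl (r i) N)
    rw [finrank_degreeLT_inf_Idl] at this
    omega
  have h3 : ∀ n', N < n' → f n' = 0 := by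
    intro n' hn'
    rw [hf', hH.inf_Idl, degreeLT_inf_Idl_eq_bot (by omega), inf_bot_eq, Submodule.map_bot,
      finrank_bot]
  refine ⟨Module.finrank k ↥(H ⊓ Idl (r i) N), h2', ?_⟩
  obtain ⟨M, rfl⟩ : ∃ M, N = M + 1 := ⟨N - 1, by omega⟩
  have e1 : ∑ n ∈ Finset.range d, f (n + 1) = ∑ n ∈ Finset.range (M + 1), f (n + 1) :=
    sum_range_eq_of_zero (fun n => f (n + 1)) d (M + 1) (fun n hn => h3 (n + 1) (by omega))
  have e2 := sum_range_of_add_ite (fun n => f (n + 1)) M (a i) (fun n hn => by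
    have := h1 (n + 1) (by omega)
    split_ifs at this ⊢ <;> omega)
  rw [min_eq_left (by omega)] at e2
  have e3 := choose_two_succ M
  rw [e1, Finset.sum_range_succ, h2]
  simp only [Nat.add_sub_cancel]
  omega

theorem finrank_map_inf_degreeLT [CharZero k] (j : ℕ) :
    Module.finrank k ↥(H.map (Phi r a) ⊓ degreeLT k (j + m - 1)) +
        (if Asum a < j then 1 else 0) = Module.finrank k ↥(H ⊓ degreeLT k j) := by
  rw [map_Phi_inf hH.mem (comap_Phi_degreeLT r a j)]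
  have hle : H ⊓ degreeLT k j ≤ degreeLT k (N + 1) := inf_le_left.trans hH.le
  split_ifs with h
  · exact finrank_map_Phi_of_mem hle ⟨hH.mem, (Ep_mem_degreeLT_iff j).mpr h⟩
  · rw [add_zero]
    exact finrank_map_Phi_of_not_mem hle (fun hE => h ((Ep_mem_degreeLT_iff j).mp hE.2))

theorem finrank_map_inf_degreeLT_eq_zero [CharZero k] (t : ℕ) (ht : t ≤ m - 1) :
    Module.finrank k ↥(H.map (Phi r a) ⊓ degreeLT k t) = 0 := by
  have h0 := hH.finrank_map_inf_degreeLT 0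
  rw [if_neg (Nat.not_lt_zero _), add_zero, degreeLT_zero, inf_bot_eq, finrank_bot] at h0
  have hle : H.map (Phi r a) ⊓ degreeLT k t ≤ H.map (Phi r a) ⊓ degreeLT k (0 + m - 1) :=
    inf_le_inf_left _ (degreeLT_mono (by omega))
  have : Module.Finite k ↥(H.map (Phi r a) ⊓ degreeLT k (0 + m - 1)) :=
    finite_of_le_degreeLT (M := 0 + m - 1) inf_le_right
  have := Submodule.finrank_mono hle
  omega


lemma false_of_mem (hL : degreeLT k (N - 1) ≤ H) (hN1 : 1 ≤ N) {F G : k[X]}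
    (hF : F ∈ H) (hFd : F ∈ degreeLT k N) (hFc : F.coeff (N - 1) ≠ 0)
    (hG : G ∈ H) (hGd : G ∈ degreeLT k (N + 1)) (hGc : G.coeff N ≠ 0) : False := by
  obtain ⟨M, rfl⟩ : ∃ M, N = M + 1 := ⟨N - 1, by omega⟩
  simp only [Nat.add_sub_cancel] at hL hFc
  have h1 := degreeLT_succ_le_of_mem hL hF hFd hFc
  have h2 := degreeLT_succ_le_of_mem h1 hG hGd hGc
  exact hH.not_degreeLT_le h2

end IsHyp

lemma X_sub_C_pow_mem_degreeLT (x : k) (n : ℕ) : (X - C x) ^ n ∈ degreeLT k (n + 1) :=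
  mem_degreeLT_of_natDegree_lt (by rw [natDegree_pow, natDegree_X_sub_C, mul_one]; omega)

lemma coeff_X_sub_C_pow_self (x : k) (n : ℕ) : ((X - C x) ^ n).coeff n = 1 := by
  have := ((monic_X_sub_C x).pow n).coeff_natDegree
  rwa [natDegree_pow, natDegree_X_sub_C, mul_one] at this

lemma coeff_X_sub_C_pow_pred (x : k) (n : ℕ) :
    ((X - C x) ^ (n + 1)).coeff n = -((n : k) + 1) * x := by
  rw [sub_eq_add_neg, ← C_neg, coeff_X_add_C_pow, Nat.add_sub_cancel_left,
    Nat.choose_succ_self_right]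
  push_cast
  ring

/-! ### Hyperplanes containing the polar parts with the order at `∞` dropped by two -/

section type1

variable [CharZero k] (hr : Function.Injective r) {b N d : ℕ} (hN : N = Asum a + b) (hb : 1 ≤ b)
  (hd : d + 1 = N + m)
  {V₁ : Submodule k k[X]} (hV₁ : V₁ ≤ Vb r a b) (hfin : Module.finrank k V₁ + 1 = N)
  (hU : Vb r a (b - 2) ≤ V₁)

/-- the hyperplane of `k[X]_{≤ N}` mapping onto `V₁` -/
noncomputable def H1 (r : Fin m → k) (a : Fin m → ℕ) (V₁ : Submodule k k[X]) (N : ℕ) :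
    Submodule k k[X] :=
  degreeLT k (N + 1) ⊓ V₁.comap (Phi r a)

include hr hN hV₁ in
lemma map_H1 : (H1 r a V₁ N).map (Phi r a) = V₁ := by
  apply le_antisymm
  · rintro _ ⟨P, ⟨_, hP⟩, rfl⟩; exact hP
  · intro v hv
    have h1 := hV₁ hv
    rw [Vb_eq_map hr hN] at h1
    obtain ⟨P, hPS, rfl⟩ := h1
    exact ⟨P, ⟨hPS, hv⟩, rfl⟩

omit [CharZero k] in
include hN in
lemma Ep_mem_H1 : Ep r a ∈ H1 r a V₁ N := by
  refine ⟨Ep_mem_S hN, ?_⟩
  show Phi r a (Ep r a) ∈ V₁
  rw [Phi_Ep]; exact Submodule.zero_mem _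

include hr hN hV₁ hfin in
lemma H1_isHyp : IsHyp r a (H1 r a V₁ N) N where
  le := inf_le_left
  mem := Ep_mem_H1 hN
  finrank_eq := by
    have h1 := finrank_map_Phi_of_mem (r := r) (a := a) (Z := H1 r a V₁ N) (M := N + 1)
      inf_le_left (Ep_mem_H1 hN)
    rw [map_H1 hr hN hV₁] at h1
    omega

include hr hN hU in
lemma degreeLT_le_H1 : degreeLT k (N - 1) ≤ H1 r a V₁ N := by
  intro P hP
  refine ⟨degreeLT_mono (by omega) hP, ?_⟩
  apply hU
  rw [Vb_eq hr]
  exact ⟨P, degreeLT_mono (by omega) hP, rfl⟩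

include hr hN hV₁ hfin hU in
lemma H1_not_le (hN2 : 2 ≤ N) (x : k) :
    ¬ (degreeLT k (N + 1) ⊓ Idl x (N - 1) ≤ H1 r a V₁ N) := by
  intro hT
  have hH := H1_isHyp hr hN hV₁ hfin
  have hL := degreeLT_le_H1 (V₁ := V₁) hr hN hU
  obtain ⟨M, rfl⟩ : ∃ M, N = M + 1 + 1 := ⟨N - 2, by omega⟩
  have e : M + 1 + 1 - 1 = M + 1 := by omega
  rw [e] at hT
  have hF : (X - C x) ^ (M + 1) ∈ H1 r a V₁ (M + 1 + 1) :=
    hT ⟨degreeLT_mono (by omega) (X_sub_C_pow_mem_degreeLT x (M + 1)), mem_Idl.mpr dvd_rfl⟩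
  have hG : (X - C x) ^ (M + 1 + 1) ∈ H1 r a V₁ (M + 1 + 1) :=
    hT ⟨X_sub_C_pow_mem_degreeLT x (M + 1 + 1), mem_Idl.mpr (pow_dvd_pow _ (by omega))⟩
  refine hH.false_of_mem hL (by omega) hF ?_ ?_ hG (X_sub_C_pow_mem_degreeLT x (M + 1 + 1)) ?_
  · exact X_sub_C_pow_mem_degreeLT x (M + 1)
  · rw [e, coeff_X_sub_C_pow_self]; exact one_ne_zero
  · rw [coeff_X_sub_C_pow_self]; exact one_ne_zero

include hr hN hV₁ hfin hU in
lemma H1_unique (hN1 : 1 ≤ N) (q q' : k) (hq : (X - C q) ^ N ∈ H1 r a V₁ N)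
    (hq' : (X - C q') ^ N ∈ H1 r a V₁ N) : q = q' := by
  by_contra hne
  have hH := H1_isHyp hr hN hV₁ hfin
  have hL := degreeLT_le_H1 (V₁ := V₁) hr hN hU
  obtain ⟨M, rfl⟩ : ∃ M, N = M + 1 := ⟨N - 1, by omega⟩
  refine hH.false_of_mem hL (by omega) (F := (X - C q) ^ (M + 1) - (X - C q') ^ (M + 1))
    (G := (X - C q) ^ (M + 1)) (Submodule.sub_mem _ hq hq') ?_ ?_ hq
    (X_sub_C_pow_mem_degreeLT q (M + 1)) (by rw [coeff_X_sub_C_pow_self]; exact one_ne_zero)
  · apply mem_degreeLT_of_coeff_eq_zero (Submodule.sub_mem _ (X_sub_C_pow_mem_degreeLT q (M + 1))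
      (X_sub_C_pow_mem_degreeLT q' (M + 1)))
    rw [coeff_sub, coeff_X_sub_C_pow_self, coeff_X_sub_C_pow_self, sub_self]
  · simp only [Nat.add_sub_cancel]
    rw [coeff_sub, coeff_X_sub_C_pow_pred, coeff_X_sub_C_pow_pred]
    intro h
    have : ((M : k) + 1) * (q' - q) = 0 := by linear_combination h
    rcases mul_eq_zero.mp this with h1 | h1
    · exact absurd h1 (by exact_mod_cast Nat.succ_ne_zero M)
    · exact hne (sub_eq_zero.mp h1).symm

include hr hN hV₁ hfin hU in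
/-- S17243 -/
theorem type1_ramification :
    (∀ q : k, (∀ j, q ≠ r j) →
      (V₁ ⊓ Idl q N) = ⊥ ∧ Module.finrank k ↥(V₁ ⊓ Idl q (N - 2)) ≤ 1) ∧
    (∀ q q' : k, (∀ j, q ≠ r j) → (∀ j, q' ≠ r j) →
      (V₁ ⊓ Idl q (N - 1)) ≠ ⊥ → (V₁ ⊓ Idl q' (N - 1)) ≠ ⊥ → q = q') := by
  have hH := H1_isHyp hr hN hV₁ hfin
  have hmap := map_H1 hr hN hV₁
  have hN1 : 1 ≤ N := by omega
  refine ⟨fun q hq => ⟨?_, ?_⟩, fun q q' hq hq' h h' => ?_⟩
  · rw [← hmap]; exact hH.map_inf_Idl_eq_bot q hq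
  · rw [← hmap]
    exact hH.finrank_map_inf_Idl_le_one q hq (fun hN2 => H1_not_le hr hN hV₁ hfin hU hN2 q)
  · rw [← hmap] at h h'
    exact H1_unique hr hN hV₁ hfin hU hN1 q q' (hH.pow_mem_of_ne_bot q hq hN1 h)
      (hH.pow_mem_of_ne_bot q' hq' hN1 h')


include hr hN hb hd hV₁ hfin hU in
/-- S17244, marked points -/
theorem type1_marked_weight (i : Fin m) (hai : 1 ≤ a i) :
    ∃ ε : ℕ, ε ≤ 1 ∧
      (∑ n ∈ Finset.range d, Module.finrank k ↥(V₁ ⊓ Idl (r i) (n + 1))) + 1 =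
        (N - 1).choose 2 + (N - a i) + ε := by
  have hH := H1_isHyp hr hN hV₁ hfin
  have hmap := map_H1 hr hN hV₁
  have hle : a i ≤ Asum a := Finset.single_le_sum (f := a) (fun _ _ => Nat.zero_le _)
    (Finset.mem_univ i)
  have hm : 1 ≤ m := i.pos
  have := hH.marked_weight hr i (by omega)
    (H1_not_le hr hN hV₁ hfin hU (by omega) (r i)) d (by omega)
  rwa [hmap] at this

include hr hN hb hd hV₁ hfin hU in
/-- S17244, the point at infinity -/
theorem type1_infinity_weight (hmA : m ≤ Asum a) :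
    ∃ ε : ℕ, ε ≤ 1 ∧
      (∑ n ∈ Finset.range d, Module.finrank k ↥(V₁ ⊓ degreeLT k (d - n))) =
        (N - 1).choose 2 + (N - b) + (N - 2) + ε := by
  obtain ⟨H, hH, hmap, hL⟩ : ∃ H, IsHyp r a H N ∧ H.map (Phi r a) = V₁ ∧ degreeLT k (N - 1) ≤ H :=
    ⟨_, H1_isHyp hr hN hV₁ hfin, map_H1 hr hN hV₁, degreeLT_le_H1 (V₁ := V₁) hr hN hU⟩
  rcases Nat.lt_or_ge N 2 with hN2 | hN2
  · have hd0 : d = 0 := by omega
    subst hd0
    refine ⟨0, by omega, ?_⟩
    have hN1 : N = 1 := by omega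
    subst hN1
    simp
    omega
  set F : ℕ → ℕ := fun n => Module.finrank k ↥(V₁ ⊓ degreeLT k (d - n)) with hF
  have h0 : ∀ n, (N ≤ n ∨ d ≤ n) → F n = 0 := by
    intro n hn
    rw [hF]; dsimp only; rw [← hmap]
    exact hH.finrank_map_inf_degreeLT_eq_zero (d - n) (by omega)
  have h1 : ∀ n, n < N → F n + (if n < b then 1 else 0) =
      Module.finrank k ↥(H ⊓ degreeLT k (N - n)) := by
    intro n hn
    have e : d - n = (N - n) + m - 1 := by omega
    rw [hF]; dsimp only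
    rw [e, ← hmap, ← hH.finrank_map_inf_degreeLT (N - n)]
    congr 1
    split_ifs <;> omega
  have h2 : ∀ n, 1 ≤ n → n < N → F n + (if n < b then 1 else 0) = N - n := by
    intro n hn1 hn
    rw [h1 n hn, inf_of_le_right ((degreeLT_mono (by omega)).trans hL), finrank_degreeLT]
  have h3 : N - 1 ≤ Module.finrank k ↥(H ⊓ degreeLT k N) ∧
      Module.finrank k ↥(H ⊓ degreeLT k N) ≤ N := by
    have : Module.Finite k ↥(H ⊓ degreeLT k N) :=
      finite_of_le_degreeLT (M := N) inf_le_right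
    have := finite_degreeLT (k := k) N
    constructor
    · have := Submodule.finrank_mono (le_inf hL (degreeLT_mono (by omega)) :
        degreeLT k (N - 1) ≤ H ⊓ degreeLT k N)
      rwa [finrank_degreeLT] at this
    · have := Submodule.finrank_mono (inf_le_right : H ⊓ degreeLT k N ≤ degreeLT k N)
      rwa [finrank_degreeLT] at this
  have h4 := h1 0 (by omega)
  rw [if_pos (by omega), Nat.sub_zero] at h4
  refine ⟨Module.finrank k ↥(H ⊓ degreeLT k N) - (N - 1), by omega, ?_⟩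
  obtain ⟨M, rfl⟩ : ∃ M, N = M + 1 := ⟨N - 1, by omega⟩
  have e1 : ∑ n ∈ Finset.range d, F n = ∑ n ∈ Finset.range (M + 1), F n :=
    sum_range_eq_of_zero F d (M + 1) h0
  have e2 := sum_range_of_add_ite (fun n => F (n + 1)) M (b - 1) (fun n hn => by
    have := h2 (n + 1) (by omega) (by omega)
    split_ifs at this ⊢ <;> omega)
  rw [min_eq_left (by omega)] at e2
  have e3 := choose_two_succ M
  rw [e1, Finset.sum_range_succ']
  simp only [Nat.add_sub_cancel] at h3 ⊢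
  omega

end type1

end Groth.Agent.Lib.WronskV2
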