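import Groth.Agent.Lib.WronskV2

/-!
# The subsystem of members vanishing at an unmarked point (W4c4effdivwronsk2) — helper73

`V₁ = V ⊓ (X - p) = Φ(H)` with `H = {P : deg P ≤ N, W(P)(p) = 0}`, `W(P) = P' E - P E'`.
-/

set_option autoImplicit false

namespace Groth.Agent.Lib.WronskV3

open Polynomial Groth.Agent.Lib.WronskPoly Groth.Agent.Lib.WronskPoly3 Groth.Agent.Lib.WronskV
  Groth.Agent.Lib.WronskV2

variable {k : Type*} [Field k] {m : ℕ} {r : Fin m → k} {a : Fin m → ℕ}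

/-- the hyperplane of `k[X]_{≤ N}` mapping onto `V ⊓ (X - p)` -/
noncomputable def H2 (r : Fin m → k) (a : Fin m → ℕ) (p : k) (N : ℕ) : Submodule k k[X] :=
  (degreeLT k (N + 1) ⊓ Idl p 2) ⊔ Submodule.span k {Ep r a}

lemma map_H2 (p : k) (N : ℕ) :
    (H2 r a p N).map (Phi r a) = (degreeLT k (N + 1) ⊓ Idl p 2).map (Phi r a) := by
  rw [H2, Submodule.map_sup, Submodule.map_span, Set.image_singleton, Phi_Ep,
    Submodule.span_zero_singleton, sup_bot_eq]

lemma ell_eq_zero {p : k} {N : ℕ} {P : k[X]} (hP : P ∈ H2 r a p N) :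
    (derivative P).eval p * (Ep r a).eval p - P.eval p * (derivative (Ep r a)).eval p = 0 := by
  rw [H2, Submodule.mem_sup] at hP
  obtain ⟨y, ⟨_, hy⟩, z, hz, rfl⟩ := hP
  obtain ⟨c, rfl⟩ := Submodule.mem_span_singleton.mp hz
  obtain ⟨u, rfl⟩ := mem_Idl.mp hy
  have h1 : ((X - C p) ^ 2 * u).eval p = 0 := by simp
  have h2 : (derivative ((X - C p) ^ 2 * u)).eval p = 0 := by
    rw [derivative_mul, derivative_X_sub_C_pow]; simp
  rw [derivative_add, derivative_smul, eval_add, eval_add, eval_smul, eval_smul, h1, h2]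
  simp only [smul_eq_mul]; ring

lemma rel_of_pow_mem {p : k} {N : ℕ} (x : k) (n : ℕ) (h : (X - C x) ^ n ∈ H2 r a p N) :
    (n : k) * (p - x) ^ n * (Ep r a).eval p =
      (p - x) ^ (n + 1) * (derivative (Ep r a)).eval p := by
  have h1 := ell_eq_zero h
  have h2 := congrArg (eval p) (mul_derivative_pow (X - C x : k[X]) n)
  have d1 : derivative (X - C x : k[X]) = 1 := by simp
  rw [d1, mul_one, eval_mul, eval_mul, eval_sub, eval_X, eval_C, eval_C, eval_pow, eval_sub, eval_X,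
    eval_C] at h2
  rw [eval_pow, eval_sub, eval_X, eval_C] at h1
  linear_combination (-(Ep r a).eval p) * h2 + (p - x) * h1

section type2

variable [CharZero k] (hr : Function.Injective r) {b N d : ℕ} (hN : N = Asum a + b) (hb : 1 ≤ b)
  (hd : d + 1 = N + m) (p : k) (hp : ∀ j, p ≠ r j)

include hr hN hp in
lemma map_H2_eq : (H2 r a p N).map (Phi r a) = Vb r a b ⊓ Idl p 1 := by
  rw [map_H2, Vb_eq_map hr hN, map_Phi_inf (Ep_mem_S hN) (comap_Phi_Idl_unmarked p hp 1)]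

include hN hb hp in
lemma H2_isHyp : IsHyp r a (H2 r a p N) N := by
  have hle : H2 r a p N ≤ degreeLT k (N + 1) :=
    sup_le inf_le_left ((Submodule.span_singleton_le_iff_mem _ _).mpr (Ep_mem_S hN))
  have hmem : Ep r a ∈ H2 r a p N :=
    Submodule.mem_sup_right (Submodule.mem_span_singleton_self _)
  refine ⟨hle, hmem, ?_⟩
  have h1 := finrank_map_Phi_of_mem (r := r) (a := a) (Z := H2 r a p N) hle hmem
  rw [map_H2] at h1
  have h2 := finrank_map_Phi_of_not_mem (r := r) (a := a) (Z := degreeLT k (N + 1) ⊓ Idl p 2)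
    (M := N + 1) inf_le_left (fun hE => Ep_not_mem_Idl_unmarked p hp 2 (by omega) hE.2)
  rw [finrank_degreeLT_inf_Idl] at h2
  omega

omit [CharZero k] in
include hp in
lemma H2_not_le (hN2 : 2 ≤ N) (x : k) (hx : x ≠ p) :
    ¬ (degreeLT k (N + 1) ⊓ Idl x (N - 1) ≤ H2 r a p N) := by
  intro hT
  obtain ⟨M, rfl⟩ : ∃ M, N = M + 1 + 1 := ⟨N - 2, by omega⟩
  have e : M + 1 + 1 - 1 = M + 1 := by omega
  rw [e] at hT
  have hF : (X - C x) ^ (M + 1) ∈ H2 r a p (M + 1 + 1) :=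
    hT ⟨degreeLT_mono (by omega) (X_sub_C_pow_mem_degreeLT x (M + 1)), mem_Idl.mpr dvd_rfl⟩
  have hG : (X - C x) ^ (M + 1 + 1) ∈ H2 r a p (M + 1 + 1) :=
    hT ⟨X_sub_C_pow_mem_degreeLT x (M + 1 + 1), mem_Idl.mpr (pow_dvd_pow _ (by omega))⟩
  have h1 := rel_of_pow_mem x (M + 1) hF
  have h2 := rel_of_pow_mem x (M + 1 + 1) hG
  push_cast at h1 h2
  have hu : p - x ≠ 0 := sub_ne_zero.mpr hx.symm
  have : (p - x) ^ (M + 1 + 1) * (Ep r a).eval p = 0 := by
    linear_combination h2 - (p - x) * h1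
  exact (mul_ne_zero (pow_ne_zero _ hu) (eval_Ep_ne_zero r a p hp)) this

include hp in
lemma H2_unique (hN1 : 1 ≤ N) (q q' : k) (hqp : q ≠ p) (hq'p : q' ≠ p)
    (hq : (X - C q) ^ N ∈ H2 r a p N) (hq' : (X - C q') ^ N ∈ H2 r a p N) : q = q' := by
  have h1 := rel_of_pow_mem q N hq
  have h2 := rel_of_pow_mem q' N hq'
  have hu : p - q ≠ 0 := sub_ne_zero.mpr hqp.symm
  have hu' : p - q' ≠ 0 := sub_ne_zero.mpr hq'p.symm
  have e1 : (N : k) * (Ep r a).eval p = (p - q) * (derivative (Ep r a)).eval p := by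
    apply mul_left_cancel₀ (pow_ne_zero N hu); linear_combination h1
  have e2 : (N : k) * (Ep r a).eval p = (p - q') * (derivative (Ep r a)).eval p := by
    apply mul_left_cancel₀ (pow_ne_zero N hu'); linear_combination h2
  by_contra hne
  have hE' : (derivative (Ep r a)).eval p = 0 := by
    have : (q' - q) * (derivative (Ep r a)).eval p = 0 := by linear_combination e2 - e1
    exact (mul_eq_zero.mp this).resolve_left (sub_ne_zero.mpr (Ne.symm hne))
  rw [hE', mul_zero] at e1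
  rcases mul_eq_zero.mp e1 with h | h
  · exact absurd h (by exact_mod_cast (by omega : N ≠ 0))
  · exact eval_Ep_ne_zero r a p hp h

omit [CharZero k] in
include hp in
lemma H2_not_degreeLT_le (j : ℕ) (hj : 2 ≤ j) : ¬ (degreeLT k j ≤ H2 r a p N) := by
  intro h
  have h1 : (1 : k[X]) ∈ H2 r a p N := h (mem_degreeLT_of_natDegree_lt (by simp; omega))
  have hX : (X : k[X]) ∈ H2 r a p N := h (mem_degreeLT_of_natDegree_lt (by simp; omega))
  have e1 := ell_eq_zero h1
  have e2 := ell_eq_zero hX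
  simp only [derivative_one, eval_zero, zero_mul, eval_one, one_mul, zero_sub, neg_eq_zero,
    derivative_X, eval_X] at e1 e2
  rw [e1, mul_zero, sub_zero] at e2
  exact eval_Ep_ne_zero r a p hp e2

include hr hN hb hp in
/-- S17245 -/
theorem type2_ramification :
    Module.finrank k ↥(Vb r a b ⊓ Idl p 1) + 1 = N ∧
    ((Vb r a b ⊓ Idl p 1) ⊓ Idl p N) = ⊥ ∧
    (∀ q : k, (∀ j, q ≠ r j) → q ≠ p →
      ((Vb r a b ⊓ Idl p 1) ⊓ Idl q N) = ⊥ ∧
      Module.finrank k ↥((Vb r a b ⊓ Idl p 1) ⊓ Idl q (N - 2)) ≤ 1) ∧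
    (∀ q q' : k, (∀ j, q ≠ r j) → q ≠ p → (∀ j, q' ≠ r j) → q' ≠ p →
      ((Vb r a b ⊓ Idl p 1) ⊓ Idl q (N - 1)) ≠ ⊥ →
      ((Vb r a b ⊓ Idl p 1) ⊓ Idl q' (N - 1)) ≠ ⊥ → q = q') := by
  have hH := H2_isHyp (r := r) (a := a) hN hb p hp
  have hmap := map_H2_eq hr hN p hp
  have hN1 : 1 ≤ N := by omega
  rw [← hmap]
  refine ⟨hH.finrank_map, hH.map_inf_Idl_eq_bot p hp, fun q hq hqp => ⟨?_, ?_⟩,
    fun q q' hq hqp hq' hq'p h h' => ?_⟩
  · exact hH.map_inf_Idl_eq_bot q hq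
  · exact hH.finrank_map_inf_Idl_le_one q hq (fun hN2 => H2_not_le p hp hN2 q hqp)
  · exact H2_unique p hp hN1 q q' hqp hq'p (hH.pow_mem_of_ne_bot q hq hN1 h)
      (hH.pow_mem_of_ne_bot q' hq' hN1 h')

include hr hN hb hd hp in
/-- S17246, marked points -/
theorem type2_marked_weight (i : Fin m) (hai : 1 ≤ a i) :
    ∃ ε : ℕ, ε ≤ 1 ∧
      (∑ n ∈ Finset.range d, Module.finrank k ↥((Vb r a b ⊓ Idl p 1) ⊓ Idl (r i) (n + 1))) + 1 =
        (N - 1).choose 2 + (N - a i) + ε := by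
  have hH := H2_isHyp (r := r) (a := a) hN hb p hp
  have hmap := map_H2_eq hr hN p hp
  have hle : a i ≤ Asum a := Finset.single_le_sum (f := a) (fun _ _ => Nat.zero_le _)
    (Finset.mem_univ i)
  have hm : 1 ≤ m := i.pos
  have := hH.marked_weight hr i (by omega)
    (H2_not_le p hp (by omega) (r i) (hp i).symm) d (by omega)
  rwa [hmap] at this

include hr hN hb hd hp in
/-- S17246, the point at infinity -/
theorem type2_infinity_weight :
    ∃ ε : ℕ, ε ≤ 1 ∧
      (∑ n ∈ Finset.range d, Module.finrank k ↥((Vb r a b ⊓ Idl p 1) ⊓ degreeLT k (d - n))) + 1 =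
        (N - 1).choose 2 + (N - b) + ε := by
  have hnot := H2_not_degreeLT_le (r := r) (a := a) (N := N) p hp
  obtain ⟨H, hH, hmap, hnot⟩ : ∃ H, IsHyp r a H N ∧ H.map (Phi r a) = Vb r a b ⊓ Idl p 1 ∧
      ∀ j, 2 ≤ j → ¬ (degreeLT k j ≤ H) :=
    ⟨_, H2_isHyp (r := r) (a := a) hN hb p hp, map_H2_eq hr hN p hp, hnot⟩
  rw [← hmap]
  set F : ℕ → ℕ := fun n => Module.finrank k ↥(H.map (Phi r a) ⊓ degreeLT k (d - n)) with hF
  have h0 : ∀ n, (N ≤ n ∨ d ≤ n) → F n = 0 := by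
    intro n hn
    exact hH.finrank_map_inf_degreeLT_eq_zero (d - n) (by omega)
  have h1 : ∀ n, n < N → F n + (if n < b then 1 else 0) =
      Module.finrank k ↥(H ⊓ degreeLT k (N - n)) := by
    intro n hn
    have e : d - n = (N - n) + m - 1 := by omega
    rw [hF]; dsimp only
    rw [e, ← hH.finrank_map_inf_degreeLT (N - n)]
    congr 1
    split_ifs <;> omega
  have h2 : ∀ n, n + 2 ≤ N → F n + (if n < b then 1 else 0) + 1 = N - n := by
    intro n hn
    rw [h1 n (by omega), hH.finrank_inf (degreeLT k (N - n)) (degreeLT_mono (by omega))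
      (hnot (N - n) (by omega)), finrank_degreeLT]
  have h3 : Module.finrank k ↥(H ⊓ degreeLT k 1) ≤ 1 := by
    have := finite_degreeLT (k := k) 1
    have := Submodule.finrank_mono (inf_le_right : H ⊓ degreeLT k 1 ≤ degreeLT k 1)
    rwa [finrank_degreeLT] at this
  obtain ⟨M, rfl⟩ : ∃ M, N = M + 1 := ⟨N - 1, by omega⟩
  have h4 := h1 M (by omega)
  rw [Nat.add_sub_cancel_left] at h4
  have e1 : ∑ n ∈ Finset.range d, F n = ∑ n ∈ Finset.range (M + 1), F n :=
    sum_range_eq_of_zero F d (M + 1) h0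
  have e2 := sum_range_of_add_ite F M b (fun n hn => by
    have := h2 n (by omega)
    split_ifs at this ⊢ <;> omega)
  have e3 := choose_two_succ M
  refine ⟨if b ≤ M then Module.finrank k ↥(H ⊓ degreeLT k 1) else 1, by split_ifs <;> omega, ?_⟩
  rw [e1, Finset.sum_range_succ]
  simp only [Nat.add_sub_cancel]
  split_ifs at h4 ⊢ <;> omega

end type2

end Groth.Agent.Lib.WronskV3
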