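import Mathlib

/-!
# Left Kan extension along `u.op` and the Yoneda embedding (small categories, `Type u`)
-/

set_option autoImplicit false

open CategoryTheory CategoryTheory.Limits Opposite

universe u

namespace Groth.Agent.Lib.YonedaLan

/-- `u_! (y X) ≅ y (u X)`, naturally in `X`, for plain `yoneda` on small categories. -/
noncomputable def yonedaLanIso {C : Type u} [SmallCategory C] {C' : Type u} [SmallCategory C']
    (u : C ⥤ C') :
    u ⋙ yoneda ≅ yoneda ⋙ (u.op.lan : (Cᵒᵖ ⥤ Type u) ⥤ (C'ᵒᵖ ⥤ Type u)) :=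
  (Functor.isoWhiskerLeft u uliftYonedaIsoYoneda.{u}.symm) ≪≫
    Presheaf.compULiftYonedaIsoULiftYonedaCompLan.{u} u ≪≫
    Functor.isoWhiskerRight uliftYonedaIsoYoneda.{u} _

/-- If `u_!` is surjective on morphisms between representables, `u` is full. -/
theorem full_of_lan_surjective {C : Type u} [SmallCategory C] {C' : Type u} [SmallCategory C']
    (u : C ⥤ C')
    (h : ∀ X Y : C, Function.Surjective (fun φ : yoneda.obj X ⟶ yoneda.obj Y =>
      (u.op.lan : (Cᵒᵖ ⥤ Type u) ⥤ (C'ᵒᵖ ⥤ Type u)).map φ)) : u.Full := by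
  have hF : (yoneda ⋙ (u.op.lan : (Cᵒᵖ ⥤ Type u) ⥤ (C'ᵒᵖ ⥤ Type u))).Full := by
    constructor
    intro X Y f
    obtain ⟨φ, hφ⟩ := h X Y f
    obtain ⟨g, rfl⟩ := yoneda.map_surjective φ
    exact ⟨g, hφ⟩
  have hF' : (u ⋙ yoneda).Full := Functor.Full.of_iso (yonedaLanIso u).symm
  exact Functor.Full.of_comp_faithful u yoneda

/-- If `u_!` is injective on morphisms between representables, `u` is faithful. -/
theorem faithful_of_lan_injective {C : Type u} [SmallCategory C] {C' : Type u} [SmallCategory C']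
    (u : C ⥤ C')
    (h : ∀ X Y : C, Function.Injective (fun φ : yoneda.obj X ⟶ yoneda.obj Y =>
      (u.op.lan : (Cᵒᵖ ⥤ Type u) ⥤ (C'ᵒᵖ ⥤ Type u)).map φ)) : u.Faithful := by
  have hG : (yoneda ⋙ (u.op.lan : (Cᵒᵖ ⥤ Type u) ⥤ (C'ᵒᵖ ⥤ Type u))).Faithful := by
    constructor
    intro X Y f g hfg
    exact yoneda.map_injective (h X Y hfg)
  have hG' : (u ⋙ yoneda).Faithful := Functor.Faithful.of_iso (yonedaLanIso u).symm
  exact Functor.Faithful.of_comp u yoneda

/-- A filtered colimit of injective maps of types is injective. -/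
lemma injective_of_filtered {I : Type u} [SmallCategory I] [IsFiltered I] {A B : I ⥤ Type u} (α : A ⟶ B)
    {cA : Cocone A} (hA : IsColimit cA) {cB : Cocone B} (hB : IsColimit cB)
    (m : cA.pt ⟶ cB.pt) (hm : ∀ i, cA.ι.app i ≫ m = α.app i ≫ cB.ι.app i)
    (hα : ∀ i, Function.Injective (α.app i)) : Function.Injective m := by
  intro a b hab
  obtain ⟨j, a', b', rfl, rfl⟩ := Types.FilteredColimit.jointly_surjective_of_isColimit₂ hA a b
  have h1 : cB.ι.app j (α.app j a') = cB.ι.app j (α.app j b') := by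
    have ha := ConcreteCategory.congr_hom (hm j) a'
    have hb := ConcreteCategory.congr_hom (hm j) b'
    simp only [ConcreteCategory.comp_apply] at ha hb
    rw [← ha, ← hb, hab]
  obtain ⟨k, t, ht⟩ := (Types.FilteredColimit.isColimit_eq_iff' hB _ _).1 h1
  have h2 : α.app k (A.map t a') = α.app k (A.map t b') := by
    have ha := ConcreteCategory.congr_hom (α.naturality t) a'
    have hb := ConcreteCategory.congr_hom (α.naturality t) b'
    simp only [ConcreteCategory.comp_apply] at ha hb
    rw [ha, hb, ht]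
  have h3 := hα k h2
  rw [Types.FilteredColimit.isColimit_eq_iff' hA]
  exact ⟨k, t, h3⟩

section
variable {C : Type u} [SmallCategory C] {C' : Type u} [SmallCategory C'] (u : C ⥤ C')

/-- `u_!` on presheaves of sets. -/
noncomputable abbrev L : (Cᵒᵖ ⥤ Type u) ⥤ (C'ᵒᵖ ⥤ Type u) := u.op.lan
/-- unit of `u_! ⊣ u^*`. -/
noncomputable abbrev η := (u.op.lanAdjunction (Type u)).unit

lemma unit_yoneda_injective [u.Faithful] (X Y : C) :
    Function.Injective (fun f : X ⟶ Y => ((η u).app (yoneda.obj Y)).app (op X) f) := by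
  have key : ∀ f : X ⟶ Y, ((η u).app (yoneda.obj Y)).app (op X) f =
      yonedaEquiv ((u.op.lanAdjunction (Type u)).homEquiv _ _ ((L u).map (yoneda.map f))) := by
    intro f
    rw [Adjunction.homEquiv_unit]
    have := (η u).naturality (yoneda.map f)
    dsimp only [Functor.id_obj, Functor.id_map, Functor.comp_obj, Functor.comp_map] at this
    erw [← this]
    rw [yonedaEquiv_comp, yonedaEquiv_yoneda_map]
  intro f g hfg
  simp only [key] at hfg
  have h1 := ((u.op.lanAdjunction (Type u)).homEquiv _ _).injective (yonedaEquiv.injective hfg)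
  have hG' : (yoneda ⋙ L u).Faithful :=
    Functor.Faithful.of_iso (yonedaLanIso u)
  exact (yoneda ⋙ L u).map_injective h1

lemma unit_injective_of_isIndObject [u.Faithful] (G : Cᵒᵖ ⥤ Type u) (hG : IsIndObject G) (X : C) :
    Function.Injective (((η u).app G).app (op X)) := by
  let P := hG.presentation
  let D : P.I ⥤ (Cᵒᵖ ⥤ Type u) := P.F ⋙ yoneda
  let evX : (Cᵒᵖ ⥤ Type u) ⥤ Type u := (evaluation Cᵒᵖ (Type u)).obj (op X)
  let evUX : (C'ᵒᵖ ⥤ Type u) ⥤ Type u := (evaluation C'ᵒᵖ (Type u)).obj (op (u.obj X))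
  have : PreservesColimitsOfSize.{u, u} (L u) := (u.op.lanAdjunction (Type u)).leftAdjoint_preservesColimits
  have hA : IsColimit (evX.mapCocone P.cocone) := isColimitOfPreserves evX P.coconeIsColimit
  have hB : IsColimit ((L u ⋙ evUX).mapCocone P.cocone) :=
    isColimitOfPreserves (L u ⋙ evUX) P.coconeIsColimit
  let α : D ⋙ evX ⟶ D ⋙ L u ⋙ evUX :=
    { app := fun i => ((η u).app (D.obj i)).app (op X)
      naturality := fun i j t => by
        have := congr_app ((η u).naturality (D.map t)) (op X)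
        exact this }
  refine injective_of_filtered α hA hB (((η u).app G).app (op X)) ?_ ?_
  · intro i
    have := congr_app ((η u).naturality (P.cocone.ι.app i)) (op X)
    exact this
  · intro i
    exact unit_yoneda_injective u X (P.F.obj i)

theorem lan_map_injective [u.Faithful] (F G : Cᵒᵖ ⥤ Type u) (hG : IsIndObject G) :
    Function.Injective (fun φ : F ⟶ G => (L u).map φ) := by
  intro φ ψ h
  have h' : (L u).map φ = (L u).map ψ := h
  have h2 : φ ≫ (η u).app G = ψ ≫ (η u).app G := by
    have h1 := (η u).naturality φ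
    have h3 := (η u).naturality ψ
    dsimp only [Functor.id_obj, Functor.id_map, Functor.comp_obj, Functor.comp_map] at h1 h3
    rw [h1, h3, h']
  ext ⟨X⟩ x
  apply unit_injective_of_isIndObject u G hG X
  have := ConcreteCategory.congr_hom (congr_app h2 (op X)) x
  exact this

end

end Groth.Agent.Lib.YonedaLan
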