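import Groth.Prelude.Def_ZClos
import Groth.Agent.Lib.RestrictExact
import Mathlib.CategoryTheory.Abelian.GrothendieckAxioms.FunctorCategory
import Mathlib.Algebra.Category.Grp.AB
import Mathlib.Algebra.Category.ModuleCat.Presheaf.Limits
import Mathlib.Algebra.Category.ModuleCat.Presheaf.Colimits
import Mathlib.Algebra.Category.ModuleCat.Presheaf.Sheafification
import Mathlib.CategoryTheory.Abelian.GrothendieckAxioms.Colim

/-!
# ZClos cluster, part A: AB5 for `X.Modules`, formal properties of the Z-closure
-/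

set_option autoImplicit false
universe u

open CategoryTheory CategoryTheory.Limits AlgebraicGeometry TopologicalSpace Opposite

namespace Groth.Agent.Lib.ZClos5

variable {X : Scheme.{u}}

/-- exactness of colimits of shape `K` in `X.Modules` from that in abelian groups -/
theorem hasExactColimitsOfShape (X : Scheme.{u}) (K : Type u) [SmallCategory K]
    [HasExactColimitsOfShape K AddCommGrpCat.{u}] :
    HasExactColimitsOfShape K X.Modules := by
  have : ReflectsFiniteLimits (PresheafOfModules.toPresheaf.{u} X.ringCatSheaf.obj) :=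
    ⟨fun K _ _ => reflectsLimitsOfShape_of_reflectsIsomorphisms⟩
  have : HasExactColimitsOfShape K (PresheafOfModules.{u} X.ringCatSheaf.obj) :=
    HasExactColimitsOfShape.domain_of_functor K
      (PresheafOfModules.toPresheaf.{u} X.ringCatSheaf.obj)
  exact (PresheafOfModules.sheafificationAdjunction
    (𝟙 X.ringCatSheaf.obj)).hasExactColimitsOfShape K

instance (Z : Set X) : HasExactColimitsOfShape (ZClos.Cl Z) X.Modules :=
  hasExactColimitsOfShape X (ZClos.Cl Z)

section H0

variable (Z : Set X)

instance (U : X.Opens) : PreservesLimits (ZClos.resPush U) := by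
  have : PreservesLimits (Scheme.Modules.pushforward U.ι) :=
    (Scheme.Modules.restrictAdjunction U.ι).rightAdjoint_preservesLimits
  exact comp_preservesLimits _ _

/-- evaluation of the diagram at `T` is `resPush T.U` (definitionally) -/
noncomputable def diagramEval (T : ZClos.Cl Z) :
    ZClos.diagram Z ⋙ (evaluation (ZClos.Cl Z) X.Modules).obj T ≅ ZClos.resPush T.U :=
  NatIso.ofComponents (fun _ => Iso.refl _) (fun φ => by
    simp only [Iso.refl_hom]
    exact (Category.comp_id _).trans (Category.id_comp _).symm)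

instance : PreservesFiniteLimits (ZClos.diagram Z) := by
  constructor
  intro J _ _
  apply preservesLimitsOfShape_of_evaluation
  intro T
  exact preservesLimitsOfShape_of_natIso (diagramEval Z T).symm

/-- **S5840**: the Z-closure functor is left exact. -/
theorem preservesFiniteLimits_H0 : PreservesFiniteLimits (ZClos.H0 Z) := by
  have : PreservesFiniteLimits (colim : (ZClos.Cl Z ⥤ X.Modules) ⥤ X.Modules) :=
    HasExactColimitsOfShape.preservesFiniteLimits
  unfold ZClos.H0
  exact comp_preservesFiniteLimits _ _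

end H0

section Formal

attribute [local instance] IsFiltered.isConnected

variable (Z : Set X) (F : X.Modules)

instance : PreservesFiniteLimits (colim : (ZClos.Cl Z ⥤ X.Modules) ⥤ X.Modules) :=
  HasExactColimitsOfShape.preservesFiniteLimits

/-- the units `F ⟶ (i_T)_*(F|_{X∖T})` as a natural transformation from the constant diagram -/
noncomputable def toDiagramNat : (Functor.const (ZClos.Cl Z)).obj F ⟶ (ZClos.diagram Z).obj F where
  app T := ZClos.toDiagram Z F T
  naturality T T' f := by
    simp only [Functor.const_obj_obj, Functor.const_obj_map, Category.id_comp]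
    exact (ZClos.toDiagram_map Z F f).symm

/-- **S5842**. -/
theorem isZPure_iff : ZClos.IsZPure Z F ↔ ∀ T : ZClos.Cl Z, Mono (ZClos.toDiagram Z F T) := by
  constructor
  · intro h T
    have h' : Mono (ZClos.toDiagram Z F T ≫ colimit.ι ((ZClos.diagram Z).obj F) T) := by
      rw [← ZClos.rhoApp_eq]; exact h
    exact mono_of_mono _ (colimit.ι ((ZClos.diagram Z).obj F) T)
  · intro h
    have : ∀ T, Mono ((toDiagramNat Z F).app T) := h
    have := NatTrans.mono_of_mono_app (toDiagramNat Z F)
    exact colim.map_mono' (toDiagramNat Z F) (isColimitConstCocone _ _) (colimit.isColimit _)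
      (ZClos.rhoApp Z F) (fun T => by
        simp only [constCocone_ι, NatTrans.id_app, Functor.const_obj_obj, colimit.cocone_ι]
        exact (Category.id_comp _).trans (ZClos.rhoApp_eq Z F T))

/-- the colimit injection, typed with target `(H0 Z).obj F` -/
noncomputable def ιH (T : ZClos.Cl Z) : (ZClos.resPush T.U).obj F ⟶ (ZClos.H0 Z).obj F :=
  colimit.ι ((ZClos.diagram Z).obj F) T

theorem rhoApp_eq' (T : ZClos.Cl Z) :
    ZClos.rhoApp Z F = (ZClos.resPushUnit T.U).app F ≫ ιH Z F T := ZClos.rhoApp_eq Z F T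

theorem ιH_w {T T' : ZClos.Cl Z} (h : T ≤ T') :
    ZClos.resPushMapApp (ZClos.Cl.U_anti h) F ≫ ιH Z F T' = ιH Z F T :=
  colimit.w ((ZClos.diagram Z).obj F) (homOfLE h)

theorem H0_hom_ext {M : X.Modules} {v v' : (ZClos.H0 Z).obj F ⟶ M}
    (h : ∀ T, ιH Z F T ≫ v = ιH Z F T ≫ v') : v = v' :=
  colimit.hom_ext h

/-- morphisms out of `H0` -/
noncomputable def H0desc {M : X.Modules} (φ : ∀ T : ZClos.Cl Z, (ZClos.resPush T.U).obj F ⟶ M)
    (hφ : ∀ (T T' : ZClos.Cl Z) (h : T ≤ T'),
      ZClos.resPushMapApp (ZClos.Cl.U_anti h) F ≫ φ T' = φ T) : (ZClos.H0 Z).obj F ⟶ M :=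
  colimit.desc ((ZClos.diagram Z).obj F)
    { pt := M
      ι :=
        { app := φ
          naturality := fun T T' f => by
            simp only [Functor.const_obj_obj, Functor.const_obj_map, Category.comp_id]
            exact hφ T T' f.le } }

theorem ιH_desc {M : X.Modules} (φ : ∀ T : ZClos.Cl Z, (ZClos.resPush T.U).obj F ⟶ M)
    (hφ : ∀ (T T' : ZClos.Cl Z) (h : T ≤ T'),
      ZClos.resPushMapApp (ZClos.Cl.U_anti h) F ≫ φ T' = φ T) (T : ZClos.Cl Z) :
    ιH Z F T ≫ H0desc Z F φ hφ = φ T :=
  colimit.ι_desc _ _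

theorem ιH_map {F G : X.Modules} (φ : F ⟶ G) (T : ZClos.Cl Z) :
    ιH Z F T ≫ (ZClos.H0 Z).map φ = (ZClos.resPush T.U).map φ ≫ ιH Z G T :=
  ι_colimMap _ _

/-- formal half of **S5843**. -/
theorem isZClosed_of_isIso_toDiagram
    (h : ∀ T : ZClos.Cl Z, IsIso ((ZClos.resPushUnit T.U).app F)) :
    ZClos.IsZClosed Z F := by
  refine ⟨H0desc Z F (fun T => inv ((ZClos.resPushUnit T.U).app F)) (fun T T' hT => ?_), ?_, ?_⟩
  · rw [IsIso.comp_inv_eq, IsIso.eq_inv_comp]
    exact ZClos.resPushUnit_resPushMapApp _ F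
  · rw [rhoApp_eq' Z F ⊥, Category.assoc, ιH_desc]
    exact IsIso.hom_inv_id _
  · apply H0_hom_ext
    intro T
    rw [← Category.assoc, ιH_desc, Category.comp_id, rhoApp_eq' Z F T]
    exact IsIso.inv_hom_id_assoc _ _

theorem isZPure_of_isZClosed (h : ZClos.IsZClosed Z F) : ZClos.IsZPure Z F := by
  unfold ZClos.IsZClosed at h
  unfold ZClos.IsZPure
  infer_instance

/-- `η R = R η` for the idempotent functor `R = j_* j^*`. -/
theorem resPushUnit_resPush (U : X.Opens) (M : X.Modules) :
    (ZClos.resPushUnit U).app ((ZClos.resPush U).obj M) =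
      (ZClos.resPush U).map ((ZClos.resPushUnit U).app M) := by
  ext V : 1
  rw [ZClos.resPushUnit_app_app, ZClos.resPush_map_app, ZClos.resPushUnit_app_app,
    ZClos.resPush_presheaf_map]
  congr 1

/-- a map out of `j_*(F|_U)` into a module `F'` with `F' ⟶ j_*(F'|_U)` injective is determined by
its restriction to `F`. -/
theorem resPush_hom_ext (U : X.Opens) {M M' : X.Modules} [Mono ((ZClos.resPushUnit U).app M')]
    (w w' : (ZClos.resPush U).obj M ⟶ M')
    (h : (ZClos.resPushUnit U).app M ≫ w = (ZClos.resPushUnit U).app M ≫ w') : w = w' := by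
  rw [← cancel_mono ((ZClos.resPushUnit U).app M')]
  have e1 := (ZClos.resPushUnit U).naturality w
  have e2 := (ZClos.resPushUnit U).naturality w'
  simp only [Functor.id_obj, Functor.id_map] at e1 e2
  rw [e1, e2, resPushUnit_resPush, ← Functor.map_comp, ← Functor.map_comp, h]

/-- **S5851**. -/
theorem existsUnique_desc {F F' : X.Modules} (hF' : ZClos.IsZClosed Z F') (u : F ⟶ F') :
    ∃! v : (ZClos.H0 Z).obj F ⟶ F', ZClos.rhoApp Z F ≫ v = u := by
  have : IsIso (ZClos.rhoApp Z F') := hF'
  have hp := (isZPure_iff Z F').mp (isZPure_of_isZClosed Z F' hF')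
  refine ⟨(ZClos.H0 Z).map u ≫ inv (ZClos.rhoApp Z F'), ?_, ?_⟩
  · have := (ZClos.rho Z).naturality u
    simp only [Functor.id_obj, Functor.id_map] at this
    show (ZClos.rho Z).app F ≫ _ = _
    rw [← Category.assoc, ← this, Category.assoc]
    exact (congrArg (fun t => u ≫ t) (IsIso.hom_inv_id (ZClos.rhoApp Z F'))).trans
      (Category.comp_id _)
  · intro v hv
    have hv' : ZClos.rhoApp Z F ≫ v =
        ZClos.rhoApp Z F ≫ ((ZClos.H0 Z).map u ≫ inv (ZClos.rhoApp Z F')) := by
      rw [hv]
      have := (ZClos.rho Z).naturality u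
      simp only [Functor.id_obj, Functor.id_map] at this
      show _ = (ZClos.rho Z).app F ≫ _
      rw [← Category.assoc, ← this, Category.assoc]
      exact ((congrArg (fun t => u ≫ t) (IsIso.hom_inv_id (ZClos.rhoApp Z F'))).trans
        (Category.comp_id _)).symm
    apply H0_hom_ext
    intro T
    have : Mono ((ZClos.resPushUnit T.U).app F') := hp T
    apply resPush_hom_ext T.U
    rw [← Category.assoc, ← Category.assoc, ← rhoApp_eq' Z F T]
    exact hv'

end Formal

end Groth.Agent.Lib.ZClos5
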