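import Groth.Agent.Lib.ZClos5A
import Groth.Agent.Lib.FiltColimSec
import Groth.Agent.Lib.H78GlobGen
import Mathlib.AlgebraicGeometry.Noetherian

/-!
# ZClos cluster, part B: sections over Noetherian opens commute with filtered colimits of
`O_X`-modules
-/

set_option autoImplicit false
universe u

open CategoryTheory CategoryTheory.Limits AlgebraicGeometry TopologicalSpace Opposite

namespace Groth.Agent.Lib.ZClos5

variable {X : Scheme.{u}}

/-- the opens all of whose open subsets are quasi-compact -/
def NoethOpens (X : Scheme.{u}) : Set X.Opens :=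
  {V | ∀ W : X.Opens, W ≤ V → IsCompact (W : Set X)}

theorem noethOpens_of_le {V W : X.Opens} (hV : V ∈ NoethOpens X) (h : W ≤ V) :
    W ∈ NoethOpens X := fun W' hW' => hV W' (hW'.trans h)

theorem finCov_noethOpens :
    FiltColimSec.FinCov (Opens.grothendieckTopology X) (NoethOpens X) := by
  intro U hU T hT
  have hc : IsCompact (U : Set X) := hU U le_rfl
  choose W f hW using hT
  -- cover `U` by the `W x`
  obtain ⟨t, ht⟩ := hc.elim_finite_subcover
    (fun x : U => ((W x.1 x.2 : Opens X) : Set X)) (fun x => (W x.1 x.2).isOpen)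
    (fun x hx => Set.mem_iUnion.mpr ⟨⟨x, hx⟩, (hW x hx).2⟩)
  refine ⟨t, fun i => Over.mk (f i.1.1 i.1.2), inferInstance, fun i => (hW i.1.1 i.1.2).1, ?_, ?_⟩
  · intro x hx
    obtain ⟨i, hi, hxi⟩ := Set.mem_iUnion₂.mp (ht hx)
    exact ⟨W i.1 i.2, f i.1 i.2, ⟨_, 𝟙 _, f i.1 i.2, Presieve.ofArrows.mk (⟨i, hi⟩ : t),
      Category.id_comp _⟩, hxi⟩
  · intro a
    exact noethOpens_of_le hU (leOfHom (∏ᶜ fun k => Over.mk (f (a k).1.1 (a k).1.2)).hom)

section Sections

open Groth.Agent.Lib.ModStalk

variable {I : Type u} [SmallCategory I] [IsFiltered I] (D : I ⥤ X.Modules) (c : Cocone D)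
  (hc : IsColimit c)

include hc in
theorem secColim_modules (V : X.Opens) (hV : V ∈ NoethOpens X) :
    FiltColimSec.SecColim (Opens.grothendieckTopology X) (D ⋙ toSheafAb X)
      ((toSheafAb X).mapCocone c) V :=
  FiltColimSec.secColim (D ⋙ toSheafAb X) finCov_noethOpens _ (isColimitOfPreserves (toSheafAb X) hc) V hV

include hc in
/-- every section of a filtered colimit over a Noetherian open comes from a stage -/
theorem sec_surj (V : X.Opens) (hV : V ∈ NoethOpens X) (s : Γ(c.pt, V)) :
    ∃ (i : I) (t : Γ(D.obj i, V)), (c.ι.app i).app V t = s :=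
  (secColim_modules D c hc V hV).surj s

include hc in
/-- a section over a Noetherian open dying in the filtered colimit dies at a later stage -/
theorem sec_inj (V : X.Opens) (hV : V ∈ NoethOpens X) (i : I) (t : Γ(D.obj i, V))
    (h : (c.ι.app i).app V t = 0) : ∃ (j : I) (f : i ⟶ j), (D.map f).app V t = 0 :=
  (secColim_modules D c hc V hV).inj i t h

include hc in
/-- two sections over a Noetherian open with the same image in the filtered colimit become equal
at a later stage -/
theorem sec_inj' (V : X.Opens) (hV : V ∈ NoethOpens X) (i : I) (t₁ t₂ : Γ(D.obj i, V))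
    (h : (c.ι.app i).app V t₁ = (c.ι.app i).app V t₂) :
    ∃ (j : I) (f : i ⟶ j), (D.map f).app V t₁ = (D.map f).app V t₂ := by
  obtain ⟨j, f, hf⟩ := sec_inj D c hc V hV i (t₁ - t₂) (by rw [map_sub, h, sub_self])
  exact ⟨j, f, by rwa [map_sub, sub_eq_zero] at hf⟩

end Sections

section Noeth

theorem mem_noethOpens_of_isCompact [IsLocallyNoetherian X] (V : X.Opens)
    (hV : IsCompact (V : Set X)) : V ∈ NoethOpens X := by
  have h1 : CompactSpace (V : Set X) := isCompact_iff_compactSpace.mp hV
  have h2 : CompactSpace (V : Scheme) := h1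
  have : IsNoetherian (V : Scheme) := {}
  have h3 : NoetherianSpace (V : Scheme) := inferInstance
  have h4 : NoetherianSpace (V : Set X) := h3
  intro W hW
  exact (noetherianSpace_set_iff (V : Set X)).mp h4 W hW

theorem isCompact_inf_of_isCompact [IsLocallyNoetherian X] (V U : X.Opens)
    (hV : IsCompact (V : Set X)) : IsCompact ((V ⊓ U : X.Opens) : Set X) :=
  mem_noethOpens_of_isCompact V hV _ inf_le_left

end Noeth

end Groth.Agent.Lib.ZClos5
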