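import Groth.Agent.Lib.ZClos5C

/-!
# ZClos cluster, part D: section criteria (S5844, S5845), monotonicity in `Z` (S5848),
idempotence (S5850)
-/

set_option autoImplicit false
universe u

open CategoryTheory CategoryTheory.Limits AlgebraicGeometry TopologicalSpace Opposite

namespace Groth.Agent.Lib.ZClos5

open Groth.Agent.Lib.QCohStalk Groth.Agent.Lib.H90OXModQcqs Groth.Agent.Lib.H90OXModSections
  Groth.Agent.Lib.H90OXModExt Groth.Agent.Lib.H90OXModExact

variable {X : Scheme.{u}}

section Res

variable (F : X.Modules)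

lemma res_inj_congr {V W₁ W₂ : X.Opens} (h₁ : W₁ ≤ V) (h₂ : W₂ ≤ V) (e : W₁ = W₂) :
    Function.Injective (res F h₁) ↔ Function.Injective (res F h₂) := by
  subst e; exact Iff.rfl

lemma res_bij_congr {V W₁ W₂ : X.Opens} (h₁ : W₁ ≤ V) (h₂ : W₂ ≤ V) (e : W₁ = W₂) :
    Function.Bijective (res F h₁) ↔ Function.Bijective (res F h₂) := by
  subst e; exact Iff.rfl

lemma UV_eq' (U V : X.Opens) : UV U V = V ⊓ U := by rw [UV_eq, inf_comm]

end Res

section Criteria

variable (Z : Set X) (F : X.Modules)

/-- **S5844** (no Noetherian hypothesis needed). -/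
theorem isZPure_iff_sections :
    ZClos.IsZPure Z F ↔ ∀ (T : ZClos.Cl Z) (V : X.Opens), IsCompact (V : Set X) →
      Function.Injective (F.presheaf.map (homOfLE (inf_le_left : V ⊓ T.U ≤ V)).op) := by
  rw [isZPure_iff]
  constructor
  · intro h T V _
    have : Mono ((ZClos.resPushUnit T.U).app F) := h T
    have h1 : Function.Injective (res F (UV_le_right T.U V)) :=
      injective_app_of_mono ((ZClos.resPushUnit T.U).app F) V
    exact (res_inj_congr F _ _ (UV_eq' T.U V)).mp h1
  · intro h T
    show Mono ((ZClos.resPushUnit T.U).app F)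
    rw [mono_iff_forall_affine]
    intro V
    have h1 : Function.Injective (res F (inf_le_left : V.1 ⊓ T.U ≤ V.1)) := h T V.1 V.2.isCompact
    exact (res_inj_congr F _ _ (UV_eq' T.U V.1)).mpr h1

/-- **S5845**. -/
theorem isZClosed_iff_sections [IsLocallyNoetherian X] :
    ZClos.IsZClosed Z F ↔ ∀ (T : ZClos.Cl Z) (V : X.Opens), IsCompact (V : Set X) →
      Function.Bijective (F.presheaf.map (homOfLE (inf_le_left : V ⊓ T.U ≤ V)).op) := by
  rw [isZClosed_iff]
  constructor
  · intro h T V _
    have : IsIso ((ZClos.resPushUnit T.U).app F) := h T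
    have h0 : IsIso (((ZClos.resPushUnit T.U).app F).app V) := inferInstance
    have h1 : Function.Bijective (res F (UV_le_right T.U V)) :=
      (ConcreteCategory.isIso_iff_bijective _).mp h0
    exact (res_bij_congr F _ _ (UV_eq' T.U V)).mp h1
  · intro h T
    show IsIso ((ZClos.resPushUnit T.U).app F)
    apply isIso_of_bijective_affine
    intro V
    have h1 : Function.Bijective (res F (inf_le_left : V.1 ⊓ T.U ≤ V.1)) := h T V.1 V.2.isCompact
    exact (res_bij_congr F _ _ (UV_eq' T.U V.1)).mpr h1

end Criteria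

section Mono

variable (Z Z' : Set X) (h : Z' ⊆ Z) (F : X.Modules)

/-- a closed subset inside `Z'` is inside `Z` -/
def clIncl (T : ZClos.Cl Z') : ZClos.Cl Z := ⟨T.1, T.2.trans h⟩

include h in
/-- **S5848**, pure part (no Noetherian hypothesis). -/
theorem isZPure_of_subset (hF : ZClos.IsZPure Z F) : ZClos.IsZPure Z' F := by
  rw [isZPure_iff] at hF ⊢
  intro T
  exact hF (clIncl Z Z' h T)

include h in
/-- **S5848**, closed part. -/
theorem isZClosed_of_subset [IsLocallyNoetherian X] (hF : ZClos.IsZClosed Z F) :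
    ZClos.IsZClosed Z' F := by
  rw [isZClosed_iff] at hF ⊢
  intro T
  exact hF (clIncl Z Z' h T)

end Mono

end Groth.Agent.Lib.ZClos5
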