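import Groth.Agent.Lib.ZClos5D

/-!
# ZClos cluster, part E: the Z-closure is Z-closed (S5850)
-/

set_option autoImplicit false
universe u

open CategoryTheory CategoryTheory.Limits AlgebraicGeometry TopologicalSpace Opposite

namespace Groth.Agent.Lib.ZClos5

open Groth.Agent.Lib.QCohStalk Groth.Agent.Lib.H90OXModQcqs Groth.Agent.Lib.H90OXModSections
  Groth.Agent.Lib.H90OXModExt Groth.Agent.Lib.H90OXModExact

variable {X : Scheme.{u}} (Z : Set X) (F : X.Modules) [IsLocallyNoetherian X]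

/-- two sections of `H0` over a compact open have representatives at a common stage `≥ T₀` -/
theorem H0_sec_surj_two (V : X.Opens) (hV : IsCompact (V : Set X))
    (a b : Γ((ZClos.H0 Z).obj F, V)) (T₀ : ZClos.Cl Z) :
    ∃ (T : ZClos.Cl Z) (_ : T₀ ≤ T) (x y : Γ(F, UV T.U V)),
      (ιH Z F T).app V x = a ∧ (ιH Z F T).app V y = b := by
  obtain ⟨T₁, h₁, x, hx⟩ := H0_sec_surj_ge Z F V hV a T₀
  obtain ⟨T₂, h₂, y, hy⟩ := H0_sec_surj_ge Z F V hV b T₁
  exact ⟨T₂, h₁.trans h₂, _, y, (ιH_app_trans Z F h₂ V x).trans hx, hy⟩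

omit [IsLocallyNoetherian X] in
theorem UV_UV_eq {T T' : ZClos.Cl Z} (h : T ≤ T') (V : X.Opens) :
    UV T'.U (UV T.U V) = UV T'.U V :=
  ZClos.resPush_image_eq (ZClos.Cl.U_anti h) V

/-- **S5850**: `H⁰_{X/Z}(F)` is Z-closed. -/
theorem isZClosed_H0 : ZClos.IsZClosed Z ((ZClos.H0 Z).obj F) := by
  apply isZClosed_of_isIso_toDiagram
  intro T
  apply isIso_of_bijective_affine
  intro V
  have hVc : IsCompact ((V.1 : X.Opens) : Set X) := V.2.isCompact
  have hWc : IsCompact ((UV T.U V.1 : X.Opens) : Set X) :=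
    mem_noethOpens_of_isCompact V.1 hVc _ (UV_le_right T.U V.1)
  constructor
  · intro a b hab
    rw [unit_app_apply, unit_app_apply] at hab
    obtain ⟨T₃, h₃, x, y, rfl, rfl⟩ := H0_sec_surj_two Z F V.1 hVc a b T
    rw [ιH_app_res, ιH_app_res] at hab
    obtain ⟨T₄, h₄, e⟩ := H0_sec_inj' Z F _ hWc T₃ _ _ hab
    rw [res_res, res_res] at e
    rw [← ιH_app_trans Z F h₄ V.1 x, ← ιH_app_trans Z F h₄ V.1 y]
    congr 1
    have e1 : UV T₄.U V.1 ≤ UV T₄.U (UV T.U V.1) := (UV_UV_eq Z (h₃.trans h₄) V.1).ge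
    have e2 := congrArg (res F e1) e
    rw [res_res, res_res] at e2
    exact e2
  · intro (t : Γ((ZClos.H0 Z).obj F, UV T.U V.1))
    obtain ⟨T₁, h₁, x, hx⟩ := H0_sec_surj_ge Z F _ hWc t T
    have e1 : UV T₁.U V.1 ≤ UV T₁.U (UV T.U V.1) := (UV_UV_eq Z h₁ V.1).ge
    refine ⟨(ιH Z F T₁).app V.1 (res F e1 x), ?_⟩
    rw [unit_app_apply, ιH_app_res, res_res, res_self]
    exact hx

end Groth.Agent.Lib.ZClos5
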