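import Groth.Agent.Lib.ZClos5E

/-!
# ZClos cluster, part F: `ρ_{X/Z}` is bijective on stalks outside `Z` (S5849)
-/

set_option autoImplicit false
universe u

open CategoryTheory CategoryTheory.Limits AlgebraicGeometry TopologicalSpace Opposite

namespace Groth.Agent.Lib.ZClos5

open Groth.Agent.Lib.QCohStalk Groth.Agent.Lib.H90OXModQcqs Groth.Agent.Lib.H90OXModSections
  Groth.Agent.Lib.H90OXModExt Groth.Agent.Lib.H90OXModExact

variable {X : Scheme.{u}} (Z : Set X) (F : X.Modules) [IsLocallyNoetherian X]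

omit [IsLocallyNoetherian X] in
lemma mem_U_of_not_mem {x : X} (hx : x ∉ Z) (T : ZClos.Cl Z) : x ∈ T.U := fun hT => hx (T.2 hT)

omit [IsLocallyNoetherian X] in
lemma exists_affine_nhds {x : X} {W : X.Opens} (hxW : x ∈ W) :
    ∃ V : X.Opens, IsAffineOpen V ∧ x ∈ V ∧ V ≤ W := by
  obtain ⟨V, hV, hxV, hVW⟩ := Opens.isBasis_iff_nbhd.mp X.isBasis_affineOpens hxW
  exact ⟨V, hV, hxV, hVW⟩

/-- **S5849**. -/
theorem isZClosedAt_of_not_mem (x : X) (hx : x ∉ Z) : ZClos.IsZClosedAt Z F x := by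
  unfold ZClos.IsZClosedAt ZClos.rhoStalk
  constructor
  · rw [injective_iff_map_eq_zero]
    intro a ha
    obtain ⟨U, hxU, s, rfl⟩ := F.presheaf.exists_germ_eq a
    have hh := TopCat.Presheaf.stalkFunctor_map_germ_apply U x hxU
      (ZClos.rhoApp Z F).mapPresheaf s
    replace ha := hh.symm.trans ha
    have ha' : ((ZClos.H0 Z).obj F).presheaf.germ U x hxU ((ZClos.rhoApp Z F).app U s) =
        ((ZClos.H0 Z).obj F).presheaf.germ U x hxU 0 := by
      rw [map_zero]; exact ha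
    obtain ⟨W, hxW, iU, iV, e⟩ := ((ZClos.H0 Z).obj F).presheaf.germ_eq x hxU hxU _ _ ha'
    obtain ⟨V, hV, hxV, hVW⟩ := exists_affine_nhds hxW
    have hVU : V ≤ U := hVW.trans iU.le
    have e1 : res ((ZClos.H0 Z).obj F) hVU ((ZClos.rhoApp Z F).app U s) = 0 := by
      have e2 : res ((ZClos.H0 Z).obj F) iU.le ((ZClos.rhoApp Z F).app U s) = 0 := by
        refine e.trans ?_
        exact map_zero _
      rw [← res_res _ hVW iU.le, e2, res_zero]
    rw [← app_res, rhoApp_app Z F ⊥] at e1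
    obtain ⟨T', hT, e3⟩ := H0_sec_inj Z F V hV.isCompact ⊥ _ e1
    rw [res_res, res_res] at e3
    have hxW' : x ∈ UV T'.U V := by rw [UV_eq]; exact ⟨mem_U_of_not_mem Z hx T', hxV⟩
    rw [← F.presheaf.germ_res_apply (homOfLE ((UV_le_right T'.U V).trans hVU)) x hxW' s]
    refine (congrArg _ e3).trans ?_
    exact map_zero _
  · intro t
    obtain ⟨U, hxU, t₀, rfl⟩ := ((ZClos.H0 Z).obj F).presheaf.exists_germ_eq t
    obtain ⟨V, hV, hxV, hVU⟩ := exists_affine_nhds hxU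
    obtain ⟨T, y, hy⟩ := H0_sec_surj Z F V hV.isCompact (res ((ZClos.H0 Z).obj F) hVU t₀)
    have hxW : x ∈ UV T.U V := by rw [UV_eq]; exact ⟨mem_U_of_not_mem Z hx T, hxV⟩
    refine ⟨F.presheaf.germ (UV T.U V) x hxW y, ?_⟩
    refine (TopCat.Presheaf.stalkFunctor_map_germ_apply (UV T.U V) x hxW
      (ZClos.rhoApp Z F).mapPresheaf y).trans ?_
    have h1 : (ZClos.rhoApp Z F).app (UV T.U V) y =
        res ((ZClos.H0 Z).obj F) ((UV_le_right T.U V).trans hVU) t₀ := by
      rw [rhoApp_app Z F T, ← res_res _ (UV_le_right T.U V) hVU, ← hy, ιH_app_res]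
    refine (congrArg _ h1).trans ?_
    exact ((ZClos.H0 Z).obj F).presheaf.germ_res_apply
      (homOfLE ((UV_le_right T.U V).trans hVU)) x hxW t₀

end Groth.Agent.Lib.ZClos5
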