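import Groth.Agent.Lib.ZClos5F
import Mathlib.Topology.Sober
import Mathlib.AlgebraicGeometry.Properties

/-!
# ZClos cluster, part G: closures of locally closed subsets of a specialization-stable set
-/

set_option autoImplicit false
universe u

open CategoryTheory CategoryTheory.Limits AlgebraicGeometry TopologicalSpace Opposite

namespace Groth.Agent.Lib.ZClos5

section Top

variable {α : Type*} [TopologicalSpace α]

/-- In a Noetherian quasi-sober open subspace `N`, a relatively closed subset `C` of `N` contained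
in a specialization-stable set `Z` has its closure (in the ambient space) contained in `Z`. -/
theorem closure_subset_of_stable_of_noetherian (Z : Set α) (hZ : StableUnderSpecialization Z)
    (N : Set α) [NoetherianSpace N] [QuasiSober N] (C : Set α) (hCN : C ⊆ N)
    (hC : IsClosed (Subtype.val ⁻¹' C : Set N)) (hCZ : C ⊆ Z) : closure C ⊆ Z := by
  obtain ⟨𝒮, hfin, hcl, hirr, hS⟩ := NoetherianSpace.exists_finite_set_isClosed_irreducible hC
  have hCeq : C = ⋃ t ∈ 𝒮, Subtype.val '' t := by
    ext x
    constructor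
    · intro hx
      have hx' : (⟨x, hCN hx⟩ : N) ∈ (Subtype.val ⁻¹' C : Set N) := hx
      rw [hS] at hx'
      obtain ⟨t, ht, hxt⟩ := hx'
      exact Set.mem_iUnion₂.mpr ⟨t, ht, ⟨_, hxt, rfl⟩⟩
    · intro hx
      obtain ⟨t, ht, ⟨y, hyt, rfl⟩⟩ := Set.mem_iUnion₂.mp hx
      have : y ∈ (Subtype.val ⁻¹' C : Set N) := by rw [hS]; exact ⟨t, ht, hyt⟩
      exact this
  rw [hCeq, hfin.closure_biUnion]
  intro y hy
  obtain ⟨t, ht, hyt⟩ := Set.mem_iUnion₂.mp hy
  obtain ⟨η, hη⟩ := QuasiSober.sober (hirr t ht) (hcl t ht)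
  have hηt : η ∈ t := by rw [← hη.def]; exact subset_closure rfl
  have hηC : (η : α) ∈ C := by
    have : η ∈ (Subtype.val ⁻¹' C : Set N) := by rw [hS]; exact ⟨t, ht, hηt⟩
    exact this
  have h1 : Subtype.val '' t ⊆ closure {(η : α)} := by
    rw [← hη.def]
    refine (image_closure_subset_closure_image continuous_subtype_val).trans ?_
    rw [Set.image_singleton]
  have h2 : y ∈ closure {(η : α)} := closure_minimal h1 isClosed_closure hyt
  exact hZ (specializes_iff_mem_closure.mpr h2) (hCZ hηC)

end Top

section Scheme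

variable {X : Scheme.{u}} [IsLocallyNoetherian X]

/-- On a locally Noetherian scheme, a subset `C` of a specialization-stable set `Z` which is
closed in an open `V` has its closure contained in `Z`. -/
theorem closure_subset_of_stable (Z : Set X) (hZ : StableUnderSpecialization Z) (V : X.Opens)
    (C : Set X) (hCV : C ⊆ V) (hC : ∃ C' : Set X, IsClosed C' ∧ C = C' ∩ V) (hCZ : C ⊆ Z) :
    closure C ⊆ Z := by
  intro y hy
  obtain ⟨N, hN, hyN, -⟩ := exists_affine_nhds (x := y) (W := ⊤) trivial
  obtain ⟨C', hC', rfl⟩ := hC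
  -- the Noetherian open `N ⊓ V`
  let W : X.Opens := N ⊓ V
  have hNr : IsNoetherianRing Γ(X, N) := IsLocallyNoetherian.component_noetherian ⟨N, hN⟩
  have hNn : NoetherianSpace (N : Set X) := noetherianSpace_of_isAffineOpen N hN
  have hWn : NoetherianSpace (W : Set X) :=
    (noetherianSpace_set_iff _).mpr fun t ht =>
      (noetherianSpace_set_iff (N : Set X)).mp hNn t (ht.trans Set.inter_subset_left)
  have hWs : QuasiSober (W : Set X) := inferInstanceAs (QuasiSober (W : Scheme))
  have hy' : y ∈ closure ((N : Set X) ∩ (C' ∩ V)) := N.2.inter_closure ⟨hyN, hy⟩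
  have hsub : closure ((N : Set X) ∩ (C' ∩ V)) ⊆ Z := by
    apply closure_subset_of_stable_of_noetherian Z hZ (W : Set X) _ ?_ ?_ ?_
    · rintro x ⟨hxN, -, hxV⟩
      exact ⟨hxN, hxV⟩
    · have : (Subtype.val ⁻¹' ((N : Set X) ∩ (C' ∩ V)) : Set (W : Set X)) =
          Subtype.val ⁻¹' C' := by
        ext x
        constructor
        · rintro ⟨-, h, -⟩; exact h
        · intro h; exact ⟨x.2.1, h, x.2.2⟩
      rw [this]
      exact hC'.preimage continuous_subtype_val
    · exact Set.inter_subset_right.trans hCZ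
  exact hsub hy'

end Scheme

end Groth.Agent.Lib.ZClos5
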