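import Groth.Agent.Lib.ZClos5G
import Groth.Agent.Lib.ModStalkIso

/-!
# ZClos cluster, part H: sections supported in `Z` die in the Z-closure (S5870), morphisms of
Z-closed modules which are isomorphisms outside `Z` (S5852)
-/

set_option autoImplicit false
universe u

open CategoryTheory CategoryTheory.Limits AlgebraicGeometry TopologicalSpace Opposite

namespace Groth.Agent.Lib.ZClos5

open Groth.Agent.Lib.QCohStalk Groth.Agent.Lib.H90OXModQcqs Groth.Agent.Lib.H90OXModSections
  Groth.Agent.Lib.H90OXModExt Groth.Agent.Lib.H90OXModExact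

variable {X : Scheme.{u}} (Z : Set X) (F : X.Modules)

section Germ

lemma germ_res' {V W : X.Opens} (h : W ≤ V) (x : X) (hx : x ∈ W) (s : Γ(F, V)) :
    F.presheaf.germ W x hx (res F h s) = F.presheaf.germ V x (h hx) s :=
  F.presheaf.germ_res_apply (homOfLE h) x hx s

/-- a section with vanishing germ at `x` vanishes near `x` -/
lemma exists_res_eq_zero_of_germ_eq_zero {V : X.Opens} (x : X) (hx : x ∈ V) (s : Γ(F, V))
    (h : F.presheaf.germ V x hx s = 0) : ∃ (N : X.Opens) (hN : N ≤ V), x ∈ N ∧ res F hN s = 0 := by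
  have h' : F.presheaf.germ V x hx s = F.presheaf.germ V x hx 0 := by rw [map_zero]; exact h
  obtain ⟨N, hxN, iU, iV, e⟩ := F.presheaf.germ_eq x hx hx _ _ h'
  exact ⟨N, iU.le, hxN, e.trans (map_zero _)⟩

end Germ

section Vanish

variable [IsLocallyNoetherian X] (hZ : StableUnderSpecialization Z)

include hZ in
/-- a relatively closed subset of an open `W` contained in `Z` lies in a closed subset of `X`
contained in `Z` -/
theorem exists_cl_of_open (W O : X.Opens) (hO : ∀ x ∈ W, x ∉ Z → x ∈ O) :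
    ∃ T : ZClos.Cl Z, UV T.U W ≤ O := by
  let C : Set X := (O : Set X)ᶜ ∩ W
  have hCZ : C ⊆ Z := by
    rintro x ⟨hxO, hxW⟩
    by_contra hxZ
    exact hxO (hO x hxW hxZ)
  have hcl : closure C ⊆ Z :=
    closure_subset_of_stable Z hZ W C Set.inter_subset_right
      ⟨(O : Set X)ᶜ, O.2.isClosed_compl, rfl⟩ hCZ
  refine ⟨⟨⟨closure C, isClosed_closure⟩, hcl⟩, ?_⟩
  intro x hx
  rw [UV_eq] at hx
  obtain ⟨hxT, hxW⟩ := hx
  by_contra hxO
  exact hxT (subset_closure ⟨hxO, hxW⟩)

include hZ in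
/-- **Lemma V**: a section over `W` whose germs vanish outside `Z` vanishes on `W ∖ T` for some
closed `T ⊆ Z`. -/
theorem exists_cl_res_eq_zero (W : X.Opens) (y : Γ(F, W))
    (hy : ∀ (x : X) (hx : x ∈ W), x ∉ Z → F.presheaf.germ W x hx y = 0) :
    ∃ T : ZClos.Cl Z, res F (UV_le_right T.U W) y = 0 := by
  -- the largest open of `W` on which `y` vanishes
  let ι : Type u := {N : X.Opens // ∃ h : N ≤ W, res F h y = 0}
  let O : X.Opens := ⨆ i : ι, i.1
  have hOW : O ≤ W := iSup_le fun i => i.2.1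
  have hyO : res F hOW y = 0 := by
    apply res_ext F O (fun i : ι => i.1) (fun i => le_iSup (fun i : ι => i.1) i) le_rfl
    intro i
    rw [res_res, res_zero]
    exact i.2.2
  obtain ⟨T, hT⟩ := exists_cl_of_open Z hZ W O (by
    intro x hxW hxZ
    obtain ⟨N, hN, hxN, e⟩ := exists_res_eq_zero_of_germ_eq_zero F x hxW y (hy x hxW hxZ)
    exact Opens.mem_iSup.mpr ⟨⟨N, hN, e⟩, hxN⟩)
  refine ⟨T, ?_⟩
  rw [← res_res F hT hOW, hyO, res_zero]

include hZ in
theorem exists_cl_res_eq (W : X.Opens) (y₁ y₂ : Γ(F, W))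
    (hy : ∀ (x : X) (hx : x ∈ W), x ∉ Z →
      F.presheaf.germ W x hx y₁ = F.presheaf.germ W x hx y₂) :
    ∃ T : ZClos.Cl Z, res F (UV_le_right T.U W) y₁ = res F (UV_le_right T.U W) y₂ := by
  obtain ⟨T, hT⟩ := exists_cl_res_eq_zero Z F hZ W (y₁ - y₂) (fun x hx hxZ => by
    rw [map_sub, hy x hx hxZ, sub_self])
  refine ⟨T, ?_⟩
  have : res F (UV_le_right T.U W) (y₁ - y₂) =
      res F (UV_le_right T.U W) y₁ - res F (UV_le_right T.U W) y₂ := map_sub _ _ _
  rw [this, sub_eq_zero] at hT
  exact hT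

end Vanish

section S5870

variable [IsLocallyNoetherian X] (hZ : StableUnderSpecialization Z)

omit [IsLocallyNoetherian X] in
lemma subsingleton_stalk_of_isZero {G : X.Modules} (hG : IsZero G) (x : X) :
    Subsingleton (G.presheaf.stalk x) := by
  have h1 : IsZero ((Groth.Agent.Lib.ModStalk.stalkFunctor x).obj G) :=
    (Groth.Agent.Lib.ModStalk.stalkFunctor x).map_isZero hG
  exact AddCommGrpCat.subsingleton_of_isZero h1

include hZ in
/-- **S5870**. -/
theorem isZero_H0_iff :
    IsZero ((ZClos.H0 Z).obj F) ↔ ∀ x : X, x ∉ Z → Subsingleton (F.presheaf.stalk x) := by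
  constructor
  · intro h x hx
    have hb := isZClosedAt_of_not_mem Z F x hx
    have := subsingleton_stalk_of_isZero h x
    exact hb.1.subsingleton
  · intro h
    apply Groth.Agent.Lib.ModPullback.isZero_of_forall_subsingleton_stalk
    intro x
    refine ⟨fun a b => ?_⟩
    suffices h0 : ∀ c : ((ZClos.H0 Z).obj F).presheaf.stalk x, c = 0 by rw [h0 a, h0 b]
    intro c
    obtain ⟨U, hxU, t₀, rfl⟩ := ((ZClos.H0 Z).obj F).presheaf.exists_germ_eq c
    obtain ⟨V, hV, hxV, hVU⟩ := exists_affine_nhds hxU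
    obtain ⟨T, y, hy⟩ := H0_sec_surj Z F V hV.isCompact (res ((ZClos.H0 Z).obj F) hVU t₀)
    obtain ⟨T', hT'⟩ := exists_cl_res_eq_zero Z F hZ (UV T.U V) y (fun p hp hpZ => by
      have := h p hpZ
      exact Subsingleton.elim _ _)
    have e1 : res ((ZClos.H0 Z).obj F) hVU t₀ = 0 := by
      rw [← hy, ← ιH_app_trans Z F (le_sup_left : T ≤ T ⊔ T') V y]
      have e2 : res F (UV_mono (ZClos.Cl.U_anti (le_sup_left : T ≤ T ⊔ T')) le_rfl) y = 0 := by
        have hle : UV (T ⊔ T').U V ≤ UV T'.U (UV T.U V) :=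
          le_UV ((UV_le_left _ _).trans (ZClos.Cl.U_anti le_sup_right))
            (UV_mono (ZClos.Cl.U_anti le_sup_left) le_rfl)
        have := congrArg (res F hle) hT'
        rw [res_res, res_zero] at this
        exact this
      rw [e2]
      exact map_zero _
    rw [← germ_res' _ hVU x hxV t₀, e1]
    exact map_zero _

end S5870

section ClaimC

variable [IsLocallyNoetherian X] (hZ : StableUnderSpecialization Z)

include hZ in
/-- **Claim C**: a morphism between Z-closed modules which is bijective on stalks outside `Z` is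
an isomorphism. -/
theorem isIso_of_isZClosed_of_stalk_bijective {G G' : X.Modules} (hG : ZClos.IsZClosed Z G)
    (hG' : ZClos.IsZClosed Z G') (w : G ⟶ G')
    (hw : ∀ x : X, x ∉ Z →
      Function.Bijective ((TopCat.Presheaf.stalkFunctor (C := Ab.{u}) x).map w.mapPresheaf)) :
    IsIso w := by
  have hGp := (isZPure_iff Z G).mp (isZPure_of_isZClosed Z G hG)
  have hG'p := (isZPure_iff Z G').mp (isZPure_of_isZClosed Z G' hG')
  have hGc := (isZClosed_iff Z G).mp hG
  -- purity in terms of sections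
  have pure : ∀ (M : X.Modules), (∀ T : ZClos.Cl Z, Mono (ZClos.toDiagram Z M T)) →
      ∀ (T : ZClos.Cl Z) (V : X.Opens) (a b : Γ(M, V)),
        res M (UV_le_right T.U V) a = res M (UV_le_right T.U V) b → a = b := by
    intro M hM T V a b hab
    have : Mono ((ZClos.resPushUnit T.U).app M) := hM T
    exact injective_app_of_mono ((ZClos.resPushUnit T.U).app M) V hab
  -- `w` is injective on sections over every open
  have winj : ∀ V : X.Opens, Function.Injective (w.app V) := by
    intro V a b hab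
    obtain ⟨T, hT⟩ := exists_cl_res_eq Z G hZ V a b (fun x hx hxZ => by
      apply (hw x hxZ).1
      have e1 := TopCat.Presheaf.stalkFunctor_map_germ_apply V x hx w.mapPresheaf a
      have e2 := TopCat.Presheaf.stalkFunctor_map_germ_apply V x hx w.mapPresheaf b
      refine e1.trans (Eq.trans ?_ e2.symm)
      exact congrArg _ hab)
    exact pure G hGp T V a b hT
  apply isIso_of_bijective_affine
  intro V
  refine ⟨winj V.1, fun t => ?_⟩
  -- local lifts outside `Z`
  let ι : Type u := {N : X.Opens // ∃ (h : N ≤ V.1) (y : Γ(G, N)), w.app N y = res G' h t}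
  let O : X.Opens := ⨆ i : ι, i.1
  have hOV : O ≤ V.1 := iSup_le fun i => i.2.1
  choose hN y hy using fun i : ι => i.2
  obtain ⟨yO, hyO⟩ := exists_glue G O (fun i : ι => i.1) (fun i => le_iSup (fun i : ι => i.1) i)
    le_rfl y (by
      intro i j
      apply winj
      rw [app_res, app_res, hy, hy, res_res, res_res])
  have hwyO : w.app O yO = res G' hOV t := by
    apply res_ext G' O (fun i : ι => i.1) (fun i => le_iSup (fun i : ι => i.1) i) le_rfl
    intro i
    rw [← app_res, hyO i, hy i, res_res]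
  obtain ⟨T, hT⟩ := exists_cl_of_open Z hZ V.1 O (by
    intro x hxV hxZ
    obtain ⟨ξ, hξ⟩ := (hw x hxZ).2 (G'.presheaf.germ V.1 x hxV t)
    obtain ⟨N₀, hxN₀, y₀, rfl⟩ := G.presheaf.exists_germ_eq ξ
    have e1 := TopCat.Presheaf.stalkFunctor_map_germ_apply N₀ x hxN₀ w.mapPresheaf y₀
    have e2 : G'.presheaf.germ N₀ x hxN₀ (w.app N₀ y₀) = G'.presheaf.germ V.1 x hxV t :=
      e1.symm.trans hξ
    obtain ⟨N, hxN, i₁, i₂, e3⟩ := G'.presheaf.germ_eq x hxN₀ hxV _ _ e2
    refine Opens.mem_iSup.mpr ⟨⟨N, i₂.le, res G i₁.le y₀, ?_⟩, hxN⟩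
    rw [app_res]
    exact e3)
  -- extend `yO` restricted to `V ∖ T` to `V`
  have : IsIso ((ZClos.resPushUnit T.U).app G) := hGc T
  have h0 : IsIso (((ZClos.resPushUnit T.U).app G).app V.1) := inferInstance
  have hbij : Function.Bijective (res G (UV_le_right T.U V.1)) :=
    (ConcreteCategory.isIso_iff_bijective _).mp h0
  obtain ⟨y', hy'⟩ := hbij.2 (res G hT yO)
  refine ⟨y', ?_⟩
  apply pure G' hG'p T V.1
  rw [← app_res, hy', app_res, hwyO, res_res]

include hZ in
/-- **S5852**. -/
theorem isIso_of_rhoApp_comp {F F' : X.Modules} (hF' : ZClos.IsZClosed Z F') (u : F ⟶ F')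
    (hu : ∀ x : X, x ∉ Z →
      Function.Bijective ((TopCat.Presheaf.stalkFunctor (C := Ab.{u}) x).map u.mapPresheaf))
    (v : (ZClos.H0 Z).obj F ⟶ F') (hv : ZClos.rhoApp Z F ≫ v = u) : IsIso v := by
  apply isIso_of_isZClosed_of_stalk_bijective Z hZ (isZClosed_H0 Z F) hF' v
  intro x hx
  have h1 : Function.Bijective ((TopCat.Presheaf.stalkFunctor (C := Ab.{u}) x).map
      (ZClos.rhoApp Z F).mapPresheaf) := isZClosedAt_of_not_mem Z F x hx
  have h2 := hu x hx
  have e : (TopCat.Presheaf.stalkFunctor (C := Ab.{u}) x).map u.mapPresheaf =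
      (TopCat.Presheaf.stalkFunctor (C := Ab.{u}) x).map (ZClos.rhoApp Z F).mapPresheaf ≫
        (TopCat.Presheaf.stalkFunctor (C := Ab.{u}) x).map v.mapPresheaf := by
    rw [← Functor.map_comp, ← hv]
    rfl
  rw [e] at h2
  refine (Function.Bijective.of_comp_iff _ h1).mp ?_
  exact h2

end ClaimC

end Groth.Agent.Lib.ZClos5
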