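import Groth.Agent.Lib.ZClos5E

/-!
# ZClos cluster, part I: the Z-closure of a quasi-coherent module is quasi-coherent (S5841)
-/

set_option autoImplicit false
universe u

open CategoryTheory CategoryTheory.Limits AlgebraicGeometry TopologicalSpace Opposite

namespace Groth.Agent.Lib.ZClos5

open Groth.Agent.Lib.QCohStalk Groth.Agent.Lib.H90OXModQcqs Groth.Agent.Lib.H90OXModSections
  Groth.Agent.Lib.H90OXModExt Groth.Agent.Lib.H90OXModExact Groth.Agent.Lib.AssPush
  Groth.Agent.Lib.H90OXModPush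

variable {X : Scheme.{u}}

/-- the module structure on sections of `j_*(M|_U)` -/
lemma resPush_smul (U V : X.Opens) (M : X.Modules) (r : Γ(X, V))
    (y : Γ((ZClos.resPush U).obj M, V)) :
    r • y = resO X (UV_le_right U V) r • (show Γ(M, UV U V) from y) := by
  change ((U.ι.appIso (U.ι ⁻¹ᵁ V)).inv (U.ι.app V r)) • (show Γ(M, UV U V) from y) = _
  rw [← CommRingCat.comp_apply, Scheme.Hom.app_appIso_inv]
  rfl

variable (Z : Set X) (F : X.Modules) [IsLocallyNoetherian X]

omit [IsLocallyNoetherian X] in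
lemma ιH_app_smul (T : ZClos.Cl Z) (V : X.Opens) (r : Γ(X, V)) (y : Γ(F, UV T.U V)) :
    r • (ιH Z F T).app V y = (ιH Z F T).app V (resO X (UV_le_right T.U V) r • y) := by
  rw [← resPush_smul T.U V F r y, Scheme.Modules.Hom.app_smul]

/-- **S5841**. -/
theorem isQuasicoherent_H0 [F.IsQuasicoherent] : ((ZClos.H0 Z).obj F).IsQuasicoherent := by
  rw [isQuasicoherent_iff_forall_isLocalizingOn]
  intro V
  have hloc : ∀ T : ZClos.Cl Z, IsLocalizingOn F (UV T.U V.1) := fun T =>
    isLocalizingOn_of_qcqs F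
      (mem_noethOpens_of_isCompact V.1 V.2.isCompact _ (UV_le_right T.U V.1))
      (IsQuasiSeparated.of_quasiSeparatedSpace _)
  constructor
  · intro f t
    have hD : IsCompact ((X.basicOpen f : X.Opens) : Set X) := (V.2.basicOpen f).isCompact
    obtain ⟨T, y, rfl⟩ := H0_sec_surj Z F (X.basicOpen f) hD t
    have hWV : UV T.U V.1 ≤ V.1 := UV_le_right T.U V.1
    have e : X.basicOpen (resO X hWV f) = UV T.U (X.basicOpen f) := by
      rw [basicOpen_resO, UV_eq, UV_eq, inf_assoc, inf_eq_right.mpr (X.basicOpen_le f)]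
    obtain ⟨n, s₀, hs₀⟩ := (hloc T).surj (resO X hWV f) (res F e.le y)
    refine ⟨n, (ιH Z F T).app V.1 s₀, ?_⟩
    rw [ιH_app_res, ιH_app_smul]
    congr 1
    apply res_injective_of_eq F e
    rw [res_smul, res_res, resO_pow, resO_pow, resO_resO, resO_resO]
    rw [resO_resO] at hs₀
    exact hs₀
  · intro f s hs
    obtain ⟨T, y, rfl⟩ := H0_sec_surj Z F V.1 V.2.isCompact s
    have hD : IsCompact ((X.basicOpen f : X.Opens) : Set X) := (V.2.basicOpen f).isCompact
    rw [ιH_app_res] at hs
    obtain ⟨T', hT, h2⟩ := H0_sec_inj Z F (X.basicOpen f) hD T _ hs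
    rw [res_res] at h2
    have hWV : UV T'.U V.1 ≤ V.1 := UV_le_right T'.U V.1
    have hle : X.basicOpen (resO X hWV f) ≤ UV T'.U (X.basicOpen f) := by
      rw [basicOpen_resO, UV_eq, UV_eq, inf_assoc]
      exact inf_le_inf_left _ inf_le_right
    obtain ⟨n, hn⟩ := (hloc T').inj (resO X hWV f)
      (res F (UV_mono (ZClos.Cl.U_anti hT) le_rfl) y) (by
        have := congrArg (res F hle) h2
        rw [res_res, res_zero] at this
        rw [res_res]
        exact this)
    refine ⟨n, ?_⟩
    rw [← ιH_app_trans Z F hT V.1 y, ιH_app_smul, resO_pow, hn]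
    exact map_zero _

end Groth.Agent.Lib.ZClos5
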