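import Groth.Agent.Lib.ZClos5K
import Groth.Agent.Lib.WeakAssFinite

/-!
# ZClos cluster, part L: pointwise Z-purity of a coherent module and depth (S5855)
-/

set_option autoImplicit false
universe u

open CategoryTheory CategoryTheory.Limits AlgebraicGeometry TopologicalSpace Opposite

namespace Groth.Agent.Lib.ZClos5

open Groth.Agent.Lib.QCohStalk Groth.Agent.Lib.H90OXModQcqs Groth.Agent.Lib.H90OXModSections
  Groth.Agent.Lib.H90OXModExt Groth.Agent.Lib.H90OXModExact Groth.Agent.Lib.AssPoints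

variable {X : Scheme.{u}}

section Affine

variable {U : X.Opens} (hU : IsAffineOpen U)

lemma primeIdealOf_le_iff (y z : U) :
    (hU.primeIdealOf y).asIdeal ≤ (hU.primeIdealOf z).asIdeal ↔ y.1 ⤳ z.1 := by
  have h1 : (hU.primeIdealOf y).asIdeal ≤ (hU.primeIdealOf z).asIdeal ↔
      hU.primeIdealOf y ⤳ hU.primeIdealOf z := PrimeSpectrum.le_iff_specializes _ _
  rw [h1]
  have h2 := hU.fromSpec.isOpenEmbedding.isInducing.specializes_iff
    (x := hU.primeIdealOf y) (y := hU.primeIdealOf z)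
  rw [hU.fromSpec_primeIdealOf y, hU.fromSpec_primeIdealOf z] at h2
  exact h2.symm

/-- the germ at `y` of a section over an affine open of a quasi-coherent module vanishes iff the
section is killed by a function which is invertible at `y` -/
lemma germ_eq_zero_iff (F : X.Modules) [F.IsQuasicoherent] (y : U) (s : Γ(F, U)) :
    F.presheaf.germ U y.1 y.2 s = 0 ↔
      ∃ t : Γ(X, U), t ∉ (hU.primeIdealOf y).asIdeal ∧ t • s = 0 := by
  letI := moduleSectionStalk F y
  haveI := isLocalizedModule_germ F hU y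
  have h := IsLocalizedModule.eq_zero_iff (hU.primeIdealOf y).asIdeal.primeCompl
    (germLinear F y) (m := s)
  rw [germLinear_apply] at h
  rw [h]
  constructor
  · rintro ⟨c, hc⟩
    exact ⟨c.1, c.2, hc⟩
  · rintro ⟨t, ht, hts⟩
    exact ⟨⟨t, ht⟩, hts⟩

end Affine

section Pure

variable [IsLocallyNoetherian X] (Z : Set X) (hZ : StableUnderSpecialization Z)
  (F : X.Modules) (hF : Coh.IsCoh F)

include hF in
/-- `⇐` of S5855. -/
theorem isZPureAt_of_depth (x : X)
    (h : ∀ x' : X, x' ⤳ x → x' ∈ Z →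
      (1 : ℕ∞) ≤ LocCoh.depth (X.presheaf.stalk x') (F.presheaf.stalk x')) :
    ZClos.IsZPureAt Z F x := by
  haveI : F.IsQuasicoherent := hF.1
  unfold ZClos.IsZPureAt ZClos.rhoStalk
  rw [injective_iff_map_eq_zero]
  intro a ha
  obtain ⟨U₀, hxU₀, s₀, rfl⟩ := F.presheaf.exists_germ_eq a
  have hh := TopCat.Presheaf.stalkFunctor_map_germ_apply U₀ x hxU₀
    (ZClos.rhoApp Z F).mapPresheaf s₀
  replace ha := hh.symm.trans ha
  have ha' : ((ZClos.H0 Z).obj F).presheaf.germ U₀ x hxU₀ ((ZClos.rhoApp Z F).app U₀ s₀) =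
      ((ZClos.H0 Z).obj F).presheaf.germ U₀ x hxU₀ 0 := by
    rw [map_zero]; exact ha
  obtain ⟨W, hxW, iU, iV, e⟩ := ((ZClos.H0 Z).obj F).presheaf.germ_eq x hxU₀ hxU₀ _ _ ha'
  obtain ⟨V, hV, hxV, hVW⟩ := exists_affine_nhds hxW
  have hVU : V ≤ U₀ := hVW.trans iU.le
  have e1 : res ((ZClos.H0 Z).obj F) hVU ((ZClos.rhoApp Z F).app U₀ s₀) = 0 := by
    have e2 : res ((ZClos.H0 Z).obj F) iU.le ((ZClos.rhoApp Z F).app U₀ s₀) = 0 := by
      refine e.trans ?_
      exact map_zero _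
    rw [← res_res _ hVW iU.le, e2, res_zero]
  rw [← app_res, rhoApp_app Z F ⊥] at e1
  obtain ⟨T', hT, e3⟩ := H0_sec_inj Z F V hV.isCompact ⊥ _ e1
  rw [res_res, res_res] at e3
  -- now `s₀` vanishes on `V ∖ T'`
  rw [← germ_res' F hVU x hxV s₀]
  by_contra hne
  obtain ⟨y, hyV, hyx, hyass, hys⟩ :=
    exists_isWeakAssPoint_of_germ_ne_zero F (res F hVU s₀) x hxV hne
  have hyass' : Curv2.IsAssPoint F y := (isAssPoint_iff_isWeakAssPoint F y).mpr hyass
  by_cases hyT : y ∈ T'.U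
  · have hyW : y ∈ UV T'.U V := by rw [UV_eq]; exact ⟨hyT, hyV⟩
    apply hys
    rw [← germ_res' F (UV_le_right T'.U V) y hyW, res_res, e3]
    exact map_zero _
  · have hyZ : y ∈ Z := by
      by_contra hyZ
      exact hyT (mem_U_of_not_mem Z hyZ T')
    exact Groth.Agent.Lib.Hartogs.not_isAssPoint_of_one_le_depth F hF y (h y hyx hyZ) hyass'

include hZ hF in
/-- `⇒` of S5855. -/
theorem depth_of_isZPureAt (x : X) (hp : ZClos.IsZPureAt Z F x) (x' : X) (hx'x : x' ⤳ x)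
    (hx'Z : x' ∈ Z) :
    (1 : ℕ∞) ≤ LocCoh.depth (X.presheaf.stalk x') (F.presheaf.stalk x') := by
  haveI : F.IsQuasicoherent := hF.1
  classical
  apply one_le_depth_of_not_isAssPoint F hF
  intro hass
  have hwass : Curv2.IsWeakAssPoint F x' := (isAssPoint_iff_isWeakAssPoint F x').mp hass
  obtain ⟨U, hU, hxU, -⟩ := exists_affine_nhds (x := x) (W := ⊤) trivial
  have hx'U : x' ∈ U := hx'x.mem_open U.2 hxU
  haveI : IsNoetherianRing Γ(X, U) := IsLocallyNoetherian.component_noetherian ⟨U, hU⟩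
  obtain ⟨m, hm⟩ := exists_minimal_of_isWeakAssPoint F hU ⟨x', hx'U⟩
    (isLocAt_of_isQuasicoherent F hU _) hwass
  set p' := (hU.primeIdealOf ⟨x', hx'U⟩).asIdeal with hp'
  haveI : p'.IsPrime := (hU.primeIdealOf ⟨x', hx'U⟩).isPrime
  -- generators of `p'`
  obtain ⟨G, hG⟩ := (isNoetherianRing_iff_ideal_fg Γ(X, U)).mp inferInstance p'
  have hGp : ∀ g ∈ G, g ∈ p' := fun g hg => by rw [← hG]; exact Ideal.subset_span hg
  choose! sg hsg ng hng using fun (g : Γ(X, U)) (hg : g ∈ G) =>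
    Groth.Agent.Lib.WeakAssFinite.exists_mul_pow_mem_of_mem_minimalPrimes hm (hGp g hg)
  let a : Γ(X, U) := ∏ g ∈ G, sg g
  have ha : a ∉ p' := by
    intro hmem
    obtain ⟨g, hg, hgs⟩ := (Ideal.IsPrime.prod_mem_iff).mp hmem
    exact hsg g hg hgs
  let m' : Γ(F, U) := a • m
  -- Claim A
  have claimA : ∀ (q : X) (hq : q ∈ U), ¬ x' ⤳ q → F.presheaf.germ U q hq m' = 0 := by
    intro q hq hnq
    have hnle : ¬ p' ≤ (hU.primeIdealOf ⟨q, hq⟩).asIdeal := fun hle =>
      hnq ((primeIdealOf_le_iff hU ⟨x', hx'U⟩ ⟨q, hq⟩).mp hle)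
    have : ∃ g ∈ G, g ∉ (hU.primeIdealOf ⟨q, hq⟩).asIdeal := by
      by_contra hcon
      push Not at hcon
      apply hnle
      rw [← hG, Ideal.span_le]
      exact fun g hg => hcon g hg
    obtain ⟨g, hg, hgq⟩ := this
    rw [germ_eq_zero_iff hU F ⟨q, hq⟩]
    refine ⟨g ^ ng g, fun hmem => hgq ((hU.primeIdealOf ⟨q, hq⟩).isPrime.mem_of_pow_mem _ hmem), ?_⟩
    have h1 : (sg g * g ^ ng g) • m = 0 := (mem_ann m _).mp (hng g hg)
    have h2 : a = (∏ g' ∈ G.erase g, sg g') * sg g := (Finset.prod_erase_mul G sg hg).symm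
    show g ^ ng g • (a • m) = 0
    rw [h2, smul_smul, ← mul_assoc, mul_comm (g ^ ng g), mul_assoc, mul_comm (g ^ ng g),
      mul_smul, h1, smul_zero]
  -- Claim B
  have claimB : F.presheaf.germ U x hxU m' ≠ 0 := by
    intro h0
    obtain ⟨t, ht, hts⟩ := (germ_eq_zero_iff hU F ⟨x, hxU⟩ m').mp h0
    have h1 : t * a ∈ ann Γ(X, U) m := by
      rw [mem_ann, mul_smul]; exact hts
    have h2 : t * a ∈ p' := hm.1.2 h1
    rcases (inferInstance : p'.IsPrime).mem_or_mem h2 with h3 | h3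
    · exact ht ((primeIdealOf_le_iff hU ⟨x', hx'U⟩ ⟨x, hxU⟩).mpr hx'x h3)
    · exact ha h3
  -- `m'` vanishes off the closure of `x'`
  let T := clPoint Z hZ x' hx'Z
  have hres : res F (UV_le_right T.U U) m' = 0 := by
    apply TopCat.Presheaf.section_ext ⟨F.presheaf, F.isSheaf⟩ (UV T.U U)
    intro q hq
    have hq' : q ∈ T.U ⊓ U := by rw [← UV_eq]; exact hq
    rw [map_zero]
    refine (germ_res' F (UV_le_right T.U U) q hq m').trans ?_
    apply claimA q hq'.2
    intro hsp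
    exact hq'.1 (specializes_iff_mem_closure.mp hsp)
  have hρ : (ZClos.rhoApp Z F).app U m' = 0 := by
    rw [rhoApp_app Z F T, hres]
    exact map_zero _
  apply claimB
  apply hp
  have hh := TopCat.Presheaf.stalkFunctor_map_germ_apply U x hxU (ZClos.rhoApp Z F).mapPresheaf m'
  refine hh.trans ?_
  have : ((ZClos.rhoApp Z F).mapPresheaf.app (op U)) m' = 0 := hρ
  rw [this, map_zero, map_zero]

include hZ hF in
/-- **S5855**. -/
theorem isZPureAt_iff (x : X) :
    ZClos.IsZPureAt Z F x ↔ ∀ x' : X, x' ⤳ x → x' ∈ Z →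
      (1 : ℕ∞) ≤ LocCoh.depth (X.presheaf.stalk x') (F.presheaf.stalk x') :=
  ⟨fun hp x' h1 h2 => depth_of_isZPureAt Z hZ F hF x hp x' h1 h2,
    fun h => isZPureAt_of_depth Z F hF x h⟩

end Pure

end Groth.Agent.Lib.ZClos5
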