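import Groth.Agent.Lib.ZClos5L

/-!
# ZClos cluster, part M: restriction to an open subscheme, locality of Z-pure / Z-closed
(S5846, S5847)
-/

set_option autoImplicit false
universe u

open CategoryTheory CategoryTheory.Limits AlgebraicGeometry TopologicalSpace Opposite

namespace Groth.Agent.Lib.ZClos5

open Groth.Agent.Lib.QCohStalk Groth.Agent.Lib.H90OXModQcqs Groth.Agent.Lib.H90OXModSections
  Groth.Agent.Lib.H90OXModExt Groth.Agent.Lib.H90OXModExact

variable {X : Scheme.{u}}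

section Congr

variable (F : X.Modules)

lemma res_inj_congr₂ {V₁ V₂ W₁ W₂ : X.Opens} (h₁ : W₁ ≤ V₁) (h₂ : W₂ ≤ V₂) (eV : V₁ = V₂)
    (eW : W₁ = W₂) : Function.Injective (res F h₁) ↔ Function.Injective (res F h₂) := by
  subst eV; subst eW; exact Iff.rfl

lemma res_bij_congr₂ {V₁ V₂ W₁ W₂ : X.Opens} (h₁ : W₁ ≤ V₁) (h₂ : W₂ ≤ V₂) (eV : V₁ = V₂)
    (eW : W₁ = W₂) : Function.Bijective (res F h₁) ↔ Function.Bijective (res F h₂) := by
  subst eV; subst eW; exact Iff.rfl

end Congr

section Restrict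

variable (V : X.Opens) (Z : Set X) (F : X.Modules)

/-- the restriction of `F` to the open subscheme `V` -/
noncomputable abbrev restr : V.toScheme.Modules := (Scheme.Modules.restrictFunctor V.ι).obj F

/-- The trace on `V` of a closed subset of `X` contained in `Z`. -/
def clRestrict (T : ZClos.Cl Z) : ZClos.Cl (V.ι.base ⁻¹' Z) :=
  ⟨⟨V.ι.base ⁻¹' (T.1 : Set X), T.1.2.preimage V.ι.base.hom.2⟩, fun _ hx => T.2 hx⟩

lemma image_inf_clRestrict_U (T : ZClos.Cl Z) (W' : V.toScheme.Opens) :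
    V.ι ''ᵁ (W' ⊓ (clRestrict V Z T).U) = (V.ι ''ᵁ W') ⊓ T.U := by
  ext x
  constructor
  · rintro ⟨y, ⟨hyW, hyT⟩, rfl⟩
    exact ⟨⟨y, hyW, rfl⟩, hyT⟩
  · rintro ⟨⟨y, hyW, rfl⟩, hyT⟩
    exact ⟨y, ⟨hyW, hyT⟩, rfl⟩

variable [IsLocallyNoetherian X]

/-- The closure in `X` of a closed subset of `V` contained in `Z`. -/
noncomputable def clClosure (hZ : StableUnderSpecialization Z) (T' : ZClos.Cl (V.ι.base ⁻¹' Z)) :
    ZClos.Cl Z :=
  ⟨⟨closure (V.ι.base '' (T'.1 : Set V.toScheme)), isClosed_closure⟩, by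
    apply closure_subset_of_stable Z hZ V
    · rintro _ ⟨y, -, rfl⟩
      exact y.2
    · obtain ⟨C', hC', hC'e⟩ := isClosed_induced_iff.mp T'.1.2
      refine ⟨C', hC', ?_⟩
      ext x
      constructor
      · rintro ⟨y, hy, rfl⟩
        exact ⟨(Set.ext_iff.mp hC'e y).mpr hy, y.2⟩
      · rintro ⟨hxC, hxV⟩
        exact ⟨⟨x, hxV⟩, (Set.ext_iff.mp hC'e ⟨x, hxV⟩).mp hxC, rfl⟩
    · rintro _ ⟨y, hy, rfl⟩
      exact T'.2 hy⟩

lemma image_inf_clClosure_U (hZ : StableUnderSpecialization Z) (T' : ZClos.Cl (V.ι.base ⁻¹' Z))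
    (W' : V.toScheme.Opens) :
    V.ι ''ᵁ (W' ⊓ T'.U) = (V.ι ''ᵁ W') ⊓ (clClosure V Z hZ T').U := by
  ext x
  constructor
  · rintro ⟨y, ⟨hyW, hyT⟩, rfl⟩
    refine ⟨⟨y, hyW, rfl⟩, ?_⟩
    intro hcl
    apply hyT
    -- `y ∈ closure (image T') ∩ V`, and `T'` is closed in `V`
    have h1 : y ∈ closure (T'.1 : Set V.toScheme) := by
      have hind : Topology.IsInducing (V.ι.base : V.toScheme → X) :=
        V.ι.isOpenEmbedding.isInducing
      rw [hind.closure_eq_preimage_closure_image]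
      exact hcl
    exact T'.1.2.closure_subset h1
  · rintro ⟨⟨y, hyW, rfl⟩, hyT⟩
    refine ⟨y, ⟨hyW, fun hy => hyT (subset_closure ⟨y, hy, rfl⟩)⟩, rfl⟩

end Restrict

section Criteria'

variable (Z : Set X) (F : X.Modules)

/-- `isZPure_iff_sections` without compactness in the conclusion. -/
theorem isZPure_iff_sections' :
    ZClos.IsZPure Z F ↔ ∀ (T : ZClos.Cl Z) (V : X.Opens),
      Function.Injective (res F (inf_le_left : V ⊓ T.U ≤ V)) := by
  constructor
  · intro h T V
    rw [isZPure_iff] at h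
    have : Mono ((ZClos.resPushUnit T.U).app F) := h T
    have h1 : Function.Injective (res F (UV_le_right T.U V)) :=
      injective_app_of_mono ((ZClos.resPushUnit T.U).app F) V
    exact (res_inj_congr F _ _ (UV_eq' T.U V)).mp h1
  · intro h
    rw [isZPure_iff_sections]
    intro T V _
    exact h T V

/-- `isZClosed_iff_sections` without compactness in the conclusion. -/
theorem isZClosed_iff_sections' [IsLocallyNoetherian X] :
    ZClos.IsZClosed Z F ↔ ∀ (T : ZClos.Cl Z) (V : X.Opens),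
      Function.Bijective (res F (inf_le_left : V ⊓ T.U ≤ V)) := by
  constructor
  · intro h T V
    rw [isZClosed_iff] at h
    have : IsIso ((ZClos.resPushUnit T.U).app F) := h T
    have h0 : IsIso (((ZClos.resPushUnit T.U).app F).app V) := inferInstance
    have h1 : Function.Bijective (res F (UV_le_right T.U V)) :=
      (ConcreteCategory.isIso_iff_bijective _).mp h0
    exact (res_bij_congr F _ _ (UV_eq' T.U V)).mp h1
  · intro h
    rw [isZClosed_iff_sections]
    intro T V _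
    exact h T V

end Criteria'

section Local

variable [IsLocallyNoetherian X] (V : X.Opens) (Z : Set X) (hZ : StableUnderSpecialization Z)
  (F : X.Modules)

omit [IsLocallyNoetherian X] in
lemma image_preimage_of_le {W : X.Opens} (h : W ≤ V) : V.ι ''ᵁ (V.ι ⁻¹ᵁ W) = W := by
  rw [ZClos.ι_image_preimage]
  exact inf_eq_right.mpr h

omit [IsLocallyNoetherian X] in
lemma image_le (W' : V.toScheme.Opens) : V.ι ''ᵁ W' ≤ V := by
  rintro _ ⟨y, -, rfl⟩
  exact y.2

include hZ in
theorem isZPure_restr_iff :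
    ZClos.IsZPure (V.ι.base ⁻¹' Z) (restr V F) ↔
      ∀ (T : ZClos.Cl Z) (W : X.Opens), W ≤ V →
        Function.Injective (res F (inf_le_left : W ⊓ T.U ≤ W)) := by
  rw [isZPure_iff_sections']
  constructor
  · intro h T W hW
    have h1 := h (clRestrict V Z T) (V.ι ⁻¹ᵁ W)
    have h2 : Function.Injective (res F (V.ι.image_mono
        (inf_le_left : V.ι ⁻¹ᵁ W ⊓ (clRestrict V Z T).U ≤ V.ι ⁻¹ᵁ W))) := h1
    refine (res_inj_congr₂ F _ _ (image_preimage_of_le V hW) ?_).mp h2
    rw [image_inf_clRestrict_U, image_preimage_of_le V hW]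
  · intro h T' W'
    have h1 := h (clClosure V Z hZ T') (V.ι ''ᵁ W') (image_le V W')
    show Function.Injective (res F (V.ι.image_mono
        (inf_le_left : W' ⊓ T'.U ≤ W')))
    exact (res_inj_congr₂ F _ _ rfl (image_inf_clClosure_U V Z hZ T' W')).mpr h1

include hZ in
theorem isZClosed_restr_iff :
    ZClos.IsZClosed (V.ι.base ⁻¹' Z) (restr V F) ↔
      ∀ (T : ZClos.Cl Z) (W : X.Opens), W ≤ V →
        Function.Bijective (res F (inf_le_left : W ⊓ T.U ≤ W)) := by
  rw [isZClosed_iff_sections']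
  constructor
  · intro h T W hW
    have h1 := h (clRestrict V Z T) (V.ι ⁻¹ᵁ W)
    have h2 : Function.Bijective (res F (V.ι.image_mono
        (inf_le_left : V.ι ⁻¹ᵁ W ⊓ (clRestrict V Z T).U ≤ V.ι ⁻¹ᵁ W))) := h1
    refine (res_bij_congr₂ F _ _ (image_preimage_of_le V hW) ?_).mp h2
    rw [image_inf_clRestrict_U, image_preimage_of_le V hW]
  · intro h T' W'
    have h1 := h (clClosure V Z hZ T') (V.ι ''ᵁ W') (image_le V W')
    show Function.Bijective (res F (V.ι.image_mono
        (inf_le_left : W' ⊓ T'.U ≤ W')))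
    exact (res_bij_congr₂ F _ _ rfl (image_inf_clClosure_U V Z hZ T' W')).mpr h1

end Local

section Cover

variable (Z : Set X) (F : X.Modules) {ι : Type u} (V : ι → X.Opens) (hV : iSup V = ⊤)

include hV in
theorem res_injective_of_cover (U : X.Opens)
    (h : ∀ (i : ι) (W : X.Opens), W ≤ V i →
      Function.Injective (res F (inf_le_left : W ⊓ U ≤ W))) (W : X.Opens) :
    Function.Injective (res F (inf_le_left : W ⊓ U ≤ W)) := by
  intro s s' hss
  apply TopCat.Presheaf.section_ext ⟨F.presheaf, F.isSheaf⟩ W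
  intro x hx
  have hxV : x ∈ iSup V := by rw [hV]; trivial
  obtain ⟨i, hxi⟩ := Opens.mem_iSup.mp hxV
  have hWi : W ⊓ V i ≤ V i := inf_le_right
  have e : res F (inf_le_left : W ⊓ V i ≤ W) s = res F (inf_le_left : W ⊓ V i ≤ W) s' := by
    apply h i (W ⊓ V i) hWi
    rw [res_res, res_res]
    have hle : (W ⊓ V i) ⊓ U ≤ W ⊓ U := inf_le_inf_right U inf_le_left
    rw [← res_res F hle (inf_le_left : W ⊓ U ≤ W) s, ← res_res F hle (inf_le_left : W ⊓ U ≤ W) s', hss]
  have hx' : x ∈ W ⊓ V i := ⟨hx, hxi⟩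
  have h1 := congrArg (F.presheaf.germ (W ⊓ V i) x hx') e
  rw [germ_res, germ_res] at h1
  exact h1

include hV in
theorem res_bijective_of_cover (U : X.Opens)
    (h : ∀ (i : ι) (W : X.Opens), W ≤ V i →
      Function.Bijective (res F (inf_le_left : W ⊓ U ≤ W))) (W : X.Opens) :
    Function.Bijective (res F (inf_le_left : W ⊓ U ≤ W)) := by
  have hinj : ∀ W : X.Opens, Function.Injective (res F (inf_le_left : W ⊓ U ≤ W)) :=
    res_injective_of_cover F V hV U (fun i W hW => (h i W hW).1)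
  refine ⟨hinj W, ?_⟩
  intro t
  let Uι : ι → X.Opens := fun i => W ⊓ V i
  have hle : ∀ i : ι, Uι i ⊓ U ≤ W ⊓ U := fun i => inf_le_inf_right U inf_le_left
  have hex : ∀ i : ι, ∃ z : Γ(F, Uι i), res F inf_le_left z = res F (hle i) t := fun i =>
    (h i (Uι i) inf_le_right).2 _
  choose sf hsf using hex
  have hcompat : TopCat.Presheaf.IsCompatible F.presheaf Uι sf := by
    intro i j
    apply hinj (Uι i ⊓ Uι j)
    have e1 : res F (inf_le_left : (Uι i ⊓ Uι j) ⊓ U ≤ Uι i ⊓ Uι j)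
        (F.presheaf.map (Opens.infLELeft (Uι i) (Uι j)).op (sf i)) =
        res F (inf_le_inf_right U (inf_le_left.trans inf_le_left)) t := by
      have : F.presheaf.map (Opens.infLELeft (Uι i) (Uι j)).op (sf i) =
          res F (inf_le_left : Uι i ⊓ Uι j ≤ Uι i) (sf i) := rfl
      rw [this, res_res,
        ← res_res F (inf_le_inf_right U inf_le_left : (Uι i ⊓ Uι j) ⊓ U ≤ Uι i ⊓ U) inf_le_left,
        hsf i, res_res]
    have e2 : res F (inf_le_left : (Uι i ⊓ Uι j) ⊓ U ≤ Uι i ⊓ Uι j)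
        (F.presheaf.map (Opens.infLERight (Uι i) (Uι j)).op (sf j)) =
        res F (inf_le_inf_right U (inf_le_left.trans inf_le_left)) t := by
      have : F.presheaf.map (Opens.infLERight (Uι i) (Uι j)).op (sf j) =
          res F (inf_le_right : Uι i ⊓ Uι j ≤ Uι j) (sf j) := rfl
      rw [this, res_res,
        ← res_res F (inf_le_inf_right U inf_le_right : (Uι i ⊓ Uι j) ⊓ U ≤ Uι j ⊓ U) inf_le_left,
        hsf j, res_res]
    exact e1.trans e2.symm
  have hcover : W ≤ iSup Uι := by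
    intro x hx
    have hxV : x ∈ iSup V := by rw [hV]; trivial
    obtain ⟨i, hxi⟩ := Opens.mem_iSup.mp hxV
    exact Opens.mem_iSup.mpr ⟨i, hx, hxi⟩
  obtain ⟨z, hz, -⟩ := TopCat.Sheaf.existsUnique_gluing' (⟨F.presheaf, F.isSheaf⟩ :
    TopCat.Sheaf AddCommGrpCat X) Uι W (fun i => homOfLE inf_le_left) hcover sf hcompat
  refine ⟨z, ?_⟩
  apply TopCat.Presheaf.section_ext ⟨F.presheaf, F.isSheaf⟩ (W ⊓ U)
  intro x hx
  have hxV : x ∈ iSup V := by rw [hV]; trivial
  obtain ⟨i, hxi⟩ := Opens.mem_iSup.mp hxV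
  have hxi' : x ∈ Uι i ⊓ U := ⟨⟨hx.1, hxi⟩, hx.2⟩
  have hzi : res F (inf_le_left : Uι i ≤ W) z = sf i := hz i
  have h1 : F.presheaf.germ (W ⊓ U) x hx (res F inf_le_left z) =
      F.presheaf.germ (Uι i ⊓ U) x hxi' (res F inf_le_left (sf i)) := by
    rw [germ_res, germ_res, ← hzi, germ_res]
  have h2 : F.presheaf.germ (W ⊓ U) x hx t =
      F.presheaf.germ (Uι i ⊓ U) x hxi' (res F (hle i) t) := by
    rw [germ_res]
  exact h1.trans ((congrArg _ (hsf i)).trans h2.symm)

variable [IsLocallyNoetherian X] (hZ : StableUnderSpecialization Z)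

include hV hZ in
/-- **S5846** -/
theorem isZPure_iff_openCover :
    ZClos.IsZPure Z F ↔ ∀ i, ZClos.IsZPure ((V i).ι.base ⁻¹' Z) (restr (V i) F) := by
  constructor
  · intro h i
    rw [isZPure_restr_iff (V i) Z hZ F]
    intro T W _
    exact (isZPure_iff_sections' Z F).mp h T W
  · intro h
    rw [isZPure_iff_sections']
    intro T W
    apply res_injective_of_cover F V hV T.U
    intro i W' hW'
    exact (isZPure_restr_iff (V i) Z hZ F).mp (h i) T W' hW'

include hV hZ in
/-- **S5847** -/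
theorem isZClosed_iff_openCover :
    ZClos.IsZClosed Z F ↔ ∀ i, ZClos.IsZClosed ((V i).ι.base ⁻¹' Z) (restr (V i) F) := by
  constructor
  · intro h i
    rw [isZClosed_restr_iff (V i) Z hZ F]
    intro T W _
    exact (isZClosed_iff_sections' Z F).mp h T W
  · intro h
    rw [isZClosed_iff_sections']
    intro T W
    apply res_bijective_of_cover F V hV T.U
    intro i W' hW'
    exact (isZClosed_restr_iff (V i) Z hZ F).mp (h i) T W' hW'

end Cover

end Groth.Agent.Lib.ZClos5
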