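import Groth.Agent.Lib.ZClos5O
import Groth.Agent.Lib.H8LocTrans

/-!
# ZClos cluster, part P: the (S₂)-ification `H⁰_{X/Z^(2)}(F)` (S5860, S5861)
-/

set_option autoImplicit false
set_option linter.style.haveILetI false
universe u

open CategoryTheory CategoryTheory.Limits AlgebraicGeometry TopologicalSpace Opposite

namespace Groth.Agent.Lib.ZClos5

open Groth.Agent.Lib.QCohStalk Groth.Agent.Lib.H90OXModQcqs Groth.Agent.Lib.H90OXModSections
  Groth.Agent.Lib.H90OXModExt Groth.Agent.Lib.H90OXModExact Groth.Agent.Lib.H47Reflexive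
  Groth.Agent.Lib.ModStalkLin

variable {X : Scheme.{u}}

section DimGe

theorem stableUnderSpecialization_dimGe (n : ℕ) :
    StableUnderSpecialization (ZClos.dimGe X n) := by
  intro x y hxy hx
  have hx' : (n : WithBot ℕ∞) ≤ ringKrullDim (X.presheaf.stalk x) := hx
  show (n : WithBot ℕ∞) ≤ ringKrullDim (X.presheaf.stalk y)
  rw [ringKrullDim_stalk_eq_coheight] at hx' ⊢
  refine hx'.trans ?_
  have hle : y ≤ x := hxy
  exact_mod_cast Order.coheight_anti hle

/-- a point outside `Z^(2)` has a local ring of dimension `0` or `1` -/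
theorem ringKrullDim_of_not_mem_dimGe_two (x : X) (hx : x ∉ ZClos.dimGe X 2) :
    ringKrullDim (X.presheaf.stalk x) = 0 ∨ ringKrullDim (X.presheaf.stalk x) = 1 := by
  have hx' : ¬ ((2 : ℕ) : WithBot ℕ∞) ≤ ringKrullDim (X.presheaf.stalk x) := hx
  rw [ringKrullDim_stalk_eq_coheight] at hx' ⊢
  generalize Order.coheight x = c at hx' ⊢
  induction c using ENat.recTopCoe with
  | top => exact absurd (by exact_mod_cast le_top) hx'
  | coe m =>
    have hm : ¬ 2 ≤ m := fun h => hx' (by
      have h2 : ((2 : ℕ) : ℕ∞) ≤ (m : ℕ∞) := Nat.cast_le.mpr h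
      have h3 := WithBot.coe_le_coe.mpr h2
      simpa using h3)
    have : m = 0 ∨ m = 1 := by omega
    rcases this with rfl | rfl
    · left; rfl
    · right; rfl

end DimGe

section S2

variable [IsLocallyNoetherian X] (F : X.Modules) (hF : Coh.IsCoh F)

include hF in
/-- **S5860** -/
theorem hasS2_H0_dimGeTwo
    (hass : ∀ x ∈ AssSch.Ass F, ringKrullDim (X.presheaf.stalk x) ≠ 1)
    (hH : Coh.IsCoh ((ZClos.H0 (ZClos.dimGe X 2)).obj F)) (x : X) :
    min (2 : WithBot ℕ∞) (Module.supportDim (X.presheaf.stalk x)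
        (((ZClos.H0 (ZClos.dimGe X 2)).obj F).presheaf.stalk x)) ≤
      ((LocCoh.depth (X.presheaf.stalk x)
        (((ZClos.H0 (ZClos.dimGe X 2)).obj F).presheaf.stalk x) : ℕ∞) : WithBot ℕ∞) := by
  have hZ := stableUnderSpecialization_dimGe (X := X) 2
  by_cases hx : x ∈ ZClos.dimGe X 2
  · have h2 := two_le_depth_H0 (ZClos.dimGe X 2) hZ F hH x hx
    refine (min_le_left _ _).trans ?_
    have h3 := WithBot.coe_le_coe.mpr h2
    simpa using h3
  · have hc := isZClosedAt_of_not_mem (ZClos.dimGe X 2) F x hx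
    let e : F.presheaf.stalk x ≃ₗ[X.presheaf.stalk x]
        ((ZClos.H0 (ZClos.dimGe X 2)).obj F).presheaf.stalk x :=
      LinearEquiv.ofBijective (stalkLin (ZClos.rhoApp (ZClos.dimGe X 2) F) x) hc
    have hd : LocCoh.depth (X.presheaf.stalk x) (F.presheaf.stalk x) =
        LocCoh.depth (X.presheaf.stalk x)
          (((ZClos.H0 (ZClos.dimGe X 2)).obj F).presheaf.stalk x) :=
      Groth.Agent.Lib.H8LocTrans.depth_eq_of_ringEquiv (RingEquiv.refl _) e.toAddEquiv
        (fun r m => by simp)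
    have hsd := Module.supportDim_le_ringKrullDim (X.presheaf.stalk x)
      (((ZClos.H0 (ZClos.dimGe X 2)).obj F).presheaf.stalk x)
    rcases ringKrullDim_of_not_mem_dimGe_two x hx with h0 | h1
    · refine (min_le_right _ _).trans (hsd.trans ?_)
      rw [h0]
      have h3 : ((0 : ℕ∞) : WithBot ℕ∞) ≤ ((LocCoh.depth (X.presheaf.stalk x)
        (((ZClos.H0 (ZClos.dimGe X 2)).obj F).presheaf.stalk x) : ℕ∞) : WithBot ℕ∞) :=
        WithBot.coe_le_coe.mpr bot_le
      exact h3
    · have hna : ¬ Curv2.IsAssPoint F x := fun ha => hass x ha h1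
      have h1d := one_le_depth_of_not_isAssPoint F hF x hna
      refine (min_le_right _ _).trans (hsd.trans ?_)
      rw [h1, ← hd]
      have h3 := WithBot.coe_le_coe.mpr h1d
      simpa using h3

end S2

end Groth.Agent.Lib.ZClos5
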