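import Groth.Agent.Lib.ZClos5P

/-!
# ZClos cluster, part Q: the (S₂) locus (S5861)
-/

set_option autoImplicit false
set_option linter.style.haveILetI false
universe u

open CategoryTheory CategoryTheory.Limits AlgebraicGeometry TopologicalSpace Opposite

namespace Groth.Agent.Lib.ZClos5

open Groth.Agent.Lib.QCohStalk Groth.Agent.Lib.H90OXModQcqs Groth.Agent.Lib.H90OXModSections
  Groth.Agent.Lib.H90OXModExt Groth.Agent.Lib.H90OXModExact Groth.Agent.Lib.H47Reflexive
  Groth.Agent.Lib.ModStalkLin Groth.Agent.Lib.AssPoints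

variable {X : Scheme.{u}}

section SupportDim

variable (F : X.Modules) [F.IsQuasicoherent]

/-- the localization of the stalk `F_x` at a prime of `O_{X,x}` is nontrivial when the stalks of
`F` at all generizations of `x` are -/
theorem nontrivial_localizedModule_stalk (x : X)
    (hsupp : ∀ y : X, y ⤳ x → Nontrivial (F.presheaf.stalk y))
    (q : Ideal (X.presheaf.stalk x)) [q.IsPrime] :
    Nontrivial (LocalizedModule q.primeCompl (F.presheaf.stalk x)) := by
  obtain ⟨V, hV, hxV, -⟩ := exists_affine_nhds (x := x) (W := ⊤) trivial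
  letI : Algebra Γ(X, V) (X.presheaf.stalk x) := X.presheaf.algebra_section_stalk ⟨x, hxV⟩
  letI := moduleSectionStalk F (⟨x, hxV⟩ : V)
  haveI := isScalarTower_sectionStalk F (⟨x, hxV⟩ : V)
  haveI : IsLocalizedModule (hV.primeIdealOf ⟨x, hxV⟩).asIdeal.primeCompl
      (germLinear F (⟨x, hxV⟩ : V)) := isLocalizedModule_germ F hV ⟨x, hxV⟩
  haveI := hV.isLocalization_stalk ⟨x, hxV⟩
  -- the generization `y` of `x` corresponding to `q`
  let Q₀ : PrimeSpectrum Γ(X, V) := ⟨q.comap (algebraMap Γ(X, V) (X.presheaf.stalk x)), inferInstance⟩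
  let y : X := hV.fromSpec Q₀
  have hyV : y ∈ V := fromSpec_mem hV Q₀
  have hprime : hV.primeIdealOf ⟨y, hyV⟩ = Q₀ := primeIdealOf_fromSpec hV Q₀
  have hyx : y ⤳ x := by
    apply (primeIdealOf_le_iff hV ⟨y, hyV⟩ ⟨x, hxV⟩).mp
    rw [hprime]
    have h1 : q ≤ IsLocalRing.maximalIdeal (X.presheaf.stalk x) :=
      IsLocalRing.le_maximalIdeal (Ideal.IsPrime.ne_top inferInstance)
    have h2 := Ideal.comap_mono (f := algebraMap Γ(X, V) (X.presheaf.stalk x)) h1
    have h3 : (IsLocalRing.maximalIdeal (X.presheaf.stalk x)).comap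
        (algebraMap Γ(X, V) (X.presheaf.stalk x)) = (hV.primeIdealOf ⟨x, hxV⟩).asIdeal :=
      IsLocalization.AtPrime.under_maximalIdeal (X.presheaf.stalk x)
        (hV.primeIdealOf ⟨x, hxV⟩).asIdeal
    rw [h3] at h2
    exact h2
  haveI := hsupp y hyx
  -- both `(F_x)_q` and `F_y` are localizations of `Γ(F, V)` at `Q₀`
  haveI : IsScalarTower Γ(X, V) (X.presheaf.stalk x) (Localization.AtPrime q) := inferInstance
  obtain ⟨-, h2⟩ := Groth.Agent.Lib.H8LocTrans.isLocalizedModule_comp
    (hV.primeIdealOf ⟨x, hxV⟩).asIdeal.primeCompl (X.presheaf.stalk x)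
    (germLinear F (⟨x, hxV⟩ : V)) q (Localization.AtPrime q)
    (LocalizedModule.mkLinearMap q.primeCompl (F.presheaf.stalk x))
  letI : Algebra Γ(X, V) (X.presheaf.stalk y) := X.presheaf.algebra_section_stalk ⟨y, hyV⟩
  letI := moduleSectionStalk F (⟨y, hyV⟩ : V)
  haveI := isScalarTower_sectionStalk F (⟨y, hyV⟩ : V)
  have h3 : IsLocalizedModule (hV.primeIdealOf ⟨y, hyV⟩).asIdeal.primeCompl
      (germLinear F (⟨y, hyV⟩ : V)) := isLocalizedModule_germ F hV ⟨y, hyV⟩
  rw [hprime] at h3
  haveI := h3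
  haveI := h2
  let e := IsLocalizedModule.linearEquiv Q₀.asIdeal.primeCompl (germLinear F (⟨y, hyV⟩ : V))
    (((LocalizedModule.mkLinearMap q.primeCompl (F.presheaf.stalk x)).restrictScalars
      Γ(X, V)).comp (germLinear F (⟨x, hxV⟩ : V)))
  exact e.symm.toEquiv.nontrivial

/-- the stalk of a quasi-coherent module with full support has support dimension `dim O_{X,x}` -/
theorem supportDim_stalk_eq (x : X)
    (hsupp : ∀ y : X, y ⤳ x → Nontrivial (F.presheaf.stalk y)) :
    Module.supportDim (X.presheaf.stalk x) (F.presheaf.stalk x) =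
      ringKrullDim (X.presheaf.stalk x) := by
  have huniv : Module.support (X.presheaf.stalk x) (F.presheaf.stalk x) = Set.univ := by
    rw [Set.eq_univ_iff_forall]
    intro q
    rw [Module.mem_support_iff]
    exact nontrivial_localizedModule_stalk F x hsupp q.asIdeal
  unfold Module.supportDim
  rw [huniv, Order.krullDim_eq_of_orderIso
    (OrderIso.Set.univ (α := PrimeSpectrum (X.presheaf.stalk x)))]
  rfl

end SupportDim

section S2Locus

variable [IsLocallyNoetherian X] (F : X.Modules) (hF : Coh.IsCoh F)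
  (hsupp : ∀ x : X, Nontrivial (F.presheaf.stalk x))
  (hass : ∀ x ∈ AssSch.Ass F, ringKrullDim (X.presheaf.stalk x) ≠ 1)

include hF hsupp hass in
/-- under the hypotheses of S5861, `(S₂)` at a point means depth at least 2 when the local ring
has dimension at least 2 -/
theorem s2_iff (x : X) :
    min (2 : WithBot ℕ∞) (Module.supportDim (X.presheaf.stalk x) (F.presheaf.stalk x)) ≤
        ((LocCoh.depth (X.presheaf.stalk x) (F.presheaf.stalk x) : ℕ∞) : WithBot ℕ∞) ↔
      (x ∈ ZClos.dimGe X 2 →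
        (2 : ℕ∞) ≤ LocCoh.depth (X.presheaf.stalk x) (F.presheaf.stalk x)) := by
  haveI : F.IsQuasicoherent := hF.1
  have hsd := supportDim_stalk_eq F x (fun y _ => hsupp y)
  constructor
  · intro h hx
    have hx' : ((2 : ℕ) : WithBot ℕ∞) ≤ ringKrullDim (X.presheaf.stalk x) := hx
    rw [hsd, min_eq_left (by simpa using hx')] at h
    have h' : ((2 : ℕ∞) : WithBot ℕ∞) ≤
        ((LocCoh.depth (X.presheaf.stalk x) (F.presheaf.stalk x) : ℕ∞) : WithBot ℕ∞) := by
      simpa using h
    exact WithBot.coe_le_coe.mp h'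
  · intro h
    by_cases hx : x ∈ ZClos.dimGe X 2
    · refine (min_le_left _ _).trans ?_
      have h3 := WithBot.coe_le_coe.mpr (h hx)
      simpa using h3
    · rw [hsd]
      rcases ringKrullDim_of_not_mem_dimGe_two x hx with h0 | h1
      · refine (min_le_right _ _).trans ?_
        rw [h0]
        exact WithBot.coe_le_coe.mpr bot_le
      · have hna : ¬ Curv2.IsAssPoint F x := fun ha => hass x ha h1
        have h1d := one_le_depth_of_not_isAssPoint F hF x hna
        refine (min_le_right _ _).trans ?_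
        rw [h1]
        have h3 := WithBot.coe_le_coe.mpr h1d
        simpa using h3

include hF hsupp hass in
/-- **S5861** -/
theorem isOpen_S2_locus (hH : Coh.IsCoh ((ZClos.H0 (ZClos.dimGe X 2)).obj F)) :
    IsOpen {x : X | ∀ x' : X, x' ⤳ x →
        min (2 : WithBot ℕ∞) (Module.supportDim (X.presheaf.stalk x') (F.presheaf.stalk x')) ≤
          ((LocCoh.depth (X.presheaf.stalk x') (F.presheaf.stalk x') : ℕ∞) : WithBot ℕ∞)} ∧
      ∀ x : X, (¬ ∀ x' : X, x' ⤳ x →
        min (2 : WithBot ℕ∞) (Module.supportDim (X.presheaf.stalk x') (F.presheaf.stalk x')) ≤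
          ((LocCoh.depth (X.presheaf.stalk x') (F.presheaf.stalk x') : ℕ∞) : WithBot ℕ∞)) →
        (2 : WithBot ℕ∞) ≤ ringKrullDim (X.presheaf.stalk x) := by
  have hZ := stableUnderSpecialization_dimGe (X := X) 2
  obtain ⟨U, hU, hUZ, -, -⟩ := exists_open_depth_locus (ZClos.dimGe X 2) hZ F hF hH
  have hset : {x : X | ∀ x' : X, x' ⤳ x →
        min (2 : WithBot ℕ∞) (Module.supportDim (X.presheaf.stalk x') (F.presheaf.stalk x')) ≤
          ((LocCoh.depth (X.presheaf.stalk x') (F.presheaf.stalk x') : ℕ∞) : WithBot ℕ∞)} =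
      (U : Set X) := by
    rw [hU]
    ext x
    constructor
    · intro h x' hx' hx'Z
      exact (s2_iff F hF hsupp hass x').mp (h x' hx') hx'Z
    · intro h x' hx'
      exact (s2_iff F hF hsupp hass x').mpr (h x' hx')
  refine ⟨by rw [hset]; exact U.2, fun x hx => ?_⟩
  have hxU : x ∈ (U : Set X)ᶜ := by
    intro hxU
    rw [← hset] at hxU
    exact hx hxU
  have := hUZ hxU
  exact this

end S2Locus

end Groth.Agent.Lib.ZClos5
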