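import Groth.Agent.Lib.ZClos5Q
import Groth.Agent.Lib.H8CM
import Mathlib.RingTheory.Ideal.AssociatedPrime.Localization

/-!
# ZClos cluster, part R: codimension of `Z` in the closures of the associated points (S5858)
-/

set_option autoImplicit false
set_option linter.style.haveILetI false
universe u

open CategoryTheory CategoryTheory.Limits AlgebraicGeometry TopologicalSpace Opposite

namespace Groth.Agent.Lib.ZClos5

open Groth.Agent.Lib.QCohStalk Groth.Agent.Lib.H90OXModQcqs Groth.Agent.Lib.H90OXModSections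
  Groth.Agent.Lib.H90OXModExt Groth.Agent.Lib.H90OXModExact Groth.Agent.Lib.H47Reflexive
  Groth.Agent.Lib.ModStalkLin Groth.Agent.Lib.AssPoints

variable {X : Scheme.{u}}

section AssSpecialize

variable [IsLocallyNoetherian X] (G : X.Modules) [G.IsQuasicoherent]

/-- if `x` is an associated point of the quasi-coherent module `G` and `x ⤳ y`, the prime of
`O_{X,y}` corresponding to `x` is an associated prime of the stalk `G_y` -/
theorem comap_stalkSpecializes_mem_associatedPrimes {x y : X} (h : x ⤳ y)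
    (hx : Curv2.IsAssPoint G x) :
    (IsLocalRing.maximalIdeal (X.presheaf.stalk x)).comap (X.presheaf.stalkSpecializes h).hom ∈
      associatedPrimes (X.presheaf.stalk y) (G.presheaf.stalk y) := by
  obtain ⟨V, hV, hyV, -⟩ := exists_affine_nhds (x := y) (W := ⊤) trivial
  have hxV : x ∈ V := h.mem_open V.2 hyV
  haveI : IsNoetherianRing Γ(X, V) := IsLocallyNoetherian.component_noetherian ⟨V, hV⟩
  -- localization data at `x`
  letI ax : Algebra Γ(X, V) (X.presheaf.stalk x) := X.presheaf.algebra_section_stalk ⟨x, hxV⟩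
  letI := moduleSectionStalk G (⟨x, hxV⟩ : V)
  haveI := isScalarTower_sectionStalk G (⟨x, hxV⟩ : V)
  haveI : IsLocalizedModule (hV.primeIdealOf ⟨x, hxV⟩).asIdeal.primeCompl
      (germLinear G (⟨x, hxV⟩ : V)) := isLocalizedModule_germ G hV ⟨x, hxV⟩
  haveI := hV.isLocalization_stalk ⟨x, hxV⟩
  have hB : (IsLocalRing.maximalIdeal (X.presheaf.stalk x)).comap
      (algebraMap Γ(X, V) (X.presheaf.stalk x)) ∈ associatedPrimes Γ(X, V) Γ(G, V) :=
    Module.associatedPrimes.comap_mem_associatedPrimes_of_mem_associatedPrimes_of_isLocalizedModule_of_fg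
      (hV.primeIdealOf ⟨x, hxV⟩).asIdeal.primeCompl (germLinear G (⟨x, hxV⟩ : V))
      (IsLocalRing.maximalIdeal (X.presheaf.stalk x)) hx
      ((isNoetherianRing_iff_ideal_fg Γ(X, V)).mp inferInstance _)
  -- localization data at `y`
  letI ay : Algebra Γ(X, V) (X.presheaf.stalk y) := X.presheaf.algebra_section_stalk ⟨y, hyV⟩
  letI := moduleSectionStalk G (⟨y, hyV⟩ : V)
  haveI := isScalarTower_sectionStalk G (⟨y, hyV⟩ : V)
  haveI : IsLocalizedModule (hV.primeIdealOf ⟨y, hyV⟩).asIdeal.primeCompl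
      (germLinear G (⟨y, hyV⟩ : V)) := isLocalizedModule_germ G hV ⟨y, hyV⟩
  haveI := hV.isLocalization_stalk ⟨y, hyV⟩
  apply Module.associatedPrimes.mem_associatedPrimes_of_comap_mem_associatedPrimes_of_isLocalizedModule
    (hV.primeIdealOf ⟨y, hyV⟩).asIdeal.primeCompl (germLinear G (⟨y, hyV⟩ : V))
  rw [Ideal.comap_comap]
  have hcomp : (X.presheaf.stalkSpecializes h).hom.comp
      (algebraMap Γ(X, V) (X.presheaf.stalk y)) = algebraMap Γ(X, V) (X.presheaf.stalk x) := by
    ext s
    exact ConcreteCategory.congr_hom (X.presheaf.germ_stalkSpecializes (U := V) hyV h) s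
  rw [hcomp]
  exact hB

end AssSpecialize

section Main

variable [IsLocallyNoetherian X] (Z : Set X) (hZ : StableUnderSpecialization Z)
  (F : X.Modules) (hF : Coh.IsCoh F)

include hZ in
/-- **S5858** -/
theorem two_le_dim_quot_of_ass_of_isCoh_H0 (hH : Coh.IsCoh ((ZClos.H0 Z).obj F))
    (x : X) (hx : x ∈ AssSch.Ass F) (hxZ : x ∉ Z) (y : X) (hy : y ∈ Z) (h : x ⤳ y) :
    (2 : WithBot ℕ∞) ≤ ringKrullDim (X.presheaf.stalk y ⧸
      (IsLocalRing.maximalIdeal (X.presheaf.stalk x)).comap
        (X.presheaf.stalkSpecializes h).hom) := by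
  haveI : ((ZClos.H0 Z).obj F).IsQuasicoherent := hH.1
  -- `x` is an associated point of `H0 F`
  have hc := isZClosedAt_of_not_mem Z F x hxZ
  let e : F.presheaf.stalk x ≃ₗ[X.presheaf.stalk x] ((ZClos.H0 Z).obj F).presheaf.stalk x :=
    LinearEquiv.ofBijective (stalkLin (ZClos.rhoApp Z F) x) hc
  have hx' : IsLocalRing.maximalIdeal (X.presheaf.stalk x) ∈
      associatedPrimes (X.presheaf.stalk x) (F.presheaf.stalk x) := hx
  rw [LinearEquiv.AssociatedPrimes.eq e] at hx'
  have hp := comap_stalkSpecializes_mem_associatedPrimes ((ZClos.H0 Z).obj F) h hx'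
  haveI := Groth.Agent.Lib.CohFinite.finite_stalk_of_isCoh _ hH y
  haveI : Nontrivial (((ZClos.H0 Z).obj F).presheaf.stalk y) := by
    by_contra hn
    rw [not_nontrivial_iff_subsingleton] at hn
    rw [associatedPrimes.eq_empty_of_subsingleton] at hp
    exact hp
  have h1 := Groth.Agent.Lib.H8CM.depth_le_ringKrullDim_quotient hp
  have h2 := two_le_depth_H0 Z hZ F hH y hy
  refine le_trans ?_ h1
  have h3 := WithBot.coe_le_coe.mpr h2
  simpa using h3

end Main

end Groth.Agent.Lib.ZClos5
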