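import Groth.Agent.Lib.ZClos5R
import Groth.Agent.Lib.FlatBaseChangeQcqs
import Groth.Agent.Lib.H72PullbackDescent

/-!
# ZClos cluster, part S: flat base change for the Z-closure (S5853)
-/

set_option autoImplicit false
set_option linter.style.haveILetI false
universe u

open CategoryTheory CategoryTheory.Limits AlgebraicGeometry TopologicalSpace Opposite

namespace Groth.Agent.Lib.ZClos5

open Groth.Agent.Lib.QCohStalk Groth.Agent.Lib.H90OXModQcqs Groth.Agent.Lib.H90OXModSections
  Groth.Agent.Lib.H90OXModExt Groth.Agent.Lib.H90OXModExact Groth.Agent.Lib.H47Reflexive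
  Groth.Agent.Lib.ModStalkLin Groth.Agent.Lib.AssPoints

section Top

variable {α β : Type*} [TopologicalSpace α] [TopologicalSpace β]

/-- For a continuous map `f`, a Noetherian quasi-sober subspace `N` of the source and a relatively
closed subset `C` of `N` whose image lies in a specialization-stable set `Z`, the closure of the
image of `C` lies in `Z`. -/
theorem closure_image_subset_of_stable_of_noetherian (f : α → β) (hf : Continuous f)
    (Z : Set β) (hZ : StableUnderSpecialization Z)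
    (N : Set α) [NoetherianSpace N] [QuasiSober N] (C : Set α) (hCN : C ⊆ N)
    (hC : IsClosed (Subtype.val ⁻¹' C : Set N)) (hCZ : f '' C ⊆ Z) : closure (f '' C) ⊆ Z := by
  obtain ⟨𝒮, hfin, hcl, hirr, hS⟩ := NoetherianSpace.exists_finite_set_isClosed_irreducible hC
  have hCeq : C = ⋃ t ∈ 𝒮, Subtype.val '' t := by
    ext x
    constructor
    · intro hx
      have hx' : (⟨x, hCN hx⟩ : N) ∈ (Subtype.val ⁻¹' C : Set N) := hx
      rw [hS] at hx'
      obtain ⟨t, ht, hxt⟩ := hx'
      exact Set.mem_iUnion₂.mpr ⟨t, ht, ⟨_, hxt, rfl⟩⟩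
    · intro hx
      obtain ⟨t, ht, ⟨y, hyt, rfl⟩⟩ := Set.mem_iUnion₂.mp hx
      have : y ∈ (Subtype.val ⁻¹' C : Set N) := by rw [hS]; exact ⟨t, ht, hyt⟩
      exact this
  have himg : f '' C = ⋃ t ∈ 𝒮, f '' (Subtype.val '' t) := by
    rw [hCeq, Set.image_iUnion₂]
  rw [himg, hfin.closure_biUnion]
  intro y hy
  obtain ⟨t, ht, hyt⟩ := Set.mem_iUnion₂.mp hy
  obtain ⟨η, hη⟩ := QuasiSober.sober (hirr t ht) (hcl t ht)
  have hηt : η ∈ t := by rw [← hη.def]; exact subset_closure rfl
  have hηC : (η : α) ∈ C := by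
    have : η ∈ (Subtype.val ⁻¹' C : Set N) := by rw [hS]; exact ⟨t, ht, hηt⟩
    exact this
  have h1 : Subtype.val '' t ⊆ closure {(η : α)} := by
    rw [← hη.def]
    refine (image_closure_subset_closure_image continuous_subtype_val).trans ?_
    rw [Set.image_singleton]
  have h1' : f '' (Subtype.val '' t) ⊆ closure {f (η : α)} := by
    refine (Set.image_mono h1).trans ?_
    refine (image_closure_subset_closure_image hf).trans ?_
    rw [Set.image_singleton]
  have h2 : y ∈ closure {f (η : α)} := closure_minimal h1' isClosed_closure hyt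
  exact hZ (specializes_iff_mem_closure.mpr h2) (hCZ ⟨_, hηC, rfl⟩)

end Top

variable {X : Scheme.{u}}

section UnitPush

/-- the unit `M ⟶ j_*(M|_U)` is an isomorphism on modules of the form `M = j_* P` -/
theorem isIso_unit_pushforward (U : X.Opens) (P : U.toScheme.Modules) :
    IsIso ((ZClos.resPushUnit U).app ((Scheme.Modules.pushforward U.ι).obj P)) := by
  refine Scheme.Modules.Hom.isIso_iff_isIso_app.mpr fun V => ?_
  rw [ZClos.resPushUnit_app_app]
  have e : U.ι ⁻¹ᵁ (U.ι ''ᵁ U.ι ⁻¹ᵁ V) = U.ι ⁻¹ᵁ V := U.ι.preimage_image_eq _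
  have hmap : ((Scheme.Modules.pushforward U.ι).obj P).presheaf.map
      (homOfLE (U.ι.image_preimage_le V)).op =
      P.presheaf.map (eqToHom e).op := rfl
  rw [hmap]
  haveI : IsIso (eqToHom e).op := inferInstance
  exact Functor.map_isIso P.presheaf (eqToHom e).op

end UnitPush

section FlatPull

open Groth.Agent.Lib.AffineBaseChange Groth.Agent.Lib.FlatBaseChangeQcqs

variable {X' : Scheme.{u}} [IsLocallyNoetherian X] (f : X' ⟶ X) [Flat f]

/-- if the unit `G ⟶ j_*(G|_U)` is an isomorphism for a quasi-coherent `G`, so is the unit of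
`f^*G` for the open `f⁻¹U`, when `f` is flat (flat base change) -/
theorem isIso_unit_pullback (G : X.Modules) [G.IsQuasicoherent] (U : X.Opens)
    (hG : IsIso ((ZClos.resPushUnit U).app G)) :
    IsIso ((ZClos.resPushUnit (f ⁻¹ᵁ U)).app ((Scheme.Modules.pullback f).obj G)) := by
  let P : U.toScheme.Modules := (Scheme.Modules.restrictFunctor U.ι).obj G
  haveI : P.IsQuasicoherent := inferInstance
  have hpb : IsPullback (f ∣_ U) (f ⁻¹ᵁ U).ι U.ι f := isPullback_morphismRestrict f U
  haveI := isIso_uMap_of_flat U.ι f (f ∣_ U) (f ⁻¹ᵁ U).ι hpb P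
  let α : (Scheme.Modules.pullback f).obj G ≅
      (Scheme.Modules.pushforward (f ⁻¹ᵁ U).ι).obj ((Scheme.Modules.pullback (f ∣_ U)).obj P) :=
    (Scheme.Modules.pullback f).mapIso (asIso ((ZClos.resPushUnit U).app G)) ≪≫
      asIso (uMap U.ι f (f ∣_ U) (f ⁻¹ᵁ U).ι hpb P)
  have hnat := (ZClos.resPushUnit (f ⁻¹ᵁ U)).naturality α.hom
  haveI := isIso_unit_pushforward (f ⁻¹ᵁ U) ((Scheme.Modules.pullback (f ∣_ U)).obj P)
  haveI : IsIso ((ZClos.resPushUnit (f ⁻¹ᵁ U)).app ((Scheme.Modules.pullback f).obj G) ≫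
      (ZClos.resPush (f ⁻¹ᵁ U)).map α.hom) := by
    rw [← hnat]
    infer_instance
  exact IsIso.of_isIso_comp_right _ ((ZClos.resPush (f ⁻¹ᵁ U)).map α.hom)

variable [IsLocallyNoetherian X'] (Z : Set X) (hZ : StableUnderSpecialization Z)

omit [IsLocallyNoetherian X] [Flat f] in
include hZ in
/-- every closed subset of `X'` inside `f⁻¹Z` is, on a compact open `V'`, inside the preimage of a
closed subset of `X` inside `Z` -/
theorem exists_cl_preimage (T' : ZClos.Cl (f.base ⁻¹' Z)) (V' : X'.Opens)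
    (hV' : IsCompact (V' : Set X')) :
    ∃ T : ZClos.Cl Z, ∀ x' : X', x' ∈ V' → x' ∈ (T'.1 : Set X') → f.base x' ∈ (T.1 : Set X) := by
  have h1 : CompactSpace (V' : Set X') := isCompact_iff_compactSpace.mp hV'
  have h2 : CompactSpace (V' : Scheme) := h1
  have : IsNoetherian (V' : Scheme) := {}
  have h3 : NoetherianSpace (V' : Scheme) := inferInstance
  haveI h4 : NoetherianSpace (V' : Set X') := h3
  haveI hs : QuasiSober (V' : Set X') := inferInstanceAs (QuasiSober (V' : Scheme))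
  let C : Set X' := (T'.1 : Set X') ∩ V'
  have hcl : closure (f.base '' C) ⊆ Z := by
    apply closure_image_subset_of_stable_of_noetherian f.base f.base.hom.2 Z hZ (V' : Set X') C
      Set.inter_subset_right
    · have : (Subtype.val ⁻¹' C : Set (V' : Set X')) = Subtype.val ⁻¹' (T'.1 : Set X') := by
        ext x
        constructor
        · intro hx; exact hx.1
        · intro hx; exact ⟨hx, x.2⟩
      rw [this]
      exact T'.1.2.preimage continuous_subtype_val
    · rintro _ ⟨x, hx, rfl⟩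
      exact T'.2 hx.1
  exact ⟨⟨⟨closure (f.base '' C), isClosed_closure⟩, hcl⟩,
    fun x' hxV hxT => subset_closure ⟨x', ⟨hxT, hxV⟩, rfl⟩⟩

include hZ in
/-- the inverse image under a flat morphism of a Z-closed quasi-coherent module is
`f⁻¹(Z)`-closed -/
theorem isZClosed_pullback (G : X.Modules) [G.IsQuasicoherent] (hG : ZClos.IsZClosed Z G) :
    ZClos.IsZClosed (f.base ⁻¹' Z) ((Scheme.Modules.pullback f).obj G) := by
  set N := (Scheme.Modules.pullback f).obj G with hN
  rw [isZClosed_iff_sections]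
  intro T' V' hV'
  obtain ⟨T, hT⟩ := exists_cl_preimage f Z hZ T' V' hV'
  have hiso : IsIso ((ZClos.resPushUnit (f ⁻¹ᵁ T.U)).app N) :=
    isIso_unit_pullback f G T.U ((isZClosed_iff Z G).mp hG T)
  have hbij : ∀ W : X'.Opens, Function.Bijective (res N (inf_le_left : W ⊓ f ⁻¹ᵁ T.U ≤ W)) := by
    intro W
    have h0 : IsIso (((ZClos.resPushUnit (f ⁻¹ᵁ T.U)).app N).app W) := inferInstance
    have h1 : Function.Bijective (res N (UV_le_right (f ⁻¹ᵁ T.U) W)) :=
      (ConcreteCategory.isIso_iff_bijective _).mp h0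
    exact (res_bij_congr N _ _ (UV_eq' (f ⁻¹ᵁ T.U) W)).mp h1
  -- `V' ⊓ f⁻¹(T.U) ≤ V' ⊓ T'.U`
  have hle : V' ⊓ f ⁻¹ᵁ T.U ≤ V' ⊓ T'.U := by
    intro x' hx'
    refine ⟨hx'.1, fun hxT => hx'.2 (hT x' hx'.1 hxT)⟩
  have heq : (V' ⊓ T'.U) ⊓ f ⁻¹ᵁ T.U = V' ⊓ f ⁻¹ᵁ T.U := by
    apply le_antisymm
    · exact le_inf (inf_le_left.trans inf_le_left) inf_le_right
    · exact le_inf hle inf_le_right
  have hb := hbij (V' ⊓ T'.U)
  have hc : Function.Bijective (res N
      ((inf_le_left : (V' ⊓ T'.U) ⊓ f ⁻¹ᵁ T.U ≤ V' ⊓ T'.U).trans inf_le_left)) :=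
    (res_bij_congr N _ _ heq).mpr (hbij V')
  have hcomp : (res N (inf_le_left : (V' ⊓ T'.U) ⊓ f ⁻¹ᵁ T.U ≤ V' ⊓ T'.U)) ∘
      (res N (inf_le_left : V' ⊓ T'.U ≤ V')) =
      res N ((inf_le_left : (V' ⊓ T'.U) ⊓ f ⁻¹ᵁ T.U ≤ V' ⊓ T'.U).trans inf_le_left) := by
    funext s
    exact res_res N _ _ s
  rw [← hcomp] at hc
  exact (Function.Bijective.of_comp_iff' hb _).mp hc

open Groth.Agent.Lib.H72PullbackDescent in
include hZ in
/-- **S5853**: flat base change for the Z-closure -/
theorem nonempty_pullback_H0_iso (F : X.Modules) [F.IsQuasicoherent] :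
    Nonempty ((Scheme.Modules.pullback f).obj ((ZClos.H0 Z).obj F) ≅
      (ZClos.H0 (f.base ⁻¹' Z)).obj ((Scheme.Modules.pullback f).obj F)) := by
  haveI : ((ZClos.H0 Z).obj F).IsQuasicoherent := isQuasicoherent_H0 Z F
  have hZ' : StableUnderSpecialization (f.base ⁻¹' Z) := hZ.preimage f.base.hom.2
  have hclosed : ZClos.IsZClosed (f.base ⁻¹' Z)
      ((Scheme.Modules.pullback f).obj ((ZClos.H0 Z).obj F)) :=
    isZClosed_pullback f Z hZ _ (isZClosed_H0 Z F)
  let u : (Scheme.Modules.pullback f).obj F ⟶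
      (Scheme.Modules.pullback f).obj ((ZClos.H0 Z).obj F) :=
    (Scheme.Modules.pullback f).map (ZClos.rhoApp Z F)
  obtain ⟨v, hv, -⟩ := existsUnique_desc (f.base ⁻¹' Z) hclosed u
  have hiso : IsIso v := by
    apply isIso_of_rhoApp_comp (f.base ⁻¹' Z) hZ' hclosed u ?_ v hv
    intro x' hx'
    have hy : f.base x' ∉ Z := hx'
    have hb : Function.Bijective (stalkLin (ZClos.rhoApp Z F) (f.base x')) :=
      isZClosedAt_of_not_mem Z F (f.base x') hy
    have h1 : Function.Injective (stalkLin u x') :=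
      stalkLin_pullback_injective_of_flat f (ZClos.rhoApp Z F) x' (Flat.stalkMap f x') hb.1
    have h2 : Function.Surjective (stalkLin u x') :=
      stalkLin_pullback_surjective f (ZClos.rhoApp Z F) x' hb.2
    exact ⟨h1, h2⟩
  exact ⟨(asIso v).symm⟩

end FlatPull

end Groth.Agent.Lib.ZClos5
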