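import Groth.Agent.Lib.ZCohBridge53g

/-!
# Coherence of `H⁰_{X/Z}(F)` from coherence of the `i_*(F|X∖T)` (EGA IV 5.11.4-type) (helper53)
-/

set_option maxHeartbeats 800000
set_option linter.unusedSectionVars false
set_option linter.style.haveILetI false
universe u

open AlgebraicGeometry CategoryTheory CategoryTheory.Limits TopologicalSpace Opposite

namespace Groth.Agent.Lib.ZCohBridge53
open Groth.Agent.Lib.DevCoh53 Groth.Agent.Lib.ZClos5 Groth.Agent.Lib.NormHartogs53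
  Groth.Agent.Lib.H90OXModAffine Groth.Agent.Lib.H47Reflexive Groth.Agent.Lib.QCohStalk
  Groth.Agent.Lib.AssPoints Groth.Agent.Lib.OXModTensorQCoh

section transport
variable (R : Type u) [CommRing R] [IsNoetherianRing R]

theorem hull_of_uc_n1 (p : Ideal R) [hp : p.IsPrime] (P : Ideal R) (_hP : P.IsPrime) (h : P = p)
    (hUC : CAlg.IsUniversallyCatenary (R ⧸ P)) (hN1 : CAlg.IsN1 (R ⧸ P)) :
    EGA4.HeightOneHullFinite (R ⧸ p) := by
  subst h
  exact heightOneHullFinite (R ⧸ P) hUC hN1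

end transport

section main
variable {X : Scheme.{u}} [IsLocallyNoetherian X] (Z : Set X) (hZ : StableUnderSpecialization Z)

include hZ in
theorem isCoh_H0_of_family (F : X.Modules) (hF : Coh.IsCoh F)
    (hass : ∀ x ∈ AssSch.Ass F, x ∉ Z)
    (hX : ∀ (V : X.Opens) (hV : IsAffineOpen V) (x : X) (hxV : x ∈ V), x ∈ AssSch.Ass F →
        CAlg.IsUniversallyCatenary (Γ(X, V) ⧸ (hV.primeIdealOf ⟨x, hxV⟩).asIdeal) ∧
          CAlg.IsN1 (Γ(X, V) ⧸ (hV.primeIdealOf ⟨x, hxV⟩).asIdeal))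
    (𝒯 : Set (ZClos.Cl Z)) (hcov : ∀ z ∈ Z, ∃ T ∈ 𝒯, z ∈ (T.1 : Set X))
    (hd : ∀ T ∈ 𝒯, Coh.IsCoh ((ZClos.resPush T.U).obj F)) :
    Coh.IsCoh ((ZClos.H0 Z).obj F) := by
  haveI : F.IsQuasicoherent := hF.1
  apply isCoh_H0_of_forall_affine Z hZ F
  intro V hV
  haveI : IsNoetherianRing Γ(X, V) := IsLocallyNoetherian.component_noetherian ⟨V, hV⟩
  have hF' : Coh.IsCoh ((Scheme.Modules.pullback hV.fromSpec).obj F) :=
    isCoh_pullback hV.fromSpec F hF
  haveI : ((Scheme.Modules.pullback hV.fromSpec).obj F).IsQuasicoherent := hF'.1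
  have hfinΓ := Groth.Agent.Lib.CohFinite.finite_sections_of_isCoh _ hF'
    (isAffineOpen_top (Spec Γ(X, V)))
  haveI hM : Module.Finite Γ(X, V) (ΓSpec ((Scheme.Modules.pullback hV.fromSpec).obj F)) :=
    Groth.Agent.Lib.H90OXModTilde.finite_ΓSpec_of_finite _ hfinΓ
  let eM : tilde (ΓSpec ((Scheme.Modules.pullback hV.fromSpec).obj F)) ≅
      (Scheme.Modules.pullback hV.fromSpec).obj F := tildeΓIso _
  let eΓ : ΓSpec ((Scheme.Modules.pullback hV.fromSpec).obj F) ≃ₗ[Γ(X, V)] Γ(F, V) :=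
    (ΓSpecCongr ((Scheme.Modules.restrictFunctorIsoPullback hV.fromSpec).app F)).symm.trans
      (sectionsEquiv F hV).symm
  have hassPt : ∀ (p : Ideal Γ(X, V)) [hp : p.IsPrime],
      p ∈ associatedPrimes Γ(X, V) (ΓSpec ((Scheme.Modules.pullback hV.fromSpec).obj F)) →
        hV.fromSpec ⟨p, hp⟩ ∈ AssSch.Ass F := by
    intro p hp hpM
    rw [LinearEquiv.AssociatedPrimes.eq eΓ] at hpM
    have h1 := primeIdealOf_fromSpec hV ⟨p, hp⟩
    exact isAssPoint_of_mem_associatedPrimes F hV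
      ⟨hV.fromSpec ⟨p, hp⟩, fromSpec_mem hV ⟨p, hp⟩⟩ (by rw [h1]; exact hpM)
  have hZ' : StableUnderSpecialization (hV.fromSpec.base ⁻¹' Z) :=
    hZ.preimage hV.fromSpec.base.hom.2
  have hcore := isCoh_H0_core Γ(X, V) (hV.fromSpec.base ⁻¹' Z) hZ'
    (ΓSpec ((Scheme.Modules.pullback hV.fromSpec).obj F)) ?_ ?_ ?_
  · exact Groth.Agent.Lib.H90CohRestrict.isCoh_of_iso ((ZClos.H0 _).mapIso eM) hcore
  · intro p hp hpM hpZ
    exact hass _ (hassPt p hpM) hpZ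
  · intro p hp hpM
    have hx := hassPt p hpM
    obtain ⟨hUC, hN1⟩ := hX V hV (hV.fromSpec ⟨p, hp⟩) (fromSpec_mem hV ⟨p, hp⟩) hx
    exact hull_of_uc_n1 Γ(X, V) p _ (PrimeSpectrum.isPrime _)
      (congrArg PrimeSpectrum.asIdeal (primeIdealOf_fromSpec hV ⟨p, hp⟩)) hUC hN1
  · intro z hz
    obtain ⟨T, hT𝒯, hzT⟩ := hcov (hV.fromSpec z) hz
    refine ⟨hV.fromSpec.base ⁻¹' (T.1 : Set X), ?_, ?_, hzT, ?_⟩
    · exact (T.1.isClosed.stableUnderSpecialization).preimage hV.fromSpec.base.hom.2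
    · intro w hw
      exact T.2 hw
    · have h1 := isCoh_H0_closed_of_isCoh_resPush T.1 F (hd T hT𝒯)
      have h2 := (isCoh_H0_pullback_of_flat hV.fromSpec (T.1 : Set X)
        (T.1.isClosed.stableUnderSpecialization) F).1 h1
      exact Groth.Agent.Lib.H90CohRestrict.isCoh_of_iso ((ZClos.H0 _).mapIso eM.symm) h2

end main

end Groth.Agent.Lib.ZCohBridge53
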