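import Mathlib
import Groth.Agent.Lib.ZMTLift

/-!
# Rational maps at normal points: descent of "being defined" along universally open maps

`exists_extension_of_universallyOpen`: let `X` be an `S`-scheme, `x` a point with an integral open
neighbourhood whose local ring is integrally closed, `Y` separated and locally of finite type
over `S`, `h : U ⟶ Y` an `S`-morphism on a dense open. If `f : X'' ⟶ X` is universally open,
`x = f x''` and `h ∘ f` extends to an `S`-morphism `X'' ⟶ Y`, then `h` extends to an open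
containing `U` and `x`.
-/

set_option autoImplicit false

universe u

open CategoryTheory CategoryTheory.Limits AlgebraicGeometry TopologicalSpace IsLocalRing

namespace Groth.Agent.Lib.ZMTLift

open Groth.Agent.Lib.ExtVal

set_option maxHeartbeats 1600000 in
theorem exists_extension_of_universallyOpen {X X'' Y S : Scheme.{u}} (pX : X ⟶ S) (pY : Y ⟶ S)
    [LocallyOfFiniteType pY] [IsSeparated pY]
    (U : X.Opens) (hU : Dense (U : Set X)) (h : (U : Scheme.{u}) ⟶ Y) (hh : h ≫ pY = U.ι ≫ pX)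
    (x : X) (W₀ : X.Opens) [IsIntegral W₀] (hxW₀ : x ∈ W₀) [IsDomain (X.presheaf.stalk x)]
    (hx : IsIntegrallyClosed (X.presheaf.stalk x))
    (f : X'' ⟶ X) [UniversallyOpen f] (v'' : X'' ⟶ Y) (hv''S : v'' ≫ pY = f ≫ pX)
    (hv'' : (f ⁻¹ᵁ U).ι ≫ v'' = (f ∣_ U) ≫ h) (x'' : X'') (hx'' : f x'' = x) :
    ∃ (U' : X.Opens) (hUU' : U ≤ U') (h' : (U' : Scheme.{u}) ⟶ Y), x ∈ U' ∧
      h' ≫ pY = U'.ι ≫ pX ∧ X.homOfLE hUU' ≫ h' = h := by
  classical
  let γ : (U : Scheme.{u}) ⟶ pullback pX pY := pullback.lift U.ι h hh.symm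
  have hγ1 : γ ≫ pullback.fst pX pY = U.ι := pullback.lift_fst _ _ _
  have hγ2 : γ ≫ pullback.snd pX pY = h := pullback.lift_snd _ _ _
  let g' : X'' ⟶ pullback pX pY := pullback.lift f v'' hv''S.symm
  have hg'1 : g' ≫ pullback.fst pX pY = f := pullback.lift_fst _ _ _
  have hg'2 : g' ≫ pullback.snd pX pY = v'' := pullback.lift_snd _ _ _
  have hgraph : (f ⁻¹ᵁ U).ι ≫ g' = (f ∣_ U) ≫ γ := by
    apply pullback.hom_ext
    · rw [Category.assoc, hg'1, Category.assoc, hγ1, morphismRestrict_ι]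
    · rw [Category.assoc, hg'2, Category.assoc, hγ2, hv'']
  -- the base change of `f` to `P`
  let a : pullback f (pullback.fst pX pY) ⟶ X'' := pullback.fst f (pullback.fst pX pY)
  let b : pullback f (pullback.fst pX pY) ⟶ pullback pX pY := pullback.snd f (pullback.fst pX pY)
  have hab : a ≫ f = b ≫ pullback.fst pX pY := pullback.condition
  let σ : X'' ⟶ pullback f (pullback.fst pX pY) :=
    pullback.lift (𝟙 X'') g' (by rw [Category.id_comp, hg'1])
  have hσa : σ ≫ a = 𝟙 X'' := pullback.lift_fst _ _ _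
  have hσb : σ ≫ b = g' := pullback.lift_snd _ _ _
  haveI : IsClosedImmersion (σ ≫ a) := by rw [hσa]; infer_instance
  haveI hσcl : IsClosedImmersion σ := IsClosedImmersion.of_comp σ a
  let γ'' : ((f ⁻¹ᵁ U : X''.Opens) : Scheme.{u}) ⟶ pullback f (pullback.fst pX pY) :=
    pullback.lift (f ⁻¹ᵁ U).ι ((f ∣_ U) ≫ γ) (by rw [Category.assoc, hγ1, morphismRestrict_ι])
  have hγ''a : γ'' ≫ a = (f ⁻¹ᵁ U).ι := pullback.lift_fst _ _ _
  have hγ''b : γ'' ≫ b = (f ∣_ U) ≫ γ := pullback.lift_snd _ _ _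
  have hγ''σ : γ'' = (f ⁻¹ᵁ U).ι ≫ σ := by
    apply pullback.hom_ext
    · change γ'' ≫ a = ((f ⁻¹ᵁ U).ι ≫ σ) ≫ a
      rw [hγ''a, Category.assoc, hσa, Category.comp_id]
    · change γ'' ≫ b = ((f ⁻¹ᵁ U).ι ≫ σ) ≫ b
      rw [hγ''b, Category.assoc, hσb, hgraph]
  have hcart : IsPullback γ'' (f ∣_ U) b γ := by
    refine IsPullback.of_right ?_ hγ''b (IsPullback.of_hasPullback f (pullback.fst pX pY))
    rw [hγ1]
    change IsPullback (γ'' ≫ a) (f ∣_ U) f U.ι
    rw [hγ''a]
    exact (isPullback_morphismRestrict f U).flip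
  have hbopen : IsOpenMap b := b.isOpenMap
  have hfopen : IsOpenMap f := f.isOpenMap
  -- the generic point
  have hxU : x ∈ closure (U : Set X) := by rw [hU.closure_eq]; trivial
  have hinj : Function.Injective (algebraMap (X.presheaf.stalk x)
      (FractionRing (X.presheaf.stalk x))) := IsFractionRing.injective _ _
  obtain ⟨ξU, hξU⟩ := exists_genPt_lift x U W₀ hxW₀ hxU
  let cl : ↥(Spec (CommRingCat.of (FractionRing (X.presheaf.stalk x)))) :=
    IsLocalRing.closedPoint (FractionRing (X.presheaf.stalk x))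
  let η : U := ξU cl
  have hη : U.ι η = genPt x := by
    change U.ι (ξU cl) = _
    rw [← Scheme.Hom.comp_apply, hξU, Scheme.Hom.comp_apply, SpecMap_algebraMap_apply x hinj cl]
    rfl
  let t : Spec (CommRingCat.of (FractionRing (X.presheaf.stalk x))) ⟶ pullback pX pY := ξU ≫ γ
  have ht : t ≫ pullback.fst pX pY = Spec.map (CommRingCat.ofHom (algebraMap (X.presheaf.stalk x)
      (FractionRing (X.presheaf.stalk x)))) ≫ X.fromSpecStalk x := by
    change (ξU ≫ γ) ≫ pullback.fst pX pY = _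
    rw [Category.assoc, hγ1, hξU]
  have htcl : t cl = γ η := Scheme.Hom.comp_apply ξU γ cl
  -- points of `f ⁻¹ U` over `η` have image `γ η` under `g'`
  have hkey : ∀ e : X'', f e = genPt x → g' e = γ η := by
    intro e he
    have heU : e ∈ f ⁻¹ᵁ U := by
      change f e ∈ U
      rw [he, ← hη]; exact η.2
    let e' : ↥(f ⁻¹ᵁ U) := ⟨e, heU⟩
    have h1 : g' e = ((f ⁻¹ᵁ U).ι ≫ g') e' := by
      rw [Scheme.Hom.comp_apply]; rfl
    have h2 : (f ∣_ U) e' = η := by
      apply U.ι.isOpenEmbedding.injective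
      rw [← Scheme.Hom.comp_apply, morphismRestrict_ι, Scheme.Hom.comp_apply, hη, ← he]
      rfl
    rw [h1, hgraph, Scheme.Hom.comp_apply, h2]
  let z : ↥(pullback pX pY) := g' x''
  have hz : pullback.fst pX pY z = x := by
    change pullback.fst pX pY (g' x'') = x
    rw [← Scheme.Hom.comp_apply, hg'1, hx'']
  have hgz : t cl ⤳ z := by
    rw [htcl, specializes_iff_forall_open]
    intro N hN hzN
    have h1 : IsOpen (f '' (g' ⁻¹' N)) := hfopen _ (hN.preimage g'.continuous)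
    have h2 : x ∈ f '' (g' ⁻¹' N) := ⟨x'', hzN, hx''⟩
    have h3 : genPt x ∈ f '' (g' ⁻¹' N) := (genPt_specializes x).mem_open h1 h2
    obtain ⟨e, heN, he⟩ := h3
    rw [← hkey e he]
    exact heN
  have hiso : ∃ W : (pullback pX pY).Opens, z ∈ W ∧
      ∀ z₁ ∈ W, t cl ⤳ z₁ → pullback.fst pX pY z₁ = x → z₁ = z := by
    refine ⟨⊤, trivial, ?_⟩
    intro z₁ _ hspec hz₁
    rw [htcl] at hspec
    obtain ⟨z₁', hz₁'a, hz₁'b⟩ := Scheme.Pullback.exists_preimage_pullback (f := f)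
      (g := pullback.fst pX pY) x'' z₁ (by rw [hx'', hz₁])
    have hmem : z₁' ∈ Set.range σ := by
      have hclosed : IsClosed (Set.range σ) := σ.isClosedEmbedding.isClosed_range
      rw [← hclosed.closure_eq, mem_closure_iff]
      intro N hN hz₁'N
      have h1 : IsOpen (b '' N) := hbopen _ hN
      have h2 : z₁ ∈ b '' N := ⟨z₁', hz₁'N, hz₁'b⟩
      have h3 : γ η ∈ b '' N := hspec.mem_open h1 h2
      obtain ⟨p, hpN, hp⟩ := h3
      obtain ⟨e, he1, -⟩ := Scheme.exists_preimage_of_isPullback hcart p η hp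
      refine ⟨p, hpN, (f ⁻¹ᵁ U).ι e, ?_⟩
      rw [← he1, hγ''σ, Scheme.Hom.comp_apply]
    obtain ⟨w, hw⟩ := hmem
    have hw' : w = x'' := by
      have h1 : a (σ w) = w := by
        rw [← Scheme.Hom.comp_apply, hσa]; rfl
      rw [hw] at h1
      rw [← h1]
      exact hz₁'a
    rw [← hz₁'b, ← hw, hw', ← Scheme.Hom.comp_apply, hσb]
  obtain ⟨ψ, hψ1, hψ2⟩ := exists_lift_of_isolated (pullback.fst pX pY) x hx t ht z hz hgz hiso
  have hγ1' : γ ≫ pullback.fst pX pY = U.ι ≫ 𝟙 X := by rw [hγ1, Category.comp_id]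
  have hψ1' : ψ ≫ pullback.fst pX pY = X.fromSpecStalk x ≫ 𝟙 X := by rw [hψ1, Category.comp_id]
  obtain ⟨U', hUU', hxU', f', hf'1, hf'2⟩ := exists_extension (𝟙 X)
    (pullback.fst pX pY) x U γ hγ1' W₀ hxW₀ hinj ξU hξU ψ hψ1' hψ2
  refine ⟨U', hUU', f' ≫ pullback.snd pX pY, hxU', ?_, ?_⟩
  · rw [Category.assoc, ← pullback.condition, reassoc_of% hf'1]
  · rw [reassoc_of% hf'2, hγ2]

end Groth.Agent.Lib.ZMTLift
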