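import Groth.Agent.S0585
import Mathlib.RingTheory.LocalProperties.Projective
import Mathlib.RingTheory.Flat.FaithfullyFlat.Algebra
import Mathlib.RingTheory.Flat.Localization
import Mathlib.RingTheory.Localization.Away.Basic

set_option autoImplicit false
universe u
open TensorProduct

namespace Groth.Agent.Lib.ZariskiProjective

/-- Partition-of-unity descent of projectivity: if `S`-algebras `B i` (finitely many) admit
`S`-linear maps `σ i : B i → S` with `∑ σ i 1 = 1` and each `B i ⊗[S] N` is `B i`-projective,
then `N` is `S`-projective. -/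
theorem projective_of_partition {S : Type u} [CommRing S] {N : Type u} [AddCommGroup N] [Module S N]
    {ι : Type*} [Fintype ι] (B : ι → Type u) [∀ i, CommRing (B i)] [∀ i, Algebra S (B i)]
    (σ : ∀ i, B i →ₗ[S] S) (hσ : ∑ i, σ i 1 = 1)
    (h : ∀ i, Module.Projective (B i) (B i ⊗[S] N)) : Module.Projective S N := by
  refine Module.Projective.of_lifting_property'' fun f hf => ?_
  have key : ∀ i, ∃ hi : N →ₗ[S] (N →₀ S), f.comp hi = (σ i 1) • LinearMap.id := by
    intro i
    have := h i
    let fi : B i ⊗[S] (N →₀ S) →ₗ[B i] B i ⊗[S] N := LinearMap.baseChange (B i) f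
    have hfi : Function.Surjective fi := LinearMap.lTensor_surjective _ hf
    obtain ⟨k, hk⟩ := Module.projective_lifting_property fi LinearMap.id hfi
    let τ : ∀ (P : Type u) [AddCommGroup P] [Module S P], B i ⊗[S] P →ₗ[S] P :=
      fun P _ _ => (TensorProduct.lid S P).toLinearMap ∘ₗ LinearMap.rTensor P (σ i)
    have hτ : ∀ x : B i ⊗[S] (N →₀ S), f (τ (N →₀ S) x) = τ N (fi x) := by
      intro x
      induction x using TensorProduct.induction_on with
      | zero => simp
      | tmul b p => simp [τ, fi]
      | add x y hx hy => simp only [map_add, hx, hy]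
    refine ⟨τ (N →₀ S) ∘ₗ (k.restrictScalars S) ∘ₗ (TensorProduct.mk S (B i) N 1), ?_⟩
    ext n
    have hk' : fi (k ((1 : B i) ⊗ₜ[S] n)) = (1 : B i) ⊗ₜ[S] n := by
      have := congr($hk ((1 : B i) ⊗ₜ[S] n))
      simpa using this
    simp only [LinearMap.comp_apply, LinearMap.restrictScalars_apply, TensorProduct.mk_apply,
      LinearMap.smul_apply, LinearMap.id_apply]
    rw [hτ, hk']
    simp [τ]
  choose hi hhi using key
  refine ⟨∑ i, hi i, ?_⟩
  ext n
  have : ∀ i, f (hi i n) = σ i 1 • n := fun i => by
    have := congr($(hhi i) n)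
    simpa using this
  simp only [LinearMap.comp_apply, LinearMap.sum_apply, map_sum, this, LinearMap.id_apply]
  rw [← Finset.sum_smul, hσ, one_smul]


/-- A finite product of localizations `A_{g i}` with `(g i) = 1` is faithfully flat over `A`. -/
theorem faithfullyFlat_pi_away {A : Type u} [CommRing A] {ι : Type u} [Finite ι] (g : ι → A)
    (hg : Ideal.span (Set.range g) = ⊤) (B : ι → Type u) [∀ i, CommRing (B i)]
    [∀ i, Algebra A (B i)] [∀ i, IsLocalization.Away (g i) (B i)] :
    Module.FaithfullyFlat A (∀ i, B i) := by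
  classical
  cases nonempty_fintype ι
  have hflat : ∀ i, Module.Flat A (B i) := fun i => IsLocalization.flat (B i) (Submonoid.powers (g i))
  have : Module.Flat A (∀ i, B i) :=
    Module.Flat.of_linearEquiv (DirectSum.linearEquivFunOnFintype A ι B).symm
  refine ⟨fun m hm htop => ?_⟩
  obtain ⟨i, hi⟩ : ∃ i, g i ∉ m := by
    by_contra hcon
    push Not at hcon
    have : Ideal.span (Set.range g) ≤ m := Ideal.span_le.mpr (by rintro _ ⟨i, rfl⟩; exact hcon i)
    rw [hg] at this
    exact hm.ne_top (top_le_iff.mp this)
  have h1 : m • (⊤ : Submodule A (B i)) = ⊤ := by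
    have := congr(Submodule.map (LinearMap.proj (R := A) (φ := B) i) $htop)
    rw [Submodule.map_smul'', Submodule.map_top, LinearMap.range_eq_top.mpr
      (LinearMap.proj_surjective i)] at this
    exact this
  rw [Ideal.smul_top_eq_map] at h1
  have h2 : m.map (algebraMap A (B i)) = ⊤ := by
    rwa [Submodule.restrictScalars_eq_top_iff] at h1
  have h3 := (IsLocalization.map_algebraMap_ne_top_iff_disjoint (Submonoid.powers (g i)) (B i) m).mpr
    ((Ideal.disjoint_powers_iff_notMem (g i) hm.isPrime.isRadical).mpr hi)
  exact h3 h2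

/-- **Projectivity is Zariski local** (base-change form): if `g i` generate the unit ideal and
each `A_{g i} ⊗ M` is projective over `A_{g i}` then `M` is projective over `A`. -/
theorem projective_of_localization_span {A : Type u} [CommRing A] (M : Type u) [AddCommGroup M]
    [Module A M] {ι : Type u} [Finite ι] (g : ι → A) (hg : Ideal.span (Set.range g) = ⊤)
    (B : ι → Type u) [∀ i, CommRing (B i)] [∀ i, Algebra A (B i)]
    [∀ i, IsLocalization.Away (g i) (B i)]
    (h : ∀ i, Module.Projective (B i) (B i ⊗[A] M)) : Module.Projective A M := by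
  classical
  cases nonempty_fintype ι
  have := faithfullyFlat_pi_away g hg B
  have : Module.Projective (∀ i, B i) ((∀ i, B i) ⊗[A] M) := by
    letI : ∀ i, Algebra (∀ i, B i) (B i) := fun i => (Pi.evalRingHom B i).toAlgebra
    have : ∀ i, IsScalarTower A (∀ i, B i) (B i) := fun i =>
      IsScalarTower.of_algebraMap_eq (fun a => rfl)
    refine projective_of_partition B
      (fun i => { toFun := Pi.single i
                  map_add' := Pi.single_add i
                  map_smul' := fun s b => ?_ }) ?_ (fun i => ?_)
    · ext j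
      by_cases hj : j = i
      · subst hj; simp [Algebra.smul_def]; rfl
      · simp [hj, Algebra.smul_def]
    · exact Finset.univ_sum_single (1 : ∀ i, B i)
    · have := h i
      exact Module.Projective.of_equiv'
        (TensorProduct.AlgebraTensorModule.cancelBaseChange A (∀ i, B i) (B i) (B i) M).symm
  exact Groth.Agent.S0585.result A (∀ i, B i) M


/-- `ρ : M → N` exhibits the `B`-module `N` as the localization of the `A`-module `M` away from
`g`, along a ring hom `φ : A → B` exhibiting `B` as the localization of `A` away from `g`.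
(Instance-free packaging, convenient for sections of sheaves of modules.) -/
structure IsAwayData {A B M N : Type*} [CommRing A] [CommRing B] [AddCommGroup M] [Module A M]
    [AddCommGroup N] [Module B N] (g : A) (φ : A →+* B) (ρ : M →+ N) : Prop where
  ring : @IsLocalization.Away A _ g B _ φ.toAlgebra
  smul : ∀ (a : A) (m : M), ρ (a • m) = φ a • ρ m
  surj : ∀ t : N, ∃ (n : ℕ) (s : M), φ g ^ n • t = ρ s
  inj : ∀ s : M, ρ s = 0 → ∃ n : ℕ, g ^ n • s = 0

theorem IsAwayData.nonempty_equiv {A B M N : Type*} [CommRing A] [CommRing B] [AddCommGroup M]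
    [Module A M] [AddCommGroup N] [Module B N] {g : A} {φ : A →+* B} {ρ : M →+ N}
    (h : IsAwayData g φ ρ) :
    letI := φ.toAlgebra
    Nonempty (B ⊗[A] M ≃ₗ[B] N) := by
  letI := φ.toAlgebra
  letI : Module A N := Module.compHom N φ
  have : IsScalarTower A B N := IsScalarTower.of_algebraMap_smul fun r x => rfl
  have := h.ring
  let ρ' : M →ₗ[A] N :=
    { toFun := ρ, map_add' := ρ.map_add, map_smul' := fun a m => h.smul a m }
  have hunit : IsUnit (φ g) := IsLocalization.Away.algebraMap_isUnit (S := B) g
  have : IsLocalizedModule (Submonoid.powers g) ρ' := by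
    refine ⟨?_, ?_, ?_⟩
    · rintro ⟨_, n, rfl⟩
      rw [Module.End.isUnit_iff]
      have hu : IsUnit (φ (g ^ n)) := by rw [map_pow]; exact hunit.pow n
      constructor
      · intro x y hxy
        exact (hu.smul_left_cancel).mp hxy
      · intro y
        obtain ⟨u, hu'⟩ := hu
        refine ⟨(↑u⁻¹ : B) • y, ?_⟩
        change φ (g ^ n) • ((↑u⁻¹ : B) • y) = y
        rw [← hu', smul_smul, Units.mul_inv, one_smul]
    · intro y
      obtain ⟨n, s, hs⟩ := h.surj y
      refine ⟨(s, ⟨g ^ n, n, rfl⟩), ?_⟩
      change φ (g ^ n) • y = ρ s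
      rw [map_pow, hs]
    · intro x₁ x₂ hx
      have : ρ (x₁ - x₂) = 0 := by
        rw [map_sub, sub_eq_zero]; exact hx
      obtain ⟨n, hn⟩ := h.inj _ this
      refine ⟨⟨g ^ n, n, rfl⟩, ?_⟩
      change g ^ n • x₁ = g ^ n • x₂
      rwa [smul_sub, sub_eq_zero] at hn
  exact ⟨(IsLocalizedModule.isBaseChange (Submonoid.powers g) B ρ').equiv⟩

/-- Localization of a projective module is projective (instance-free form). -/
theorem IsAwayData.projective {A B M N : Type*} [CommRing A] [CommRing B] [AddCommGroup M]
    [Module A M] [AddCommGroup N] [Module B N] {g : A} {φ : A →+* B} {ρ : M →+ N}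
    (h : IsAwayData g φ ρ) [Module.Projective A M] : Module.Projective B N := by
  letI := φ.toAlgebra
  obtain ⟨e⟩ := h.nonempty_equiv
  exact Module.Projective.of_equiv' e

/-- **Projectivity is Zariski local** (instance-free form). -/
theorem projective_of_isAwayData {A : Type u} [CommRing A] {M : Type u} [AddCommGroup M]
    [Module A M] {ι : Type u} [Finite ι] (g : ι → A) (hg : Ideal.span (Set.range g) = ⊤)
    (B N : ι → Type u) [∀ i, CommRing (B i)] [∀ i, AddCommGroup (N i)] [∀ i, Module (B i) (N i)]
    (φ : ∀ i, A →+* B i) (ρ : ∀ i, M →+ N i) (h : ∀ i, IsAwayData (g i) (φ i) (ρ i))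
    (hp : ∀ i, Module.Projective (B i) (N i)) : Module.Projective A M := by
  letI : ∀ i, Algebra A (B i) := fun i => (φ i).toAlgebra
  have : ∀ i, IsLocalization.Away (g i) (B i) := fun i => (h i).ring
  refine projective_of_localization_span M g hg B fun i => ?_
  obtain ⟨e⟩ := (h i).nonempty_equiv
  have := hp i
  exact Module.Projective.of_equiv' e.symm

end Groth.Agent.Lib.ZariskiProjective
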