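import Groth.Agent.Lib.GenericCH23
import Mathlib.RingTheory.IntegralClosure.IsIntegralClosure.Basic
import Mathlib.RingTheory.Flat.Basic
import Mathlib.RingTheory.Spectrum.Prime.Basic
import Mathlib.Algebra.Polynomial.Roots

/-!
# Zero-cycles over a field: the support has at most `d` points (helper23)
-/

set_option autoImplicit false
universe u
open scoped TensorProduct

namespace Groth.Agent.Lib.ZeroCycField23

open Groth.Agent.Lib.KerBC23 Groth.Agent.Lib.KerBCPoly23 Groth.Agent.Lib.GenericCH23
  Groth.Agent.Lib.CayleyHam23 Groth.Agent.Lib.BCLaw23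

variable {K : Type u} [Field K] {B : Type u} [CommRing B] [Algebra K B] {d : ℕ}

/-- The quotient by an ideal containing the kernel is integral over the base. -/
theorem isIntegral_quotient {A : Type u} [CommRing A] {B : Type u} [CommRing B] [Algebra A B]
    (G : PolLaw.MulLaw A B A d) (Q : Ideal B) (hQ : PolLaw.ker G.law ≤ Q) :
    Algebra.IsIntegral A (B ⧸ Q) := by
  refine ⟨fun x => ?_⟩
  obtain ⟨b, rfl⟩ := Ideal.Quotient.mk_surjective x
  obtain ⟨q, hq1, hq2⟩ := exists_monic G b
  refine ⟨q, hq1, ?_⟩
  rw [← Polynomial.aeval_def]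
  have : Polynomial.aeval (Ideal.Quotient.mkₐ A Q b) q = Ideal.Quotient.mkₐ A Q (Polynomial.aeval b q) :=
    Polynomial.aeval_algHom_apply _ _ _
  rw [Ideal.Quotient.mkₐ_eq_mk] at this
  rw [this, Ideal.Quotient.eq_zero_iff_mem]
  exact hQ hq2

/-- Over a field, a prime containing the kernel is maximal. -/
theorem isMaximal_of_ker_le (G : PolLaw.MulLaw K B K d) (Q : Ideal B) [Q.IsPrime]
    (hQ : PolLaw.ker G.law ≤ Q) : Q.IsMaximal := by
  have := isIntegral_quotient G Q hQ
  exact Ideal.Quotient.maximal_of_isField Q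
    (isField_of_isIntegral_of_isField' (R := K) (S := B ⧸ Q) (Field.toIsField K))

/-- There are no `d + 1` distinct primes containing the kernel. -/
theorem not_exists_succ (G : PolLaw.MulLaw K B K d) (Q : Fin (d + 1) → PrimeSpectrum B)
    (hinj : Function.Injective Q) (hQ : ∀ i, PolLaw.ker G.law ≤ (Q i).asIdeal) : False := by
  classical
  set I : Fin (d + 1) → Ideal B := fun i => (Q i).asIdeal with hI
  have hmax : ∀ i, (I i).IsMaximal := fun i => isMaximal_of_ker_le G (I i) (hQ i)
  have hcop : Pairwise (Function.onFun IsCoprime I) := by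
    intro i j hne
    exact Ideal.isCoprime_iff_sup_eq.2 ((hmax i).coprime_of_ne (hmax j)
      (fun h => hne (hinj (PrimeSpectrum.ext h))))
  have hex : ∀ j : Fin (d + 1), ∃ r : B, ∀ i, r - (if i = j then (1 : B) else 0) ∈ I i :=
    fun j => Ideal.exists_forall_sub_mem_ideal hcop _
  choose r hr using hex
  set P := MvPolynomial (Fin (d + 1)) K with hP
  set z : P ⊗[K] B := ∑ j, (MvPolynomial.X j : P) ⊗ₜ[K] r j with hz
  obtain ⟨q, hmonic, hdeg, hq⟩ := exists_monic_le (bcMul G P) z
  rw [ker_bcMul] at hq
  have hq' := kerBC_mvPolynomial_le G (d + 1) hq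
  -- evaluate at each point
  have hroot : ∀ i, q.eval (MvPolynomial.X i : P) = 0 := by
    intro i
    set μ : P ⊗[K] B →ₐ[P] P ⊗[K] (B ⧸ I i) :=
      Algebra.TensorProduct.map (AlgHom.id P P) (Ideal.Quotient.mkₐ K (I i)) with hμ
    have h1 : (PolLaw.ker G.law).map (Algebra.TensorProduct.includeRight : B →ₐ[K] P ⊗[K] B) ≤
        RingHom.ker (μ : P ⊗[K] B →+* P ⊗[K] (B ⧸ I i)) := by
      rw [Ideal.map_le_iff_le_comap]
      intro b hb
      rw [Ideal.mem_comap, RingHom.mem_ker]
      show μ ((1 : P) ⊗ₜ[K] b) = 0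
      rw [hμ, Algebra.TensorProduct.map_tmul, Ideal.Quotient.mkₐ_eq_mk,
        Ideal.Quotient.eq_zero_iff_mem.2 (hQ i hb), TensorProduct.tmul_zero]
    have h2 : μ (Polynomial.aeval z q) = 0 := h1 hq'
    have h3 : μ z = algebraMap P (P ⊗[K] (B ⧸ I i)) (MvPolynomial.X i) := by
      rw [hz, map_sum, Finset.sum_eq_single i]
      · rw [hμ, Algebra.TensorProduct.map_tmul, AlgHom.id_apply, Ideal.Quotient.mkₐ_eq_mk,
          Algebra.TensorProduct.algebraMap_apply, Algebra.algebraMap_self_apply]
        have := hr i i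
        rw [if_pos rfl, ← Ideal.Quotient.eq] at this
        rw [this, map_one]
      · intro j _ hji
        rw [hμ, Algebra.TensorProduct.map_tmul, Ideal.Quotient.mkₐ_eq_mk]
        have := hr j i
        rw [if_neg (Ne.symm hji), sub_zero] at this
        rw [Ideal.Quotient.eq_zero_iff_mem.2 this, TensorProduct.tmul_zero]
      · intro h; exact absurd (Finset.mem_univ i) h
    rw [← Polynomial.aeval_algHom_apply, h3, Polynomial.aeval_algebraMap_apply] at h2
    have hnt : Nontrivial (B ⧸ I i) := Ideal.Quotient.nontrivial_iff.2 (hmax i).ne_top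
    have hinj2 : Function.Injective (algebraMap P (P ⊗[K] (B ⧸ I i))) := by
      have := Algebra.TensorProduct.includeLeft_injective (S := P) (R := K) (A := P) (B := B ⧸ I i)
        (algebraMap K (B ⧸ I i)).injective
      exact this
    have h4 := hinj2 (h2.trans (map_zero _).symm)
    rwa [Polynomial.coe_aeval_eq_eval] at h4
  have hq0 : q = 0 := by
    apply Polynomial.eq_zero_of_natDegree_lt_card_of_eval_eq_zero q
      (f := fun i : Fin (d + 1) => (MvPolynomial.X i : P))
    · intro i j hij
      exact MvPolynomial.X_injective hij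
    · exact hroot
    · rw [Fintype.card_fin]
      omega
  exact hmonic.ne_zero hq0

/-- Every finite set of primes containing the kernel has at most `d` elements. -/
theorem card_le (G : PolLaw.MulLaw K B K d) (s : Finset (PrimeSpectrum B))
    (hs : ∀ Q ∈ s, PolLaw.ker G.law ≤ Q.asIdeal) : s.card ≤ d := by
  by_contra hlt
  push Not at hlt
  obtain ⟨t, hts, htc⟩ := Finset.exists_subset_card_eq (show d + 1 ≤ s.card by omega)
  set e := (t.equivFinOfCardEq htc).symm with he
  exact not_exists_succ G (fun i => (e i).1) (fun i j hij => e.injective (Subtype.ext hij))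
    (fun i => hs _ (hts (e i).2))

/-- A type all of whose finite subsets have at most `d` elements is finite of cardinality at most `d`. -/
theorem finite_of_forall_card_le {α : Type*} (d : ℕ) (h : ∀ s : Finset α, s.card ≤ d) :
    Finite α ∧ Nat.card α ≤ d := by
  have hfin : Finite α := by
    by_contra hinf
    rw [not_finite_iff_infinite] at hinf
    obtain ⟨s, hs⟩ := Infinite.exists_subset_card_eq α (d + 1)
    have := h s
    omega
  refine ⟨hfin, ?_⟩
  have := Fintype.ofFinite α
  rw [Nat.card_eq_fintype_card, ← Finset.card_univ]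
  exact h _

end Groth.Agent.Lib.ZeroCycField23
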